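import Mathlib
import Cfsg.Prelude
import Cfsg.Agent.Lib.Helper1.Rh5

set_option autoImplicit false
set_option maxHeartbeats 4000000
set_option linter.unusedVariables false
set_option linter.unusedSectionVars false
set_option linter.style.longLine false
set_option linter.unusedSimpArgs false
set_option linter.deprecated false

/-! Generation of `SU_n(q)`, `n ≥ 5` odd, by three conjugate regular unipotent elements, part 6:
the conjugacy statements, the choice of parameters and the main theorem for `n ≥ 5`. -/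

namespace Cfsg.Agent.Lib.Helper1.Rh

open Matrix Cfsg Cfsg.Agent.Lib.Helper5.Herm Cfsg.Agent.Lib.Helper5.HermTv
  Cfsg.Agent.Lib.Helper5.HermEich Cfsg.Agent.Lib.Helper5.HermSU

variable {F : Type*} [Field F] [Fintype F] {q n m : ℕ}

theorem conj_mul_conj {G : Type*} [Group G] (g a b : G) :
    g * (a * b) * g⁻¹ = (g * a * g⁻¹) * (g * b * g⁻¹) := by group

theorem conj_conj {G : Type*} [Group G] (g h a : G) :
    (g * h) * a * (g * h)⁻¹ = g * (h * a * h⁻¹) * g⁻¹ := by group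

namespace Setup

variable (S : Setup F q n m)

/-! ### the conjugate `v` -/

theorem vS_e_zero (hm : 2 ≤ m) {κ : F} (hκ : κ + κ ^ q = 0) :
    act (S.vS κ) (S.e 0) = S.e 0 + κ • S.f 1 := by
  have hκq : κ ^ q = -κ := by linear_combination hκ
  rw [vS, act_mul, act_mul, S.act_p_inv hκ, S.form_ef_self S.hm0, mul_one, act_add, act_smul,
    S.uS_e_zero, S.uS_f (k := 0) (by omega), S.act_p hκ]
  simp only [hermForm_add_left, hermForm_smul_left, form_sub_left, S.form_ef_self S.hm0, S.form_ff,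
    hκq]
  module

theorem vS_w_add (hm : 2 ≤ m) {κ : F} (hκ : κ + κ ^ q = 0) :
    act (S.vS κ) (S.w + S.e S.l) = S.w := by
  have hl := S.hl
  have h1 : act S.uS (S.w + S.e S.l) = S.w := by
    have := S.uS_inv_w
    rw [act_inv_eq_iff] at this
    exact this.symm
  rw [vS, act_mul, act_mul, S.act_p_inv hκ, hermForm_add_left, S.form_wf,
    S.form_ef_ne (i := S.l) (j := 0) (by omega)]
  simp only [add_zero, mul_zero, zero_smul]
  rw [h1, S.act_p hκ, S.form_wf, mul_zero, zero_smul, add_zero]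

/-! ### the elements `z` and `y` -/

theorem ehyp_z {c₀ γ : F} (hγ : γ + γ ^ q + c₀ * c₀ ^ q = 0) :
    EHyp n q (S.e 0) ((-c₀) • (S.w + S.e S.l)) γ := by
  refine ⟨S.form_ee 0 0, ?_, ?_⟩
  · rw [hermForm_smul_left, hermForm_add_left, S.form_we, S.form_ee, add_zero, mul_zero]
  · rw [hermForm_smul_left, hermForm_smul_right, pow_q_neg S.hF]
    simp only [hermForm_add_left, hermForm_add_right S.hF, S.form_ww, S.form_we, S.form_ew,
      S.form_ee]
    linear_combination hγ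

theorem y_eq (hm : 2 ≤ m) {κ : F} (hκ : κ + κ ^ q = 0) (c₀ γ : F) :
    S.vS κ * rhoS S.hF (S.e 0) ((-c₀) • (S.w + S.e S.l)) γ * (S.vS κ)⁻¹
      = rhoS S.hF (S.e 0 + κ • S.f 1) ((-c₀) • S.w) γ := by
  rw [conj_rhoS, act_smul, S.vS_w_add hm hκ, S.vS_e_zero hm hκ]

theorem ehyp_y (hm : 2 ≤ m) {κ : F} (hκ : κ + κ ^ q = 0) {c₀ γ : F}
    (hγ : γ + γ ^ q + c₀ * c₀ ^ q = 0) :
    EHyp n q (S.e 0 + κ • S.f 1) ((-c₀) • S.w) γ := by
  have := ehyp_act (S.vS κ) (S.ehyp_z hγ)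
  rwa [act_smul, S.vS_w_add hm hκ, S.vS_e_zero hm hκ] at this

theorem y_e_zero (hm : 2 ≤ m) {κ : F} (hκ : κ + κ ^ q = 0) {c₀ γ : F}
    (hγ : γ + γ ^ q + c₀ * c₀ ^ q = 0) :
    act (rhoS S.hF (S.e 0 + κ • S.f 1) ((-c₀) • S.w) γ) (S.e 0) = S.e 0 := by
  rw [act_rhoS S.hF (S.ehyp_y hm hκ hγ)]
  simp only [hermForm_add_right S.hF, hermForm_smul_right, S.form_ee, S.form_ew,
    S.form_ef_ne (i := 0) (j := 1) (by omega)]
  module

theorem y_e_one (hm : 2 ≤ m) {κ : F} (hκ : κ + κ ^ q = 0) {c₀ γ : F}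
    (hγ : γ + γ ^ q + c₀ * c₀ ^ q = 0) :
    act (rhoS S.hF (S.e 0 + κ • S.f 1) ((-c₀) • S.w) γ) (S.e 1)
      = S.e 1 + (-(κ ^ q * c₀)) • S.w + (γ * κ ^ q * κ) • S.f 1 + (γ * κ ^ q) • S.e 0 := by
  rw [act_rhoS S.hF (S.ehyp_y hm hκ hγ)]
  simp only [hermForm_add_right S.hF, hermForm_smul_right, S.form_ee, S.form_ew,
    S.form_ef_self (i := 1) (by omega)]
  module

/-! ### conjugating `uS` by radical elements -/

theorem rho_conj_uS {b : Fin n → F} {c : F} (hE : EHyp n q (S.e 0) b c) :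
    rhoS S.hF (S.e 0) b c * S.uS * (rhoS S.hF (S.e 0) b c)⁻¹
      = S.uS * rhoS S.hF (S.e 0) (act S.uS⁻¹ b - b)
          (c + c ^ q + hermForm n F q b (act S.uS⁻¹ b)) := by
  have h1 : rhoS S.hF (S.e 0) b c * S.uS * (rhoS S.hF (S.e 0) b c)⁻¹
      = S.uS * ((S.uS⁻¹ * rhoS S.hF (S.e 0) b c * S.uS) * (rhoS S.hF (S.e 0) b c)⁻¹) := by group
  have hE1 : EHyp n q (S.e 0) (act S.uS⁻¹ b) c := by
    have := ehyp_act S.uS⁻¹ hE
    rwa [S.uS_inv_e_zero] at this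
  have hE2 : EHyp n q (S.e 0) (-b) (c ^ q) := hE.inv S.hF n
  rw [h1, conj_inv_rhoS, S.uS_inv_e_zero, rhoS_inv, rhoS_mul S.hF hE1 hE2]
  congr 1
  apply rhoS_congr S.hF rfl
  · abel
  · rw [form_neg_left]; ring

theorem tv_conj_uS (hm : 2 ≤ m) {t : F} (ht : t + t ^ q = 0) :
    rhoS S.hF (S.e 1) 0 t * S.uS * (rhoS S.hF (S.e 1) 0 t)⁻¹
      = S.uS * rhoS S.hF (S.e 0) (-(t • S.e 1)) t := by
  have h1 : rhoS S.hF (S.e 1) 0 t * S.uS * (rhoS S.hF (S.e 1) 0 t)⁻¹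
      = S.uS * (rhoS S.hF (S.e 1) 0 t * ((rhoS S.hF (S.e 1) 0 t)⁻¹
        * (S.uS⁻¹ * rhoS S.hF (S.e 1) 0 t * S.uS)) * (rhoS S.hF (S.e 1) 0 t)⁻¹) := by group
  have hEt : EHyp n q (S.e 1) 0 t := ehyp_zero (S.form_ee 1 1) ht
  have h2 : S.uS⁻¹ * rhoS S.hF (S.e 1) 0 t * S.uS
      = rhoS S.hF (S.e 1) 0 t * rhoS S.hF (S.e 0) (-(t • S.e 1)) t := by
    rw [conj_inv_rhoS, act_zero, S.uS_inv_e_succ (k := 0) (by omega)]
    exact tv_sub_eq S.hF (S.form_ee 0 0) (S.form_ee 1 1) (S.form_ee 0 1) ht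
  have h3 : act (rhoS S.hF (S.e 1) 0 t) (S.e 0) = S.e 0 := by
    rw [act_rhoS S.hF hEt, S.form_ee, hermForm_zero_right S.hF]; module
  have h4 : act (rhoS S.hF (S.e 1) 0 t) (S.e 1) = S.e 1 := by
    rw [act_rhoS S.hF hEt, S.form_ee, hermForm_zero_right S.hF]; module
  rw [h1, h2, inv_mul_cancel_left, conj_rhoS, h3, act_neg, act_smul, h4]

/-- the conjugacy of `uS` and `uS * z` -/
theorem conj_z (hm : 2 ≤ m) {c₀ γ : F} (hγ : γ + γ ^ q + c₀ * c₀ ^ q = 0) :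
    ∃ g : ↥(Cfsg.SU n F q),
      g * S.uS * g⁻¹ = S.uS * rhoS S.hF (S.e 0) ((-c₀) • (S.w + S.e S.l)) γ := by
  have hl := S.hl
  have hF := S.hF
  have hcu := S.hcu
  -- the first conjugation
  set b₁ : Fin n → F := c₀ • S.f S.l - (c₀ * (1 + S.cu ^ q)) • S.w with hb₁
  have hb₁e : hermForm n F q b₁ (S.e 0) = 0 := by
    rw [hb₁, form_sub_left, hermForm_smul_left, hermForm_smul_left,
      S.form_fe_ne (i := S.l) (j := 0) (by omega), S.form_we]
    ring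
  have hb₁w : hermForm n F q b₁ S.w = -(c₀ * (1 + S.cu ^ q)) := by
    rw [hb₁, form_sub_left, hermForm_smul_left, hermForm_smul_left, S.form_fw, S.form_ww]
    ring
  have hb₁l : hermForm n F q b₁ (S.e S.l) = c₀ := by
    rw [hb₁, form_sub_left, hermForm_smul_left, hermForm_smul_left, S.form_fe_self S.lm,
      S.form_we]
    ring
  obtain ⟨c₁, hc₁⟩ := exists_trace_eq hF (-(hermForm n F q b₁ b₁)) (by
    rw [pow_q_neg hF, herm_self_fixed hF])
  have hE1 : EHyp n q (S.e 0) b₁ c₁ := ⟨S.form_ee 0 0, hb₁e, by linear_combination hc₁⟩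
  have key1 : act S.uS⁻¹ b₁ - b₁ = (-c₀) • (S.w + S.e S.l) := by
    rw [hb₁, act_sub, act_smul, act_smul, S.uS_inv_f_last, S.uS_inv_w]
    module
  have key1' : act S.uS⁻¹ b₁ = b₁ + (-c₀) • (S.w + S.e S.l) := by
    rw [← key1]; abel
  have key2 : c₁ + c₁ ^ q + hermForm n F q b₁ (act S.uS⁻¹ b₁) = c₀ * c₀ ^ q * S.cu ^ q := by
    rw [key1', hermForm_add_right hF, hermForm_smul_right, hermForm_add_right hF, hb₁w, hb₁l,
      pow_q_neg hF]
    linear_combination hc₁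
  have R1 := S.rho_conj_uS hE1
  rw [key1, key2] at R1
  -- the correction of the central parameter
  set t : F := γ - c₀ * c₀ ^ q * S.cu ^ q with ht
  have htt : t + t ^ q = 0 := by
    rw [ht, pow_q_sub hF, mul_pow, mul_pow, pow_q_pow_q hF, pow_q_pow_q hF]
    linear_combination hγ - c₀ * c₀ ^ q * hcu
  have htq : t ^ q = -t := by linear_combination htt
  obtain ⟨b₂, c₂, hE2, hQ, hb₂e⟩ : ∃ (b₂ : Fin n → F) (c₂ : F), EHyp n q (S.e 0) b₂ c₂ ∧
      act S.uS⁻¹ b₂ - b₂ = t • S.e 1 ∧ hermForm n F q b₂ (S.e 1) = 0 := by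
    rcases Nat.lt_or_ge 2 m with h3 | h3
    · refine ⟨-(t • S.e 2), 0, ⟨S.form_ee 0 0, ?_, ?_⟩, ?_, ?_⟩
      · rw [form_neg_left, hermForm_smul_left, S.form_ee]; ring
      · rw [form_neg_left, form_neg_right hF, hermForm_smul_left, hermForm_smul_right, S.form_ee,
          S.zero_pow_q]
        ring
      · rw [act_neg, act_smul, S.uS_inv_e_succ (k := 1) (by omega)]
        module
      · rw [form_neg_left, hermForm_smul_left, S.form_ee]; ring
    · have hm2 : m = 2 := by omega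
      have hl1 : S.l = 1 := by omega
      obtain ⟨c₂, hc₂⟩ := exists_trace_eq hF (-(t * t ^ q)) (by
        rw [pow_q_neg hF, mul_pow, pow_q_pow_q hF]; ring)
      refine ⟨t • S.w, c₂, ⟨S.form_ee 0 0, ?_, ?_⟩, ?_, ?_⟩
      · rw [hermForm_smul_left, S.form_we]; ring
      · rw [hermForm_smul_left, hermForm_smul_right, S.form_ww]
        linear_combination hc₂
      · rw [act_smul, S.uS_inv_w, hl1]
        module
      · rw [hermForm_smul_left, S.form_we]; ring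
  have R2 := S.rho_conj_uS hE2
  have key3 : act S.uS⁻¹ b₂ = b₂ + t • S.e 1 := by rw [← hQ]; abel
  have key4 : c₂ + c₂ ^ q + hermForm n F q b₂ (act S.uS⁻¹ b₂) = 0 := by
    rw [key3, hermForm_add_right hF, hermForm_smul_right, hb₂e]
    linear_combination hE2.hb
  rw [hQ, key4] at R2
  have R3 := S.tv_conj_uS hm htt
  -- assembling
  have hEt : EHyp n q (S.e 1) 0 t := ehyp_zero (S.form_ee 1 1) htt
  have h3 : act (rhoS hF (S.e 1) 0 t) (S.e 0) = S.e 0 := by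
    rw [act_rhoS hF hEt, S.form_ee, hermForm_zero_right hF]; module
  have h4 : act (rhoS hF (S.e 1) 0 t) (S.e 1) = S.e 1 := by
    rw [act_rhoS hF hEt, S.form_ee, hermForm_zero_right hF]; module
  have hEa : EHyp n q (S.e 0) (-(t • S.e 1)) t := ⟨S.form_ee 0 0, by
    rw [form_neg_left, hermForm_smul_left, S.form_ee]; ring, by
    rw [form_neg_left, form_neg_right hF, hermForm_smul_left, hermForm_smul_right, S.form_ee]
    linear_combination htt⟩
  have hEb : EHyp n q (S.e 0) (t • S.e 1) 0 := ⟨S.form_ee 0 0, by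
    rw [hermForm_smul_left, S.form_ee]; ring, by
    rw [hermForm_smul_left, hermForm_smul_right, S.form_ee, S.zero_pow_q]; ring⟩
  have R4 : (rhoS hF (S.e 1) 0 t * rhoS hF (S.e 0) b₂ c₂) * S.uS
      * (rhoS hF (S.e 1) 0 t * rhoS hF (S.e 0) b₂ c₂)⁻¹ = S.uS * rhoS hF (S.e 0) 0 t := by
    rw [conj_conj, R2, conj_mul_conj, R3, conj_rhoS, h3, act_smul, h4, mul_assoc,
      rhoS_mul hF hEa hEb]
    congr 1
    apply rhoS_congr hF rfl
    · abel
    · rw [form_neg_right hF, hermForm_smul_left, hermForm_smul_right, S.form_ee]; ring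
  have h5 : act (rhoS hF (S.e 0) b₁ c₁) (S.e 0) = S.e 0 := by
    rw [act_rhoS hF hE1, S.form_ee, form_symm_zero hF hb₁e]; module
  have hEz : EHyp n q (S.e 0) ((-c₀) • (S.w + S.e S.l)) (c₀ * c₀ ^ q * S.cu ^ q) := by
    have h0 := S.ehyp_z hγ
    refine ⟨h0.hx, h0.hwx, ?_⟩
    have h1 := h0.hb
    rw [mul_pow, mul_pow, pow_q_pow_q hF, pow_q_pow_q hF]
    linear_combination h1 - hγ + c₀ * c₀ ^ q * hcu
  refine ⟨rhoS hF (S.e 0) b₁ c₁ * (rhoS hF (S.e 1) 0 t * rhoS hF (S.e 0) b₂ c₂), ?_⟩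
  rw [conj_conj, R4, conj_mul_conj, R1, conj_rhoS, h5, act_zero, mul_assoc,
    rhoS_mul_tv hF hEz htt]
  congr 2
  rw [ht]; ring

end Setup

/-! ### the parameters -/

theorem exists_gen (F : Type*) [Field F] [Fintype F] :
    ∃ g₀ : F, g₀ ≠ 0 ∧ ∀ t : F, t ≠ 0 → ∃ k : ℕ, g₀ ^ k = t := by
  classical
  obtain ⟨γ, hγ⟩ := IsCyclic.exists_monoid_generator (α := Fˣ)
  refine ⟨(γ : F), γ.ne_zero, ?_⟩
  intro x hx
  obtain ⟨k, hk⟩ := hγ (Units.mk0 x hx)
  refine ⟨k, ?_⟩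
  have := congrArg (fun y : Fˣ => (y : F)) hk
  simpa using this

/-- an element which is neither fixed nor negated by the involution -/
theorem exists_not_real (hF : Fintype.card F = q ^ 2) : ∃ x : F, x ^ q ≠ x ∧ x ^ q ≠ -x := by
  by_cases h2 : (2 : F) = 0
  · have hneg : ∀ x : F, -x = x := by
      intro x
      have : x + x = 0 := by linear_combination x * h2
      linear_combination -this
    obtain ⟨x, hx⟩ : ∃ x : F, x ^ q ≠ x := by
      by_contra hcon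
      push_neg at hcon
      apply Cfsg.Agent.Lib.Helper5.HermBridge.sigma_ne_id hF
      ext a
      exact hcon a
    exact ⟨x, hx, by rw [hneg]; exact hx⟩
  · obtain ⟨ε, hε0, hε⟩ := exists_trace_zero hF
    refine ⟨1 + ε, ?_, ?_⟩
    · rw [pow_q_add hF, one_pow, hε]
      intro h
      have : 2 * ε = 0 := by linear_combination -h
      rcases mul_eq_zero.mp this with h' | h'
      · exact h2 h'
      · exact hε0 h'
    · rw [pow_q_add hF, one_pow, hε]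
      intro h
      apply h2
      linear_combination h

/-- a generator of the multiplicative group of nonzero trace -/
theorem exists_gen_tr (hF : Fintype.card F = q ^ 2) :
    ∃ g₀ : F, g₀ ≠ 0 ∧ (∀ t : F, t ≠ 0 → ∃ k : ℕ, g₀ ^ k = t) ∧ g₀ + g₀ ^ q ≠ 0 := by
  obtain ⟨g₀, hg0, hg⟩ := exists_gen F
  refine ⟨g₀, hg0, hg, ?_⟩
  intro h
  have hgq : g₀ ^ q = -g₀ := by linear_combination h
  obtain ⟨x, hx1, hx2⟩ := exists_not_real hF
  have hx0 : x ≠ 0 := by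
    rintro rfl
    exact hx1 (zero_pow (q_ne_zero hF))
  obtain ⟨k, hk⟩ := hg x hx0
  have : x ^ q = (-1) ^ k * x := by
    rw [← hk, ← pow_mul, mul_comm, pow_mul, hgq, neg_pow]
  rcases Nat.even_or_odd k with he | ho
  · rw [he.neg_one_pow, one_mul] at this
    exact hx1 this
  · rw [ho.neg_one_pow, neg_one_mul] at this
    exact hx2 this

/-! ### the main theorem for `n ≥ 5` -/

theorem main_ge5 (hF : Fintype.card F = q ^ 2) (hn : 5 ≤ n) (hodd : Odd n) :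
    ∃ u g h : ↥(Cfsg.SU n F q),
      (IsNilpotent (u.1.1 - 1) ∧ (u.1.1 - 1) ^ (n - 1) ≠ 0) ∧
      Subgroup.closure ({u, g * u * g⁻¹, h * u * h⁻¹} : Set ↥(Cfsg.SU n F q)) = ⊤ := by
  obtain ⟨m, hnm⟩ := hodd
  have hm : 2 ≤ m := by omega
  obtain ⟨W⟩ := exists_witt (F := F) (q := q) (n := n) (m := m) hF hnm
  obtain ⟨cu, hcu⟩ := exists_trace_eq hF (-1 : F) (pow_q_neg_one hF)
  set S : Setup F q n m :=
    { toWitt := W, l := m - 1, hl := by omega, cu := cu, hcu := by linear_combination hcu }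
    with hS
  obtain ⟨g₀, hg0, hg, hgtr⟩ := exists_gen_tr hF
  obtain ⟨κ, hκ0, hκq⟩ := exists_trace_zero hF
  have hκ : κ + κ ^ q = 0 := by rw [hκq]; ring
  have hκκ : κ ^ q * κ ≠ 0 := mul_ne_zero (pow_ne_zero _ hκ0) hκ0
  set γ : F := g₀ / (κ ^ q * κ) with hγdef
  have hγq : γ ^ q = g₀ ^ q / (κ ^ q * κ) := by
    rw [hγdef, div_pow, mul_pow, pow_q_pow_q hF, mul_comm κ]
  have hγtr : γ + γ ^ q ≠ 0 := by
    rw [hγq, hγdef, ← add_div]
    exact div_ne_zero hgtr hκκ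
  have hfix : (-(γ + γ ^ q)) ^ q = -(γ + γ ^ q) := by
    rw [pow_q_neg hF, pow_q_add hF, pow_q_pow_q hF]; ring
  obtain ⟨c₀, hc₀⟩ := Cfsg.Agent.Lib.Helper5.HermCount.exists_norm_eq hF (-(γ + γ ^ q))
    (neg_ne_zero.mpr hγtr) hfix
  have hc₀0 : c₀ ≠ 0 := by
    rintro rfl
    rw [zero_pow (by omega)] at hc₀
    exact (neg_ne_zero.mpr hγtr) hc₀.symm
  have hγ : γ + γ ^ q + c₀ * c₀ ^ q = 0 := by
    rw [pow_succ] at hc₀
    linear_combination hc₀
  obtain ⟨g, hgconj⟩ := S.conj_z hm hγ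
  refine ⟨S.uS, g, rhoS S.hF (S.f 0) 0 κ, ⟨S.uS_nilpotent, S.uS_regular⟩, ?_⟩
  set H := Subgroup.closure ({S.uS, g * S.uS * g⁻¹,
    rhoS S.hF (S.f 0) 0 κ * S.uS * (rhoS S.hF (S.f 0) 0 κ)⁻¹} : Set ↥(Cfsg.SU n F q)) with hH
  have hu : S.uS ∈ H := Subgroup.subset_closure (by simp)
  have huz : g * S.uS * g⁻¹ ∈ H := Subgroup.subset_closure (by simp)
  have hv : S.vS κ ∈ H := Subgroup.subset_closure (by simp [Setup.vS])
  have hz : rhoS S.hF (S.e 0) ((-c₀) • (S.w + S.e S.l)) γ ∈ H := by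
    have h1 := H.mul_mem (H.inv_mem hu) huz
    rwa [hgconj, inv_mul_cancel_left] at h1
  have hy : rhoS S.hF (S.e 0 + κ • S.f 1) ((-c₀) • S.w) γ ∈ H := by
    rw [← S.y_eq hm hκ c₀ γ]
    exact H.mul_mem (H.mul_mem hv hz) (H.inv_mem hv)
  have hβeq : γ * κ ^ q * κ = g₀ := by
    rw [hγdef]; field_simp
  have C : CoreHyp S H (rhoS S.hF (S.e 0 + κ • S.f 1) ((-c₀) • S.w) γ)
      (-(κ ^ q * c₀)) (γ * κ ^ q * κ) (γ * κ ^ q) (-c₀) :=
    { hm := hm
      hu := hu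
      hy := hy
      hy0 := S.y_e_zero hm hκ hγ
      hy1 := S.y_e_one hm hκ hγ
      hz := ⟨γ, S.ehyp_z hγ, hz⟩
      hc₀ := neg_ne_zero.mpr hc₀0
      hβ0 := by rw [hβeq]; exact hg0
      hβ := by
        intro t ht
        obtain ⟨k, hk⟩ := hg t ht
        exact ⟨k, by rw [hβeq, hk]⟩ }
  have hrad : ∀ b, hermForm n F q b (S.e 0) = 0 →
      ∃ c, EHyp n q (S.e 0) b c ∧ rhoS S.hF (S.e 0) b c ∈ H := fun b hb => C.exists_rho hb
  have hC : ∀ t : F, t + t ^ q = 0 → rhoS S.hF (S.e 0) 0 t ∈ H := fun t ht =>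
    center_of_rad (S.form_ee 0 0) hrad (b₁ := S.f 1) (b₂ := S.e 1)
      (S.form_fe_ne (by omega)) (S.form_ee 1 0) (S.form_fe_self (by omega)) ht
  have hR := rad_all hrad hC
  exact S.top_of_rad (by omega) (by omega) hκ0 hκ hv hR

end Cfsg.Agent.Lib.Helper1.Rh
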