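import Mathlib
import Cfsg.Prelude
import Cfsg.Agent.Lib.Helper1.Rh6

set_option autoImplicit false
set_option maxHeartbeats 4000000
set_option linter.unusedVariables false
set_option linter.unusedSectionVars false
set_option linter.style.longLine false
set_option linter.unusedSimpArgs false
set_option linter.deprecated false

/-! Generation of `SU_3(q)` by three conjugate regular unipotent elements, part 1:
coordinates with respect to a Witt basis `e, w, f`, the root elements, a field generation lemma. -/

namespace Cfsg.Agent.Lib.Helper1.Rh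

open Matrix Cfsg Cfsg.Agent.Lib.Helper5.Herm Cfsg.Agent.Lib.Helper5.HermTv
  Cfsg.Agent.Lib.Helper5.HermEich Cfsg.Agent.Lib.Helper5.HermSU

variable {F : Type*} [Field F] [Fintype F] {q n : ℕ}

namespace Witt

variable (W : Witt F q n 1)

/-- the vector with coordinates `a, b, d` with respect to `e, w, f` -/
def vec (a b d : F) : Fin n → F := a • W.e 0 + b • W.w + d • W.f 0

theorem form_vec_e (a b d : F) : hermForm n F q (W.vec a b d) (W.e 0) = d := by
  unfold vec
  simp only [hermForm_add_left, hermForm_smul_left, W.form_ee, W.form_we,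
    W.form_fe_self (i := 0) (by omega)]
  ring

theorem form_vec_w (a b d : F) : hermForm n F q (W.vec a b d) W.w = b := by
  unfold vec
  simp only [hermForm_add_left, hermForm_smul_left, W.form_ew, W.form_ww, W.form_fw]
  ring

theorem form_vec_f (a b d : F) : hermForm n F q (W.vec a b d) (W.f 0) = a := by
  unfold vec
  simp only [hermForm_add_left, hermForm_smul_left, W.form_ff, W.form_wf,
    W.form_ef_self (i := 0) (by omega)]
  ring

theorem e_eq : W.e 0 = W.vec 1 0 0 := by unfold vec; module
theorem w_eq : W.w = W.vec 0 1 0 := by unfold vec; module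
theorem f_eq : W.f 0 = W.vec 0 0 1 := by unfold vec; module

theorem vec_add (a b d a' b' d' : F) :
    W.vec a b d + W.vec a' b' d' = W.vec (a + a') (b + b') (d + d') := by
  unfold vec; module

theorem smul_vec (s a b d : F) : s • W.vec a b d = W.vec (s * a) (s * b) (s * d) := by
  unfold vec; module

theorem exists_vec (x : Fin n → F) : ∃ a b d, x = W.vec a b d := by
  let S : Submodule F (Fin n → F) :=
    { carrier := {x | ∃ a b d, x = W.vec a b d}
      zero_mem' := ⟨0, 0, 0, by unfold vec; module⟩
      add_mem' := by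
        rintro _ _ ⟨a, b, d, rfl⟩ ⟨a', b', d', rfl⟩
        exact ⟨_, _, _, W.vec_add _ _ _ _ _ _⟩
      smul_mem' := by
        rintro s _ ⟨a, b, d, rfl⟩
        exact ⟨_, _, _, W.smul_vec _ _ _ _⟩ }
  have : x ∈ S := W.mem_of_all S
    (fun k hk => by
      obtain rfl : k = 0 := by omega
      exact ⟨1, 0, 0, W.e_eq⟩)
    ⟨0, 1, 0, W.w_eq⟩
    (fun k hk => by
      obtain rfl : k = 0 := by omega
      exact ⟨0, 0, 1, W.f_eq⟩) x
  exact this

/-- the upper root elements -/
noncomputable def up (a c : F) : ↥(Cfsg.SU n F q) := rhoS W.hF (W.e 0) (a • W.w) c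

/-- the lower root elements -/
noncomputable def um (b d : F) : ↥(Cfsg.SU n F q) := rhoS W.hF (W.f 0) (b • W.w) d

theorem ehyp_up {a c : F} (h : c + c ^ q + a * a ^ q = 0) : EHyp n q (W.e 0) (a • W.w) c :=
  ⟨W.form_ee 0 0, by rw [hermForm_smul_left, W.form_we, mul_zero], by
    rw [hermForm_smul_left, hermForm_smul_right, W.form_ww]; linear_combination h⟩

theorem ehyp_um {b d : F} (h : d + d ^ q + b * b ^ q = 0) : EHyp n q (W.f 0) (b • W.w) d :=
  ⟨W.form_ff 0 0, by rw [hermForm_smul_left, W.form_wf, mul_zero], by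
    rw [hermForm_smul_left, hermForm_smul_right, W.form_ww]; linear_combination h⟩

theorem act_up {a c : F} (h : c + c ^ q + a * a ^ q = 0) (x y z : F) :
    act (W.up a c) (W.vec x y z) = W.vec (x + c * z - a ^ q * y) (y + a * z) z := by
  rw [up, act_rhoS W.hF (W.ehyp_up h), hermForm_smul_right, W.form_vec_e, W.form_vec_w]
  unfold vec
  module

theorem act_um {b d : F} (h : d + d ^ q + b * b ^ q = 0) (x y z : F) :
    act (W.um b d) (W.vec x y z) = W.vec x (y + b * x) (z + d * x - b ^ q * y) := by
  rw [um, act_rhoS W.hF (W.ehyp_um h), hermForm_smul_right, W.form_vec_f, W.form_vec_w]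
  unfold vec
  module

theorem up_inv (a c : F) : (W.up a c)⁻¹ = W.up (-a) (c ^ q) := by
  rw [up, up, rhoS_inv, neg_smul]

theorem um_inv (b d : F) : (W.um b d)⁻¹ = W.um (-b) (d ^ q) := by
  rw [um, um, rhoS_inv, neg_smul]

theorem valid_inv (W : Witt F q n 1) {a c : F} (h : c + c ^ q + a * a ^ q = 0) :
    c ^ q + (c ^ q) ^ q + (-a) * (-a) ^ q = 0 := by
  rw [pow_q_pow_q W.hF, pow_q_neg W.hF]
  linear_combination h

theorem ext_act3 {g h : ↥(Cfsg.SU n F q)} (he : act g (W.e 0) = act h (W.e 0))
    (hw : act g W.w = act h W.w) (hf : act g (W.f 0) = act h (W.f 0)) : g = h :=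
  W.ext_act (fun k hk => by obtain rfl : k = 0 := by omega
                            exact he) hw
    (fun k hk => by obtain rfl : k = 0 := by omega
                    exact hf)

end Witt

/-! ### a field generation lemma -/

/-- an additive subgroup of `F` containing `1` and stable under multiplication by an element with
at least `q` distinct powers is everything -/
theorem field_gen (hF : Fintype.card F = q ^ 2) (X : AddSubgroup F) (h1 : (1 : F) ∈ X) {μ : F}
    (hμ0 : μ ≠ 0) (hμ : ∀ x ∈ X, μ * x ∈ X) (hord : q ≤ orderOf μ) : X = ⊤ := by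
  classical
  have hq1 : 1 ≤ q := Nat.one_le_iff_ne_zero.mpr (q_ne_zero hF)
  -- the multiplier ring
  set K : Set F := {a | ∀ x ∈ X, a * x ∈ X} with hK
  have hK0 : (0 : F) ∈ K := fun x _ => by rw [zero_mul]; exact X.zero_mem
  have hK1 : (1 : F) ∈ K := fun x hx => by rwa [one_mul]
  have hKadd : ∀ a b, a ∈ K → b ∈ K → a + b ∈ K := fun a b ha hb x hx => by
    rw [add_mul]; exact X.add_mem (ha x hx) (hb x hx)
  have hKneg : ∀ a, a ∈ K → -a ∈ K := fun a ha x hx => by
    rw [neg_mul]; exact X.neg_mem (ha x hx)
  have hKsub : ∀ a b, a ∈ K → b ∈ K → a - b ∈ K := fun a b ha hb => by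
    rw [sub_eq_add_neg]; exact hKadd _ _ ha (hKneg _ hb)
  have hKmul : ∀ a b, a ∈ K → b ∈ K → a * b ∈ K := fun a b ha hb x hx => by
    rw [mul_assoc]; exact ha _ (hb x hx)
  have hKpow : ∀ a, a ∈ K → ∀ k : ℕ, a ^ k ∈ K := by
    intro a ha k
    induction k with
    | zero => rw [pow_zero]; exact hK1
    | succ k ih => rw [pow_succ]; exact hKmul _ _ ih ha
  have hKinv : ∀ a, a ∈ K → a⁻¹ ∈ K := by
    intro a ha
    by_cases ha0 : a = 0
    · rw [ha0, _root_.inv_zero]; exact hK0
    · have h2 : a ^ (Fintype.card F - 1) = 1 := FiniteField.pow_card_sub_one_eq_one a ha0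
      have h3 : a⁻¹ = a ^ (Fintype.card F - 2) := by
        have hc : 2 ≤ Fintype.card F := by
          rw [hF]; nlinarith [two_le_q hF]
        have : a * a ^ (Fintype.card F - 2) = 1 := by
          rw [← pow_succ', show Fintype.card F - 2 + 1 = Fintype.card F - 1 by omega, h2]
        exact (eq_inv_of_mul_eq_one_right this).symm ▸ rfl
      rw [h3]; exact hKpow a ha _
  have hKμ : μ ∈ K := fun x hx => hμ x hx
  have hKX : ∀ a, a ∈ K → a ∈ X := fun a ha => by
    have := ha 1 h1; rwa [mul_one] at this
  -- `K` has more than `q` elements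
  set Kf : Finset F := Finset.univ.filter (fun a => a ∈ K) with hKf
  have hcard1 : q + 1 ≤ Kf.card := by
    have hinj : Set.InjOn (fun k : ℕ => μ ^ k) (Finset.range q : Set ℕ) := by
      intro a ha b hb hab
      have ha' : a < orderOf μ := lt_of_lt_of_le (Finset.mem_range.mp ha) hord
      have hb' : b < orderOf μ := lt_of_lt_of_le (Finset.mem_range.mp hb) hord
      exact pow_injOn_Iio_orderOf ha' hb' hab
    have h0 : (0 : F) ∉ (Finset.range q).image (fun k : ℕ => μ ^ k) := by
      intro h
      obtain ⟨k, _, hk⟩ := Finset.mem_image.mp h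
      exact pow_ne_zero k hμ0 hk
    have hsub : insert (0 : F) ((Finset.range q).image (fun k : ℕ => μ ^ k)) ⊆ Kf := by
      intro a ha
      rw [hKf, Finset.mem_filter]
      refine ⟨Finset.mem_univ _, ?_⟩
      rcases Finset.mem_insert.mp ha with rfl | ha
      · exact hK0
      · obtain ⟨k, _, rfl⟩ := Finset.mem_image.mp ha
        exact hKpow μ hKμ k
    calc q + 1 = (insert (0 : F) ((Finset.range q).image (fun k : ℕ => μ ^ k))).card := by
          rw [Finset.card_insert_of_notMem h0, Finset.card_image_of_injOn hinj, Finset.card_range]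
      _ ≤ Kf.card := Finset.card_le_card hsub
  -- if `K` is not everything, `K × K` embeds into `F`
  have hKall : ∀ a : F, a ∈ K := by
    by_contra hcon
    push_neg at hcon
    obtain ⟨x₀, hx₀⟩ := hcon
    have hinj : Set.InjOn (fun p : F × F => p.1 + p.2 * x₀) (Kf ×ˢ Kf : Finset (F × F)) := by
      rintro ⟨a, b⟩ hab ⟨a', b'⟩ hab' h
      simp only [Finset.coe_product, Set.mem_prod, Finset.mem_coe, hKf, Finset.mem_filter,
        Finset.mem_univ, true_and] at hab hab'
      simp only at h
      by_cases hbb : b = b'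
      · subst hbb
        have : a = a' := by linear_combination h
        rw [this]
      · exfalso
        apply hx₀
        have hne : b - b' ≠ 0 := sub_ne_zero.mpr hbb
        have hx : x₀ = (a' - a) * (b - b')⁻¹ := by
          field_simp
          linear_combination h
        rw [hx]
        exact hKmul _ _ (hKsub _ _ hab'.1 hab.1) (hKinv _ (hKsub _ _ hab.2 hab'.2))
    have h2 := Finset.card_le_card_of_injOn (fun p : F × F => p.1 + p.2 * x₀)
      (s := Kf ×ˢ Kf) (t := Finset.univ) (fun p _ => Finset.mem_univ _) hinj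
    rw [Finset.card_product, Finset.card_univ, hF] at h2
    nlinarith
  rw [eq_top_iff]
  intro a _
  exact hKX a (hKall a)

end Cfsg.Agent.Lib.Helper1.Rh
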