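import Mathlib
import Cfsg.Prelude
import Cfsg.Agent.Lib.Helper1.Rh7

set_option autoImplicit false
set_option maxHeartbeats 4000000
set_option linter.unusedVariables false
set_option linter.unusedSectionVars false
set_option linter.style.longLine false
set_option linter.unusedSimpArgs false
set_option linter.deprecated false

/-! Generation of `SU_3(q)` by three conjugate regular unipotent elements, part 2:
a product of three conjugate regular unipotent elements lying in the Borel subgroup, and the
conjugacy of the upper and lower regular unipotent elements. -/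

namespace Cfsg.Agent.Lib.Helper1.Rh

open Matrix Cfsg Cfsg.Agent.Lib.Helper5.Herm Cfsg.Agent.Lib.Helper5.HermTv
  Cfsg.Agent.Lib.Helper5.HermEich Cfsg.Agent.Lib.Helper5.HermSU

variable {F : Type*} [Field F] [Fintype F] {q n : ℕ}

/-- the entry `g₃₃` -/
def Gf (q : ℕ) (c y D : F) : F := 1 + D * c - y ^ q
/-- the conjugate of `g₃₃` -/
def Gcf (q : ℕ) (c y D : F) : F := 1 + D ^ q * c ^ q - y
/-- the parameter `ξ` -/
noncomputable def xif (q : ℕ) (c y D : F) : F := (D ^ q + y) / Gcf q c y D
/-- the parameter `d_ξ` -/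
noncomputable def dxif (q : ℕ) (c y D : F) : F := D / Gf q c y D

theorem Gf_pow (hF : Fintype.card F = q ^ 2) (c y D : F) : (Gf q c y D) ^ q = Gcf q c y D := by
  unfold Gf Gcf
  rw [pow_q_sub hF, pow_q_add hF, mul_pow, pow_q_pow_q hF, one_pow]

theorem Gcf_pow (hF : Fintype.card F = q ^ 2) (c y D : F) : (Gcf q c y D) ^ q = Gf q c y D := by
  rw [← Gf_pow hF, pow_q_pow_q hF]

theorem Gcf_ne (hF : Fintype.card F = q ^ 2) {c y D : F} (hG : Gf q c y D ≠ 0) :
    Gcf q c y D ≠ 0 := by
  rw [← Gf_pow hF]; exact pow_ne_zero _ hG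

theorem xif_pow (hF : Fintype.card F = q ^ 2) (c y D : F) :
    (xif q c y D) ^ q = (D + y ^ q) / Gf q c y D := by
  unfold xif
  rw [div_pow, Gcf_pow hF, pow_q_add hF, pow_q_pow_q hF]

theorem dxif_pow (hF : Fintype.card F = q ^ 2) (c y D : F) :
    (dxif q c y D) ^ q = D ^ q / Gcf q c y D := by
  unfold dxif
  rw [div_pow, Gf_pow hF]

theorem valid_xi (hF : Fintype.card F = q ^ 2) {c y D : F} (hc : c + c ^ q + 1 = 0)
    (hD : D + D ^ q + y * y ^ q = 0) (hG : Gf q c y D ≠ 0) :
    dxif q c y D + (dxif q c y D) ^ q + xif q c y D * (xif q c y D) ^ q = 0 := by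
  have hGc := Gcf_ne hF hG
  have hcq : c ^ q = -1 - c := by linear_combination hc
  have hDq : D ^ q = -D - y * y ^ q := by linear_combination hD
  obtain ⟨G, hGd⟩ : ∃ G, Gf q c y D = G := ⟨_, rfl⟩
  obtain ⟨Gc, hGcd⟩ : ∃ Gc, Gcf q c y D = Gc := ⟨_, rfl⟩
  have hGv : G = 1 + D * c - y ^ q := by rw [← hGd]; rfl
  have hGcv : Gc = 1 + D ^ q * c ^ q - y := by rw [← hGcd]; rfl
  rw [hGd] at hG
  rw [hGcd] at hGc
  clear hc hD
  · simp only [pow_q_neg hF, one_pow, xif_pow hF, dxif_pow hF]
    try simp only [xif]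
    try simp only [dxif]
    simp only [hGd, hGcd]
    rw [hcq, hDq] at hGcv
    try simp only [hcq]
    try simp only [hDq]
    generalize y ^ q = yq at *
    field_simp
    subst hGv hGcv
    ring

namespace Witt

variable (W : Witt F q n 1)

/-- the Borel element `u₁ y⁻ u₁ (x⁻)⁻¹` -/
noncomputable def borel (c y D : F) : ↥(Cfsg.SU n F q) :=
  W.up 1 c * W.um y D * W.up 1 c * (W.um (xif q c y D) (dxif q c y D))⁻¹

theorem hc1 {c : F} (hc : c + c ^ q + 1 = 0) : c + c ^ q + 1 * 1 ^ q = 0 := by
  rw [one_pow, mul_one]; exact hc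

theorem borel_e {c y D : F} (hc : c + c ^ q + 1 = 0) (hD : D + D ^ q + y * y ^ q = 0)
    (hG : Gf q c y D ≠ 0) :
    act (W.borel c y D) (W.e 0) = (Gcf q c y D)⁻¹ • W.e 0 := by
  have hF := W.hF
  have hGc := Gcf_ne hF hG
  have hv := W.valid_inv (valid_xi hF hc hD hG)
  rw [borel, um_inv, act_mul, act_mul, act_mul, W.e_eq, W.act_um hv, W.act_up (hc1 hc),
    W.act_um hD, W.act_up (hc1 hc), W.smul_vec]
  have hcq : c ^ q = -1 - c := by linear_combination hc
  have hDq : D ^ q = -D - y * y ^ q := by linear_combination hD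
  obtain ⟨G, hGd⟩ : ∃ G, Gf q c y D = G := ⟨_, rfl⟩
  obtain ⟨Gc, hGcd⟩ : ∃ Gc, Gcf q c y D = Gc := ⟨_, rfl⟩
  have hGv : G = 1 + D * c - y ^ q := by rw [← hGd]; rfl
  have hGcv : Gc = 1 + D ^ q * c ^ q - y := by rw [← hGcd]; rfl
  rw [hGd] at hG
  rw [hGcd] at hGc
  clear hc hD hv
  congr 1
  · simp only [pow_q_neg hF, one_pow, xif_pow hF, dxif_pow hF]
    try simp only [xif]
    try simp only [dxif]
    simp only [hGd, hGcd]
    rw [hcq, hDq] at hGcv
    try simp only [hcq]
    try simp only [hDq]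
    generalize y ^ q = yq at *
    field_simp
    subst hGv hGcv
    ring
  · simp only [pow_q_neg hF, one_pow, xif_pow hF, dxif_pow hF]
    try simp only [xif]
    try simp only [dxif]
    simp only [hGd, hGcd]
    rw [hcq, hDq] at hGcv
    try simp only [hcq]
    try simp only [hDq]
    generalize y ^ q = yq at *
    field_simp
    subst hGv hGcv
    ring
  · simp only [pow_q_neg hF, one_pow, xif_pow hF, dxif_pow hF]
    try simp only [xif]
    try simp only [dxif]
    simp only [hGd, hGcd]
    rw [hcq, hDq] at hGcv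
    try simp only [hcq]
    try simp only [hDq]
    generalize y ^ q = yq at *
    field_simp
    subst hGv hGcv
    ring

theorem borel_w {c y D : F} (hc : c + c ^ q + 1 = 0) (hD : D + D ^ q + y * y ^ q = 0)
    (hG : Gf q c y D ≠ 0) :
    ∃ θ : F, act (W.borel c y D) W.w = (Gcf q c y D / Gf q c y D) • W.w + θ • W.e 0 := by
  have hF := W.hF
  have hGc := Gcf_ne hF hG
  have hv := W.valid_inv (valid_xi hF hc hD hG)
  have key : ∃ X : F, act (W.borel c y D) W.w = W.vec X (Gcf q c y D / Gf q c y D) 0 := by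
    refine ⟨?X, ?h⟩
    case h =>
      rw [borel, um_inv, act_mul, act_mul, act_mul, W.w_eq, W.act_um hv, W.act_up (hc1 hc),
        W.act_um hD, W.act_up (hc1 hc)]
      have hcq : c ^ q = -1 - c := by linear_combination hc
      have hDq : D ^ q = -D - y * y ^ q := by linear_combination hD
      obtain ⟨G, hGd⟩ : ∃ G, Gf q c y D = G := ⟨_, rfl⟩
      obtain ⟨Gc, hGcd⟩ : ∃ Gc, Gcf q c y D = Gc := ⟨_, rfl⟩
      have hGv : G = 1 + D * c - y ^ q := by rw [← hGd]; rfl
      have hGcv : Gc = 1 + D ^ q * c ^ q - y := by rw [← hGcd]; rfl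
      rw [hGd] at hG
      rw [hGcd] at hGc
      congr 1
      · rfl
      · simp only [pow_q_neg hF, one_pow, xif_pow hF, dxif_pow hF]
        try simp only [xif]
        try simp only [dxif]
        simp only [hGd, hGcd]
        rw [hcq, hDq] at hGcv
        try simp only [hcq]
        try simp only [hDq]
        generalize y ^ q = yq at *
        field_simp
        subst hGv hGcv
        ring
      · simp only [pow_q_neg hF, one_pow, xif_pow hF, dxif_pow hF]
        try simp only [xif]
        try simp only [dxif]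
        simp only [hGd, hGcd]
        rw [hcq, hDq] at hGcv
        try simp only [hcq]
        try simp only [hDq]
        generalize y ^ q = yq at *
        field_simp
        subst hGv hGcv
        ring
  obtain ⟨X, h1⟩ := key
  refine ⟨X, ?_⟩
  rw [h1]
  unfold vec
  module

end Witt

end Cfsg.Agent.Lib.Helper1.Rh
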