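import Mathlib
import Cfsg.Prelude
import Cfsg.Agent.Lib.Helper1.Rh8

set_option autoImplicit false
set_option maxHeartbeats 4000000
set_option linter.unusedVariables false
set_option linter.unusedSectionVars false
set_option linter.style.longLine false
set_option linter.unusedSimpArgs false
set_option linter.deprecated false

/-! Generation of `SU_3(q)` by three conjugate regular unipotent elements, part 3:
conjugacy of upper and lower regular unipotent elements, and the generation criterion. -/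

namespace Cfsg.Agent.Lib.Helper1.Rh

open Matrix Cfsg Cfsg.Agent.Lib.Helper5.Herm Cfsg.Agent.Lib.Helper5.HermTv
  Cfsg.Agent.Lib.Helper5.HermEich Cfsg.Agent.Lib.Helper5.HermSU

variable {F : Type*} [Field F] [Fintype F] {q n : ℕ}

/-- invariance of `Mgrp` under an element of `H` scaling the vector `a` -/
theorem act_mem_Mgrp_smul {hF : Fintype.card F = q ^ 2} {H : Subgroup ↥(Cfsg.SU n F q)}
    {a : Fin n → F} {ha : hermForm n F q a a = 0} {h : ↥(Cfsg.SU n F q)} (hh : h ∈ H)
    {l : F} (hl : l ≠ 0) (hfix : act h a = l • a) {b : Fin n → F} (hb : b ∈ Mgrp hF H a ha) :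
    l ^ q • act h b ∈ Mgrp hF H a ha := by
  obtain ⟨c, hc, hm⟩ := hb
  have h1 := ehyp_act h hc
  have h2 := conj_rhoS hF h a b c
  rw [hfix] at h1 h2
  have h3 : EHyp n q a (act h b) c := by
    refine ⟨ha, ?_, h1.hb⟩
    have := h1.hwx
    rw [hermForm_smul_right] at this
    rcases mul_eq_zero.mp this with h4 | h4
    · exact absurd h4 (pow_ne_zero _ hl)
    · exact h4
  rw [rhoS_smul_left hF h3] at h2
  exact ⟨_, ehyp_smul_right hF h3 l, by
    rw [← h2]; exact H.mul_mem (H.mul_mem hh hm) (H.inv_mem hh)⟩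

namespace Witt

variable (W : Witt F q n 1)

/-! ### regular unipotent elements -/

theorem up_sub_one_mulVec {a c : F} (h : c + c ^ q + a * a ^ q = 0) (x y z : F) :
    ((W.up a c).1.1 - 1) *ᵥ W.vec x y z = W.vec (c * z - a ^ q * y) (a * z) 0 := by
  rw [sub_mulVec, one_mulVec]
  show act (W.up a c) (W.vec x y z) - W.vec x y z = _
  rw [W.act_up h]
  unfold vec
  module

theorem up_nilpotent {a c : F} (h : c + c ^ q + a * a ^ q = 0) :
    IsNilpotent ((W.up a c).1.1 - 1) := by
  refine ⟨3, ?_⟩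
  have h3 : ∀ x y z : F, ((W.up a c).1.1 - 1) ^ 3 *ᵥ W.vec x y z = 0 := by
    intro x y z
    rw [pow_succ, pow_succ, pow_one, ← mulVec_mulVec, ← mulVec_mulVec, W.up_sub_one_mulVec h,
      W.up_sub_one_mulVec h, W.up_sub_one_mulVec h]
    unfold vec
    module
  apply W.ext_mat
  · intro k hk
    obtain rfl : k = 0 := by omega
    rw [W.e_eq, h3, zero_mulVec]
  · rw [W.w_eq, h3, zero_mulVec]
  · intro k hk
    obtain rfl : k = 0 := by omega
    rw [W.f_eq, h3, zero_mulVec]

theorem up_regular {c : F} (h : c + c ^ q + 1 = 0) : ((W.up 1 c).1.1 - 1) ^ 2 ≠ 0 := by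
  intro h0
  have h1 := congrArg (fun A => A *ᵥ W.f 0) h0
  simp only [zero_mulVec] at h1
  rw [pow_two, ← mulVec_mulVec, W.f_eq, W.up_sub_one_mulVec (hc1 h), W.up_sub_one_mulVec (hc1 h)]
    at h1
  have h2 := congrArg (fun v => hermForm n F q v (W.f 0)) h1
  simp only [W.form_vec_f, hermForm_zero_left] at h2
  rw [one_pow] at h2
  have : (1 : F) = 0 := by linear_combination -h2
  exact one_ne_zero this

/-! ### conjugacy -/

/-- an upper regular unipotent element is conjugate to suitable lower ones -/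
theorem conj_up_um {c ck ak d₂ : F} (hc : c + c ^ q + 1 = 0) (hck : ck ≠ 0)
    (hak : ck + ck ^ q + ak * ak ^ q = 0)
    (hd₂ : d₂ + d₂ ^ q + (-(ck ^ q) / ck ^ 2) * (-(ck ^ q) / ck ^ 2) ^ q = 0) :
    ∃ g : ↥(Cfsg.SU n F q), g * W.up 1 c * g⁻¹ = W.um (-(ck ^ q) / ck ^ 2) d₂ := by
  have hF := W.hF
  have hckq : ck ^ q ≠ 0 := pow_ne_zero _ hck
  set r : F := -(ck ^ q) / ck ^ 2 with hr
  have hrq : r ^ q = -ck / (ck ^ q) ^ 2 := by
    rw [hr, div_pow, pow_q_neg hF, pow_q_pow_q hF, ← pow_mul, mul_comm 2 q, pow_mul]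
  have hr0 : r ≠ 0 := by
    rw [hr]; exact div_ne_zero (neg_ne_zero.mpr hckq) (pow_ne_zero _ hck)
  have hrq0 : r ^ q ≠ 0 := pow_ne_zero _ hr0
  -- the element `k`
  set bk : F := -(ak / ck ^ q) with hbk
  set dk : F := 1 / ck ^ q with hdk
  have hbkq : bk ^ q = -(ak ^ q / ck) := by
    rw [hbk, pow_q_neg hF, div_pow, pow_q_pow_q hF]
  have hdkq : dk ^ q = 1 / ck := by
    rw [hdk, div_pow, one_pow, pow_q_pow_q hF]
  have hvk : dk + dk ^ q + bk * bk ^ q = 0 := by
    rw [hbkq, hdkq, hbk, hdk]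
    field_simp
    linear_combination hak
  set k := W.up ak ck * W.um bk dk with hk
  have hke : act k (W.e 0) = dk • W.f 0 := by
    rw [hk, act_mul, W.e_eq, W.act_um hvk, W.act_up hak, W.f_eq, W.smul_vec]
    congr 1
    · rw [hbk, hdk]; field_simp; linear_combination hak
    · rw [hbk, hdk]; field_simp; ring
    · ring
  have hkw : act k W.w = (-(ck ^ q) / ck) • W.w + (ak ^ q / ck) • W.f 0 := by
    rw [hk, act_mul, W.w_eq, W.act_um hvk, W.act_up hak]
    have e1 : ∀ a b : F, a • W.vec 0 1 0 + b • W.vec 0 0 1 = W.vec 0 a b := by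
      intro a b; unfold vec; module
    rw [W.f_eq, e1]
    congr 1
    · rw [hbkq]; field_simp; ring
    · rw [hbkq]; field_simp; linear_combination hak
    · rw [hbkq]; field_simp; ring
  -- conjugating by `k`
  have hEc : EHyp n q (W.f 0) ((-(ck ^ q) / ck) • W.w + (ak ^ q / ck) • W.f 0) c := by
    refine ⟨W.form_ff 0 0, ?_, ?_⟩
    · simp only [hermForm_add_left, hermForm_smul_left, W.form_wf, W.form_ff]; ring
    · simp only [hermForm_add_left, hermForm_add_right hF, hermForm_smul_left,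
        hermForm_smul_right, W.form_wf, W.form_fw, W.form_ff, W.form_ww]
      rw [div_pow, pow_q_neg hF, pow_q_pow_q hF]
      field_simp
      linear_combination (ck * ck ^ q) * hc
  have h1 : k * W.up 1 c * k⁻¹ =
      rhoS hF (W.f 0) (dk ^ q • ((-(ck ^ q) / ck) • W.w + (ak ^ q / ck) • W.f 0))
        (dk ^ (q + 1) * c) := by
    rw [up, conj_rhoS, one_smul, hke, hkw, rhoS_smul_left hF hEc]
  -- absorbing the multiple of `f`
  set μ' : F := dk ^ q * (ak ^ q / ck) with hμ'
  set c'' : F := dk ^ (q + 1) * c with hc''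
  set c₃ : F := c'' + μ' - μ' ^ q with hc₃
  have hvec : dk ^ q • ((-(ck ^ q) / ck) • W.w + (ak ^ q / ck) • W.f 0)
      = r • W.w + μ' • W.f 0 := by
    rw [smul_add, smul_smul, smul_smul, hdkq, hr, hμ', hdkq]
    congr 2
    field_simp
  have hN : dk ^ (q + 1) = 1 / (ck * ck ^ q) := by
    rw [pow_succ, hdkq, hdk]; field_simp
  have hc''q : c'' ^ q = 1 / (ck * ck ^ q) * c ^ q := by
    rw [hc'', mul_pow, hN, div_pow, one_pow, mul_pow, pow_q_pow_q hF, mul_comm (ck ^ q) ck]
  have hc''tr : c'' + c'' ^ q + r * r ^ q = 0 := by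
    rw [hc''q, hc'', hN, hrq, hr]
    field_simp
    linear_combination hc
  have hv3 : c₃ + c₃ ^ q + r * r ^ q = 0 := by
    rw [hc₃, pow_q_sub hF, pow_q_add hF, pow_q_pow_q hF]
    linear_combination hc''tr
  have hE3 : EHyp n q (W.f 0) (r • W.w) c₃ := W.ehyp_um hv3
  have h2 : k * W.up 1 c * k⁻¹ = W.um r c₃ := by
    rw [h1, hvec]
    have := rhoS_add_smul hF hE3 μ'
    rw [show c₃ - μ' + μ' ^ q = c'' by rw [hc₃]; ring] at this
    rw [this, um]
  -- adjusting the central parameter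
  set s : F := d₂ - c₃ with hs
  have hstr : s + s ^ q = 0 := by
    rw [hs, pow_q_sub hF]
    linear_combination hd₂ - hv3
  have hsq : s ^ q = -s := by linear_combination hstr
  obtain ⟨l, hl⟩ := exists_sub_conj hF s hsq
  set ba : F := -l / r ^ q with hba
  have hbaq : ba ^ q = -(l ^ q) / r := by
    rw [hba, div_pow, pow_q_neg hF, pow_q_pow_q hF]
  obtain ⟨da, hda⟩ := exists_trace_eq hF (-(ba * ba ^ q)) (by
    rw [pow_q_neg hF, mul_pow, pow_q_pow_q hF]; ring)
  have hva : da + da ^ q + ba * ba ^ q = 0 := by linear_combination hda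
  have hEa : EHyp n q (W.f 0) (ba • W.w) da := W.ehyp_um hva
  have h3 := rhoS_comm hF hEa hE3
  have h4 : hermForm n F q (ba • W.w) (r • W.w) - hermForm n F q (r • W.w) (ba • W.w) = s := by
    rw [hermForm_smul_left, hermForm_smul_right, hermForm_smul_left, hermForm_smul_right,
      W.form_ww, hbaq, hba]
    field_simp
    linear_combination hl
  rw [h4, ← mul_assoc, tv_mul_rhoS hF hE3 hstr] at h3
  have h5 : W.um ba da * W.um r c₃ * (W.um ba da)⁻¹ = W.um r d₂ := by
    rw [um, um, h3, mul_inv_cancel_right, um]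
    apply rhoS_congr hF rfl rfl
    rw [hs]; ring
  refine ⟨W.um ba da * k, ?_⟩
  rw [conj_conj, h2, h5]

end Witt

end Cfsg.Agent.Lib.Helper1.Rh
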