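import Mathlib
import Cfsg.Prelude
import Cfsg.Agent.Lib.Helper1.Rh9

set_option autoImplicit false
set_option maxHeartbeats 4000000
set_option linter.unusedVariables false
set_option linter.unusedSectionVars false
set_option linter.style.longLine false
set_option linter.unusedSimpArgs false
set_option linter.deprecated false

/-! Generation of `SU_3(q)` by three conjugate regular unipotent elements, part 4:
the generation criterion in terms of the parameters. -/

namespace Cfsg.Agent.Lib.Helper1.Rh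

open Matrix Cfsg Cfsg.Agent.Lib.Helper5.Herm Cfsg.Agent.Lib.Helper5.HermTv
  Cfsg.Agent.Lib.Helper5.HermEich Cfsg.Agent.Lib.Helper5.HermSU

variable {F : Type*} [Field F] [Fintype F] {q n : ℕ}

namespace Witt

variable (W : Witt F q n 1)

theorem form_vec_vec (a b d a' b' d' : F) :
    hermForm n F q (W.vec a b d) (W.vec a' b' d') = a * d' ^ q + b * b' ^ q + d * a' ^ q := by
  have hF := W.hF
  conv_lhs => rw [vec, vec]
  simp only [hermForm_add_left, hermForm_add_right hF, hermForm_smul_left, hermForm_smul_right,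
    W.form_ee, W.form_ff, W.form_ew, W.form_we, W.form_fw, W.form_wf, W.form_ww,
    W.form_ef_self (i := 0) (by omega), W.form_fe_self (i := 0) (by omega)]
  ring

/-- the generation criterion -/
theorem gen3 (hq2 : q ≠ 2) {c y D : F} (hc : c + c ^ q + 1 = 0)
    (hD : D + D ^ q + y * y ^ q = 0) (hG : Gf q c y D ≠ 0) (hr0 : y - xif q c y D ≠ 0)
    (hord : q ≤ orderOf (Gcf q c y D / Gf q c y D ^ 2)) {g : ↥(Cfsg.SU n F q)}
    (hg : g * W.up 1 c * g⁻¹ = W.um y D * (W.um (xif q c y D) (dxif q c y D))⁻¹) :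
    Subgroup.closure ({W.up 1 c, g * W.up 1 c * g⁻¹,
      W.um (xif q c y D) (dxif q c y D) * W.up 1 c * (W.um (xif q c y D) (dxif q c y D))⁻¹} :
      Set ↥(Cfsg.SU n F q)) = ⊤ := by
  have hF := W.hF
  have hn := W.hn
  have hGc := Gcf_ne hF hG
  set H := Subgroup.closure ({W.up 1 c, g * W.up 1 c * g⁻¹,
      W.um (xif q c y D) (dxif q c y D) * W.up 1 c * (W.um (xif q c y D) (dxif q c y D))⁻¹} :
      Set ↥(Cfsg.SU n F q)) with hH
  have hu₁ : W.up 1 c ∈ H := Subgroup.subset_closure (by simp)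
  have hu₂ : W.um y D * (W.um (xif q c y D) (dxif q c y D))⁻¹ ∈ H := by
    rw [← hg]; exact Subgroup.subset_closure (by simp)
  have hu₃ : W.um (xif q c y D) (dxif q c y D) * W.up 1 c
      * (W.um (xif q c y D) (dxif q c y D))⁻¹ ∈ H := Subgroup.subset_closure (by simp)
  have hβ : W.borel c y D ∈ H := by
    have : W.borel c y D = W.up 1 c * (W.um y D * (W.um (xif q c y D) (dxif q c y D))⁻¹)
        * (W.um (xif q c y D) (dxif q c y D) * W.up 1 c
          * (W.um (xif q c y D) (dxif q c y D))⁻¹) := by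
      rw [borel]; group
    rw [this]
    exact H.mul_mem (H.mul_mem hu₁ hu₂) hu₃
  have he0 : W.e 0 ≠ 0 := W.e_ne_zero (by omega)
  have he : hermForm n F q (W.e 0) (W.e 0) = 0 := W.form_ee 0 0
  -- the additive group of parameters
  let X : AddSubgroup F :=
    { carrier := {a | a • W.w ∈ Mgrp hF H (W.e 0) he}
      zero_mem' := by
        show (0 : F) • W.w ∈ Mgrp hF H (W.e 0) he
        rw [zero_smul]; exact AddSubgroup.zero_mem _
      add_mem' := by
        intro a b ha hb
        show (a + b) • W.w ∈ Mgrp hF H (W.e 0) he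
        rw [add_smul]; exact AddSubgroup.add_mem _ ha hb
      neg_mem' := by
        intro a ha
        show (-a) • W.w ∈ Mgrp hF H (W.e 0) he
        rw [neg_smul]; exact AddSubgroup.neg_mem _ ha }
  have hXmem : ∀ a : F, a ∈ X ↔ a • W.w ∈ Mgrp hF H (W.e 0) he := fun a => Iff.rfl
  have h1X : (1 : F) ∈ X := by
    rw [hXmem]
    exact ⟨c, W.ehyp_up (hc1 hc), hu₁⟩
  set μ : F := Gcf q c y D / Gf q c y D ^ 2 with hμ
  have hμ0 : μ ≠ 0 := div_ne_zero hGc (pow_ne_zero _ hG)
  obtain ⟨θ, hθ⟩ := W.borel_w hc hD hG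
  have hμX : ∀ a ∈ X, μ * a ∈ X := by
    intro a ha
    rw [hXmem] at ha ⊢
    have h1 := act_mem_Mgrp_smul hβ (inv_ne_zero hGc) (W.borel_e hc hD hG) ha
    rw [act_smul, hθ, inv_pow, Gcf_pow hF] at h1
    have h2 := AddSubgroup.sub_mem _ h1
      (smul_self_mem_Mgrp hF H (W.e 0) he ((Gf q c y D)⁻¹ * (a * θ)))
    have h3 : (Gf q c y D)⁻¹ • a • ((Gcf q c y D / Gf q c y D) • W.w + θ • W.e 0)
        - ((Gf q c y D)⁻¹ * (a * θ)) • W.e 0 = (μ * a) • W.w := by
      have : μ * a = (Gf q c y D)⁻¹ * (a * (Gcf q c y D / Gf q c y D)) := by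
        rw [hμ]; field_simp
      rw [this]
      module
    rwa [h3] at h2
  have hXtop : X = ⊤ := field_gen hF X h1X hμ0 hμX hord
  have hrad : ∀ b, hermForm n F q b (W.e 0) = 0 →
      ∃ c', EHyp n q (W.e 0) b c' ∧ rhoS hF (W.e 0) b c' ∈ H := by
    intro b hb
    obtain ⟨a', b', d', rfl⟩ := W.exists_vec b
    rw [W.form_vec_e] at hb
    have hb' : b' ∈ X := by rw [hXtop]; exact AddSubgroup.mem_top _
    rw [hXmem] at hb'
    have h2 := AddSubgroup.add_mem _ hb' (smul_self_mem_Mgrp hF H (W.e 0) he a')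
    have h3 : b' • W.w + a' • W.e 0 = W.vec a' b' d' := by
      rw [hb]; unfold vec; module
    rw [h3] at h2
    exact h2
  have hC : ∀ t : F, t + t ^ q = 0 → rhoS hF (W.e 0) 0 t ∈ H := fun t ht =>
    center_of_rad he hrad (b₁ := W.w) (b₂ := W.w) (W.form_we 0) (W.form_we 0) W.form_ww ht
  have hR := rad_all hrad hC
  -- the element `u₂` moves `e` off its perp
  have hv := W.valid_inv (valid_xi hF hc hD hG)
  have hact : act (W.um y D * (W.um (xif q c y D) (dxif q c y D))⁻¹) (W.e 0)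
      = W.vec 1 (-xif q c y D * 1 + y * 1)
          (0 + dxif q c y D ^ q * 1 - (-xif q c y D) ^ q * 0 + D * 1
            - y ^ q * (0 + -xif q c y D * 1)) := by
    rw [um_inv, act_mul, W.e_eq, W.act_um hv, W.act_um hD]
    congr 1
    ring
  have hne : hermForm n F q
      (act (W.um y D * (W.um (xif q c y D) (dxif q c y D))⁻¹) (W.e 0)) (W.e 0) ≠ 0 := by
    have hiso : hermForm n F q
        (act (W.um y D * (W.um (xif q c y D) (dxif q c y D))⁻¹) (W.e 0))
        (act (W.um y D * (W.um (xif q c y D) (dxif q c y D))⁻¹) (W.e 0)) = 0 := by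
      rw [form_act]; exact he
    rw [hact] at hiso ⊢
    rw [W.form_vec_vec] at hiso
    rw [W.form_vec_e]
    intro h0
    rw [h0, zero_pow (q_ne_zero hF), one_pow] at hiso
    have h4 : (-xif q c y D * 1 + y * 1) * (-xif q c y D * 1 + y * 1) ^ q = 0 := by
      linear_combination hiso
    have h5 : -xif q c y D * 1 + y * 1 = 0 := by
      rcases mul_eq_zero.mp h4 with h | h
      · exact h
      · exact (pow_eq_zero_iff (q_ne_zero hF)).mp h
    apply hr0
    linear_combination h5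
  exact top_of_rad_gen (by omega) (by omega) he0 he hR hu₂ hne

/-- the theorem for `SU_3(q)` in terms of parameters -/
theorem main3_params (W : Witt F q n 1) (hq2 : q ≠ 2) {c y D ck ak : F} (hc : c + c ^ q + 1 = 0)
    (hD : D + D ^ q + y * y ^ q = 0) (hG : Gf q c y D ≠ 0) (hck : ck ≠ 0)
    (hak : ck + ck ^ q + ak * ak ^ q = 0) (hr : y - xif q c y D = -(ck ^ q) / ck ^ 2)
    (hord : q ≤ orderOf (Gcf q c y D / Gf q c y D ^ 2)) :
    ∃ u g h : ↥(Cfsg.SU n F q),
      (IsNilpotent (u.1.1 - 1) ∧ (u.1.1 - 1) ^ (n - 1) ≠ 0) ∧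
      Subgroup.closure ({u, g * u * g⁻¹, h * u * h⁻¹} : Set ↥(Cfsg.SU n F q)) = ⊤ := by
  have hF := W.hF
  have hn := W.hn
  have hv := W.valid_inv (valid_xi hF hc hD hG)
  have hE1 := W.ehyp_um hD
  have hE2 := W.ehyp_um hv
  have hmul := rhoS_mul hF hE1 hE2
  have hE3 := ehyp_add hF hE1 hE2
  have hb : y • W.w + (-xif q c y D) • W.w = (y - xif q c y D) • W.w := by module
  rw [hb] at hmul hE3
  set d₂ : F := D + dxif q c y D ^ q - hermForm n F q ((-xif q c y D) • W.w) (y • W.w) with hd₂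
  have hd₂v : d₂ + d₂ ^ q + (-(ck ^ q) / ck ^ 2) * (-(ck ^ q) / ck ^ 2) ^ q = 0 := by
    have := hE3.hb
    rw [hermForm_smul_left, hermForm_smul_right, W.form_ww, hr] at this
    linear_combination this
  obtain ⟨g, hg⟩ := W.conj_up_um hc hck hak hd₂v
  have hg' : g * W.up 1 c * g⁻¹ = W.um y D * (W.um (xif q c y D) (dxif q c y D))⁻¹ := by
    rw [hg, um_inv]
    unfold um
    rw [hmul, hr]
  have hr0 : y - xif q c y D ≠ 0 := by
    rw [hr]
    exact div_ne_zero (neg_ne_zero.mpr (pow_ne_zero _ hck)) (pow_ne_zero _ hck)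
  refine ⟨W.up 1 c, g, W.um (xif q c y D) (dxif q c y D),
    ⟨W.up_nilpotent (hc1 hc), ?_⟩, W.gen3 hq2 hc hD hG hr0 hord hg'⟩
  have : n - 1 = 2 := by omega
  rw [this]
  exact W.up_regular hc

end Witt

end Cfsg.Agent.Lib.Helper1.Rh
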