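import Mathlib
import Cfsg.Prelude
import Cfsg.Agent.Lib.Helper1.Rh10

set_option autoImplicit false
set_option maxHeartbeats 4000000
set_option linter.unusedVariables false
set_option linter.unusedSectionVars false
set_option linter.style.longLine false
set_option linter.unusedSimpArgs false
set_option linter.deprecated false

/-! Generation of `SU_n(q)`, `n` odd, by three conjugate regular unipotent elements, part 11:
the parameters for `SU_3(q)` and the main theorem. -/

namespace Cfsg.Agent.Lib.Helper1.Rh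

open Matrix Cfsg Cfsg.Agent.Lib.Helper5.Herm Cfsg.Agent.Lib.Helper5.HermTv
  Cfsg.Agent.Lib.Helper5.HermEich Cfsg.Agent.Lib.Helper5.HermSU

variable {F : Type*} [Field F] [Fintype F] {q n : ℕ}

theorem orderOf_gen (hF : Fintype.card F = q ^ 2) {g₀ : F} (hg0 : g₀ ≠ 0)
    (hg : ∀ t : F, t ≠ 0 → ∃ k : ℕ, g₀ ^ k = t) : orderOf g₀ = q ^ 2 - 1 := by
  classical
  set γ : Fˣ := Units.mk0 g₀ hg0 with hγ
  have hmem : ∀ x : Fˣ, x ∈ Subgroup.zpowers γ := by
    intro x
    obtain ⟨k, hk⟩ := hg (x : F) x.ne_zero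
    refine ⟨(k : ℤ), ?_⟩
    apply Units.ext
    simp only [zpow_natCast, Units.val_pow_eq_pow_val, hγ, Units.val_mk0]
    exact hk
  have h1 := orderOf_eq_card_of_forall_mem_zpowers hmem
  rw [Nat.card_eq_fintype_card, Fintype.card_units, hF] at h1
  rw [← h1, ← orderOf_units, hγ, Units.val_mk0]

theorem le_orderOf_of_pow_ne_one {x : F} (hx : x ≠ 0) (N : ℕ)
    (h : ∀ k, 0 < k → k < N → x ^ k ≠ 1) : N ≤ orderOf x := by
  by_contra hcon
  push_neg at hcon
  have hfin : IsOfFinOrder x := by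
    rw [isOfFinOrder_iff_pow_eq_one]
    exact ⟨Fintype.card F - 1, by
      have := Fintype.one_lt_card (α := F); omega, FiniteField.pow_card_sub_one_eq_one x hx⟩
  exact h (orderOf x) hfin.orderOf_pos hcon (pow_orderOf_eq_one x)

theorem natCast_pow_q (hF : Fintype.card F = q ^ 2) (k : ℕ) : ((k : F)) ^ q = k := by
  induction k with
  | zero => rw [Nat.cast_zero, zero_pow (q_ne_zero hF)]
  | succ k ih => rw [Nat.cast_succ, pow_q_add hF, ih, one_pow]

theorem two_pow_q (hF : Fintype.card F = q ^ 2) : (2 : F) ^ q = 2 := by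
  have := natCast_pow_q hF 2
  simpa using this

theorem four_pow_q (hF : Fintype.card F = q ^ 2) : (4 : F) ^ q = 4 := by
  have := natCast_pow_q hF 4
  simpa using this

/-- the parameters in odd characteristic -/
theorem exists_params_odd (hF : Fintype.card F = q ^ 2) (h2 : (2 : F) ≠ 0) :
    ∃ c y D ck ak : F, c + c ^ q + 1 = 0 ∧ D + D ^ q + y * y ^ q = 0 ∧ Gf q c y D ≠ 0 ∧
      ck ≠ 0 ∧ ck + ck ^ q + ak * ak ^ q = 0 ∧ y - xif q c y D = -(ck ^ q) / ck ^ 2 ∧
      q ≤ orderOf (Gcf q c y D / Gf q c y D ^ 2) := by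
  obtain ⟨g₀, hg0, hg, -⟩ := exists_gen_tr hF
  have hord := orderOf_gen hF hg0 hg
  have hq2 := two_le_q hF
  -- `q` is odd
  obtain ⟨p, j, hp, hcp, hqp⟩ := exists_char_pow hF
  have hp2 : p ≠ 2 := by
    rintro rfl
    apply h2
    have := CharP.cast_eq_zero F 2
    simpa using this
  have hqodd : Odd q := by
    rw [hqp]
    exact (hp.eq_two_or_odd'.resolve_left hp2).pow
  obtain ⟨h, hh⟩ := hqodd
  have hq3 : 3 ≤ q := by omega
  -- the element `z`
  set z : F := g₀ ^ (h + 1) with hz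
  have hz0 : z ≠ 0 := pow_ne_zero _ hg0
  have hE : (g₀ ^ ((h + 1) * (q - 1))) ^ 2 = 1 := by
    rw [← pow_mul]
    have : (h + 1) * (q - 1) * 2 = q ^ 2 - 1 := by
      have h1 : q - 1 = 2 * h := by omega
      rw [h1, hh]
      have : (2 * h + 1) ^ 2 - 1 = 4 * h * h + 4 * h := by
        have : (2 * h + 1) ^ 2 = 4 * h * h + 4 * h + 1 := by ring
        omega
      rw [this]; ring
    rw [this, ← hord, pow_orderOf_eq_one]
  have hE1 : g₀ ^ ((h + 1) * (q - 1)) ≠ 1 := by
    apply pow_ne_one_of_lt_orderOf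
    · have : 0 < (h + 1) * (q - 1) := Nat.mul_pos (by omega) (by omega)
      omega
    · rw [hord]
      have h1 : q - 1 = 2 * h := by omega
      rw [h1, hh]
      have h0 : (2 * h + 1) ^ 2 = 4 * h * h + 4 * h + 1 := by ring
      have h5 : (2 * h + 1) ^ 2 - 1 = 4 * h * h + 4 * h := by omega
      have h3 : (h + 1) * (2 * h) = 2 * h * h + 2 * h := by ring
      have h4 : 1 ≤ h := by omega
      rw [h5, h3]
      nlinarith
  have hEneg : g₀ ^ ((h + 1) * (q - 1)) = -1 := by
    have h1 : (g₀ ^ ((h + 1) * (q - 1)) - 1) * (g₀ ^ ((h + 1) * (q - 1)) + 1) = 0 := by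
      linear_combination hE
    rcases mul_eq_zero.mp h1 with h3 | h3
    · exact absurd (sub_eq_zero.mp h3) hE1
    · linear_combination h3
  have hzq : z ^ q = -z := by
    have : q = (q - 1) + 1 := by omega
    rw [this, pow_succ, hz, ← pow_mul, hEneg]
    ring
  have h2q := two_pow_q hF
  have h4q := four_pow_q hF
  have h4 : (4 : F) ≠ 0 := by
    have : (4 : F) = 2 * 2 := by norm_num
    rw [this]; exact mul_ne_zero h2 h2
  have hcq : (-1 / 2 : F) ^ q = -1 / 2 := by
    rw [div_pow, pow_q_neg hF, one_pow, h2q]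
  have hDq : (-2 + 2 * z : F) ^ q = -2 - 2 * z := by
    rw [pow_q_add hF, pow_q_neg hF, mul_pow, h2q, hzq]; ring
  have hGv : Gf q (-1 / 2 : F) 2 (-2 + 2 * z) = -z := by
    unfold Gf; rw [h2q]; field_simp; ring
  have hGcv : Gcf q (-1 / 2 : F) 2 (-2 + 2 * z) = z := by
    unfold Gcf; rw [hDq, hcq]; field_simp; ring
  have hξ : xif q (-1 / 2 : F) 2 (-2 + 2 * z) = -2 := by
    unfold xif; rw [hGcv, hDq]; field_simp; ring
  have hckq : (-1 / 4 : F) ^ q = -1 / 4 := by
    rw [div_pow, pow_q_neg hF, one_pow, h4q]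
  obtain ⟨ak, hak⟩ := Cfsg.Agent.Lib.Helper5.HermCount.exists_norm_eq hF (1 / 2 : F)
    (one_div_ne_zero h2) (by rw [div_pow, one_pow, h2q])
  refine ⟨-1 / 2, 2, -2 + 2 * z, -1 / 4, ak, ?_, ?_, ?_, ?_, ?_, ?_, ?_⟩
  · rw [hcq]; field_simp; ring
  · rw [hDq, h2q]; ring
  · rw [hGv]; exact neg_ne_zero.mpr hz0
  · exact div_ne_zero (neg_ne_zero.mpr one_ne_zero) h4
  · rw [hckq]
    rw [pow_succ] at hak
    have : ak * ak ^ q = 1 / 2 := by rw [mul_comm]; exact hak
    rw [this]
    field_simp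
    norm_num
  · rw [hξ, hckq]
    field_simp
    norm_num
  · rw [hGcv, hGv]
    have : z / (-z) ^ 2 = z⁻¹ := by field_simp
    rw [this]
    apply le_orderOf_of_pow_ne_one (inv_ne_zero hz0)
    intro k hk0 hkq
    rw [inv_pow, ne_eq, inv_eq_one, hz, ← pow_mul]
    apply pow_ne_one_of_lt_orderOf
    · have : 0 < (h + 1) * k := Nat.mul_pos (by omega) hk0
      omega
    · rw [hord, hh]
      have h5 : k ≤ 2 * h := by omega
      have h6 : (h + 1) * k ≤ (h + 1) * (2 * h) := Nat.mul_le_mul_left _ h5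
      have h7 : (2 * h + 1) ^ 2 = 4 * h * h + 4 * h + 1 := by ring
      have h7' : (2 * h + 1) ^ 2 - 1 = 4 * h * h + 4 * h := by omega
      have h8 : (h + 1) * (2 * h) = 2 * h * h + 2 * h := by ring
      have h9 : 1 ≤ h := by omega
      rw [h7']
      nlinarith

end Cfsg.Agent.Lib.Helper1.Rh
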