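import Mathlib
import Cfsg.Prelude
import Cfsg.Agent.Lib.Helper1.Rh11

set_option autoImplicit false
set_option maxHeartbeats 4000000
set_option linter.unusedVariables false
set_option linter.unusedSectionVars false
set_option linter.style.longLine false
set_option linter.unusedSimpArgs false
set_option linter.deprecated false

/-! Generation of `SU_n(q)`, `n` odd, by three conjugate regular unipotent elements, part 12:
the parameters for `SU_3(q)` in characteristic two, and the main theorem. -/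

namespace Cfsg.Agent.Lib.Helper1.Rh

open Matrix Cfsg Cfsg.Agent.Lib.Helper5.Herm Cfsg.Agent.Lib.Helper5.HermTv
  Cfsg.Agent.Lib.Helper5.HermEich Cfsg.Agent.Lib.Helper5.HermSU

variable {F : Type*} [Field F] [Fintype F] {q n : ℕ}

/-- the parameters in characteristic two -/
theorem exists_params_even (hF : Fintype.card F = q ^ 2) (h2 : (2 : F) = 0) (hq4 : 4 ≤ q) :
    ∃ c y D ck ak : F, c + c ^ q + 1 = 0 ∧ D + D ^ q + y * y ^ q = 0 ∧ Gf q c y D ≠ 0 ∧
      ck ≠ 0 ∧ ck + ck ^ q + ak * ak ^ q = 0 ∧ y - xif q c y D = -(ck ^ q) / ck ^ 2 ∧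
      q ≤ orderOf (Gcf q c y D / Gf q c y D ^ 2) := by
  obtain ⟨g, hg0, hg, htr⟩ := exists_gen_tr hF
  have hord := orderOf_gen hF hg0 hg
  have hqq : q ^ 2 = q * q := by ring
  have hq16 : 4 * q ≤ q * q := Nat.mul_le_mul_right q hq4
  obtain ⟨gq, hgq⟩ : ∃ x : F, g ^ q = x := ⟨_, rfl⟩
  have hgq0 : gq ≠ 0 := by rw [← hgq]; exact pow_ne_zero _ hg0
  have hgqq : gq ^ q = g := by rw [← hgq]; exact pow_q_pow_q hF g
  rw [hgq] at htr
  obtain ⟨t, ht⟩ : ∃ x : F, x = g + gq := ⟨_, rfl⟩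
  obtain ⟨nn, hnn⟩ : ∃ x : F, x = g * gq := ⟨_, rfl⟩
  have ht0 : t ≠ 0 := by rw [ht]; exact htr
  have htq : t ^ q = t := by rw [ht, pow_q_add hF, hgqq, hgq]; ring
  have hnq : nn ^ q = nn := by rw [hnn, mul_pow, hgqq, hgq]; ring
  have hnn0 : nn ≠ 0 := by rw [hnn]; exact mul_ne_zero hg0 hgq0
  have hnn1 : nn ≠ 1 := by
    have : nn = g ^ (q + 1) := by rw [hnn, ← hgq]; ring
    rw [this]
    apply pow_ne_one_of_lt_orderOf (by omega)
    rw [hord, hqq]
    omega
  -- the parameters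
  obtain ⟨c, hc⟩ : ∃ x : F, x = (1 + gq + nn) / t := ⟨_, rfl⟩
  obtain ⟨D, hD⟩ : ∃ x : F, x = t * (g + 1) := ⟨_, rfl⟩
  have hcq : c ^ q = (1 + g + nn) / t := by
    rw [hc, div_pow, htq, pow_q_add hF, pow_q_add hF, one_pow, hgqq, hnq]
  have hDq : D ^ q = t * (gq + 1) := by
    rw [hD, mul_pow, htq, pow_q_add hF, one_pow, hgq]
  have hGv : Gf q c t D = g * nn := by
    unfold Gf
    rw [htq, hc, hD]
    have e1 : t * (g + 1) * ((1 + gq + nn) / t) = (g + 1) * (1 + gq + nn) := by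
      field_simp
    rw [e1, ht, hnn]
    linear_combination (1 + g * gq) * h2
  have hGcv : Gcf q c t D = gq * nn := by
    rw [← Gf_pow hF, hGv, mul_pow, hgq, hnq]
  have hξ : xif q c t D = t / nn := by
    unfold xif
    rw [hGcv, hDq]
    have e1 : t * (gq + 1) + t = t * gq := by linear_combination t * h2
    rw [e1]
    field_simp
  obtain ⟨r, hr⟩ : ∃ x : F, x = t - t / nn := ⟨_, rfl⟩
  have hrq : r ^ q = r := by rw [hr, pow_q_sub hF, div_pow, htq, hnq]
  have hr0 : r ≠ 0 := by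
    have e1 : r = t * (nn - 1) / nn := by rw [hr]; field_simp
    rw [e1]
    exact div_ne_zero (mul_ne_zero ht0 (sub_ne_zero.mpr hnn1)) hnn0
  have hckq : (r⁻¹) ^ q = r⁻¹ := by rw [inv_pow, hrq]
  refine ⟨c, t, D, r⁻¹, 0, ?_, ?_, ?_, ?_, ?_, ?_, ?_⟩
  · rw [hcq, hc]
    have e1 : (1 + gq + nn) / t + (1 + g + nn) / t + 1 = (1 + gq + nn + (1 + g + nn) + t) / t := by
      field_simp
    have e2 : 1 + gq + nn + (1 + g + nn) + t = 0 := by
      rw [ht]; linear_combination (1 + nn + g + gq) * h2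
    rw [e1, e2, zero_div]
  · rw [hDq, htq, hD, ht]
    linear_combination ((g + gq) * (g + gq) + (g + gq)) * h2
  · rw [hGv]; exact mul_ne_zero hg0 hnn0
  · exact inv_ne_zero hr0
  · rw [hckq, zero_mul, add_zero]
    linear_combination r⁻¹ * h2
  · rw [hξ, hckq, ← hr]
    have e1 : -(r⁻¹) / (r⁻¹) ^ 2 = -r := by field_simp
    rw [e1]
    linear_combination r * h2
  · rw [hGcv, hGv]
    have e1 : gq * nn / (g * nn) ^ 2 = (g ^ 3)⁻¹ := by
      rw [hnn]; field_simp
    rw [e1]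
    apply le_orderOf_of_pow_ne_one (inv_ne_zero (pow_ne_zero _ hg0))
    intro k hk0 hkq
    rw [inv_pow, ne_eq, inv_eq_one, ← pow_mul]
    apply pow_ne_one_of_lt_orderOf (by omega)
    rw [hord, hqq]
    have h5 : k ≤ q - 1 := by omega
    have h6 : 3 * k ≤ 3 * (q - 1) := Nat.mul_le_mul_left _ h5
    omega

/-- the case `n = 3` -/
theorem main3 (hF : Fintype.card F = q ^ 2) (hq2 : q ≠ 2) (hn : n = 3) :
    ∃ u g h : ↥(Cfsg.SU n F q),
      (IsNilpotent (u.1.1 - 1) ∧ (u.1.1 - 1) ^ (n - 1) ≠ 0) ∧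
      Subgroup.closure ({u, g * u * g⁻¹, h * u * h⁻¹} : Set ↥(Cfsg.SU n F q)) = ⊤ := by
  obtain ⟨W⟩ := exists_witt (F := F) (q := q) (n := n) (m := 1) hF (by omega)
  by_cases h2 : (2 : F) = 0
  · have hq4 : 4 ≤ q := by
      obtain ⟨p, j, hp, hcp, hqp⟩ := exists_char_pow hF
      have hpd : p ∣ 2 := by
        have := hcp
        apply (CharP.cast_eq_zero_iff F p 2).mp
        exact_mod_cast h2
      have hp2 : p = 2 := (Nat.prime_dvd_prime_iff_eq hp Nat.prime_two).mp hpd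
      subst hp2
      have hq := two_le_q hF
      have hj : 2 ≤ j := by
        by_contra hcon
        have : j = 0 ∨ j = 1 := by omega
        rcases this with rfl | rfl
        · rw [hqp] at hq; norm_num at hq
        · apply hq2; rw [hqp]; norm_num
      calc 4 = 2 ^ 2 := by norm_num
        _ ≤ 2 ^ j := Nat.pow_le_pow_right (by norm_num) hj
        _ = q := hqp.symm
    obtain ⟨c, y, D, ck, ak, hc, hD, hG, hck, hak, hr, hord⟩ := exists_params_even hF h2 hq4
    exact W.main3_params hq2 hc hD hG hck hak hr hord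
  · obtain ⟨c, y, D, ck, ak, hc, hD, hG, hck, hak, hr, hord⟩ := exists_params_odd hF h2
    exact W.main3_params hq2 hc hD hG hck hak hr hord

/-- **`SU_n(q)`, `n ≥ 3` odd, `(n, q) ≠ (3, 2)`, is generated by three conjugate regular unipotent
elements.** -/
theorem main (hF : Fintype.card F = q ^ 2) (hn : 3 ≤ n) (hodd : Odd n) (h32 : ¬ (n = 3 ∧ q = 2)) :
    ∃ u g h : ↥(Cfsg.SU n F q),
      (IsNilpotent (u.1.1 - 1) ∧ (u.1.1 - 1) ^ (n - 1) ≠ 0) ∧
      Subgroup.closure ({u, g * u * g⁻¹, h * u * h⁻¹} : Set ↥(Cfsg.SU n F q)) = ⊤ := by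
  by_cases h3 : n = 3
  · have hq2 : q ≠ 2 := fun h => h32 ⟨h3, h⟩
    exact main3 hF hq2 h3
  · have h5 : 5 ≤ n := by
      obtain ⟨m, hm⟩ := hodd
      omega
    exact main_ge5 hF h5 hodd

end Cfsg.Agent.Lib.Helper1.Rh
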