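import Cfsg.Agent.Lib.Lead.SpecialRankOne
import Cfsg.Agent.Lib.Helper4.RankOneGrp2
import Cfsg.Agent.Lib.Helper4.RootSub2

set_option autoImplicit false

/-!
# Special rank one groups: the diagonal subgroup and `⁅A, H⁆`
-/

namespace Cfsg.Agent.Lib.Helper1.Ro

open Cfsg Cfsg.Agent.Lib.Helper4.RankOneGrp Cfsg.Agent.Lib.Lead.SpecialRankOne

/-! ### cardinality helpers -/

theorem card_gt3 {α : Type*} (a b c d : α) (hab : a ≠ b) (hac : a ≠ c) (had : a ≠ d)
    (hbc : b ≠ c) (hbd : b ≠ d) (hcd : c ≠ d) : 3 < ENat.card α := by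
  have hinj : Function.Injective (![a, b, c, d] : Fin 4 → α) := by
    intro i j hij
    fin_cases i <;> fin_cases j <;> simp_all
  have h1 := ENat.card_le_card_of_injective hinj
  have h2 : ENat.card (Fin 4) = 4 := by simp
  rw [h2] at h1
  exact lt_of_lt_of_le (by norm_num) h1

theorem exists_avoid3 {α : Type*} (h : 3 < ENat.card α) (a b c : α) :
    ∃ d, d ≠ a ∧ d ≠ b ∧ d ≠ c := by
  by_contra hcon
  push Not at hcon
  have hsurj : Function.Surjective (![a, b, c] : Fin 3 → α) := by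
    intro d
    by_cases h1 : d = a
    · exact ⟨0, by simp [h1]⟩
    by_cases h2 : d = b
    · exact ⟨1, by simp [h2]⟩
    exact ⟨2, by simp [hcon d h1 h2]⟩
  have hfin : Finite α := Finite.of_surjective _ hsurj
  have h1 : Nat.card α ≤ Nat.card (Fin 3) := Nat.card_le_card_of_surjective _ hsurj
  rw [Nat.card_fin] at h1
  rw [ENat.card_eq_coe_natCard] at h
  have : (3 : ℕ∞) < ((Nat.card α : ℕ) : ℕ∞) := h
  have h3 : (3 : ℕ) < Nat.card α := by exact_mod_cast this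
  omega

variable {G : Type*} [Group G] {A B : Subgroup G}

/-! ### the diagonal subgroup -/

theorem mem_diag (h : SP A B) {g : G} :
    g ∈ rankOneDiagonal A B ↔ conjBy A g = A ∧ conjBy B g = B := by
  unfold rankOneDiagonal
  rw [h.top, top_inf_eq, Subgroup.mem_inf, conjBy_eq_self_iff, conjBy_eq_self_iff]

theorem conj_mem_of_diag (h : SP A B) {g x : G} (hg : g ∈ rankOneDiagonal A B) (hx : x ∈ A) :
    g * x * g⁻¹ ∈ A := by
  have := conj_mem_conjBy (g := g) hx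
  rwa [((mem_diag h).mp hg).1] at this

theorem comm_le (h : SP A B) : ⁅A, rankOneDiagonal A B⁆ ≤ A := by
  rw [Subgroup.commutator_le]
  intro a ha g hg
  rw [commutatorElement_def]
  have h1 : a * g * a⁻¹ * g⁻¹ = a * (g * a⁻¹ * g⁻¹) := by group
  rw [h1]
  exact mul_mem ha (conj_mem_of_diag h hg (inv_mem ha))

theorem comm_mem (h : SP A B) {g x : G} (hg : g ∈ rankOneDiagonal A B) (hx : x ∈ A) :
    g * x * g⁻¹ * x⁻¹ ∈ ⁅A, rankOneDiagonal A B⁆ := by
  rw [Subgroup.commutator_comm]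
  exact Subgroup.commutator_mem_commutator hg hx

/-- points: `g ∈ H` acts on the points `[w] = conjBy B w` via conjugation of `w` -/
theorem diag_pt (h : SP A B) {g : G} (hg : g ∈ rankOneDiagonal A B) (w : G) :
    conjBy B (g * w) = conjBy B (g * w * g⁻¹) := by
  have e : g * w = (g * w * g⁻¹) * g := by group
  conv_lhs => rw [e, ← conjBy_conjBy, ((mem_diag h).mp hg).2]

/-! ### the Weyl elements -/

/-- the Weyl element attached to `a ∈ A#` -/
noncomputable def nu (A B : Subgroup G) (a : G) : G := nn a (beta A B a)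

section nu

variable {a : G}

theorem nu_A (h : SP A B) (ha : a ∈ A) (ha1 : a ≠ 1) : conjBy A (nu A B a) = B := by
  obtain ⟨h1, h2, h3⟩ := beta_spec h.pair ha ha1
  exact nA h ha ha1 h1 h2 h3

theorem nu_B (h : SP A B) (ha : a ∈ A) (ha1 : a ≠ 1) : conjBy B (nu A B a) = A := by
  obtain ⟨h1, h2, h3⟩ := beta_spec h.pair ha ha1
  exact nB h ha ha1 h1 h2 h3

theorem nu_inv_B (h : SP A B) (ha : a ∈ A) (ha1 : a ≠ 1) : conjBy B (nu A B a)⁻¹ = A := by
  obtain ⟨h1, h2, h3⟩ := beta_spec h.pair ha ha1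
  exact nB' h ha ha1 h1 h2 h3

theorem nu_inv_A (h : SP A B) (ha : a ∈ A) (ha1 : a ≠ 1) : conjBy A (nu A B a)⁻¹ = B :=
  (conjBy_eq_iff.mp (nu_B h ha ha1)).symm

theorem nu_mul (A B : Subgroup G) (a : G) : nu A B a * a = a⁻¹ * beta A B a := by
  unfold nu nn
  group

theorem beta_eq_nu (A B : Subgroup G) (a : G) : beta A B a = a * (nu A B a * a) := by
  unfold nu nn
  group

theorem nu_conj_beta (h : SP A B) (ha : a ∈ A) (ha1 : a ≠ 1) :
    nu A B a * beta A B a * (nu A B a)⁻¹ = a⁻¹ := by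
  obtain ⟨h1, h2, h3⟩ := beta_spec h.pair ha ha1
  exact nn_conj_y h ha ha1 h1 h2 h3

end nu

theorem nu_mul_inv_mem_diag (h : SP A B) {a c : G} (ha : a ∈ A) (ha1 : a ≠ 1) (hc : c ∈ A)
    (hc1 : c ≠ 1) : nu A B a * (nu A B c)⁻¹ ∈ rankOneDiagonal A B := by
  rw [mem_diag h]
  constructor
  · rw [← conjBy_conjBy, nu_inv_A h hc hc1, nu_B h ha ha1]
  · rw [← conjBy_conjBy, nu_inv_B h hc hc1, nu_A h ha ha1]

/-! ### fixed points of `B#` -/

theorem fp (h : SP A B) {y w : G} (hy : y ∈ B) (hy1 : y ≠ 1) (hw : w ∈ A)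
    (hfix : conjBy B (y * w) = conjBy B w) : w = 1 := by
  by_contra hw1
  obtain ⟨b1, b2, b3⟩ := beta_spec h.pair hw hw1
  rw [← conjBy_conjBy, ← b3, conjBy_conjBy, conjBy_eq_conjBy_iff] at hfix
  have hB : (beta A B w)⁻¹ * (y * beta A B w) ∈ B := mul_mem (inv_mem b1) (mul_mem hy b1)
  have h1 := eq_one_of_mem_normalizer (RankOnePair_symm h.pair) hB hfix
  apply hy1
  calc y = beta A B w * ((beta A B w)⁻¹ * (y * beta A B w)) * (beta A B w)⁻¹ := by group
    _ = 1 := by rw [h1]; group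

/-! ### the action of the Weyl elements on points -/

theorem r0 (h : SP A B) {e x : G} (he : e ∈ A) (he1 : e ≠ 1) (hx : x ∈ A) (hx1 : x ≠ 1) :
    ∃ a' ∈ A, a' ≠ 1 ∧ conjBy B (nu A B e * x) = conjBy B a' ∧
      a' * x ∈ ⁅A, rankOneDiagonal A B⁆ := by
  have hg := nu_mul_inv_mem_diag h he he1 hx hx1
  set g := nu A B e * (nu A B x)⁻¹ with hgdef
  obtain ⟨b1, b2, b3⟩ := beta_spec h.pair hx hx1
  refine ⟨g * x⁻¹ * g⁻¹, conj_mem_of_diag h hg (inv_mem hx), ?_, ?_, ?_⟩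
  · intro e1
    apply hx1
    have : x⁻¹ = 1 := by
      calc x⁻¹ = g⁻¹ * (g * x⁻¹ * g⁻¹) * g := by group
        _ = 1 := by rw [e1]; group
    exact inv_eq_one.mp this
  · have e1 : nu A B e * x = (g * x⁻¹) * beta A B x := by
      rw [hgdef, mul_assoc (nu A B e * (nu A B x)⁻¹), ← nu_mul]
      group
    rw [e1, ← conjBy_conjBy, conjBy_of_mem b1, diag_pt h hg]
  · have := comm_mem h hg (inv_mem hx)
    rwa [inv_inv] at this

/-- the action of `β(e)` on the points `[w]`, `w ≠ e⁻¹` -/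
theorem r1 (h : SP A B) {e w : G} (he : e ∈ A) (he1 : e ≠ 1) (hw : w ∈ A) (hew : e * w ≠ 1) :
    ∃ w' ∈ A, conjBy B (beta A B e * w) = conjBy B w' ∧
      w' * w ∈ ⁅A, rankOneDiagonal A B⁆ ∧ w * w' ∈ ⁅A, rankOneDiagonal A B⁆ := by
  obtain ⟨a', ha', ha'1, hc, hm⟩ := r0 h he he1 (mul_mem he hw) hew
  have key : e * a' * w = a' * (e * w) := by
    rw [h.commA e he a' ha', mul_assoc]
  refine ⟨e * a', mul_mem he ha', ?_, ?_, ?_⟩
  · have e1 : beta A B e * w = e * (nu A B e * (e * w)) := by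
      rw [beta_eq_nu]; group
    rw [e1, ← conjBy_conjBy, hc, conjBy_conjBy]
  · rw [key]; exact hm
  · rw [h.commA w hw _ (mul_mem he ha'), key]; exact hm

/-! ### `a³ ∈ ⁅A, H⁆` -/

theorem cube_mem (h : SP A B) {a : G} (ha : a ∈ A) (ha1 : a ≠ 1) (h2 : a ^ 2 ≠ 1) :
    a ^ 3 ∈ ⁅A, rankOneDiagonal A B⁆ := by
  obtain ⟨c, hc, hc2⟩ := exists_root h ha ha1 2 h2
  have hc1 : c ≠ 1 := by
    intro e
    apply ha1
    rw [← hc2, e, one_pow]
  have hc21 : c ^ 2 ≠ 1 := by rw [hc2]; exact ha1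
  have hE := Ek 2 A B h c hc hc1 hc21
  rw [hc2] at hE
  have hg := nu_mul_inv_mem_diag h ha ha1 hc hc1
  set g := nu A B a * (nu A B c)⁻¹ with hgdef
  obtain ⟨b1, b2, b3⟩ := beta_spec h.pair hc hc1
  have e1 : (nu A B c)⁻¹ * a * nu A B c = ((beta A B c) ^ 2)⁻¹ := by
    have := nn_inv_conj_pow h hc hc1 b1 b2 b3 2
    rw [hc2] at this
    exact this
  have e2 : nu A B a * beta A B a * (nu A B a)⁻¹ = a⁻¹ := nu_conj_beta h ha ha1
  have e3 : g * a * g⁻¹ = a ^ 4 := by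
    have s1 : g * a * g⁻¹ = nu A B a * ((nu A B c)⁻¹ * a * nu A B c) * (nu A B a)⁻¹ := by
      rw [hgdef]; group
    rw [s1, e1, ← hE, ← pow_mul, ← _root_.conj_inv, ← conj_pow, e2, inv_pow, inv_inv]
  have := comm_mem h hg ha
  rw [e3] at this
  have e4 : a ^ 4 * a⁻¹ = a ^ 3 := by group
  rwa [e4] at this

theorem le_comm_of_no_torsion (h : SP A B)
    (hno : ∀ a ∈ A, a ≠ 1 → a ^ 2 ≠ 1 ∧ a ^ 3 ≠ 1) : A ≤ ⁅A, rankOneDiagonal A B⁆ := by
  intro a ha
  by_cases ha1 : a = 1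
  · rw [ha1]; exact one_mem _
  obtain ⟨c, hc, hc3⟩ := exists_root h ha ha1 3 (hno a ha ha1).2
  have hc1 : c ≠ 1 := by
    intro e
    apply ha1
    rw [← hc3, e, one_pow]
  rw [← hc3]
  exact cube_mem h hc hc1 (hno c hc hc1).1

/-! ### exponent 2 -/

theorem two_aux (h : SP A B) (h2 : ∀ a ∈ A, a ^ 2 = 1) {e x : G} (he : e ∈ A) (he1 : e ≠ 1)
    (hx : x ∈ A) (hx1 : x ≠ 1) (hex : e ≠ x)
    (hU : ∀ a' ∈ A, a' ≠ 1 → a' * x ∈ ⁅A, rankOneDiagonal A B⁆ → a' = x) : False := by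
  obtain ⟨a', ha', ha'1, hc, hm⟩ := r0 h he he1 hx hx1
  have hax := hU a' ha' ha'1 hm
  rw [hax] at hc
  have einv : e⁻¹ = e := by
    have := h2 e he
    rw [pow_two] at this
    exact inv_eq_of_mul_eq_one_left this
  obtain ⟨b1, b2, b3⟩ := beta_spec h.pair he he1
  have e1 : nu A B e * x = e * (beta A B e * (e * x)) := by
    unfold nu nn
    rw [einv]; group
  rw [e1, ← conjBy_conjBy, conjBy_eq_iff, conjBy_conjBy, einv] at hc
  have := fp h b1 b2 (mul_mem he hx) hc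
  apply hex
  have h3 : e = x⁻¹ := eq_inv_of_mul_eq_one_left this
  have xinv : x⁻¹ = x := by
    have := h2 x hx
    rw [pow_two] at this
    exact inv_eq_of_mul_eq_one_left this
  rw [h3, xinv]

theorem two_not_small (h : SP A B) (h2 : ∀ a ∈ A, a ^ 2 = 1) (hA : 3 < ENat.card A) (u : G) :
    ¬ (∀ w ∈ ⁅A, rankOneDiagonal A B⁆, w = 1 ∨ w = u) := by
  intro hU
  have inv_self : ∀ x ∈ A, x⁻¹ = x := by
    intro x hx
    have := h2 x hx
    rw [pow_two] at this
    exact inv_eq_of_mul_eq_one_left this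
  -- choose x
  have hx : ∃ x ∈ A, x ≠ 1 ∧ ∀ a' ∈ A, a' ≠ 1 → a' * x ∈ ⁅A, rankOneDiagonal A B⁆ → a' = x := by
    by_cases hex : ∃ w ∈ ⁅A, rankOneDiagonal A B⁆, w ≠ 1
    · obtain ⟨w, hw, hw1⟩ := hex
      have hwu : w = u := (hU w hw).resolve_left hw1
      subst hwu
      refine ⟨w, comm_le h hw, hw1, ?_⟩
      intro a' ha' ha'1 hm
      rcases hU _ hm with e1 | e1
      · have : a' = w⁻¹ := eq_inv_of_mul_eq_one_left e1
        rw [this, inv_self w (comm_le h hw)]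
      · exfalso
        apply ha'1
        exact mul_eq_right.mp e1
    · push Not at hex
      obtain ⟨x, hx, hx1⟩ := exists_ne_one_left h.pair
      refine ⟨x, hx, hx1, ?_⟩
      intro a' ha' _ hm
      have e1 := hex _ hm
      have : a' = x⁻¹ := eq_inv_of_mul_eq_one_left e1
      rw [this, inv_self x hx]
  obtain ⟨x, hx, hx1, hxU⟩ := hx
  obtain ⟨e, he1, he2, -⟩ := exists_avoid3 hA (1 : A) ⟨x, hx⟩ ⟨x, hx⟩
  have he1' : (e : G) ≠ 1 := fun hh => he1 (Subtype.ext hh)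
  have he2' : (e : G) ≠ x := fun hh => he2 (Subtype.ext hh)
  exact two_aux h h2 e.2 he1' hx hx1 he2' hxU

theorem two_card (h : SP A B) (h2 : ∀ a ∈ A, a ^ 2 = 1) (hA : 3 < ENat.card A) :
    3 < ENat.card ↥(⁅A, rankOneDiagonal A B⁆ : Subgroup G) := by
  have inv_self : ∀ x ∈ A, x⁻¹ = x := by
    intro x hx
    have := h2 x hx
    rw [pow_two] at this
    exact inv_eq_of_mul_eq_one_left this
  have h1 := two_not_small h h2 hA 1
  push Not at h1
  obtain ⟨u, hu, hu1, -⟩ := h1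
  have h3 := two_not_small h h2 hA u
  push Not at h3
  obtain ⟨v, hv, hv1, hvu⟩ := h3
  have huA := comm_le h hu
  have hvA := comm_le h hv
  refine card_gt3 (1 : ↥(⁅A, rankOneDiagonal A B⁆ : Subgroup G)) ⟨u, hu⟩ ⟨v, hv⟩
    ⟨u * v, mul_mem hu hv⟩ ?_ ?_ ?_ ?_ ?_ ?_
  · intro e; exact hu1 (congrArg Subtype.val e).symm
  · intro e; exact hv1 (congrArg Subtype.val e).symm
  · intro e
    have e' : (1 : G) = u * v := congrArg Subtype.val e
    apply hvu
    have : v = u⁻¹ := (eq_inv_of_mul_eq_one_right e'.symm)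
    rw [this, inv_self u huA]
  · intro e; exact hvu (congrArg Subtype.val e).symm
  · intro e
    have e' : u = u * v := congrArg Subtype.val e
    exact hv1 (mul_left_cancel (a := u) (by rw [mul_one]; exact e')).symm
  · intro e
    have e' : v = u * v := congrArg Subtype.val e
    exact hu1 (mul_right_cancel (b := v) (by rw [one_mul]; exact e')).symm

/-! ### exponent 3 -/

theorem chain3 (h : SP A B) {e w₀ : G} (he : e ∈ A) (he1 : e ≠ 1) (he3 : e ^ 3 = 1)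
    (hw : w₀ ∈ A)
    (hC : ∀ v ∈ ⁅A, rankOneDiagonal A B⁆, e * (v * w₀) ≠ 1 ∧ e * (v * w₀⁻¹) ≠ 1) :
    w₀ * w₀ ∈ ⁅A, rankOneDiagonal A B⁆ := by
  obtain ⟨b1, b2, b3⟩ := beta_spec h.pair he he1
  have hb3 : beta A B e ^ 3 = 1 := (beta_pow_eq_one h he he1 3).mp he3
  have s0 : e * w₀ ≠ 1 := by
    have := (hC 1 (one_mem _)).1
    rwa [one_mul] at this
  obtain ⟨w₁, hw₁, c1, v1, v1'⟩ := r1 h he he1 hw s0
  have s1 : e * w₁ ≠ 1 := by
    have := (hC _ v1).2
    have e1 : w₁ * w₀ * w₀⁻¹ = w₁ := by group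
    rwa [e1] at this
  obtain ⟨w₂, hw₂, c2, v2, v2'⟩ := r1 h he he1 hw₁ s1
  have hv : w₂ * w₀⁻¹ ∈ ⁅A, rankOneDiagonal A B⁆ := by
    have e1 : w₂ * w₀⁻¹ = (w₂ * w₁) * (w₀ * w₁)⁻¹ := by group
    rw [e1]
    exact mul_mem v2 (inv_mem v1')
  have s2 : e * w₂ ≠ 1 := by
    have := (hC _ hv).1
    have e1 : w₂ * w₀⁻¹ * w₀ = w₂ := by group
    rwa [e1] at this
  obtain ⟨w₃, hw₃, c3, v3, v3'⟩ := r1 h he he1 hw₂ s2
  have hw30 : w₃ = w₀ := by
    apply conjBy_right_inj h.pair hw₃ hw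
    rw [← c3, ← conjBy_conjBy, ← c2, ← conjBy_conjBy, ← c1, ← conjBy_conjBy, conjBy_conjBy,
      conjBy_conjBy, conjBy_conjBy]
    have e1 : beta A B e * beta A B e * beta A B e * w₀ = beta A B e ^ 3 * w₀ := by
      rw [pow_succ, pow_two]
    rw [e1, hb3, one_mul]
  rw [hw30] at v3'
  have e2 : w₀ * w₀ = (w₂ * w₀⁻¹)⁻¹ * (w₂ * w₀) := by group
  rw [e2]
  exact mul_mem (inv_mem hv) v3'

theorem three_card (h : SP A B) (h3 : ∀ a ∈ A, a ^ 3 = 1) (hA : 3 < ENat.card A) :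
    3 < ENat.card ↥(⁅A, rankOneDiagonal A B⁆ : Subgroup G) := by
  by_contra hU
  rw [not_lt] at hU
  -- an element outside `⁅A, H⁆`
  have hw : ∃ w₀ ∈ A, w₀ ∉ ⁅A, rankOneDiagonal A B⁆ := by
    by_contra hcon
    push Not at hcon
    have hle : A ≤ ⁅A, rankOneDiagonal A B⁆ := hcon
    have := ENat.card_le_card_of_injective (Subgroup.inclusion_injective hle)
    exact absurd (lt_of_lt_of_le hA (this.trans hU)) (lt_irrefl _)
  obtain ⟨w₀, hw₀, hw₀U⟩ := hw
  have hw₀inv : w₀⁻¹ ∉ ⁅A, rankOneDiagonal A B⁆ := fun hh => hw₀U (by simpa using inv_mem hh)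
  -- choice of `e`
  have he : ∃ e ∈ A, e ≠ 1 ∧
      ∀ v ∈ ⁅A, rankOneDiagonal A B⁆, e * (v * w₀) ≠ 1 ∧ e * (v * w₀⁻¹) ≠ 1 := by
    by_cases hbot : ∃ u ∈ ⁅A, rankOneDiagonal A B⁆, u ≠ 1
    · obtain ⟨u, hu, hu1⟩ := hbot
      refine ⟨u, comm_le h hu, hu1, ?_⟩
      intro v hv
      constructor
      · intro e1
        apply hw₀U
        have : w₀ = (u * v)⁻¹ := by
          rw [← mul_assoc] at e1
          exact eq_inv_of_mul_eq_one_right e1
        rw [this]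
        exact inv_mem (mul_mem hu hv)
      · intro e1
        apply hw₀inv
        have : w₀⁻¹ = (u * v)⁻¹ := by
          rw [← mul_assoc] at e1
          exact eq_inv_of_mul_eq_one_right e1
        rw [this]
        exact inv_mem (mul_mem hu hv)
    · push Not at hbot
      obtain ⟨e, he1, he2, he3⟩ := exists_avoid3 hA (1 : A) ⟨w₀, hw₀⟩ ⟨w₀⁻¹, inv_mem hw₀⟩
      have he1' : (e : G) ≠ 1 := fun hh => he1 (Subtype.ext hh)
      have he2' : (e : G) ≠ w₀ := fun hh => he2 (Subtype.ext hh)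
      have he3' : (e : G) ≠ w₀⁻¹ := fun hh => he3 (Subtype.ext hh)
      refine ⟨e, e.2, he1', ?_⟩
      intro v hv
      rw [hbot v hv, one_mul, one_mul]
      constructor
      · intro e1
        exact he3' (eq_inv_of_mul_eq_one_left e1)
      · intro e1
        apply he2'
        have := eq_inv_of_mul_eq_one_left e1
        rwa [inv_inv] at this
  obtain ⟨e, he, he1, hC⟩ := he
  have := chain3 h he he1 (h3 e he) hw₀ hC
  apply hw₀U
  have e4 : w₀ = (w₀ * w₀) * (w₀ * w₀) := by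
    have := h3 w₀ hw₀
    calc w₀ = w₀ ^ 3 * w₀ := by rw [this, one_mul]
      _ = (w₀ * w₀) * (w₀ * w₀) := by rw [pow_succ, pow_two]; group
  rw [e4]
  exact mul_mem this this

/-! ### the main estimate -/

theorem F5 (h : SP A B) (hA : 3 < ENat.card A) :
    3 < ENat.card ↥(⁅A, rankOneDiagonal A B⁆ : Subgroup G) := by
  by_cases hno : ∀ a ∈ A, a ≠ 1 → a ^ 2 ≠ 1 ∧ a ^ 3 ≠ 1
  · have hle := le_comm_of_no_torsion h hno
    exact lt_of_lt_of_le hA (ENat.card_le_card_of_injective (Subgroup.inclusion_injective hle))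
  · push Not at hno
    obtain ⟨a, ha, ha1, hor⟩ := hno
    have hfin : IsOfFinOrder a := by
      by_cases h2 : a ^ 2 = 1
      · exact isOfFinOrder_iff_pow_eq_one.mpr ⟨2, by norm_num, h2⟩
      · exact isOfFinOrder_iff_pow_eq_one.mpr ⟨3, by norm_num, hor h2⟩
    rcases main h with ⟨p, hp, hpA⟩ | ⟨htf, -⟩
    · have hord : orderOf a = p := by
        have hd : orderOf a ∣ p := orderOf_dvd_of_pow_eq_one (hpA a ha)
        rcases (Nat.dvd_prime hp).mp hd with e1 | e1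
        · exact absurd (orderOf_eq_one_iff.mp e1) ha1
        · exact e1
      by_cases h2 : a ^ 2 = 1
      · have hd : orderOf a ∣ 2 := orderOf_dvd_of_pow_eq_one h2
        rw [hord] at hd
        have hp2 : p = 2 := (Nat.prime_dvd_prime_iff_eq hp Nat.prime_two).mp hd
        subst hp2
        exact two_card h hpA hA
      · have hd : orderOf a ∣ 3 := orderOf_dvd_of_pow_eq_one (hor h2)
        rw [hord] at hd
        have hp3 : p = 3 := (Nat.prime_dvd_prime_iff_eq hp Nat.prime_three).mp hd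
        subst hp3
        exact three_card h hpA hA
    · exact absurd hfin (htf a ha ha1)

end Cfsg.Agent.Lib.Helper1.Ro
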