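import Cfsg.Agent.Lib.Helper1.Ro1

set_option autoImplicit false

/-!
# Special rank one groups: `X = X' A`, `X'` perfect; quasisimplicity criteria
-/

namespace Cfsg.Agent.Lib.Helper1.Ro

open Cfsg Cfsg.Agent.Lib.Helper4.RankOneGrp Cfsg.Agent.Lib.Lead.SpecialRankOne
open Cfsg.Agent.Lib.Helper4.RankOneGrp2

/-! ### general group theory -/

section general

variable {G : Type*} [Group G]

/-- if `G = N A` with `N` normal and `A` commutative, then `G' ≤ N` -/
theorem commutator_le_of_sup_top {N A : Subgroup G} [hN : N.Normal]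
    (hA : ∀ a ∈ A, ∀ a' ∈ A, a * a' = a' * a) (htop : N ⊔ A = ⊤) : commutator G ≤ N := by
  rw [commutator_def, Subgroup.commutator_le]
  intro g _ k _
  have hg : g ∈ N ⊔ A := by rw [htop]; exact Subgroup.mem_top g
  have hk : k ∈ N ⊔ A := by rw [htop]; exact Subgroup.mem_top k
  rw [Subgroup.mem_sup_of_normal_left] at hg hk
  obtain ⟨n, hn, a, ha, rfl⟩ := hg
  obtain ⟨n', hn', a', ha', rfl⟩ := hk
  rw [← QuotientGroup.eq_one_iff (N := N)]
  have e1 : ((n : G) : G ⧸ N) = 1 := (QuotientGroup.eq_one_iff n).mpr hn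
  have e2 : ((n' : G) : G ⧸ N) = 1 := (QuotientGroup.eq_one_iff n').mpr hn'
  have e3 : ((a * a' : G) : G ⧸ N) = ((a' * a : G) : G ⧸ N) := by rw [hA a ha a' ha']
  rw [commutatorElement_def]
  simp only [QuotientGroup.mk_mul, QuotientGroup.mk_inv, e1, e2, one_mul] at e3 ⊢
  rw [e3]
  group

/-- type-level criterion for quasisimplicity -/
theorem quasisimple_of_type {K : Type*} [Group K] (hperf : commutator K = ⊤)
    (hnt : ∃ x y : K, x * y ≠ y * x)
    (hN : ∀ N : Subgroup K, N.Normal → N ≤ Subgroup.center K ∨ N = ⊤) : IsQuasisimple K := by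
  refine ⟨Group.isPerfect_def.mpr hperf, ?_⟩
  have hnontriv : Nontrivial (K ⧸ Subgroup.center K) := by
    obtain ⟨x, y, hxy⟩ := hnt
    refine ⟨⟨(x : K ⧸ Subgroup.center K), 1, ?_⟩⟩
    intro e
    rw [QuotientGroup.eq_one_iff, Subgroup.mem_center_iff] at e
    exact hxy (e y).symm
  refine { toNontrivial := hnontriv, eq_bot_or_eq_top_of_normal := ?_ }
  intro H hH
  have hcomap : (H.comap (QuotientGroup.mk' (Subgroup.center K))).Normal := hH.comap _
  rcases hN _ hcomap with h1 | h1
  · left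
    rw [eq_bot_iff]
    intro x hx
    obtain ⟨y, rfl⟩ := QuotientGroup.mk_surjective x
    have hy : y ∈ H.comap (QuotientGroup.mk' (Subgroup.center K)) := hx
    rw [Subgroup.mem_bot, QuotientGroup.eq_one_iff]
    exact h1 hy
  · right
    rw [eq_top_iff]
    intro x _
    obtain ⟨y, rfl⟩ := QuotientGroup.mk_surjective x
    have hy : y ∈ H.comap (QuotientGroup.mk' (Subgroup.center K)) := by
      rw [h1]; exact Subgroup.mem_top y
    exact hy

/-- subgroup-level criterion for quasisimplicity -/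
theorem quasisimple_of_sub (K : Subgroup G) (hperf : ⁅K, K⁆ = K)
    (hnt : ∃ x ∈ K, ∃ y ∈ K, x * y ≠ y * x)
    (hM : ∀ M : Subgroup G, M ≤ K → (∀ k ∈ K, ∀ m ∈ M, k * m * k⁻¹ ∈ M) →
      (∀ m ∈ M, ∀ k ∈ K, m * k = k * m) ∨ K ≤ M) : IsQuasisimple ↥K := by
  apply quasisimple_of_type
  · have : Group.IsPerfect ↥K := Subgroup.isPerfect_iff.mpr hperf
    exact Group.isPerfect_def.mp this
  · obtain ⟨x, hx, y, hy, hxy⟩ := hnt
    refine ⟨⟨x, hx⟩, ⟨y, hy⟩, ?_⟩
    intro e
    exact hxy (congrArg Subtype.val e)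
  · intro N hN
    have h1 : N.map K.subtype ≤ K := Subgroup.map_subtype_le N
    have h2 : ∀ k ∈ K, ∀ m ∈ N.map K.subtype, k * m * k⁻¹ ∈ N.map K.subtype := by
      rintro k hk _ ⟨n, hn, rfl⟩
      exact ⟨⟨k, hk⟩ * n * ⟨k, hk⟩⁻¹, hN.conj_mem n hn ⟨k, hk⟩, rfl⟩
    rcases hM _ h1 h2 with h3 | h3
    · left
      intro n hn
      rw [Subgroup.mem_center_iff]
      intro g
      apply Subtype.ext
      exact (h3 n ⟨n, hn, rfl⟩ g g.2).symm
    · right
      rw [eq_top_iff]
      intro x _
      obtain ⟨n, hn, hnx⟩ := h3 x.2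
      have : n = x := Subtype.ext hnx
      rwa [← this]

end general

variable {G : Type*} [Group G] {A B : Subgroup G}

theorem exists_comm_ne_one (h : SP A B) (hA : 3 < ENat.card A) :
    ∃ u ∈ ⁅A, rankOneDiagonal A B⁆, u ≠ 1 := by
  obtain ⟨d, hd, -, -⟩ := exists_avoid3 (F5 h hA) 1 1 1
  exact ⟨d.1, d.2, fun e => hd (Subtype.ext e)⟩

/-- the commutator subgroup is not central -/
theorem comm_not_le_center (h : SP A B) : ¬ commutator G ≤ Subgroup.center G := by
  intro hle
  obtain ⟨b, hb, hb1⟩ := exists_ne_one_left (RankOnePair_symm h.pair)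
  obtain ⟨y, -, hy⟩ := right_mem_unipotent h.pair
  apply hb1
  apply eq_one_of_mem_normalizer (RankOnePair_symm h.pair) hb
  have hb' := hb
  rw [hy, mem_conjBy] at hb'
  have hz : y * (y⁻¹ * b * y) * y⁻¹ * (y⁻¹ * b * y)⁻¹ ∈ Subgroup.center G := by
    apply hle
    rw [commutator_def]
    exact Subgroup.commutator_mem_commutator (Subgroup.mem_top y) (Subgroup.mem_top _)
  have e1 : b = (y * (y⁻¹ * b * y) * y⁻¹ * (y⁻¹ * b * y)⁻¹) * (y⁻¹ * b * y) := by group
  rw [e1]
  exact mul_mem (Subgroup.center_le_normalizer _ hz) (Subgroup.le_normalizer hb')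

theorem comm_sup_top (h : SP A B) : commutator G ⊔ A = ⊤ := by
  rcases dichotomy h.top h.pair (commutator G) with h1 | h1
  · exact h1
  · exact absurd h1 (comm_not_le_center h)

/-- a normal subgroup `K` containing `⁅D, D⁆`-central...: elements of `X'` normalizing `A` are
central if `X''` is central -/
theorem central_of_normalizes (h : SP A B)
    (hD2 : ⁅commutator G, commutator G⁆ ≤ Subgroup.center G) {v : G} (hv : v ∈ commutator G)
    (hvA : v ∈ Subgroup.normalizer (A : Set G)) : v ∈ Subgroup.center G := by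
  have hK : (Subgroup.normalizer (A : Set G)).normalCore ≤ Subgroup.center G :=
    le_center_of_normalizes h.top h.pair _
      (fun n hn => conjBy_eq_self_iff.mpr (Subgroup.normalCore_le _ hn))
  apply hK
  intro g
  have hg : g ∈ A ⊔ commutator G := by
    rw [sup_comm, comm_sup_top h]; exact Subgroup.mem_top g
  rw [Subgroup.mem_sup_of_normal_right] at hg
  obtain ⟨a, ha, u, hu, rfl⟩ := hg
  have hz : u * v * u⁻¹ * v⁻¹ ∈ Subgroup.center G :=
    hD2 (Subgroup.commutator_mem_commutator hu hv)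
  have e1 : a * u * v * (a * u)⁻¹ = a * ((u * v * u⁻¹ * v⁻¹) * v) * a⁻¹ := by group
  rw [e1]
  have haN : a ∈ Subgroup.normalizer (A : Set G) := Subgroup.le_normalizer ha
  exact mul_mem (mul_mem haN (mul_mem (Subgroup.center_le_normalizer _ hz) hvA)) (inv_mem haN)

theorem comm_perfect (h : SP A B) (hA : 3 < ENat.card A) :
    ⁅commutator G, commutator G⁆ = commutator G := by
  have hle : ⁅commutator G, commutator G⁆ ≤ commutator G := Subgroup.commutator_le_left _ _
  rcases dichotomy h.top h.pair ⁅commutator G, commutator G⁆ with h1 | h1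
  · exact le_antisymm hle (commutator_le_of_sup_top h.commA h1)
  · exfalso
    obtain ⟨u, hu, hu1⟩ := exists_comm_ne_one h hA
    have hcen : ∀ g ∈ rankOneDiagonal A B, g ∈ Subgroup.center G := by
      intro g hg
      have hgN := (mem_diag h).mp hg
      have hg' : g ∈ commutator G ⊔ A := by rw [comm_sup_top h]; exact Subgroup.mem_top g
      rw [Subgroup.mem_sup_of_normal_left] at hg'
      obtain ⟨x, hx, a, ha, hxa⟩ := hg'
      have hxg : x = g * a⁻¹ := by rw [← hxa]; group
      have hxN : x ∈ Subgroup.normalizer (A : Set G) := by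
        rw [hxg]
        exact mul_mem (conjBy_eq_self_iff.mp hgN.1) (Subgroup.le_normalizer (inv_mem ha))
      have hxc := central_of_normalizes h h1 hx hxN
      have haN : a ∈ Subgroup.normalizer (B : Set G) := by
        have : a = x⁻¹ * g := by rw [← hxa]; group
        rw [this]
        exact mul_mem (inv_mem (Subgroup.center_le_normalizer _ hxc)) (conjBy_eq_self_iff.mp hgN.2)
      have ha1 := eq_one_of_mem_normalizer h.pair ha haN
      rw [ha1, mul_one] at hxa
      rw [← hxa]
      exact hxc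
    have hbot : ⁅A, rankOneDiagonal A B⁆ = ⊥ := by
      rw [Subgroup.commutator_eq_bot_iff_le_centralizer]
      intro a _
      rw [Subgroup.mem_centralizer_iff]
      intro g hg
      exact (Subgroup.mem_center_iff.mp (hcen g hg) a).symm
    rw [hbot, Subgroup.mem_bot] at hu
    exact hu1 hu

end Cfsg.Agent.Lib.Helper1.Ro
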