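import Cfsg.Agent.Lib.Helper1.Ro2
import Cfsg.Agent.Lib.Helper4.RankOneSub

set_option autoImplicit false

/-!
# Special rank one groups: `X'` is quasisimple
-/

namespace Cfsg.Agent.Lib.Helper1.Ro

open Cfsg Cfsg.Agent.Lib.Helper4.RankOneGrp Cfsg.Agent.Lib.Lead.SpecialRankOne
open Cfsg.Agent.Lib.Helper4.RankOneGrp2 Cfsg.Agent.Lib.Helper4.RootSub2
open Cfsg.Agent.Lib.Helper4.RankOneSub

section general

variable {G : Type*} [Group G]

theorem conjBy_inf_normal (A D : Subgroup G) [hD : D.Normal] (g : G) :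
    conjBy (A ⊓ D) g = conjBy A g ⊓ D := by
  ext x
  rw [mem_conjBy, Subgroup.mem_inf, Subgroup.mem_inf, mem_conjBy]
  constructor
  · rintro ⟨h1, h2⟩
    refine ⟨h1, ?_⟩
    have := hD.conj_mem _ h2 g
    have e : g * (g⁻¹ * x * g) * g⁻¹ = x := by group
    rwa [e] at this
  · rintro ⟨h1, h2⟩
    refine ⟨h1, ?_⟩
    have := hD.conj_mem _ h2 g⁻¹
    rwa [inv_inv] at this

theorem conjBy_normal (D : Subgroup G) [hD : D.Normal] (g : G) : conjBy D g = D :=
  conjBy_eq_self_iff.mpr (by rw [Subgroup.normalizer_eq_top]; exact Subgroup.mem_top g)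

/-- a special rank one pair inside a bigger group gives a special rank one group on the subtype -/
theorem SP_sub {A B : Subgroup G} (hp : IsRankOnePair A B)
    (hspec : ∀ a ∈ A, a ≠ 1 → ∀ b ∈ B, b ≠ 1 → conjBy A b⁻¹ = conjBy B a⁻¹ →
      b⁻¹ * a * b = a⁻¹ * b⁻¹ * a)
    (hA : ∀ a ∈ A, ∀ a' ∈ A, a * a' = a' * a) (hB : ∀ b ∈ B, ∀ b' ∈ B, b * b' = b' * b) :
    SP (A.subgroupOf (A ⊔ B)) (B.subgroupOf (A ⊔ B)) := by
  have hR := isRankOneGroup_sup hp
  refine ⟨hR.1, hR.2, ?_, ?_, ?_⟩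
  · intro a ha ha1 b hb hb1 hc
    rw [Subgroup.mem_subgroupOf] at ha hb
    have ha1' : (a : G) ≠ 1 := fun e => ha1 (Subtype.ext e)
    have hb1' : (b : G) ≠ 1 := fun e => hb1 (Subtype.ext e)
    have hc' : conjBy A (b : G)⁻¹ = conjBy B (a : G)⁻¹ := by
      ext x
      constructor
      · intro hx
        have hxY : x ∈ A ⊔ B := conjBy_le_of_mem le_sup_left (inv_mem b.2) hx
        have h1 : (⟨x, hxY⟩ : ↥(A ⊔ B)) ∈ conjBy (A.subgroupOf (A ⊔ B)) b⁻¹ :=
          mem_conjBy_subgroupOf.mpr hx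
        rw [hc] at h1
        exact mem_conjBy_subgroupOf.mp h1
      · intro hx
        have hxY : x ∈ A ⊔ B := conjBy_le_of_mem le_sup_right (inv_mem a.2) hx
        have h1 : (⟨x, hxY⟩ : ↥(A ⊔ B)) ∈ conjBy (B.subgroupOf (A ⊔ B)) a⁻¹ :=
          mem_conjBy_subgroupOf.mpr hx
        rw [← hc] at h1
        exact mem_conjBy_subgroupOf.mp h1
    exact Subtype.ext (hspec a ha ha1' b hb hb1' hc')
  · intro a ha a' ha'
    rw [Subgroup.mem_subgroupOf] at ha ha'
    exact Subtype.ext (hA a ha a' ha')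
  · intro b hb b' hb'
    rw [Subgroup.mem_subgroupOf] at hb hb'
    exact Subtype.ext (hB b hb b' hb')

end general

variable {G : Type*} [Group G] {A B : Subgroup G}

theorem comm_le_comm : ⁅A, rankOneDiagonal A B⁆ ≤ commutator G := by
  rw [commutator_def]
  exact Subgroup.commutator_mono le_top le_top

theorem beta_mem_comm (h : SP A B) {x : G} (hx : x ∈ A) (hx1 : x ≠ 1)
    (hxD : x ∈ commutator G) : beta A B x ∈ commutator G := by
  obtain ⟨b1, b2, b3⟩ := beta_spec h.pair hx hx1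
  have e := nn_conj_x h hx hx1 b1 b2 b3
  have hc : nn x (beta A B x) * x * (nn x (beta A B x))⁻¹ * x⁻¹ ∈ commutator G := by
    rw [commutator_def]
    exact Subgroup.commutator_mem_commutator (Subgroup.mem_top _) (Subgroup.mem_top _)
  rw [e] at hc
  have h1 := mul_mem hc hxD
  rw [inv_mul_cancel_right] at h1
  exact inv_mem_iff.mp h1

theorem sub_cond (h : SP A B) : RankOneCondition (A ⊓ commutator G) (B ⊓ commutator G) := by
  intro a ha ha1
  have hai : a⁻¹ ∈ A := inv_mem ha.1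
  have hai1 : a⁻¹ ≠ 1 := inv_ne_one.mpr ha1
  obtain ⟨b1, b2, b3⟩ := beta_spec h.pair hai hai1
  have hbD := beta_mem_comm h hai hai1 (inv_mem ha.2)
  refine ⟨(beta A B a⁻¹)⁻¹, Subgroup.mem_inf.mpr ⟨inv_mem b1, inv_mem hbD⟩, inv_ne_one.mpr b2, ?_⟩
  rw [inv_inv, conjBy_inf_normal, conjBy_inf_normal, b3]

theorem sub_pair (h : SP A B) (hA : 3 < ENat.card A) :
    IsRankOnePair (A ⊓ commutator G) (B ⊓ commutator G) := by
  refine ⟨?_, ?_, ?_, sub_cond h, sub_cond h.symm⟩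
  · intro e
    obtain ⟨u, hu, hu1⟩ := exists_comm_ne_one h hA
    have huA : u ∈ A ⊓ commutator G := ⟨comm_le h hu, comm_le_comm hu⟩
    have huB : u ∈ B ⊓ commutator G := by rw [← e]; exact huA
    exact hu1 (inf_eq_one h.pair huA.1 huB.1)
  · have := h.pair.nilpotent_left
    exact Group.nilpotent_of_mulEquiv
      (Subgroup.subgroupOfEquivOfLe (inf_le_left : A ⊓ commutator G ≤ A))
  · have := h.pair.nilpotent_right
    exact Group.nilpotent_of_mulEquiv
      (Subgroup.subgroupOfEquivOfLe (inf_le_left : B ⊓ commutator G ≤ B))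

theorem sub_spec (h : SP A B) : ∀ a ∈ A ⊓ commutator G, a ≠ 1 → ∀ b ∈ B ⊓ commutator G, b ≠ 1 →
    conjBy (A ⊓ commutator G) b⁻¹ = conjBy (B ⊓ commutator G) a⁻¹ →
    b⁻¹ * a * b = a⁻¹ * b⁻¹ * a := by
  intro a ha ha1 b hb hb1 hc
  apply h.spec a ha.1 ha1 b hb.1 hb1
  have hz : b⁻¹ * a * b ∈ conjBy B a⁻¹ := by
    have h1 : b⁻¹ * a * b⁻¹⁻¹ ∈ conjBy (A ⊓ commutator G) b⁻¹ := conj_mem_conjBy ha
    rw [inv_inv, hc] at h1
    exact conjBy_mono inf_le_left _ h1
  have hmem : a ∈ conjBy B (b * a⁻¹) := by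
    rw [mem_conjBy] at hz ⊢
    have e1 : (b * a⁻¹)⁻¹ * a * (b * a⁻¹) = a⁻¹⁻¹ * (b⁻¹ * a * b) * a⁻¹ := by group
    rw [e1]
    exact hz
  have h2 := ti_right h.symm ha.1 ha1 hmem
  rw [← conjBy_conjBy, conjBy_eq_iff] at h2
  exact h2.symm

theorem main_step (h : SP A B) (hA : 3 < ENat.card A) {M : Subgroup G}
    (hMn : ∀ k ∈ commutator G, ∀ m ∈ M, k * m * k⁻¹ ∈ M) {m : G} (hm : m ∈ M)
    (hmA : conjBy A m = B) : commutator G ≤ M := by
  have hp₀ := sub_pair h hA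
  have h₁ := SP_sub hp₀ (sub_spec h)
    (fun a ha a' ha' => h.commA a ha.1 a' ha'.1) (fun b hb b' hb' => h.commB b hb.1 b' hb'.1)
  have hY : (A ⊓ commutator G) ⊔ (B ⊓ commutator G) ≤ commutator G :=
    sup_le inf_le_right inf_le_right
  -- the normal subgroup `M ∩ Y` of `Y`
  have hM₁ : (M.subgroupOf ((A ⊓ commutator G) ⊔ (B ⊓ commutator G))).Normal := by
    refine ⟨fun n hn g => ?_⟩
    rw [Subgroup.mem_subgroupOf] at hn ⊢
    exact hMn g (hY g.2) n hn
  obtain ⟨x₀, hx₀, hx₀1⟩ := exists_ne_one_left hp₀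
  have hb' : m * x₀⁻¹ * m⁻¹ ∈ B ⊓ commutator G := by
    have h1 : m * x₀⁻¹ * m⁻¹ ∈ conjBy (A ⊓ commutator G) m := conj_mem_conjBy (inv_mem hx₀)
    rwa [conjBy_inf_normal, hmA] at h1
  have hb'1 : m * x₀⁻¹ * m⁻¹ ≠ 1 := by
    intro e
    apply hx₀1
    have : x₀⁻¹ = 1 := by
      calc x₀⁻¹ = m⁻¹ * (m * x₀⁻¹ * m⁻¹) * m := by group
        _ = 1 := by rw [e]; group
    exact inv_eq_one.mp this
  have hcM : x₀ * (m * x₀⁻¹ * m⁻¹) ∈ M := by
    have e1 : x₀ * (m * x₀⁻¹ * m⁻¹) = (x₀ * m * x₀⁻¹) * m⁻¹ := by group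
    rw [e1]
    exact mul_mem (hMn x₀ hx₀.2 m hm) (inv_mem hm)
  have hx₀Y : x₀ ∈ (A ⊓ commutator G) ⊔ (B ⊓ commutator G) := Subgroup.mem_sup_left hx₀
  have hb'Y : m * x₀⁻¹ * m⁻¹ ∈ (A ⊓ commutator G) ⊔ (B ⊓ commutator G) :=
    Subgroup.mem_sup_right hb'
  -- the element `c₁` of `M ∩ Y` moving `A₁`
  have hmove : conjBy ((A ⊓ commutator G).subgroupOf ((A ⊓ commutator G) ⊔ (B ⊓ commutator G)))
      ((⟨x₀, hx₀Y⟩ : ↥((A ⊓ commutator G) ⊔ (B ⊓ commutator G))) * ⟨m * x₀⁻¹ * m⁻¹, hb'Y⟩) ≠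
      (A ⊓ commutator G).subgroupOf ((A ⊓ commutator G) ⊔ (B ⊓ commutator G)) := by
    intro e
    have hx₁ : (⟨x₀, hx₀Y⟩ : ↥((A ⊓ commutator G) ⊔ (B ⊓ commutator G))) ∈
        (A ⊓ commutator G).subgroupOf ((A ⊓ commutator G) ⊔ (B ⊓ commutator G)) := by
      rw [Subgroup.mem_subgroupOf]; exact hx₀
    have hb₁ : (⟨m * x₀⁻¹ * m⁻¹, hb'Y⟩ : ↥((A ⊓ commutator G) ⊔ (B ⊓ commutator G))) ∈
        (B ⊓ commutator G).subgroupOf ((A ⊓ commutator G) ⊔ (B ⊓ commutator G)) := by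
      rw [Subgroup.mem_subgroupOf]; exact hb'
    rw [← conjBy_conjBy, conjBy_eq_iff, conjBy_of_mem (inv_mem hx₁)] at e
    have h2 := eq_one_of_mem_normalizer (RankOnePair_symm h₁.pair) hb₁ (conjBy_eq_self_iff.mp e)
    exact hb'1 (congrArg Subtype.val h2)
  have hc₁ : ((⟨x₀, hx₀Y⟩ : ↥((A ⊓ commutator G) ⊔ (B ⊓ commutator G))) *
      ⟨m * x₀⁻¹ * m⁻¹, hb'Y⟩) ∈ M.subgroupOf ((A ⊓ commutator G) ⊔ (B ⊓ commutator G)) := by
    rw [Subgroup.mem_subgroupOf]; exact hcM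
  have htop₁ := sup_eq_top_of_moves h₁.top h₁.pair _ hc₁ hmove
  have hcomm₁ := commutator_le_of_sup_top h₁.commA htop₁
  -- `⁅A₁, H₁⁆ ≠ 1`
  have hA₁ : 3 < ENat.card
      ↥((A ⊓ commutator G).subgroupOf ((A ⊓ commutator G) ⊔ (B ⊓ commutator G))) := by
    have hmemA : ∀ u : ↥(⁅A, rankOneDiagonal A B⁆ : Subgroup G), (u : G) ∈ A ⊓ commutator G :=
      fun u => ⟨comm_le h u.2, comm_le_comm u.2⟩
    have hinj : Function.Injective
        (fun u : ↥(⁅A, rankOneDiagonal A B⁆ : Subgroup G) =>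
          (⟨⟨(u : G), Subgroup.mem_sup_left (hmemA u)⟩, by
            rw [Subgroup.mem_subgroupOf]; exact hmemA u⟩ :
            ↥((A ⊓ commutator G).subgroupOf ((A ⊓ commutator G) ⊔ (B ⊓ commutator G))))) := by
      intro u v huv
      apply Subtype.ext
      exact congrArg (fun w : ↥((A ⊓ commutator G).subgroupOf
        ((A ⊓ commutator G) ⊔ (B ⊓ commutator G))) => ((w : ↥((A ⊓ commutator G) ⊔
          (B ⊓ commutator G))) : G)) huv
    exact lt_of_lt_of_le (F5 h hA) (ENat.card_le_card_of_injective hinj)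
  obtain ⟨u₁, hu₁, hu₁1⟩ := exists_comm_ne_one h₁ hA₁
  have hu₁M : (u₁ : G) ∈ M := by
    have := hcomm₁ (comm_le_comm hu₁)
    rwa [Subgroup.mem_subgroupOf] at this
  have hu₁A : (u₁ : G) ∈ A := by
    have := comm_le h₁ hu₁
    rw [Subgroup.mem_subgroupOf] at this
    exact this.1
  have hu₁1' : (u₁ : G) ≠ 1 := fun e => hu₁1 (Subtype.ext e)
  -- the normal core of `M`
  have hcore : (u₁ : G) ∈ M.normalCore := by
    intro g
    have hg : g ∈ commutator G ⊔ A := by rw [comm_sup_top h]; exact Subgroup.mem_top g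
    rw [Subgroup.mem_sup_of_normal_left] at hg
    obtain ⟨k, hk, a, ha, rfl⟩ := hg
    have e1 : k * a * (u₁ : G) * (k * a)⁻¹ = k * (a * (u₁ : G) * a⁻¹) * k⁻¹ := by group
    rw [e1, h.commA a ha _ hu₁A, mul_inv_cancel_right]
    exact hMn k hk _ hu₁M
  rcases dichotomy h.top h.pair M.normalCore with h2 | h2
  · exact (commutator_le_of_sup_top h.commA h2).trans (Subgroup.normalCore_le M)
  · exfalso
    apply hu₁1'
    exact eq_one_of_mem_normalizer h.pair hu₁A (Subgroup.center_le_normalizer _ (h2 hcore))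

theorem comm_simple (h : SP A B) (hA : 3 < ENat.card A) {M : Subgroup G}
    (hMD : M ≤ commutator G) (hMn : ∀ k ∈ commutator G, ∀ m ∈ M, k * m * k⁻¹ ∈ M)
    (hnc : ¬ ∀ m ∈ M, ∀ k ∈ commutator G, m * k = k * m) : commutator G ≤ M := by
  -- some element of `M` moves `A`
  have hex : ∃ m ∈ M, conjBy A m ≠ A := by
    by_contra hcon
    push Not at hcon
    apply hnc
    have hK : (Subgroup.normalizer (A : Set G)).normalCore ≤ Subgroup.center G :=
      le_center_of_normalizes h.top h.pair _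
        (fun n hn => conjBy_eq_self_iff.mpr (Subgroup.normalCore_le _ hn))
    intro m hm k _
    have hmK : m ∈ (Subgroup.normalizer (A : Set G)).normalCore := by
      intro g
      have hg : g ∈ A ⊔ commutator G := by
        rw [sup_comm, comm_sup_top h]; exact Subgroup.mem_top g
      rw [Subgroup.mem_sup_of_normal_right] at hg
      obtain ⟨a, ha, u, hu, rfl⟩ := hg
      have e1 : a * u * m * (a * u)⁻¹ = a * (u * m * u⁻¹) * a⁻¹ := by group
      rw [e1]
      have haN : a ∈ Subgroup.normalizer (A : Set G) := Subgroup.le_normalizer ha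
      exact mul_mem (mul_mem haN (conjBy_eq_self_iff.mp (hcon _ (hMn u hu m hm)))) (inv_mem haN)
    exact (Subgroup.mem_center_iff.mp (hK hmK) k).symm
  obtain ⟨m, hm, hne⟩ := hex
  have hC : conjBy A m ∈ unipotentSubgroups A B :=
    ⟨m, by rw [h.top]; exact Subgroup.mem_top m, rfl⟩
  obtain ⟨x, -, hxA, hxB⟩ := move_to_AB h.pair left_mem_unipotent hC (Ne.symm hne)
  have hxA' : conjBy A x⁻¹ = A := (conjBy_eq_iff.mp hxA).symm
  -- the conjugate of `M`
  have hm' : x * m * x⁻¹ ∈ conjBy M x := conj_mem_conjBy hm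
  have hmA' : conjBy A (x * m * x⁻¹) = B := by
    rw [← conjBy_conjBy, hxA', ← conjBy_conjBy, hxB]
  have hMn' : ∀ k ∈ commutator G, ∀ m' ∈ conjBy M x, k * m' * k⁻¹ ∈ conjBy M x := by
    intro k hk m' hm'
    rw [mem_conjBy] at hm' ⊢
    have hk' : x⁻¹ * k * x ∈ commutator G := by
      have := (inferInstance : (commutator G).Normal).conj_mem k hk x⁻¹
      rwa [inv_inv] at this
    have e1 : x⁻¹ * (k * m' * k⁻¹) * x = (x⁻¹ * k * x) * (x⁻¹ * m' * x) * (x⁻¹ * k * x)⁻¹ := by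
      group
    rw [e1]
    exact hMn _ hk' _ hm'
  have hle := main_step h hA hMn' hm' hmA'
  intro d hd
  have hd' : x * d * x⁻¹ ∈ commutator G :=
    (inferInstance : (commutator G).Normal).conj_mem d hd x
  have := hle hd'
  rw [mem_conjBy] at this
  have e2 : x⁻¹ * (x * d * x⁻¹) * x = d := by group
  rwa [e2] at this

theorem comm_quasisimple (h : SP A B) (hA : 3 < ENat.card A) :
    IsQuasisimple ↥(commutator G) := by
  apply quasisimple_of_sub (commutator G) (comm_perfect h hA)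
  · by_contra hcon
    push Not at hcon
    have h1 : ⁅commutator G, commutator G⁆ = ⊥ := by
      rw [Subgroup.commutator_eq_bot_iff_le_centralizer]
      intro a ha
      rw [Subgroup.mem_centralizer_iff]
      intro g hg
      exact hcon g hg a ha
    rw [comm_perfect h hA] at h1
    exact comm_not_le_center h (by rw [h1]; exact bot_le)
  · intro M hMD hMn
    by_cases hc : ∀ m ∈ M, ∀ k ∈ commutator G, m * k = k * m
    · left; exact hc
    · right; exact comm_simple h hA hMD hMn hc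

end Cfsg.Agent.Lib.Helper1.Ro
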