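import Cfsg.Agent.Lib.Helper1.Ro3
import Cfsg.Agent.Lib.Lead.St2F

set_option autoImplicit false

/-!
# Special rank one groups: the small cases `|A| ≤ 3`
-/

namespace Cfsg.Agent.Lib.Helper1.Ro

open Cfsg Cfsg.Agent.Lib.Helper4.RankOneGrp Cfsg.Agent.Lib.Lead.SpecialRankOne

variable {G : Type*} [Group G] {A B : Subgroup G}

theorem small_gen (h : SP A B) {p : ℕ} [Fact p.Prime] (hcard : Nat.card A = p) :
    Nonempty (G ≃* Matrix.SpecialLinearGroup (Fin 2) (ZMod p)) ∨
      Nonempty (G ≃* Matrix.ProjectiveSpecialLinearGroup (Fin 2) (ZMod p)) := by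
  obtain ⟨a, ha, ha1⟩ := exists_ne_one_left h.pair
  have hap : a ^ p = 1 := by
    have h1 : (⟨a, ha⟩ : ↥A) ^ Nat.card ↥A = 1 := pow_card_eq_one'
    rw [hcard] at h1
    exact congrArg Subtype.val h1
  have hz : Subgroup.zpowers (⟨a, ha⟩ : ↥A) = ⊤ :=
    zpowers_eq_top_of_prime_card hcard (fun e => ha1 (congrArg Subtype.val e))
  obtain ⟨b1, b2, b3⟩ := beta_spec h.pair ha ha1
  have hamem : a ∈ Subgroup.closure ({a, beta A B a} : Set G) :=
    Subgroup.subset_closure (by simp)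
  have hbmem : beta A B a ∈ Subgroup.closure ({a, beta A B a} : Set G) :=
    Subgroup.subset_closure (by simp)
  have hAle : A ≤ Subgroup.closure ({a, beta A B a} : Set G) := by
    intro x hx
    have h1 : (⟨x, hx⟩ : ↥A) ∈ Subgroup.zpowers (⟨a, ha⟩ : ↥A) := by
      rw [hz]; exact Subgroup.mem_top _
    obtain ⟨k, hk⟩ := Subgroup.mem_zpowers_iff.mp h1
    have h2 : a ^ k = x := by
      have := congrArg Subtype.val hk
      simpa using this
    rw [← h2]
    exact zpow_mem hamem k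
  have hnmem : nu A B a ∈ Subgroup.closure ({a, beta A B a} : Set G) := by
    unfold nu nn
    exact mul_mem (mul_mem (inv_mem hamem) hbmem) (inv_mem hamem)
  have hBle : B ≤ Subgroup.closure ({a, beta A B a} : Set G) := by
    intro b hb
    rw [← nu_A h ha ha1, mem_conjBy] at hb
    have e1 : b = nu A B a * ((nu A B a)⁻¹ * b * nu A B a) * (nu A B a)⁻¹ := by group
    rw [e1]
    exact mul_mem (mul_mem hnmem (hAle hb)) (inv_mem hnmem)
  have hcl : Subgroup.closure ({a, beta A B a} : Set G) = ⊤ := by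
    rw [eq_top_iff, ← h.top]
    exact sup_le hAle hBle
  have e : G ≃* ↥(Subgroup.closure ({a, beta A B a} : Set G)) :=
    Subgroup.topEquiv.symm.trans (MulEquiv.subgroupCongr hcl.symm)
  rcases Cfsg.Agent.Lib.Lead.St2F.main_sl2 h ha ha1 hap with hf | hf
  · obtain ⟨f⟩ := hf
    exact Or.inl ⟨e.trans f⟩
  · obtain ⟨f⟩ := hf
    exact Or.inr ⟨e.trans f⟩

theorem center_sl2_two :
    Subgroup.center (Matrix.SpecialLinearGroup (Fin 2) (ZMod 2)) = ⊥ := by
  rw [eq_bot_iff]
  intro M hM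
  rw [Matrix.SpecialLinearGroup.mem_center_iff] at hM
  obtain ⟨r, hr, hM⟩ := hM
  rw [Subgroup.mem_bot]
  have key : ∀ r : ZMod 2, r ^ Fintype.card (Fin 2) = 1 → r = 1 := by decide
  have hr1 : r = 1 := key r hr
  apply Subtype.ext
  rw [← hM, hr1]
  simp

theorem small_case (h : SP A B) (hA : ENat.card A ≤ 3) :
    Nonempty (G ≃* Matrix.SpecialLinearGroup (Fin 2) (ZMod 2)) ∨
      Nonempty (G ≃* Matrix.SpecialLinearGroup (Fin 2) (ZMod 3)) ∨
      Nonempty (G ≃* Matrix.ProjectiveSpecialLinearGroup (Fin 2) (ZMod 3)) := by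
  have hfin : Finite ↥A := by
    rw [← ENat.card_lt_top]
    exact lt_of_le_of_lt hA (by exact ENat.coe_lt_top 3)
  have hle : Nat.card ↥A ≤ 3 := by
    rw [ENat.card_eq_coe_natCard] at hA
    exact_mod_cast hA
  have hnt : Nontrivial ↥A := by
    obtain ⟨a, ha, ha1⟩ := exists_ne_one_left h.pair
    exact ⟨⟨⟨a, ha⟩, 1, fun e => ha1 (congrArg Subtype.val e)⟩⟩
  have hlt : 1 < Nat.card ↥A := Finite.one_lt_card
  have hcases : Nat.card ↥A = 2 ∨ Nat.card ↥A = 3 := by omega
  rcases hcases with h2 | h3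
  · haveI : Fact (Nat.Prime 2) := ⟨Nat.prime_two⟩
    rcases small_gen h h2 with hf | hf
    · exact Or.inl hf
    · left
      obtain ⟨f⟩ := hf
      refine ⟨f.trans ?_⟩
      exact (QuotientGroup.quotientMulEquivOfEq center_sl2_two).trans QuotientGroup.quotientBot
  · haveI : Fact (Nat.Prime 3) := ⟨Nat.prime_three⟩
    rcases small_gen h h3 with hf | hf
    · exact Or.inr (Or.inl hf)
    · exact Or.inr (Or.inr hf)

end Cfsg.Agent.Lib.Helper1.Ro
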