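import Cfsg.Agent.Lib.Helper1.Ro3

set_option autoImplicit false

/-!
# Special rank one groups: further consequences used for root subgroup sets
-/

namespace Cfsg.Agent.Lib.Helper1.Ro

open Cfsg Cfsg.Agent.Lib.Helper4.RankOneGrp Cfsg.Agent.Lib.Lead.SpecialRankOne
open Cfsg.Agent.Lib.Helper4.RankOneGrp2

section general

variable {G : Type*} [Group G]

/-- if `z` normalizes the perfect subgroup `D` and all commutators `⁅z, k⁆`, `k ∈ D`, centralize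
`D`, then `z` centralizes `D` -/
theorem centralizes_of_comm_central {D : Subgroup G} (hperf : ⁅D, D⁆ = D) {z : G}
    (hzD : ∀ k ∈ D, z * k * z⁻¹ ∈ D)
    (hc : ∀ k ∈ D, ∀ k' ∈ D, (z * k * z⁻¹ * k⁻¹) * k' = k' * (z * k * z⁻¹ * k⁻¹)) :
    ∀ k ∈ D, z * k = k * z := by
  have hle : ⁅D, D⁆ ≤ Subgroup.centralizer {z} := by
    rw [Subgroup.commutator_le]
    intro x₁ hx₁ x₂ hx₂
    rw [Subgroup.mem_centralizer_singleton_iff, commutatorElement_def]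
    have hc₂D : z * x₂ * z⁻¹ * x₂⁻¹ ∈ D := mul_mem (hzD x₂ hx₂) (inv_mem hx₂)
    have hw'D : x₁ * (z * x₂ * z⁻¹ * x₂⁻¹) * x₂ * x₁⁻¹ ∈ D :=
      mul_mem (mul_mem (mul_mem hx₁ hc₂D) hx₂) (inv_mem hx₁)
    have huD : x₂ * x₁⁻¹ * x₂⁻¹ ∈ D := mul_mem (mul_mem hx₂ (inv_mem hx₁)) (inv_mem hx₂)
    have H1 := hc x₁ hx₁ _ hw'D
    have H2 := hc x₂ hx₂ _ huD
    have H1' : (z * x₁ * z⁻¹ * x₁⁻¹) * (x₁ * (z * x₂ * z⁻¹ * x₂⁻¹) * x₂ * x₁⁻¹) *
        (z * x₁ * z⁻¹ * x₁⁻¹)⁻¹ = x₁ * (z * x₂ * z⁻¹ * x₂⁻¹) * x₂ * x₁⁻¹ := by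
      rw [H1, mul_inv_cancel_right]
    have H2' : (z * x₂ * z⁻¹ * x₂⁻¹) * (x₂ * x₁⁻¹ * x₂⁻¹) * (z * x₂ * z⁻¹ * x₂⁻¹)⁻¹ =
        x₂ * x₁⁻¹ * x₂⁻¹ := by
      rw [H2, mul_inv_cancel_right]
    have F : z * (x₁ * x₂ * x₁⁻¹ * x₂⁻¹) * z⁻¹ =
        ((z * x₁ * z⁻¹ * x₁⁻¹) * (x₁ * (z * x₂ * z⁻¹ * x₂⁻¹) * x₂ * x₁⁻¹) *
          (z * x₁ * z⁻¹ * x₁⁻¹)⁻¹) * x₂⁻¹ * (z * x₂ * z⁻¹ * x₂⁻¹)⁻¹ := by group
    have F2 : (x₁ * (z * x₂ * z⁻¹ * x₂⁻¹) * x₂ * x₁⁻¹) * x₂⁻¹ * (z * x₂ * z⁻¹ * x₂⁻¹)⁻¹ =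
        x₁ * ((z * x₂ * z⁻¹ * x₂⁻¹) * (x₂ * x₁⁻¹ * x₂⁻¹) * (z * x₂ * z⁻¹ * x₂⁻¹)⁻¹) := by group
    have F3 : x₁ * (x₂ * x₁⁻¹ * x₂⁻¹) = x₁ * x₂ * x₁⁻¹ * x₂⁻¹ := by group
    have key : z * (x₁ * x₂ * x₁⁻¹ * x₂⁻¹) * z⁻¹ = x₁ * x₂ * x₁⁻¹ * x₂⁻¹ := by
      rw [F, H1', F2, H2', F3]
    calc x₁ * x₂ * x₁⁻¹ * x₂⁻¹ * z = (z * (x₁ * x₂ * x₁⁻¹ * x₂⁻¹) * z⁻¹) * z := by rw [key]
      _ = z * (x₁ * x₂ * x₁⁻¹ * x₂⁻¹) := by group
  intro k hk
  have hk' : k ∈ ⁅D, D⁆ := by rw [hperf]; exact hk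
  have := hle hk'
  rw [Subgroup.mem_centralizer_singleton_iff] at this
  exact this.symm

end general

variable {G : Type*} [Group G] {A B : Subgroup G}

/-- the centralizer of `X'` in `X` is the centre -/
theorem central_of_centralizes_comm (h : SP A B) (hA : 3 < ENat.card A) {z : G}
    (hz : ∀ k ∈ commutator G, z * k = k * z) : z ∈ Subgroup.center G := by
  have hK : (Subgroup.normalizer (A : Set G)).normalCore ≤ Subgroup.center G :=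
    le_center_of_normalizes h.top h.pair _
      (fun n hn => conjBy_eq_self_iff.mpr (Subgroup.normalCore_le _ hn))
  apply hK
  intro g
  obtain ⟨u, hu, hu1⟩ := exists_comm_ne_one h hA
  have huA := comm_le h hu
  have huD : u ∈ commutator G := comm_le_comm hu
  -- `g z g⁻¹` centralizes `u`
  have hcu : (g * z * g⁻¹) * u = u * (g * z * g⁻¹) := by
    have h1 : g⁻¹ * u * g ∈ commutator G := by
      have := (inferInstance : (commutator G).Normal).conj_mem u huD g⁻¹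
      rwa [inv_inv] at this
    have h2 := hz _ h1
    calc (g * z * g⁻¹) * u = g * (z * (g⁻¹ * u * g)) * g⁻¹ := by group
      _ = g * ((g⁻¹ * u * g) * z) * g⁻¹ := by rw [h2]
      _ = u * (g * z * g⁻¹) := by group
  have hmem : u ∈ conjBy A (g * z * g⁻¹) := by
    rw [mem_conjBy]
    have e1 : (g * z * g⁻¹)⁻¹ * u * (g * z * g⁻¹) = u := by
      rw [mul_assoc, ← hcu, ← mul_assoc, inv_mul_cancel, one_mul]
    rw [e1]
    exact huA
  exact conjBy_eq_self_iff.mp (ti_left h huA hu1 hmem)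

/-- `X'` is generated by the `X`-conjugates of `A ∩ X'` -/
theorem comm_le_of_conj_le (h : SP A B) (hA : 3 < ENat.card A) {T : Subgroup G}
    (hT : ∀ x : G, conjBy A x ⊓ commutator G ≤ T) : commutator G ≤ T := by
  have hP : Subgroup.normalClosure ((A ⊓ commutator G : Subgroup G) : Set G) ≤ T := by
    rw [Subgroup.normalClosure, Subgroup.closure_le]
    intro y hy
    rw [Group.mem_conjugatesOfSet_iff] at hy
    obtain ⟨a, ha, hconj⟩ := hy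
    rw [isConj_iff] at hconj
    obtain ⟨c, rfl⟩ := hconj
    apply hT c
    have : c * a * c⁻¹ ∈ conjBy (A ⊓ commutator G) c := conj_mem_conjBy ha
    rwa [conjBy_inf_normal] at this
  refine le_trans ?_ hP
  rcases dichotomy h.top h.pair
      (Subgroup.normalClosure ((A ⊓ commutator G : Subgroup G) : Set G)) with h1 | h1
  · exact commutator_le_of_sup_top h.commA h1
  · exfalso
    obtain ⟨u, hu, hu1⟩ := exists_comm_ne_one h hA
    have huA := comm_le h hu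
    have huD : u ∈ commutator G := comm_le_comm hu
    have huP : u ∈ Subgroup.normalClosure ((A ⊓ commutator G : Subgroup G) : Set G) :=
      Subgroup.subset_normalClosure (Subgroup.mem_inf.mpr ⟨huA, huD⟩)
    exact hu1 (eq_one_of_mem_normalizer h.pair huA (Subgroup.center_le_normalizer _ (h1 huP)))

end Cfsg.Agent.Lib.Helper1.Ro
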