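import Mathlib
import Cfsg.Prelude
import Cfsg.Agent.Lib.Helper5.SympPerfect
import Cfsg.Agent.Lib.Helper5.SympPrimitive
import Cfsg.Agent.Lib.Helper1.Rg1
import Cfsg.Agent.Lib.Helper1.Lw4

set_option autoImplicit false
set_option maxHeartbeats 4000000
set_option linter.unusedVariables false
set_option linter.unusedSectionVars false
set_option linter.style.longLine false
set_option linter.unusedSimpArgs false
set_option linter.deprecated false

/-! Generation of `Sp_2n` by three conjugate regular unipotent elements, part 1: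
actions on vectors, the elements `rho a b c` of the unipotent radical of the stabiliser of `a`,
standard basis vectors indexed by naturals. -/

namespace Cfsg.Agent.Lib.Helper1.Rs

open Matrix Cfsg Cfsg.Agent.Lib.Helper5.SympTv Cfsg.Agent.Lib.Helper5.SympPerfect
  Cfsg.Agent.Lib.Helper5.SympGen Cfsg.Agent.Lib.Helper1.Rg

universe u

variable {F : Type u} [Field F] {n : ℕ}

/-- action of a symplectic matrix on vectors -/
def act (g : ↥(symplecticGroup (Fin n) F)) (x : Fin n ⊕ Fin n → F) : Fin n ⊕ Fin n → F :=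
  g.1 *ᵥ x

theorem act_def (g : ↥(symplecticGroup (Fin n) F)) (x : Fin n ⊕ Fin n → F) :
    act g x = g.1 *ᵥ x := rfl

@[simp] theorem act_one (x : Fin n ⊕ Fin n → F) : act (1 : ↥(symplecticGroup (Fin n) F)) x = x := by
  show (1 : Matrix _ _ F) *ᵥ x = x
  rw [one_mulVec]

theorem act_mul (g h : ↥(symplecticGroup (Fin n) F)) (x : Fin n ⊕ Fin n → F) :
    act (g * h) x = act g (act h x) := by
  show (g.1 * h.1) *ᵥ x = g.1 *ᵥ (h.1 *ᵥ x)
  rw [mulVec_mulVec]

@[simp] theorem act_inv_act (g : ↥(symplecticGroup (Fin n) F)) (x : Fin n ⊕ Fin n → F) :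
    act g⁻¹ (act g x) = x := by
  rw [← act_mul, inv_mul_cancel, act_one]

@[simp] theorem act_act_inv (g : ↥(symplecticGroup (Fin n) F)) (x : Fin n ⊕ Fin n → F) :
    act g (act g⁻¹ x) = x := by
  rw [← act_mul, mul_inv_cancel, act_one]

theorem act_add (g : ↥(symplecticGroup (Fin n) F)) (x y : Fin n ⊕ Fin n → F) :
    act g (x + y) = act g x + act g y := mulVec_add _ _ _

theorem act_sub (g : ↥(symplecticGroup (Fin n) F)) (x y : Fin n ⊕ Fin n → F) :
    act g (x - y) = act g x - act g y := mulVec_sub _ _ _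

theorem act_neg (g : ↥(symplecticGroup (Fin n) F)) (x : Fin n ⊕ Fin n → F) :
    act g (-x) = -act g x := mulVec_neg _ _

theorem act_smul (g : ↥(symplecticGroup (Fin n) F)) (c : F) (x : Fin n ⊕ Fin n → F) :
    act g (c • x) = c • act g x := mulVec_smul _ _ _

@[simp] theorem act_zero (g : ↥(symplecticGroup (Fin n) F)) : act g (0 : Fin n ⊕ Fin n → F) = 0 :=
  mulVec_zero _

theorem act_eq_iff (g : ↥(symplecticGroup (Fin n) F)) (x y : Fin n ⊕ Fin n → F) :
    act g x = y ↔ x = act g⁻¹ y := by
  constructor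
  · rintro rfl; rw [act_inv_act]
  · rintro rfl; rw [act_act_inv]

theorem act_inv_eq_iff (g : ↥(symplecticGroup (Fin n) F)) (x y : Fin n ⊕ Fin n → F) :
    act g⁻¹ x = y ↔ x = act g y := by
  constructor
  · rintro rfl; rw [act_act_inv]
  · rintro rfl; rw [act_inv_act]

theorem form_act (g : ↥(symplecticGroup (Fin n) F)) (x y : Fin n ⊕ Fin n → F) :
    sympForm n F (act g x) (act g y) = sympForm n F x y :=
  sympForm_mulVec n g.2 x y

theorem form_act_left (g : ↥(symplecticGroup (Fin n) F)) (x y : Fin n ⊕ Fin n → F) :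
    sympForm n F (act g x) y = sympForm n F x (act g⁻¹ y) := by
  rw [← form_act g⁻¹, act_inv_act]

theorem ext_act {g h : ↥(symplecticGroup (Fin n) F)} (H : ∀ x, act g x = act h x) : g = h := by
  apply Subtype.ext
  rw [Matrix.ext_iff_mulVec]
  exact H

theorem act_tv (v : Fin n ⊕ Fin n → F) (c : F) (x : Fin n ⊕ Fin n → F) :
    act (tv n v c) x = x + (c * sympForm n F x v) • v := by
  show (tv n v c).1 *ᵥ x = _
  rw [tv_coe, sympTransvection_mulVec]

theorem form_neg_left (x y : Fin n ⊕ Fin n → F) : sympForm n F (-x) y = - sympForm n F x y := by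
  have := sympForm_smul_left n (-1 : F) x y
  simpa using this

theorem form_neg_right (x y : Fin n ⊕ Fin n → F) : sympForm n F x (-y) = - sympForm n F x y := by
  have := sympForm_smul_right n (-1 : F) x y
  simpa using this

@[simp] theorem form_zero_left (y : Fin n ⊕ Fin n → F) : sympForm n F 0 y = 0 := by
  have := sympForm_smul_left n (0 : F) 0 y
  simpa using this

@[simp] theorem form_zero_right (x : Fin n ⊕ Fin n → F) : sympForm n F x 0 = 0 := by
  have := sympForm_smul_right n (0 : F) x 0
  simpa using this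

theorem form_eq_zero_symm {x y : Fin n ⊕ Fin n → F} (h : sympForm n F x y = 0) :
    sympForm n F y x = 0 := by
  rw [sympForm_swap, h, neg_zero]

theorem tv_inv (v : Fin n ⊕ Fin n → F) (c : F) : (tv n v c)⁻¹ = tv n v (-c) := by
  rw [inv_eq_iff_mul_eq_one, tv_mul, add_neg_cancel, tv_zero]

/-- the element `x ↦ x + B(x,a) b + B(x,b) a + c B(x,a) a` (for `B(a,b) = 0`) -/
noncomputable def rho (a b : Fin n ⊕ Fin n → F) (c : F) : ↥(symplecticGroup (Fin n) F) :=
  tv n (a + b) 1 * tv n b (-1) * tv n a (c - 1)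

theorem act_rho {a b : Fin n ⊕ Fin n → F} (hab : sympForm n F a b = 0) (c : F)
    (x : Fin n ⊕ Fin n → F) :
    act (rho a b c) x = x + sympForm n F x a • b + sympForm n F x b • a
      + (c * sympForm n F x a) • a := by
  have hba := form_eq_zero_symm hab
  unfold rho
  rw [act_mul, act_mul, act_tv, act_tv, act_tv]
  simp only [sympForm_add_left, sympForm_add_right, sympForm_smul_left, sympForm_self, hab, hba,
    form_neg_left, form_neg_right]
  module

theorem rho_mul {a b b' : Fin n ⊕ Fin n → F} (hab : sympForm n F a b = 0)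
    (hab' : sympForm n F a b' = 0) (c c' : F) :
    rho a b c * rho a b' c' = rho a (b + b') (c + c' + sympForm n F b' b) := by
  have hba := form_eq_zero_symm hab
  have hba' := form_eq_zero_symm hab'
  have h3 : sympForm n F a (b + b') = 0 := by rw [sympForm_add_right, hab, hab', add_zero]
  apply ext_act
  intro x
  rw [act_mul, act_rho hab', act_rho hab, act_rho h3]
  simp only [sympForm_add_left, sympForm_add_right, sympForm_smul_left, sympForm_self, hab, hba,
    hab', hba']
  module

theorem conj_rho (g : ↥(symplecticGroup (Fin n) F)) (a b : Fin n ⊕ Fin n → F) (c : F) :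
    g * rho a b c * g⁻¹ = rho (act g a) (act g b) c := by
  unfold rho
  rw [← act_add]
  have h1 := conj_tv n g (a + b) 1
  have h2 := conj_tv n g b (-1)
  have h3 := conj_tv n g a (c - 1)
  show _ = tv n (g.1 *ᵥ (a + b)) 1 * tv n (g.1 *ᵥ b) (-1) * tv n (g.1 *ᵥ a) (c - 1)
  rw [← h1, ← h2, ← h3]
  group

theorem conj_inv_rho (g : ↥(symplecticGroup (Fin n) F)) (a b : Fin n ⊕ Fin n → F) (c : F) :
    g⁻¹ * rho a b c * g = rho (act g⁻¹ a) (act g⁻¹ b) c := by
  have := conj_rho g⁻¹ a b c
  rwa [inv_inv] at this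

theorem rho_add_smul {a b : Fin n ⊕ Fin n → F} (hab : sympForm n F a b = 0) (μ c : F) :
    rho a (b + μ • a) c = rho a b (c + 2 * μ) := by
  have hba := form_eq_zero_symm hab
  have h3 : sympForm n F a (b + μ • a) = 0 := by
    rw [sympForm_add_right, hab, sympForm_smul_right, sympForm_self, mul_zero, add_zero]
  apply ext_act
  intro x
  rw [act_rho hab, act_rho h3]
  simp only [sympForm_add_right, sympForm_smul_right]
  module

theorem rho_zero (a : Fin n ⊕ Fin n → F) (c : F) : rho a 0 c = tv n a c := by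
  unfold rho
  rw [add_zero, tv_zero_vec, mul_one, tv_mul]
  congr 1
  ring

theorem rho_smul_self (a : Fin n ⊕ Fin n → F) (μ c : F) :
    rho a (μ • a) c = tv n a (c + 2 * μ) := by
  have h0 : sympForm n F a (0 : Fin n ⊕ Fin n → F) = 0 := form_zero_right a
  have := rho_add_smul h0 μ c
  rw [zero_add] at this
  rw [this, rho_zero]

theorem rho_mul_tv {a b : Fin n ⊕ Fin n → F} (hab : sympForm n F a b = 0) (c t : F) :
    rho a b c * tv n a t = rho a b (c + t) := by
  rw [← rho_zero, rho_mul hab (form_zero_right a), add_zero, form_zero_left, add_zero]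

theorem tv_mul_rho {a b : Fin n ⊕ Fin n → F} (hab : sympForm n F a b = 0) (c t : F) :
    tv n a t * rho a b c = rho a b (t + c) := by
  rw [← rho_zero, rho_mul (form_zero_right a) hab, zero_add, form_zero_right, add_zero]

theorem rho_inv {a b : Fin n ⊕ Fin n → F} (hab : sympForm n F a b = 0) (c : F) :
    (rho a b c)⁻¹ = rho a (-b) (-c) := by
  have hab' : sympForm n F a (-b) = 0 := by rw [form_neg_right, hab, neg_zero]
  rw [inv_eq_iff_mul_eq_one, rho_mul hab hab', add_neg_cancel, add_neg_cancel, zero_add,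
    form_neg_left, sympForm_self, neg_zero, rho_zero, tv_zero]

theorem rho_smul_left {a b : Fin n ⊕ Fin n → F} (hab : sympForm n F a b = 0) (l c : F) :
    rho (l • a) b c = rho a (l • b) (l * l * c) := by
  have h1 : sympForm n F (l • a) b = 0 := by rw [sympForm_smul_left, hab, mul_zero]
  have h2 : sympForm n F a (l • b) = 0 := by rw [sympForm_smul_right, hab, mul_zero]
  apply ext_act
  intro x
  rw [act_rho h1, act_rho h2]
  simp only [sympForm_smul_right]
  module

theorem tv_sub_eq {a b : Fin n ⊕ Fin n → F} (hab : sympForm n F a b = 0) (t : F) :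
    tv n (b - a) t = tv n b t * rho a (-(t • b)) t := by
  have hba := form_eq_zero_symm hab
  have h2 : sympForm n F a (-(t • b)) = 0 := by
    rw [form_neg_right, sympForm_smul_right, hab, mul_zero, neg_zero]
  apply ext_act
  intro x
  rw [act_mul, act_rho h2, act_tv, act_tv]
  simp only [sympForm_add_left, sympForm_sub_right, sympForm_smul_left, sympForm_smul_right,
    form_neg_right, form_neg_left, sympForm_self, hab, hba]
  module

/-! ### basis vectors -/

/-- the vector `e_k` (zero if `k ≥ n`) -/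
def ev (n : ℕ) (F : Type u) [Field F] (k : ℕ) : Fin n ⊕ Fin n → F := Sum.elim (E n F k) 0

/-- the vector `f_k` (zero if `k ≥ n`) -/
def fv (n : ℕ) (F : Type u) [Field F] (k : ℕ) : Fin n ⊕ Fin n → F := Sum.elim 0 (E n F k)

theorem form_elim (p q p' q' : Fin n → F) :
    sympForm n F (Sum.elim p q) (Sum.elim p' q') = q ⬝ᵥ p' - p ⬝ᵥ q' := by
  unfold sympForm
  simp only [dotProduct, mulVec, J, Fintype.sum_sum_type, Matrix.fromBlocks_apply₁₁,
    Matrix.fromBlocks_apply₁₂, Matrix.fromBlocks_apply₂₁, Matrix.fromBlocks_apply₂₂,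
    Matrix.zero_apply, zero_mul, Finset.sum_const_zero, zero_add, add_zero, Matrix.neg_apply,
    Matrix.one_apply, neg_mul, ite_mul, one_mul, Finset.sum_neg_distrib, Finset.sum_ite_eq,
    Finset.mem_univ, if_true, mul_neg, Sum.elim_inl, Sum.elim_inr]
  ring

theorem ev_eq_zero {k : ℕ} (hk : n ≤ k) : ev n F k = 0 := by
  unfold ev; rw [E_eq_zero hk]; ext i; cases i <;> rfl

theorem fv_eq_zero {k : ℕ} (hk : n ≤ k) : fv n F k = 0 := by
  unfold fv; rw [E_eq_zero hk]; ext i; cases i <;> rfl

@[simp] theorem form_ev_ev (i j : ℕ) : sympForm n F (ev n F i) (ev n F j) = 0 := by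
  unfold ev; rw [form_elim]; simp

@[simp] theorem form_fv_fv (i j : ℕ) : sympForm n F (fv n F i) (fv n F j) = 0 := by
  unfold fv; rw [form_elim]; simp

theorem form_fv_ev {i : ℕ} (hi : i < n) (j : ℕ) :
    sympForm n F (fv n F i) (ev n F j) = if i = j then 1 else 0 := by
  unfold ev fv; rw [form_elim, E_dot_E hi]; simp

theorem form_ev_fv {i : ℕ} (hi : i < n) (j : ℕ) :
    sympForm n F (ev n F i) (fv n F j) = if i = j then -1 else 0 := by
  unfold ev fv; rw [form_elim, E_dot_E hi]; simp
  split_ifs <;> simp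

theorem form_x_ev (x : Fin n ⊕ Fin n → F) {j : ℕ} (hj : j < n) :
    sympForm n F x (ev n F j) = x (Sum.inr ⟨j, hj⟩) := by
  have hx : x = Sum.elim (x ∘ Sum.inl) (x ∘ Sum.inr) := by ext i; cases i <;> rfl
  conv_lhs => rw [hx]
  unfold ev; rw [form_elim, dot_E _ hj]; simp

theorem form_x_fv (x : Fin n ⊕ Fin n → F) {j : ℕ} (hj : j < n) :
    sympForm n F x (fv n F j) = - x (Sum.inl ⟨j, hj⟩) := by
  have hx : x = Sum.elim (x ∘ Sum.inl) (x ∘ Sum.inr) := by ext i; cases i <;> rfl
  conv_lhs => rw [hx]
  unfold fv; rw [form_elim, dot_E _ hj]; simp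

theorem ev_ne_zero {k : ℕ} (hk : k < n) : ev n F k ≠ 0 := by
  intro h
  have := form_fv_ev (F := F) hk k
  rw [h, form_zero_right, if_pos rfl] at this
  exact zero_ne_one this

theorem fv_ne_zero {k : ℕ} (hk : k < n) : fv n F k ≠ 0 := by
  intro h
  have := form_fv_ev (F := F) hk k
  rw [h, form_zero_left, if_pos rfl] at this
  exact zero_ne_one this

/-- decomposition of a vector along the standard basis -/
theorem vec_decomp (x : Fin n ⊕ Fin n → F) :
    x = ∑ i : Fin n, (x (Sum.inl i) • ev n F i.val + x (Sum.inr i) • fv n F i.val) := by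
  ext j
  rw [Finset.sum_apply]
  cases j with
  | inl j =>
    simp only [Pi.add_apply, Pi.smul_apply, ev, fv, Sum.elim_inl, E_apply, Pi.zero_apply,
      smul_eq_mul, mul_zero, add_zero, mul_ite, mul_one]
    rw [Finset.sum_eq_single j]
    · simp
    · intro b _ hb
      rw [if_neg]
      intro h; exact hb (Fin.ext h.symm)
    · intro h; exact absurd (Finset.mem_univ j) h
  | inr j =>
    simp only [Pi.add_apply, Pi.smul_apply, ev, fv, Sum.elim_inr, E_apply, Pi.zero_apply,
      smul_eq_mul, mul_zero, zero_add, mul_ite, mul_one]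
    rw [Finset.sum_eq_single j]
    · simp
    · intro b _ hb
      rw [if_neg]
      intro h; exact hb (Fin.ext h.symm)
    · intro h; exact absurd (Finset.mem_univ j) h

end Cfsg.Agent.Lib.Helper1.Rs
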