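import Mathlib
import Cfsg.Prelude
import Cfsg.Agent.Lib.Helper1.Rs1

set_option autoImplicit false
set_option maxHeartbeats 4000000
set_option linter.unusedVariables false
set_option linter.unusedSectionVars false
set_option linter.style.longLine false
set_option linter.unusedSimpArgs false
set_option linter.deprecated false

/-! Generation of `Sp_2n` by three conjugate regular unipotent elements, part 2:
the regular unipotent element `uSp` and its action on the standard basis. -/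

namespace Cfsg.Agent.Lib.Helper1.Rs

open Matrix Cfsg Cfsg.Agent.Lib.Helper5.SympTv Cfsg.Agent.Lib.Helper5.SympPerfect
  Cfsg.Agent.Lib.Helper5.SympGen Cfsg.Agent.Lib.Helper1.Rg Cfsg.Agent.Lib.Helper1.Lw

universe u

variable {F : Type u} [Field F] {n : ℕ}

theorem ev_comp_inl (k : ℕ) : (ev n F k) ∘ Sum.inl = E n F k := rfl
theorem ev_comp_inr (k : ℕ) : (ev n F k) ∘ Sum.inr = 0 := rfl
theorem fv_comp_inl (k : ℕ) : (fv n F k) ∘ Sum.inl = 0 := rfl
theorem fv_comp_inr (k : ℕ) : (fv n F k) ∘ Sum.inr = E n F k := rfl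

theorem elim_sub_zero (a b : Fin n → F) :
    (Sum.elim (a - b) (0 : Fin n → F) : Fin n ⊕ Fin n → F)
      = Sum.elim a (0 : Fin n → F) - Sum.elim b (0 : Fin n → F) := by
  ext i; cases i <;> simp

theorem elim_zero_sub (a b : Fin n → F) :
    (Sum.elim (0 : Fin n → F) (a - b) : Fin n ⊕ Fin n → F)
      = Sum.elim (0 : Fin n → F) a - Sum.elim (0 : Fin n → F) b := by
  ext i; cases i <;> simp

/-- `1 - N` as an element of `GL_n` -/
noncomputable def Bn (n : ℕ) (F : Type u) [Field F] : Matrix.GeneralLinearGroup (Fin n) F :=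
  Matrix.GeneralLinearGroup.mk'' (1 - Nm n F) (by rw [det_one_sub_Nm]; exact isUnit_one)

theorem Bn_val : (Bn n F).1 = 1 - Nm n F := rfl

theorem act_levi (g : Matrix.GeneralLinearGroup (Fin n) F) (x : Fin n ⊕ Fin n → F) :
    act (leviSp n F g) x =
      Sum.elim (g.1 *ᵥ (x ∘ Sum.inl)) (((g⁻¹).1)ᵀ *ᵥ (x ∘ Sum.inr)) := by
  rw [← dgHom_mulVec]; rfl

/-- the Levi element of `1 - N` -/
noncomputable def lB (n : ℕ) (F : Type u) [Field F] : ↥(symplecticGroup (Fin n) F) :=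
  leviSp n F (Bn n F)

theorem lB_ev_zero : act (lB n F) (ev n F 0) = ev n F 0 := by
  unfold lB
  rw [act_levi, ev_comp_inl, ev_comp_inr, mulVec_zero, Bn_val, one_sub_Nm_mulVec,
    Nm_mulVec_E_zero, sub_zero]
  rfl

theorem lB_ev_succ {k : ℕ} (hk : k + 1 < n) :
    act (lB n F) (ev n F (k + 1)) = ev n F (k + 1) - ev n F k := by
  unfold lB
  rw [act_levi, ev_comp_inl, ev_comp_inr, mulVec_zero, Bn_val, one_sub_Nm_mulVec,
    Nm_mulVec_E_succ hk, elim_sub_zero]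
  rfl

theorem lB_inv_fv (k : ℕ) :
    act (lB n F)⁻¹ (fv n F k) = fv n F k - fv n F (k + 1) := by
  unfold lB
  rw [← map_inv, act_levi, fv_comp_inl, fv_comp_inr, mulVec_zero, inv_inv, Bn_val,
    mulVec_transpose, vecMul_one_sub_Nm, E_vecMul_Nm, elim_zero_sub]
  rfl

/-- the regular unipotent element -/
noncomputable def uSp (n : ℕ) (F : Type u) [Field F] : ↥(symplecticGroup (Fin n) F) :=
  (lB n F)⁻¹ * tv n (ev n F (n - 1)) 1

theorem uSp_inv : (uSp n F)⁻¹ = tv n (ev n F (n - 1)) (-1) * lB n F := by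
  unfold uSp
  rw [_root_.mul_inv_rev, inv_inv, tv_inv]

theorem tv_ev_ev (j : ℕ) (c : F) (k : ℕ) : act (tv n (ev n F j) c) (ev n F k) = ev n F k := by
  rw [act_tv, form_ev_ev, mul_zero, zero_smul, add_zero]

theorem uSp_ev_zero : act (uSp n F) (ev n F 0) = ev n F 0 := by
  unfold uSp
  rw [act_mul, tv_ev_ev, act_inv_eq_iff, lB_ev_zero]

theorem uSp_inv_ev_zero : act (uSp n F)⁻¹ (ev n F 0) = ev n F 0 := by
  rw [act_inv_eq_iff, uSp_ev_zero]

theorem uSp_inv_ev_succ {k : ℕ} (hk : k + 1 < n) :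
    act (uSp n F)⁻¹ (ev n F (k + 1)) = ev n F (k + 1) - ev n F k := by
  rw [uSp_inv, act_mul, lB_ev_succ hk, act_sub, tv_ev_ev, tv_ev_ev]

theorem uSp_fv {k : ℕ} (hk : k + 1 < n) :
    act (uSp n F) (fv n F k) = fv n F k - fv n F (k + 1) := by
  unfold uSp
  rw [act_mul, act_tv, form_fv_ev (by omega), if_neg (by omega), mul_zero, zero_smul, add_zero,
    lB_inv_fv]

theorem uSp_inv_fv_last {l : ℕ} (hl : l + 1 = n) :
    act (uSp n F)⁻¹ (fv n F l) = fv n F l - ev n F l := by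
  have h1 : act (lB n F) (fv n F l) = fv n F l := by
    have := lB_inv_fv (n := n) (F := F) l
    rw [fv_eq_zero (k := l + 1) (by omega), sub_zero, act_inv_eq_iff] at this
    exact this.symm
  have hl' : n - 1 = l := by omega
  rw [uSp_inv, act_mul, h1, hl', act_tv, form_fv_ev (by omega), if_pos rfl]
  module

theorem uSp_fv_last {l : ℕ} (hl : l + 1 = n) :
    act (uSp n F) (fv n F l) = fv n F l + act (uSp n F) (ev n F l) := by
  have := uSp_inv_fv_last (F := F) hl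
  rw [act_inv_eq_iff, act_sub] at this
  rw [eq_sub_iff_add_eq] at this
  exact this.symm

/-! ### the operators `P = 1 - U`, `Q = 1 - U⁻¹` -/

/-- the matrix of `uSp` -/
noncomputable def Um (n : ℕ) (F : Type u) [Field F] : Matrix (Fin n ⊕ Fin n) (Fin n ⊕ Fin n) F :=
  (uSp n F).1

/-- the matrix of `uSp⁻¹` -/
noncomputable def Ui (n : ℕ) (F : Type u) [Field F] : Matrix (Fin n ⊕ Fin n) (Fin n ⊕ Fin n) F :=
  ((uSp n F)⁻¹).1

/-- `1 - U` -/
noncomputable def Pm (n : ℕ) (F : Type u) [Field F] : Matrix (Fin n ⊕ Fin n) (Fin n ⊕ Fin n) F :=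
  1 - Um n F

/-- `1 - U⁻¹` -/
noncomputable def Qm (n : ℕ) (F : Type u) [Field F] : Matrix (Fin n ⊕ Fin n) (Fin n ⊕ Fin n) F :=
  1 - Ui n F

theorem Um_mul_Ui : Um n F * Ui n F = 1 := by
  show ((uSp n F) * (uSp n F)⁻¹).1 = 1
  rw [mul_inv_cancel]; rfl

theorem Ui_mul_Um : Ui n F * Um n F = 1 := by
  show ((uSp n F)⁻¹ * (uSp n F)).1 = 1
  rw [inv_mul_cancel]; rfl

theorem comm_Um_Ui : Commute (Um n F) (Ui n F) := by
  show Um n F * Ui n F = Ui n F * Um n F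
  rw [Um_mul_Ui, Ui_mul_Um]

theorem comm_Pm_Qm : Commute (Pm n F) (Qm n F) := by
  show Pm n F * Qm n F = Qm n F * Pm n F
  simp only [Pm, Qm, sub_mul, mul_sub, one_mul, mul_one, Um_mul_Ui, Ui_mul_Um]
  abel

theorem comm_Um_Pm : Commute (Um n F) (Pm n F) := by
  show Um n F * Pm n F = Pm n F * Um n F
  simp only [Pm, sub_mul, mul_sub, one_mul, mul_one]

theorem comm_Um_Qm : Commute (Um n F) (Qm n F) := by
  show Um n F * Qm n F = Qm n F * Um n F
  simp only [Qm, sub_mul, mul_sub, one_mul, mul_one, Um_mul_Ui, Ui_mul_Um]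

theorem Um_mulVec (x : Fin n ⊕ Fin n → F) : Um n F *ᵥ x = act (uSp n F) x := rfl
theorem Ui_mulVec (x : Fin n ⊕ Fin n → F) : Ui n F *ᵥ x = act (uSp n F)⁻¹ x := rfl

theorem Pm_mulVec (x : Fin n ⊕ Fin n → F) : Pm n F *ᵥ x = x - act (uSp n F) x := by
  unfold Pm; rw [sub_mulVec, one_mulVec, Um_mulVec]

theorem Qm_mulVec (x : Fin n ⊕ Fin n → F) : Qm n F *ᵥ x = x - act (uSp n F)⁻¹ x := by
  unfold Qm; rw [sub_mulVec, one_mulVec, Ui_mulVec]

theorem Qm_ev_zero : Qm n F *ᵥ ev n F 0 = 0 := by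
  rw [Qm_mulVec, uSp_inv_ev_zero, sub_self]

theorem Pm_ev_zero : Pm n F *ᵥ ev n F 0 = 0 := by
  rw [Pm_mulVec, uSp_ev_zero, sub_self]

theorem Um_ev_zero : Um n F *ᵥ ev n F 0 = ev n F 0 := uSp_ev_zero

theorem Qm_ev_succ {k : ℕ} (hk : k + 1 < n) : Qm n F *ᵥ ev n F (k + 1) = ev n F k := by
  rw [Qm_mulVec, uSp_inv_ev_succ hk]; abel

theorem Qm_fv_last {l : ℕ} (hl : l + 1 = n) : Qm n F *ᵥ fv n F l = ev n F l := by
  rw [Qm_mulVec, uSp_inv_fv_last hl]; abel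

theorem Pm_fv {k : ℕ} (hk : k + 1 < n) : Pm n F *ᵥ fv n F k = fv n F (k + 1) := by
  rw [Pm_mulVec, uSp_fv hk]; abel

theorem Pm_fv_last {l : ℕ} (hl : l + 1 = n) : Pm n F *ᵥ fv n F l = -(Um n F *ᵥ ev n F l) := by
  rw [Pm_mulVec, uSp_fv_last hl, Um_mulVec]; abel

theorem Pm_ev_succ {k : ℕ} (hk : k + 1 < n) :
    Pm n F *ᵥ ev n F (k + 1) = -(Um n F *ᵥ ev n F k) := by
  have h := uSp_inv_ev_succ (F := F) hk
  rw [act_inv_eq_iff, act_sub] at h
  have h' := sub_eq_iff_eq_add.mp h.symm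
  rw [Pm_mulVec, Um_mulVec, h']
  abel

theorem pow_mulVec_succ (A : Matrix (Fin n ⊕ Fin n) (Fin n ⊕ Fin n) F) (j : ℕ)
    (x : Fin n ⊕ Fin n → F) : A ^ (j + 1) *ᵥ x = A ^ j *ᵥ (A *ᵥ x) := by
  rw [pow_succ, mulVec_mulVec]

theorem pow_mulVec_succ' (A : Matrix (Fin n ⊕ Fin n) (Fin n ⊕ Fin n) F) (j : ℕ)
    (x : Fin n ⊕ Fin n → F) : A ^ (j + 1) *ᵥ x = A *ᵥ (A ^ j *ᵥ x) := by
  rw [pow_succ', mulVec_mulVec]

theorem Qm_pow_ev (j : ℕ) {k : ℕ} (hk : k + j < n) :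
    Qm n F ^ j *ᵥ ev n F (k + j) = ev n F k := by
  induction j with
  | zero => simp
  | succ j ih =>
    rw [pow_mulVec_succ, ← add_assoc, Qm_ev_succ (by omega), ih (by omega)]

theorem Pm_pow_fv (j : ℕ) {k : ℕ} (hk : k + j < n) :
    Pm n F ^ j *ᵥ fv n F k = fv n F (k + j) := by
  induction j with
  | zero => simp
  | succ j ih =>
    rw [pow_mulVec_succ', ih (by omega), Pm_fv (by omega)]; rfl

theorem comm_mulVec {A C : Matrix (Fin n ⊕ Fin n) (Fin n ⊕ Fin n) F} (h : Commute A C)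
    (x : Fin n ⊕ Fin n → F) : A *ᵥ (C *ᵥ x) = C *ᵥ (A *ᵥ x) := by
  rw [mulVec_mulVec, mulVec_mulVec, h.eq]

theorem Pm_pow_ev (j : ℕ) {k : ℕ} (hk : k + j < n) :
    Pm n F ^ j *ᵥ ev n F (k + j) = (-1 : F) ^ j • (Um n F ^ j *ᵥ ev n F k) := by
  induction j with
  | zero => simp
  | succ j ih =>
    rw [pow_mulVec_succ, ← add_assoc, Pm_ev_succ (by omega), mulVec_neg,
      comm_mulVec ((comm_Um_Pm (n := n) (F := F)).symm.pow_left j), ih (by omega),
      pow_mulVec_succ', mulVec_smul, pow_succ]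
    module

theorem Um_pow_ev_zero (j : ℕ) : Um n F ^ j *ᵥ ev n F 0 = ev n F 0 := by
  induction j with
  | zero => simp
  | succ j ih => rw [pow_mulVec_succ, Um_ev_zero, ih]

theorem Pm_pow_ev_eq_zero {k : ℕ} (hk : k < n) : Pm n F ^ (k + 1) *ᵥ ev n F k = 0 := by
  have h := Pm_pow_ev (n := n) (F := F) k (k := 0) (by omega)
  rw [zero_add] at h
  rw [pow_mulVec_succ', h, mulVec_smul,
    comm_mulVec ((comm_Um_Pm (n := n) (F := F)).symm.pow_right k),
    Pm_ev_zero, mulVec_zero, smul_zero]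

theorem pow_mulVec_eq_zero_of_le (A : Matrix (Fin n ⊕ Fin n) (Fin n ⊕ Fin n) F) {j j' : ℕ}
    (hjj : j ≤ j') {x : Fin n ⊕ Fin n → F} (h : A ^ j *ᵥ x = 0) : A ^ j' *ᵥ x = 0 := by
  obtain ⟨d, rfl⟩ := Nat.exists_eq_add_of_le hjj
  rw [add_comm, pow_add, ← mulVec_mulVec, h, mulVec_zero]

/-- a matrix killing the standard basis is zero -/
theorem eq_zero_of_basis (A : Matrix (Fin n ⊕ Fin n) (Fin n ⊕ Fin n) F)
    (he : ∀ k, k < n → A *ᵥ ev n F k = 0) (hf : ∀ k, k < n → A *ᵥ fv n F k = 0) : A = 0 := by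
  rw [Matrix.ext_iff_mulVec]
  intro x
  rw [zero_mulVec]
  conv_lhs => rw [vec_decomp x]
  rw [mulVec_sum]
  apply Finset.sum_eq_zero
  intro i _
  rw [mulVec_add, mulVec_smul, mulVec_smul, he _ i.2, hf _ i.2, smul_zero, smul_zero, add_zero]

theorem Pm_pow_fv_top {l : ℕ} (hl : l + 1 = n) :
    Pm n F ^ (2 * n - 1) *ᵥ fv n F 0 = (-1 : F) ^ (l + 1) • ev n F 0 := by
  have e : 2 * n - 1 = l + (1 + l) := by omega
  rw [e, pow_add, ← mulVec_mulVec, pow_add, ← mulVec_mulVec]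
  have h1 := Pm_pow_fv (n := n) (F := F) l (k := 0) (by omega)
  rw [zero_add] at h1
  rw [h1, pow_one, Pm_fv_last hl, mulVec_neg,
    comm_mulVec ((comm_Um_Pm (n := n) (F := F)).symm.pow_left l)]
  have h2 := Pm_pow_ev (n := n) (F := F) l (k := 0) (by omega)
  rw [zero_add] at h2
  rw [h2, mulVec_smul, ← pow_mulVec_succ', Um_pow_ev_zero, pow_succ]
  module

theorem Pm_pow_two_n : Pm n F ^ (2 * n) = 0 := by
  apply eq_zero_of_basis
  · intro k hk
    exact pow_mulVec_eq_zero_of_le _ (by omega) (Pm_pow_ev_eq_zero hk)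
  · intro k hk
    obtain ⟨l, hl⟩ : ∃ l, l + 1 = n := ⟨n - 1, by omega⟩
    obtain ⟨d, hd⟩ : ∃ d, k + d = l := ⟨l - k, by omega⟩
    have e : 2 * n = (2 * n - (d + 1)) + (1 + d) := by omega
    rw [e, pow_add, ← mulVec_mulVec, pow_add, ← mulVec_mulVec, Pm_pow_fv d (by omega), hd, pow_one,
      Pm_fv_last hl, mulVec_neg,
      comm_mulVec ((comm_Um_Pm (n := n) (F := F)).symm.pow_left _),
      pow_mulVec_eq_zero_of_le _ (by omega) (Pm_pow_ev_eq_zero (F := F) (k := l) (by omega)),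
      mulVec_zero, neg_zero]

theorem uSp_nilpotent : IsNilpotent ((uSp n F).1 - 1) := by
  refine ⟨2 * n, ?_⟩
  have : (uSp n F).1 - 1 = - Pm n F := by unfold Pm Um; abel
  rw [this, neg_pow, Pm_pow_two_n, mul_zero]

theorem uSp_regular (hn : 1 ≤ n) : ((uSp n F).1 - 1) ^ (2 * n - 1) ≠ 0 := by
  obtain ⟨l, hl⟩ : ∃ l, l + 1 = n := ⟨n - 1, by omega⟩
  have : (uSp n F).1 - 1 = - Pm n F := by unfold Pm Um; abel
  rw [this, neg_pow]
  intro h
  have h2 := congrArg (fun A => A *ᵥ fv n F 0) h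
  simp only [zero_mulVec] at h2
  rw [← mulVec_mulVec, Pm_pow_fv_top hl, mulVec_smul] at h2
  have h3 : (-1 : Matrix (Fin n ⊕ Fin n) (Fin n ⊕ Fin n) F) ^ (2 * n - 1) = -1 := by
    apply Odd.neg_one_pow
    exact ⟨l, by omega⟩
  rw [h3, neg_mulVec, one_mulVec, smul_neg, neg_eq_zero] at h2
  rcases smul_eq_zero.mp h2 with h4 | h4
  · exact absurd h4 (pow_ne_zero _ (neg_ne_zero.mpr one_ne_zero))
  · exact ev_ne_zero (by omega) h4

end Cfsg.Agent.Lib.Helper1.Rs
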