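import Mathlib
import Cfsg.Prelude
import Cfsg.Agent.Lib.Helper1.Rs2

set_option autoImplicit false
set_option maxHeartbeats 4000000
set_option linter.unusedVariables false
set_option linter.unusedSectionVars false
set_option linter.style.longLine false
set_option linter.unusedSimpArgs false
set_option linter.deprecated false

/-! Generation of `Sp_2n` by three conjugate regular unipotent elements, part 3:
a subgroup containing `uSp`, a suitable radical element `z` and a suitable element `y`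
meets every coset of the centre of the unipotent radical `R_1` of the stabiliser of `e_1`. -/

namespace Cfsg.Agent.Lib.Helper1.Rs

open Matrix Cfsg Cfsg.Agent.Lib.Helper5.SympTv Cfsg.Agent.Lib.Helper5.SympPerfect
  Cfsg.Agent.Lib.Helper5.SympGen Cfsg.Agent.Lib.Helper1.Rg Cfsg.Agent.Lib.Helper1.Lw

universe u

variable {F : Type u} [Field F] {n : ℕ}

theorem Qm_pow_ev' (j : ℕ) {k m : ℕ} (hm : k + j = m) (h : m < n) :
    Qm n F ^ j *ᵥ ev n F m = ev n F k := by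
  subst hm; exact Qm_pow_ev j h

theorem Pm_pow_fv' (j : ℕ) {k m : ℕ} (hm : k + j = m) (h : m < n) :
    Pm n F ^ j *ᵥ fv n F k = fv n F m := by
  subst hm; exact Pm_pow_fv j h

theorem Pm_pow_ev' (j : ℕ) {k m : ℕ} (hm : k + j = m) (h : m < n) :
    Pm n F ^ j *ᵥ ev n F m = (-1 : F) ^ j • (Um n F ^ j *ᵥ ev n F k) := by
  subst hm; exact Pm_pow_ev j h

/-- the additive group of vectors `b ⊥ a` such that some `rho a b c` lies in `H` -/
def Mgrp (H : Subgroup ↥(symplecticGroup (Fin n) F)) (a : Fin n ⊕ Fin n → F) :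
    AddSubgroup (Fin n ⊕ Fin n → F) where
  carrier := {b | sympForm n F a b = 0 ∧ ∃ c, rho a b c ∈ H}
  zero_mem' := ⟨form_zero_right a, 0, by rw [rho_zero, tv_zero]; exact H.one_mem⟩
  add_mem' := by
    rintro b b' ⟨hb, c, hc⟩ ⟨hb', c', hc'⟩
    refine ⟨by rw [sympForm_add_right, hb, hb', add_zero], c + c' + sympForm n F b' b, ?_⟩
    rw [← rho_mul hb hb']; exact H.mul_mem hc hc'
  neg_mem' := by
    rintro b ⟨hb, c, hc⟩
    refine ⟨by rw [form_neg_right, hb, neg_zero], -c, ?_⟩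
    rw [← rho_inv hb]; exact H.inv_mem hc

theorem mem_Mgrp {H : Subgroup ↥(symplecticGroup (Fin n) F)} {a b : Fin n ⊕ Fin n → F} :
    b ∈ Mgrp H a ↔ sympForm n F a b = 0 ∧ ∃ c, rho a b c ∈ H := Iff.rfl

theorem smul_self_mem_Mgrp (H : Subgroup ↥(symplecticGroup (Fin n) F)) (a : Fin n ⊕ Fin n → F)
    (μ : F) : μ • a ∈ Mgrp H a := by
  refine ⟨by rw [sympForm_smul_right, sympForm_self, mul_zero], -(2 * μ), ?_⟩
  rw [rho_smul_self, neg_add_cancel, tv_zero]; exact H.one_mem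

theorem act_mem_Mgrp {H : Subgroup ↥(symplecticGroup (Fin n) F)} {a : Fin n ⊕ Fin n → F}
    {h : ↥(symplecticGroup (Fin n) F)} (hh : h ∈ H) (ha : act h a = a) {b : Fin n ⊕ Fin n → F}
    (hb : b ∈ Mgrp H a) : act h b ∈ Mgrp H a := by
  obtain ⟨hb1, c, hc⟩ := hb
  refine ⟨?_, c, ?_⟩
  · have := form_act h a b
    rw [ha] at this
    rw [this, hb1]
  · have := conj_rho h a b c
    rw [ha] at this
    rw [← this]
    exact H.mul_mem (H.mul_mem hh hc) (H.inv_mem hh)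

/-- `A` maps the additive group `M` into itself -/
def Pres (M : AddSubgroup (Fin n ⊕ Fin n → F)) (A : Matrix (Fin n ⊕ Fin n) (Fin n ⊕ Fin n) F) :
    Prop := ∀ b ∈ M, A *ᵥ b ∈ M

theorem Pres.mul {M : AddSubgroup (Fin n ⊕ Fin n → F)}
    {A C : Matrix (Fin n ⊕ Fin n) (Fin n ⊕ Fin n) F} (hA : Pres M A) (hC : Pres M C) :
    Pres M (A * C) := by
  intro b hb
  rw [← mulVec_mulVec]
  exact hA _ (hC _ hb)

theorem Pres.one (M : AddSubgroup (Fin n ⊕ Fin n → F)) : Pres M 1 := by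
  intro b hb; rwa [one_mulVec]

theorem Pres.pow {M : AddSubgroup (Fin n ⊕ Fin n → F)}
    {A : Matrix (Fin n ⊕ Fin n) (Fin n ⊕ Fin n) F} (hA : Pres M A) (j : ℕ) :
    Pres M (A ^ j) := by
  induction j with
  | zero => rw [pow_zero]; exact Pres.one M
  | succ j ih => rw [pow_succ]; exact ih.mul hA

theorem Pres.one_sub {M : AddSubgroup (Fin n ⊕ Fin n → F)}
    {A : Matrix (Fin n ⊕ Fin n) (Fin n ⊕ Fin n) F} (hA : Pres M A) : Pres M (1 - A) := by
  intro b hb
  rw [sub_mulVec, one_mulVec]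
  exact M.sub_mem hb (hA b hb)

/-- the vectors all of whose multiples lie in `M` -/
def Mfull (M : AddSubgroup (Fin n ⊕ Fin n → F)) : Submodule F (Fin n ⊕ Fin n → F) where
  carrier := {m | ∀ x : F, x • m ∈ M}
  zero_mem' := by intro x; rw [smul_zero]; exact M.zero_mem
  add_mem' := by
    intro m m' hm hm' x
    rw [smul_add]; exact M.add_mem (hm x) (hm' x)
  smul_mem' := by
    intro c m hm x
    rw [smul_smul]; exact hm _

theorem mem_Mfull {M : AddSubgroup (Fin n ⊕ Fin n → F)} {m : Fin n ⊕ Fin n → F} :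
    m ∈ Mfull M ↔ ∀ x : F, x • m ∈ M := Iff.rfl

theorem Pres.mfull {M : AddSubgroup (Fin n ⊕ Fin n → F)}
    {A : Matrix (Fin n ⊕ Fin n) (Fin n ⊕ Fin n) F} (hA : Pres M A) {m : Fin n ⊕ Fin n → F}
    (hm : m ∈ Mfull M) : A *ᵥ m ∈ Mfull M := by
  intro x
  rw [← mulVec_smul]
  exact hA _ (hm x)

theorem mem_of_smul_mem_Mfull {M : AddSubgroup (Fin n ⊕ Fin n → F)} {m : Fin n ⊕ Fin n → F}
    {c : F} (hc : c ≠ 0) (hm : c • m ∈ Mfull M) : m ∈ Mfull M := by
  have := (Mfull M).smul_mem c⁻¹ hm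
  rwa [smul_smul, inv_mul_cancel₀ hc, one_smul] at this

/-- hypotheses of the core argument -/
structure CoreHyp (n : ℕ) (F : Type u) [Field F] (H : Subgroup ↥(symplecticGroup (Fin n) F))
    (l' : ℕ) (y : ↥(symplecticGroup (Fin n) F)) (α β δ c₀ : F) : Prop where
  hn : l' + 2 = n
  hu : uSp n F ∈ H
  hy : y ∈ H
  hy0 : act y (ev n F 0) = ev n F 0
  hy1 : act y (ev n F 1) = ev n F 1 + α • fv n F (l' + 1) + β • fv n F 1 + δ • ev n F 0
  hα : l' = 0 → α = 0
  hz : c₀ • (ev n F (l' + 1) - fv n F (l' + 1)) ∈ Mgrp H (ev n F 0)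
  hc₀ : c₀ ≠ 0
  hβ0 : β ≠ 0
  hβ : ∀ t : F, t ≠ 0 → ∃ k : ℕ, t = β ^ k ∨ t = -β ^ k

section core

variable {H : Subgroup ↥(symplecticGroup (Fin n) F)} {l' : ℕ} {y : ↥(symplecticGroup (Fin n) F)}
  {α β δ c₀ : F}

theorem pres_Um (hu : uSp n F ∈ H) : Pres (Mgrp H (ev n F 0)) (Um n F) := by
  intro b hb
  exact act_mem_Mgrp hu uSp_ev_zero hb

theorem pres_Ui (hu : uSp n F ∈ H) : Pres (Mgrp H (ev n F 0)) (Ui n F) := by
  intro b hb
  exact act_mem_Mgrp (H.inv_mem hu) uSp_inv_ev_zero hb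

theorem pres_Pm (hu : uSp n F ∈ H) : Pres (Mgrp H (ev n F 0)) (Pm n F) := (pres_Um hu).one_sub

theorem pres_Qm (hu : uSp n F ∈ H) : Pres (Mgrp H (ev n F 0)) (Qm n F) := (pres_Ui hu).one_sub

/-- Step D -/
theorem CoreHyp.c0_mem (C : CoreHyp n F H l' y α β δ c₀) :
    c₀ • ev n F 1 ∈ Mgrp H (ev n F 0) := by
  have hn := C.hn
  have h1 := (pres_Qm C.hu) _ C.hz
  rw [mulVec_smul, mulVec_sub, Qm_ev_succ (by omega), Qm_fv_last (by omega)] at h1
  have h2 := ((pres_Qm C.hu).pow l') _ h1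
  have e0 := Qm_pow_ev' (n := n) (F := F) l' (k := 0) (m := l') (by omega) (by omega)
  have e1 := Qm_pow_ev' (n := n) (F := F) l' (k := 1) (m := l' + 1) (by omega) (by omega)
  rw [mulVec_smul, mulVec_sub, e0, e1] at h2
  have h3 := (Mgrp H (ev n F 0)).sub_mem (smul_self_mem_Mgrp H (ev n F 0) c₀) h2
  have : c₀ • ev n F 0 - c₀ • (ev n F 0 - ev n F 1) = c₀ • ev n F 1 := by module
  rwa [this] at h3

theorem Pm_pow_ev_one (j : ℕ) (hn : 2 ≤ n) :
    ∃ θ : F, Pm n F ^ (j + 1) *ᵥ ev n F 1 = θ • ev n F 0 := by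
  rw [pow_mulVec_succ, Pm_ev_succ (k := 0) (by omega), mulVec_neg, Um_ev_zero]
  cases j with
  | zero => exact ⟨-1, by simp⟩
  | succ j =>
    refine ⟨0, ?_⟩
    rw [pow_mulVec_succ, Pm_ev_zero, mulVec_zero, neg_zero, zero_smul]

/-- Steps A and C -/
theorem CoreHyp.mul_beta_mem (C : CoreHyp n F H l' y α β δ c₀) {x : F}
    (hx : x • ev n F 1 ∈ Mgrp H (ev n F 0)) : (x * β) • ev n F 1 ∈ Mgrp H (ev n F 0) := by
  have hn := C.hn
  set M := Mgrp H (ev n F 0) with hM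
  have h1 := act_mem_Mgrp C.hy C.hy0 hx
  rw [act_smul, C.hy1] at h1
  have h2 : (x * α) • fv n F (l' + 1) + (x * β) • fv n F 1 ∈ M := by
    have h3 := M.sub_mem (M.sub_mem h1 hx) (smul_self_mem_Mgrp H (ev n F 0) (x * δ))
    have : x • (ev n F 1 + α • fv n F (l' + 1) + β • fv n F 1 + δ • ev n F 0) - x • ev n F 1
        - (x * δ) • ev n F 0 = (x * α) • fv n F (l' + 1) + (x * β) • fv n F 1 := by module
    rwa [this] at h3
  have hPi : Pres M (Qm n F ^ (l' + 1) * Pm n F ^ l') :=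
    ((pres_Qm C.hu).pow _).mul ((pres_Pm C.hu).pow _)
  have h4 := hPi _ h2
  have hf1 : (Qm n F ^ (l' + 1) * Pm n F ^ l') *ᵥ fv n F 1 = ev n F 1 := by
    rw [← mulVec_mulVec, Pm_pow_fv' l' (k := 1) (m := l' + 1) (by omega) (by omega),
      pow_mulVec_succ, Qm_fv_last (by omega)]
    exact Qm_pow_ev' (n := n) (F := F) l' (k := 1) (m := l' + 1) (by omega) (by omega)
  have hfl : ∃ θ : F, (x * α) • ((Qm n F ^ (l' + 1) * Pm n F ^ l') *ᵥ fv n F (l' + 1))
      = θ • ev n F 0 := by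
    rcases Nat.eq_zero_or_pos l' with h0 | h0
    · refine ⟨0, ?_⟩
      rw [C.hα h0, mul_zero, zero_smul, zero_smul]
    · obtain ⟨j, rfl⟩ : ∃ j, l' = j + 1 := ⟨l' - 1, by omega⟩
      have hc : Commute (Qm n F ^ (j + 1 + 1)) (Pm n F ^ (j + 1)) :=
        ((comm_Pm_Qm (n := n) (F := F)).symm.pow_left _).pow_right _
      rw [hc.eq, ← mulVec_mulVec, pow_mulVec_succ (Qm n F), Qm_fv_last (by omega)]
      rw [Qm_pow_ev' (n := n) (F := F) (j + 1) (k := 1) (m := j + 1 + 1) (by omega) (by omega)]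
      obtain ⟨θ, hθ⟩ := Pm_pow_ev_one (n := n) (F := F) j (by omega)
      refine ⟨x * α * θ, ?_⟩
      rw [hθ, smul_smul]
  obtain ⟨θ, hθ⟩ := hfl
  rw [mulVec_add, mulVec_smul, mulVec_smul, hf1, hθ] at h4
  have h5 := M.sub_mem h4 (smul_self_mem_Mgrp H (ev n F 0) θ)
  rwa [add_sub_cancel_left] at h5

/-- Step E -/
theorem CoreHyp.ev_one_mem (C : CoreHyp n F H l' y α β δ c₀) (t : F) :
    t • ev n F 1 ∈ Mgrp H (ev n F 0) := by
  set M := Mgrp H (ev n F 0) with hM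
  have hpow : ∀ k : ℕ, (c₀ * β ^ k) • ev n F 1 ∈ M := by
    intro k
    induction k with
    | zero => rw [pow_zero, mul_one]; exact C.c0_mem
    | succ k ih =>
      have := C.mul_beta_mem ih
      rwa [mul_assoc, ← pow_succ] at this
  by_cases ht : t = 0
  · rw [ht, zero_smul]; exact M.zero_mem
  · have htc : t / c₀ ≠ 0 := div_ne_zero ht C.hc₀
    obtain ⟨k, hk | hk⟩ := C.hβ _ htc
    · have : t = c₀ * β ^ k := by rw [← hk]; field_simp [C.hc₀]
      rw [this]; exact hpow k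
    · have : t = -(c₀ * β ^ k) := by rw [← mul_neg, ← hk]; field_simp [C.hc₀]
      rw [this, neg_smul]; exact M.neg_mem (hpow k)

theorem CoreHyp.pres_y (C : CoreHyp n F H l' y α β δ c₀) {m : Fin n ⊕ Fin n → F}
    (hm : m ∈ Mfull (Mgrp H (ev n F 0))) : act y m ∈ Mfull (Mgrp H (ev n F 0)) := by
  intro x
  rw [← act_smul]
  exact act_mem_Mgrp C.hy C.hy0 (hm x)

theorem CoreHyp.ev0_full (C : CoreHyp n F H l' y α β δ c₀) :
    ev n F 0 ∈ Mfull (Mgrp H (ev n F 0)) := fun x => smul_self_mem_Mgrp H _ x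

theorem CoreHyp.ev1_full (C : CoreHyp n F H l' y α β δ c₀) :
    ev n F 1 ∈ Mfull (Mgrp H (ev n F 0)) := fun x => C.ev_one_mem x

theorem CoreHyp.m1_full (C : CoreHyp n F H l' y α β δ c₀) :
    α • fv n F (l' + 1) + β • fv n F 1 ∈ Mfull (Mgrp H (ev n F 0)) := by
  have h1 := C.pres_y C.ev1_full
  rw [C.hy1] at h1
  have h2 := (Mfull (Mgrp H (ev n F 0))).sub_mem ((Mfull (Mgrp H (ev n F 0))).sub_mem h1 C.ev1_full)
    ((Mfull (Mgrp H (ev n F 0))).smul_mem δ C.ev0_full)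
  have : ev n F 1 + α • fv n F (l' + 1) + β • fv n F 1 + δ • ev n F 0 - ev n F 1 - δ • ev n F 0
      = α • fv n F (l' + 1) + β • fv n F 1 := by module
  rwa [this] at h2

/-- Step F, first half: `e_n` -/
theorem CoreHyp.ev_last_full (C : CoreHyp n F H l' y α β δ c₀) :
    ev n F (l' + 1) ∈ Mfull (Mgrp H (ev n F 0)) := by
  have hn := C.hn
  set M := Mgrp H (ev n F 0) with hM
  rcases Nat.eq_zero_or_pos l' with h0 | h0
  · rw [h0]; exact C.ev1_full
  · have hA : Pres M (Qm n F * Pm n F ^ l') := (pres_Qm C.hu).mul ((pres_Pm C.hu).pow _)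
    have h1 := hA.mfull C.m1_full
    have e1 : (Qm n F * Pm n F ^ l') *ᵥ fv n F 1 = ev n F (l' + 1) := by
      rw [← mulVec_mulVec, Pm_pow_fv' l' (k := 1) (m := l' + 1) (by omega) (by omega),
        Qm_fv_last (by omega)]
    have e2 : (Qm n F * Pm n F ^ l') *ᵥ fv n F (l' + 1)
        = (-1 : F) ^ l' • (Um n F ^ l' *ᵥ ev n F 1) := by
      have hc : Commute (Qm n F) (Pm n F ^ l') :=
        ((comm_Pm_Qm (n := n) (F := F)).symm).pow_right _
      rw [hc.eq, ← mulVec_mulVec, Qm_fv_last (by omega)]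
      exact Pm_pow_ev' (n := n) (F := F) l' (k := 1) (m := l' + 1) (by omega) (by omega)
    rw [mulVec_add, mulVec_smul, mulVec_smul, e1, e2] at h1
    have h2 : Um n F ^ l' *ᵥ ev n F 1 ∈ Mfull M := ((pres_Um C.hu).pow l').mfull C.ev1_full
    have h3 := (Mfull M).sub_mem h1 ((Mfull M).smul_mem α ((Mfull M).smul_mem ((-1 : F) ^ l') h2))
    rw [add_sub_cancel_left] at h3
    exact mem_of_smul_mem_Mfull C.hβ0 h3

theorem CoreHyp.ev_full (C : CoreHyp n F H l' y α β δ c₀) {k : ℕ} (hk : k < n) :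
    ev n F k ∈ Mfull (Mgrp H (ev n F 0)) := by
  have hn := C.hn
  obtain ⟨j, hj⟩ : ∃ j, k + j = l' + 1 := ⟨l' + 1 - k, by omega⟩
  have := ((pres_Qm C.hu).pow j).mfull C.ev_last_full
  rw [Qm_pow_ev' j hj (by omega)] at this
  exact this

/-- Step F, second half: `f_k` for `k ≥ 2` (`k ≥ 3` in 1-based numbering) -/
theorem CoreHyp.fv_full_of_two_le (C : CoreHyp n F H l' y α β δ c₀) {k : ℕ} (hk2 : 2 ≤ k)
    (hk : k < n) : fv n F k ∈ Mfull (Mgrp H (ev n F 0)) := by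
  have hn := C.hn
  set M := Mgrp H (ev n F 0) with hM
  obtain ⟨j, hj⟩ : ∃ j, 1 + (j + 1) = k := ⟨k - 2, by omega⟩
  have h1 := ((pres_Pm C.hu).pow (j + 1)).mfull C.m1_full
  rw [mulVec_add, mulVec_smul, mulVec_smul, Pm_pow_fv' (j + 1) (k := 1) (m := k) hj hk,
    pow_mulVec_succ, Pm_fv_last (by omega), mulVec_neg] at h1
  have h2 : Pm n F ^ j *ᵥ (Um n F *ᵥ ev n F (l' + 1)) ∈ Mfull M :=
    ((pres_Pm C.hu).pow j).mfull ((pres_Um C.hu).mfull C.ev_last_full)
  have h3 := (Mfull M).add_mem h1 ((Mfull M).smul_mem α h2)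
  have : α • -(Pm n F ^ j *ᵥ (Um n F *ᵥ ev n F (l' + 1))) + β • fv n F k
      + α • (Pm n F ^ j *ᵥ (Um n F *ᵥ ev n F (l' + 1))) = β • fv n F k := by module
  rw [this] at h3
  exact mem_of_smul_mem_Mfull C.hβ0 h3

theorem CoreHyp.fv_full (C : CoreHyp n F H l' y α β δ c₀) {k : ℕ} (hk1 : 1 ≤ k)
    (hk : k < n) : fv n F k ∈ Mfull (Mgrp H (ev n F 0)) := by
  have hn := C.hn
  set M := Mgrp H (ev n F 0) with hM
  rcases Nat.lt_or_ge k 2 with h2 | h2
  · obtain rfl : k = 1 := by omega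
    have hm := C.m1_full
    have hα : α • fv n F (l' + 1) ∈ Mfull M := by
      rcases Nat.eq_zero_or_pos l' with h0 | h0
      · rw [C.hα h0, zero_smul]; exact (Mfull M).zero_mem
      · exact (Mfull M).smul_mem α (C.fv_full_of_two_le (by omega) (by omega))
    have h3 := (Mfull M).sub_mem hm hα
    rw [add_sub_cancel_left] at h3
    exact mem_of_smul_mem_Mfull C.hβ0 h3
  · exact C.fv_full_of_two_le h2 hk

/-- every vector orthogonal to `e_1` is in `Mfull` -/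
theorem CoreHyp.perp_full (C : CoreHyp n F H l' y α β δ c₀) {b : Fin n ⊕ Fin n → F}
    (hb : sympForm n F (ev n F 0) b = 0) : b ∈ Mfull (Mgrp H (ev n F 0)) := by
  have hn := C.hn
  set M := Mgrp H (ev n F 0) with hM
  rw [vec_decomp b]
  apply Submodule.sum_mem
  intro i _
  apply (Mfull M).add_mem
  · exact (Mfull M).smul_mem _ (C.ev_full i.2)
  · rcases Nat.eq_zero_or_pos i.val with h0 | h0
    · have hb' : sympForm n F b (ev n F 0) = 0 := form_eq_zero_symm hb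
      rw [form_x_ev b (by omega : 0 < n)] at hb'
      have hi : i = ⟨0, by omega⟩ := Fin.ext h0
      rw [hi, hb', zero_smul]
      exact (Mfull M).zero_mem
    · exact (Mfull M).smul_mem _ (C.fv_full h0 i.2)

/-- the outcome of part 3: every coset of the centre of `R_1` meets `H` -/
theorem CoreHyp.exists_rho (C : CoreHyp n F H l' y α β δ c₀) {b : Fin n ⊕ Fin n → F}
    (hb : sympForm n F (ev n F 0) b = 0) : ∃ c, rho (ev n F 0) b c ∈ H := by
  have := C.perp_full hb 1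
  rw [one_smul] at this
  exact this.2

end core

end Cfsg.Agent.Lib.Helper1.Rs
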