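import Mathlib
import Cfsg.Prelude
import Cfsg.Agent.Lib.Helper1.Rs3

set_option autoImplicit false
set_option maxHeartbeats 4000000
set_option linter.unusedVariables false
set_option linter.unusedSectionVars false
set_option linter.style.longLine false
set_option linter.unusedSimpArgs false
set_option linter.deprecated false

/-! Generation of `Sp_2n` by three conjugate regular unipotent elements, part 4:
the centre `{tv e_1 t}` of the unipotent radical lies in `H`. -/

namespace Cfsg.Agent.Lib.Helper1.Rs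

open Matrix Cfsg Cfsg.Agent.Lib.Helper5.SympTv Cfsg.Agent.Lib.Helper5.SympPerfect
  Cfsg.Agent.Lib.Helper5.SympGen Cfsg.Agent.Lib.Helper1.Rg Cfsg.Agent.Lib.Helper1.Lw

universe u

variable {F : Type u} [Field F] {n : ℕ}

theorem form_fv_ev_self {i : ℕ} (hi : i < n) : sympForm n F (fv n F i) (ev n F i) = 1 := by
  rw [form_fv_ev hi, if_pos rfl]

theorem form_ev_fv_self {i : ℕ} (hi : i < n) : sympForm n F (ev n F i) (fv n F i) = -1 := by
  rw [form_ev_fv hi, if_pos rfl]

theorem form_fv_ev_ne {i j : ℕ} (hij : i ≠ j) : sympForm n F (fv n F i) (ev n F j) = 0 := by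
  by_cases hi : i < n
  · rw [form_fv_ev hi, if_neg hij]
  · rw [fv_eq_zero (by omega), form_zero_left]

theorem form_ev_fv_ne {i j : ℕ} (hij : i ≠ j) : sympForm n F (ev n F i) (fv n F j) = 0 := by
  by_cases hi : i < n
  · rw [form_ev_fv hi, if_neg hij]
  · rw [ev_eq_zero (by omega), form_zero_left]

/-- `rho a b c ∈ H` together with the orthogonality making it meaningful -/
def Hm (H : Subgroup ↥(symplecticGroup (Fin n) F)) (a b : Fin n ⊕ Fin n → F) (c : F) : Prop :=
  sympForm n F a b = 0 ∧ rho a b c ∈ H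

/-- the additive group of `t` with `tv a t ∈ H` -/
def Cgrp (H : Subgroup ↥(symplecticGroup (Fin n) F)) (a : Fin n ⊕ Fin n → F) : AddSubgroup F where
  carrier := {t | tv n a t ∈ H}
  zero_mem' := by show tv n a 0 ∈ H; rw [tv_zero]; exact H.one_mem
  add_mem' := by
    intro s t hs ht
    show tv n a (s + t) ∈ H
    rw [← tv_mul]; exact H.mul_mem hs ht
  neg_mem' := by
    intro s hs
    show tv n a (-s) ∈ H
    rw [← tv_inv]; exact H.inv_mem hs

theorem mem_Cgrp {H : Subgroup ↥(symplecticGroup (Fin n) F)} {a : Fin n ⊕ Fin n → F} {t : F} :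
    t ∈ Cgrp H a ↔ tv n a t ∈ H := Iff.rfl

section toolkit

variable {H : Subgroup ↥(symplecticGroup (Fin n) F)} {a : Fin n ⊕ Fin n → F}

theorem Hm.add {b b' : Fin n ⊕ Fin n → F} {c c' : F} (h : Hm H a b c) (h' : Hm H a b' c') :
    Hm H a (b + b') (c + c' + sympForm n F b' b) := by
  refine ⟨by rw [sympForm_add_right, h.1, h'.1, add_zero], ?_⟩
  rw [← rho_mul h.1 h'.1]; exact H.mul_mem h.2 h'.2

theorem Hm.neg {b : Fin n ⊕ Fin n → F} {c : F} (h : Hm H a b c) : Hm H a (-b) (-c) := by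
  refine ⟨by rw [form_neg_right, h.1, neg_zero], ?_⟩
  rw [← rho_inv h.1]; exact H.inv_mem h.2

theorem Hm.act {b : Fin n ⊕ Fin n → F} {c : F} (h : Hm H a b c)
    {g : ↥(symplecticGroup (Fin n) F)} (hg : g ∈ H) (ha : act g a = a) :
    Hm H a (Rs.act g b) c := by
  refine ⟨?_, ?_⟩
  · have := form_act g a b
    rw [ha] at this
    rw [this, h.1]
  · have := conj_rho g a b c
    rw [ha] at this
    rw [← this]
    exact H.mul_mem (H.mul_mem hg h.2) (H.inv_mem hg)

theorem Hm.of_add_smul {b : Fin n ⊕ Fin n → F} {μ c : F} (h : Hm H a (b + μ • a) c) :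
    Hm H a b (c + 2 * μ) := by
  have hb : sympForm n F a b = 0 := by
    have := h.1
    rwa [sympForm_add_right, sympForm_smul_right, sympForm_self, mul_zero, add_zero] at this
  refine ⟨hb, ?_⟩
  rw [← rho_add_smul hb]; exact h.2

theorem Hm.congr {b b' : Fin n ⊕ Fin n → F} {c c' : F} (h : Hm H a b c) (hb : b = b')
    (hc : c = c') : Hm H a b' c' := by
  rw [← hb, ← hc]; exact h

theorem Hm.diff {b : Fin n ⊕ Fin n → F} {c c' : F} (h : Hm H a b c) (h' : Hm H a b c') :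
    c - c' ∈ Cgrp H a := by
  have h1 := h.add h'.neg
  have h2 : rho a (b + -b) (c + -c' + sympForm n F (-b) b) = tv n a (c - c') := by
    rw [add_neg_cancel, rho_zero, form_neg_left, sympForm_self, neg_zero, add_zero, sub_eq_add_neg]
  have := h1.2
  rw [h2] at this
  exact this

theorem Hm.shift {b : Fin n ⊕ Fin n → F} {c t : F} (h : Hm H a b c) (ht : t ∈ Cgrp H a) :
    Hm H a b (c + t) := by
  refine ⟨h.1, ?_⟩
  rw [← rho_mul_tv h.1]; exact H.mul_mem h.2 ht

end toolkit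

section step6

variable {H : Subgroup ↥(symplecticGroup (Fin n) F)}

/-- `R(x e_n, x^2) ∈ H` -/
theorem Hm_ev_last
    (hrad : ∀ b, sympForm n F (ev n F 0) b = 0 → ∃ c, rho (ev n F 0) b c ∈ H)
    (hu : uSp n F ∈ H) {l : ℕ} (hl : l + 1 = n) (hl1 : 1 ≤ l) (x : F) :
    Hm H (ev n F 0) (x • ev n F l) (x * x) := by
  have h0 : sympForm n F (ev n F 0) ((-x) • fv n F l) = 0 := by
    rw [sympForm_smul_right, form_ev_fv_ne (by omega), mul_zero]
  obtain ⟨τ, hτ'⟩ := hrad _ h0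
  have hτ : Hm H (ev n F 0) ((-x) • fv n F l) τ := ⟨h0, hτ'⟩
  have h1 := hτ.act (H.inv_mem hu) uSp_inv_ev_zero
  rw [act_smul, uSp_inv_fv_last hl] at h1
  have h2 := h1.add hτ.neg
  refine h2.congr (by module) ?_
  simp only [sympForm_smul_left, sympForm_smul_right, form_neg_left, sympForm_sub_right,
    form_fv_fv, form_fv_ev_self (show l < n by omega)]
  ring

/-- from an element of `H` fixing `e_1` and moving `e_2` by a multiple of `f_2` (modulo `e_1`) -/
theorem Hm_fv_one_of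
    (hrad : ∀ b, sympForm n F (ev n F 0) b = 0 → ∃ c, rho (ev n F 0) b c ∈ H)
    (hn : 2 ≤ n) {g : ↥(symplecticGroup (Fin n) F)} (hg : g ∈ H)
    (hg0 : act g (ev n F 0) = ev n F 0) {β δ : F}
    (hg1 : act g (ev n F 1) = ev n F 1 + β • fv n F 1 + δ • ev n F 0) (x : F) :
    Hm H (ev n F 0) ((x * β) • fv n F 1) (x * x * β + 2 * x * δ) := by
  have h0 : sympForm n F (ev n F 0) (x • ev n F 1) = 0 := by
    rw [sympForm_smul_right, form_ev_ev, mul_zero]
  obtain ⟨t, ht'⟩ := hrad _ h0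
  have ht : Hm H (ev n F 0) (x • ev n F 1) t := ⟨h0, ht'⟩
  have k1 := ht.act hg hg0
  rw [act_smul, hg1] at k1
  have k1' : Hm H (ev n F 0) ((x • ev n F 1 + (x * β) • fv n F 1) + (x * δ) • ev n F 0) t :=
    k1.congr (by module) rfl
  have k2 := k1'.of_add_smul
  have k3 := k2.add ht.neg
  refine k3.congr (by module) ?_
  simp only [sympForm_smul_left, sympForm_smul_right, form_neg_left, sympForm_add_right,
    form_ev_ev, form_ev_fv_self (show 1 < n by omega)]
  ring

/-- Step 6 in odd characteristic -/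
theorem Cgrp_top_of_odd
    (hrad : ∀ b, sympForm n F (ev n F 0) b = 0 → ∃ c, rho (ev n F 0) b c ∈ H)
    (hn : 2 ≤ n) (h2 : (2 : F) ≠ 0) (t : F) : t ∈ Cgrp H (ev n F 0) := by
  have h0 : sympForm n F (ev n F 0) ((-t / 2) • ev n F 1) = 0 := by
    rw [sympForm_smul_right, form_ev_ev, mul_zero]
  have h0' : sympForm n F (ev n F 0) (fv n F 1) = 0 := form_ev_fv_ne (by omega)
  obtain ⟨c, hc'⟩ := hrad _ h0
  obtain ⟨c', hc''⟩ := hrad _ h0'
  have hc : Hm H (ev n F 0) ((-t / 2) • ev n F 1) c := ⟨h0, hc'⟩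
  have hd : Hm H (ev n F 0) (fv n F 1) c' := ⟨h0', hc''⟩
  have k1 := hd.add hc
  have k2 := (hc.add hd).congr (add_comm _ _) rfl
  have k3 := k1.diff k2
  have : c' + c + sympForm n F ((-t / 2) • ev n F 1) (fv n F 1)
      - (c + c' + sympForm n F (fv n F 1) ((-t / 2) • ev n F 1)) = t := by
    simp only [sympForm_smul_left, sympForm_smul_right, form_ev_fv_self (show 1 < n by omega),
      form_fv_ev_self (show 1 < n by omega)]
    field_simp
    ring
  rwa [this] at k3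

/-- Step 6 in characteristic two, `n = 2` -/
theorem Cgrp_top_of_two_two
    (hrad : ∀ b, sympForm n F (ev n F 0) b = 0 → ∃ c, rho (ev n F 0) b c ∈ H)
    (hn : n = 2) (h2 : (2 : F) = 0) (hsq : ∀ t : F, ∃ w, w * w = t)
    (hu : uSp n F ∈ H)
    {y : ↥(symplecticGroup (Fin n) F)} (hy : y ∈ H) (hy0 : act y (ev n F 0) = ev n F 0)
    {β δ c₀ γ κ : F} (hy1 : act y (ev n F 1) = ev n F 1 + β • fv n F 1 + δ • ev n F 0)
    (hβ0 : β ≠ 0)
    (hz : rho (ev n F 0) (c₀ • (ev n F 1 - fv n F 1)) γ ∈ H)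
    {v : ↥(symplecticGroup (Fin n) F)} (hv : v ∈ H)
    (hv0 : act v (ev n F 0) = ev n F 0 - κ • fv n F 1)
    (ht₀ : γ - c₀ * c₀ / β ≠ 0) (hκ : κ ≠ 0)
    (hββ : β ≠ -((γ - c₀ * c₀ / β) * κ * κ)) (t : F) : t ∈ Cgrp H (ev n F 0) := by
  have h1n : 1 < n := by omega
  -- S1
  have S1 : ∀ w : F, Hm H (ev n F 0) (w • fv n F 1) (w * w / β) := by
    intro w
    have := Hm_fv_one_of hrad (by omega) hy hy0 hy1 (w / β)
    refine this.congr ?_ ?_
    · rw [div_mul_cancel₀ _ hβ0]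
    · rw [mul_assoc 2, h2, zero_mul, add_zero]; field_simp
  -- (i)
  have hi := Hm_ev_last hrad hu (l := 1) (by omega) le_rfl c₀
  -- (iii)
  have k3 := hi.add (S1 (-c₀))
  have hzm : Hm H (ev n F 0) (c₀ • ev n F 1 + (-c₀) • fv n F 1) γ := by
    refine ⟨k3.1, ?_⟩
    have : c₀ • ev n F 1 + (-c₀) • fv n F 1 = c₀ • (ev n F 1 - fv n F 1) := by module
    rw [this]; exact hz
  have ht0 := hzm.diff k3
  have e0 : γ - (c₀ * c₀ + -c₀ * -c₀ / β + sympForm n F ((-c₀) • fv n F 1) (c₀ • ev n F 1))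
      = γ - c₀ * c₀ / β := by
    simp only [sympForm_smul_left, sympForm_smul_right, form_fv_ev_self h1n]
    ring
  rw [e0] at ht0
  set t₀ := γ - c₀ * c₀ / β with ht₀def
  -- (iv)
  have hw2 : tv n (ev n F 0 - κ • fv n F 1) t₀ ∈ H := by
    have := conj_tv n v (ev n F 0) t₀
    rw [← hv0]
    show tv n (v.1 *ᵥ ev n F 0) t₀ ∈ H
    rw [← this]
    exact H.mul_mem (H.mul_mem hv ht0) (H.inv_mem hv)
  have hw20 : act (tv n (ev n F 0 - κ • fv n F 1) t₀) (ev n F 0) = ev n F 0 := by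
    rw [act_tv, sympForm_sub_right, sympForm_smul_right, form_ev_ev, form_ev_fv_ne (by omega)]
    simp
  have hw21 : act (tv n (ev n F 0 - κ • fv n F 1) t₀) (ev n F 1)
      = ev n F 1 + (-(t₀ * κ * κ)) • fv n F 1 + (t₀ * κ) • ev n F 0 := by
    rw [act_tv, sympForm_sub_right, sympForm_smul_right, form_ev_ev, form_ev_fv_self h1n]
    module
  have hβ' : -(t₀ * κ * κ) ≠ 0 := by
    rw [neg_ne_zero]; exact mul_ne_zero (mul_ne_zero ht₀ hκ) hκ
  have S2 : ∀ w : F, Hm H (ev n F 0) (w • fv n F 1) (w * w / (-(t₀ * κ * κ))) := by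
    intro w
    have := Hm_fv_one_of hrad (by omega) hw2 hw20 hw21 (w / (-(t₀ * κ * κ)))
    refine this.congr ?_ ?_
    · rw [div_mul_cancel₀ _ hβ']
    · rw [mul_assoc 2, h2, zero_mul, add_zero]; field_simp
  have hd : (1 / β - 1 / (-(t₀ * κ * κ))) ≠ 0 := by
    intro h
    apply hββ
    have h' := sub_eq_zero.mp h
    rw [one_div, one_div] at h'
    exact inv_inj.mp h'
  obtain ⟨w, hw⟩ := hsq (t / (1 / β - 1 / (-(t₀ * κ * κ))))
  have := (S1 w).diff (S2 w)
  have e1 : w * w / β - w * w / (-(t₀ * κ * κ)) = t := by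
    have : w * w / β - w * w / (-(t₀ * κ * κ)) = w * w * (1 / β - 1 / (-(t₀ * κ * κ))) := by ring
    rw [this, hw, div_mul_cancel₀ _ hd]
  rwa [e1] at this

/-- Step 6 in characteristic two, `n ≥ 3` -/
theorem Cgrp_top_of_two_ge
    (hrad : ∀ b, sympForm n F (ev n F 0) b = 0 → ∃ c, rho (ev n F 0) b c ∈ H)
    {l' : ℕ} (hn : l' + 2 = n) (hl' : 1 ≤ l') (h2 : (2 : F) = 0)
    (hsq : ∀ t : F, ∃ w, w * w = t) (hu : uSp n F ∈ H)
    {c₀ γ κ : F}
    (hy : rho (ev n F 0 - κ • fv n F 1) (-(c₀ • fv n F (l' + 1))) γ ∈ H)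
    (hz : rho (ev n F 0) (c₀ • (ev n F (l' + 1) - fv n F (l' + 1))) γ ∈ H)
    {v : ↥(symplecticGroup (Fin n) F)} (hv : v ∈ H)
    (hv0 : act v (ev n F 0) = ev n F 0 - κ • fv n F 1)
    (hκ : κ ≠ 0) (hc₀ : c₀ ≠ 0) (hγ : γ ≠ 0) (t : F) : t ∈ Cgrp H (ev n F 0) := by
  have h1n : 1 < n := by omega
  have hln : l' + 1 < n := by omega
  -- a)
  have Sa : ∀ x : F, Hm H (ev n F 0) (x • fv n F (l' + 1)) 0 := by
    intro x
    have h0 : sympForm n F (ev n F 0) ((-x) • fv n F l') = 0 := by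
      rw [sympForm_smul_right, form_ev_fv_ne (by omega), mul_zero]
    obtain ⟨τ, hτ'⟩ := hrad _ h0
    have hτ : Hm H (ev n F 0) ((-x) • fv n F l') τ := ⟨h0, hτ'⟩
    have k1 := hτ.act hu uSp_ev_zero
    rw [act_smul, uSp_fv (by omega)] at k1
    have k2 := k1.add hτ.neg
    refine k2.congr (by module) ?_
    simp only [sympForm_smul_left, sympForm_smul_right, form_neg_left, sympForm_sub_right,
      form_fv_fv]
    ring
  -- c)
  have Sc := Hm_ev_last hrad hu (l := l' + 1) (by omega) (by omega)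
  -- d)
  have k3 := (Sc c₀).add (Sa (-c₀))
  have hzm : Hm H (ev n F 0) (c₀ • ev n F (l' + 1) + (-c₀) • fv n F (l' + 1)) γ := by
    refine ⟨k3.1, ?_⟩
    have : c₀ • ev n F (l' + 1) + (-c₀) • fv n F (l' + 1)
        = c₀ • (ev n F (l' + 1) - fv n F (l' + 1)) := by module
    rw [this]; exact hz
  have hγC := hzm.diff k3
  have e0 : γ - (c₀ * c₀ + 0 + sympForm n F ((-c₀) • fv n F (l' + 1)) (c₀ • ev n F (l' + 1)))
      = γ := by
    simp only [sympForm_smul_left, sympForm_smul_right, form_fv_ev_self hln]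
    ring
  rw [e0] at hγC
  -- e1)
  have hw1 : ∀ s : F, s ∈ Cgrp H (ev n F 0) → tv n (ev n F 0 - κ • fv n F 1) s ∈ H := by
    intro s hs
    have := conj_tv n v (ev n F 0) s
    rw [← hv0]
    show tv n (v.1 *ᵥ ev n F 0) s ∈ H
    rw [← this]
    exact H.mul_mem (H.mul_mem hv hs) (H.inv_mem hv)
  have hw10 : act (tv n (ev n F 0 - κ • fv n F 1) γ) (ev n F 0) = ev n F 0 := by
    rw [act_tv, sympForm_sub_right, sympForm_smul_right, form_ev_ev, form_ev_fv_ne (by omega)]
    simp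
  have hw11 : act (tv n (ev n F 0 - κ • fv n F 1) γ) (ev n F 1)
      = ev n F 1 + (-(γ * κ * κ)) • fv n F 1 + (γ * κ) • ev n F 0 := by
    rw [act_tv, sympForm_sub_right, sympForm_smul_right, form_ev_ev, form_ev_fv_self h1n]
    module
  have hβ1 : -(γ * κ * κ) ≠ 0 := by
    rw [neg_ne_zero]; exact mul_ne_zero (mul_ne_zero hγ hκ) hκ
  have S1 : ∀ w : F, Hm H (ev n F 0) (w • fv n F 1) (w * w / (-(γ * κ * κ))) := by
    intro w
    have := Hm_fv_one_of hrad (by omega) (hw1 γ hγC) hw10 hw11 (w / (-(γ * κ * κ)))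
    refine this.congr ?_ ?_
    · rw [div_mul_cancel₀ _ hβ1]
    · rw [mul_assoc 2, h2, zero_mul, add_zero]; field_simp
  -- e2)
  have horth : sympForm n F (ev n F 0 - κ • fv n F 1) (-(c₀ • fv n F (l' + 1))) = 0 := by
    rw [form_neg_right, sympForm_smul_right, sympForm_sub_left, sympForm_smul_left, form_fv_fv,
      form_ev_fv_ne (by omega)]
    simp
  have hyR : rho (ev n F 0 - κ • fv n F 1) (-(c₀ • fv n F (l' + 1))) 0 ∈ H := by
    have := H.mul_mem hy (hw1 (-γ) ((Cgrp H (ev n F 0)).neg_mem hγC))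
    rwa [rho_mul_tv horth, add_neg_cancel] at this
  have hyR0 : act (rho (ev n F 0 - κ • fv n F 1) (-(c₀ • fv n F (l' + 1))) 0) (ev n F 0)
      = ev n F 0 := by
    rw [act_rho horth, sympForm_sub_right, sympForm_smul_right, form_ev_ev, form_neg_right,
      sympForm_smul_right, form_ev_fv_ne (show 0 ≠ 1 by omega),
      form_ev_fv_ne (show 0 ≠ l' + 1 by omega)]
    simp
  have hyRl : act (rho (ev n F 0 - κ • fv n F 1) (-(c₀ • fv n F (l' + 1))) 0) (ev n F (l' + 1))
      = ev n F (l' + 1) + c₀ • (ev n F 0 - κ • fv n F 1) := by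
    rw [act_rho horth, sympForm_sub_right, sympForm_smul_right, form_ev_ev, form_neg_right,
      sympForm_smul_right, form_ev_fv_ne (show l' + 1 ≠ 1 by omega), form_ev_fv_self hln]
    module
  have S2 : ∀ w : F, Hm H (ev n F 0) (w • fv n F 1) 0 := by
    intro w
    set x := -w / (c₀ * κ) with hx
    have k1 := (Sc x).act hyR hyR0
    rw [act_smul, hyRl] at k1
    have k1' : Hm H (ev n F 0) ((x • ev n F (l' + 1) + (-(x * c₀ * κ)) • fv n F 1)
        + (x * c₀) • ev n F 0) (x * x) := k1.congr (by module) rfl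
    have k2 := k1'.of_add_smul
    have k3 := k2.add (Sc (-x))
    refine k3.congr ?_ ?_
    · have : -(x * c₀ * κ) = w := by rw [hx]; field_simp
      rw [← this]; module
    · simp only [sympForm_smul_left, sympForm_smul_right, sympForm_add_right, form_ev_ev,
        form_ev_fv_ne (show l' + 1 ≠ 1 by omega)]
      have : x * x + 2 * (x * c₀) + -x * -x = 2 * (x * x + x * c₀) := by ring
      rw [mul_zero, mul_zero, mul_zero, add_zero, add_zero, this, h2, zero_mul]
  obtain ⟨w, hw⟩ := hsq (t * (-(γ * κ * κ)))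
  have := (S1 w).diff (S2 w)
  have e1 : w * w / (-(γ * κ * κ)) - 0 = t := by
    rw [hw, sub_zero, mul_div_assoc, div_self hβ1, mul_one]
  rwa [e1] at this

end step6

end Cfsg.Agent.Lib.Helper1.Rs
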