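import Mathlib
import Cfsg.Prelude
import Cfsg.Agent.Lib.Helper1.Rs4

set_option autoImplicit false
set_option maxHeartbeats 4000000
set_option linter.unusedVariables false
set_option linter.unusedSectionVars false
set_option linter.style.longLine false
set_option linter.unusedSimpArgs false
set_option linter.deprecated false

/-! Generation of `Sp_2n` by three conjugate regular unipotent elements, part 5:
from the unipotent radical `R_1` to all transvections, and the generation criterion. -/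

namespace Cfsg.Agent.Lib.Helper1.Rs

open Matrix Cfsg Cfsg.Agent.Lib.Helper5.SympTv Cfsg.Agent.Lib.Helper5.SympPerfect
  Cfsg.Agent.Lib.Helper5.SympGen Cfsg.Agent.Lib.Helper1.Rg Cfsg.Agent.Lib.Helper1.Lw

universe u

variable {F : Type u} [Field F] {n : ℕ}

section step7

variable {H : Subgroup ↥(symplecticGroup (Fin n) F)}

/-- all transvections along `x` lie in `H` -/
def Full (H : Subgroup ↥(symplecticGroup (Fin n) F)) (x : Fin n ⊕ Fin n → F) : Prop :=
  ∀ t : F, tv n x t ∈ H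

theorem Full.act {x : Fin n ⊕ Fin n → F} (hx : Full H x) {h : ↥(symplecticGroup (Fin n) F)}
    (hh : h ∈ H) : Full H (Rs.act h x) := by
  intro t
  have := conj_tv n h x t
  show tv n (h.1 *ᵥ x) t ∈ H
  rw [← this]; exact H.mul_mem (H.mul_mem hh (hx t)) (H.inv_mem hh)

theorem Full.smul {x : Fin n ⊕ Fin n → F} (hx : Full H x) (c : F) : Full H (c • x) := by
  intro t; rw [tv_smul]; exact hx _

theorem exists_rho_move {a x x' : Fin n ⊕ Fin n → F} (hx : sympForm n F x a ≠ 0)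
    (hxx : sympForm n F x a = sympForm n F x' a) :
    ∃ b c, sympForm n F a b = 0 ∧ Rs.act (rho a b c) x = x' := by
  set β₀ := sympForm n F x a with hβ₀
  set b := β₀⁻¹ • (x' - x) with hb
  have hab : sympForm n F a b = 0 := by
    rw [hb, sympForm_smul_right, sympForm_sub_right, sympForm_swap n a x', sympForm_swap n a x, ← hxx]
    ring
  refine ⟨b, -(sympForm n F x b) / β₀, hab, ?_⟩
  rw [act_rho hab]
  have e1 : β₀ • b = x' - x := by
    rw [hb, smul_smul, mul_inv_cancel₀ hx, one_smul]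
  have e2 : -(sympForm n F x b) / β₀ * β₀ = -(sympForm n F x b) := div_mul_cancel₀ _ hx
  rw [e1, e2]
  module

theorem full_of_nonperp (hR : ∀ b, sympForm n F (ev n F 0) b = 0 → ∀ c, rho (ev n F 0) b c ∈ H)
    {x₀ : Fin n ⊕ Fin n → F} (hx₀ : sympForm n F x₀ (ev n F 0) ≠ 0) (hf : Full H x₀)
    {x : Fin n ⊕ Fin n → F} (hx : sympForm n F x (ev n F 0) ≠ 0) : Full H x := by
  set l := sympForm n F x (ev n F 0) / sympForm n F x₀ (ev n F 0) with hl
  have h1 : Full H (l • x₀) := hf.smul l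
  have h2 : sympForm n F (l • x₀) (ev n F 0) = sympForm n F x (ev n F 0) := by
    rw [sympForm_smul_left, hl, div_mul_cancel₀ _ hx₀]
  have h3 : sympForm n F (l • x₀) (ev n F 0) ≠ 0 := by rw [h2]; exact hx
  obtain ⟨b, c, hab, hmove⟩ := exists_rho_move h3 h2
  rw [← hmove]
  exact h1.act (hR b hab c)

theorem full_all (hn : 1 ≤ n)
    (hR : ∀ b, sympForm n F (ev n F 0) b = 0 → ∀ c, rho (ev n F 0) b c ∈ H)
    {x₀ : Fin n ⊕ Fin n → F} (hx₀ : sympForm n F x₀ (ev n F 0) ≠ 0) (hf : Full H x₀)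
    (x : Fin n ⊕ Fin n → F) : Full H x := by
  by_cases hx0 : x = 0
  · intro t; rw [hx0, tv_zero_vec]; exact H.one_mem
  by_cases hx : sympForm n F x (ev n F 0) ≠ 0
  · exact full_of_nonperp hR hx₀ hf hx
  · push_neg at hx
    obtain ⟨w, hw1, hw2⟩ := Cfsg.Agent.Lib.Helper5.SympPrimitive.exists_cross n x (ev n F 0) hx0
      (ev_ne_zero (by omega))
    have hwa : sympForm n F w (ev n F 0) ≠ 0 := by
      rw [sympForm_swap]; exact neg_ne_zero.mpr hw2
    have hfw : Full H w := full_of_nonperp hR hx₀ hf hwa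
    have hx' : sympForm n F (Rs.act (tv n w 1) x) (ev n F 0) ≠ 0 := by
      rw [act_tv, sympForm_add_left, sympForm_smul_left, hx, zero_add, one_mul]
      exact mul_ne_zero hw1 hwa
    have hfx' : Full H (Rs.act (tv n w 1) x) := full_of_nonperp hR hx₀ hf hx'
    have := hfx'.act (H.inv_mem (hfw 1))
    rwa [act_inv_act] at this

theorem top_of_full (hf : ∀ x, Full H x) : H = ⊤ := by
  rw [eq_top_iff, ← closure_tvSet_eq_top, Subgroup.closure_le]
  rintro A ⟨w, c, hA⟩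
  have : A = tv n w c := by
    apply Subtype.ext
    rw [hA, tv_coe]
  rw [this]
  exact hf w c

theorem conj_pow_mulVec (p g : ↥(symplecticGroup (Fin n) F)) (k : ℕ)
    (x : Fin n ⊕ Fin n → F) :
    ((p * g * p⁻¹).1 - 1) ^ k *ᵥ x = Rs.act p ((g.1 - 1) ^ k *ᵥ Rs.act p⁻¹ x) := by
  induction k generalizing x with
  | zero => simp
  | succ k ih =>
    rw [pow_mulVec_succ, ih, pow_mulVec_succ]
    congr 2
    rw [sub_mulVec, one_mulVec, sub_mulVec, one_mulVec, act_sub]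
    congr 1
    show Rs.act p⁻¹ (Rs.act (p * g * p⁻¹) x) = Rs.act g (Rs.act p⁻¹ x)
    rw [act_mul, act_mul, act_inv_act]

theorem exists_nonperp {l : ℕ} (hl : l + 1 = n) {κ : F} (hκ : κ ≠ 0)
    (hv : tv n (fv n F 0) κ * uSp n F * (tv n (fv n F 0) κ)⁻¹ ∈ H) :
    ∃ h ∈ H, sympForm n F (Rs.act h (ev n F 0)) (ev n F 0) ≠ 0 := by
  by_contra hcon
  push_neg at hcon
  set v := tv n (fv n F 0) κ * uSp n F * (tv n (fv n F 0) κ)⁻¹ with hvdef
  have h0n : 0 < n := by omega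
  -- the invariant property
  have step : ∀ x : Fin n ⊕ Fin n → F,
      (∀ h ∈ H, sympForm n F (Rs.act h x) (ev n F 0) = 0) →
      (∀ h ∈ H, sympForm n F (Rs.act h ((v.1 - 1) *ᵥ x)) (ev n F 0) = 0) := by
    intro x hx h hh
    rw [sub_mulVec, one_mulVec]
    show sympForm n F (Rs.act h (Rs.act v x - x)) (ev n F 0) = 0
    rw [act_sub, ← act_mul, sympForm_sub_left, hx _ (H.mul_mem hh hv), hx _ hh, sub_zero]
  have steps : ∀ k : ℕ, ∀ h ∈ H,
      sympForm n F (Rs.act h ((v.1 - 1) ^ k *ᵥ ev n F 0)) (ev n F 0) = 0 := by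
    intro k
    induction k with
    | zero => simpa using hcon
    | succ k ih =>
      intro h hh
      rw [pow_mulVec_succ']
      exact step _ ih h hh
  have h1 := steps (2 * n - 1) 1 H.one_mem
  rw [act_one, hvdef, conj_pow_mulVec] at h1
  have e1 : Rs.act (tv n (fv n F 0) κ)⁻¹ (ev n F 0) = ev n F 0 + κ • fv n F 0 := by
    rw [tv_inv, act_tv, form_ev_fv_self h0n]
    module
  have e2 : (uSp n F).1 - 1 = - Pm n F := by unfold Pm Um; abel
  have e3 : (-Pm n F) ^ (2 * n - 1) = -(Pm n F ^ (2 * n - 1)) := by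
    apply Odd.neg_pow
    exact ⟨l, by omega⟩
  have e4 : Pm n F ^ (2 * n - 1) *ᵥ ev n F 0 = 0 :=
    pow_mulVec_eq_zero_of_le _ (by omega) (Pm_pow_ev_eq_zero (F := F) (k := 0) h0n)
  rw [e1, e2, e3, neg_mulVec, mulVec_add, mulVec_smul, e4, Pm_pow_fv_top hl, act_neg, zero_add,
    act_smul, act_smul, act_tv, form_ev_fv_self h0n, form_neg_left, sympForm_smul_left,
    sympForm_smul_left, sympForm_add_left, sympForm_smul_left, form_ev_ev,
    form_fv_ev_self h0n] at h1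
  have h2 : κ * κ * (-1 : F) ^ (l + 1) = 0 := by
    have : -(κ * ((-1 : F) ^ (l + 1) * (0 + κ * -1 * 1))) = κ * κ * (-1 : F) ^ (l + 1) := by ring
    rw [← this]; exact h1
  have h3 : κ * κ * (-1 : F) ^ (l + 1) ≠ 0 :=
    mul_ne_zero (mul_ne_zero hκ hκ) (pow_ne_zero _ (neg_ne_zero.mpr one_ne_zero))
  exact h3 h2

/-- Step 7: the unipotent radical of the stabiliser of `e_1` and a conjugate `v` of `uSp`
generate the symplectic group -/
theorem top_of_rad {l : ℕ} (hl : l + 1 = n) {κ : F} (hκ : κ ≠ 0)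
    (hv : tv n (fv n F 0) κ * uSp n F * (tv n (fv n F 0) κ)⁻¹ ∈ H)
    (hR : ∀ b, sympForm n F (ev n F 0) b = 0 → ∀ c, rho (ev n F 0) b c ∈ H) : H = ⊤ := by
  obtain ⟨h, hh, hne⟩ := exists_nonperp hl hκ hv
  have hf0 : Full H (ev n F 0) := by
    intro t
    have := hR 0 (form_zero_right _) t
    rwa [rho_zero] at this
  exact top_of_full (full_all (by omega) hR hne (hf0.act hh))

/-- combining the radical cosets with the centre -/
theorem rad_all
    (hrad : ∀ b, sympForm n F (ev n F 0) b = 0 → ∃ c, rho (ev n F 0) b c ∈ H)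
    (hC : ∀ t : F, t ∈ Cgrp H (ev n F 0)) :
    ∀ b, sympForm n F (ev n F 0) b = 0 → ∀ c, rho (ev n F 0) b c ∈ H := by
  intro b hb c
  obtain ⟨c', hc'⟩ := hrad b hb
  have h1 : Hm H (ev n F 0) b c' := ⟨hb, hc'⟩
  have h2 := h1.shift (hC (c - c'))
  have : c' + (c - c') = c := by ring
  rw [this] at h2
  exact h2.2

end step7

/-! ### the hypotheses on the three generators -/

/-- the subgroup `H` contains `uSp`, the radical element `z` and the conjugate `v` of `uSp` -/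
structure FullHyp (n : ℕ) (F : Type u) [Field F] (H : Subgroup ↥(symplecticGroup (Fin n) F))
    (l' : ℕ) (κ c₀ γ : F) : Prop where
  hn : l' + 2 = n
  hu : uSp n F ∈ H
  hz : rho (ev n F 0) (c₀ • (ev n F (l' + 1) - fv n F (l' + 1))) γ ∈ H
  hv : tv n (fv n F 0) κ * uSp n F * (tv n (fv n F 0) κ)⁻¹ ∈ H
  hκ : κ ≠ 0
  hc₀ : c₀ ≠ 0
  hγ : γ ≠ 0

section fullhyp

variable {H : Subgroup ↥(symplecticGroup (Fin n) F)} {l' : ℕ} {κ c₀ γ : F}

theorem vconj_ev_zero (hn : 2 ≤ n) (κ : F) :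
    act (tv n (fv n F 0) κ * uSp n F * (tv n (fv n F 0) κ)⁻¹) (ev n F 0)
      = ev n F 0 - κ • fv n F 1 := by
  have h0n : 0 < n := by omega
  have e1 : act (tv n (fv n F 0) κ)⁻¹ (ev n F 0) = ev n F 0 + κ • fv n F 0 := by
    rw [tv_inv, act_tv, form_ev_fv_self h0n]
    module
  have e2 : act (uSp n F) (ev n F 0 + κ • fv n F 0)
      = ev n F 0 + κ • (fv n F 0 - fv n F 1) := by
    rw [act_add, act_smul, uSp_ev_zero, uSp_fv (by omega)]
  rw [act_mul, act_mul, e1, e2, act_tv]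
  simp only [sympForm_add_left, sympForm_smul_left, sympForm_sub_left, form_ev_fv_self h0n,
    form_fv_fv]
  module

theorem vconj_last {l : ℕ} (hl : l + 1 = n) (hl1 : 1 ≤ l) (κ : F) :
    act (tv n (fv n F 0) κ * uSp n F * (tv n (fv n F 0) κ)⁻¹) (ev n F l - fv n F l)
      = - fv n F l := by
  have e1 : act (tv n (fv n F 0) κ)⁻¹ (ev n F l - fv n F l) = ev n F l - fv n F l := by
    rw [tv_inv, act_tv, sympForm_sub_left, form_ev_fv_ne (by omega), form_fv_fv]
    simp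
  have e2 : act (uSp n F) (ev n F l - fv n F l) = - fv n F l := by
    have := uSp_inv_fv_last (F := F) hl
    rw [act_inv_eq_iff] at this
    have h2 : ev n F l - fv n F l = -(fv n F l - ev n F l) := by abel
    rw [h2, act_neg, ← this]
  rw [act_mul, act_mul, e1, e2, act_neg, act_tv, form_fv_fv]
  simp

theorem FullHyp.y_mem (C : FullHyp n F H l' κ c₀ γ) :
    rho (ev n F 0 - κ • fv n F 1) (-(c₀ • fv n F (l' + 1))) γ ∈ H := by
  have hn := C.hn
  have h1 := conj_rho (tv n (fv n F 0) κ * uSp n F * (tv n (fv n F 0) κ)⁻¹) (ev n F 0)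
    (c₀ • (ev n F (l' + 1) - fv n F (l' + 1))) γ
  rw [vconj_ev_zero (by omega), act_smul, vconj_last (by omega) (by omega), smul_neg] at h1
  rw [← h1]
  exact H.mul_mem (H.mul_mem C.hv C.hz) (H.inv_mem C.hv)

theorem y_orth (hl : 1 ≤ l') (κ c₀ : F) :
    sympForm n F (ev n F 0 - κ • fv n F 1) (-(c₀ • fv n F (l' + 1))) = 0 := by
  rw [form_neg_right, sympForm_smul_right, sympForm_sub_left, sympForm_smul_left, form_fv_fv,
    form_ev_fv_ne (by omega)]
  simp

theorem y_orth' (κ c₀ : F) (k : ℕ) (hk : 1 ≤ k) :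
    sympForm n F (ev n F 0 - κ • fv n F 1) (-(c₀ • fv n F k)) = 0 := by
  rw [form_neg_right, sympForm_smul_right, sympForm_sub_left, sympForm_smul_left, form_fv_fv,
    form_ev_fv_ne (by omega)]
  simp

theorem y_ev_zero (κ c₀ γ : F) (k : ℕ) (hk : 1 ≤ k) :
    act (rho (ev n F 0 - κ • fv n F 1) (-(c₀ • fv n F k)) γ) (ev n F 0) = ev n F 0 := by
  rw [act_rho (y_orth' κ c₀ k hk), sympForm_sub_right, sympForm_smul_right, form_ev_ev,
    form_neg_right, sympForm_smul_right, form_ev_fv_ne (show 0 ≠ 1 by omega),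
    form_ev_fv_ne (show 0 ≠ k by omega)]
  simp

theorem y_ev_one_ge (hn : 2 ≤ n) (κ c₀ γ : F) (k : ℕ) (hk : 2 ≤ k) :
    act (rho (ev n F 0 - κ • fv n F 1) (-(c₀ • fv n F k)) γ) (ev n F 1)
      = ev n F 1 + (-(κ * c₀)) • fv n F k + (-(γ * κ * κ)) • fv n F 1 + (γ * κ) • ev n F 0 := by
  rw [act_rho (y_orth' κ c₀ k (by omega)), sympForm_sub_right, sympForm_smul_right, form_ev_ev,
    form_neg_right, sympForm_smul_right, form_ev_fv_self (show 1 < n by omega),
    form_ev_fv_ne (show 1 ≠ k by omega)]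
  module

theorem y_ev_one_two (hn : 2 ≤ n) (κ c₀ γ : F) :
    act (rho (ev n F 0 - κ • fv n F 1) (-(c₀ • fv n F 1)) γ) (ev n F 1)
      = ev n F 1 + (-(κ * (2 * c₀ + γ * κ))) • fv n F 1 + (c₀ + γ * κ) • ev n F 0 := by
  rw [act_rho (y_orth' κ c₀ 1 le_rfl), sympForm_sub_right, sympForm_smul_right, form_ev_ev,
    form_neg_right, sympForm_smul_right, form_ev_fv_self (show 1 < n by omega)]
  module

/-- Theorem B: `n ≥ 3` -/
theorem FullHyp.top_of_ge (C : FullHyp n F H l' κ c₀ γ) (hl' : 1 ≤ l')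
    (hβ : ∀ t : F, t ≠ 0 → ∃ k : ℕ, t = (-(γ * κ * κ)) ^ k ∨ t = -(-(γ * κ * κ)) ^ k)
    (hsq : (2 : F) = 0 → ∀ t : F, ∃ w, w * w = t) : H = ⊤ := by
  have hn := C.hn
  have hβ0 : -(γ * κ * κ) ≠ 0 := by
    rw [neg_ne_zero]; exact mul_ne_zero (mul_ne_zero C.hγ C.hκ) C.hκ
  have hv0 := vconj_ev_zero (n := n) (F := F) (by omega) κ
  have core : CoreHyp n F H l' (rho (ev n F 0 - κ • fv n F 1) (-(c₀ • fv n F (l' + 1))) γ)
      (-(κ * c₀)) (-(γ * κ * κ)) (γ * κ) c₀ :=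
    { hn := hn
      hu := C.hu
      hy := C.y_mem
      hy0 := y_ev_zero κ c₀ γ (l' + 1) (by omega)
      hy1 := y_ev_one_ge (by omega) κ c₀ γ (l' + 1) (by omega)
      hα := by intro h; omega
      hz := by
        refine ⟨?_, γ, C.hz⟩
        rw [sympForm_smul_right, sympForm_sub_right, form_ev_ev, form_ev_fv_ne (by omega)]
        simp
      hc₀ := C.hc₀
      hβ0 := hβ0
      hβ := hβ }
  have hrad : ∀ b, sympForm n F (ev n F 0) b = 0 → ∃ c, rho (ev n F 0) b c ∈ H :=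
    fun b hb => core.exists_rho hb
  have hC : ∀ t : F, t ∈ Cgrp H (ev n F 0) := by
    intro t
    by_cases h2 : (2 : F) = 0
    · exact Cgrp_top_of_two_ge hrad hn hl' h2 (hsq h2) C.hu C.y_mem C.hz C.hv hv0 C.hκ C.hc₀ C.hγ t
    · exact Cgrp_top_of_odd hrad (by omega) h2 t
  exact top_of_rad (l := l' + 1) (by omega) C.hκ C.hv (rad_all hrad hC)

/-- Theorem A: `n = 2` -/
theorem FullHyp.top_of_two (C : FullHyp n F H l' κ c₀ γ) (hl' : l' = 0)
    (hβ0 : -(κ * (2 * c₀ + γ * κ)) ≠ 0)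
    (hβ : ∀ t : F, t ≠ 0 → ∃ k : ℕ, t = (-(κ * (2 * c₀ + γ * κ))) ^ k
      ∨ t = -(-(κ * (2 * c₀ + γ * κ))) ^ k)
    (hsq : (2 : F) = 0 → ∀ t : F, ∃ w, w * w = t)
    (ht₀ : (2 : F) = 0 → γ - c₀ * c₀ / (-(κ * (2 * c₀ + γ * κ))) ≠ 0) : H = ⊤ := by
  have hn := C.hn
  subst hl'
  have hv0 := vconj_ev_zero (n := n) (F := F) (by omega) κ
  have hy := C.y_mem
  have hz := C.hz
  simp only [zero_add] at hy hz
  have core : CoreHyp n F H 0 (rho (ev n F 0 - κ • fv n F 1) (-(c₀ • fv n F 1)) γ)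
      0 (-(κ * (2 * c₀ + γ * κ))) (c₀ + γ * κ) c₀ :=
    { hn := hn
      hu := C.hu
      hy := hy
      hy0 := y_ev_zero κ c₀ γ 1 le_rfl
      hy1 := by
        rw [y_ev_one_two (by omega), zero_smul, add_zero]
      hα := fun _ => rfl
      hz := by
        refine ⟨?_, γ, hz⟩
        rw [sympForm_smul_right, sympForm_sub_right, form_ev_ev, form_ev_fv_ne (by omega)]
        simp
      hc₀ := C.hc₀
      hβ0 := hβ0
      hβ := hβ }
  have hrad : ∀ b, sympForm n F (ev n F 0) b = 0 → ∃ c, rho (ev n F 0) b c ∈ H :=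
    fun b hb => core.exists_rho hb
  have hC : ∀ t : F, t ∈ Cgrp H (ev n F 0) := by
    intro t
    by_cases h2 : (2 : F) = 0
    · refine Cgrp_top_of_two_two hrad (by omega) h2 (hsq h2) C.hu hy (y_ev_zero κ c₀ γ 1 le_rfl)
        (y_ev_one_two (by omega) κ c₀ γ) hβ0 hz C.hv hv0 (ht₀ h2) C.hκ ?_ t
      -- β ≠ β'
      intro hEq
      have h2' : ∀ s : F, 2 * s = 0 := fun s => by rw [h2, zero_mul]
      have hb : -(κ * (2 * c₀ + γ * κ)) = -(γ * κ * κ) := by rw [h2', zero_add]; ring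
      rw [hb] at hEq
      have hβ1 : γ * κ * κ ≠ 0 := mul_ne_zero (mul_ne_zero C.hγ C.hκ) C.hκ
      have : c₀ * c₀ / -(γ * κ * κ) * κ * κ = 0 := by
        have h3 := neg_injective hEq
        linear_combination h3
      have hne : c₀ * c₀ / -(γ * κ * κ) * κ * κ ≠ 0 :=
        mul_ne_zero (mul_ne_zero (div_ne_zero (mul_ne_zero C.hc₀ C.hc₀) (neg_ne_zero.mpr hβ1))
          C.hκ) C.hκ
      exact hne this
    · exact Cgrp_top_of_odd hrad (by omega) h2 t
  exact top_of_rad (l := 1) (by omega) C.hκ C.hv (rad_all hrad hC)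

end fullhyp

end Cfsg.Agent.Lib.Helper1.Rs
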