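import Mathlib
import Cfsg.Prelude
import Cfsg.Agent.Lib.Helper1.Rs5

set_option autoImplicit false
set_option maxHeartbeats 4000000
set_option linter.unusedVariables false
set_option linter.unusedSectionVars false
set_option linter.style.longLine false
set_option linter.unusedSimpArgs false
set_option linter.deprecated false

/-! Generation of `Sp_2n` by three conjugate regular unipotent elements, part 6:
the conjugacy of `uSp * z` with `uSp`, the choice of parameters and the main theorem. -/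

namespace Cfsg.Agent.Lib.Helper1.Rs

open Matrix Cfsg Cfsg.Agent.Lib.Helper5.SympTv Cfsg.Agent.Lib.Helper5.SympPerfect
  Cfsg.Agent.Lib.Helper5.SympGen Cfsg.Agent.Lib.Helper1.Rg Cfsg.Agent.Lib.Helper1.Lw

universe u

variable {F : Type u} [Field F] {n : ℕ}

theorem ext_basis {g h : ↥(symplecticGroup (Fin n) F)}
    (he : ∀ k, k < n → act g (ev n F k) = act h (ev n F k))
    (hf : ∀ k, k < n → act g (fv n F k) = act h (fv n F k)) : g = h := by
  apply Subtype.ext
  rw [← sub_eq_zero]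
  apply eq_zero_of_basis
  · intro k hk
    rw [sub_mulVec]
    exact sub_eq_zero.mpr (he k hk)
  · intro k hk
    rw [sub_mulVec]
    exact sub_eq_zero.mpr (hf k hk)

theorem uSp_inv_fv_pred {l' : ℕ} (hl : l' + 2 = n) :
    act (uSp n F)⁻¹ (fv n F l') = fv n F l' + fv n F (l' + 1) - ev n F (l' + 1) := by
  rw [act_inv_eq_iff]
  have h1 := uSp_inv_fv_last (n := n) (F := F) (l := l' + 1) (by omega)
  rw [act_inv_eq_iff] at h1
  have h2 : fv n F l' + fv n F (l' + 1) - ev n F (l' + 1)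
      = fv n F l' + (fv n F (l' + 1) - ev n F (l' + 1)) := by abel
  rw [h2, act_add, ← h1, uSp_fv (by omega)]
  abel

theorem form_act_inv_uSp {b : Fin n ⊕ Fin n → F} (hb : sympForm n F (ev n F 0) b = 0) :
    sympForm n F (ev n F 0) (act (uSp n F)⁻¹ b) = 0 := by
  have := form_act (uSp n F)⁻¹ (ev n F 0) b
  rw [uSp_inv_ev_zero] at this
  rw [this, hb]

/-- conjugating `uSp` by an element of the radical -/
theorem rho_conj_uSp {b : Fin n ⊕ Fin n → F} (hb : sympForm n F (ev n F 0) b = 0) (c : F) :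
    rho (ev n F 0) b c * uSp n F * (rho (ev n F 0) b c)⁻¹
      = uSp n F * rho (ev n F 0) (act (uSp n F)⁻¹ b - b)
          (-(sympForm n F b (act (uSp n F)⁻¹ b))) := by
  have e : rho (ev n F 0) b c * uSp n F * (rho (ev n F 0) b c)⁻¹
      = uSp n F * (((uSp n F)⁻¹ * rho (ev n F 0) b c * uSp n F) * (rho (ev n F 0) b c)⁻¹) := by
    group
  have hnb : sympForm n F (ev n F 0) (-b) = 0 := by rw [form_neg_right, hb, neg_zero]
  rw [e, conj_inv_rho, uSp_inv_ev_zero, rho_inv hb, rho_mul (form_act_inv_uSp hb) hnb,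
    form_neg_left]
  congr 2
  · abel
  · ring

/-- conjugating `uSp` by a transvection along `e_2` -/
theorem tv_conj_uSp (hn : 2 ≤ n) (t : F) :
    tv n (ev n F 1) t * uSp n F * (tv n (ev n F 1) t)⁻¹
      = uSp n F * rho (ev n F 0) (-(t • ev n F 1)) t := by
  have e : tv n (ev n F 1) t * uSp n F * (tv n (ev n F 1) t)⁻¹
      = uSp n F * (((uSp n F)⁻¹ * tv n (ev n F 1) t * ((uSp n F)⁻¹)⁻¹) * (tv n (ev n F 1) t)⁻¹) := by
    group
  have h1 : (uSp n F)⁻¹ * tv n (ev n F 1) t * ((uSp n F)⁻¹)⁻¹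
      = tv n (ev n F 1 - ev n F 0) t := by
    rw [conj_tv]
    have := uSp_inv_ev_succ (n := n) (F := F) (k := 0) (by omega)
    rw [zero_add] at this
    show tv n (act (uSp n F)⁻¹ (ev n F 1)) t = _
    rw [this]
  have hab : sympForm n F (ev n F 0) (ev n F 1) = 0 := form_ev_ev 0 1
  rw [e, h1, tv_sub_eq hab]
  congr 1
  have h2 := conj_rho (tv n (ev n F 1) t) (ev n F 0) (-(t • ev n F 1)) t
  rw [tv_ev_ev, act_neg, act_smul, tv_ev_ev] at h2
  exact h2

/-- conjugating a radical element by a transvection along `e_2` -/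
theorem tv_conj_rho (t : F) (b : Fin n ⊕ Fin n → F) (c : F) :
    tv n (ev n F 1) t * rho (ev n F 0) b c * (tv n (ev n F 1) t)⁻¹
      = rho (ev n F 0) (act (tv n (ev n F 1) t) b) c := by
  have := conj_rho (tv n (ev n F 1) t) (ev n F 0) b c
  rwa [tv_ev_ev] at this

theorem conj_mul_conj {G : Type*} [Group G] (g a b : G) :
    g * (a * b) * g⁻¹ = (g * a * g⁻¹) * (g * b * g⁻¹) := by group

theorem conj_conj {G : Type*} [Group G] (g h a : G) :
    (g * h) * a * (g * h)⁻¹ = g * (h * a * h⁻¹) * g⁻¹ := by group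

/-- conjugacy for `n ≥ 3` -/
theorem conj_ge {l' : ℕ} (hn : l' + 2 = n) (hl' : 1 ≤ l') (c₀ γ : F) :
    ∃ g : ↥(symplecticGroup (Fin n) F), g * uSp n F * g⁻¹
      = uSp n F * rho (ev n F 0) (c₀ • (ev n F (l' + 1) - fv n F (l' + 1))) γ := by
  have hb₁ : sympForm n F (ev n F 0) (-(c₀ • fv n F l')) = 0 := by
    rw [form_neg_right, sympForm_smul_right, form_ev_fv_ne (by omega)]; simp
  have hb₂ : sympForm n F (ev n F 0) (-(γ • ev n F 2)) = 0 := by
    rw [form_neg_right, sympForm_smul_right, form_ev_ev]; simp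
  refine ⟨rho (ev n F 0) (-(c₀ • fv n F l')) 0 * (tv n (ev n F 1) γ *
    rho (ev n F 0) (-(γ • ev n F 2)) 0), ?_⟩
  -- step 1
  have s1 : rho (ev n F 0) (-(γ • ev n F 2)) 0 * uSp n F * (rho (ev n F 0) (-(γ • ev n F 2)) 0)⁻¹
      = uSp n F * rho (ev n F 0) (γ • ev n F 1) 0 := by
    rw [rho_conj_uSp hb₂]
    have h2 := uSp_inv_ev_succ (n := n) (F := F) (k := 1) (by omega)
    have h2' : act (uSp n F)⁻¹ (ev n F 2) = ev n F 2 - ev n F 1 := h2
    rw [act_neg, act_smul, h2']
    congr 2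
    · module
    · simp only [form_neg_left, form_neg_right, sympForm_smul_left, sympForm_smul_right,
        sympForm_sub_right, form_ev_ev]
      ring
  -- step 2
  have s2 : tv n (ev n F 1) γ * (uSp n F * rho (ev n F 0) (γ • ev n F 1) 0)
      * (tv n (ev n F 1) γ)⁻¹ = uSp n F * tv n (ev n F 0) γ := by
    rw [conj_mul_conj, tv_conj_uSp (by omega), tv_conj_rho, act_smul, tv_ev_ev, mul_assoc]
    congr 1
    have h1 : sympForm n F (ev n F 0) (-(γ • ev n F 1)) = 0 := by
      rw [form_neg_right, sympForm_smul_right, form_ev_ev]; simp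
    have h2 : sympForm n F (ev n F 0) (γ • ev n F 1) = 0 := by
      rw [sympForm_smul_right, form_ev_ev]; simp
    rw [rho_mul h1 h2, neg_add_cancel, rho_zero]
    congr 1
    simp only [form_neg_right, sympForm_smul_left, sympForm_smul_right, form_ev_ev]
    ring
  -- step 3
  have s3 : rho (ev n F 0) (-(c₀ • fv n F l')) 0 * (uSp n F * tv n (ev n F 0) γ)
      * (rho (ev n F 0) (-(c₀ • fv n F l')) 0)⁻¹
      = uSp n F * rho (ev n F 0) (c₀ • (ev n F (l' + 1) - fv n F (l' + 1))) γ := by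
    rw [conj_mul_conj, rho_conj_uSp hb₁, conj_tv]
    have hfix : (rho (ev n F 0) (-(c₀ • fv n F l')) 0).1 *ᵥ ev n F 0 = ev n F 0 := by
      show act _ _ = _
      rw [act_rho hb₁, sympForm_self, hb₁]
      simp
    rw [hfix, act_neg, act_smul, uSp_inv_fv_pred hn, mul_assoc]
    congr 1
    have e1 : -(c₀ • (fv n F l' + fv n F (l' + 1) - ev n F (l' + 1))) - -(c₀ • fv n F l')
        = c₀ • (ev n F (l' + 1) - fv n F (l' + 1)) := by module
    have e2 : -(sympForm n F (-(c₀ • fv n F l'))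
        (-(c₀ • (fv n F l' + fv n F (l' + 1) - ev n F (l' + 1))))) = 0 := by
      simp only [form_neg_left, form_neg_right, sympForm_smul_left, sympForm_smul_right,
        sympForm_sub_right, sympForm_add_right, form_fv_fv,
        form_fv_ev_ne (show l' ≠ l' + 1 by omega)]
      ring
    have h3 : sympForm n F (ev n F 0) (c₀ • (ev n F (l' + 1) - fv n F (l' + 1))) = 0 := by
      rw [sympForm_smul_right, sympForm_sub_right, form_ev_ev, form_ev_fv_ne (by omega)]; simp
    rw [e1, e2, rho_mul_tv h3, zero_add]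
  rw [conj_conj, conj_conj, s1, s2, s3]

/-! ### `n = 2` -/

/-- diagonal entries -/
def dnat (s : F) (k : ℕ) : F := if k = 0 then s else 1

/-- the diagonal element `diag(s, 1, …, 1)` of `GL_n` -/
noncomputable def dGL (n : ℕ) {s : F} (hs : s ≠ 0) : Matrix.GeneralLinearGroup (Fin n) F where
  val := Matrix.diagonal (fun i => dnat s i.val)
  inv := Matrix.diagonal (fun i => dnat s⁻¹ i.val)
  val_inv := by
    rw [Matrix.diagonal_mul_diagonal, ← Matrix.diagonal_one]
    congr 1
    funext i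
    unfold dnat
    split_ifs
    · exact mul_inv_cancel₀ hs
    · exact mul_one 1
  inv_val := by
    rw [Matrix.diagonal_mul_diagonal, ← Matrix.diagonal_one]
    congr 1
    funext i
    unfold dnat
    split_ifs
    · exact inv_mul_cancel₀ hs
    · exact mul_one 1

theorem diagonal_mulVec_E (s : F) (k : ℕ) :
    Matrix.diagonal (fun i : Fin n => dnat s i.val) *ᵥ E n F k = dnat s k • E n F k := by
  funext i
  rw [Matrix.mulVec_diagonal, Pi.smul_apply, E_apply, smul_eq_mul]
  by_cases h : i.val = k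
  · rw [if_pos h, h]
  · rw [if_neg h, mul_zero, mul_zero]

theorem elim_smul_zero (c : F) (a : Fin n → F) :
    (Sum.elim (c • a) (0 : Fin n → F) : Fin n ⊕ Fin n → F) = c • Sum.elim a (0 : Fin n → F) := by
  ext i; cases i <;> simp

theorem elim_zero_smul (c : F) (a : Fin n → F) :
    (Sum.elim (0 : Fin n → F) (c • a) : Fin n ⊕ Fin n → F) = c • Sum.elim (0 : Fin n → F) a := by
  ext i; cases i <;> simp

theorem dGL_ev {s : F} (hs : s ≠ 0) (k : ℕ) :
    act (leviSp n F (dGL n hs)) (ev n F k) = dnat s k • ev n F k := by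
  rw [act_levi, ev_comp_inl, ev_comp_inr, mulVec_zero]
  show Sum.elim (Matrix.diagonal (fun i : Fin n => dnat s i.val) *ᵥ E n F k) (0 : Fin n → F) = _
  rw [diagonal_mulVec_E, elim_smul_zero]
  rfl

theorem dGL_fv {s : F} (hs : s ≠ 0) (k : ℕ) :
    act (leviSp n F (dGL n hs)) (fv n F k) = dnat s⁻¹ k • fv n F k := by
  rw [act_levi, fv_comp_inl, fv_comp_inr, mulVec_zero]
  show Sum.elim (0 : Fin n → F) ((Matrix.diagonal (fun i : Fin n => dnat s⁻¹ i.val))ᵀ *ᵥ E n F k) = _
  rw [Matrix.diagonal_transpose, diagonal_mulVec_E, elim_zero_smul]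
  rfl

/-- for `n = 2`, `uSp = R(-f_2, 0) * tv(e_2, 1)` -/
theorem uSp_eq_two (hn : n = 2) :
    uSp n F = rho (ev n F 0) (-(fv n F 1)) 0 * tv n (ev n F 1) 1 := by
  have h1n : 1 < n := by omega
  have h0n : 0 < n := by omega
  have hb : sympForm n F (ev n F 0) (-(fv n F 1)) = 0 := by
    rw [form_neg_right, form_ev_fv_ne (by omega), neg_zero]
  have hu1 : act (uSp n F) (ev n F 1) = ev n F 1 + ev n F 0 := by
    have := uSp_inv_ev_succ (n := n) (F := F) (k := 0) (by omega)
    rw [zero_add, act_inv_eq_iff, act_sub, uSp_ev_zero] at this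
    exact (sub_eq_iff_eq_add.mp this.symm)
  apply ext_basis
  · intro k hk
    rw [act_mul, tv_ev_ev, act_rho hb, form_ev_ev, form_neg_right]
    have hk' : k = 0 ∨ k = 1 := by omega
    rcases hk' with rfl | rfl
    · rw [uSp_ev_zero, form_ev_fv_ne (by omega)]; simp
    · rw [hu1, form_ev_fv_self h1n]; module
  · intro k hk
    have hk' : k = 0 ∨ k = 1 := by omega
    rcases hk' with rfl | rfl
    · rw [act_mul, act_tv, form_fv_ev_ne (by omega), mul_zero, zero_smul, add_zero, act_rho hb,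
        form_fv_ev_self h0n, form_neg_right, form_fv_fv, uSp_fv (by omega)]
      module
    · rw [act_mul, act_tv, form_fv_ev_self h1n, uSp_fv_last (l := 1) (by omega), hu1, act_rho hb]
      simp only [sympForm_add_left, sympForm_smul_left, form_neg_right, form_fv_fv, form_ev_ev,
        form_fv_ev_ne (show 1 ≠ 0 by omega), form_ev_fv_self h1n]
      module

/-- conjugacy for `n = 2` -/
theorem conj_two (hn : n = 2) {γ : F} (hs : 1 + γ ≠ 0) :
    ∃ g : ↥(symplecticGroup (Fin n) F), g * uSp n F * g⁻¹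
      = uSp n F * rho (ev n F 0) (γ • (ev n F 1 - fv n F 1)) γ := by
  have h1n : 1 < n := by omega
  have h0n : 0 < n := by omega
  set s := 1 + γ with hsdef
  set D := leviSp n F (dGL n hs) with hD
  have hDa : act D (ev n F 0) = s • ev n F 0 := by rw [hD, dGL_ev]; rfl
  have hDe : act D (ev n F 1) = ev n F 1 := by
    rw [hD, dGL_ev]; unfold dnat; rw [if_neg (by omega), one_smul]
  have hDf : act D (fv n F 1) = fv n F 1 := by
    rw [hD, dGL_fv]; unfold dnat; rw [if_neg (by omega), one_smul]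
  have hb : sympForm n F (ev n F 0) (-(fv n F 1)) = 0 := by
    rw [form_neg_right, form_ev_fv_ne (by omega), neg_zero]
  have hbs : sympForm n F (ev n F 0) (-(s • fv n F 1)) = 0 := by
    rw [form_neg_right, sympForm_smul_right, form_ev_fv_ne (by omega)]; simp
  -- the right hand side
  have rhs : uSp n F * rho (ev n F 0) (γ • (ev n F 1 - fv n F 1)) γ
      = rho (ev n F 0) (-(s • fv n F 1)) γ * tv n (ev n F 1) 1 := by
    rw [uSp_eq_two hn, mul_assoc]
    have h1 : tv n (ev n F 1) 1 * rho (ev n F 0) (γ • (ev n F 1 - fv n F 1)) γ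
        = rho (ev n F 0) (-(γ • fv n F 1)) γ * tv n (ev n F 1) 1 := by
      have := tv_conj_rho (n := n) (1 : F) (γ • (ev n F 1 - fv n F 1)) γ
      rw [act_smul, act_sub, tv_ev_ev, act_tv, form_fv_ev_self h1n] at this
      have e : γ • (ev n F 1 - (fv n F 1 + ((1 : F) * 1) • ev n F 1)) = -(γ • fv n F 1) := by
        module
      rw [e] at this
      rw [← this]
      group
    rw [h1, ← mul_assoc]
    congr 1
    have hb2 : sympForm n F (ev n F 0) (-(γ • fv n F 1)) = 0 := by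
      rw [form_neg_right, sympForm_smul_right, form_ev_fv_ne (by omega)]; simp
    rw [rho_mul hb hb2]
    congr 1
    · rw [hsdef]; module
    · simp only [form_neg_left, form_neg_right, sympForm_smul_left, form_fv_fv]
      ring
  -- the conjugator
  refine ⟨rho (ev n F 0) (-(fv n F 1)) 0 * (tv n (ev n F 1) s⁻¹ * D), ?_⟩
  rw [rhs, conj_conj, conj_conj]
  -- conjugation by D
  have s1 : D * uSp n F * D⁻¹ = rho (ev n F 0) (-(s • fv n F 1)) 0 * tv n (ev n F 1) 1 := by
    rw [uSp_eq_two hn, conj_mul_conj, conj_rho, conj_tv]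
    have : D.1 *ᵥ ev n F 1 = ev n F 1 := hDe
    rw [this, hDa, act_neg, hDf]
    congr 1
    have hab : sympForm n F (ev n F 0) (-(fv n F 1)) = 0 := hb
    rw [rho_smul_left hab, mul_zero, smul_neg]
  -- conjugation by the transvection
  have s2 : tv n (ev n F 1) s⁻¹ * (rho (ev n F 0) (-(s • fv n F 1)) 0 * tv n (ev n F 1) 1)
      * (tv n (ev n F 1) s⁻¹)⁻¹
      = rho (ev n F 0) (-(s • fv n F 1) - ev n F 1) 0 * tv n (ev n F 1) 1 := by
    rw [conj_mul_conj, tv_conj_rho, conj_tv]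
    have h1 : (tv n (ev n F 1) s⁻¹).1 *ᵥ ev n F 1 = ev n F 1 := tv_ev_ev 1 s⁻¹ 1
    rw [h1, act_neg, act_smul, act_tv, form_fv_ev_self h1n]
    congr 2
    have : s * (s⁻¹ * 1) = 1 := by rw [mul_one, mul_inv_cancel₀ hs]
    rw [smul_add, smul_smul, this]
    module
  -- conjugation by the radical element
  have s3 : rho (ev n F 0) (-(fv n F 1)) 0 * (rho (ev n F 0) (-(s • fv n F 1) - ev n F 1) 0 * tv n (ev n F 1) 1)
      * (rho (ev n F 0) (-(fv n F 1)) 0)⁻¹ = rho (ev n F 0) (-(s • fv n F 1)) γ * tv n (ev n F 1) 1 := by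
    have hinv : (rho (ev n F 0) (-(fv n F 1)) 0)⁻¹ = rho (ev n F 0) (fv n F 1) 0 := by
      rw [rho_inv hb, neg_neg, neg_zero]
    have h1 : tv n (ev n F 1) 1 * rho (ev n F 0) (fv n F 1) 0
        = rho (ev n F 0) (fv n F 1 + ev n F 1) 0 * tv n (ev n F 1) 1 := by
      have := tv_conj_rho (n := n) (1 : F) (fv n F 1) 0
      rw [act_tv, form_fv_ev_self h1n, mul_one, one_smul] at this
      rw [← this]
      group
    rw [hinv, mul_assoc, mul_assoc, h1, ← mul_assoc, ← mul_assoc]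
    congr 1
    have hb3 : sympForm n F (ev n F 0) (-(s • fv n F 1) - ev n F 1) = 0 := by
      rw [sympForm_sub_right, hbs, form_ev_ev, sub_zero]
    have hb4 : sympForm n F (ev n F 0) (-(fv n F 1) + (-(s • fv n F 1) - ev n F 1)) = 0 := by
      rw [sympForm_add_right, hb, hb3, add_zero]
    have hb5 : sympForm n F (ev n F 0) (fv n F 1 + ev n F 1) = 0 := by
      rw [sympForm_add_right, form_ev_fv_ne (by omega), form_ev_ev, add_zero]
    rw [rho_mul hb hb3, rho_mul hb4 hb5]
    congr 1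
    · module
    · simp only [form_neg_left, form_neg_right, sympForm_smul_left, sympForm_smul_right,
        sympForm_add_left, sympForm_add_right, sympForm_sub_left, sympForm_sub_right, form_fv_fv,
        form_ev_ev, form_ev_fv_self h1n, form_fv_ev_self h1n]
      rw [hsdef]; ring
  rw [s1, s2, s3]

/-! ### parameters -/

theorem gen_pm {g₀ : F} (hg : ∀ t : F, t ≠ 0 → ∃ k : ℕ, g₀ ^ k = t) (t : F) (ht : t ≠ 0) :
    ∃ k : ℕ, t = (-g₀) ^ k ∨ t = -(-g₀) ^ k := by
  obtain ⟨k, hk⟩ := hg t ht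
  refine ⟨k, ?_⟩
  rcases Nat.even_or_odd k with he | ho
  · left; rw [he.neg_pow, hk]
  · right; rw [ho.neg_pow, neg_neg, hk]

theorem exists_gen [Fintype F] : ∃ g₀ : F, g₀ ≠ 0 ∧ ∀ t : F, t ≠ 0 → ∃ k : ℕ, g₀ ^ k = t := by
  classical
  obtain ⟨γ, hγ⟩ := IsCyclic.exists_monoid_generator (α := Fˣ)
  refine ⟨(γ : F), γ.ne_zero, ?_⟩
  intro x hx
  obtain ⟨k, hk⟩ := hγ (Units.mk0 x hx)
  refine ⟨k, ?_⟩
  have := congrArg (fun y : Fˣ => (y : F)) hk
  simpa using this

theorem exists_sqrt_of_two [Fintype F] (h2 : (2 : F) = 0) (t : F) : ∃ w : F, w * w = t := by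
  haveI : CharP F 2 := CharTwo.of_one_ne_zero_of_two_eq_zero one_ne_zero h2
  have hc : ringChar F = 2 := ringChar.eq F 2
  obtain ⟨r, hr⟩ := FiniteField.isSquare_of_char_two hc t
  exact ⟨r, hr.symm⟩

theorem gen_ne_one [Fintype F] (hcard : Fintype.card F ≠ 2) {g₀ : F}
    (hg : ∀ t : F, t ≠ 0 → ∃ k : ℕ, g₀ ^ k = t) : g₀ ≠ 1 := by
  classical
  intro h1
  apply hcard
  rw [← Nat.card_eq_fintype_card, Nat.card_eq_two_iff]
  refine ⟨0, 1, zero_ne_one, ?_⟩
  rw [Set.eq_univ_iff_forall] 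
  intro t
  by_cases ht : t = 0
  · left; exact ht
  · right
    obtain ⟨k, hk⟩ := hg t ht
    rw [h1, one_pow] at hk
    exact hk.symm

/-- the main theorem -/
theorem main [Fintype F] (n : ℕ) (hn : 2 ≤ n) (h22 : ¬ (n = 2 ∧ Fintype.card F = 2)) :
    ∃ u g h : ↥(symplecticGroup (Fin n) F),
      IsNilpotent ((u : Matrix (Fin n ⊕ Fin n) (Fin n ⊕ Fin n) F) - 1) ∧
      ((u : Matrix (Fin n ⊕ Fin n) (Fin n ⊕ Fin n) F) - 1) ^ (2 * n - 1) ≠ 0 ∧
      Subgroup.closure ({u, g * u * g⁻¹, h * u * h⁻¹} : Set ↥(symplecticGroup (Fin n) F)) = ⊤ := by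
  classical
  obtain ⟨g₀, hg0, hg⟩ := exists_gen (F := F)
  obtain ⟨l', hl'⟩ : ∃ l', l' + 2 = n := ⟨n - 2, by omega⟩
  -- a general reduction
  have key : ∀ (κ c₀ γ : F) (g : ↥(symplecticGroup (Fin n) F)),
      g * uSp n F * g⁻¹ = uSp n F * rho (ev n F 0) (c₀ • (ev n F (l' + 1) - fv n F (l' + 1))) γ →
      κ ≠ 0 → c₀ ≠ 0 → γ ≠ 0 →
      FullHyp n F (Subgroup.closure ({uSp n F, g * uSp n F * g⁻¹,
        tv n (fv n F 0) κ * uSp n F * (tv n (fv n F 0) κ)⁻¹} : Set ↥(symplecticGroup (Fin n) F)))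
        l' κ c₀ γ := by
    intro κ c₀ γ g hconj hκ hc₀ hγ
    have m1 : uSp n F ∈ Subgroup.closure ({uSp n F, g * uSp n F * g⁻¹,
        tv n (fv n F 0) κ * uSp n F * (tv n (fv n F 0) κ)⁻¹} : Set ↥(symplecticGroup (Fin n) F)) :=
      Subgroup.subset_closure (by simp)
    have m2 : g * uSp n F * g⁻¹ ∈ Subgroup.closure ({uSp n F, g * uSp n F * g⁻¹,
        tv n (fv n F 0) κ * uSp n F * (tv n (fv n F 0) κ)⁻¹} : Set ↥(symplecticGroup (Fin n) F)) :=
      Subgroup.subset_closure (by simp)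
    have m3 : tv n (fv n F 0) κ * uSp n F * (tv n (fv n F 0) κ)⁻¹ ∈ Subgroup.closure ({uSp n F,
        g * uSp n F * g⁻¹,
        tv n (fv n F 0) κ * uSp n F * (tv n (fv n F 0) κ)⁻¹} : Set ↥(symplecticGroup (Fin n) F)) :=
      Subgroup.subset_closure (by simp)
    refine ⟨hl', m1, ?_, m3, hκ, hc₀, hγ⟩
    have e : rho (ev n F 0) (c₀ • (ev n F (l' + 1) - fv n F (l' + 1))) γ
        = (uSp n F)⁻¹ * (g * uSp n F * g⁻¹) := by
      rw [hconj]; group
    rw [e]
    exact Subgroup.mul_mem _ (Subgroup.inv_mem _ m1) m2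
  rcases Nat.eq_zero_or_pos l' with h0 | hpos
  · -- n = 2
    subst h0
    have hn2 : n = 2 := by omega
    have hcard : Fintype.card F ≠ 2 := fun h => h22 ⟨hn2, h⟩
    have hg1 : g₀ ≠ 1 := gen_ne_one hcard hg
    by_cases h2 : (2 : F) = 0
    · -- characteristic two: κ = g₀, c₀ = γ = g₀⁻¹
      have h2' : ∀ s : F, 2 * s = 0 := fun s => by rw [h2, zero_mul]
      have hneg : ∀ s : F, -s = s := by
        intro s
        have : s + s = 0 := by rw [← two_mul, h2']
        exact neg_eq_of_add_eq_zero_left this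
      have hs : 1 + g₀⁻¹ ≠ 0 := by
        intro h
        apply hg1
        have h3 : g₀⁻¹ = -1 := by linear_combination h
        rw [hneg] at h3
        rw [← inv_inv g₀, h3, inv_one]
      obtain ⟨g, hconj⟩ := conj_two (F := F) hn2 hs
      have hconj' : g * uSp n F * g⁻¹
          = uSp n F * rho (ev n F 0) (g₀⁻¹ • (ev n F (0 + 1) - fv n F (0 + 1))) g₀⁻¹ := by
        rw [hconj]
      have C := key g₀ g₀⁻¹ g₀⁻¹ g hconj' hg0 (inv_ne_zero hg0) (inv_ne_zero hg0)
      refine ⟨uSp n F, g, tv n (fv n F 0) g₀, uSp_nilpotent, uSp_regular (by omega), ?_⟩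
      have hβe : -(g₀ * (2 * g₀⁻¹ + g₀⁻¹ * g₀)) = -g₀ := by
        rw [h2', zero_add, inv_mul_cancel₀ hg0, mul_one]
      apply C.top_of_two rfl
      · rw [hβe]; exact neg_ne_zero.mpr hg0
      · rw [hβe]; exact gen_pm hg
      · intro _; exact exists_sqrt_of_two h2
      · intro _
        rw [hβe]
        intro h
        apply hg1
        have h3 : g₀ * g₀ + 1 = 0 := by
          have h4 : g₀⁻¹ - g₀⁻¹ * g₀⁻¹ / -g₀ = g₀⁻¹ * g₀⁻¹ * g₀⁻¹ * (g₀ * g₀ + 1) := by
            field_simp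
            ring
          rw [h4] at h
          rcases mul_eq_zero.mp h with h5 | h5
          · exact absurd h5 (mul_ne_zero (mul_ne_zero (inv_ne_zero hg0) (inv_ne_zero hg0))
              (inv_ne_zero hg0))
          · exact h5
        have h6 : (g₀ + 1) * (g₀ + 1) = 0 := by
          have : (g₀ + 1) * (g₀ + 1) = g₀ * g₀ + 1 + 2 * g₀ := by ring
          rw [this, h3, h2', add_zero]
        have h7 : g₀ + 1 = 0 := by
          rcases mul_eq_zero.mp h6 with h | h <;> exact h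
        have h8 : g₀ = -1 := by linear_combination h7
        rw [h8, hneg]
    · -- odd characteristic: κ = -1, c₀ = γ = -g₀
      have hs : 1 + -g₀ ≠ 0 := by
        intro h
        apply hg1
        linear_combination -h
      obtain ⟨g, hconj⟩ := conj_two (F := F) hn2 hs
      have hconj' : g * uSp n F * g⁻¹
          = uSp n F * rho (ev n F 0) ((-g₀) • (ev n F (0 + 1) - fv n F (0 + 1))) (-g₀) := by
        rw [hconj]
      have hm1 : (-1 : F) ≠ 0 := neg_ne_zero.mpr one_ne_zero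
      have C := key (-1) (-g₀) (-g₀) g hconj' hm1 (neg_ne_zero.mpr hg0) (neg_ne_zero.mpr hg0)
      refine ⟨uSp n F, g, tv n (fv n F 0) (-1), uSp_nilpotent, uSp_regular (by omega), ?_⟩
      have hβe : -((-1 : F) * (2 * -g₀ + -g₀ * -1)) = -g₀ := by ring
      apply C.top_of_two rfl
      · rw [hβe]; exact neg_ne_zero.mpr hg0
      · rw [hβe]; exact gen_pm hg
      · intro h; exact absurd h h2
      · intro h; exact absurd h h2
  · -- n ≥ 3: κ = 1, c₀ = 1, γ = g₀
    obtain ⟨g, hconj⟩ := conj_ge (F := F) hl' hpos 1 g₀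
    have C := key 1 1 g₀ g hconj one_ne_zero one_ne_zero hg0
    refine ⟨uSp n F, g, tv n (fv n F 0) 1, uSp_nilpotent, uSp_regular (by omega), ?_⟩
    apply C.top_of_ge hpos
    · have : -(g₀ * 1 * 1) = -g₀ := by ring
      rw [this]; exact gen_pm hg
    · intro h2; exact exists_sqrt_of_two h2

end Cfsg.Agent.Lib.Helper1.Rs
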