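import Mathlib
import Cfsg.Prelude
import Cfsg.Agent.Lib.Helper1.Rs6

set_option autoImplicit false
set_option maxHeartbeats 4000000
set_option linter.unusedVariables false
set_option linter.unusedSectionVars false
set_option linter.style.longLine false
set_option linter.unusedSimpArgs false
set_option linter.deprecated false

/-! Two-generation of `Sp_2n(F)`, part 1: a generation criterion.
If `H` contains the image in the Levi subgroup `GL_n` of a matrix acting transitively on the nonzero
vectors (both on columns and, through its inverse transpose, on rows), one nontrivial transvection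
`tv e_0 t0` and an element moving `e_1` to `f_1`, then `H` is everything. -/

namespace Cfsg.Agent.Lib.Helper1.Rs

open Matrix Cfsg Cfsg.Agent.Lib.Helper5.SympTv Cfsg.Agent.Lib.Helper5.SympPerfect
  Cfsg.Agent.Lib.Helper5.SympGen Cfsg.Agent.Lib.Helper1.Rg Cfsg.Agent.Lib.Helper1.Lw

universe u

variable {F : Type u} [Field F] {n : ℕ}

section crit

variable {H : Subgroup ↥(symplecticGroup (Fin n) F)}

/-- closure under hyperbolic lines -/
theorem Full.add_smul {x y : Fin n ⊕ Fin n → F} (hx : Full H x) (hy : Full H y)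
    (hxy : sympForm n F x y ≠ 0) (β : F) : Full H (x + β • y) := by
  have h := hx.act (hy (β / sympForm n F x y))
  rw [act_tv, div_mul_cancel₀ _ hxy] at h
  exact h

theorem full_zero : Full H (0 : Fin n ⊕ Fin n → F) := by
  intro t; rw [tv_zero_vec]; exact H.one_mem

theorem exists_sum_two_sq [Fintype F] (x : F) : ∃ a b : F, a * a + b * b = x := by
  classical
  by_cases h2 : (2 : F) = 0
  · obtain ⟨w, hw⟩ := exists_sqrt_of_two h2 x
    exact ⟨w, 0, by rw [hw]; ring⟩
  · have hc : ringChar F ≠ 2 := by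
      intro hc
      apply h2
      have := ringChar.Nat.cast_ringChar (R := F)
      rw [hc] at this
      exact_mod_cast this
    have hodd := FiniteField.odd_card_of_char_ne_two hc
    obtain ⟨a, b, hab⟩ := FiniteField.exists_root_sum_quadratic (R := F)
      (f := Polynomial.X ^ 2) (g := Polynomial.X ^ 2 - Polynomial.C x)
      (Polynomial.degree_X_pow 2) (Polynomial.degree_X_pow_sub_C (by decide) _) hodd
    refine ⟨a, b, ?_⟩
    simp only [Polynomial.eval_pow, Polynomial.eval_X, Polynomial.eval_sub, Polynomial.eval_C] at hab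
    linear_combination hab

theorem elim_smul (c : F) (a b : Fin n → F) :
    (Sum.elim (c • a) (c • b) : Fin n ⊕ Fin n → F) = c • Sum.elim a b := by
  ext i; cases i <;> rfl

theorem elim_add (a b a' b' : Fin n → F) :
    (Sum.elim (a + a') (b + b') : Fin n ⊕ Fin n → F) = Sum.elim a b + Sum.elim a' b' := by
  ext i; cases i <;> rfl

theorem elim_eq_zero_iff (a b : Fin n → F) :
    (Sum.elim a b : Fin n ⊕ Fin n → F) = 0 ↔ a = 0 ∧ b = 0 := by
  constructor
  · intro h
    constructor
    · ext i; exact congrFun h (Sum.inl i)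
    · ext i; exact congrFun h (Sum.inr i)
  · rintro ⟨rfl, rfl⟩
    ext i; cases i <;> rfl

/-- the generation criterion -/
theorem top_of_singer [Fintype F] (σ : Matrix.GeneralLinearGroup (Fin n) F)
    (hσ : ∀ c c' : Fin n → F, c ≠ 0 → c' ≠ 0 → ∃ k : ℕ, (σ ^ k).1 *ᵥ c = c')
    (hσ' : ∀ d d' : Fin n → F, d ≠ 0 → d' ≠ 0 → ∃ k : ℕ, (((σ ^ k)⁻¹).1)ᵀ *ᵥ d = d')
    (ha : leviSp n F σ ∈ H) {t0 : F} (ht0 : t0 ≠ 0) (hx : tv n (ev n F 0) t0 ∈ H)
    (hn : 2 ≤ n) {g : ↥(symplecticGroup (Fin n) F)} (hg : g ∈ H)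
    (hg1 : act g (ev n F 1) = fv n F 1) : H = ⊤ := by
  classical
  have hak : ∀ k : ℕ, leviSp n F (σ ^ k) ∈ H := by
    intro k; rw [map_pow]; exact H.pow_mem ha k
  have hE0 : E n F 0 ≠ 0 := by
    intro h
    have := congrFun h ⟨0, by omega⟩
    rw [E_apply] at this
    simp at this
  have hE1 : E n F 1 ≠ 0 := by
    intro h
    have := congrFun h ⟨1, by omega⟩
    rw [E_apply] at this
    simp at this
  -- Step A
  have hA : ∀ c : Fin n → F, c ≠ 0 → tv n (Sum.elim c 0) t0 ∈ H := by
    intro c hc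
    obtain ⟨k, hk⟩ := hσ (E n F 0) c hE0 hc
    have h1 := conj_tv n (leviSp n F (σ ^ k)) (ev n F 0) t0
    have h2 : (leviSp n F (σ ^ k)).1 *ᵥ ev n F 0 = Sum.elim c 0 := by
      have := act_levi (σ ^ k) (ev n F 0)
      rw [act_def] at this
      rw [this, ev_comp_inl, ev_comp_inr, hk, mulVec_zero]
    rw [h2] at h1
    rw [← h1]
    exact H.mul_mem (H.mul_mem (hak k) hx) (H.inv_mem (hak k))
  -- Step B
  have hB : ∀ c : Fin n → F, Full H (Sum.elim c 0) := by
    intro c
    by_cases hc : c = 0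
    · have : (Sum.elim c 0 : Fin n ⊕ Fin n → F) = 0 := by
        rw [elim_eq_zero_iff]; exact ⟨hc, rfl⟩
      rw [this]; exact full_zero
    intro t
    obtain ⟨a, b, hab⟩ := exists_sum_two_sq (t / t0)
    have key : ∀ l : F, tv n (Sum.elim c 0) (l * l * t0) ∈ H := by
      intro l
      by_cases hl : l = 0
      · rw [hl, zero_mul, zero_mul, tv_zero]; exact H.one_mem
      have h1 := hA (l • c) (smul_ne_zero hl hc)
      have h2 : (Sum.elim (l • c) 0 : Fin n ⊕ Fin n → F) = l • Sum.elim c 0 := by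
        rw [← elim_smul, smul_zero]
      rw [h2, tv_smul] at h1
      exact h1
    have h3 := H.mul_mem (key a) (key b)
    rw [tv_mul] at h3
    have h4 : a * a * t0 + b * b * t0 = t := by
      rw [← add_mul, hab, div_mul_cancel₀ _ ht0]
    rwa [h4] at h3
  -- Step C
  have hC1 : Full H (fv n F 1) := by
    have h1 : Full H (ev n F 1) := hB (E n F 1)
    have h2 := h1.act hg
    rwa [hg1] at h2
  have hC : ∀ d : Fin n → F, Full H (Sum.elim 0 d) := by
    intro d
    by_cases hd : d = 0
    · have : (Sum.elim 0 d : Fin n ⊕ Fin n → F) = 0 := by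
        rw [elim_eq_zero_iff]; exact ⟨rfl, hd⟩
      rw [this]; exact full_zero
    obtain ⟨k, hk⟩ := hσ' (E n F 1) d hE1 hd
    have h1 := hC1.act (hak k)
    have h2 : act (leviSp n F (σ ^ k)) (fv n F 1) = (Sum.elim 0 d : Fin n ⊕ Fin n → F) := by
      rw [act_levi, fv_comp_inl, fv_comp_inr, hk, mulVec_zero]
    rwa [h2] at h1
  -- Step D
  apply top_of_full
  intro x
  obtain ⟨c, d, rfl⟩ : ∃ c d : Fin n → F, x = Sum.elim c d :=
    ⟨x ∘ Sum.inl, x ∘ Sum.inr, by ext i; cases i <;> rfl⟩
  have hsplit : (Sum.elim c d : Fin n ⊕ Fin n → F) = Sum.elim c 0 + (1 : F) • (Sum.elim 0 d : Fin n ⊕ Fin n → F) := by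
    rw [one_smul, ← elim_add, add_zero, zero_add]
  by_cases hcd : c ⬝ᵥ d = 0
  · by_cases hd : d = 0
    · rw [hd]; exact hB c
    -- choose c' with c' ⬝ᵥ d ≠ 0
    obtain ⟨i, hi⟩ : ∃ i, d i ≠ 0 := by
      by_contra hcon
      push_neg at hcon
      exact hd (funext hcon)
    set c' : Fin n → F := Pi.single i 1 with hc'
    have hc'd : c' ⬝ᵥ d = d i := by rw [hc', single_dotProduct, one_mul]
    have hX : Full H (Sum.elim (c + c') 0 + (1 : F) • (Sum.elim 0 d : Fin n ⊕ Fin n → F)) := by
      apply Full.add_smul (hB _) (hC d)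
      rw [form_elim, zero_dotProduct, zero_sub, add_dotProduct, hcd, zero_add, hc'd]
      exact neg_ne_zero.mpr hi
    have hY := Full.add_smul hX (hB c') (β := -1) (by
      rw [one_smul, ← elim_add, add_zero, zero_add, form_elim, dotProduct_zero, sub_zero,
        dotProduct_comm, hc'd]
      exact hi)
    have e : Sum.elim (c + c') 0 + (1 : F) • (Sum.elim 0 d : Fin n ⊕ Fin n → F) + (-1 : F) • Sum.elim c' 0
        = (Sum.elim c d : Fin n ⊕ Fin n → F) := by
      ext j
      cases j <;> simp
    rwa [e] at hY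
  · rw [hsplit]
    apply Full.add_smul (hB c) (hC d)
    rw [form_elim, zero_dotProduct, zero_sub]
    exact neg_ne_zero.mpr hcd

end crit

end Cfsg.Agent.Lib.Helper1.Rs
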