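import Mathlib
import Cfsg.Prelude
import Cfsg.Agent.Lib.Helper1.Rs7

set_option autoImplicit false
set_option maxHeartbeats 4000000
set_option linter.unusedVariables false
set_option linter.unusedSectionVars false
set_option linter.style.longLine false
set_option linter.unusedSimpArgs false
set_option linter.deprecated false

/-! Two-generation of `Sp_2n(F)`, part 2: Singer cycles, the second generator, the theorem. -/

namespace Cfsg.Agent.Lib.Helper1.Rs

open Matrix Cfsg Cfsg.Agent.Lib.Helper5.SympTv Cfsg.Agent.Lib.Helper5.SympPerfect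
  Cfsg.Agent.Lib.Helper5.SympGen Cfsg.Agent.Lib.Helper1.Rg Cfsg.Agent.Lib.Helper1.Lw

universe u

variable {F : Type u} [Field F] {n : ℕ}

/-- a Singer cycle: a matrix acting transitively on the nonzero vectors -/
theorem exists_singer [Fintype F] (hn : 1 ≤ n) :
    ∃ σ : Matrix.GeneralLinearGroup (Fin n) F,
      ∀ c c' : Fin n → F, c ≠ 0 → c' ≠ 0 → ∃ k : ℕ, (σ ^ k).1 *ᵥ c = c' := by
  classical
  obtain ⟨p, hp⟩ := CharP.exists F
  haveI := hp
  haveI : Fact p.Prime := ⟨CharP.char_is_prime F p⟩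
  haveI : NeZero n := ⟨by omega⟩
  let K := FiniteField.Extension F p n
  have hfr : Module.finrank F K = n := FiniteField.finrank_extension F p n
  let b : Module.Basis (Fin n) F K := Module.finBasisOfFinrankEq F K hfr
  obtain ⟨θ, hθ⟩ := IsCyclic.exists_generator (α := Kˣ)
  let M : K →ₐ[F] Matrix (Fin n) (Fin n) F := Algebra.leftMulMatrix b
  have hM1 : M (θ : K) * M ((θ⁻¹ : Kˣ) : K) = 1 := by rw [← map_mul, Units.mul_inv, map_one]
  have hM2 : M ((θ⁻¹ : Kˣ) : K) * M (θ : K) = 1 := by rw [← map_mul, Units.inv_mul, map_one]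
  refine ⟨⟨M θ, M ((θ⁻¹ : Kˣ) : K), hM1, hM2⟩, ?_⟩
  intro c c' hc hc'
  set y : K := b.equivFun.symm c with hy
  set y' : K := b.equivFun.symm c' with hy'
  have hyc : (b.repr y : Fin n → F) = c := by
    have := b.equivFun.apply_symm_apply c
    rw [← hy] at this
    exact this
  have hyc' : (b.repr y' : Fin n → F) = c' := by
    have := b.equivFun.apply_symm_apply c'
    rw [← hy'] at this
    exact this
  have hy0 : y ≠ 0 := by
    intro h
    apply hc
    rw [← hyc, h, map_zero]; rfl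
  have hy0' : y' ≠ 0 := by
    intro h
    apply hc'
    rw [← hyc', h, map_zero]; rfl
  let z : Kˣ := Units.mk0 (y' / y) (div_ne_zero hy0' hy0)
  have hz : z ∈ Subgroup.zpowers θ := hθ z
  obtain ⟨k, hk⟩ := (mem_powers_iff_mem_zpowers).mpr hz
  refine ⟨k, ?_⟩
  have hk' : ((θ : K)) ^ k = y' / y := by
    have := congrArg (fun u : Kˣ => (u : K)) hk
    simpa [z] using this
  have e1 : ((⟨M θ, M ((θ⁻¹ : Kˣ) : K), hM1, hM2⟩ : Matrix.GeneralLinearGroup (Fin n) F) ^ k).1
      = M ((θ : K) ^ k) := by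
    rw [Units.val_pow_eq_pow_val, map_pow]
  rw [e1, ← hyc, ← hyc', hk']
  have := Algebra.leftMulMatrix_mulVec_repr b (y' / y) y
  rw [div_mul_cancel₀ _ hy0] at this
  exact this

theorem eq_one_of_fix [Fintype F] (σ : Matrix.GeneralLinearGroup (Fin n) F)
    (hσ : ∀ c c' : Fin n → F, c ≠ 0 → c' ≠ 0 → ∃ k : ℕ, (σ ^ k).1 *ᵥ c = c')
    (m : ℕ) {c : Fin n → F} (hc : c ≠ 0) (hfix : (σ ^ m).1 *ᵥ c = c) : σ ^ m = 1 := by
  classical
  have hall : ∀ c' : Fin n → F, (σ ^ m).1 *ᵥ c' = c' := by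
    intro c'
    by_cases hc' : c' = 0
    · rw [hc', mulVec_zero]
    obtain ⟨k, hk⟩ := hσ c c' hc hc'
    rw [← hk, mulVec_mulVec]
    have hcomm : (σ ^ m).1 * (σ ^ k).1 = (σ ^ k).1 * (σ ^ m).1 := by
      rw [← Units.val_mul, ← Units.val_mul, ← pow_add, ← pow_add, add_comm]
    rw [hcomm, ← mulVec_mulVec, hfix]
  apply Units.ext
  ext i j
  have := congrFun (hall (Pi.single j 1)) i
  rw [mulVec_single_one] at this
  rw [Units.val_one, Matrix.one_apply]
  simpa [Pi.single_apply, eq_comm] using this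

/-- transitivity of the inverse transpose -/
theorem dual_trans [Fintype F] (hn : 1 ≤ n) (σ : Matrix.GeneralLinearGroup (Fin n) F)
    (hσ : ∀ c c' : Fin n → F, c ≠ 0 → c' ≠ 0 → ∃ k : ℕ, (σ ^ k).1 *ᵥ c = c') :
    ∀ d d' : Fin n → F, d ≠ 0 → d' ≠ 0 → ∃ k : ℕ, (((σ ^ k)⁻¹).1)ᵀ *ᵥ d = d' := by
  classical
  intro d d' hd hd'
  set N := orderOf σ with hN
  have hNpos : 0 < N := orderOf_pos σ
  let S := {x : Fin n → F // x ≠ 0}
  have hE0 : E n F 0 ≠ 0 := by
    intro h
    have := congrFun h ⟨0, by omega⟩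
    rw [E_apply] at this
    simp at this
  -- the forward orbit map is surjective
  have hnz : ∀ (k : ℕ) (c : Fin n → F), c ≠ 0 → (σ ^ k).1 *ᵥ c ≠ 0 := by
    intro k c hc h
    apply hc
    have := congrArg (fun v => ((σ ^ k)⁻¹).1 *ᵥ v) h
    simp only [mulVec_mulVec, mulVec_zero] at this
    rwa [← Units.val_mul, inv_mul_cancel, Units.val_one, one_mulVec] at this
  let g : Fin N → S := fun k => ⟨(σ ^ k.val).1 *ᵥ E n F 0, hnz _ _ hE0⟩
  have hg : Function.Surjective g := by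
    rintro ⟨c', hc'⟩
    obtain ⟨k, hk⟩ := hσ (E n F 0) c' hE0 hc'
    refine ⟨⟨k % N, Nat.mod_lt _ hNpos⟩, ?_⟩
    apply Subtype.ext
    show (σ ^ (k % N)).1 *ᵥ E n F 0 = c'
    rw [hN, pow_mod_orderOf, hk]
  have hcard1 : Fintype.card S ≤ N := by
    have := Fintype.card_le_of_surjective g hg
    simpa using this
  -- the dual orbit map is injective
  have hnz' : ∀ (k : ℕ), (((σ ^ k)⁻¹).1)ᵀ *ᵥ d ≠ 0 := by
    intro k h
    apply hd
    rw [mulVec_transpose] at h
    have := congrArg (fun v => v ᵥ* (σ ^ k).1) h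
    simp only [vecMul_vecMul, zero_vecMul] at this
    rwa [← Units.val_mul, inv_mul_cancel, Units.val_one, vecMul_one] at this
  let f : Fin N → S := fun k => ⟨(((σ ^ k.val)⁻¹).1)ᵀ *ᵥ d, hnz' _⟩
  have key : ∀ i j : ℕ, i ≤ j → j < N →
      (((σ ^ i)⁻¹).1)ᵀ *ᵥ d = (((σ ^ j)⁻¹).1)ᵀ *ᵥ d → i = j := by
    intro i j hij hj h
    rw [mulVec_transpose, mulVec_transpose] at h
    obtain ⟨m, rfl⟩ := Nat.exists_eq_add_of_le hij
    have h2 := congrArg (fun v => v ᵥ* (σ ^ (i + m)).1) h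
    simp only [vecMul_vecMul] at h2
    rw [← Units.val_mul, ← Units.val_mul, inv_mul_cancel, pow_add, ← mul_assoc, inv_mul_cancel,
      one_mul, Units.val_one, vecMul_one] at h2
    -- d ᵥ* σ^m = d
    have h3 : d ᵥ* ((σ ^ m).1 - 1) = 0 := by
      rw [vecMul_sub, h2, vecMul_one, sub_self]
    have hdet : ((σ ^ m).1 - 1).det = 0 :=
      Matrix.exists_vecMul_eq_zero_iff.mp ⟨d, hd, h3⟩
    obtain ⟨c, hc, hc0⟩ := Matrix.exists_mulVec_eq_zero_iff.mpr hdet
    have hfix : (σ ^ m).1 *ᵥ c = c := by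
      rw [sub_mulVec, one_mulVec, sub_eq_zero] at hc0
      exact hc0
    have h1 := eq_one_of_fix σ hσ m hc hfix
    have hdvd : N ∣ m := orderOf_dvd_of_pow_eq_one h1
    have : m = 0 := Nat.eq_zero_of_dvd_of_lt hdvd (by omega)
    omega
  have hf : Function.Injective f := by
    intro i j hij
    have h := congrArg Subtype.val hij
    change (((σ ^ i.val)⁻¹).1)ᵀ *ᵥ d = (((σ ^ j.val)⁻¹).1)ᵀ *ᵥ d at h
    apply Fin.ext
    rcases le_total i.val j.val with hle | hle
    · exact key _ _ hle j.isLt h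
    · exact (key _ _ hle i.isLt h.symm).symm
  have hcard2 : N ≤ Fintype.card S := by
    have := Fintype.card_le_of_injective f hf
    simpa using this
  have hbij : Function.Bijective f := by
    rw [Fintype.bijective_iff_injective_and_card]
    refine ⟨hf, ?_⟩
    simp only [Fintype.card_fin]
    omega
  obtain ⟨k, hk⟩ := hbij.2 ⟨d', hd'⟩
  exact ⟨k.val, congrArg Subtype.val hk⟩

end Cfsg.Agent.Lib.Helper1.Rs
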