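import Mathlib
import Cfsg.Prelude
import Cfsg.Agent.Lib.Helper1.Rs8

set_option autoImplicit false
set_option maxHeartbeats 4000000
set_option linter.unusedVariables false
set_option linter.unusedSectionVars false
set_option linter.style.longLine false
set_option linter.unusedSimpArgs false
set_option linter.deprecated false

/-! Two-generation of `Sp_2n(F)`, part 3: the second generator and the theorem. -/

namespace Cfsg.Agent.Lib.Helper1.Rs

open Matrix Cfsg Cfsg.Agent.Lib.Helper5.SympTv Cfsg.Agent.Lib.Helper5.SympPerfect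
  Cfsg.Agent.Lib.Helper5.SympGen Cfsg.Agent.Lib.Helper1.Rg Cfsg.Agent.Lib.Helper1.Lw

universe u

variable {F : Type u} [Field F] {n : ℕ}

theorem tv_ev1_ev (c : F) (k : ℕ) : act (tv n (ev n F 1) c) (ev n F k) = ev n F k :=
  tv_ev_ev 1 c k

theorem tv_ev1_fv_ne (c : F) {k : ℕ} (hk : k ≠ 1) :
    act (tv n (ev n F 1) c) (fv n F k) = fv n F k := by
  rw [act_tv, form_fv_ev_ne hk, mul_zero, zero_smul, add_zero]

theorem tv_ev1_fv1 (hn : 2 ≤ n) (c : F) :
    act (tv n (ev n F 1) c) (fv n F 1) = fv n F 1 + c • ev n F 1 := by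
  rw [act_tv, form_fv_ev_self (by omega), mul_one]

theorem tv_fv1_fv (c : F) (k : ℕ) : act (tv n (fv n F 1) c) (fv n F k) = fv n F k := by
  rw [act_tv, form_fv_fv, mul_zero, zero_smul, add_zero]

theorem tv_fv1_ev_ne (c : F) {k : ℕ} (hk : k ≠ 1) :
    act (tv n (fv n F 1) c) (ev n F k) = ev n F k := by
  rw [act_tv, form_ev_fv_ne hk, mul_zero, zero_smul, add_zero]

theorem tv_fv1_ev1 (hn : 2 ≤ n) (c : F) :
    act (tv n (fv n F 1) c) (ev n F 1) = ev n F 1 - c • fv n F 1 := by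
  rw [act_tv, form_ev_fv_self (by omega), mul_neg, mul_one, neg_smul, sub_eq_add_neg]

/-- the element `e_1 ↦ f_1 ↦ f_1 - e_1` -/
noncomputable def s3 (n : ℕ) (F : Type u) [Field F] : ↥(symplecticGroup (Fin n) F) :=
  tv n (ev n F 1) (-1) * tv n (fv n F 1) (-1)

/-- the element `e_1 ↦ f_1 ↦ -e_1` -/
noncomputable def s4 (n : ℕ) (F : Type u) [Field F] : ↥(symplecticGroup (Fin n) F) :=
  s3 n F * tv n (ev n F 1) (-1)

theorem s3_ev_ne {k : ℕ} (hk : k ≠ 1) : act (s3 n F) (ev n F k) = ev n F k := by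
  unfold s3; rw [act_mul, tv_fv1_ev_ne _ hk, tv_ev1_ev]

theorem s3_fv_ne {k : ℕ} (hk : k ≠ 1) : act (s3 n F) (fv n F k) = fv n F k := by
  unfold s3; rw [act_mul, tv_fv1_fv, tv_ev1_fv_ne _ hk]

theorem s3_ev1 (hn : 2 ≤ n) : act (s3 n F) (ev n F 1) = fv n F 1 := by
  unfold s3
  rw [act_mul, tv_fv1_ev1 hn, act_sub, act_smul, tv_ev1_ev, tv_ev1_fv1 hn]
  module

theorem s3_fv1 (hn : 2 ≤ n) : act (s3 n F) (fv n F 1) = fv n F 1 - ev n F 1 := by
  unfold s3
  rw [act_mul, tv_fv1_fv, tv_ev1_fv1 hn]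
  module

theorem s4_ev_ne {k : ℕ} (hk : k ≠ 1) : act (s4 n F) (ev n F k) = ev n F k := by
  unfold s4; rw [act_mul, tv_ev1_ev, s3_ev_ne hk]

theorem s4_fv_ne {k : ℕ} (hk : k ≠ 1) : act (s4 n F) (fv n F k) = fv n F k := by
  unfold s4; rw [act_mul, tv_ev1_fv_ne _ hk, s3_fv_ne hk]

theorem s4_ev1 (hn : 2 ≤ n) : act (s4 n F) (ev n F 1) = fv n F 1 := by
  unfold s4; rw [act_mul, tv_ev1_ev, s3_ev1 hn]

theorem s4_fv1 (hn : 2 ≤ n) : act (s4 n F) (fv n F 1) = -ev n F 1 := by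
  unfold s4
  rw [act_mul, tv_ev1_fv1 hn, act_add, act_smul, s3_fv1 hn, s3_ev1 hn]
  module

theorem s4_pow_four (hn : 2 ≤ n) : (s4 n F) ^ 4 = 1 := by
  have e : (s4 n F) ^ 4 = s4 n F * s4 n F * s4 n F * s4 n F := by
    rw [pow_succ, pow_succ, pow_succ, pow_one]
  rw [e]
  apply ext_basis
  · intro k hk
    by_cases h1 : k = 1
    · subst h1
      rw [act_mul, act_mul, act_mul, s4_ev1 hn, s4_fv1 hn, act_neg, s4_ev1 hn, act_neg, s4_fv1 hn,
        act_one, neg_neg]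
    · rw [act_mul, act_mul, act_mul, s4_ev_ne h1, s4_ev_ne h1, s4_ev_ne h1, s4_ev_ne h1, act_one]
  · intro k hk
    by_cases h1 : k = 1
    · subst h1
      rw [act_mul, act_mul, act_mul, s4_fv1 hn, act_neg, s4_ev1 hn, act_neg, s4_fv1 hn, neg_neg,
        s4_ev1 hn, act_one]
    · rw [act_mul, act_mul, act_mul, s4_fv_ne h1, s4_fv_ne h1, s4_fv_ne h1, s4_fv_ne h1, act_one]

theorem s3_pow_three (hn : 2 ≤ n) (h2 : (2 : F) = 0) : (s3 n F) ^ 3 = 1 := by
  have hneg : ∀ v : Fin n ⊕ Fin n → F, -v = v := by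
    intro v
    have : v + v = 0 := by rw [← two_smul F v, h2, zero_smul]
    exact neg_eq_of_add_eq_zero_left this
  have e : (s3 n F) ^ 3 = s3 n F * s3 n F * s3 n F := by
    rw [pow_succ, pow_succ, pow_one]
  rw [e]
  apply ext_basis
  · intro k hk
    by_cases h1 : k = 1
    · subst h1
      rw [act_mul, act_mul, s3_ev1 hn, s3_fv1 hn, act_sub, s3_fv1 hn, s3_ev1 hn, act_one]
      rw [sub_sub_cancel_left, hneg]
    · rw [act_mul, act_mul, s3_ev_ne h1, s3_ev_ne h1, s3_ev_ne h1, act_one]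
  · intro k hk
    by_cases h1 : k = 1
    · subst h1
      rw [act_mul, act_mul, s3_fv1 hn, act_sub, s3_fv1 hn, s3_ev1 hn, sub_sub_cancel_left, act_neg,
        s3_ev1 hn, act_one, hneg]
    · rw [act_mul, act_mul, s3_fv_ne h1, s3_fv_ne h1, s3_fv_ne h1, act_one]

theorem commute_x0_tv_ev1 (c : F) : Commute (tv n (ev n F 0) 1) (tv n (ev n F 1) c) := by
  have h := mul_tv n (tv n (ev n F 0) 1) (ev n F 1) c
  have h2 : (tv n (ev n F 0) 1).1 *ᵥ ev n F 1 = ev n F 1 := by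
    rw [← act_def, tv_ev_ev]
  rw [h2] at h
  exact h

theorem commute_x0_tv_fv1 (hn : 2 ≤ n) (c : F) :
    Commute (tv n (ev n F 0) 1) (tv n (fv n F 1) c) := by
  have h := mul_tv n (tv n (ev n F 0) 1) (fv n F 1) c
  have h2 : (tv n (ev n F 0) 1).1 *ᵥ fv n F 1 = fv n F 1 := by
    rw [← act_def, act_tv, form_fv_ev_ne (by omega), mul_zero, zero_smul, add_zero]
  rw [h2] at h
  exact h

theorem commute_x0_s3 (hn : 2 ≤ n) : Commute (tv n (ev n F 0) 1) (s3 n F) :=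
  (commute_x0_tv_ev1 _).mul_right (commute_x0_tv_fv1 hn _)

theorem commute_x0_s4 (hn : 2 ≤ n) : Commute (tv n (ev n F 0) 1) (s4 n F) :=
  (commute_x0_s3 hn).mul_right (commute_x0_tv_ev1 _)

theorem tv_pow (v : Fin n ⊕ Fin n → F) (c : F) (k : ℕ) : (tv n v c) ^ k = tv n v (k * c) := by
  induction k with
  | zero => rw [pow_zero, Nat.cast_zero, zero_mul, tv_zero]
  | succ k ih => rw [pow_succ, ih, tv_mul, Nat.cast_succ, add_mul, one_mul]

/-- the generic statement -/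
theorem sp_two_gen_of [Fintype F] (hn : 2 ≤ n) (s : ↥(symplecticGroup (Fin n) F)) (m : ℕ)
    (hcomm : Commute (tv n (ev n F 0) 1) s) (hsm : s ^ m = 1) (hm : (m : F) ≠ 0)
    (hs1 : act s (ev n F 1) = fv n F 1) :
    ∃ a b : ↥(symplecticGroup (Fin n) F),
      Subgroup.closure ({a, b} : Set ↥(symplecticGroup (Fin n) F)) = ⊤ := by
  obtain ⟨σ, hσ⟩ := exists_singer (F := F) (n := n) (by omega)
  have hσ' := dual_trans (by omega) σ hσ
  refine ⟨leviSp n F σ, tv n (ev n F 0) 1 * s, ?_⟩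
  set H := Subgroup.closure ({leviSp n F σ, tv n (ev n F 0) 1 * s} :
    Set ↥(symplecticGroup (Fin n) F)) with hH
  have ha : leviSp n F σ ∈ H := Subgroup.subset_closure (by simp)
  have hb : tv n (ev n F 0) 1 * s ∈ H := Subgroup.subset_closure (by simp)
  have hx : tv n (ev n F 0) (m : F) ∈ H := by
    have h1 := H.pow_mem hb m
    rw [hcomm.mul_pow, hsm, mul_one, tv_pow, mul_one] at h1
    exact h1
  have hb1 : act (tv n (ev n F 0) 1 * s) (ev n F 1) = fv n F 1 := by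
    rw [act_mul, hs1, act_tv, form_fv_ev_ne (by omega), mul_zero, zero_smul, add_zero]
  exact top_of_singer σ hσ hσ' ha hm hx hn hb hb1

theorem sp_two_gen [Fintype F] (hn : 2 ≤ n) :
    ∃ a b : ↥(symplecticGroup (Fin n) F),
      Subgroup.closure ({a, b} : Set ↥(symplecticGroup (Fin n) F)) = ⊤ := by
  by_cases h2 : (2 : F) = 0
  · refine sp_two_gen_of hn (s3 n F) 3 (commute_x0_s3 hn) (s3_pow_three hn h2) ?_ (s3_ev1 hn)
    have : ((3 : ℕ) : F) = 2 + 1 := by norm_num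
    rw [this, h2, zero_add]
    exact one_ne_zero
  · refine sp_two_gen_of hn (s4 n F) 4 (commute_x0_s4 hn) (s4_pow_four hn) ?_ (s4_ev1 hn)
    have : ((4 : ℕ) : F) = 2 * 2 := by norm_num
    rw [this]
    exact mul_ne_zero h2 h2

/-- two-generation of the projective symplectic group -/
theorem psp_two_gen [Fintype F] (hn : 2 ≤ n) :
    ∃ a b : Cfsg.PSp n F, Subgroup.closure ({a, b} : Set (Cfsg.PSp n F)) = ⊤ := by
  obtain ⟨a, b, hab⟩ := sp_two_gen (F := F) hn
  refine ⟨QuotientGroup.mk a, QuotientGroup.mk b, ?_⟩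
  have h1 : Subgroup.map (QuotientGroup.mk' (Subgroup.center ↥(symplecticGroup (Fin n) F)))
      (Subgroup.closure ({a, b} : Set ↥(symplecticGroup (Fin n) F))) = ⊤ := by
    rw [hab]
    exact Subgroup.map_top_of_surjective _ (QuotientGroup.mk'_surjective _)
  rw [MonoidHom.map_closure, Set.image_pair] at h1
  exact h1

end Cfsg.Agent.Lib.Helper1.Rs
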