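import Mathlib
import Cfsg.Prelude

set_option autoImplicit false
set_option maxHeartbeats 4000000
set_option linter.unusedVariables false
set_option linter.unusedSectionVars false
set_option linter.style.longLine false
set_option linter.unusedSimpArgs false
set_option linter.deprecated false

/-! Two conjugate regular unipotent elements, part 1: field generation in finite fields. -/

namespace Cfsg.Agent.Lib.Helper1.Rt

variable {F : Type*} [Field F] [Fintype F]

/-- An additive subgroup of a finite field containing `1` and stable under multiplication by `μ`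
is everything, unless `μ` lies in a proper subfield. -/
theorem field_gen_or (X : AddSubgroup F) (h1 : (1 : F) ∈ X) {μ : F}
    (hμ : ∀ x ∈ X, μ * x ∈ X) :
    X = ⊤ ∨ ∃ k m : ℕ, 2 ≤ k ∧ 2 ≤ m ∧ Fintype.card F = k ^ m ∧ μ ^ k = μ := by
  classical
  have hcF : 2 ≤ Fintype.card F := Fintype.one_lt_card
  have hpowK : ∀ (a : F), (∀ x ∈ X, a * x ∈ X) → ∀ k : ℕ, ∀ x ∈ X, a ^ k * x ∈ X := by
    intro a ha k
    induction k with
    | zero => intro x hx; rwa [pow_zero, one_mul]
    | succ k ih => intro x hx; rw [pow_succ, mul_assoc]; exact ih _ (ha x hx)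
  let K : Subfield F :=
    { carrier := {a | ∀ x ∈ X, a * x ∈ X}
      mul_mem' := by
        intro a b ha hb x hx
        rw [mul_assoc]; exact ha _ (hb x hx)
      one_mem' := by intro x hx; rwa [one_mul]
      add_mem' := by
        intro a b ha hb x hx
        rw [add_mul]; exact X.add_mem (ha x hx) (hb x hx)
      zero_mem' := by intro x hx; rw [zero_mul]; exact X.zero_mem
      neg_mem' := by
        intro a ha x hx
        rw [neg_mul]; exact X.neg_mem (ha x hx)
      inv_mem' := by
        intro a ha
        by_cases ha0 : a = 0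
        · rw [ha0, inv_zero]; intro x hx; rw [zero_mul]; exact X.zero_mem
        · have h2 : a ^ (Fintype.card F - 1) = 1 := FiniteField.pow_card_sub_one_eq_one a ha0
          have h3 : a⁻¹ = a ^ (Fintype.card F - 2) := by
            have : a * a ^ (Fintype.card F - 2) = 1 := by
              rw [← pow_succ', show Fintype.card F - 2 + 1 = Fintype.card F - 1 by omega, h2]
            exact (eq_inv_of_mul_eq_one_right this).symm ▸ rfl
          show a⁻¹ ∈ {a | ∀ x ∈ X, a * x ∈ X}
          rw [h3]
          exact hpowK a ha _ }
  have hKmem : ∀ a : F, a ∈ K ↔ ∀ x ∈ X, a * x ∈ X := fun a => Iff.rfl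
  have hKX : ∀ a : F, a ∈ K → a ∈ X := by
    intro a ha
    have := ha 1 h1
    rwa [mul_one] at this
  have hμK : μ ∈ K := hμ
  haveI : Fintype K := Fintype.ofFinite K
  have hcard : Fintype.card F = Fintype.card K ^ Module.finrank K F :=
    Module.card_eq_pow_finrank (K := K) (V := F)
  have hcK : 2 ≤ Fintype.card K := Fintype.one_lt_card
  set m := Module.finrank K F with hm
  have hpw : (⟨μ, hμK⟩ : K) ^ Fintype.card K = ⟨μ, hμK⟩ := FiniteField.pow_card _
  have hpw' : μ ^ Fintype.card K = μ := by
    have := congrArg (Subtype.val) hpw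
    simpa using this
  rcases Nat.lt_or_ge m 2 with hm2 | hm2
  · left
    have hm1 : m = 0 ∨ m = 1 := by omega
    rcases hm1 with h0 | h1'
    · rw [h0, pow_zero] at hcard; omega
    · rw [h1', pow_one] at hcard
      have hbij : Function.Bijective (Subtype.val : K → F) := by
        rw [Fintype.bijective_iff_injective_and_card]
        exact ⟨Subtype.val_injective, hcard.symm⟩
      rw [eq_top_iff]
      intro a _
      obtain ⟨⟨b, hb⟩, rfl⟩ := hbij.2 a
      exact hKX b hb
  · right
    exact ⟨Fintype.card K, m, hcK, hm2, hcard, hpw'⟩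

end Cfsg.Agent.Lib.Helper1.Rt
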