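import Mathlib
import Cfsg.Prelude
import Cfsg.Agent.Lib.Helper1.Rh12
import Cfsg.Agent.Lib.Helper1.Rt1

set_option autoImplicit false
set_option maxHeartbeats 4000000
set_option linter.unusedVariables false
set_option linter.unusedSectionVars false
set_option linter.style.longLine false
set_option linter.unusedSimpArgs false
set_option linter.deprecated false

/-! Two conjugate regular unipotent elements of `SU_3(q)`, part 2: the generation criterion with a
Borel element, and the symmetric family. -/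

namespace Cfsg.Agent.Lib.Helper1.Rt

open Matrix Cfsg Cfsg.Agent.Lib.Helper5.Herm Cfsg.Agent.Lib.Helper5.HermTv
  Cfsg.Agent.Lib.Helper5.HermEich Cfsg.Agent.Lib.Helper5.HermSU Cfsg.Agent.Lib.Helper1.Rh

variable {F : Type*} [Field F] [Fintype F] {q n : ℕ}

theorem frob_pow (x : F) (k : ℕ) : (x ^ k) ^ q = (x ^ q) ^ k := by
  rw [← pow_mul, mul_comm, pow_mul]

/-- generation criterion: a subgroup containing a regular unipotent element `up 1 c`, an element of
the Borel subgroup acting on the root group through a field generator, and an element moving the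
isotropic vector `e` off its perp, is everything. -/
theorem gen_borel (W : Witt F q n 1) (hq2 : q ≠ 2) {c : F} (hc : c + c ^ q + 1 = 0)
    (H : Subgroup ↥(Cfsg.SU n F q)) (hu : W.up 1 c ∈ H) {β : ↥(Cfsg.SU n F q)} (hβ : β ∈ H)
    {l ν θ : F} (hl : l ≠ 0) (hβe : act β (W.e 0) = l • W.e 0)
    (hβw : act β W.w = ν • W.w + θ • W.e 0)
    (hfield : ∀ X : AddSubgroup F, (1 : F) ∈ X → (∀ a ∈ X, (l ^ q * ν) * a ∈ X) → X = ⊤)
    {v : ↥(Cfsg.SU n F q)} (hv : v ∈ H)
    (hne : hermForm n F q (act v (W.e 0)) (W.e 0) ≠ 0) : H = ⊤ := by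
  have hF := W.hF
  have hn := W.hn
  have he0 : W.e 0 ≠ 0 := W.e_ne_zero (by omega)
  have he : hermForm n F q (W.e 0) (W.e 0) = 0 := W.form_ee 0 0
  let X : AddSubgroup F :=
    { carrier := {a | a • W.w ∈ Mgrp hF H (W.e 0) he}
      zero_mem' := by
        show (0 : F) • W.w ∈ Mgrp hF H (W.e 0) he
        rw [zero_smul]; exact AddSubgroup.zero_mem _
      add_mem' := by
        intro a b ha hb
        show (a + b) • W.w ∈ Mgrp hF H (W.e 0) he
        rw [add_smul]; exact AddSubgroup.add_mem _ ha hb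
      neg_mem' := by
        intro a ha
        show (-a) • W.w ∈ Mgrp hF H (W.e 0) he
        rw [neg_smul]; exact AddSubgroup.neg_mem _ ha }
  have hXmem : ∀ a : F, a ∈ X ↔ a • W.w ∈ Mgrp hF H (W.e 0) he := fun a => Iff.rfl
  have h1X : (1 : F) ∈ X := by
    rw [hXmem]
    exact ⟨c, W.ehyp_up (Witt.hc1 hc), hu⟩
  have hμX : ∀ a ∈ X, (l ^ q * ν) * a ∈ X := by
    intro a ha
    rw [hXmem] at ha ⊢
    have h1 := act_mem_Mgrp_smul hβ hl hβe ha
    rw [act_smul, hβw] at h1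
    have h2 := AddSubgroup.sub_mem _ h1
      (smul_self_mem_Mgrp hF H (W.e 0) he (l ^ q * (a * θ)))
    have h3 : l ^ q • a • (ν • W.w + θ • W.e 0) - (l ^ q * (a * θ)) • W.e 0
        = (l ^ q * ν * a) • W.w := by
      module
    rwa [h3] at h2
  have hXtop : X = ⊤ := hfield X h1X hμX
  have hrad : ∀ b, hermForm n F q b (W.e 0) = 0 →
      ∃ c', EHyp n q (W.e 0) b c' ∧ rhoS hF (W.e 0) b c' ∈ H := by
    intro b hb
    obtain ⟨a', b', d', rfl⟩ := W.exists_vec b
    rw [W.form_vec_e] at hb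
    have hb' : b' ∈ X := by rw [hXtop]; exact AddSubgroup.mem_top _
    rw [hXmem] at hb'
    have h2 := AddSubgroup.add_mem _ hb' (smul_self_mem_Mgrp hF H (W.e 0) he a')
    have h3 : b' • W.w + a' • W.e 0 = W.vec a' b' d' := by
      rw [hb]; unfold Witt.vec; module
    rw [h3] at h2
    exact h2
  have hC : ∀ t : F, t + t ^ q = 0 → rhoS hF (W.e 0) 0 t ∈ H := fun t ht =>
    center_of_rad he hrad (b₁ := W.w) (b₂ := W.w) (W.form_we 0) (W.form_we 0) W.form_ww ht
  have hR := rad_all hrad hC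
  exact top_of_rad_gen (by omega) (by omega) he0 he hR hv hne

/-- the symmetric family: `u = up 1 c`, `v = um b d` with `v u v` in the Borel subgroup -/
theorem main2_params (W : Witt F q n 1) (hq2 : q ≠ 2) {lam : F} (hlam : lam * lam ^ q = 1)
    (hlam1 : lam + 1 ≠ 0)
    (hfield : ∀ X : AddSubgroup F, (1 : F) ∈ X → (∀ a ∈ X, (lam ^ 3)⁻¹ * a ∈ X) → X = ⊤) :
    ∃ u g : ↥(Cfsg.SU n F q),
      (IsNilpotent (u.1.1 - 1) ∧ (u.1.1 - 1) ^ (n - 1) ≠ 0) ∧
      Subgroup.closure ({u, g * u * g⁻¹} : Set ↥(Cfsg.SU n F q)) = ⊤ := by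
  have hF := W.hF
  have hn := W.hn
  have hl0 : lam ≠ 0 := by
    rintro rfl
    rw [zero_mul] at hlam
    exact zero_ne_one hlam
  have hlq : lam ^ q = lam⁻¹ := eq_inv_of_mul_eq_one_right hlam
  have h2q := two_pow_q hF
  have hsq : (lam + 1) ^ q = (lam + 1) / lam := by
    rw [pow_q_add hF, one_pow, hlq]; field_simp; ring
  obtain ⟨c, hcd⟩ : ∃ x : F, x = -(2 * lam ^ 2 + lam + 1) / (lam + 1) ^ 3 := ⟨_, rfl⟩
  obtain ⟨b, hbd⟩ : ∃ x : F, x = (lam + 1) ^ 2 / lam := ⟨_, rfl⟩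
  obtain ⟨d, hdd⟩ : ∃ x : F, x = -(lam + 1) ^ 3 / lam := ⟨_, rfl⟩
  have hbq : b ^ q = b := by
    rw [hbd, div_pow, frob_pow (lam + 1) 2, hsq, hlq]
    field_simp
  have hcq : c ^ q = -(2 * (lam⁻¹) ^ 2 + lam⁻¹ + 1) / ((lam + 1) / lam) ^ 3 := by
    rw [hcd, div_pow, pow_q_neg hF, pow_q_add hF, pow_q_add hF, one_pow, mul_pow, h2q,
      frob_pow lam 2, frob_pow (lam + 1) 3, hsq, hlq]
  have hdq : d ^ q = -((lam + 1) / lam) ^ 3 / lam⁻¹ := by
    rw [hdd, div_pow, pow_q_neg hF, frob_pow (lam + 1) 3, hsq, hlq]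
  have hc : c + c ^ q + 1 = 0 := by
    rw [hcq, hcd]
    field_simp
    ring
  have hd : d + d ^ q + b * b ^ q = 0 := by
    rw [hbq, hdq, hdd, hbd]
    field_simp
    ring
  have hb0 : b ≠ 0 := by
    rw [hbd]; exact div_ne_zero (pow_ne_zero _ hlam1) hl0
  have hd0 : d ≠ 0 := by
    rw [hdd]; exact div_ne_zero (neg_ne_zero.mpr (pow_ne_zero _ hlam1)) hl0
  -- conjugacy
  obtain ⟨ck, hckd⟩ : ∃ x : F, x = -b⁻¹ := ⟨_, rfl⟩
  have hck0 : ck ≠ 0 := by rw [hckd]; exact neg_ne_zero.mpr (inv_ne_zero hb0)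
  have hckq : ck ^ q = ck := by rw [hckd, pow_q_neg hF, inv_pow, hbq]
  have hbk : -(ck ^ q) / ck ^ 2 = b := by
    rw [hckq, hckd]; field_simp
  obtain ⟨ak, hak⟩ : ∃ ak : F, ck + ck ^ q + ak * ak ^ q = 0 := by
    by_cases h2 : (2 : F) = 0
    · refine ⟨0, ?_⟩
      rw [hckq, zero_mul, add_zero]
      linear_combination ck * h2
    · have hne : (2 : F) / b ≠ 0 := div_ne_zero h2 hb0
      have hre : ((2 : F) / b) ^ q = 2 / b := by rw [div_pow, h2q, hbq]
      obtain ⟨l, hl⟩ := Cfsg.Agent.Lib.Helper5.HermCount.exists_norm_eq hF _ hne hre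
      refine ⟨l, ?_⟩
      rw [pow_succ] at hl
      have : l * l ^ q = 2 / b := by rw [mul_comm]; exact hl
      rw [this, hckq, hckd]
      field_simp
      ring
  have hd₂ : d + d ^ q + (-(ck ^ q) / ck ^ 2) * (-(ck ^ q) / ck ^ 2) ^ q = 0 := by
    rw [hbk]; exact hd
  obtain ⟨g, hg⟩ := W.conj_up_um hc hck0 hak hd₂
  rw [hbk] at hg
  -- the subgroup
  refine ⟨W.up 1 c, g, ⟨W.up_nilpotent (Witt.hc1 hc), ?_⟩, ?_⟩
  · have : n - 1 = 2 := by omega
    rw [this]
    exact W.up_regular hc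
  set H := Subgroup.closure ({W.up 1 c, g * W.up 1 c * g⁻¹} : Set ↥(Cfsg.SU n F q)) with hH
  have hu : W.up 1 c ∈ H := Subgroup.subset_closure (by simp)
  have hv : W.um b d ∈ H := by
    rw [← hg]; exact Subgroup.subset_closure (by simp)
  have hβ : W.um b d * W.up 1 c * W.um b d ∈ H := H.mul_mem (H.mul_mem hv hu) hv
  have hc1' := Witt.hc1 hc
  have hβe : act (W.um b d * W.up 1 c * W.um b d) (W.e 0) = lam • W.e 0 := by
    rw [act_mul, act_mul, W.e_eq, W.act_um hd, W.act_up hc1', W.act_um hd, W.smul_vec, hbq, one_pow]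
    congr 1
    · rw [hcd, hbd, hdd]; field_simp; ring
    · rw [hcd, hbd, hdd]; field_simp; ring
    · rw [hcd, hbd, hdd]; field_simp; ring
  have hβw : act (W.um b d * W.up 1 c * W.um b d) W.w
      = (lam ^ 2)⁻¹ • W.w + (-c * b - 1) • W.e 0 := by
    have h1 : (lam ^ 2)⁻¹ • W.w + (-c * b - 1) • W.e 0 = W.vec (-c * b - 1) ((lam ^ 2)⁻¹) 0 := by
      unfold Witt.vec; module
    rw [h1, act_mul, act_mul, W.w_eq, W.act_um hd, W.act_up hc1', W.act_um hd, hbq, one_pow]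
    congr 1
    · ring
    · rw [hcd, hbd, hdd]; field_simp; ring
    · rw [hcd, hbd, hdd]; field_simp; ring
  have hfield' : ∀ X : AddSubgroup F, (1 : F) ∈ X →
      (∀ a ∈ X, (lam ^ q * (lam ^ 2)⁻¹) * a ∈ X) → X = ⊤ := by
    intro X h1 h2
    apply hfield X h1
    intro a ha
    have := h2 a ha
    have e : lam ^ q * (lam ^ 2)⁻¹ = (lam ^ 3)⁻¹ := by
      rw [hlq]; field_simp
    rwa [e] at this
  have hne : hermForm n F q (act (W.um b d) (W.e 0)) (W.e 0) ≠ 0 := by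
    rw [W.e_eq, W.act_um hd, ← W.e_eq, W.form_vec_e]
    intro h
    apply hd0
    linear_combination h
  exact gen_borel W hq2 hc H hu hβ hl0 hβe hβw hfield' hv hne

end Cfsg.Agent.Lib.Helper1.Rt
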