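import Mathlib
import Cfsg.Prelude
import Cfsg.Agent.Lib.Helper1.Rt2

set_option autoImplicit false
set_option maxHeartbeats 4000000
set_option linter.unusedVariables false
set_option linter.unusedSectionVars false
set_option linter.style.longLine false
set_option linter.unusedSimpArgs false
set_option linter.deprecated false

/-! Two conjugate regular unipotent elements of `SU_3(q)`, part 3: the generic case. -/

namespace Cfsg.Agent.Lib.Helper1.Rt

open Matrix Cfsg Cfsg.Agent.Lib.Helper5.Herm Cfsg.Agent.Lib.Helper5.HermTv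
  Cfsg.Agent.Lib.Helper5.HermEich Cfsg.Agent.Lib.Helper5.HermSU Cfsg.Agent.Lib.Helper1.Rh

variable {F : Type*} [Field F] [Fintype F] {q n : ℕ}

theorem pow_pred_eq_one {μ : F} (hμ0 : μ ≠ 0) {k : ℕ} (hk : 1 ≤ k) (h : μ ^ k = μ) :
    μ ^ (k - 1) = 1 := by
  have h1 : μ ^ (k - 1) * μ = 1 * μ := by
    rw [← pow_succ, Nat.sub_add_cancel hk, h, one_mul]
  exact mul_right_cancel₀ hμ0 h1

/-- arithmetic: the cube case -/
theorem arith_cube {q N : ℕ} (h1 : (N + 1) ^ 3 ≤ q ^ 2) (h2 : q + 1 ≤ 3 * N) (hq3 : 3 ≤ q) :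
    q = 8 := by
  by_contra hq8
  rcases Nat.lt_or_ge q 9 with hlt | hge
  · have hN : N ≤ 3 := by
      by_contra hcon
      push_neg at hcon
      have : 5 ^ 3 ≤ (N + 1) ^ 3 := Nat.pow_le_pow_left (by omega) 3
      have : q ^ 2 ≤ 8 ^ 2 := Nat.pow_le_pow_left (by omega) 2
      omega
    interval_cases q <;> interval_cases N <;> simp_all
  · have h3 : (q + 4) ^ 3 ≤ (3 * N + 3) ^ 3 := Nat.pow_le_pow_left (by omega) 3
    have h4 : (3 * N + 3) ^ 3 = 27 * (N + 1) ^ 3 := by ring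
    have h5 : (q + 4) ^ 3 ≤ 27 * q ^ 2 := by rw [h4] at h3; omega
    obtain ⟨r, rfl⟩ : ∃ r, q = r + 9 := ⟨q - 9, by omega⟩
    have h6 : (r + 9 + 4) ^ 3 = 27 * (r + 9) ^ 2 + (r ^ 3 + 12 * r ^ 2 + 21 * r + 10) := by ring
    rw [h6] at h5
    have h7 : r ^ 3 + 12 * r ^ 2 + 21 * r + 10 ≤ 0 := by
      have : 27 * (r + 9) ^ 2 + (r ^ 3 + 12 * r ^ 2 + 21 * r + 10) ≤ 27 * (r + 9) ^ 2 + 0 := by
        rw [add_zero]; exact h5
      exact Nat.le_of_add_le_add_left this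
    have h8 : 10 ≤ r ^ 3 + 12 * r ^ 2 + 21 * r + 10 := Nat.le_add_left _ _
    omega

/-- the generic parameter -/
theorem exists_lam_generic (hF : Fintype.card F = q ^ 2) (hq3 : 3 ≤ q) (hq5 : q ≠ 5)
    (hq8 : q ≠ 8) :
    ∃ lam : F, lam * lam ^ q = 1 ∧ lam + 1 ≠ 0 ∧
      ∀ X : AddSubgroup F, (1 : F) ∈ X → (∀ a ∈ X, (lam ^ 3)⁻¹ * a ∈ X) → X = ⊤ := by
  obtain ⟨g₀, hg0, hg⟩ := exists_gen F
  have hord := orderOf_gen hF hg0 hg
  have hqq : q ^ 2 - 1 = (q - 1) * (q + 1) := by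
    have : q ^ 2 = (q - 1) * (q + 1) + 1 := by
      obtain ⟨r, rfl⟩ : ∃ r, q = r + 1 := ⟨q - 1, by omega⟩
      simp only [Nat.add_sub_cancel]
      ring
    omega
  set lam : F := g₀ ^ (q - 1) with hlam
  have hl0 : lam ≠ 0 := pow_ne_zero _ hg0
  have hnorm : lam * lam ^ q = 1 := by
    rw [← pow_succ', hlam, ← pow_mul, ← hqq, ← hord, pow_orderOf_eq_one]
  -- consequences of a relation `lam ^ k = 1`
  have hdvd : ∀ k : ℕ, lam ^ k = 1 → (q + 1) ∣ k := by
    intro k hk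
    rw [hlam, ← pow_mul] at hk
    have := orderOf_dvd_of_pow_eq_one hk
    rw [hord, hqq] at this
    exact Nat.dvd_of_mul_dvd_mul_left (by omega) this
  have hl1 : lam + 1 ≠ 0 := by
    intro h
    have h1 : lam = -1 := by linear_combination h
    have h2 : lam ^ 2 = 1 := by rw [h1]; ring
    have := Nat.le_of_dvd (by norm_num) (hdvd 2 h2)
    omega
  refine ⟨lam, hnorm, hl1, ?_⟩
  intro X h1 hμ
  set μ : F := (lam ^ 3)⁻¹ with hμd
  have hμ0 : μ ≠ 0 := inv_ne_zero (pow_ne_zero _ hl0)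
  set N := orderOf μ with hN
  have hNpos : 0 < N := by
    rw [hN, orderOf_pos_iff, isOfFinOrder_iff_pow_eq_one]
    exact ⟨Fintype.card F - 1, by
      have := Fintype.one_lt_card (α := F); omega, FiniteField.pow_card_sub_one_eq_one μ hμ0⟩
  -- `N ∣ q + 1`
  have hN1 : N ∣ q + 1 := by
    apply orderOf_dvd_of_pow_eq_one
    rw [hμd, inv_pow, ← pow_mul, mul_comm, pow_mul]
    have : lam ^ (q + 1) = 1 := by rw [pow_succ']; exact hnorm
    rw [this, one_pow, inv_one]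
  -- `q + 1 ∣ 3 N`
  have hN2 : q + 1 ∣ 3 * N := by
    apply hdvd
    have : μ ^ N = 1 := pow_orderOf_eq_one μ
    rw [hμd, inv_pow, inv_eq_one, ← pow_mul] at this
    exact this
  have hN3 : q + 1 ≤ 3 * N := Nat.le_of_dvd (by omega) hN2
  rcases field_gen_or X h1 hμ with h | ⟨k, m, hk, hm, hcard, hpow⟩
  · exact h
  · exfalso
    have hpow1 := pow_pred_eq_one hμ0 (by omega) hpow
    have hNk : N ∣ k - 1 := orderOf_dvd_of_pow_eq_one hpow1
    have hNk' : N ≤ k - 1 := Nat.le_of_dvd (by omega) hNk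
    rw [hF] at hcard
    rcases Nat.lt_or_ge m 3 with hm3 | hm3
    · have hm2 : m = 2 := by omega
      subst hm2
      have hkq : k = q := (Nat.pow_left_injective (n := 2) (by norm_num) hcard).symm
      subst hkq
      -- `N ∣ 2`
      have h2 : N ∣ 2 := by
        have h3 : N ∣ (k + 1) - (k - 1) := Nat.dvd_sub hN1 hNk
        have : (k + 1) - (k - 1) = 2 := by omega
        rwa [this] at h3
      have hN2' : N ≤ 2 := Nat.le_of_dvd (by norm_num) h2
      have hk5 : k ≤ 5 := by omega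
      interval_cases k
      · -- k = 3 : 4 ∣ 3 N, N ≤ 2
        interval_cases N <;> omega
      · interval_cases N <;> omega
      · exact hq5 rfl
    · have h3 : k ^ 3 ≤ k ^ m := Nat.pow_le_pow_right (by omega) hm3
      have h4 : (N + 1) ^ 3 ≤ k ^ 3 := Nat.pow_le_pow_left (by omega) 3
      have h5 : (N + 1) ^ 3 ≤ q ^ 2 := by rw [hcard]; exact le_trans h4 h3
      exact hq8 (arith_cube h5 hN3 hq3)

/-- the generic case of the theorem for `SU_3(q)` -/
theorem main2_generic (hF : Fintype.card F = q ^ 2) (hn : n = 3) (hq3 : 3 ≤ q) (hq5 : q ≠ 5)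
    (hq8 : q ≠ 8) :
    ∃ u g : ↥(Cfsg.SU n F q),
      (IsNilpotent (u.1.1 - 1) ∧ (u.1.1 - 1) ^ (n - 1) ≠ 0) ∧
      Subgroup.closure ({u, g * u * g⁻¹} : Set ↥(Cfsg.SU n F q)) = ⊤ := by
  obtain ⟨W⟩ := exists_witt (F := F) (q := q) (n := n) (m := 1) hF (by omega)
  obtain ⟨lam, h1, h2, h3⟩ := exists_lam_generic hF hq3 hq5 hq8
  exact main2_params W (by omega) h1 h2 h3

end Cfsg.Agent.Lib.Helper1.Rt
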