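import Mathlib
import Cfsg.Prelude
import Cfsg.Agent.Lib.Helper1.Rt3

set_option autoImplicit false
set_option maxHeartbeats 4000000
set_option linter.unusedVariables false
set_option linter.unusedSectionVars false
set_option linter.style.longLine false
set_option linter.unusedSimpArgs false
set_option linter.deprecated false

/-! Two conjugate regular unipotent elements of `SU_3(q)`, part 4: the case `q = 5`. -/

namespace Cfsg.Agent.Lib.Helper1.Rt

open Matrix Cfsg Cfsg.Agent.Lib.Helper5.Herm Cfsg.Agent.Lib.Helper5.HermTv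
  Cfsg.Agent.Lib.Helper5.HermEich Cfsg.Agent.Lib.Helper5.HermSU Cfsg.Agent.Lib.Helper1.Rh

variable {F : Type*} [Field F] [Fintype F] {n : ℕ}

/-- the characteristic from the cardinality `q ^ 2` with `q` prime -/
theorem char_of_card_sq {q : ℕ} (hq : q.Prime) (hF : Fintype.card F = q ^ 2) : ((q : ℕ) : F) = 0 := by
  obtain ⟨p, j, hp, hcp, hqp⟩ := exists_char_pow hF
  have hpq : p = q := by
    have hj : j ≠ 0 := by
      rintro rfl
      rw [pow_zero] at hqp
      exact hq.one_lt.ne' hqp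
    have : p ∣ q := by rw [hqp]; exact dvd_pow_self p hj
    exact (Nat.prime_dvd_prime_iff_eq hp hq).mp this
  subst hpq
  exact CharP.cast_eq_zero F p

theorem exists_sqrt3 (hF : Fintype.card F = 5 ^ 2) : ∃ s : F, s ^ 2 = 3 ∧ (5 : F) = 0 := by
  have h5 : (5 : F) = 0 := by
    have := char_of_card_sq (F := F) Nat.prime_five hF
    exact_mod_cast this
  have hchar : ringChar F ≠ 2 := by
    intro h
    have h2 : (2 : F) = 0 := by
      have := ringChar.Nat.cast_ringChar (R := F)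
      rw [h] at this
      exact_mod_cast this
    have : (1 : F) = 0 := by linear_combination h5 - 2 * h2
    exact one_ne_zero this
  have h3 : (3 : F) ≠ 0 := by
    intro h
    have : (1 : F) = 0 := by linear_combination 2 * h - h5
    exact one_ne_zero this
  have hsq : IsSquare (3 : F) := by
    rw [FiniteField.isSquare_iff hchar h3, hF]
    have : (3 : F) ^ (5 ^ 2 / 2) = 1 + 106288 * 5 := by norm_num
    rw [this, h5]; ring
  obtain ⟨s, hs⟩ := hsq
  exact ⟨s, by rw [hs]; ring, h5⟩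

theorem pow_eq_25 {k m : ℕ} (hk : 2 ≤ k) (hm : 2 ≤ m) (h : 5 ^ 2 = k ^ m) : k = 5 := by
  have hm4 : m ≤ 4 := by
    by_contra hcon
    push_neg at hcon
    have h1 : 2 ^ 5 ≤ 2 ^ m := Nat.pow_le_pow_right (by norm_num) hcon
    have h2 : 2 ^ m ≤ k ^ m := Nat.pow_le_pow_left hk m
    omega
  have hk5 : k ≤ 5 := by
    by_contra hcon
    push_neg at hcon
    have h1 : 6 ^ 2 ≤ k ^ 2 := Nat.pow_le_pow_left hcon 2
    have h2 : k ^ 2 ≤ k ^ m := Nat.pow_le_pow_right (by omega) hm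
    omega
  interval_cases k <;> interval_cases m <;> simp_all

/-- the case `q = 5` -/
theorem main2_q5 (hF : Fintype.card F = 5 ^ 2) (hn : n = 3) :
    ∃ u g : ↥(Cfsg.SU n F 5),
      (IsNilpotent (u.1.1 - 1) ∧ (u.1.1 - 1) ^ (n - 1) ≠ 0) ∧
      Subgroup.closure ({u, g * u * g⁻¹} : Set ↥(Cfsg.SU n F 5)) = ⊤ := by
  obtain ⟨W⟩ := exists_witt (F := F) (q := 5) (n := n) (m := 1) hF (by omega)
  obtain ⟨s, hs2, h5⟩ := exists_sqrt3 hF
  have hc : (2 + 2 * s) + (2 + 2 * s) ^ 5 + 1 = 0 := by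
    linear_combination (32 * s ^ 3 + 160 * s ^ 2 + 416 * s + 800) * hs2 + (282 * s + 487) * h5
  have hd : (-1 + 2 * s) + (-1 + 2 * s) ^ 5 + s * s ^ 5 = 0 := by
    linear_combination (s ^ 4 + 32 * s ^ 3 - 77 * s ^ 2 + 176 * s - 271) * hs2 + (108 * s - 163) * h5
  have hck0 : (2 * s : F) ≠ 0 := by
    intro h
    have : (1 : F) = 0 := by linear_combination (s) * h + (-2) * hs2 + (-1) * h5
    exact one_ne_zero this
  have hak : (2 * s) + (2 * s) ^ 5 + (0 : F) * 0 ^ 5 = 0 := by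
    linear_combination (32 * s ^ 3 + 96 * s) * hs2 + (58 * s) * h5
  have hbk : -((2 * s) ^ 5) / (2 * s) ^ 2 = s := by
    rw [div_eq_iff (pow_ne_zero 2 hck0)]
    linear_combination (-32 * s ^ 3 - 100 * s) * hs2 + (-60 * s) * h5
  have hd₂ : (-1 + 2 * s) + (-1 + 2 * s) ^ 5
      + (-((2 * s) ^ 5) / (2 * s) ^ 2) * (-((2 * s) ^ 5) / (2 * s) ^ 2) ^ 5 = 0 := by
    rw [hbk]; exact hd
  obtain ⟨g, hg⟩ := W.conj_up_um hc hck0 hak hd₂
  rw [hbk] at hg
  refine ⟨W.up 1 (2 + 2 * s), g, ⟨W.up_nilpotent (Witt.hc1 hc), ?_⟩, ?_⟩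
  · have : n - 1 = 2 := by omega
    rw [this]
    exact W.up_regular hc
  set H := Subgroup.closure ({W.up 1 (2 + 2 * s), g * W.up 1 (2 + 2 * s) * g⁻¹} :
    Set ↥(Cfsg.SU n F 5)) with hH
  have hu : W.up 1 (2 + 2 * s) ∈ H := Subgroup.subset_closure (by simp)
  have hv : W.um s (-1 + 2 * s) ∈ H := by
    rw [← hg]; exact Subgroup.subset_closure (by simp)
  have hβ : W.um s (-1 + 2 * s) * W.um s (-1 + 2 * s) * W.up 1 (2 + 2 * s) * W.um s (-1 + 2 * s) ∈ H :=
    H.mul_mem (H.mul_mem (H.mul_mem hv hv) hu) hv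
  have hc1' := Witt.hc1 hc
  have hβe : act (W.um s (-1 + 2 * s) * W.um s (-1 + 2 * s) * W.up 1 (2 + 2 * s)
      * W.um s (-1 + 2 * s)) (W.e 0) = (1 + s) • W.e 0 := by
    rw [act_mul, act_mul, act_mul, W.e_eq, W.act_um hd, W.act_up hc1', W.act_um hd, W.act_um hd,
      W.smul_vec]
    congr 1
    · linear_combination (4) * hs2 + (2) * h5
    · linear_combination (8 * s + 2) * hs2 + (5 * s + 1) * h5
    · linear_combination (-4 * s ^ 6 - s ^ 5 - 17 * s ^ 4 - s ^ 3 - 51 * s ^ 2 + 13 * s - 157) * hs2 + (7 * s - 94) * h5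
  have hβw : act (W.um s (-1 + 2 * s) * W.um s (-1 + 2 * s) * W.up 1 (2 + 2 * s)
      * W.um s (-1 + 2 * s)) W.w = (3 + s) • W.w + (2 * s) • W.e 0 := by
    have h1 : (3 + s) • W.w + (2 * s) • W.e 0 = W.vec (2 * s) (3 + s) 0 := by
      unfold Witt.vec; module
    rw [h1, act_mul, act_mul, act_mul, W.w_eq, W.act_um hd, W.act_up hc1', W.act_um hd,
      W.act_um hd]
    congr 1
    · linear_combination (-2 * s ^ 4 - 2 * s ^ 3 - 6 * s ^ 2 - 6 * s - 18) * hs2 + (-4 * s - 11) * h5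
    · linear_combination (-4 * s ^ 5 - 4 * s ^ 4 - 13 * s ^ 3 - 12 * s ^ 2 - 39 * s - 36) * hs2 + (-24 * s - 22) * h5
    · linear_combination (2 * s ^ 10 + 2 * s ^ 9 + 8 * s ^ 8 + 6 * s ^ 7 + 24 * s ^ 6 + 10 * s ^ 5 + 69 * s ^ 4 + 31 * s ^ 3 + 207 * s ^ 2 + 93 * s + 621) * hs2 + (55 * s + 373) * h5
  have hl0 : (1 + s : F) ≠ 0 := by
    intro h
    have : (1 : F) = 0 := by linear_combination (2 + 3 * s) * h + (-3) * hs2 + (-s - 2) * h5
    exact one_ne_zero this
  have hμv : (1 + s) ^ 5 * (3 + s) = 3 * s := by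
    linear_combination (s ^ 4 + 8 * s ^ 3 + 28 * s ^ 2 + 64 * s + 119) * hs2 + (41 * s + 72) * h5
  have hfield : ∀ X : AddSubgroup F, (1 : F) ∈ X →
      (∀ a ∈ X, ((1 + s) ^ 5 * (3 + s)) * a ∈ X) → X = ⊤ := by
    intro X h1 hμ
    rcases field_gen_or X h1 hμ with h | ⟨k, m, hk, hm, hcard, hpow⟩
    · exact h
    · exfalso
      rw [hF] at hcard
      have hk5 := pow_eq_25 hk hm hcard
      subst hk5
      rw [hμv] at hpow
      have : (1 : F) = 0 := by
        linear_combination (3 * s) * hpow + (-729 * s ^ 4 - 2187 * s ^ 2 - 6552) * hs2 + (-3931) * h5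
      exact one_ne_zero this
  have hne : hermForm n F 5 (act (W.um s (-1 + 2 * s)) (W.e 0)) (W.e 0) ≠ 0 := by
    rw [W.e_eq, W.act_um hd, ← W.e_eq, W.form_vec_e]
    intro h
    have : (1 : F) = 0 := by linear_combination (2 * s + 1) * h + (-4) * hs2 + (-2) * h5
    exact one_ne_zero this
  exact gen_borel W (by norm_num) hc H hu hβ hl0 hβe hβw hfield hv hne

end Cfsg.Agent.Lib.Helper1.Rt
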