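import Mathlib
import Cfsg.Prelude
import Cfsg.Agent.Lib.Helper1.Rt4

set_option autoImplicit false
set_option maxHeartbeats 4000000
set_option linter.unusedVariables false
set_option linter.unusedSectionVars false
set_option linter.style.longLine false
set_option linter.unusedSimpArgs false
set_option linter.deprecated false

/-! Two conjugate regular unipotent elements of `SU_3(q)`, part 5: the case `q = 8`. -/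

namespace Cfsg.Agent.Lib.Helper1.Rt

open Matrix Cfsg Cfsg.Agent.Lib.Helper5.Herm Cfsg.Agent.Lib.Helper5.HermTv
  Cfsg.Agent.Lib.Helper5.HermEich Cfsg.Agent.Lib.Helper5.HermSU Cfsg.Agent.Lib.Helper1.Rh

variable {F : Type*} [Field F] [Fintype F] {q n : ℕ}

theorem act_um' (W : Witt F q n 1) {b d bq : F} (hd : d + d ^ q + b * b ^ q = 0) (hbq : b ^ q = bq)
    {x y z y' z' : F} (hy : y + b * x = y') (hz : z + d * x - bq * y = z') :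
    act (W.um b d) (W.vec x y z) = W.vec x y' z' := by
  rw [W.act_um hd, hbq, hy, hz]

theorem act_up1' (W : Witt F q n 1) {c : F} (hc : c + c ^ q + 1 = 0)
    {x y z x' y' : F} (hx : x + c * z - y = x') (hy : y + z = y') :
    act (W.up 1 c) (W.vec x y z) = W.vec x' y' z := by
  rw [W.act_up (Witt.hc1 hc), one_pow, one_mul, one_mul, hx, hy]

/-- generators of the field with `64` elements -/
theorem exists_tz (hF : Fintype.card F = 8 ^ 2) :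
    ∃ t z : F, t ^ 3 = t + 1 ∧ z ^ 2 = z + 1 ∧ (2 : F) = 0 := by
  have h2 : (2 : F) = 0 := by
    obtain ⟨p, j, hp, hcp, hqp⟩ := exists_char_pow hF
    have hj : j ≠ 0 := by
      rintro rfl
      norm_num at hqp
    have hp8 : p ∣ 2 ^ 3 := by
      have : p ∣ 8 := by rw [hqp]; exact dvd_pow_self p hj
      simpa using this
    have hp2 : p = 2 := (Nat.prime_dvd_prime_iff_eq hp Nat.prime_two).mp (hp.dvd_of_dvd_pow hp8)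
    subst hp2
    have := CharP.cast_eq_zero F 2
    exact_mod_cast this
  obtain ⟨γ, hγ0, hγ⟩ := exists_gen F
  have hord := orderOf_gen hF hγ0 hγ
  have h63 : orderOf γ = 63 := by rw [hord]; norm_num
  -- `z`
  have hz3 : (γ ^ 21) ^ 3 = 1 := by
    rw [← pow_mul, show 21 * 3 = 63 by norm_num, ← h63, pow_orderOf_eq_one]
  have hz1 : γ ^ 21 ≠ 1 := pow_ne_one_of_lt_orderOf (by norm_num) (by rw [h63]; norm_num)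
  have hz : (γ ^ 21) ^ 2 = γ ^ 21 + 1 := by
    have h : (γ ^ 21 - 1) * ((γ ^ 21) ^ 2 + γ ^ 21 + 1) = 0 := by
      linear_combination hz3
    rcases mul_eq_zero.mp h with h' | h'
    · exact absurd (sub_eq_zero.mp h') hz1
    · linear_combination h' - (γ ^ 21 + 1) * h2
  -- `t`
  have ht7 : (γ ^ 9) ^ 7 = 1 := by
    rw [← pow_mul, show 9 * 7 = 63 by norm_num, ← h63, pow_orderOf_eq_one]
  have ht1 : γ ^ 9 ≠ 1 := pow_ne_one_of_lt_orderOf (by norm_num) (by rw [h63]; norm_num)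
  set x : F := γ ^ 9 with hx
  have hprod : (x - 1) * ((x ^ 3 + x + 1) * (x ^ 3 + x ^ 2 + 1)) = 0 := by
    linear_combination ht7 + (x ^ 4 - x ^ 3) * h2
  rcases mul_eq_zero.mp hprod with h' | h'
  · exact absurd (sub_eq_zero.mp h') ht1
  · rcases mul_eq_zero.mp h' with h'' | h''
    · exact ⟨x, γ ^ 21, by linear_combination h'' - (x + 1) * h2, hz, h2⟩
    · refine ⟨x ^ 6, γ ^ 21, ?_, hz, h2⟩
      have hx3 : x ^ 3 = x ^ 2 + 1 := by linear_combination h'' - (x ^ 2 + 1) * h2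
      linear_combination (x ^ 15 + x ^ 14 + x ^ 13 + 2 * x ^ 12 + 3 * x ^ 11 + 4 * x ^ 10 + 6 * x ^ 9 + 9 * x ^ 8 + 13 * x ^ 7 + 19 * x ^ 6 + 28 * x ^ 5 + 41 * x ^ 4 + 59 * x ^ 3 + 87 * x ^ 2 + 128 * x + 187) * hx3 + (137 * x ^ 2 + 64 * x + 93) * h2

theorem pow_eq_64 {k m : ℕ} (hk : 2 ≤ k) (hm : 2 ≤ m) (h : 8 ^ 2 = k ^ m) :
    (k = 8 ∧ m = 2) ∨ (k = 4 ∧ m = 3) ∨ (k = 2 ∧ m = 6) := by
  have hm6 : m ≤ 6 := by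
    by_contra hcon
    push_neg at hcon
    have h1 : 2 ^ 7 ≤ 2 ^ m := Nat.pow_le_pow_right (by norm_num) hcon
    have h2 : 2 ^ m ≤ k ^ m := Nat.pow_le_pow_left hk m
    omega
  have hk8 : k ≤ 8 := by
    by_contra hcon
    push_neg at hcon
    have h1 : 9 ^ 2 ≤ k ^ 2 := Nat.pow_le_pow_left hcon 2
    have h2 : k ^ 2 ≤ k ^ m := Nat.pow_le_pow_right (by omega) hm
    omega
  interval_cases k <;> interval_cases m <;> simp_all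

/-- the case `q = 8` -/
theorem main2_q8 (hF : Fintype.card F = 8 ^ 2) (hn : n = 3) :
    ∃ u g : ↥(Cfsg.SU n F 8),
      (IsNilpotent (u.1.1 - 1) ∧ (u.1.1 - 1) ^ (n - 1) ≠ 0) ∧
      Subgroup.closure ({u, g * u * g⁻¹} : Set ↥(Cfsg.SU n F 8)) = ⊤ := by
  obtain ⟨W⟩ := exists_witt (F := F) (q := 8) (n := n) (m := 1) hF (by omega)
  obtain ⟨t, z, ht, hz, h2⟩ := exists_tz hF
  have hcq : (t + z + 1) ^ 8 = (t + z) := by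
    linear_combination (t ^ 5 + 8 * t ^ 4 * z + 8 * t ^ 4 + 28 * t ^ 3 * z ^ 2 + 56 * t ^ 3 * z + 29 * t ^ 3 + 56 * t ^ 2 * z ^ 3 + 168 * t ^ 2 * z ^ 2 + 176 * t ^ 2 * z + 65 * t ^ 2 + 70 * t * z ^ 4 + 280 * t * z ^ 3 + 448 * t * z ^ 2 + 344 * t * z + 107 * t + 56 * z ^ 5 + 280 * z ^ 4 + 616 * z ^ 3 + 756 * z ^ 2 + 512 * z + 150) * ht + (28 * t ^ 2 * z ^ 4 + 196 * t ^ 2 * z ^ 3 + 714 * t ^ 2 * z ^ 2 + 1806 * t ^ 2 * z + 3556 * t ^ 2 + 8 * t * z ^ 5 + 64 * t * z ^ 4 + 296 * t * z ^ 3 + 990 * t * z ^ 2 + 2462 * t * z + 4824 * t + z ^ 6 + 9 * z ^ 5 + 38 * z ^ 4 + 159 * z ^ 3 + 547 * z ^ 2 + 1378 * z + 2709) * hz + (3025 * t ^ 2 * z + 1878 * t ^ 2 + 4099 * t * z + 2544 * t + 2303 * z + 1430) * h2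
  have hbq : (t ^ 2 * z) ^ 8 = (t ^ 2 * z + t ^ 2) := by
    linear_combination (t ^ 13 * z ^ 8 + t ^ 11 * z ^ 8 + t ^ 10 * z ^ 8 + t ^ 9 * z ^ 8 + 2 * t ^ 8 * z ^ 8 + 2 * t ^ 7 * z ^ 8 + 3 * t ^ 6 * z ^ 8 + 4 * t ^ 5 * z ^ 8 + 5 * t ^ 4 * z ^ 8 + 7 * t ^ 3 * z ^ 8 + 9 * t ^ 2 * z ^ 8 + 12 * t * z ^ 8 + 16 * z ^ 8) * ht + (21 * t ^ 2 * z ^ 6 + 21 * t ^ 2 * z ^ 5 + 42 * t ^ 2 * z ^ 4 + 63 * t ^ 2 * z ^ 3 + 105 * t ^ 2 * z ^ 2 + 168 * t ^ 2 * z + 273 * t ^ 2 + 28 * t * z ^ 6 + 28 * t * z ^ 5 + 56 * t * z ^ 4 + 84 * t * z ^ 3 + 140 * t * z ^ 2 + 224 * t * z + 364 * t + 16 * z ^ 6 + 16 * z ^ 5 + 32 * z ^ 4 + 48 * z ^ 3 + 80 * z ^ 2 + 128 * z + 208) * hz + (220 * t ^ 2 * z + 136 * t ^ 2 + 294 * t * z + 182 * t + 168 * z + 104) * h2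
  have hdq : (t ^ 2 * z + t ^ 2 + t * z) ^ 8 = (t ^ 2 * z + t * z + t) := by
    linear_combination (t ^ 13 * z ^ 8 + 8 * t ^ 13 * z ^ 7 + 28 * t ^ 13 * z ^ 6 + 56 * t ^ 13 * z ^ 5 + 70 * t ^ 13 * z ^ 4 + 56 * t ^ 13 * z ^ 3 + 28 * t ^ 13 * z ^ 2 + 8 * t ^ 13 * z + t ^ 13 + 8 * t ^ 12 * z ^ 8 + 56 * t ^ 12 * z ^ 7 + 168 * t ^ 12 * z ^ 6 + 280 * t ^ 12 * z ^ 5 + 280 * t ^ 12 * z ^ 4 + 168 * t ^ 12 * z ^ 3 + 56 * t ^ 12 * z ^ 2 + 8 * t ^ 12 * z + 29 * t ^ 11 * z ^ 8 + 176 * t ^ 11 * z ^ 7 + 448 * t ^ 11 * z ^ 6 + 616 * t ^ 11 * z ^ 5 + 490 * t ^ 11 * z ^ 4 + 224 * t ^ 11 * z ^ 3 + 56 * t ^ 11 * z ^ 2 + 8 * t ^ 11 * z + t ^ 11 + 65 * t ^ 10 * z ^ 8 + 344 * t ^ 10 * z ^ 7 + 756 * t ^ 10 * z ^ 6 + 896 * t ^ 10 * z ^ 5 + 630 * t ^ 10 * z ^ 4 + 280 * t ^ 10 * z ^ 3 + 84 * t ^ 10 * z ^ 2 + 16 * t ^ 10 *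 z + t ^ 10 + 107 * t ^ 9 * z ^ 8 + 512 * t ^ 9 * z ^ 7 + 1036 * t ^ 9 * z ^ 6 + 1176 * t ^ 9 * z ^ 5 + 840 * t ^ 9 * z ^ 4 + 392 * t ^ 9 * z ^ 3 + 112 * t ^ 9 * z ^ 2 + 16 * t ^ 9 * z + t ^ 9 + 150 * t ^ 8 * z ^ 8 + 688 * t ^ 8 * z ^ 7 + 1372 * t ^ 8 * z ^ 6 + 1568 * t ^ 8 * z ^ 5 + 1120 * t ^ 8 * z ^ 4 + 504 * t ^ 8 * z ^ 3 + 140 * t ^ 8 * z ^ 2 + 24 * t ^ 8 * z + 2 * t ^ 8 + 200 * t ^ 7 * z ^ 8 + 912 * t ^ 7 * z ^ 7 + 1820 * t ^ 7 * z ^ 6 + 2072 * t ^ 7 * z ^ 5 + 1470 * t ^ 7 * z ^ 4 + 672 * t ^ 7 * z ^ 3 + 196 * t ^ 7 * z ^ 2 + 32 * t ^ 7 * z + 2 * t ^ 7 + 265 * t ^ 6 * z ^ 8 + 1208 * t ^ 6 * z ^ 7 + 2408 * t ^ 6 * z ^ 6 + 2744 * t ^ 6 * z ^ 5 + 1960 * t ^ 6 * z ^ 4 + 896 * t ^ 6 * z ^ 3 + 252 * t ^ 6 * z ^ 2 + 40 * t ^ 6 * z + 3 * t ^ 6 + 351 * t ^ 5 * z ^ 8 + 1600 * t ^ 5 * z ^ 7 + 3192 * t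 ^ 5 * z ^ 6 + 3640 * t ^ 5 * z ^ 5 + 2590 * t ^ 5 * z ^ 4 + 1176 * t ^ 5 * z ^ 3 + 336 * t ^ 5 * z ^ 2 + 56 * t ^ 5 * z + 4 * t ^ 5 + 465 * t ^ 4 * z ^ 8 + 2120 * t ^ 4 * z ^ 7 + 4228 * t ^ 4 * z ^ 6 + 4816 * t ^ 4 * z ^ 5 + 3430 * t ^ 4 * z ^ 4 + 1568 * t ^ 4 * z ^ 3 + 448 * t ^ 4 * z ^ 2 + 72 * t ^ 4 * z + 5 * t ^ 4 + 616 * t ^ 3 * z ^ 8 + 2808 * t ^ 3 * z ^ 7 + 5600 * t ^ 3 * z ^ 6 + 6384 * t ^ 3 * z ^ 5 + 4550 * t ^ 3 * z ^ 4 + 2072 * t ^ 3 * z ^ 3 + 588 * t ^ 3 * z ^ 2 + 96 * t ^ 3 * z + 7 * t ^ 3 + 816 * t ^ 2 * z ^ 8 + 3720 * t ^ 2 * z ^ 7 + 7420 * t ^ 2 * z ^ 6 + 8456 * t ^ 2 * z ^ 5 + 6020 * t ^ 2 * z ^ 4 + 2744 * t ^ 2 * z ^ 3 + 784 * t ^ 2 * z ^ 2 + 128 * t ^ 2 * z + 9 * t ^ 2 + 1081 * t * z ^ 8 + 4928 * t * z ^ 7 + 9828 * t * z ^ 6 + 11200 * t * z ^ 5 + 7980 * t * z ^ 4 + 3640 * t *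 z ^ 3 + 1036 * t * z ^ 2 + 168 * t * z + 12 * t + 1432 * z ^ 8 + 6528 * z ^ 7 + 13020 * z ^ 6 + 14840 * z ^ 5 + 10570 * z ^ 4 + 4816 * z ^ 3 + 1372 * z ^ 2 + 224 * z + 16) * ht + (1897 * t ^ 2 * z ^ 6 + 10545 * t ^ 2 * z ^ 5 + 29690 * t ^ 2 * z ^ 4 + 59891 * t ^ 2 * z ^ 3 + 103581 * t ^ 2 * z ^ 2 + 169856 * t ^ 2 * z + 275257 * t ^ 2 + 2513 * t * z ^ 6 + 13969 * t * z ^ 5 + 39330 * t * z ^ 4 + 79339 * t * z ^ 3 + 137219 * t * z ^ 2 + 225014 * t * z + 364641 * t + 1432 * z ^ 6 + 7960 * z ^ 5 + 22412 * z ^ 4 + 45212 * z ^ 3 + 78194 * z ^ 2 + 128222 * z + 207788) * hz + (222704 * t ^ 2 * z + 137639 * t ^ 2 + 295023 * t * z + 182334 * t + 168117 * z + 103902) * h2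
  have hckq : (t ^ 2 * z + 1) ^ 8 = (t ^ 2 * z + t ^ 2 + 1) := by
    linear_combination (t ^ 13 * z ^ 8 + t ^ 11 * z ^ 8 + 8 * t ^ 11 * z ^ 7 + t ^ 10 * z ^ 8 + t ^ 9 * z ^ 8 + 8 * t ^ 9 * z ^ 7 + 28 * t ^ 9 * z ^ 6 + 2 * t ^ 8 * z ^ 8 + 8 * t ^ 8 * z ^ 7 + 2 * t ^ 7 * z ^ 8 + 8 * t ^ 7 * z ^ 7 + 28 * t ^ 7 * z ^ 6 + 56 * t ^ 7 * z ^ 5 + 3 * t ^ 6 * z ^ 8 + 16 * t ^ 6 * z ^ 7 + 28 * t ^ 6 * z ^ 6 + 4 * t ^ 5 * z ^ 8 + 16 * t ^ 5 * z ^ 7 + 28 * t ^ 5 * z ^ 6 + 56 * t ^ 5 * z ^ 5 + 70 * t ^ 5 * z ^ 4 + 5 * t ^ 4 * z ^ 8 + 24 * t ^ 4 * z ^ 7 + 56 * t ^ 4 * z ^ 6 + 56 * t ^ 4 * z ^ 5 + 7 * t ^ 3 * z ^ 8 + 32 * t ^ 3 * z ^ 7 + 56 * t ^ 3 * z ^ 6 + 56 * t ^ 3 * z ^ 5 + 70 * t ^ 3 * z ^ 4 + 56 * t ^ 3 * z ^ 3 + 9 * t ^ 2 * z ^ 8 + 40 * t ^ 2 * z ^ 7 + 84 * t ^ 2 * z ^ 6 + 112 * t ^ 2 * z ^ 5 + 70 * t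 ^ 2 * z ^ 4 + 12 * t * z ^ 8 + 56 * t * z ^ 7 + 112 * t * z ^ 6 + 112 * t * z ^ 5 + 70 * t * z ^ 4 + 56 * t * z ^ 3 + 28 * t * z ^ 2 + 16 * z ^ 8 + 72 * z ^ 7 + 140 * z ^ 6 + 168 * z ^ 5 + 140 * z ^ 4 + 56 * z ^ 3) * ht + (21 * t ^ 2 * z ^ 6 + 117 * t ^ 2 * z ^ 5 + 334 * t ^ 2 * z ^ 4 + 675 * t ^ 2 * z ^ 3 + 1149 * t ^ 2 * z ^ 2 + 1880 * t ^ 2 * z + 3057 * t ^ 2 + 28 * t * z ^ 6 + 156 * t * z ^ 5 + 436 * t * z ^ 4 + 872 * t * z ^ 3 + 1518 * t * z ^ 2 + 2502 * t * z + 4048 * t + 16 * z ^ 6 + 88 * z ^ 5 + 244 * z ^ 4 + 500 * z ^ 3 + 884 * z ^ 2 + 1440 * z + 2324) * hz + (2472 * t ^ 2 * z + 1528 * t ^ 2 + 3275 * t * z + 2024 * t + 1882 * z + 1162) * h2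
  have hakq : (t * z) ^ 8 = (t * z + t) := by
    linear_combination (t ^ 5 * z ^ 8 + t ^ 3 * z ^ 8 + t ^ 2 * z ^ 8 + t * z ^ 8 + 2 * z ^ 8) * ht + (2 * t ^ 2 * z ^ 6 + 2 * t ^ 2 * z ^ 5 + 4 * t ^ 2 * z ^ 4 + 6 * t ^ 2 * z ^ 3 + 10 * t ^ 2 * z ^ 2 + 16 * t ^ 2 * z + 26 * t ^ 2 + 3 * t * z ^ 6 + 3 * t * z ^ 5 + 6 * t * z ^ 4 + 9 * t * z ^ 3 + 15 * t * z ^ 2 + 24 * t * z + 39 * t + 2 * z ^ 6 + 2 * z ^ 5 + 4 * z ^ 4 + 6 * z ^ 3 + 10 * z ^ 2 + 16 * z + 26) * hz + (21 * t ^ 2 * z + 13 * t ^ 2 + 31 * t * z + 19 * t + 21 * z + 13) * h2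
  have hlq : (t ^ 2 + t * z + z) ^ 8 = (t ^ 2 + t * z + t + z + 1) := by
    linear_combination (t ^ 13 + 8 * t ^ 12 * z + 28 * t ^ 11 * z ^ 2 + 8 * t ^ 11 * z + t ^ 11 + 56 * t ^ 10 * z ^ 3 + 56 * t ^ 10 * z ^ 2 + 8 * t ^ 10 * z + t ^ 10 + 70 * t ^ 9 * z ^ 4 + 168 * t ^ 9 * z ^ 3 + 56 * t ^ 9 * z ^ 2 + 16 * t ^ 9 * z + t ^ 9 + 56 * t ^ 8 * z ^ 5 + 280 * t ^ 8 * z ^ 4 + 224 * t ^ 8 * z ^ 3 + 84 * t ^ 8 * z ^ 2 + 16 * t ^ 8 * z + 2 * t ^ 8 + 28 * t ^ 7 * z ^ 6 + 280 * t ^ 7 * z ^ 5 + 490 * t ^ 7 * z ^ 4 + 280 * t ^ 7 * z ^ 3 + 112 * t ^ 7 * z ^ 2 + 24 * t ^ 7 * z + 2 * t ^ 7 + 8 * t ^ 6 * z ^ 7 + 168 * t ^ 6 * z ^ 6 + 616 * t ^ 6 * z ^ 5 + 630 * t ^ 6 * z ^ 4 + 392 * t ^ 6 * z ^ 3 + 140 * t ^ 6 * z ^ 2 + 32 * t ^ 6 * z + 3 * t ^ 6 + t ^ 5 * z ^ 8 + 56 * t ^ 5 * z ^ 7 + 448 * t ^ 5 * z ^ 6 + 896 *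 t ^ 5 * z ^ 5 + 840 * t ^ 5 * z ^ 4 + 504 * t ^ 5 * z ^ 3 + 196 * t ^ 5 * z ^ 2 + 40 * t ^ 5 * z + 4 * t ^ 5 + 8 * t ^ 4 * z ^ 8 + 176 * t ^ 4 * z ^ 7 + 756 * t ^ 4 * z ^ 6 + 1176 * t ^ 4 * z ^ 5 + 1120 * t ^ 4 * z ^ 4 + 672 * t ^ 4 * z ^ 3 + 252 * t ^ 4 * z ^ 2 + 56 * t ^ 4 * z + 5 * t ^ 4 + 29 * t ^ 3 * z ^ 8 + 344 * t ^ 3 * z ^ 7 + 1036 * t ^ 3 * z ^ 6 + 1568 * t ^ 3 * z ^ 5 + 1470 * t ^ 3 * z ^ 4 + 896 * t ^ 3 * z ^ 3 + 336 * t ^ 3 * z ^ 2 + 72 * t ^ 3 * z + 7 * t ^ 3 + 65 * t ^ 2 * z ^ 8 + 512 * t ^ 2 * z ^ 7 + 1372 * t ^ 2 * z ^ 6 + 2072 * t ^ 2 * z ^ 5 + 1960 * t ^ 2 * z ^ 4 + 1176 * t ^ 2 * z ^ 3 + 448 * t ^ 2 * z ^ 2 + 96 * t ^ 2 * z + 9 * t ^ 2 + 107 * t * z ^ 8 + 688 * t * z ^ 7 + 1820 * t * z ^ 6 + 2744 * t * z ^ 5 + 2590 * t * z ^ 4 + 1568 * t * z ^ 3 + 588 * t * z ^ 2 + 128 * t * z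 + 12 * t + 150 * z ^ 8 + 912 * z ^ 7 + 2408 * z ^ 6 + 3640 * z ^ 5 + 3430 * z ^ 4 + 2072 * z ^ 3 + 784 * z ^ 2 + 168 * z + 16) * ht + (200 * t ^ 2 * z ^ 6 + 1408 * t ^ 2 * z ^ 5 + 4800 * t ^ 2 * z ^ 4 + 11024 * t ^ 2 * z ^ 3 + 20374 * t ^ 2 * z ^ 2 + 34142 * t ^ 2 * z + 55552 * t ^ 2 + 265 * t * z ^ 6 + 1865 * t * z ^ 5 + 6358 * t * z ^ 4 + 14607 * t * z ^ 3 + 26985 * t * z ^ 2 + 45232 * t * z + 73589 * t + 151 * z ^ 6 + 1063 * z ^ 5 + 3622 * z ^ 4 + 8325 * z ^ 3 + 15377 * z ^ 2 + 25774 * z + 41935) * hz + (44959 * t ^ 2 * z + 27786 * t ^ 2 + 59558 * t * z + 36808 * t + 33938 * z + 20975) * h2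
  have hc : (t + z + 1) + (t + z + 1) ^ 8 + 1 = 0 := by
    rw [hcq]
    linear_combination (t + z + 1) * h2
  have hd : (t ^ 2 * z + t ^ 2 + t * z) + (t ^ 2 * z + t ^ 2 + t * z) ^ 8 + (t ^ 2 * z) * (t ^ 2 * z) ^ 8 = 0 := by
    rw [hdq, hbq]
    linear_combination (t * z ^ 2 + t * z) * ht + (t ^ 2 + t) * hz + (2 * t ^ 2 * z + t ^ 2 + 2 * t * z + t) * h2
  have hck0 : ((t ^ 2 * z + 1) : F) ≠ 0 := by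
    intro h
    have : (1 : F) = 0 := by
      linear_combination (t ^ 2 * z + t + z + 1) * h + (-t * z ^ 2 - z) * ht + (-2 * t ^ 2 - t) * hz + (-2 * t ^ 2 * z - t ^ 2 - t * z - t - z) * h2
    exact one_ne_zero this
  have hak : (t ^ 2 * z + 1) + (t ^ 2 * z + 1) ^ 8 + (t * z) * (t * z) ^ 8 = 0 := by
    rw [hckq, hakq]
    linear_combination (t ^ 2) * hz + (2 * t ^ 2 * z + t ^ 2 + 1) * h2
  have hbk : -((t ^ 2 * z + 1) ^ 8) / (t ^ 2 * z + 1) ^ 2 = (t ^ 2 * z) := by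
    rw [div_eq_iff (pow_ne_zero 2 hck0), hckq]
    linear_combination (-t ^ 3 * z ^ 3 - t * z ^ 3 - 2 * t * z ^ 2 - z ^ 3) * ht + (-t ^ 2 * z - 3 * t ^ 2 - 2 * t * z - 4 * t - z - 1) * hz + (-3 * t ^ 2 * z - 2 * t ^ 2 - 3 * t * z - 2 * t - z - 1) * h2
  have hd₂ : (t ^ 2 * z + t ^ 2 + t * z) + (t ^ 2 * z + t ^ 2 + t * z) ^ 8
      + (-((t ^ 2 * z + 1) ^ 8) / (t ^ 2 * z + 1) ^ 2) * (-((t ^ 2 * z + 1) ^ 8) / (t ^ 2 * z + 1) ^ 2) ^ 8 = 0 := by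
    rw [hbk]; exact hd
  obtain ⟨g, hg⟩ := W.conj_up_um hc hck0 hak hd₂
  rw [hbk] at hg
  refine ⟨W.up 1 (t + z + 1), g, ⟨W.up_nilpotent (Witt.hc1 hc), ?_⟩, ?_⟩
  · have : n - 1 = 2 := by omega
    rw [this]
    exact W.up_regular hc
  set H := Subgroup.closure ({W.up 1 (t + z + 1), g * W.up 1 (t + z + 1) * g⁻¹} :
    Set ↥(Cfsg.SU n F 8)) with hH
  have hu : W.up 1 (t + z + 1) ∈ H := Subgroup.subset_closure (by simp)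
  have hv : W.um (t ^ 2 * z) (t ^ 2 * z + t ^ 2 + t * z) ∈ H := by
    rw [← hg]; exact Subgroup.subset_closure (by simp)
  have hβ : W.um (t ^ 2 * z) (t ^ 2 * z + t ^ 2 + t * z) * W.up 1 (t + z + 1) * W.um (t ^ 2 * z) (t ^ 2 * z + t ^ 2 + t * z) * W.up 1 (t + z + 1) * W.up 1 (t + z + 1) * W.um (t ^ 2 * z) (t ^ 2 * z + t ^ 2 + t * z) ∈ H :=
    (H.mul_mem (H.mul_mem (H.mul_mem (H.mul_mem (H.mul_mem hv hu) hv) hu) hu) hv)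
  have he0 : act (W.um (t ^ 2 * z) (t ^ 2 * z + t ^ 2 + t * z)) (W.vec (1) (0) (0)) = W.vec (1) (t ^ 2 * z) (t ^ 2 * z + t ^ 2 + t * z) :=
    act_um' W hd hbq (by ring) (by ring)
  have he1 : act (W.up 1 (t + z + 1)) (W.vec (1) (t ^ 2 * z) (t ^ 2 * z + t ^ 2 + t * z)) = W.vec (t ^ 2 * z + t * z + z) (t ^ 2 + t * z) (t ^ 2 * z + t ^ 2 + t * z) :=
    act_up1' W hc (by linear_combination (z + 1) * ht + (t ^ 2 + t) * hz + (t ^ 2 * z + t ^ 2 + t * z + t + 1) * h2) (by linear_combination (t ^ 2 * z) * h2)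
  have he2 : act (W.up 1 (t + z + 1)) (W.vec (t ^ 2 * z + t * z + z) (t ^ 2 + t * z) (t ^ 2 * z + t ^ 2 + t * z)) = W.vec (t ^ 2 * z + t ^ 2 + t * z + 1) (t ^ 2 * z) (t ^ 2 * z + t ^ 2 + t * z) :=
    act_up1' W hc (by linear_combination (z + 1) * ht + (t ^ 2 + t) * hz + (2 * t ^ 2 * z + t * z + t + z) * h2) (by linear_combination (t ^ 2 + t * z) * h2)
  have he3 : act (W.um (t ^ 2 * z) (t ^ 2 * z + t ^ 2 + t * z)) (W.vec (t ^ 2 * z + t ^ 2 + t * z + 1) (t ^ 2 * z) (t ^ 2 * z + t ^ 2 + t * z)) = W.vec (t ^ 2 * z + t ^ 2 + t * z + 1) (t ^ 2 + t * z + z + 1) (t * z + t) :=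
    act_um' W hd hbq (by linear_combination (t * z ^ 2 + t * z + z ^ 2) * ht + (t ^ 2 + 2 * t + 1) * hz + (2 * t ^ 2 * z + t * z + t) * h2) (by linear_combination (t * z + t + 2 * z ^ 2 + 2 * z) * ht + (t ^ 2 + 2 * t + 2) * hz + (2 * t ^ 2 * z + 2 * t ^ 2 + 3 * t * z + t + 2 * z + 1) * h2)
  have he4 : act (W.up 1 (t + z + 1)) (W.vec (t ^ 2 * z + t ^ 2 + t * z + 1) (t ^ 2 + t * z + z + 1) (t * z + t)) = W.vec (t ^ 2 + t * z + z) (t ^ 2 + t + z + 1) (t * z + t) :=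
    act_up1' W hc (by linear_combination (t) * hz + (t ^ 2 * z + t * z + t - z) * h2) (by linear_combination (t * z) * h2)
  have he5 : act (W.um (t ^ 2 * z) (t ^ 2 * z + t ^ 2 + t * z)) (W.vec (t ^ 2 + t * z + z) (t ^ 2 + t + z + 1) (t * z + t)) = W.vec (t ^ 2 + t * z + z) (0) (0) :=
    act_um' W hd hbq (by linear_combination (t * z + z ^ 2) * ht + (t ^ 2 + t + 1) * hz + (t ^ 2 * z + t ^ 2 + t * z + t + z + 1) * h2) (by linear_combination (z ^ 2 + z - 1) * ht + (t ^ 2 + 2 * t + 1) * hz + (2 * t * z + t + z) * h2)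
  have hw0 : act (W.um (t ^ 2 * z) (t ^ 2 * z + t ^ 2 + t * z)) (W.vec (0) (1) (0)) = W.vec (0) (1) (t ^ 2 * z + t ^ 2) :=
    act_um' W hd hbq (by ring) (by linear_combination (-t ^ 2 * z - t ^ 2) * h2)
  have hw1 : act (W.up 1 (t + z + 1)) (W.vec (0) (1) (t ^ 2 * z + t ^ 2)) = W.vec (t ^ 2 * z + t * z + t + z) (t ^ 2 * z + t ^ 2 + 1) (t ^ 2 * z + t ^ 2) :=
    act_up1' W hc (by linear_combination (z + 1) * ht + (t ^ 2) * hz + (t ^ 2 * z + t ^ 2) * h2) (by ring)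
  have hw2 : act (W.up 1 (t + z + 1)) (W.vec (t ^ 2 * z + t * z + t + z) (t ^ 2 * z + t ^ 2 + 1) (t ^ 2 * z + t ^ 2)) = W.vec (t ^ 2 * z + t ^ 2) (1) (t ^ 2 * z + t ^ 2) :=
    act_up1' W hc (by linear_combination (z + 1) * ht + (t ^ 2) * hz + (t ^ 2 * z + t * z + t + z) * h2) (by linear_combination (t ^ 2 * z + t ^ 2) * h2)
  have hw3 : act (W.um (t ^ 2 * z) (t ^ 2 * z + t ^ 2 + t * z)) (W.vec (t ^ 2 * z + t ^ 2) (1) (t ^ 2 * z + t ^ 2)) = W.vec (t ^ 2 * z + t ^ 2) (t ^ 2 + t + 1) (t ^ 2 * z + t * z + t + 1) :=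
    act_um' W hd hbq (by linear_combination (t * z ^ 2 + t * z) * ht + (t ^ 2 + t) * hz + (t ^ 2 * z + t * z) * h2) (by linear_combination (t * z ^ 2 + 2 * t * z + t + z ^ 2 + z) * ht + (t ^ 2 + 2 * t + 1) * hz + (t ^ 2 * z + t ^ 2 + 2 * t * z + t + z) * h2)
  have hw4 : act (W.up 1 (t + z + 1)) (W.vec (t ^ 2 * z + t ^ 2) (t ^ 2 + t + 1) (t ^ 2 * z + t * z + t + 1)) = W.vec (0) (t ^ 2 * z + t ^ 2 + t * z) (t ^ 2 * z + t * z + t + 1) :=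
    act_up1' W hc (by linear_combination (z) * ht + (t ^ 2 + t) * hz + (2 * t ^ 2 * z + t ^ 2 + 2 * t * z + t + z) * h2) (by linear_combination (t + 1) * h2)
  have hw5 : act (W.um (t ^ 2 * z) (t ^ 2 * z + t ^ 2 + t * z)) (W.vec (0) (t ^ 2 * z + t ^ 2 + t * z) (t ^ 2 * z + t * z + t + 1)) = W.vec (0) (t ^ 2 * z + t ^ 2 + t * z) (0) :=
    act_um' W hd hbq (by ring) (by linear_combination (-t * z ^ 2 - 2 * t * z - t - z ^ 2 - z) * ht + (-t ^ 2 - 2 * t - 1) * hz + (-t ^ 2 * z - t ^ 2 - 2 * t * z - t - z) * h2)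
  have hβe : act (W.um (t ^ 2 * z) (t ^ 2 * z + t ^ 2 + t * z) * W.up 1 (t + z + 1) * W.um (t ^ 2 * z) (t ^ 2 * z + t ^ 2 + t * z) * W.up 1 (t + z + 1) * W.up 1 (t + z + 1) * W.um (t ^ 2 * z) (t ^ 2 * z + t ^ 2 + t * z)) (W.e 0) = ((t ^ 2 + t * z + z) : F) • W.e 0 := by
    rw [act_mul, act_mul, act_mul, act_mul, act_mul, W.e_eq, show W.vec (1 : F) 0 0 = W.vec (1) (0) (0) from rfl, he0, he1, he2, he3, he4, he5, W.smul_vec]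
    congr 1 <;> ring
  have hβw : act (W.um (t ^ 2 * z) (t ^ 2 * z + t ^ 2 + t * z) * W.up 1 (t + z + 1) * W.um (t ^ 2 * z) (t ^ 2 * z + t ^ 2 + t * z) * W.up 1 (t + z + 1) * W.up 1 (t + z + 1) * W.um (t ^ 2 * z) (t ^ 2 * z + t ^ 2 + t * z)) W.w = ((t ^ 2 * z + t ^ 2 + t * z) : F) • W.w + ((0) : F) • W.e 0 := by
    have h1 : ((t ^ 2 * z + t ^ 2 + t * z) : F) • W.w + ((0) : F) • W.e 0 = W.vec (0) (t ^ 2 * z + t ^ 2 + t * z) (0) := by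
      unfold Witt.vec; module
    rw [h1, act_mul, act_mul, act_mul, act_mul, act_mul, W.w_eq, show W.vec (0 : F) 1 0 = W.vec (0) (1) (0) from rfl, hw0, hw1, hw2, hw3, hw4, hw5]
  have hl0 : ((t ^ 2 + t * z + z) : F) ≠ 0 := by
    intro h
    have : (1 : F) = 0 := by
      linear_combination (t * z + t + 1) * h + (-z - 1) * ht + (-t ^ 2 - t) * hz + (-t ^ 2 * z - t ^ 2 - 2 * t * z - t - z) * h2
    exact one_ne_zero this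
  have hμv : (t ^ 2 + t * z + z) ^ 8 * (t ^ 2 * z + t ^ 2 + t * z) = (t * z) := by
    rw [hlq]
    linear_combination (t * z + t + z ^ 2 + 3 * z + 1) * ht + (2 * t ^ 2 + 2 * t + 1) * hz + (3 * t ^ 2 * z + 2 * t ^ 2 + 3 * t * z + 2 * t + 2 * z + 1) * h2
  have hμ8 : (t * z) ^ 8 = (t * z + t) := by
    linear_combination (t ^ 5 * z ^ 8 + t ^ 3 * z ^ 8 + t ^ 2 * z ^ 8 + t * z ^ 8 + 2 * z ^ 8) * ht + (2 * t ^ 2 * z ^ 6 + 2 * t ^ 2 * z ^ 5 + 4 * t ^ 2 * z ^ 4 + 6 * t ^ 2 * z ^ 3 + 10 * t ^ 2 * z ^ 2 + 16 * t ^ 2 * z + 26 * t ^ 2 + 3 * t * z ^ 6 + 3 * t * z ^ 5 + 6 * t * z ^ 4 + 9 * t * z ^ 3 + 15 * t * z ^ 2 + 24 * t * z + 39 * t + 2 * z ^ 6 + 2 * z ^ 5 + 4 * z ^ 4 + 6 * z ^ 3 + 10 * z ^ 2 + 16 * z + 26) * hz + (21 * t ^ 2 * z + 13 * t ^ 2 + 31 * t * z + 19 * t + 21 * z + 13) * h2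
  have hμ4 : (t * z) ^ 4 = (t ^ 2 * z + t * z) := by
    linear_combination (t * z ^ 4) * ht + (t ^ 2 * z ^ 2 + t ^ 2 * z + 2 * t ^ 2 + t * z ^ 2 + t * z + 2 * t) * hz + (t ^ 2 * z + t ^ 2 + t * z + t) * h2
  have hfield : ∀ X : AddSubgroup F, (1 : F) ∈ X →
      (∀ a ∈ X, ((t ^ 2 + t * z + z) ^ 8 * (t ^ 2 * z + t ^ 2 + t * z)) * a ∈ X) → X = ⊤ := by
    intro X h1 hμ
    rcases field_gen_or X h1 hμ with h | ⟨k, m, hk, hm, hcard, hpow⟩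
    · exact h
    · exfalso
      rw [hF] at hcard
      rw [hμv] at hpow
      rcases pow_eq_64 hk hm hcard with ⟨rfl, rfl⟩ | ⟨rfl, rfl⟩ | ⟨rfl, rfl⟩
      · rw [hμ8] at hpow
        have : (1 : F) = 0 := by
          linear_combination (t ^ 2 + 1) * hpow + (-1) * ht + (-t) * h2
        exact one_ne_zero this
      · rw [hμ4] at hpow
        have : (1 : F) = 0 := by
          linear_combination (t ^ 2 * z + t ^ 2 + t * z + t + z + 1) * hpow + (-t * z ^ 2 - t * z - z ^ 2 - z) * ht + (-2 * t ^ 2 - 2 * t - 1) * hz + (-2 * t ^ 2 * z - t ^ 2 - 2 * t * z - t - z) * h2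
        exact one_ne_zero this
      · have hpow' : (t * z) ^ 4 = (t * z) := by
          have : (t * z) ^ 4 = ((t * z) ^ 2) ^ 2 := by ring
          rw [this, hpow, hpow]
        rw [hμ4] at hpow'
        have hpow := hpow'
        have : (1 : F) = 0 := by
          linear_combination (t ^ 2 * z + t ^ 2 + t * z + t + z + 1) * hpow + (-t * z ^ 2 - t * z - z ^ 2 - z) * ht + (-2 * t ^ 2 - 2 * t - 1) * hz + (-2 * t ^ 2 * z - t ^ 2 - 2 * t * z - t - z) * h2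
        exact one_ne_zero this
  have hne : hermForm n F 8 (act (W.um (t ^ 2 * z) (t ^ 2 * z + t ^ 2 + t * z)) (W.e 0)) (W.e 0) ≠ 0 := by
    rw [W.e_eq, W.act_um hd, ← W.e_eq, W.form_vec_e]
    intro h
    have h' : ((t ^ 2 * z + t ^ 2 + t * z) : F) = 0 := by linear_combination h
    have h := h'
    have : (1 : F) = 0 := by
      linear_combination (t ^ 2 * z + t * z + t) * h + (-t * z ^ 2 - t * z - 2 * z ^ 2 - 2 * z - 1) * ht + (-2 * t ^ 2 - 3 * t - 2) * hz + (-2 * t ^ 2 * z - t ^ 2 - 3 * t * z - 2 * t - 2 * z - 1) * h2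
    exact one_ne_zero this
  exact gen_borel W (by norm_num) hc H hu hβ hl0 hβe hβw hfield hv hne

end Cfsg.Agent.Lib.Helper1.Rt
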