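import Mathlib
import Cfsg.Prelude
import Cfsg.Agent.Lib.Helper1.Rt5

set_option autoImplicit false
set_option maxHeartbeats 4000000
set_option linter.unusedVariables false
set_option linter.unusedSectionVars false
set_option linter.style.longLine false

/-! Two conjugate regular unipotent elements of `SU_3(q)`, part 6: the theorem. -/

namespace Cfsg.Agent.Lib.Helper1.Rt

open Matrix Cfsg

variable {F : Type*} [Field F] [Fintype F] {q n : ℕ}

/-- **`SU_3(q)`, `q ≥ 3`, is generated by two conjugate regular unipotent elements.** -/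
theorem main2 (hF : Fintype.card F = q ^ 2) (hq : 3 ≤ q) (hn : n = 3) :
    ∃ u g : ↥(Cfsg.SU n F q),
      (IsNilpotent (u.1.1 - 1) ∧ (u.1.1 - 1) ^ (n - 1) ≠ 0) ∧
      Subgroup.closure ({u, g * u * g⁻¹} : Set ↥(Cfsg.SU n F q)) = ⊤ := by
  by_cases h5 : q = 5
  · subst h5
    exact main2_q5 hF hn
  · by_cases h8 : q = 8
    · subst h8
      exact main2_q8 hF hn
    · exact main2_generic hF hn hq h5 h8

end Cfsg.Agent.Lib.Helper1.Rt
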