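import Mathlib
import Cfsg.Prelude
import Cfsg.Agent.Lib.Helper4.SLnGen

set_option autoImplicit false
set_option maxHeartbeats 4000000
set_option linter.unusedVariables false
set_option linter.unusedSectionVars false
set_option linter.style.longLine false
set_option linter.unusedSimpArgs false
set_option linter.deprecated false

/-! Two conjugate regular unipotent elements of `SL_3(F)`, part 1: matrices, the unipotent radical
of the Borel subgroup, and the generation criterion. -/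

namespace Cfsg.Agent.Lib.Helper1.Ru

open Matrix

variable {F : Type*} [Field F]

/-- a `3 × 3` matrix from its entries -/
def M3 (a b c d e f g h i : F) : Matrix (Fin 3) (Fin 3) F := !![a, b, c; d, e, f; g, h, i]

theorem M3_mul (a b c d e f g h i a' b' c' d' e' f' g' h' i' : F) :
    M3 a b c d e f g h i * M3 a' b' c' d' e' f' g' h' i' =
      M3 (a * a' + b * d' + c * g') (a * b' + b * e' + c * h') (a * c' + b * f' + c * i')
        (d * a' + e * d' + f * g') (d * b' + e * e' + f * h') (d * c' + e * f' + f * i')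
        (g * a' + h * d' + i * g') (g * b' + h * e' + i * h') (g * c' + h * f' + i * i') := by
  ext i j
  fin_cases i <;> fin_cases j <;> simp [M3, Matrix.mul_apply, Fin.sum_univ_three]

theorem M3_det (a b c d e f g h i : F) :
    (M3 a b c d e f g h i).det = a * e * i - a * f * h - b * d * i + b * f * g + c * d * h - c * e * g := by
  simp [M3, Matrix.det_fin_three]

theorem M3_ext {a b c d e f g h i a' b' c' d' e' f' g' h' i' : F} (h1 : a = a') (h2 : b = b')
    (h3 : c = c') (h4 : d = d') (h5 : e = e') (h6 : f = f') (h7 : g = g') (h8 : h = h')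
    (h9 : i = i') : M3 a b c d e f g h i = M3 a' b' c' d' e' f' g' h' i' := by
  subst h1 h2 h3 h4 h5 h6 h7 h8 h9; rfl

theorem M3_eta (A : Matrix (Fin 3) (Fin 3) F) :
    A = M3 (A 0 0) (A 0 1) (A 0 2) (A 1 0) (A 1 1) (A 1 2) (A 2 0) (A 2 1) (A 2 2) := by
  ext i j
  fin_cases i <;> fin_cases j <;> rfl

theorem M3_one : (1 : Matrix (Fin 3) (Fin 3) F) = M3 1 0 0 0 1 0 0 0 1 := by
  ext i j
  fin_cases i <;> fin_cases j <;> simp [M3]

/-- an element of `SL_3` from its entries -/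
def S3 (a b c d e f g h i : F)
    (hdet : a * e * i - a * f * h - b * d * i + b * f * g + c * d * h - c * e * g = 1) :
    SpecialLinearGroup (Fin 3) F :=
  ⟨M3 a b c d e f g h i, by rw [M3_det]; exact hdet⟩

@[simp] theorem S3_coe (a b c d e f g h i : F) (hdet) :
    (S3 a b c d e f g h i hdet).1 = M3 a b c d e f g h i := rfl

theorem sl_ext {A B : SpecialLinearGroup (Fin 3) F}
    (h : (A : Matrix (Fin 3) (Fin 3) F) = (B : Matrix (Fin 3) (Fin 3) F)) : A = B := Subtype.ext h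

/-- upper unitriangular matrices -/
def nU (x y z : F) : SpecialLinearGroup (Fin 3) F := S3 1 x z 0 1 y 0 0 1 (by ring)

/-- lower unitriangular matrices -/
def nL (a b c : F) : SpecialLinearGroup (Fin 3) F := S3 1 0 0 a 1 0 c b 1 (by ring)

theorem nU_coe (x y z : F) : (nU x y z).1 = M3 1 x z 0 1 y 0 0 1 := rfl
theorem nL_coe (a b c : F) : (nL a b c).1 = M3 1 0 0 a 1 0 c b 1 := rfl

theorem nU_zero : nU (0 : F) 0 0 = 1 := by
  apply sl_ext
  rw [nU_coe]; exact M3_one.symm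

theorem nL_zero : nL (0 : F) 0 0 = 1 := by
  apply sl_ext
  rw [nL_coe]; exact M3_one.symm

theorem nU_mul (x y z x' y' z' : F) :
    nU x y z * nU x' y' z' = nU (x + x') (y + y') (z + z' + x * y') := by
  apply sl_ext
  rw [Matrix.SpecialLinearGroup.coe_mul, nU_coe, nU_coe, nU_coe, M3_mul]
  apply M3_ext <;> ring

theorem nL_mul (a b c a' b' c' : F) :
    nL a b c * nL a' b' c' = nL (a + a') (b + b') (c + c' + b * a') := by
  apply sl_ext
  rw [Matrix.SpecialLinearGroup.coe_mul, nL_coe, nL_coe, nL_coe, M3_mul]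
  apply M3_ext <;> ring

theorem nU_inv (x y z : F) : (nU x y z)⁻¹ = nU (-x) (-y) (x * y - z) := by
  apply inv_eq_of_mul_eq_one_right
  rw [nU_mul, ← nU_zero]
  congr 1 <;> ring

theorem nL_inv (a b c : F) : (nL a b c)⁻¹ = nL (-a) (-b) (a * b - c) := by
  apply inv_eq_of_mul_eq_one_right
  rw [nL_mul, ← nL_zero]
  congr 1 <;> ring

/-- the pairs `(x, y)` such that some `nU x y z` lies in `M` -/
def Aset (M : Subgroup (SpecialLinearGroup (Fin 3) F)) : AddSubgroup (F × F) where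
  carrier := {p | ∃ z, nU p.1 p.2 z ∈ M}
  zero_mem' := ⟨0, by show nU (0 : F) 0 0 ∈ M; rw [nU_zero]; exact M.one_mem⟩
  add_mem' := by
    rintro ⟨x, y⟩ ⟨x', y'⟩ ⟨z, hz⟩ ⟨z', hz'⟩
    exact ⟨z + z' + x * y', by
      show nU (x + x') (y + y') (z + z' + x * y') ∈ M
      rw [← nU_mul]; exact M.mul_mem hz hz'⟩
  neg_mem' := by
    rintro ⟨x, y⟩ ⟨z, hz⟩
    exact ⟨x * y - z, by
      show nU (-x) (-y) (x * y - z) ∈ M
      rw [← nU_inv]; exact M.inv_mem hz⟩

theorem mem_Aset (M : Subgroup (SpecialLinearGroup (Fin 3) F)) (x y : F) :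
    (x, y) ∈ Aset M ↔ ∃ z, nU x y z ∈ M := Iff.rfl

/-- upper triangular matrices -/
def bT (d₁ d₂ d₃ p s r : F) (h : d₁ * d₂ * d₃ = 1) : SpecialLinearGroup (Fin 3) F :=
  S3 d₁ p r 0 d₂ s 0 0 d₃ (by linear_combination h)

theorem bT_coe (d₁ d₂ d₃ p s r : F) (h : d₁ * d₂ * d₃ = 1) :
    (bT d₁ d₂ d₃ p s r h).1 = M3 d₁ p r 0 d₂ s 0 0 d₃ := rfl

/-- the action of the torus on `Aset` -/
theorem Aset_torus (M : Subgroup (SpecialLinearGroup (Fin 3) F)) {d₁ d₂ d₃ p s r : F}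
    (h : d₁ * d₂ * d₃ = 1) (hb : bT d₁ d₂ d₃ p s r h ∈ M) {x y : F} (hxy : (x, y) ∈ Aset M) :
    (d₁ / d₂ * x, d₂ / d₃ * y) ∈ Aset M := by
  obtain ⟨z, hz⟩ := hxy
  have h2 : d₂ ≠ 0 := by
    rintro rfl
    rw [mul_zero, zero_mul] at h
    exact zero_ne_one h
  have h3 : d₃ ≠ 0 := by
    rintro rfl
    rw [mul_zero] at h
    exact zero_ne_one h
  refine ⟨(d₁ * z + p * y - (d₁ / d₂ * x) * s) / d₃, ?_⟩
  have hconj : bT d₁ d₂ d₃ p s r h * nU x y z
      = nU (d₁ / d₂ * x) (d₂ / d₃ * y) ((d₁ * z + p * y - (d₁ / d₂ * x) * s) / d₃)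
        * bT d₁ d₂ d₃ p s r h := by
    apply sl_ext
    rw [Matrix.SpecialLinearGroup.coe_mul, Matrix.SpecialLinearGroup.coe_mul, bT_coe, nU_coe, nU_coe, M3_mul,
      M3_mul]
    apply M3_ext <;> field_simp <;> ring
  have : nU (d₁ / d₂ * x) (d₂ / d₃ * y) ((d₁ * z + p * y - (d₁ / d₂ * x) * s) / d₃)
      = bT d₁ d₂ d₃ p s r h * nU x y z * (bT d₁ d₂ d₃ p s r h)⁻¹ := by
    rw [hconj]; group
  show nU (d₁ / d₂ * x) (d₂ / d₃ * y) ((d₁ * z + p * y - (d₁ / d₂ * x) * s) / d₃) ∈ M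
  rw [this]
  exact M.mul_mem (M.mul_mem hb hz) (M.inv_mem hb)

/-- if every pair occurs, the whole upper unitriangular group lies in `M` -/
theorem nU_mem_of_Aset_top (M : Subgroup (SpecialLinearGroup (Fin 3) F)) (hA : Aset M = ⊤)
    (x y z : F) : nU x y z ∈ M := by
  have hall : ∀ x y : F, ∃ z, nU x y z ∈ M := by
    intro x y
    have : (x, y) ∈ Aset M := by rw [hA]; exact AddSubgroup.mem_top _
    exact this
  have hcen : ∀ t : F, nU 0 0 t ∈ M := by
    intro t
    obtain ⟨z₁, h₁⟩ := hall t 0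
    obtain ⟨z₂, h₂⟩ := hall 0 1
    have : nU 0 0 t = nU t 0 z₁ * nU 0 1 z₂ * (nU t 0 z₁)⁻¹ * (nU 0 1 z₂)⁻¹ := by
      rw [nU_inv, nU_inv, nU_mul, nU_mul, nU_mul]
      congr 1 <;> ring
    rw [this]
    exact M.mul_mem (M.mul_mem (M.mul_mem h₁ h₂) (M.inv_mem h₁)) (M.inv_mem h₂)
  obtain ⟨z₀, h₀⟩ := hall x y
  have : nU x y z = nU x y z₀ * nU 0 0 (z - z₀) := by
    rw [nU_mul]; congr 1 <;> ring
  rw [this]
  exact M.mul_mem h₀ (hcen _)

/-- the lower unitriangular group from two families -/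
theorem nL_mem_of_families (M : Subgroup (SpecialLinearGroup (Fin 3) F))
    (h1 : ∀ a : F, ∃ c, nL a 0 c ∈ M) (h2 : ∀ b : F, ∃ c, nL 0 b c ∈ M) (a b c : F) :
    nL a b c ∈ M := by
  have hcen : ∀ t : F, nL 0 0 t ∈ M := by
    intro t
    obtain ⟨z₁, h₁⟩ := h1 (-t)
    obtain ⟨z₂, h₂⟩ := h2 1
    have : nL 0 0 t = nL (-t) 0 z₁ * nL 0 1 z₂ * (nL (-t) 0 z₁)⁻¹ * (nL 0 1 z₂)⁻¹ := by
      rw [nL_inv, nL_inv, nL_mul, nL_mul, nL_mul]
      congr 1 <;> ring
    rw [this]
    exact M.mul_mem (M.mul_mem (M.mul_mem h₁ h₂) (M.inv_mem h₁)) (M.inv_mem h₂)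
  obtain ⟨z₁, h₁⟩ := h1 a
  obtain ⟨z₂, h₂⟩ := h2 b
  have : nL a b c = nL a 0 z₁ * nL 0 b z₂ * nL 0 0 (c - z₁ - z₂) := by
    rw [nL_mul, nL_mul]; congr 1 <;> ring
  rw [this]
  exact M.mul_mem (M.mul_mem h₁ h₂) (hcen _)

/-- a subgroup containing all `nU` and all `nL` is everything -/
theorem top_of_nU_nL (M : Subgroup (SpecialLinearGroup (Fin 3) F))
    (hU : ∀ x y z : F, nU x y z ∈ M) (hL : ∀ a b c : F, nL a b c ∈ M) : M = ⊤ := by
  rw [eq_top_iff]
  intro A _
  refine Cfsg.Agent.Lib.Helper4.transvection_induction_gen (fun A => A ∈ M) ?_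
    (fun A B hA hB => M.mul_mem hA hB) A
  intro i j hij c
  have key : ∀ (g : SpecialLinearGroup (Fin 3) F), g ∈ M →
      (SpecialLinearGroup.transvection hij c).1 = g.1 → SpecialLinearGroup.transvection hij c ∈ M := by
    intro g hg h
    have : SpecialLinearGroup.transvection hij c = g := Subtype.ext h
    rw [this]; exact hg
  fin_cases i <;> fin_cases j
  · exact absurd rfl hij
  · refine key _ (hU c 0 0) ?_
    rw [SpecialLinearGroup.transvection_coe, nU_coe]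
    ext i j; fin_cases i <;> fin_cases j <;> simp [M3, Matrix.single_apply]
  · refine key _ (hU 0 0 c) ?_
    rw [SpecialLinearGroup.transvection_coe, nU_coe]
    ext i j; fin_cases i <;> fin_cases j <;> simp [M3, Matrix.single_apply]
  · refine key _ (hL c 0 0) ?_
    rw [SpecialLinearGroup.transvection_coe, nL_coe]
    ext i j; fin_cases i <;> fin_cases j <;> simp [M3, Matrix.single_apply]
  · exact absurd rfl hij
  · refine key _ (hU 0 c 0) ?_
    rw [SpecialLinearGroup.transvection_coe, nU_coe]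
    ext i j; fin_cases i <;> fin_cases j <;> simp [M3, Matrix.single_apply]
  · refine key _ (hL 0 0 c) ?_
    rw [SpecialLinearGroup.transvection_coe, nL_coe]
    ext i j; fin_cases i <;> fin_cases j <;> simp [M3, Matrix.single_apply]
  · refine key _ (hL 0 c 0) ?_
    rw [SpecialLinearGroup.transvection_coe, nL_coe]
    ext i j; fin_cases i <;> fin_cases j <;> simp [M3, Matrix.single_apply]
  · exact absurd rfl hij

/-- **generation criterion**: a subgroup containing the upper unitriangular group and an element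
in the big Bruhat cell is everything. -/
theorem top_of_nU_bruhat (M : Subgroup (SpecialLinearGroup (Fin 3) F))
    (hU : ∀ x y z : F, nU x y z ∈ M) {v : SpecialLinearGroup (Fin 3) F} (hv : v ∈ M)
    (h20 : v.1 2 0 ≠ 0) (hmin : v.1 1 0 * v.1 2 1 - v.1 1 1 * v.1 2 0 ≠ 0) : M = ⊤ := by
  -- names for the entries
  obtain ⟨v00, e00⟩ : ∃ t, v.1 0 0 = t := ⟨_, rfl⟩
  obtain ⟨v01, e01⟩ : ∃ t, v.1 0 1 = t := ⟨_, rfl⟩
  obtain ⟨v02, e02⟩ : ∃ t, v.1 0 2 = t := ⟨_, rfl⟩
  obtain ⟨v10, e10⟩ : ∃ t, v.1 1 0 = t := ⟨_, rfl⟩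
  obtain ⟨v11, e11⟩ : ∃ t, v.1 1 1 = t := ⟨_, rfl⟩
  obtain ⟨v12, e12⟩ : ∃ t, v.1 1 2 = t := ⟨_, rfl⟩
  obtain ⟨v20, e20⟩ : ∃ t, v.1 2 0 = t := ⟨_, rfl⟩
  obtain ⟨v21, e21⟩ : ∃ t, v.1 2 1 = t := ⟨_, rfl⟩
  obtain ⟨v22, e22⟩ : ∃ t, v.1 2 2 = t := ⟨_, rfl⟩
  have hvM : v.1 = M3 v00 v01 v02 v10 v11 v12 v20 v21 v22 := by
    rw [M3_eta v.1, e00, e01, e02, e10, e11, e12, e20, e21, e22]
  rw [e20] at h20
  rw [e10, e21, e11, e20] at hmin
  have hdet : v00 * v11 * v22 - v00 * v12 * v21 - v01 * v10 * v22 + v01 * v12 * v20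
      + v02 * v10 * v21 - v02 * v11 * v20 = 1 := by
    have := v.2
    rw [hvM, M3_det] at this
    exact this
  obtain ⟨Δ, hΔ⟩ : ∃ t : F, t = v10 * v21 - v11 * v20 := ⟨_, rfl⟩
  rw [← hΔ] at hmin
  -- the row operations
  obtain ⟨x₁, hx₁⟩ : ∃ t : F, t = (v01 * v20 - v00 * v21) / Δ := ⟨_, rfl⟩
  obtain ⟨y₁, hy₁⟩ : ∃ t : F, t = -v10 / v20 := ⟨_, rfl⟩
  obtain ⟨t₁, ht₁⟩ : ∃ t : F, t = (v11 * v00 - v10 * v01) / Δ := ⟨_, rfl⟩
  have hx₁' : x₁ * Δ = v01 * v20 - v00 * v21 := by rw [hx₁]; field_simp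
  have hy₁' : y₁ * v20 = -v10 := by rw [hy₁]; field_simp
  have ht₁' : t₁ * Δ = v11 * v00 - v10 * v01 := by rw [ht₁]; field_simp
  obtain ⟨w02, hw02⟩ : ∃ t : F, t = v02 + x₁ * v12 + t₁ * v22 := ⟨_, rfl⟩
  obtain ⟨w11, hw11⟩ : ∃ t : F, t = -Δ / v20 := ⟨_, rfl⟩
  obtain ⟨w12, hw12⟩ : ∃ t : F, t = v12 + y₁ * v22 := ⟨_, rfl⟩
  have hw11'' : w11 * v20 = -Δ := by rw [hw11]; field_simp
  have hw11' : w11 ≠ 0 := by rw [hw11]; exact div_ne_zero (neg_ne_zero.mpr hmin) h20
  have hΔw : Δ * w02 = 1 := by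
    rw [hw02]
    linear_combination v12 * hx₁' + v22 * ht₁' + v02 * hΔ + hdet
  have hwdet : w02 * w11 * v20 = -1 := by
    linear_combination w02 * hw11'' - hΔw
  have hw02' : w02 ≠ 0 := by
    rintro h
    rw [h, zero_mul, zero_mul] at hwdet
    have : (1 : F) = 0 := by linear_combination hwdet
    exact one_ne_zero this
  obtain ⟨w, hw⟩ : ∃ w : SpecialLinearGroup (Fin 3) F, w =
      S3 0 0 w02 0 w11 w12 v20 v21 v22 (by linear_combination (-1 : F) * hwdet) := ⟨_, rfl⟩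
  have hwM : w ∈ M := by
    have : w = nU x₁ y₁ t₁ * v := by
      apply sl_ext
      rw [Matrix.SpecialLinearGroup.coe_mul, nU_coe, hvM, M3_mul, hw, S3_coe]
      have hΔ0 : x₁ * v10 + t₁ * v20 = -v00 := by
        have : (x₁ * v10 + t₁ * v20 + v00) * Δ = 0 := by
          linear_combination v10 * hx₁' + v20 * ht₁' + v00 * hΔ
        rcases mul_eq_zero.mp this with h | h
        · linear_combination h
        · exact absurd h hmin
      have hΔ1 : x₁ * v11 + t₁ * v21 = -v01 := by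
        have : (x₁ * v11 + t₁ * v21 + v01) * Δ = 0 := by
          linear_combination v11 * hx₁' + v21 * ht₁' + v01 * hΔ
        rcases mul_eq_zero.mp this with h | h
        · linear_combination h
        · exact absurd h hmin
      have hy11 : v11 + y₁ * v21 = w11 := by
        have : (v11 + y₁ * v21 - w11) * v20 = 0 := by
          linear_combination v21 * hy₁' - hw11'' + hΔ
        rcases mul_eq_zero.mp this with h | h
        · linear_combination h
        · exact absurd h h20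
      apply M3_ext
      · linear_combination -hΔ0
      · linear_combination -hΔ1
      · rw [hw02]; ring
      · linear_combination -hy₁'
      · linear_combination -hy11
      · rw [hw12]; ring
      · ring
      · ring
      · ring
    rw [this]
    exact M.mul_mem (hU _ _ _) hv
  -- the two families
  have hfam2 : ∀ b : F, ∃ c, nL 0 b c ∈ M := by
    intro b
    refine ⟨-(b * w12 / w02), ?_⟩
    have hconj : w * nU (b * w11 / v20) 0 0 = nL 0 b (-(b * w12 / w02)) * w := by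
      apply sl_ext
      rw [Matrix.SpecialLinearGroup.coe_mul, Matrix.SpecialLinearGroup.coe_mul, hw, S3_coe, nU_coe, nL_coe,
        M3_mul, M3_mul]
      apply M3_ext <;> field_simp <;> ring
    have : nL 0 b (-(b * w12 / w02)) = w * nU (b * w11 / v20) 0 0 * w⁻¹ := by
      rw [hconj]; group
    rw [this]
    exact M.mul_mem (M.mul_mem hwM (hU _ _ _)) (M.inv_mem hwM)
  have hfam1 : ∀ a : F, ∃ c, nL a 0 c ∈ M := by
    intro a
    refine ⟨a * v21 / w11, ?_⟩
    have hconj : w * nU 0 (a * w02 / w11) 0 = nL a 0 (a * v21 / w11) * w := by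
      apply sl_ext
      rw [Matrix.SpecialLinearGroup.coe_mul, Matrix.SpecialLinearGroup.coe_mul, hw, S3_coe, nU_coe, nL_coe,
        M3_mul, M3_mul]
      apply M3_ext <;> field_simp <;> ring
    have : nL a 0 (a * v21 / w11) = w * nU 0 (a * w02 / w11) 0 * w⁻¹ := by
      rw [hconj]; group
    rw [this]
    exact M.mul_mem (M.mul_mem hwM (hU _ _ _)) (M.inv_mem hwM)
  exact top_of_nU_nL M hU (nL_mem_of_families M hfam1 hfam2)

end Cfsg.Agent.Lib.Helper1.Ru
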