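import Mathlib
import Cfsg.Prelude
import Cfsg.Agent.Lib.Helper1.Rt1
import Cfsg.Agent.Lib.Helper1.Ru1

set_option autoImplicit false
set_option maxHeartbeats 4000000
set_option linter.unusedVariables false
set_option linter.unusedSectionVars false
set_option linter.style.longLine false
set_option linter.unusedSimpArgs false
set_option linter.deprecated false

/-! Two conjugate regular unipotent elements of `SL_3(F)`, part 2: additive subgroups of `F × F`
stable under a torus element, and endomorphisms of finite fields. -/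

namespace Cfsg.Agent.Lib.Helper1.Ru

variable {F : Type*} [Field F] [Fintype F]

/-- field generation from `field_gen_or` -/
theorem fg_of {χ : F} (h : ∀ k m : ℕ, 2 ≤ k → 2 ≤ m → Fintype.card F = k ^ m → χ ^ k ≠ χ)
    (X : AddSubgroup F) (h1 : (1 : F) ∈ X) (hχ : ∀ x ∈ X, χ * x ∈ X) : X = ⊤ := by
  rcases Cfsg.Agent.Lib.Helper1.Rt.field_gen_or X h1 hχ with h' | ⟨k, m, hk, hm, hc, hp⟩
  · exact h'
  · exact absurd hp (h k m hk hm hc)

/-- the key lemma on additive subgroups of `F × F` -/
theorem addsub_top (A : AddSubgroup (F × F)) {χ₁ χ₂ : F}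
    (h11 : ((1 : F), (1 : F)) ∈ A) (hcl : ∀ x y : F, (x, y) ∈ A → (χ₁ * x, χ₂ * y) ∈ A)
    (fg1 : ∀ X : AddSubgroup F, (1 : F) ∈ X → (∀ x ∈ X, χ₁ * x ∈ X) → X = ⊤)
    (fg2 : ∀ X : AddSubgroup F, (1 : F) ∈ X → (∀ x ∈ X, χ₂ * x ∈ X) → X = ⊤)
    (hno : ∀ σ : F →+* F, σ χ₁ ≠ χ₂) : A = ⊤ := by
  classical
  -- the two axes
  have axis1 : (∃ x₁ : F, x₁ ≠ 0 ∧ (x₁, (0 : F)) ∈ A) → ∀ s : F, (s, (0 : F)) ∈ A := by
    rintro ⟨x₁, hx₁, hx₁A⟩
    let X : AddSubgroup F :=
      { carrier := {t | (t * x₁, (0 : F)) ∈ A}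
        zero_mem' := by
          show ((0 : F) * x₁, (0 : F)) ∈ A
          rw [zero_mul]; exact A.zero_mem
        add_mem' := by
          intro t t' ht ht'
          show ((t + t') * x₁, (0 : F)) ∈ A
          have : ((t + t') * x₁, (0 : F)) = (t * x₁, (0 : F)) + (t' * x₁, (0 : F)) := by
            rw [Prod.mk_add_mk, add_mul, add_zero]
          rw [this]; exact A.add_mem ht ht'
        neg_mem' := by
          intro t ht
          show ((-t) * x₁, (0 : F)) ∈ A
          have : ((-t) * x₁, (0 : F)) = -(t * x₁, (0 : F)) := by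
            rw [Prod.neg_mk, neg_mul, neg_zero]
          rw [this]; exact A.neg_mem ht }
    have hX : X = ⊤ := by
      apply fg1 X
      · show ((1 : F) * x₁, (0 : F)) ∈ A
        rw [one_mul]; exact hx₁A
      · intro t ht
        show ((χ₁ * t) * x₁, (0 : F)) ∈ A
        have := hcl _ _ ht
        rw [mul_zero, ← mul_assoc] at this
        exact this
    intro s
    have : s / x₁ ∈ X := by rw [hX]; exact AddSubgroup.mem_top _
    have h' : ((s / x₁) * x₁, (0 : F)) ∈ A := this
    rwa [div_mul_cancel₀ _ hx₁] at h'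
  have axis2 : (∃ y₁ : F, y₁ ≠ 0 ∧ ((0 : F), y₁) ∈ A) → ∀ s : F, ((0 : F), s) ∈ A := by
    rintro ⟨x₁, hx₁, hx₁A⟩
    let X : AddSubgroup F :=
      { carrier := {t | ((0 : F), t * x₁) ∈ A}
        zero_mem' := by
          show ((0 : F), (0 : F) * x₁) ∈ A
          rw [zero_mul]; exact A.zero_mem
        add_mem' := by
          intro t t' ht ht'
          show ((0 : F), (t + t') * x₁) ∈ A
          have : ((0 : F), (t + t') * x₁) = ((0 : F), t * x₁) + ((0 : F), t' * x₁) := by
            rw [Prod.mk_add_mk, add_mul, add_zero]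
          rw [this]; exact A.add_mem ht ht'
        neg_mem' := by
          intro t ht
          show ((0 : F), (-t) * x₁) ∈ A
          have : ((0 : F), (-t) * x₁) = -((0 : F), t * x₁) := by
            rw [Prod.neg_mk, neg_mul, neg_zero]
          rw [this]; exact A.neg_mem ht }
    have hX : X = ⊤ := by
      apply fg2 X
      · show ((0 : F), (1 : F) * x₁) ∈ A
        rw [one_mul]; exact hx₁A
      · intro t ht
        show ((0 : F), (χ₂ * t) * x₁) ∈ A
        have := hcl _ _ ht
        rw [mul_zero, ← mul_assoc] at this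
        exact this
    intro s
    have : s / x₁ ∈ X := by rw [hX]; exact AddSubgroup.mem_top _
    have h' : ((0 : F), (s / x₁) * x₁) ∈ A := this
    rwa [div_mul_cancel₀ _ hx₁] at h'
  have fin : (∀ s : F, (s, (0 : F)) ∈ A) → (∀ s : F, ((0 : F), s) ∈ A) → A = ⊤ := by
    intro h1 h2
    rw [eq_top_iff]
    rintro ⟨x, y⟩ _
    have : (x, y) = (x, (0 : F)) + ((0 : F), y) := by
      rw [Prod.mk_add_mk, add_zero, zero_add]
    rw [this]; exact A.add_mem (h1 x) (h2 y)
  by_cases c1 : ∃ x₁ : F, x₁ ≠ 0 ∧ (x₁, (0 : F)) ∈ A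
  · have h1 := axis1 c1
    apply fin h1
    apply axis2
    refine ⟨1, one_ne_zero, ?_⟩
    have : ((0 : F), (1 : F)) = ((1 : F), (1 : F)) - ((1 : F), (0 : F)) := by
      rw [Prod.mk_sub_mk, sub_self, sub_zero]
    rw [this]; exact A.sub_mem h11 (h1 1)
  by_cases c2 : ∃ y₁ : F, y₁ ≠ 0 ∧ ((0 : F), y₁) ∈ A
  · have h2 := axis2 c2
    refine fin ?_ h2
    apply axis1
    refine ⟨1, one_ne_zero, ?_⟩
    have : ((1 : F), (0 : F)) = ((1 : F), (1 : F)) - ((0 : F), (1 : F)) := by
      rw [Prod.mk_sub_mk, sub_self, sub_zero]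
    rw [this]; exact A.sub_mem h11 (h2 1)
  exfalso
  push_neg at c1 c2
  have c1' : ∀ x : F, (x, (0 : F)) ∈ A → x = 0 := by
    intro x hx; by_contra h; exact c1 x h hx
  have c2' : ∀ y : F, ((0 : F), y) ∈ A → y = 0 := by
    intro y hy; by_contra h; exact c2 y h hy
  -- the projection is onto
  let P : AddSubgroup F :=
    { carrier := {x | ∃ y, (x, y) ∈ A}
      zero_mem' := ⟨0, A.zero_mem⟩
      add_mem' := by
        rintro x x' ⟨y, hy⟩ ⟨y', hy'⟩
        exact ⟨y + y', by
          have : (x + x', y + y') = (x, y) + (x', y') := rfl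
          rw [this]; exact A.add_mem hy hy'⟩
      neg_mem' := by
        rintro x ⟨y, hy⟩
        exact ⟨-y, by
          have : (-x, -y) = -(x, y) := rfl
          rw [this]; exact A.neg_mem hy⟩ }
  have hP : P = ⊤ := by
    apply fg1 P
    · exact ⟨1, h11⟩
    · rintro x ⟨y, hy⟩
      exact ⟨χ₂ * y, hcl _ _ hy⟩
  have hex : ∀ x : F, ∃ y, (x, y) ∈ A := by
    intro x
    have : x ∈ P := by rw [hP]; exact AddSubgroup.mem_top _
    exact this
  choose φ hφ using hex
  have huniq : ∀ x y : F, (x, y) ∈ A → y = φ x := by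
    intro x y hy
    have : ((0 : F), y - φ x) ∈ A := by
      have e : ((0 : F), y - φ x) = (x, y) - (x, φ x) := by
        rw [Prod.mk_sub_mk, sub_self]
      rw [e]; exact A.sub_mem hy (hφ x)
    have := c2' _ this
    exact sub_eq_zero.mp this
  have φ_add : ∀ x x' : F, φ (x + x') = φ x + φ x' := by
    intro x x'
    refine (huniq _ _ ?_).symm
    have : (x + x', φ x + φ x') = (x, φ x) + (x', φ x') := rfl
    rw [this]; exact A.add_mem (hφ x) (hφ x')
  have φ_zero : φ 0 = 0 := (huniq _ _ A.zero_mem).symm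
  have φ_neg : ∀ x : F, φ (-x) = -φ x := by
    intro x
    refine (huniq _ _ ?_).symm
    have : (-x, -φ x) = -(x, φ x) := rfl
    rw [this]; exact A.neg_mem (hφ x)
  have φ_one : φ 1 = 1 := (huniq _ _ h11).symm
  have φ_χ : ∀ x : F, φ (χ₁ * x) = χ₂ * φ x := by
    intro x
    exact (huniq _ _ (hcl _ _ (hφ x))).symm
  let R : AddSubgroup F :=
    { carrier := {a | ∀ x, φ (a * x) = φ a * φ x}
      zero_mem' := by
        intro x
        show φ (0 * x) = φ 0 * φ x
        rw [zero_mul, φ_zero, zero_mul]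
      add_mem' := by
        intro a a' ha ha' x
        show φ ((a + a') * x) = φ (a + a') * φ x
        rw [add_mul, φ_add, φ_add, ha x, ha' x, add_mul]
      neg_mem' := by
        intro a ha x
        show φ ((-a) * x) = φ (-a) * φ x
        rw [neg_mul, φ_neg, φ_neg, ha x, neg_mul] }
  have hR : R = ⊤ := by
    apply fg1 R
    · intro x
      show φ (1 * x) = φ 1 * φ x
      rw [one_mul, φ_one, one_mul]
    · intro a ha x
      show φ (χ₁ * a * x) = φ (χ₁ * a) * φ x
      rw [mul_assoc, φ_χ, φ_χ, ha x, mul_assoc]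
  have φ_mul : ∀ a x : F, φ (a * x) = φ a * φ x := by
    intro a
    have : a ∈ R := by rw [hR]; exact AddSubgroup.mem_top _
    exact this
  let σ : F →+* F :=
    { toFun := φ
      map_one' := φ_one
      map_mul' := φ_mul
      map_zero' := φ_zero
      map_add' := φ_add }
  apply hno σ
  show φ χ₁ = χ₂
  have := φ_χ 1
  rwa [mul_one, φ_one, mul_one] at this

/-- the version over a prime field -/
theorem addsub_top_prime (A : AddSubgroup (F × F)) (hp : (Fintype.card F).Prime)
    (h11 : ((1 : F), (1 : F)) ∈ A) {s t : F} (hst : (s, t) ∈ A) (hne : s ≠ t) : A = ⊤ := by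
  classical
  have hall : ∀ X : AddSubgroup F, (1 : F) ∈ X → X = ⊤ := by
    intro X h1
    apply fg_of (χ := (1 : F)) _ X h1
    · intro x hx; rwa [one_mul]
    · intro k m hk hm hc
      exfalso
      rw [hc] at hp
      exact Nat.Prime.not_prime_pow hm hp
  have hmulA : ∀ (a : F) (x y : F), (x, y) ∈ A → (a * x, a * y) ∈ A := by
    intro a x y hxy
    let X : AddSubgroup F :=
      { carrier := {a | (a * x, a * y) ∈ A}
        zero_mem' := by
          show ((0 : F) * x, (0 : F) * y) ∈ A
          rw [zero_mul, zero_mul]; exact A.zero_mem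
        add_mem' := by
          intro a a' ha ha'
          show ((a + a') * x, (a + a') * y) ∈ A
          have : ((a + a') * x, (a + a') * y) = (a * x, a * y) + (a' * x, a' * y) := by
            rw [Prod.mk_add_mk, add_mul, add_mul]
          rw [this]; exact A.add_mem ha ha'
        neg_mem' := by
          intro a ha
          show ((-a) * x, (-a) * y) ∈ A
          have : ((-a) * x, (-a) * y) = -(a * x, a * y) := by
            rw [Prod.neg_mk, neg_mul, neg_mul]
          rw [this]; exact A.neg_mem ha }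
    have hX : X = ⊤ := by
      apply hall
      show ((1 : F) * x, (1 : F) * y) ∈ A
      rw [one_mul, one_mul]; exact hxy
    have : a ∈ X := by rw [hX]; exact AddSubgroup.mem_top _
    exact this
  have hd : t - s ≠ 0 := sub_ne_zero.mpr (Ne.symm hne)
  rw [eq_top_iff]
  rintro ⟨x, y⟩ _
  -- (x, y) = α (1,1) + β (s,t)
  have e : (x, y) = ((x - (y - x) / (t - s) * s) * 1, (x - (y - x) / (t - s) * s) * 1)
      + ((y - x) / (t - s) * s, (y - x) / (t - s) * t) := by
    rw [Prod.mk_add_mk]
    congr 1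
    · ring
    · field_simp
      ring
  rw [e]
  exact A.add_mem (hmulA _ _ _ h11) (hmulA _ _ _ hst)

/-- endomorphisms of a finite field are powers -/
theorem ringHom_eq_pow (σ : F →+* F) :
    ∃ a b : ℕ, a * b = Fintype.card F ∧ ∀ x : F, σ x = x ^ a := by
  classical
  obtain ⟨p, hp⟩ := CharP.exists F
  haveI := hp
  haveI : Fact p.Prime := ⟨CharP.char_is_prime F p⟩
  letI : Algebra (ZMod p) F := ZMod.algebra F p
  let σ' : F →ₐ[ZMod p] F :=
    { σ with
      commutes' := by
        intro r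
        have : σ.comp (algebraMap (ZMod p) F) = algebraMap (ZMod p) F := Subsingleton.elim _ _
        exact RingHom.congr_fun this r }
  obtain ⟨n, hn⟩ := (FiniteField.bijective_frobeniusAlgHom_pow (ZMod p) F).2 σ'
  have hcard : Fintype.card F = p ^ Module.finrank (ZMod p) F := by
    have := Module.card_eq_pow_finrank (K := ZMod p) (V := F)
    rw [ZMod.card] at this
    exact this
  refine ⟨p ^ n.1, p ^ (Module.finrank (ZMod p) F - n.1), ?_, ?_⟩
  · rw [← pow_add, hcard]
    congr 1
    have := n.2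
    omega
  · intro x
    have h1 : σ x = σ' x := rfl
    rw [h1, ← hn]
    show (FiniteField.frobeniusAlgHom (ZMod p) F ^ n.1) x = x ^ p ^ n.1
    rw [AlgHom.coe_pow, FiniteField.coe_frobeniusAlgHom, pow_iterate, ZMod.card]

/-- an endomorphism inverting `χ` -/
theorem order_dvd_of_inv {χ : F} (hχ : χ ≠ 0) (σ : F →+* F) (h : σ χ = χ⁻¹) :
    ∃ a b : ℕ, a * b = Fintype.card F ∧ orderOf χ ∣ a + 1 ∧ orderOf χ ∣ b + 1 := by
  obtain ⟨a, b, hab, hσ⟩ := ringHom_eq_pow σ
  refine ⟨a, b, hab, ?_, ?_⟩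
  · apply orderOf_dvd_of_pow_eq_one
    rw [pow_succ, ← hσ, h, inv_mul_cancel₀ hχ]
  · apply orderOf_dvd_of_pow_eq_one
    have h1 : χ ^ (a * b) = χ := by rw [hab, FiniteField.pow_card]
    have h2 : χ ^ (a * b) = (χ ^ b)⁻¹ := by
      rw [pow_mul, ← hσ, h, inv_pow]
    have h3 : χ ^ b ≠ 0 := pow_ne_zero _ hχ
    rw [pow_succ]
    have : χ = (χ ^ b)⁻¹ := h1.symm.trans h2
    calc χ ^ b * χ = χ ^ b * (χ ^ b)⁻¹ := by rw [← this]
      _ = 1 := mul_inv_cancel₀ h3

end Cfsg.Agent.Lib.Helper1.Ru
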