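import Mathlib
import Cfsg.Prelude
import Cfsg.Agent.Lib.Helper1.Ru2

set_option autoImplicit false
set_option maxHeartbeats 4000000
set_option linter.unusedVariables false
set_option linter.unusedSectionVars false
set_option linter.style.longLine false
set_option linter.unusedSimpArgs false
set_option linter.deprecated false

/-! Two conjugate regular unipotent elements of `SL_3(F)`, part 3: the generic case. -/

namespace Cfsg.Agent.Lib.Helper1.Ru

open Matrix

section general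

variable {F : Type*} [Field F]

theorem M3_sub (a b c d e f g h i a' b' c' d' e' f' g' h' i' : F) :
    M3 a b c d e f g h i - M3 a' b' c' d' e' f' g' h' i' =
      M3 (a - a') (b - b') (c - c') (d - d') (e - e') (f - f') (g - g') (h - h') (i - i') := by
  ext i j
  fin_cases i <;> fin_cases j <;> simp [M3]

/-- `nU 1 1 z` is a regular unipotent element -/
theorem nU_regular (z : F) :
    IsNilpotent (((nU 1 1 z : SpecialLinearGroup (Fin 3) F) : Matrix (Fin 3) (Fin 3) F) - 1) ∧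
      (((nU 1 1 z : SpecialLinearGroup (Fin 3) F) : Matrix (Fin 3) (Fin 3) F) - 1) ^ (3 - 1) ≠ 0 := by
  have e : ((nU 1 1 z : SpecialLinearGroup (Fin 3) F) : Matrix (Fin 3) (Fin 3) F) - 1
      = M3 0 1 z 0 0 1 0 0 0 := by
    rw [nU_coe, M3_one, M3_sub]
    apply M3_ext <;> ring
  rw [e]
  have e2 : (M3 0 1 z 0 0 1 0 0 0 : Matrix (Fin 3) (Fin 3) F) ^ 2 = M3 0 0 1 0 0 0 0 0 0 := by
    rw [pow_two, M3_mul]
    apply M3_ext <;> ring
  constructor
  · refine ⟨3, ?_⟩
    rw [pow_succ, e2, M3_mul]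
    ext i j
    fin_cases i <;> fin_cases j <;> simp [M3]
  · show (M3 0 1 z 0 0 1 0 0 0 : Matrix (Fin 3) (Fin 3) F) ^ 2 ≠ 0
    rw [e2]
    intro h
    have := congr_fun (congr_fun h 0) 2
    simp [M3] at this

/-- `nU 1 1 z` and `nL a b c` are conjugate -/
theorem exists_conj (z a b c lam : F) (h : lam ^ 3 * a ^ 2 * b = -1) :
    ∃ g : SpecialLinearGroup (Fin 3) F, g * nU 1 1 z * g⁻¹ = nL a b c := by
  refine ⟨S3 0 0 lam 0 (lam * a) 0 (lam * a * b) (lam * (c - z * a * b)) 0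
    (by linear_combination (-1 : F) * h), ?_⟩
  rw [mul_inv_eq_iff_eq_mul]
  apply sl_ext
  rw [Matrix.SpecialLinearGroup.coe_mul, Matrix.SpecialLinearGroup.coe_mul, S3_coe, nU_coe, nL_coe,
    M3_mul, M3_mul]
  apply M3_ext <;> ring

/-- generation from `Aset M = ⊤` and a big cell element -/
theorem gen_of_A (M : Subgroup (SpecialLinearGroup (Fin 3) F)) {v : SpecialLinearGroup (Fin 3) F}
    (hv : v ∈ M) (h20 : v.1 2 0 ≠ 0) (hmin : v.1 1 0 * v.1 2 1 - v.1 1 1 * v.1 2 0 ≠ 0)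
    (hA : Aset M = ⊤) : M = ⊤ :=
  top_of_nU_bruhat M (nU_mem_of_Aset_top M hA) hv h20 hmin

/-- generation from `Aset M = ⊤` and a lower unitriangular big cell element -/
theorem gen_of_A_nL (M : Subgroup (SpecialLinearGroup (Fin 3) F)) {a b c : F}
    (hv : nL a b c ∈ M) (hc : c ≠ 0) (hmin : a * b - c ≠ 0)
    (hA : Aset M = ⊤) : M = ⊤ := by
  apply gen_of_A M hv _ _ hA
  · rw [nL_coe]; simpa [M3] using hc
  · rw [nL_coe]
    have : a * b - 1 * c ≠ 0 := by rwa [one_mul]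
    simpa [M3] using this

/-- the element `v u v` -/
theorem vuv_eq (z a c : F) (e10 : a * (1 + a + z * c) + a + c = 0)
    (e20 : c * (1 + a + z * c) + a * (a + c) + c = 0)
    (e21 : c * (1 + z * a) + a * (1 + a) + a = 0)
    (h : (1 + a + z * c) * (1 + 2 * a + a ^ 2 * z) * (c * z + a + 1) = 1) :
    nL a a c * nU 1 1 z * nL a a c
      = bT (1 + a + z * c) (1 + 2 * a + a ^ 2 * z) (c * z + a + 1) (1 + z * a) (a * z + 1) z h := by
  apply sl_ext
  rw [Matrix.SpecialLinearGroup.coe_mul, Matrix.SpecialLinearGroup.coe_mul, nL_coe, nU_coe, bT_coe,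
    M3_mul, M3_mul]
  apply M3_ext
  · ring
  · ring
  · ring
  · linear_combination e10
  · ring
  · ring
  · linear_combination e20
  · linear_combination e21
  · ring

/-- the one-parameter family -/
theorem family (d : F) (hd : d ≠ 0) (hd1 : d + 1 ≠ 0) :
    ∃ z a c : F, c ≠ 0 ∧ a * a - c ≠ 0 ∧ a ≠ 0 ∧ ∃ (p s r : F) (h : d * (d ^ 2)⁻¹ * d = 1),
      nL a a c * nU 1 1 z * nL a a c = bT d (d ^ 2)⁻¹ d p s r h := by
  obtain ⟨a, ha⟩ : ∃ a : F, a = -(d + 1) ^ 2 / d := ⟨_, rfl⟩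
  obtain ⟨c, hc⟩ : ∃ c : F, c = (d + 1) ^ 3 / d := ⟨_, rfl⟩
  obtain ⟨z, hz⟩ : ∃ z : F, z = (2 * d ^ 2 + d + 1) / (d + 1) ^ 3 := ⟨_, rfl⟩
  have hd3 : (d + 1) ^ 3 ≠ 0 := pow_ne_zero _ hd1
  have hd2 : d ^ 2 ≠ 0 := pow_ne_zero _ hd
  have h1 : 1 + a + z * c = d := by
    rw [ha, hc, hz]; field_simp; ring
  have h2 : 1 + 2 * a + a ^ 2 * z = (d ^ 2)⁻¹ := by
    rw [ha, hz]; field_simp; ring
  have h3 : c * z + a + 1 = d := by rw [← h1]; ring
  have e10 : a * (1 + a + z * c) + a + c = 0 := by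
    rw [h1, ha, hc]; field_simp; ring
  have e20 : c * (1 + a + z * c) + a * (a + c) + c = 0 := by
    rw [h1, ha, hc]; field_simp; ring
  have e21 : c * (1 + z * a) + a * (1 + a) + a = 0 := by
    rw [ha, hc, hz]; field_simp; ring
  have hc0 : c ≠ 0 := by rw [hc]; exact div_ne_zero hd3 hd
  have ha0 : a ≠ 0 := by rw [ha]; exact div_ne_zero (neg_ne_zero.mpr (pow_ne_zero _ hd1)) hd
  have hmin : a * a - c ≠ 0 := by
    have e : a * a - c = (d + 1) ^ 3 / d ^ 2 := by
      rw [ha, hc]; field_simp; ring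
    rw [e]; exact div_ne_zero hd3 hd2
  have hprod : (1 + a + z * c) * (1 + 2 * a + a ^ 2 * z) * (c * z + a + 1) = 1 := by
    rw [h1, h2, h3]; field_simp
  have hprod' : d * (d ^ 2)⁻¹ * d = 1 := by field_simp
  refine ⟨z, a, c, hc0, hmin, ha0, 1 + z * a, a * z + 1, z, hprod', ?_⟩
  rw [vuv_eq z a c e10 e20 e21 hprod]
  apply sl_ext
  rw [bT_coe, bT_coe]
  apply M3_ext <;> first | rfl | exact h1 | exact h2 | exact h3

end general

section arith

theorem arith_fg (Q N k m : ℕ) (hQ : 5 ≤ Q) (h3N : Q - 1 ≤ 3 * N) (hk : 2 ≤ k) (hm : 2 ≤ m)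
    (hQk : Q = k ^ m) (hN : N ≤ k - 1) : False := by
  have h1 : k ^ 2 ≤ k ^ m := Nat.pow_le_pow_right (by omega) hm
  have h2 : k ^ 2 ≤ 3 * (k - 1) + 1 := by omega
  obtain ⟨j, rfl⟩ : ∃ j, k = j + 2 := ⟨k - 2, by omega⟩
  have : (j + 2) ^ 2 = j * j + 4 * j + 4 := by ring
  rw [this] at h2 h1
  have hj : j = 0 := by
    by_contra hj
    have h5 : 1 ≤ j := Nat.one_le_iff_ne_zero.mpr hj
    have h6 : j ≤ j * j := Nat.le_mul_self j
    omega
  subst hj
  omega

theorem not_isPrimePow_ten : ¬ IsPrimePow 10 := by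
  rw [isPrimePow_nat_iff]
  rintro ⟨p, k, hp, hk, h⟩
  have h2 : 2 ∣ p ^ k := by rw [h]; norm_num
  have h5 : 5 ∣ p ^ k := by rw [h]; norm_num
  have e2 := (Nat.prime_dvd_prime_iff_eq Nat.prime_two hp).mp (Nat.Prime.dvd_of_dvd_pow Nat.prime_two h2)
  have e5 := (Nat.prime_dvd_prime_iff_eq Nat.prime_five hp).mp (Nat.Prime.dvd_of_dvd_pow Nat.prime_five h5)
  omega

theorem arith_no (Q N a b : ℕ) (hQ : 5 ≤ Q) (h7 : Q ≠ 7) (h16 : Q ≠ 16) (hpp : IsPrimePow Q)
    (hN1 : N ∣ Q - 1) (hN3 : Q - 1 ∣ 3 * N) (hab : a * b = Q) (ha : N ∣ a + 1) (hb : N ∣ b + 1) :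
    False := by
  have hN0 : N ≠ 0 := by
    rintro rfl
    have := Nat.eq_zero_of_zero_dvd hN1
    omega
  obtain ⟨l, hl⟩ := hN1
  obtain ⟨k, hk⟩ := hN3
  have hlk : l * k = 3 := by
    have : N * 3 = N * (l * k) := by
      calc N * 3 = 3 * N := by ring
        _ = (Q - 1) * k := hk
        _ = N * l * k := by rw [hl]
        _ = N * (l * k) := by ring
    exact (Nat.eq_of_mul_eq_mul_left (Nat.pos_of_ne_zero hN0) this).symm
  have hl13 : l = 1 ∨ l = 3 := (Nat.dvd_prime Nat.prime_three).mp ⟨k, hlk.symm⟩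
  have hNa : N ≤ a + 1 := Nat.le_of_dvd (by omega) ha
  have hNb : N ≤ b + 1 := Nat.le_of_dvd (by omega) hb
  have ha1 : 1 ≤ a := by
    rcases Nat.eq_zero_or_pos a with h | h
    · rw [h, zero_mul] at hab; omega
    · exact h
  have hb1 : 1 ≤ b := by
    rcases Nat.eq_zero_or_pos b with h | h
    · rw [h, mul_zero] at hab; omega
    · exact h
  rcases hl13 with rfl | rfl
  · -- N = Q - 1
    rw [mul_one] at hl
    rcases Nat.lt_or_ge a 2 with h | h
    · have : a = 1 := by omega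
      subst this
      have := Nat.le_of_dvd (by norm_num) ha
      omega
    rcases Nat.lt_or_ge b 2 with h' | h'
    · have : b = 1 := by omega
      subst this
      have := Nat.le_of_dvd (by norm_num) hb
      omega
    have h1 : 2 * a ≤ a * b := by nlinarith
    have h2 : 2 * b ≤ a * b := by nlinarith
    omega
  · -- 3 N = Q - 1
    have hQ16 : Q ≤ 16 := by
      rcases Nat.lt_or_ge a 5 with h | h
      · have : a * b ≤ 3 * a + 4 := by omega
        omega
      rcases Nat.lt_or_ge b 5 with h' | h'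
      · have : a * b ≤ 3 * b + 4 := by omega
        omega
      have h1 : 5 * a ≤ a * b := by nlinarith
      omega
    have hQ' : Q = 10 ∨ Q = 13 := by omega
    rcases hQ' with rfl | rfl
    · exact not_isPrimePow_ten hpp
    · have hN4 : N = 4 := by omega
      subst hN4
      have ha13 : a ∣ 13 := ⟨b, hab.symm⟩
      have : a = 1 ∨ a = 13 := (Nat.dvd_prime (by norm_num)).mp ha13
      rcases this with rfl | rfl
      · omega
      · have : b = 1 := by omega
        subst this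
        omega

end arith

section generic

variable {F : Type*} [Field F] [Fintype F]

/-- the generic case -/
theorem main_generic (hQ : 5 ≤ Fintype.card F) (h7 : Fintype.card F ≠ 7)
    (h16 : Fintype.card F ≠ 16) :
    ∃ u g : SpecialLinearGroup (Fin 3) F,
      IsNilpotent ((u : Matrix (Fin 3) (Fin 3) F) - 1) ∧
      ((u : Matrix (Fin 3) (Fin 3) F) - 1) ^ (3 - 1) ≠ 0 ∧
      Subgroup.closure ({u, g * u * g⁻¹} : Set (SpecialLinearGroup (Fin 3) F)) = ⊤ := by
  classical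
  -- a generator of the multiplicative group
  obtain ⟨g₀, hg₀⟩ := IsCyclic.exists_generator (α := Fˣ)
  have hord₀ : orderOf g₀ = Fintype.card F - 1 := by
    rw [orderOf_eq_card_of_forall_mem_zpowers hg₀, Nat.card_eq_fintype_card, Fintype.card_units]
  obtain ⟨d, hd⟩ : ∃ d : F, d = (g₀ : F) := ⟨_, rfl⟩
  have hordd : orderOf d = Fintype.card F - 1 := by
    rw [hd, orderOf_units, hord₀]
  have hd0 : d ≠ 0 := by rw [hd]; exact Units.ne_zero g₀
  have hd1 : d + 1 ≠ 0 := by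
    intro h
    have : d ^ 2 = 1 := by
      have : d = -1 := by linear_combination h
      rw [this]; ring
    have := orderOf_dvd_of_pow_eq_one this
    rw [hordd] at this
    have := Nat.le_of_dvd (by norm_num) this
    omega
  obtain ⟨z, a, c, hc0, hmin, ha0, p, s, r, hprod, hvuv⟩ := family d hd0 hd1
  obtain ⟨g, hg⟩ := exists_conj z a a c (-a⁻¹) (by field_simp)
  refine ⟨nU 1 1 z, g, (nU_regular z).1, (nU_regular z).2, ?_⟩
  rw [hg]
  obtain ⟨M, hM⟩ : ∃ M : Subgroup (SpecialLinearGroup (Fin 3) F),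
      M = Subgroup.closure ({nU 1 1 z, nL a a c} : Set (SpecialLinearGroup (Fin 3) F)) := ⟨_, rfl⟩
  rw [← hM]
  have hu : nU 1 1 z ∈ M := by rw [hM]; exact Subgroup.subset_closure (by simp)
  have hv : nL a a c ∈ M := by rw [hM]; exact Subgroup.subset_closure (by simp)
  have hb : bT d (d ^ 2)⁻¹ d p s r hprod ∈ M := by
    rw [← hvuv]; exact M.mul_mem (M.mul_mem hv hu) hv
  apply gen_of_A_nL M hv hc0 hmin
  -- the characters
  obtain ⟨χ, hχ⟩ : ∃ χ : F, χ = d ^ 3 := ⟨_, rfl⟩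
  have hχ0 : χ ≠ 0 := by rw [hχ]; exact pow_ne_zero _ hd0
  have e1 : d / (d ^ 2)⁻¹ = χ := by rw [hχ]; field_simp
  have e2 : (d ^ 2)⁻¹ / d = χ⁻¹ := by rw [hχ]; field_simp
  have hcl : ∀ x y : F, (x, y) ∈ Aset M → (χ * x, χ⁻¹ * y) ∈ Aset M := by
    intro x y hxy
    have := Aset_torus M hprod hb hxy
    rwa [e1, e2] at this
  -- the order of χ
  have hN1 : orderOf χ ∣ Fintype.card F - 1 := by
    apply orderOf_dvd_of_pow_eq_one
    exact FiniteField.pow_card_sub_one_eq_one χ hχ0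
  have hN3 : Fintype.card F - 1 ∣ 3 * orderOf χ := by
    rw [← hordd]
    apply orderOf_dvd_of_pow_eq_one
    rw [pow_mul, ← hχ, pow_orderOf_eq_one]
  have h3N : Fintype.card F - 1 ≤ 3 * orderOf χ := by
    apply Nat.le_of_dvd _ hN3
    have : 0 < orderOf χ := orderOf_pos_iff.mpr (isOfFinOrder_iff_pow_eq_one.mpr
      ⟨Fintype.card F - 1, by omega, FiniteField.pow_card_sub_one_eq_one χ hχ0⟩)
    omega
  have hfgχ : ∀ k m : ℕ, 2 ≤ k → 2 ≤ m → Fintype.card F = k ^ m → χ ^ k ≠ χ := by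
    intro k m hk hm hc hpow
    have h1 : χ ^ (k - 1) = 1 := by
      have : χ ^ (k - 1) * χ = 1 * χ := by
        rw [← pow_succ, one_mul, Nat.sub_add_cancel (by omega), hpow]
      exact mul_right_cancel₀ hχ0 this
    have h2 := orderOf_dvd_of_pow_eq_one h1
    have h3 := Nat.le_of_dvd (by omega) h2
    exact arith_fg _ _ k m hQ h3N hk hm hc h3
  have hfgχ' : ∀ k m : ℕ, 2 ≤ k → 2 ≤ m → Fintype.card F = k ^ m → χ⁻¹ ^ k ≠ χ⁻¹ := by
    intro k m hk hm hc hpow
    apply hfgχ k m hk hm hc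
    rw [inv_pow] at hpow
    exact inv_injective hpow
  apply addsub_top (Aset M) (χ₁ := χ) (χ₂ := χ⁻¹)
  · exact ⟨z, hu⟩
  · exact hcl
  · exact fg_of hfgχ
  · exact fg_of hfgχ'
  · intro σ hσ
    obtain ⟨a', b', hab, ha', hb'⟩ := order_dvd_of_inv hχ0 σ hσ
    exact arith_no _ _ a' b' hQ h7 h16 (FiniteField.isPrimePow_card F) hN1 hN3 hab ha' hb'

end generic

end Cfsg.Agent.Lib.Helper1.Ru
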