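import Mathlib
import Cfsg.Prelude
import Cfsg.Agent.Lib.Helper1.Ru3

set_option autoImplicit false
set_option maxHeartbeats 4000000
set_option linter.unusedVariables false
set_option linter.unusedSectionVars false
set_option linter.style.longLine false
set_option linter.unusedSimpArgs false
set_option linter.deprecated false

/-! Two conjugate regular unipotent elements of `SL_3(F)`, part 4: tools for the small fields. -/

namespace Cfsg.Agent.Lib.Helper1.Ru

open Matrix

section general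

variable {F : Type*} [Field F]

/-- products at the level of matrices -/
theorem mul_coe_eq {A B : SpecialLinearGroup (Fin 3) F}
    {a b c d e f g h i a' b' c' d' e' f' g' h' i' r1 r2 r3 r4 r5 r6 r7 r8 r9 : F}
    (hA : A.1 = M3 a b c d e f g h i) (hB : B.1 = M3 a' b' c' d' e' f' g' h' i')
    (h1 : a * a' + b * d' + c * g' = r1) (h2 : a * b' + b * e' + c * h' = r2)
    (h3 : a * c' + b * f' + c * i' = r3) (h4 : d * a' + e * d' + f * g' = r4)
    (h5 : d * b' + e * e' + f * h' = r5) (h6 : d * c' + e * f' + f * i' = r6)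
    (h7 : g * a' + h * d' + i * g' = r7) (h8 : g * b' + h * e' + i * h' = r8)
    (h9 : g * c' + h * f' + i * i' = r9) :
    (A * B).1 = M3 r1 r2 r3 r4 r5 r6 r7 r8 r9 := by
  rw [Matrix.SpecialLinearGroup.coe_mul, hA, hB, M3_mul]
  exact M3_ext h1 h2 h3 h4 h5 h6 h7 h8 h9

/-- a word which is upper triangular -/
theorem mem_bT_of_coe (M : Subgroup (SpecialLinearGroup (Fin 3) F))
    {w : SpecialLinearGroup (Fin 3) F} (hw : w ∈ M) {d₁ d₂ d₃ p s r : F}
    (hcoe : w.1 = M3 d₁ p r 0 d₂ s 0 0 d₃) : ∃ h : d₁ * d₂ * d₃ = 1, bT d₁ d₂ d₃ p s r h ∈ M := by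
  have h : d₁ * d₂ * d₃ = 1 := by
    have := w.2
    rw [hcoe, M3_det] at this
    linear_combination this
  refine ⟨h, ?_⟩
  have : bT d₁ d₂ d₃ p s r h = w := by
    apply sl_ext
    rw [bT_coe, hcoe]
  rw [this]; exact hw

/-- a word which is upper unitriangular -/
theorem mem_Aset_of_coe (M : Subgroup (SpecialLinearGroup (Fin 3) F))
    {w : SpecialLinearGroup (Fin 3) F} (hw : w ∈ M) {x y z : F}
    (hcoe : w.1 = M3 1 x z 0 1 y 0 0 1) : (x, y) ∈ Aset M := by
  refine ⟨z, ?_⟩
  have : nU x y z = w := by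
    apply sl_ext
    rw [nU_coe, hcoe]
  show nU x y z ∈ M
  rw [this]; exact hw

/-- the torus action with explicit characters -/
theorem Aset_torus' (M : Subgroup (SpecialLinearGroup (Fin 3) F)) {d₁ d₂ d₃ p s r χ₁ χ₂ : F}
    (h : d₁ * d₂ * d₃ = 1) (hb : bT d₁ d₂ d₃ p s r h ∈ M) (h1 : d₁ = χ₁ * d₂) (h2 : d₂ = χ₂ * d₃)
    {x y : F} (hxy : (x, y) ∈ Aset M) : (χ₁ * x, χ₂ * y) ∈ Aset M := by
  have hd2 : d₂ ≠ 0 := by
    rintro rfl
    rw [mul_zero, zero_mul] at h
    exact zero_ne_one h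
  have hd3 : d₃ ≠ 0 := by
    rintro rfl
    rw [mul_zero] at h
    exact zero_ne_one h
  have := Aset_torus M h hb hxy
  have e1 : d₁ / d₂ = χ₁ := by rw [h1]; field_simp
  have e2 : d₂ / d₃ = χ₂ := by rw [h2]; field_simp
  rwa [e1, e2] at this

/-- the upper triangular word version -/
theorem Aset_word (M : Subgroup (SpecialLinearGroup (Fin 3) F))
    {w : SpecialLinearGroup (Fin 3) F} (hw : w ∈ M) {d₁ d₂ d₃ p s r χ₁ χ₂ : F}
    (hcoe : w.1 = M3 d₁ p r 0 d₂ s 0 0 d₃) (h1 : d₁ = χ₁ * d₂) (h2 : d₂ = χ₂ * d₃)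
    {x y : F} (hxy : (x, y) ∈ Aset M) : (χ₁ * x, χ₂ * y) ∈ Aset M := by
  obtain ⟨h, hb⟩ := mem_bT_of_coe M hw hcoe
  exact Aset_torus' M h hb h1 h2 hxy

/-- the final assembly: a general conjugate -/
theorem special_gen (z : F) (g v : SpecialLinearGroup (Fin 3) F) (hg : g * nU 1 1 z = v * g)
    (h20 : v.1 2 0 ≠ 0) (hmin : v.1 1 0 * v.1 2 1 - v.1 1 1 * v.1 2 0 ≠ 0)
    (hA : ∀ M : Subgroup (SpecialLinearGroup (Fin 3) F), nU 1 1 z ∈ M → v ∈ M → Aset M = ⊤) :
    ∃ u g : SpecialLinearGroup (Fin 3) F,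
      IsNilpotent ((u : Matrix (Fin 3) (Fin 3) F) - 1) ∧
      ((u : Matrix (Fin 3) (Fin 3) F) - 1) ^ (3 - 1) ≠ 0 ∧
      Subgroup.closure ({u, g * u * g⁻¹} : Set (SpecialLinearGroup (Fin 3) F)) = ⊤ := by
  refine ⟨nU 1 1 z, g, (nU_regular z).1, (nU_regular z).2, ?_⟩
  have hg' : g * nU 1 1 z * g⁻¹ = v := by rw [mul_inv_eq_iff_eq_mul]; exact hg
  rw [hg']
  have hu : nU 1 1 z ∈ Subgroup.closure ({nU 1 1 z, v} : Set (SpecialLinearGroup (Fin 3) F)) :=
    Subgroup.subset_closure (by simp)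
  have hv : v ∈ Subgroup.closure ({nU 1 1 z, v} : Set (SpecialLinearGroup (Fin 3) F)) :=
    Subgroup.subset_closure (by simp)
  exact gen_of_A _ hv h20 hmin (hA _ hu hv)

/-- the final assembly: a lower unitriangular conjugate -/
theorem special_nL (z a b c lam : F) (hlam : lam ^ 3 * a ^ 2 * b = -1) (hc : c ≠ 0)
    (hmin : a * b - c ≠ 0)
    (hA : ∀ M : Subgroup (SpecialLinearGroup (Fin 3) F), nU 1 1 z ∈ M → nL a b c ∈ M →
      Aset M = ⊤) :
    ∃ u g : SpecialLinearGroup (Fin 3) F,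
      IsNilpotent ((u : Matrix (Fin 3) (Fin 3) F) - 1) ∧
      ((u : Matrix (Fin 3) (Fin 3) F) - 1) ^ (3 - 1) ≠ 0 ∧
      Subgroup.closure ({u, g * u * g⁻¹} : Set (SpecialLinearGroup (Fin 3) F)) = ⊤ := by
  obtain ⟨g, hg⟩ := exists_conj z a b c lam hlam
  refine special_gen z g (nL a b c) (by rw [← hg]; group) ?_ ?_ hA
  · rw [nL_coe]; simpa [M3] using hc
  · rw [nL_coe]
    have : a * b - 1 * c ≠ 0 := by rwa [one_mul]
    simpa [M3] using this

theorem nU_inv_coe (x y z : F) : ((nU x y z)⁻¹).1 = M3 1 (-x) (x * y - z) 0 1 (-y) 0 0 1 := by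
  rw [nU_inv, nU_coe]

theorem nL_inv_coe (a b c : F) : ((nL a b c)⁻¹).1 = M3 1 0 0 (-a) 1 0 (a * b - c) (-b) 1 := by
  rw [nL_inv, nL_coe]

end general

section finite

variable {F : Type*} [Field F] [Fintype F]

/-- the version with a scalar torus element -/
theorem addsub_top_scalar (A : AddSubgroup (F × F)) {χ t : F}
    (h11 : ((1 : F), (1 : F)) ∈ A) (h0t : ((0 : F), t) ∈ A) (ht : t ≠ 0)
    (hcl : ∀ x y : F, (x, y) ∈ A → (χ * x, χ * y) ∈ A)
    (fg : ∀ X : AddSubgroup F, (1 : F) ∈ X → (∀ x ∈ X, χ * x ∈ X) → X = ⊤) : A = ⊤ := by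
  classical
  let X : AddSubgroup F :=
    { carrier := {s | (s, s) ∈ A}
      zero_mem' := A.zero_mem
      add_mem' := by
        intro s s' hs hs'
        show (s + s', s + s') ∈ A
        have : (s + s', s + s') = (s, s) + (s', s') := rfl
        rw [this]; exact A.add_mem hs hs'
      neg_mem' := by
        intro s hs
        show (-s, -s) ∈ A
        have : (-s, -s) = -(s, s) := rfl
        rw [this]; exact A.neg_mem hs }
  have hX : X = ⊤ := fg X h11 (fun x hx => hcl _ _ hx)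
  let Y : AddSubgroup F :=
    { carrier := {s | ((0 : F), s * t) ∈ A}
      zero_mem' := by
        show ((0 : F), (0 : F) * t) ∈ A
        rw [zero_mul]; exact A.zero_mem
      add_mem' := by
        intro s s' hs hs'
        show ((0 : F), (s + s') * t) ∈ A
        have : ((0 : F), (s + s') * t) = ((0 : F), s * t) + ((0 : F), s' * t) := by
          rw [Prod.mk_add_mk, add_mul, add_zero]
        rw [this]; exact A.add_mem hs hs'
      neg_mem' := by
        intro s hs
        show ((0 : F), (-s) * t) ∈ A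
        have : ((0 : F), (-s) * t) = -((0 : F), s * t) := by
          rw [Prod.neg_mk, neg_mul, neg_zero]
        rw [this]; exact A.neg_mem hs }
  have hY : Y = ⊤ := by
    apply fg Y
    · show ((0 : F), (1 : F) * t) ∈ A
      rw [one_mul]; exact h0t
    · intro s hs
      show ((0 : F), (χ * s) * t) ∈ A
      have := hcl _ _ hs
      rw [mul_zero, ← mul_assoc] at this
      exact this
  rw [eq_top_iff]
  rintro ⟨x, y⟩ _
  have h1 : x ∈ X := by rw [hX]; exact AddSubgroup.mem_top _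
  have h2 : (y - x) / t ∈ Y := by rw [hY]; exact AddSubgroup.mem_top _
  have h2' : ((0 : F), (y - x) / t * t) ∈ A := h2
  rw [div_mul_cancel₀ _ ht] at h2'
  have : (x, y) = (x, x) + ((0 : F), y - x) := by
    rw [Prod.mk_add_mk, add_zero, add_sub_cancel]
  rw [this]; exact A.add_mem h1 h2'

theorem two_eq_zero_of_card_pow (n : ℕ) (h : Fintype.card F = 2 ^ n) : (2 : F) = 0 := by
  have := Nat.cast_card_eq_zero F
  rw [h] at this
  push_cast at this
  exact pow_eq_zero_iff (n := n) (by rintro rfl; simp at h; have := Fintype.one_lt_card (α := F); omega) |>.mp this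

/-- an element of order `n` for `n ∣ q - 1` -/
theorem exists_orderOf_eq (n : ℕ) (hn : n ∣ Fintype.card F - 1) : ∃ x : F, orderOf x = n := by
  classical
  obtain ⟨g₀, hg₀⟩ := IsCyclic.exists_generator (α := Fˣ)
  have hord₀ : orderOf g₀ = Fintype.card F - 1 := by
    rw [orderOf_eq_card_of_forall_mem_zpowers hg₀, Nat.card_eq_fintype_card, Fintype.card_units]
  obtain ⟨m, hm⟩ := hn
  have hq : 0 < Fintype.card F - 1 := by
    have := Fintype.one_lt_card (α := F)
    omega
  have hn0 : 0 < n := by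
    rcases Nat.eq_zero_or_pos n with h | h
    · rw [h, zero_mul] at hm; omega
    · exact h
  have hm0 : 0 < m := by
    rcases Nat.eq_zero_or_pos m with h | h
    · rw [h, mul_zero] at hm; omega
    · exact h
  refine ⟨((g₀ ^ m : Fˣ) : F), ?_⟩
  rw [orderOf_units, orderOf_pow' g₀ (by omega), hord₀, hm, Nat.gcd_eq_right ⟨n, by ring⟩,
    Nat.mul_div_cancel _ hm0]

/-- a primitive cube root of unity in the field with four elements -/
theorem exists_omega (h : Fintype.card F = 4) : ∃ t : F, t ^ 2 = t + 1 := by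
  have h2 : (2 : F) = 0 := two_eq_zero_of_card_pow 2 (by rw [h]; norm_num)
  obtain ⟨t, ht⟩ := exists_orderOf_eq (F := F) 3 (by rw [h])
  refine ⟨t, ?_⟩
  have h3 : t ^ 3 = 1 := by rw [← ht]; exact pow_orderOf_eq_one t
  have h1 : t ≠ 1 := by
    rintro rfl
    rw [orderOf_one] at ht
    omega
  have : (t - 1) * (t ^ 2 + t + 1) = 0 := by linear_combination h3
  rcases mul_eq_zero.mp this with h' | h'
  · exact absurd (sub_eq_zero.mp h') h1
  · linear_combination h' - (t + 1) * h2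

/-- a primitive fifth root of unity in the field with sixteen elements -/
theorem exists_zeta (h : Fintype.card F = 16) : ∃ t : F, t ^ 4 = t ^ 3 + t ^ 2 + t + 1 := by
  have h2 : (2 : F) = 0 := two_eq_zero_of_card_pow 4 (by rw [h]; norm_num)
  obtain ⟨t, ht⟩ := exists_orderOf_eq (F := F) 5 (by rw [h]; norm_num)
  refine ⟨t, ?_⟩
  have h3 : t ^ 5 = 1 := by rw [← ht]; exact pow_orderOf_eq_one t
  have h1 : t ≠ 1 := by
    rintro rfl
    rw [orderOf_one] at ht
    omega
  have : (t - 1) * (t ^ 4 + t ^ 3 + t ^ 2 + t + 1) = 0 := by linear_combination h3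
  rcases mul_eq_zero.mp this with h' | h'
  · exact absurd (sub_eq_zero.mp h') h1
  · linear_combination h' - (t ^ 3 + t ^ 2 + t + 1) * h2

theorem natCast_card_eq (p : ℕ) (h : Fintype.card F = p) : (p : F) = 0 := by
  rw [← h]; exact Nat.cast_card_eq_zero F

end finite

end Cfsg.Agent.Lib.Helper1.Ru
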