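import Mathlib
import Cfsg.Prelude
import Cfsg.Agent.Lib.Helper1.Ru4

set_option autoImplicit false
set_option maxHeartbeats 4000000
set_option linter.unusedVariables false
set_option linter.unusedSectionVars false
set_option linter.style.longLine false
set_option linter.unusedSimpArgs false
set_option linter.deprecated false
set_option linter.unusedTactic false
set_option linter.unreachableTactic false

/-! Two conjugate regular unipotent elements of `SL_3(F)`, part 5: the fields with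
`2, 3, 4, 7, 16` elements (computer generated certificates). -/

namespace Cfsg.Agent.Lib.Helper1.Ru

open Matrix

variable {F : Type*} [Field F] [Fintype F]

theorem pow_eq_four {k m : ℕ} (hk : 2 ≤ k) (hm : 2 ≤ m) (h : 4 = k ^ m) : k = 2 := by
  have h1 : k ^ 2 ≤ k ^ m := Nat.pow_le_pow_right (by omega) hm
  have h2 : k * k ≤ 4 := by rw [← pow_two]; omega
  by_contra hne
  have h3 : 3 ≤ k := by omega
  have : 3 * 3 ≤ k * k := Nat.mul_le_mul h3 h3
  omega

theorem pow_eq_sixteen {k m : ℕ} (hk : 2 ≤ k) (hm : 2 ≤ m) (h : 16 = k ^ m) : k = 2 ∨ k = 4 := by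
  have h1 : k ^ 2 ≤ k ^ m := Nat.pow_le_pow_right (by omega) hm
  have h2 : k * k ≤ 16 := by rw [← pow_two]; omega
  have h4 : k ≤ 4 := by
    by_contra hne
    have h3 : 5 ≤ k := by omega
    have : 5 * 5 ≤ k * k := Nat.mul_le_mul h3 h3
    omega
  have h3 : k ≠ 3 := by
    rintro rfl
    rcases Nat.lt_or_ge m 3 with hm3 | hm3
    · have : m = 2 := by omega
      subst this
      norm_num at h
    · have : 3 ^ 3 ≤ 3 ^ m := Nat.pow_le_pow_right (by omega) hm3
      omega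
  omega

theorem dvd_sixteen {a b : ℕ} (h : a * b = 16) : a = 1 ∨ a = 2 ∨ a = 4 ∨ a = 8 ∨ a = 16 := by
  have h1 : a ∣ 2 ^ 4 := ⟨b, by rw [h]; norm_num⟩
  obtain ⟨j, hj, rfl⟩ := (Nat.dvd_prime_pow Nat.prime_two).mp h1
  interval_cases j <;> simp

theorem case_q2 (hcard : Fintype.card F = 2) :
    ∃ u g : SpecialLinearGroup (Fin 3) F,
      IsNilpotent ((u : Matrix (Fin 3) (Fin 3) F) - 1) ∧
      ((u : Matrix (Fin 3) (Fin 3) F) - 1) ^ (3 - 1) ≠ 0 ∧
      Subgroup.closure ({u, g * u * g⁻¹} : Set (SpecialLinearGroup (Fin 3) F)) = ⊤ := by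
  have hp : (2 : F) = 0 := by exact_mod_cast natCast_card_eq 2 hcard
  obtain ⟨g, hg⟩ : ∃ g : SpecialLinearGroup (Fin 3) F, g = S3 0 0 1 1 0 0 0 1 0 (by ring) := ⟨_, rfl⟩
  obtain ⟨v, hvdef⟩ : ∃ v : SpecialLinearGroup (Fin 3) F, v = S3 1 0 0 0 1 1 1 0 1 (by ring) := ⟨_, rfl⟩
  have cg : g.1 = M3 0 0 1 1 0 0 0 1 0 := by rw [hg]; rfl
  have cv : v.1 = M3 1 0 0 0 1 1 1 0 1 := by rw [hvdef]; rfl
  have cu : (nU 1 1 (0 : F)).1 = M3 1 1 0 0 1 1 0 0 1 := nU_coe _ _ _
  refine special_gen 0 g v ?_ ?_ ?_ ?_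
  · apply sl_ext
    have e1 : (g * nU 1 1 (0 : F)).1 = M3 0 0 1 1 1 0 0 1 1 := mul_coe_eq cg cu
      (by ring) (by ring) (by ring)
      (by ring) (by ring) (by ring)
      (by ring) (by ring) (by ring)
    have e2 : (v * g).1 = M3 0 0 1 1 1 0 0 1 1 := mul_coe_eq cv cg
      (by ring) (by ring) (by ring)
      (by ring) (by ring) (by ring)
      (by ring) (by ring) (by ring)
    rw [e1, e2]
  · rw [cv]; simp [M3]
  · rw [cv]; simp [M3]
  · intro M hu hv
    have w_1 : (v * v).1 = M3 1 0 0 1 1 0 0 0 1 := mul_coe_eq cv cv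
      (by ring) (by ring) (by ring)
      (by ring) (by ring) (by linear_combination (1) * hp)
      (by linear_combination (1) * hp) (by ring) (by ring)
    have w_2 : (v * v * nU 1 1 (0 : F)).1 = M3 1 1 0 1 0 1 0 0 1 := mul_coe_eq w_1 cu
      (by ring) (by ring) (by ring)
      (by ring) (by linear_combination (1) * hp) (by ring)
      (by ring) (by ring) (by ring)
    have w_3 : (v * v * nU 1 1 (0 : F) * nU 1 1 (0 : F)).1 = M3 1 0 1 1 1 1 0 0 1 := mul_coe_eq w_2 cu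
      (by ring) (by linear_combination (1) * hp) (by ring)
      (by ring) (by ring) (by ring)
      (by ring) (by ring) (by ring)
    have w_4 : (v * v * nU 1 1 (0 : F) * nU 1 1 (0 : F) * v).1 = M3 0 0 1 0 1 0 1 0 1 := mul_coe_eq w_3 cv
      (by linear_combination (1) * hp) (by ring) (by ring)
      (by linear_combination (1) * hp) (by ring) (by linear_combination (1) * hp)
      (by ring) (by ring) (by ring)
    have w_5 : (v * v * nU 1 1 (0 : F) * nU 1 1 (0 : F) * v * v).1 = M3 1 0 1 0 1 1 0 0 1 := mul_coe_eq w_4 cv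
      (by ring) (by ring) (by ring)
      (by ring) (by ring) (by ring)
      (by linear_combination (1) * hp) (by ring) (by ring)
    have h11 : ((1 : F), (1 : F)) ∈ Aset M := (mem_Aset M 1 1).mpr ⟨_, hu⟩
    have hA1 : ((0 : F), (1 : F)) ∈ Aset M := mem_Aset_of_coe M (M.mul_mem (M.mul_mem (M.mul_mem (M.mul_mem (M.mul_mem hv hv) hu) hu) hv) hv) w_5
    refine addsub_top_prime (Aset M) (by rw [hcard]; norm_num) h11 hA1 ?_
    intro h
    exact one_ne_zero (α := F) (by linear_combination (1) * h + (1) * hp)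

theorem case_q3 (hcard : Fintype.card F = 3) :
    ∃ u g : SpecialLinearGroup (Fin 3) F,
      IsNilpotent ((u : Matrix (Fin 3) (Fin 3) F) - 1) ∧
      ((u : Matrix (Fin 3) (Fin 3) F) - 1) ^ (3 - 1) ≠ 0 ∧
      Subgroup.closure ({u, g * u * g⁻¹} : Set (SpecialLinearGroup (Fin 3) F)) = ⊤ := by
  have hp : (3 : F) = 0 := by exact_mod_cast natCast_card_eq 3 hcard
  refine special_nL 2 1 2 1 1 ?_ ?_ ?_ ?_
  · linear_combination (1) * hp
  · intro h
    exact one_ne_zero (α := F) (by linear_combination (1) * h)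
  · intro h
    exact one_ne_zero (α := F) (by linear_combination (1) * h)
  · intro M hu hv
    have hU : (nU (1 : F) 1 2)⁻¹ ∈ M := M.inv_mem hu
    have hV : (nL (1 : F) 2 1)⁻¹ ∈ M := M.inv_mem hv
    have cu : (nU (1 : F) 1 2).1 = M3 1 1 2 0 1 1 0 0 1 := nU_coe _ _ _
    have cv : (nL (1 : F) 2 1).1 = M3 1 0 0 1 1 0 1 2 1 := nL_coe _ _ _
    have cU : ((nU (1 : F) 1 2)⁻¹).1 = M3 1 2 2 0 1 2 0 0 1 := by
      rw [nU_inv_coe]
      apply M3_ext
      · rfl
      · linear_combination (-1) * hp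
      · linear_combination (-1) * hp
      · rfl
      · rfl
      · linear_combination (-1) * hp
      · rfl
      · rfl
      · rfl
    have cV : ((nL (1 : F) 2 1)⁻¹).1 = M3 1 0 0 2 1 0 1 1 1 := by
      rw [nL_inv_coe]
      apply M3_ext
      · rfl
      · rfl
      · rfl
      · linear_combination (-1) * hp
      · rfl
      · rfl
      · ring
      · linear_combination (-1) * hp
      · rfl
    have w_1 : ((nL (1 : F) 2 1)⁻¹ * (nU (1 : F) 1 2)⁻¹).1 = M3 1 2 2 2 2 0 1 0 2 := mul_coe_eq cV cU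
      (by ring) (by ring) (by ring)
      (by ring) (by linear_combination (1) * hp) (by linear_combination (2) * hp)
      (by ring) (by linear_combination (1) * hp) (by linear_combination (1) * hp)
    have w_2 : ((nL (1 : F) 2 1)⁻¹ * (nU (1 : F) 1 2)⁻¹ * (nL (1 : F) 2 1)⁻¹).1 = M3 1 1 2 0 2 0 0 2 2 := mul_coe_eq w_1 cV
      (by linear_combination (2) * hp) (by linear_combination (1) * hp) (by ring)
      (by linear_combination (2) * hp) (by ring) (by ring)
      (by linear_combination (1) * hp) (by ring) (by ring)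
    have w_3 : ((nL (1 : F) 2 1)⁻¹ * (nU (1 : F) 1 2)⁻¹ * (nL (1 : F) 2 1)⁻¹ * (nU (1 : F) 1 2)).1 = M3 1 2 2 0 2 2 0 2 1 := mul_coe_eq w_2 cu
      (by ring) (by ring) (by linear_combination (1) * hp)
      (by ring) (by ring) (by ring)
      (by ring) (by ring) (by linear_combination (1) * hp)
    have w_4 : ((nL (1 : F) 2 1)⁻¹ * (nU (1 : F) 1 2)⁻¹ * (nL (1 : F) 2 1)⁻¹ * (nU (1 : F) 1 2) * (nL (1 : F) 2 1)⁻¹).1 = M3 1 1 2 0 1 2 2 0 1 := mul_coe_eq w_3 cV
      (by linear_combination (2) * hp) (by linear_combination (1) * hp) (by ring)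
      (by linear_combination (2) * hp) (by linear_combination (1) * hp) (by ring)
      (by linear_combination (1) * hp) (by linear_combination (1) * hp) (by ring)
    have w_5 : ((nL (1 : F) 2 1)⁻¹ * (nU (1 : F) 1 2)⁻¹ * (nL (1 : F) 2 1)⁻¹ * (nU (1 : F) 1 2) * (nL (1 : F) 2 1)⁻¹ * (nU (1 : F) 1 2)⁻¹).1 = M3 1 0 0 0 1 1 2 1 2 := mul_coe_eq w_4 cU
      (by ring) (by linear_combination (1) * hp) (by linear_combination (2) * hp)
      (by ring) (by ring) (by linear_combination (1) * hp)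
      (by ring) (by linear_combination (1) * hp) (by linear_combination (1) * hp)
    have w_6 : ((nL (1 : F) 2 1)⁻¹ * (nU (1 : F) 1 2)⁻¹ * (nL (1 : F) 2 1)⁻¹ * (nU (1 : F) 1 2) * (nL (1 : F) 2 1)⁻¹ * (nU (1 : F) 1 2)⁻¹ * (nL (1 : F) 2 1)⁻¹).1 = M3 1 0 0 0 2 1 0 0 2 := mul_coe_eq w_5 cV
      (by ring) (by ring) (by ring)
      (by linear_combination (1) * hp) (by ring) (by ring)
      (by linear_combination (2) * hp) (by linear_combination (1) * hp) (by ring)
    have h11 : ((1 : F), (1 : F)) ∈ Aset M := (mem_Aset M 1 1).mpr ⟨_, hu⟩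
    have hA1 := Aset_word M (M.mul_mem (M.mul_mem (M.mul_mem (M.mul_mem (M.mul_mem (M.mul_mem hV hU) hV) hu) hV) hU) hV) w_6 (χ₁ := 2) (χ₂ := 1)
      (by linear_combination (-1) * hp) (by ring) h11
    refine addsub_top_prime (Aset M) (by rw [hcard]; norm_num) h11 hA1 ?_
    intro h
    exact one_ne_zero (α := F) (by linear_combination (1) * h)

theorem case_q7 (hcard : Fintype.card F = 7) :
    ∃ u g : SpecialLinearGroup (Fin 3) F,
      IsNilpotent ((u : Matrix (Fin 3) (Fin 3) F) - 1) ∧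
      ((u : Matrix (Fin 3) (Fin 3) F) - 1) ^ (3 - 1) ≠ 0 ∧
      Subgroup.closure ({u, g * u * g⁻¹} : Set (SpecialLinearGroup (Fin 3) F)) = ⊤ := by
  have hp : (7 : F) = 0 := by exact_mod_cast natCast_card_eq 7 hcard
  refine special_nL 3 2 5 4 1 ?_ ?_ ?_ ?_
  · linear_combination (3) * hp
  · intro h
    exact one_ne_zero (α := F) (by linear_combination (2) * h + (-1) * hp)
  · intro h
    exact one_ne_zero (α := F) (by linear_combination (6) * h + (-5) * hp)
  · intro M hu hv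
    have hU : (nU (1 : F) 1 3)⁻¹ ∈ M := M.inv_mem hu
    have hV : (nL (2 : F) 5 4)⁻¹ ∈ M := M.inv_mem hv
    have cu : (nU (1 : F) 1 3).1 = M3 1 1 3 0 1 1 0 0 1 := nU_coe _ _ _
    have cv : (nL (2 : F) 5 4).1 = M3 1 0 0 2 1 0 4 5 1 := nL_coe _ _ _
    have cU : ((nU (1 : F) 1 3)⁻¹).1 = M3 1 6 5 0 1 6 0 0 1 := by
      rw [nU_inv_coe]
      apply M3_ext
      · rfl
      · linear_combination (-1) * hp
      · linear_combination (-1) * hp
      · rfl
      · rfl
      · linear_combination (-1) * hp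
      · rfl
      · rfl
      · rfl
    have cV : ((nL (2 : F) 5 4)⁻¹).1 = M3 1 0 0 5 1 0 6 2 1 := by
      rw [nL_inv_coe]
      apply M3_ext
      · rfl
      · rfl
      · rfl
      · linear_combination (-1) * hp
      · rfl
      · rfl
      · ring
      · linear_combination (-1) * hp
      · rfl
    have w_1 : ((nL (2 : F) 5 4) * (nU (1 : F) 1 3)).1 = M3 1 1 3 2 3 0 4 2 4 := mul_coe_eq cv cu
      (by ring) (by ring) (by ring)
      (by ring) (by ring) (by linear_combination (1) * hp)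
      (by ring) (by linear_combination (1) * hp) (by linear_combination (2) * hp)
    have w_2 : ((nL (2 : F) 5 4) * (nU (1 : F) 1 3) * (nL (2 : F) 5 4)).1 = M3 1 2 3 1 3 0 3 1 4 := mul_coe_eq w_1 cv
      (by linear_combination (2) * hp) (by linear_combination (2) * hp) (by ring)
      (by linear_combination (1) * hp) (by ring) (by ring)
      (by linear_combination (3) * hp) (by linear_combination (3) * hp) (by ring)
    have w_3 : ((nL (2 : F) 5 4) * (nU (1 : F) 1 3) * (nL (2 : F) 5 4) * (nL (2 : F) 5 4)).1 = M3 3 3 3 0 3 0 0 0 4 := mul_coe_eq w_2 cv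
      (by linear_combination (2) * hp) (by linear_combination (2) * hp) (by ring)
      (by linear_combination (1) * hp) (by ring) (by ring)
      (by linear_combination (3) * hp) (by linear_combination (3) * hp) (by ring)
    have h11 : ((1 : F), (1 : F)) ∈ Aset M := (mem_Aset M 1 1).mpr ⟨_, hu⟩
    have hA1 := Aset_word M (M.mul_mem (M.mul_mem (M.mul_mem hv hu) hv) hv) w_3 (χ₁ := 1) (χ₂ := 6)
      (by ring) (by linear_combination (-3) * hp) h11
    refine addsub_top_prime (Aset M) (by rw [hcard]; norm_num) h11 hA1 ?_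
    intro h
    exact one_ne_zero (α := F) (by linear_combination (4) * h + (3) * hp)

theorem case_q4 (hcard : Fintype.card F = 4) :
    ∃ u g : SpecialLinearGroup (Fin 3) F,
      IsNilpotent ((u : Matrix (Fin 3) (Fin 3) F) - 1) ∧
      ((u : Matrix (Fin 3) (Fin 3) F) - 1) ^ (3 - 1) ≠ 0 ∧
      Subgroup.closure ({u, g * u * g⁻¹} : Set (SpecialLinearGroup (Fin 3) F)) = ⊤ := by
  have hp : (2 : F) = 0 := two_eq_zero_of_card_pow 2 (by rw [hcard]; norm_num)
  obtain ⟨t, ht⟩ := exists_omega hcard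
  refine special_nL t t t 1 1 ?_ ?_ ?_ ?_
  · linear_combination (t + 1) * ht + (t + 1) * hp
  · intro h
    exact one_ne_zero (α := F) (by linear_combination (1) * h)
  · intro h
    exact one_ne_zero (α := F) (by linear_combination (t + 1) * h + (-t - 2) * ht + (-t) * hp)
  · intro M hu hv
    have hU : (nU (1 : F) 1 t)⁻¹ ∈ M := M.inv_mem hu
    have hV : (nL (t : F) t 1)⁻¹ ∈ M := M.inv_mem hv
    have cu : (nU (1 : F) 1 t).1 = M3 1 1 t 0 1 1 0 0 1 := nU_coe _ _ _
    have cv : (nL (t : F) t 1).1 = M3 1 0 0 t 1 0 1 t 1 := nL_coe _ _ _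
    have cU : ((nU (1 : F) 1 t)⁻¹).1 = M3 1 1 (t + 1) 0 1 1 0 0 1 := by
      rw [nU_inv_coe]
      apply M3_ext
      · rfl
      · linear_combination (-1) * hp
      · linear_combination (-t) * hp
      · rfl
      · rfl
      · linear_combination (-1) * hp
      · rfl
      · rfl
      · rfl
    have cV : ((nL (t : F) t 1)⁻¹).1 = M3 1 0 0 t 1 0 t t 1 := by
      rw [nL_inv_coe]
      apply M3_ext
      · rfl
      · rfl
      · rfl
      · linear_combination (-t) * hp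
      · rfl
      · rfl
      · linear_combination (1) * ht
      · linear_combination (-t) * hp
      · rfl
    have w_1 : ((nL (t : F) t 1)⁻¹ * (nU (1 : F) 1 t)⁻¹).1 = M3 1 1 (t + 1) t (t + 1) 0 t 0 t := mul_coe_eq cV cU
      (by ring) (by ring) (by ring)
      (by ring) (by ring) (by linear_combination (1) * ht + (t + 1) * hp)
      (by ring) (by linear_combination (t) * hp) (by linear_combination (1) * ht + (t + 1) * hp)
    have w_2 : ((nL (t : F) t 1)⁻¹ * (nU (1 : F) 1 t)⁻¹ * (nL (t : F) t 1)).1 = M3 0 0 (t + 1) (t + 1) (t + 1) 0 0 (t + 1) t := mul_coe_eq w_1 cv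
      (by linear_combination (t + 1) * hp) (by linear_combination (1) * ht + (t + 1) * hp) (by ring)
      (by linear_combination (1) * ht + (t) * hp) (by ring) (by ring)
      (by linear_combination (t) * hp) (by linear_combination (1) * ht) (by ring)
    have w_3 : ((nL (t : F) t 1)⁻¹ * (nU (1 : F) 1 t)⁻¹ * (nL (t : F) t 1) * (nU (1 : F) 1 t)⁻¹).1 = M3 0 0 (t + 1) (t + 1) 0 1 0 (t + 1) 1 := mul_coe_eq w_2 cU
      (by ring) (by ring) (by ring)
      (by ring) (by linear_combination (t + 1) * hp) (by linear_combination (1) * ht + (2 * t + 1) * hp)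
      (by ring) (by ring) (by linear_combination (t) * hp)
    have w_4 : ((nL (t : F) t 1)⁻¹ * (nU (1 : F) 1 t)⁻¹ * (nL (t : F) t 1) * (nU (1 : F) 1 t)⁻¹ * (nL (t : F) t 1)).1 = M3 (t + 1) 1 (t + 1) t t 1 0 1 1 := mul_coe_eq w_3 cv
      (by ring) (by linear_combination (1) * ht + (t) * hp) (by ring)
      (by linear_combination (1) * hp) (by ring) (by ring)
      (by linear_combination (1) * ht + (t + 1) * hp) (by linear_combination (t) * hp) (by ring)
    have w_5 : ((nL (t : F) t 1)⁻¹ * (nU (1 : F) 1 t)⁻¹ * (nL (t : F) t 1) * (nU (1 : F) 1 t)⁻¹ * (nL (t : F) t 1) * (nU (1 : F) 1 t)).1 = M3 (t + 1) t (t + 1) t 0 0 0 1 0 := mul_coe_eq w_4 cu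
      (by ring) (by linear_combination (1) * hp) (by linear_combination (1) * ht + (t + 1) * hp)
      (by ring) (by linear_combination (t) * hp) (by linear_combination (1) * ht + (t + 1) * hp)
      (by ring) (by ring) (by linear_combination (1) * hp)
    have w_6 : ((nL (t : F) t 1)⁻¹ * (nU (1 : F) 1 t)⁻¹ * (nL (t : F) t 1) * (nU (1 : F) 1 t)⁻¹ * (nL (t : F) t 1) * (nU (1 : F) 1 t) * (nL (t : F) t 1)⁻¹).1 = M3 1 (t + 1) (t + 1) t 0 0 t 1 0 := mul_coe_eq w_5 cV
      (by linear_combination (2) * ht + (2 * t + 1) * hp) (by linear_combination (1) * ht + (t) * hp) (by ring)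
      (by ring) (by ring) (by ring)
      (by ring) (by ring) (by ring)
    have w_7 : ((nL (t : F) t 1)⁻¹ * (nU (1 : F) 1 t)⁻¹ * (nL (t : F) t 1) * (nU (1 : F) 1 t)⁻¹ * (nL (t : F) t 1) * (nU (1 : F) 1 t) * (nL (t : F) t 1)⁻¹ * (nU (1 : F) 1 t)).1 = M3 1 t t t t (t + 1) t (t + 1) t := mul_coe_eq w_6 cu
      (by ring) (by linear_combination (1) * hp) (by linear_combination (t + 1) * hp)
      (by ring) (by ring) (by linear_combination (1) * ht)
      (by ring) (by ring) (by linear_combination (1) * ht + (1) * hp)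
    have w_8 : ((nL (t : F) t 1)⁻¹ * (nU (1 : F) 1 t)⁻¹ * (nL (t : F) t 1) * (nU (1 : F) 1 t)⁻¹ * (nL (t : F) t 1) * (nU (1 : F) 1 t) * (nL (t : F) t 1)⁻¹ * (nU (1 : F) 1 t) * (nL (t : F) t 1)⁻¹).1 = M3 1 1 t 0 (t + 1) (t + 1) 0 0 t := mul_coe_eq w_7 cV
      (by linear_combination (2) * ht + (t + 1) * hp) (by linear_combination (1) * ht + (t) * hp) (by ring)
      (by linear_combination (2) * ht + (2 * t + 1) * hp) (by linear_combination (1) * ht + (t) * hp) (by ring)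
      (by linear_combination (2) * ht + (2 * t + 1) * hp) (by linear_combination (1) * ht + (t + 1) * hp) (by ring)
    have y_1 : ((nL (t : F) t 1)⁻¹ * (nU (1 : F) 1 t)).1 = M3 1 1 t t (t + 1) t t 0 0 := mul_coe_eq cV cu
      (by ring) (by ring) (by ring)
      (by ring) (by ring) (by linear_combination (1) * ht + (1) * hp)
      (by ring) (by linear_combination (t) * hp) (by linear_combination (1) * ht + (t + 1) * hp)
    have y_2 : ((nL (t : F) t 1)⁻¹ * (nU (1 : F) 1 t) * (nL (t : F) t 1)).1 = M3 1 t t 1 0 t t 0 0 := mul_coe_eq y_1 cv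
      (by linear_combination (t) * hp) (by linear_combination (1) * ht + (1) * hp) (by ring)
      (by linear_combination (1) * ht + (2 * t) * hp) (by linear_combination (1) * ht + (t + 1) * hp) (by ring)
      (by ring) (by ring) (by ring)
    have y_3 : ((nL (t : F) t 1)⁻¹ * (nU (1 : F) 1 t) * (nL (t : F) t 1) * (nL (t : F) t 1)).1 = M3 0 1 t (t + 1) (t + 1) t t 0 0 := mul_coe_eq y_2 cv
      (by linear_combination (1) * ht + (t + 1) * hp) (by linear_combination (1) * ht + (t) * hp) (by ring)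
      (by ring) (by linear_combination (1) * ht) (by ring)
      (by ring) (by ring) (by ring)
    have y_4 : ((nL (t : F) t 1)⁻¹ * (nU (1 : F) 1 t) * (nL (t : F) t 1) * (nL (t : F) t 1) * (nU (1 : F) 1 t)⁻¹).1 = M3 0 1 (t + 1) (t + 1) 0 (t + 1) t t 1 := mul_coe_eq y_3 cU
      (by ring) (by ring) (by ring)
      (by ring) (by linear_combination (t + 1) * hp) (by linear_combination (1) * ht + (2 * t + 1) * hp)
      (by ring) (by ring) (by linear_combination (1) * ht + (t) * hp)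
    have y_5 : ((nL (t : F) t 1)⁻¹ * (nU (1 : F) 1 t) * (nL (t : F) t 1) * (nL (t : F) t 1) * (nU (1 : F) 1 t)⁻¹ * (nL (t : F) t 1)).1 = M3 1 0 (t + 1) 0 1 (t + 1) 0 0 1 := mul_coe_eq y_4 cv
      (by linear_combination (t) * hp) (by linear_combination (1) * ht + (t + 1) * hp) (by ring)
      (by linear_combination (t + 1) * hp) (by linear_combination (1) * ht + (t) * hp) (by ring)
      (by linear_combination (1) * ht + (t + 1) * hp) (by linear_combination (t) * hp) (by ring)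
    have h11 : ((1 : F), (1 : F)) ∈ Aset M := (mem_Aset M 1 1).mpr ⟨_, hu⟩
    have h0t : ((0 : F), (t + 1 : F)) ∈ Aset M := mem_Aset_of_coe M (M.mul_mem (M.mul_mem (M.mul_mem (M.mul_mem (M.mul_mem hV hu) hv) hv) hU) hv) y_5
    refine addsub_top_scalar (Aset M) (χ := t) h11 h0t ?_ ?_ ?_
    · intro h
      exact one_ne_zero (α := F) (by linear_combination (t) * h + (-1) * ht + (-t) * hp)
    · intro x y hxy
      exact Aset_word M (M.mul_mem (M.mul_mem (M.mul_mem (M.mul_mem (M.mul_mem (M.mul_mem (M.mul_mem (M.mul_mem hV hU) hv) hU) hv) hu) hV) hu) hV) w_8 (χ₁ := t) (χ₂ := t)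
        (by linear_combination (-1) * ht + (-t) * hp) (by linear_combination (-1) * ht) hxy
    · apply fg_of
      intro k m hk hm hc h
      rw [hcard] at hc
      obtain rfl := pow_eq_four hk hm hc
      exact one_ne_zero (α := F) (by linear_combination (1) * h + (-1) * ht)

theorem case_q16 (hcard : Fintype.card F = 16) :
    ∃ u g : SpecialLinearGroup (Fin 3) F,
      IsNilpotent ((u : Matrix (Fin 3) (Fin 3) F) - 1) ∧
      ((u : Matrix (Fin 3) (Fin 3) F) - 1) ^ (3 - 1) ≠ 0 ∧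
      Subgroup.closure ({u, g * u * g⁻¹} : Set (SpecialLinearGroup (Fin 3) F)) = ⊤ := by
  have hp : (2 : F) = 0 := two_eq_zero_of_card_pow 4 (by rw [hcard]; norm_num)
  obtain ⟨t, ht⟩ := exists_zeta hcard
  refine special_nL 0 (t ^ 2) (t ^ 2) (t ^ 3) (t ^ 3) ?_ ?_ ?_ ?_
  · linear_combination (t ^ 11 + t ^ 10 + 2 * t ^ 9 + 4 * t ^ 8 + 8 * t ^ 7 + 15 * t ^ 6 + 29 * t ^ 5 + 56 * t ^ 4 + 108 * t ^ 3 + 208 * t ^ 2 + 401 * t + 773) * ht + (745 * t ^ 3 + 691 * t ^ 2 + 587 * t + 387) * hp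
  · intro h
    exact one_ne_zero (α := F) (by linear_combination (t ^ 2) * h + (-t - 1) * ht + (-t ^ 3 - t ^ 2 - t) * hp)
  · intro h
    exact one_ne_zero (α := F) (by linear_combination (t ^ 3 + 1) * h + (-t ^ 3 - t - 3) * ht + (-2 * t ^ 3 - 2 * t ^ 2 - 2 * t - 1) * hp)
  · intro M hu hv
    have hU : (nU (1 : F) 1 0)⁻¹ ∈ M := M.inv_mem hu
    have hV : (nL (t ^ 2 : F) (t ^ 2) (t ^ 3))⁻¹ ∈ M := M.inv_mem hv
    have cu : (nU (1 : F) 1 0).1 = M3 1 1 0 0 1 1 0 0 1 := nU_coe _ _ _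
    have cv : (nL (t ^ 2 : F) (t ^ 2) (t ^ 3)).1 = M3 1 0 0 (t ^ 2) 1 0 (t ^ 3) (t ^ 2) 1 := nL_coe _ _ _
    have cU : ((nU (1 : F) 1 0)⁻¹).1 = M3 1 1 1 0 1 1 0 0 1 := by
      rw [nU_inv_coe]
      apply M3_ext
      · rfl
      · linear_combination (-1) * hp
      · ring
      · rfl
      · rfl
      · linear_combination (-1) * hp
      · rfl
      · rfl
      · rfl
    have cV : ((nL (t ^ 2 : F) (t ^ 2) (t ^ 3))⁻¹).1 = M3 1 0 0 (t ^ 2) 1 0 (t ^ 2 + t + 1) (t ^ 2) 1 := by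
      rw [nL_inv_coe]
      apply M3_ext
      · rfl
      · rfl
      · rfl
      · linear_combination (-t ^ 2) * hp
      · rfl
      · rfl
      · linear_combination (1) * ht
      · linear_combination (-t ^ 2) * hp
      · rfl
    have w_1 : ((nL (t ^ 2 : F) (t ^ 2) (t ^ 3))⁻¹ * (nU (1 : F) 1 0)).1 = M3 1 1 0 (t ^ 2) (t ^ 2 + 1) 1 (t ^ 2 + t + 1) (t + 1) (t ^ 2 + 1) := mul_coe_eq cV cu
      (by ring) (by ring) (by ring)
      (by ring) (by ring) (by ring)
      (by ring) (by linear_combination (t ^ 2) * hp) (by ring)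
    have w_2 : ((nL (t ^ 2 : F) (t ^ 2) (t ^ 3))⁻¹ * (nU (1 : F) 1 0) * (nL (t ^ 2 : F) (t ^ 2) (t ^ 3))).1 = M3 (t ^ 2 + 1) 1 0 (t ^ 2 + t + 1) 1 1 t (t ^ 3) (t ^ 2 + 1) := mul_coe_eq w_1 cv
      (by ring) (by ring) (by ring)
      (by linear_combination (1) * ht + (t ^ 3 + t ^ 2) * hp) (by linear_combination (t ^ 2) * hp) (by ring)
      (by linear_combination (t + 1) * ht + (2 * t ^ 3 + 2 * t ^ 2 + t + 1) * hp) (by linear_combination (1) * ht + (t ^ 2 + t + 1) * hp) (by ring)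
    have w_3 : ((nL (t ^ 2 : F) (t ^ 2) (t ^ 3))⁻¹ * (nU (1 : F) 1 0) * (nL (t ^ 2 : F) (t ^ 2) (t ^ 3)) * (nU (1 : F) 1 0)).1 = M3 (t ^ 2 + 1) (t ^ 2) 1 (t ^ 2 + t + 1) (t ^ 2 + t) 0 t (t ^ 3 + t) (t ^ 3 + t ^ 2 + 1) := mul_coe_eq w_2 cu
      (by ring) (by linear_combination (1) * hp) (by ring)
      (by ring) (by linear_combination (1) * hp) (by linear_combination (1) * hp)
      (by ring) (by ring) (by ring)
    have w_4 : ((nL (t ^ 2 : F) (t ^ 2) (t ^ 3))⁻¹ * (nU (1 : F) 1 0) * (nL (t ^ 2 : F) (t ^ 2) (t ^ 3)) * (nU (1 : F) 1 0) * (nL (t ^ 2 : F) (t ^ 2) (t ^ 3))).1 = M3 t 0 1 0 (t ^ 2 + t) 0 0 0 (t ^ 3 + t ^ 2 + 1) := mul_coe_eq w_3 cv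
      (by linear_combination (1) * ht + (t ^ 3 + t ^ 2 + 1) * hp) (by linear_combination (t ^ 2) * hp) (by ring)
      (by linear_combination (1) * ht + (t ^ 3 + t ^ 2 + t + 1) * hp) (by ring) (by ring)
      (by linear_combination (t ^ 2 + 3 * t + 4) * ht + (5 * t ^ 3 + 4 * t ^ 2 + 4 * t + 2) * hp) (by linear_combination (t + 2) * ht + (2 * t ^ 3 + 2 * t ^ 2 + 2 * t + 1) * hp) (by ring)
    have h11 : ((1 : F), (1 : F)) ∈ Aset M := (mem_Aset M 1 1).mpr ⟨_, hu⟩
    refine addsub_top (Aset M) (χ₁ := t ^ 3 + t) (χ₂ := t ^ 3 + 1) h11 ?_ ?_ ?_ ?_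
    · intro x y hxy
      exact Aset_word M (M.mul_mem (M.mul_mem (M.mul_mem (M.mul_mem hV hu) hv) hu) hv) w_4 (χ₁ := t ^ 3 + t) (χ₂ := t ^ 3 + 1)
        (by linear_combination (-t - 2) * ht + (-2 * t ^ 3 - 2 * t ^ 2 - t - 1) * hp) (by linear_combination (-t ^ 2 - 2 * t - 3) * ht + (-4 * t ^ 3 - 3 * t ^ 2 - 2 * t - 2) * hp) hxy
    · apply fg_of
      intro k m hk hm hc h
      rw [hcard] at hc
      rcases pow_eq_sixteen hk hm hc with rfl | rfl
      · exact one_ne_zero (α := F) (by linear_combination (t ^ 3 + t ^ 2 + 1) * h + (-t ^ 5 - 2 * t ^ 4 - 5 * t ^ 3 - 10 * t ^ 2 - 18 * t - 37) * ht + (-34 * t ^ 3 - 33 * t ^ 2 - 27 * t - 18) * hp)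
      · exact one_ne_zero (α := F) (by linear_combination (1) * h + (-t ^ 8 - t ^ 7 - 6 * t ^ 6 - 8 * t ^ 5 - 22 * t ^ 4 - 37 * t ^ 3 - 77 * t ^ 2 - 144 * t - 281) * ht + (-269 * t ^ 3 - 251 * t ^ 2 - 212 * t - 140) * hp)
    · apply fg_of
      intro k m hk hm hc h
      rw [hcard] at hc
      rcases pow_eq_sixteen hk hm hc with rfl | rfl
      · exact one_ne_zero (α := F) (by linear_combination (t + 1) * h + (-t ^ 3 - 2 * t ^ 2 - 3 * t - 7) * ht + (-7 * t ^ 3 - 6 * t ^ 2 - 5 * t - 3) * hp)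
      · exact one_ne_zero (α := F) (by linear_combination (t ^ 3 + t ^ 2 + 1) * h + (-t ^ 11 - 2 * t ^ 10 - 3 * t ^ 9 - 11 * t ^ 8 - 21 * t ^ 7 - 37 * t ^ 6 - 82 * t ^ 5 - 157 * t ^ 4 - 297 * t ^ 3 - 582 * t ^ 2 - 1121 * t - 2157) * ht + (-2080 * t ^ 3 - 1930 * t ^ 2 - 1639 * t - 1078) * hp)
    · intro σ h
      obtain ⟨a', b', hab, hσ⟩ := ringHom_eq_pow σ
      rw [hσ] at h
      rw [hcard] at hab
      rcases dvd_sixteen hab with rfl | rfl | rfl | rfl | rfl
      · exact one_ne_zero (α := F) (by linear_combination (t ^ 3 + t) * h + (-1) * ht + (-t ^ 2) * hp)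
      · exact one_ne_zero (α := F) (by linear_combination (t) * h + (-t ^ 3 - t ^ 2 - 4 * t - 5) * ht + (-6 * t ^ 3 - 5 * t ^ 2 - 4 * t - 2) * hp)
      · exact one_ne_zero (α := F) (by linear_combination (t ^ 3 + t ^ 2 + t + 1) * h + (-t ^ 11 - 2 * t ^ 10 - 8 * t ^ 9 - 16 * t ^ 8 - 37 * t ^ 7 - 73 * t ^ 6 - 144 * t ^ 5 - 280 * t ^ 4 - 539 * t ^ 3 - 1040 * t ^ 2 - 2003 * t - 3862) * ht + (-3721 * t ^ 3 - 3452 * t ^ 2 - 2932 * t - 1930) * hp)
      · exact one_ne_zero (α := F) (by linear_combination (t ^ 3 + t + 1) * h + (-t ^ 23 - t ^ 22 - 11 * t ^ 21 - 14 * t ^ 20 - 63 * t ^ 19 - 97 * t ^ 18 - 269 * t ^ 17 - 471 * t ^ 16 - 1026 * t ^ 15 - 1919 * t ^ 14 - 3811 * t ^ 13 - 7297 * t ^ 12 - 14137 * t ^ 11 - 27220 * t ^ 10 - 52501 * t ^ 9 - 101183 * t ^ 8 - 195050 * t ^ 7 - 375962 * t ^ 6 - 724697 * t ^ 5 - 1396893 * t ^ 4 - 2692602 * t ^ 3 - 5190153 * t ^ 2 - 10004345 * t - 19283992) * ht + (-18585545 * t ^ 3 - 17239245 * t ^ 2 - 14644168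 * t - 9641995) * hp)
      · exact one_ne_zero (α := F) (by linear_combination (t ^ 3 + t) * h + (-t ^ 47 - t ^ 46 - 19 * t ^ 45 - 21 * t ^ 44 - 178 * t ^ 43 - 219 * t ^ 42 - 1117 * t ^ 41 - 1535 * t ^ 40 - 5429 * t ^ 39 - 8300 * t ^ 38 - 22569 * t ^ 37 - 37833 * t ^ 36 - 86507 * t ^ 35 - 155209 * t ^ 34 - 321566 * t ^ 33 - 601115 * t ^ 32 - 1188707 * t ^ 31 - 2266597 * t ^ 30 - 4402295 * t ^ 29 - 8458714 * t ^ 28 - 16335761 * t ^ 27 - 31463367 * t ^ 26 - 60672513 * t ^ 25 - 116930355 * t ^ 24 - 225408184 * t ^ 23 - 434474419 * t ^ 22 - 837487851 * t ^ 21 - 1614300809 * t ^ 20 - 3111671943 * t ^ 19 - 5997935022 * t ^ 18 - 11561395761 * t ^ 17 - 22285303535 * t ^ 16 - 42956306278 * t ^ 15 - 82800940596 * t ^ 14 - 159603946171 * t ^ 13 - 307646496580 * t ^ 12 - 593007689625 * t ^ 11 - 1143059072972 * t ^ 10 - 2203317205348 * t ^ 9 - 4247030464525 * t ^ 8 - 8186414432470 * t ^ 7 - 15779821175315 * t ^ 6 - 30416583277658 * t ^ 5 - 58629849349968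 * t ^ 4 - 113012668235411 * t ^ 3 - 217838922038351 * t ^ 2 - 419898022901388 * t - 809379462525117) * ht + (-780064537850133 * t ^ 3 - 723558203732428 * t ^ 2 - 614638742713252 * t - 404689731262558) * hp)

end Cfsg.Agent.Lib.Helper1.Ru
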