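import Mathlib
import Cfsg.Prelude
import Cfsg.Agent.Lib.Helper1.Ru5

set_option autoImplicit false
set_option maxHeartbeats 4000000
set_option linter.unusedVariables false
set_option linter.unusedSectionVars false
set_option linter.style.longLine false

/-! Two conjugate regular unipotent elements of `SL_3(F)`: the theorem. -/

namespace Cfsg.Agent.Lib.Helper1.Ru

open Matrix

variable {F : Type*} [Field F] [Fintype F]

theorem main :
    ∃ u g : SpecialLinearGroup (Fin 3) F,
      IsNilpotent ((u : Matrix (Fin 3) (Fin 3) F) - 1) ∧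
      ((u : Matrix (Fin 3) (Fin 3) F) - 1) ^ (3 - 1) ≠ 0 ∧
      Subgroup.closure ({u, g * u * g⁻¹} : Set (SpecialLinearGroup (Fin 3) F)) = ⊤ := by
  have h2 : 2 ≤ Fintype.card F := Fintype.one_lt_card
  by_cases c2 : Fintype.card F = 2
  · exact case_q2 c2
  by_cases c3 : Fintype.card F = 3
  · exact case_q3 c3
  by_cases c4 : Fintype.card F = 4
  · exact case_q4 c4
  by_cases c7 : Fintype.card F = 7
  · exact case_q7 c7
  by_cases c16 : Fintype.card F = 16
  · exact case_q16 c16
  exact main_generic (by omega) c7 c16

end Cfsg.Agent.Lib.Helper1.Ru
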