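/-
Farm RU (S3174), unit C: the Frattini subgroup of `W` gives a `FratLike`.
-/
import Mathlib
import Cfsg.Agent.Lib.Helper3.RuSylDefs
import Cfsg.Agent.Lib.Helper1.FrattiniP

set_option autoImplicit false

namespace Cfsg.Agent.Lib.Helper1.RuSylC

open Cfsg.Agent.Lib.Helper3.RuSyl
open scoped commutatorElement

variable {T : Type*} [Group T]

theorem fratLike_of_frattini [Finite T] (hT : IsPGroup 2 T) (W : Subgroup T) [W.Normal]
    (hd : ∀ U : Subgroup ↥W, U.index ≤ 16 → frattini ↥W ≤ U) :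
    FratLike W ((frattini ↥W).map W.subtype) := by
  have : Fact (Nat.Prime 2) := ⟨Nat.prime_two⟩
  have hW : IsPGroup 2 ↥W := hT.to_subgroup W
  refine ⟨Subgroup.map_subtype_le _, inferInstance, ?_, ?_, ?_, ?_⟩
  · intro x hx
    have h := Cfsg.Agent.Lib.Helper1.pow_prime_mem_frattini_of_isPGroup 2 hW ⟨x, hx⟩
    exact ⟨_, h, rfl⟩
  · intro x hx y hy
    have h1 := Cfsg.Agent.Lib.Helper1.commutator_le_frattini_of_isPGroup 2 hW
    have h2 : ⁅(⟨x, hx⟩ : W), ⟨y, hy⟩⁆ ∈ commutator W :=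
      Subgroup.commutator_mem_commutator (Subgroup.mem_top _) (Subgroup.mem_top _)
    refine ⟨_, h1 h2, ?_⟩
    simp [commutatorElement_def]
  · intro N hNW hN
    obtain ⟨x, hxN, hxΦ⟩ := SetLike.not_le_iff_exists.mp hN
    have hxW : x ∈ W := hNW hxN
    have hx' : (⟨x, hxW⟩ : W) ∉ frattini W := fun h => hxΦ ⟨_, h, rfl⟩
    have hex : ∃ M : Subgroup W, IsCoatom M ∧ (⟨x, hxW⟩ : W) ∉ M := by
      by_contra hcon
      push Not at hcon
      apply hx'
      unfold frattini Order.radical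
      rw [Subgroup.mem_iInf]
      intro M
      rw [Subgroup.mem_iInf]
      intro hM
      exact hcon M hM
    obtain ⟨M, hM, hxM⟩ := hex
    refine ⟨M.map W.subtype, Subgroup.map_subtype_le _, ?_, ?_, ?_⟩
    · have e : (M.map W.subtype).subgroupOf W = M :=
        Subgroup.comap_map_eq_self_of_injective (Subgroup.subtype_injective W) M
      rw [Subgroup.relIndex, e]
      exact Cfsg.Agent.Lib.Helper1.index_eq_prime_of_isCoatom 2 hW M hM
    · exact Subgroup.map_mono (frattini_le_coatom hM)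
    · intro hle
      obtain ⟨m, hm, hmx⟩ := hle hxN
      apply hxM
      have : m = ⟨x, hxW⟩ := Subtype.ext hmx
      rw [← this]
      exact hm
  · intro U _ hU
    have h := hd (U.subgroupOf W) hU
    intro y hy
    obtain ⟨w, hw, rfl⟩ := hy
    exact Subgroup.mem_subgroupOf.mp (h hw)

end Cfsg.Agent.Lib.Helper1.RuSylC
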