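/-
Farm RU (S3174), unit G: class-2 calculus over the structure `Cal`.
-/
import Mathlib
import Cfsg.Agent.Lib.Helper3.RuSylDefs

set_option autoImplicit false

namespace Cfsg.Agent.Lib.Helper1.RuSylG

open Cfsg.Agent.Lib.Helper3.RuSyl

variable {T : Type*} [Group T]

/-- central factors do not change a commutator -/
theorem comm_central (a b ζ ζ' : T) (h1 : ζ * (b * ζ') = (b * ζ') * ζ) (h2 : ζ' * a⁻¹ = a⁻¹ * ζ') :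
    (a * ζ) * (b * ζ') * (a * ζ)⁻¹ * (b * ζ')⁻¹ = a * b * a⁻¹ * b⁻¹ := by
  calc (a * ζ) * (b * ζ') * (a * ζ)⁻¹ * (b * ζ')⁻¹
      = a * (ζ * (b * ζ')) * ζ⁻¹ * a⁻¹ * (b * ζ')⁻¹ := by group
    _ = a * ((b * ζ') * ζ) * ζ⁻¹ * a⁻¹ * (b * ζ')⁻¹ := by rw [h1]
    _ = a * b * (ζ' * a⁻¹) * ζ'⁻¹ * b⁻¹ := by group
    _ = a * b * (a⁻¹ * ζ') * ζ'⁻¹ * b⁻¹ := by rw [h2]
    _ = a * b * a⁻¹ * b⁻¹ := by group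

section cal

variable {W Z Z2 : Subgroup T} (K : Cal W Z Z2)
include K

theorem nrm_mem (τ y : T) (hy : y ∈ W) : nrm τ y ∈ W :=
  W.mul_mem hy (K.nW.conj_mem y hy τ)

/-- conjugating a norm by `τ` changes it by a central factor -/
theorem conj_nrm (τ : T) (hτ : τ * τ ∈ W) (y : T) (hy : y ∈ W) :
    ∃ ζ ∈ Z, τ * nrm τ y * τ⁻¹ = nrm τ y * ζ := by
  have hy1 : τ * y * τ⁻¹ ∈ W := K.nW.conj_mem y hy τ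
  have hk : (τ * τ) * y * (τ * τ)⁻¹ * y⁻¹ ∈ Z := K.comm _ hτ y hy
  have hc : (τ * y * τ⁻¹)⁻¹ * y⁻¹ * (τ * y * τ⁻¹) * y ∈ Z := by
    have := K.comm (τ * y * τ⁻¹)⁻¹ (W.inv_mem hy1) y⁻¹ (W.inv_mem hy)
    rw [inv_inv, inv_inv] at this
    exact this
  have hw' : (τ * y * τ⁻¹)⁻¹ * y⁻¹ * (τ * y * τ⁻¹) ∈ W :=
    W.mul_mem (W.mul_mem (W.inv_mem hy1) (W.inv_mem hy)) hy1
  refine ⟨(nrm τ y)⁻¹ * (τ * nrm τ y * τ⁻¹), ?_, by group⟩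
  have e : (nrm τ y)⁻¹ * (τ * nrm τ y * τ⁻¹) =
      ((τ * τ) * y * (τ * τ)⁻¹ * y⁻¹) * ((τ * y * τ⁻¹)⁻¹ * y⁻¹ * (τ * y * τ⁻¹) * y) := by
    have e1 : (nrm τ y)⁻¹ * (τ * nrm τ y * τ⁻¹) =
        ((τ * y * τ⁻¹)⁻¹ * y⁻¹ * (τ * y * τ⁻¹)) * ((τ * τ) * y * (τ * τ)⁻¹ * y⁻¹) * y := by
      unfold nrm; group
    rw [e1, ← K.cen _ hk _ hw']
    group
  rw [e]
  exact Z.mul_mem hk hc

theorem norm_sq (τ : T) (hτ : τ * τ ∈ W)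
    (hfix : ∀ z ∈ Z, τ * z * τ⁻¹ = z → z ∈ Z2) (y : T) (hy : y ∈ W) : nrm τ y ^ 2 ∈ Z2 := by
  have hN : nrm τ y ∈ W := nrm_mem K τ y hy
  obtain ⟨ζ, hζ, e⟩ := conj_nrm K τ hτ y hy
  apply hfix _ (K.sq _ hN)
  have hcen : ζ * nrm τ y = nrm τ y * ζ := K.cen ζ hζ _ hN
  have hζ2 : ζ * ζ = 1 := by rw [← pow_two]; exact K.zsq ζ hζ
  calc τ * nrm τ y ^ 2 * τ⁻¹ = τ * (nrm τ y * nrm τ y) * τ⁻¹ := by rw [pow_two]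
    _ = (τ * nrm τ y * τ⁻¹) * (τ * nrm τ y * τ⁻¹) := by group
    _ = (nrm τ y * ζ) * (nrm τ y * ζ) := by rw [e]
    _ = nrm τ y * (ζ * nrm τ y) * ζ := by group
    _ = nrm τ y * (nrm τ y * ζ) * ζ := by rw [hcen]
    _ = nrm τ y * nrm τ y * (ζ * ζ) := by group
    _ = nrm τ y ^ 2 := by rw [hζ2, mul_one, pow_two]

theorem norm_comm (τ : T) (hτ : τ * τ ∈ W)
    (hfix : ∀ z ∈ Z, τ * z * τ⁻¹ = z → z ∈ Z2) (y y' : T) (hy : y ∈ W) (hy' : y' ∈ W) :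
    nrm τ y * nrm τ y' * (nrm τ y)⁻¹ * (nrm τ y')⁻¹ ∈ Z2 := by
  have hN : nrm τ y ∈ W := nrm_mem K τ y hy
  have hN' : nrm τ y' ∈ W := nrm_mem K τ y' hy'
  obtain ⟨ζ, hζ, e⟩ := conj_nrm K τ hτ y hy
  obtain ⟨ζ', hζ', e'⟩ := conj_nrm K τ hτ y' hy'
  apply hfix _ (K.comm _ hN _ hN')
  have h1 : ζ * (nrm τ y' * ζ') = (nrm τ y' * ζ') * ζ :=
    K.cen ζ hζ _ (W.mul_mem hN' (K.le hζ'))
  have h2 : ζ' * (nrm τ y)⁻¹ = (nrm τ y)⁻¹ * ζ' := K.cen ζ' hζ' _ (W.inv_mem hN)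
  calc τ * (nrm τ y * nrm τ y' * (nrm τ y)⁻¹ * (nrm τ y')⁻¹) * τ⁻¹
      = (τ * nrm τ y * τ⁻¹) * (τ * nrm τ y' * τ⁻¹) * (τ * nrm τ y * τ⁻¹)⁻¹ * (τ * nrm τ y' * τ⁻¹)⁻¹ := by
        group
    _ = (nrm τ y * ζ) * (nrm τ y' * ζ') * (nrm τ y * ζ)⁻¹ * (nrm τ y' * ζ')⁻¹ := by rw [e, e']
    _ = nrm τ y * nrm τ y' * (nrm τ y)⁻¹ * (nrm τ y')⁻¹ := comm_central _ _ _ _ h1 h2

theorem norm_comm_of_central (τ : T) (hτ : τ * τ ∈ W)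
    (y n : T) (hy : y ∈ W) (hn : n ∈ W) (hcen : nrm τ n * y = y * nrm τ n) :
    nrm τ y * n * (nrm τ y)⁻¹ * n⁻¹ ∈ Z2 := by
  have hy1 : τ * y * τ⁻¹ ∈ W := K.nW.conj_mem y hy τ
  have hn1 : τ * n * τ⁻¹ ∈ W := K.nW.conj_mem n hn τ
  -- the three commutators
  have hc1 : (τ * y * τ⁻¹) * n * (τ * y * τ⁻¹)⁻¹ * n⁻¹ ∈ Z := K.comm _ hy1 _ hn
  have hc2 : y * n * y⁻¹ * n⁻¹ ∈ Z := K.comm _ hy _ hn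
  have hc3 : y * (τ * n * τ⁻¹) * y⁻¹ * (τ * n * τ⁻¹)⁻¹ ∈ Z := K.comm _ hy _ hn1
  have hk : (τ * τ) * y * (τ * τ)⁻¹ * y⁻¹ ∈ Z := K.comm _ hτ y hy
  -- (i)
  have e1 : nrm τ y * n * (nrm τ y)⁻¹ * n⁻¹ =
      ((τ * y * τ⁻¹) * n * (τ * y * τ⁻¹)⁻¹ * n⁻¹) * (y * n * y⁻¹ * n⁻¹) := by
    have : nrm τ y * n * (nrm τ y)⁻¹ * n⁻¹ =
        y * ((τ * y * τ⁻¹) * n * (τ * y * τ⁻¹)⁻¹ * n⁻¹) * y⁻¹ * (y * n * y⁻¹ * n⁻¹) := by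
      unfold nrm; group
    rw [this, ← K.cen _ hc1 y hy]
    group
  -- (ii)
  have e2 : τ * ((τ * y * τ⁻¹) * n * (τ * y * τ⁻¹)⁻¹ * n⁻¹) * τ⁻¹ =
      y * (τ * n * τ⁻¹) * y⁻¹ * (τ * n * τ⁻¹)⁻¹ := by
    have hw' : y * (τ * n * τ⁻¹) * y⁻¹ ∈ W := W.mul_mem (W.mul_mem hy hn1) (W.inv_mem hy)
    calc τ * ((τ * y * τ⁻¹) * n * (τ * y * τ⁻¹)⁻¹ * n⁻¹) * τ⁻¹
        = ((τ * τ) * y * (τ * τ)⁻¹ * y⁻¹) * (y * (τ * n * τ⁻¹) * y⁻¹) *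
            ((τ * τ) * y * (τ * τ)⁻¹ * y⁻¹)⁻¹ * (τ * n * τ⁻¹)⁻¹ := by group
      _ = (y * (τ * n * τ⁻¹) * y⁻¹) * ((τ * τ) * y * (τ * τ)⁻¹ * y⁻¹) *
            ((τ * τ) * y * (τ * τ)⁻¹ * y⁻¹)⁻¹ * (τ * n * τ⁻¹)⁻¹ := by rw [K.cen _ hk _ hw']
      _ = y * (τ * n * τ⁻¹) * y⁻¹ * (τ * n * τ⁻¹)⁻¹ := by group
  have h31 : (y * (τ * n * τ⁻¹) * y⁻¹ * (τ * n * τ⁻¹)⁻¹) *
      ((τ * y * τ⁻¹) * n * (τ * y * τ⁻¹)⁻¹ * n⁻¹)⁻¹ ∈ Z2 := by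
    rw [← e2]
    exact K.act _ hc1 τ
  -- (iii)
  have e3 : (y * n * y⁻¹ * n⁻¹) * (y * (τ * n * τ⁻¹) * y⁻¹ * (τ * n * τ⁻¹)⁻¹) = 1 := by
    have h0 : y * nrm τ n * y⁻¹ * (nrm τ n)⁻¹ = 1 := by
      rw [← hcen]; group
    have : y * nrm τ n * y⁻¹ * (nrm τ n)⁻¹ =
        (y * n * y⁻¹ * n⁻¹) * (n * (y * (τ * n * τ⁻¹) * y⁻¹ * (τ * n * τ⁻¹)⁻¹) * n⁻¹) := by
      unfold nrm; group
    have hcn : n * (y * (τ * n * τ⁻¹) * y⁻¹ * (τ * n * τ⁻¹)⁻¹) * n⁻¹ =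
        y * (τ * n * τ⁻¹) * y⁻¹ * (τ * n * τ⁻¹)⁻¹ := by
      rw [← K.cen _ hc3 n hn, mul_assoc, mul_inv_cancel, mul_one]
    rw [this, hcn] at h0
    exact h0
  have e3' : y * (τ * n * τ⁻¹) * y⁻¹ * (τ * n * τ⁻¹)⁻¹ = (y * n * y⁻¹ * n⁻¹)⁻¹ :=
    eq_inv_of_mul_eq_one_right e3
  rw [e3', ← mul_inv_rev] at h31
  rw [e1]
  exact (Z2.inv_mem_iff).mp h31

end cal

theorem elemAb_closure {W Z Z2 : Subgroup T} (K : Cal W Z Z2) (A : Set T) (hA : A ⊆ W)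
    (hsq : ∀ a ∈ A, a ^ 2 ∈ Z2) (hcomm : ∀ a ∈ A, ∀ b ∈ A, a * b * a⁻¹ * b⁻¹ ∈ Z2) :
    (∀ x ∈ Subgroup.closure A, x ^ 2 ∈ Z2) ∧
      ∀ x ∈ Subgroup.closure A, ∀ y ∈ Subgroup.closure A, x * y * x⁻¹ * y⁻¹ ∈ Z2 := by
  have hn2 : Z2.Normal := K.nZ2
  have p1 : ∀ x ∈ Subgroup.closure A, ∀ a ∈ A, x * a * x⁻¹ * a⁻¹ ∈ Z2 := by
    intro x hx a ha
    induction hx using Subgroup.closure_induction with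
    | mem x hx => exact hcomm x hx a ha
    | one => simp
    | mul x y _ _ hx hy =>
      have : x * y * a * (x * y)⁻¹ * a⁻¹ = (x * (y * a * y⁻¹ * a⁻¹) * x⁻¹) * (x * a * x⁻¹ * a⁻¹) := by
        group
      rw [this]
      exact Z2.mul_mem (hn2.conj_mem _ hy x) hx
    | inv x _ hx =>
      have : x⁻¹ * a * x⁻¹⁻¹ * a⁻¹ = x⁻¹ * (x * a * x⁻¹ * a⁻¹)⁻¹ * x⁻¹⁻¹ := by group
      rw [this]
      exact hn2.conj_mem _ (Z2.inv_mem hx) x⁻¹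
  have p2 : ∀ y ∈ Subgroup.closure A, ∀ x ∈ Subgroup.closure A, x * y * x⁻¹ * y⁻¹ ∈ Z2 := by
    intro y hy x hx
    induction hy using Subgroup.closure_induction with
    | mem y hy => exact p1 x hx y hy
    | one => simp
    | mul y y' _ _ hy hy' =>
      have : x * (y * y') * x⁻¹ * (y * y')⁻¹ = (x * y * x⁻¹ * y⁻¹) * (y * (x * y' * x⁻¹ * y'⁻¹) * y⁻¹) := by
        group
      rw [this]
      exact Z2.mul_mem hy (hn2.conj_mem _ hy' y)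
    | inv y _ hy =>
      have : x * y⁻¹ * x⁻¹ * y⁻¹⁻¹ = y⁻¹ * (x * y * x⁻¹ * y⁻¹)⁻¹ * y⁻¹⁻¹ := by group
      rw [this]
      exact hn2.conj_mem _ (Z2.inv_mem hy) y⁻¹
  refine ⟨?_, fun x hx y hy => p2 y hy x hx⟩
  intro x hx
  induction hx using Subgroup.closure_induction with
  | mem x hx => exact hsq x hx
  | one => simp
  | mul x y hx' hy' hx hy =>
    rw [pow_two] at hx hy ⊢
    have : (x * y) * (x * y) = (x * x) * (x⁻¹ * y * x⁻¹⁻¹ * y⁻¹) * (y * y) := by group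
    rw [this]
    exact Z2.mul_mem (Z2.mul_mem hx (p2 y hy' x⁻¹ ((Subgroup.closure A).inv_mem hx'))) hy
  | inv x _ hx =>
    rw [pow_two] at hx ⊢
    have : x⁻¹ * x⁻¹ = (x * x)⁻¹ := by group
    rw [this]
    exact Z2.inv_mem hx

end Cfsg.Agent.Lib.Helper1.RuSylG
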