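import Mathlib
import Cfsg.Agent.Lib.Helper1.Rg3

set_option autoImplicit false
set_option maxHeartbeats 4000000
set_option linter.unusedVariables false
set_option linter.unusedSectionVars false
set_option linter.style.longLine false
set_option linter.unusedSimpArgs false
set_option linter.deprecated false

/-! Generation of `SL_n` by two conjugate regular unipotent elements, part 1:
the orbit vectors `c_k = u^k e_n`, `ε_j = e_1ᵀ u^{-j}` and their pairing. -/

namespace Cfsg.Agent.Lib.Helper1.Rv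

open Matrix Cfsg.Agent.Lib.Helper5.TvGL Cfsg.Agent.Lib.Helper5.SLSubspaceMax
  Cfsg.Agent.Lib.Helper2.Sfm Cfsg.Agent.Lib.Helper1.Rg

universe u

variable {F : Type u} [Field F] {n : ℕ}

/-- the regular unipotent element `1 - N` as an element of `GL_n` -/
noncomputable def uu (n : ℕ) (F : Type u) [Field F] : GL (Fin n) F :=
  Matrix.GeneralLinearGroup.mk'' (1 - Nm n F) (by rw [det_one_sub_Nm]; exact isUnit_one)

theorem uu_val : ((uu n F : GL (Fin n) F) : Matrix (Fin n) (Fin n) F) = 1 - Nm n F := rfl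

/-- `c_k = u^k e_{n-1}` -/
noncomputable def cc (n : ℕ) (F : Type u) [Field F] (k : ℤ) : Fin n → F :=
  ((uu n F) ^ k).1 *ᵥ E n F (n - 1)

/-- `ε_j = e_0ᵀ u^{-j}` -/
noncomputable def ee (n : ℕ) (F : Type u) [Field F] (j : ℤ) : Fin n → F :=
  E n F 0 ᵥ* ((uu n F) ^ (-j)).1

/-- `b(d) = (u^d)_{0,n-1}` -/
noncomputable def bb (n : ℕ) (F : Type u) [Field F] (d : ℤ) : F :=
  E n F 0 ⬝ᵥ (((uu n F) ^ d).1 *ᵥ E n F (n - 1))

theorem ee_dot_cc (j k : ℤ) : ee n F j ⬝ᵥ cc n F k = bb n F (k - j) := by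
  unfold ee cc bb
  rw [← dotProduct_mulVec, mulVec_mulVec, ← Units.val_mul, ← _root_.zpow_add]
  have e : -j + k = k - j := by ring
  rw [e]

theorem zpow_mulVec_cc (i k : ℤ) : ((uu n F) ^ i).1 *ᵥ cc n F k = cc n F (i + k) := by
  unfold cc
  rw [mulVec_mulVec, ← Units.val_mul, ← _root_.zpow_add]

theorem ee_vecMul_zpow (j i : ℤ) : ee n F j ᵥ* ((uu n F) ^ (-i)).1 = ee n F (j + i) := by
  unfold ee
  rw [vecMul_vecMul, ← Units.val_mul, ← _root_.zpow_add, neg_add]

theorem cc_zero : cc n F 0 = E n F (n - 1) := by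
  unfold cc
  rw [_root_.zpow_zero, Units.val_one, one_mulVec]

theorem ee_zero : ee n F 0 = E n F 0 := by
  unfold ee
  rw [neg_zero, _root_.zpow_zero, Units.val_one, vecMul_one]

theorem cc_one : cc n F 1 = (uu n F).1 *ᵥ E n F (n - 1) := by
  unfold cc
  rw [_root_.zpow_one]

theorem cc_neg_one : cc n F (-1) = ((uu n F)⁻¹ : GL (Fin n) F).1 *ᵥ E n F (n - 1) := by
  unfold cc
  rw [_root_.zpow_neg_one]

theorem ee_one : ee n F 1 = E n F 0 ᵥ* ((uu n F)⁻¹ : GL (Fin n) F).1 := by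
  unfold ee
  rw [_root_.zpow_neg_one]

theorem ee_neg_one : ee n F (-1) = E n F 0 ᵥ* (uu n F).1 := by
  unfold ee
  rw [neg_neg, _root_.zpow_one]

theorem uu_mulVec_cc (k : ℤ) : (uu n F).1 *ᵥ cc n F k = cc n F (1 + k) := by
  have := zpow_mulVec_cc (n := n) (F := F) 1 k
  rw [_root_.zpow_one] at this
  exact this

theorem uu_inv_mulVec_cc (k : ℤ) :
    ((uu n F)⁻¹ : GL (Fin n) F).1 *ᵥ cc n F k = cc n F (-1 + k) := by
  have := zpow_mulVec_cc (n := n) (F := F) (-1) k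
  rw [_root_.zpow_neg_one] at this
  exact this

theorem ee_vecMul_uu_inv (j : ℤ) :
    ee n F j ᵥ* ((uu n F)⁻¹ : GL (Fin n) F).1 = ee n F (j + 1) := by
  have := ee_vecMul_zpow (n := n) (F := F) j 1
  rw [_root_.zpow_neg_one] at this
  exact this

theorem ee_vecMul_uu (j : ℤ) : ee n F j ᵥ* (uu n F).1 = ee n F (j + -1) := by
  have := ee_vecMul_zpow (n := n) (F := F) j (-1)
  rw [neg_neg, _root_.zpow_one] at this
  exact this

/-- conjugating by powers of `u` moves both indices -/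
theorem move {H : Subgroup (GL (Fin n) F)} (hu : uu n F ∈ H) {k j : ℤ} {s : F}
    (h : TvIn H (cc n F k) (s • ee n F j)) (i : ℤ) :
    TvIn H (cc n F (i + k)) (s • ee n F (j + i)) := by
  have h1 := h.conj ((uu n F) ^ i) (H.zpow_mem hu i)
  rw [zpow_mulVec_cc, ← _root_.zpow_neg, smul_vecMul, ee_vecMul_zpow] at h1
  exact h1

theorem vecMul_inv_of_vecMul (g : GL (Fin n) F) {x y : Fin n → F} (h : x ᵥ* g.1 = y) :
    y ᵥ* (g⁻¹ : GL (Fin n) F).1 = x := by
  rw [← h, vecMul_vecMul, ← Units.val_mul, mul_inv_cancel, Units.val_one, vecMul_one]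

/-! ### values of `b` -/

theorem row_pow (d : ℕ) (j : Fin n) :
    (E n F 0 ᵥ* (1 - Nm n F) ^ d) j = (-1) ^ j.val * (d.choose j.val : F) := by
  induction d generalizing j with
  | zero =>
    rw [pow_zero, vecMul_one, E_apply]
    by_cases h : j.val = 0
    · rw [if_pos h, h, pow_zero, Nat.choose_self, Nat.cast_one, mul_one]
    · rw [if_neg h, Nat.choose_eq_zero_of_lt (by omega), Nat.cast_zero, mul_zero]
  | succ d ih =>
    rw [pow_succ, ← vecMul_vecMul, vecMul_one_sub_Nm, Pi.sub_apply, vecMul_Nm, ih]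
    by_cases h : 0 < j.val
    · rw [dif_pos h, ih]
      obtain ⟨j', hj'⟩ : ∃ j', j.val = j' + 1 := ⟨j.val - 1, by omega⟩
      show (-1 : F) ^ j.val * (d.choose j.val : F) - (-1) ^ (j.val - 1) * (d.choose (j.val - 1) : F) = _
      rw [hj', Nat.add_sub_cancel, Nat.choose_succ_succ, Nat.cast_add, pow_succ]
      ring
    · rw [dif_neg h]
      have : j.val = 0 := by omega
      rw [this, Nat.choose_zero_right, Nat.choose_zero_right, sub_zero]

theorem bb_natCast (hn : 1 ≤ n) (d : ℕ) :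
    bb n F (d : ℤ) = (-1) ^ (n - 1) * (d.choose (n - 1) : F) := by
  unfold bb
  rw [_root_.zpow_natCast, Units.val_pow_eq_pow_val, uu_val, dotProduct_mulVec,
    dot_E _ (by omega : n - 1 < n), row_pow]

theorem bb_small (hn : 1 ≤ n) (d : ℕ) (hd : d + 2 ≤ n) : bb n F (d : ℤ) = 0 := by
  rw [bb_natCast hn, Nat.choose_eq_zero_of_lt (by omega), Nat.cast_zero, mul_zero]

theorem bb_small' (hn : 1 ≤ n) (d : ℤ) (h0 : 0 ≤ d) (hd : d + 2 ≤ n) : bb n F d = 0 := by
  obtain ⟨k, rfl⟩ := Int.eq_ofNat_of_zero_le h0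
  exact bb_small hn k (by omega)

theorem bb_pred (hn : 1 ≤ n) : bb n F ((n - 1 : ℕ) : ℤ) = (-1) ^ (n - 1) := by
  rw [bb_natCast hn, Nat.choose_self, Nat.cast_one, mul_one]

/-- the all-ones row -/
def ones (n : ℕ) (F : Type u) [Field F] : Fin n → F := fun _ => 1

theorem ones_vecMul_uu : ones n F ᵥ* (uu n F).1 = E n F 0 := by
  rw [uu_val, vecMul_one_sub_Nm]
  funext j
  rw [Pi.sub_apply, vecMul_Nm, E_apply]
  by_cases h : 0 < j.val
  · rw [dif_pos h, if_neg (by omega)]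
    show (1 : F) - 1 = 0
    ring
  · rw [dif_neg h, if_pos (by omega)]
    show (1 : F) - 0 = 1
    ring

theorem E_zero_vecMul_uu_inv : E n F 0 ᵥ* ((uu n F)⁻¹ : GL (Fin n) F).1 = ones n F :=
  vecMul_inv_of_vecMul _ ones_vecMul_uu

theorem ee_one_eq : ee n F 1 = ones n F := by
  rw [ee_one, E_zero_vecMul_uu_inv]

theorem bb_neg_one (hn : 1 ≤ n) : bb n F (-1) = 1 := by
  have h := ee_dot_cc (n := n) (F := F) 1 0
  rw [ee_one_eq, cc_zero, dot_E _ (by omega : n - 1 < n)] at h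
  have e : (0 : ℤ) - 1 = -1 := by ring
  rw [e] at h
  rw [← h]
  rfl

/-- row action of a power of the shift -/
theorem vecMul_Nm_pow (φ : Fin n → F) (k : ℕ) (j : Fin n) :
    (φ ᵥ* Nm n F ^ k) j =
      if h : k ≤ j.val then φ ⟨j.val - k, by have := j.isLt; omega⟩ else 0 := by
  show ∑ i, φ i * (Nm n F ^ k) i j = _
  by_cases h : k ≤ j.val
  · rw [dif_pos h, Finset.sum_eq_single (⟨j.val - k, by have := j.isLt; omega⟩ : Fin n)]
    · rw [Nm_pow, if_pos (by show j.val - k + k = j.val; omega), mul_one]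
    · intro i _ hi
      rw [Nm_pow, if_neg, mul_zero]
      intro e
      apply hi
      apply Fin.ext
      show i.val = j.val - k
      omega
    · intro hh
      exact absurd (Finset.mem_univ _) hh
  · rw [dif_neg h]
    apply Finset.sum_eq_zero
    intro i _
    rw [Nm_pow, if_neg, mul_zero]
    omega

/-- in characteristic `p`, the `p^ν`-th power of `u` is `1 - N^{p^ν}` -/
theorem uu_pow_char (hn : 1 ≤ n) (p : ℕ) [Fact p.Prime] [CharP F p] (ν : ℕ) :
    ((uu n F) ^ ((p ^ ν : ℕ) : ℤ)).1 = 1 - Nm n F ^ (p ^ ν) := by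
  haveI : Nonempty (Fin n) := ⟨⟨0, by omega⟩⟩
  rw [_root_.zpow_natCast, Units.val_pow_eq_pow_val, uu_val,
    sub_pow_char_pow_of_commute p ν (Commute.one_left _), one_pow]

/-- the row `e_0ᵀ u^{-1-m}` for `m = p^ν` -/
theorem row_neg (hn : 1 ≤ n) (p : ℕ) [Fact p.Prime] [CharP F p] (ν : ℕ) (j : Fin n) :
    ee n F (1 + ((p ^ ν : ℕ) : ℤ)) j = ((j.val / p ^ ν + 1 : ℕ) : F) := by
  have hm : 0 < p ^ ν := pow_pos (Fact.out : p.Prime).pos ν
  set m := p ^ ν with hmdef
  have h1 : ee n F (1 + (m : ℤ)) ᵥ* ((uu n F) ^ (m : ℤ)).1 = ones n F := by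
    have := ee_vecMul_zpow (n := n) (F := F) (1 + (m : ℤ)) (-(m : ℤ))
    rw [neg_neg] at this
    rw [this]
    have e : (1 : ℤ) + m + -m = 1 := by ring
    rw [e, ee_one_eq]
  rw [uu_pow_char hn p ν, vecMul_sub, vecMul_one] at h1
  have h2 : ∀ j : Fin n, ee n F (1 + (m : ℤ)) j =
      1 + (ee n F (1 + (m : ℤ)) ᵥ* Nm n F ^ m) j := by
    intro j
    have := congrFun h1 j
    rw [Pi.sub_apply] at this
    show _ = ones n F j + _
    rw [← this]
    ring
  have key : ∀ (N : ℕ) (j : Fin n), j.val = N →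
      ee n F (1 + (m : ℤ)) j = ((j.val / m + 1 : ℕ) : F) := by
    intro N
    induction N using Nat.strong_induction_on with
    | _ N ih =>
      intro j hj
      rw [h2 j, vecMul_Nm_pow]
      by_cases h : m ≤ j.val
      · rw [dif_pos h, ih (j.val - m) (by omega) _ rfl]
        show (1 : F) + (((j.val - m) / m + 1 : ℕ) : F) = _
        rw [Nat.div_eq_sub_div hm h]
        push_cast
        ring
      · rw [dif_neg h, Nat.div_eq_of_lt (by omega)]
        push_cast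
        ring
  exact key j.val j rfl

theorem bb_neg_char (hn : 1 ≤ n) (p : ℕ) [Fact p.Prime] [CharP F p] (ν : ℕ)
    (hdvd : p ^ ν ∣ n) : bb n F (-1 - ((p ^ ν : ℕ) : ℤ)) = ((n / p ^ ν : ℕ) : F) := by
  have h := ee_dot_cc (n := n) (F := F) (1 + ((p ^ ν : ℕ) : ℤ)) 0
  rw [cc_zero, dot_E _ (by omega : n - 1 < n), row_neg hn p ν] at h
  have e : (0 : ℤ) - (1 + ((p ^ ν : ℕ) : ℤ)) = -1 - ((p ^ ν : ℕ) : ℤ) := by ring
  rw [e] at h
  rw [← h]
  show (((n - 1) / p ^ ν + 1 : ℕ) : F) = _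
  have e2 : n - 1 + 1 = n := by omega
  have := Nat.succ_div_of_dvd (a := n - 1) (b := p ^ ν) (by rw [e2]; exact hdvd)
  rw [e2] at this
  rw [this]

end Cfsg.Agent.Lib.Helper1.Rv
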