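import Mathlib
import Cfsg.Agent.Lib.Helper1.Rv1

set_option autoImplicit false
set_option maxHeartbeats 4000000
set_option linter.unusedVariables false
set_option linter.unusedSectionVars false
set_option linter.style.longLine false
set_option linter.unusedSimpArgs false
set_option linter.deprecated false

/-! Generation of `SL_n` by two conjugate regular unipotent elements, part 2:
the commutator identity producing the first transvection. -/

namespace Cfsg.Agent.Lib.Helper1.Rv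

open Matrix Cfsg.Agent.Lib.Helper5.TvGL Cfsg.Agent.Lib.Helper5.SLSubspaceMax
  Cfsg.Agent.Lib.Helper2.Sfm Cfsg.Agent.Lib.Helper1.Rg

universe u

theorem ring_identity {R : Type*} [Ring R] (A B C : R) (hA : A * A = 0) (hB : B * B = 0)
    (hC : C * C = 0) (hBA : B * A = 0) (hCA : C * A = 0) (hCB : C * B = 0) :
    ((1 + C) * (1 - B)) * ((1 + A) * (1 - B) * (1 + C) * (1 - A)) =
      (1 + A * B * C) * (((1 + A) * (1 - B) * (1 + C) * (1 - A)) * ((1 + C) * (1 - B))) := by
  have hP : (1 + A) * (1 - B) * (1 + C) =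
      1 + A - B - A * B + C + A * C - B * C - A * B * C := by noncomm_ring
  have hPA : (1 + A - B - A * B + C + A * C - B * C - A * B * C) * A = A := by
    have : (1 + A - B - A * B + C + A * C - B * C - A * B * C) * A
      = A + A * A - B * A - A * (B * A) + C * A + A * (C * A) - B * (C * A)
        - A * B * (C * A) := by noncomm_ring
    rw [this, hA, hBA, hCA]; simp
  have hw : (1 + A) * (1 - B) * (1 + C) * (1 - A) =
      1 - B + C - A * B + A * C - B * C - A * B * C := by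
    rw [hP, mul_sub, mul_one, hPA]; abel
  have hy : (1 + C) * (1 - B) = 1 - B + C := by
    have : (1 + C) * (1 - B) = 1 - B + C - C * B := by noncomm_ring
    rw [this, hCB, sub_zero]
  rw [hw, hy]
  have hBW : B * (1 - B + C - A * B + A * C - B * C - A * B * C) = B + B * C := by
    have : B * (1 - B + C - A * B + A * C - B * C - A * B * C) =
        B - B * B + B * C - (B * A) * B + (B * A) * C - (B * B) * C - (B * A) * B * C := by
      noncomm_ring
    rw [this, hB, hBA]; simp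
  have hCW : C * (1 - B + C - A * B + A * C - B * C - A * B * C) = C := by
    have : C * (1 - B + C - A * B + A * C - B * C - A * B * C) =
        C - C * B + C * C - (C * A) * B + (C * A) * C - (C * B) * C - (C * A) * B * C := by
      noncomm_ring
    rw [this, hCB, hC, hCA]; simp
  have hWB : (1 - B + C - A * B + A * C - B * C - A * B * C) * B = B := by
    have : (1 - B + C - A * B + A * C - B * C - A * B * C) * B =
        B - B * B + C * B - A * (B * B) + A * (C * B) - B * (C * B) - A * B * (C * B) := by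
      noncomm_ring
    rw [this, hB, hCB]; simp
  have hWC : (1 - B + C - A * B + A * C - B * C - A * B * C) * C = C - B * C - A * B * C := by
    have : (1 - B + C - A * B + A * C - B * C - A * B * C) * C =
        C - B * C + C * C - A * B * C + A * (C * C) - B * (C * C) - A * B * (C * C) := by
      noncomm_ring
    rw [this, hC]; simp
  have hYW : (1 - B + C) * (1 - B + C - A * B + A * C - B * C - A * B * C) =
      (1 - B + C - A * B + A * C - B * C - A * B * C) - (B + B * C) + C := by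
    rw [add_mul (1 - B) C, sub_mul, one_mul, hBW, hCW]
  have hWY : (1 - B + C - A * B + A * C - B * C - A * B * C) * (1 - B + C) =
      (1 - B + C - A * B + A * C - B * C - A * B * C) - B + (C - B * C - A * B * C) := by
    rw [mul_add _ (1 - B) C, mul_sub, mul_one, hWB, hWC]
  have hABCW : A * B * C * ((1 - B + C - A * B + A * C - B * C - A * B * C) - B +
      (C - B * C - A * B * C)) = A * B * C := by
    have : A * B * C * ((1 - B + C - A * B + A * C - B * C - A * B * C) - B +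
        (C - B * C - A * B * C)) =
        A * B * (C * (1 - B + C - A * B + A * C - B * C - A * B * C)) - A * B * (C * B) +
          (A * B * (C * C) - A * B * (C * B) * C - A * B * (C * A) * B * C) := by
      noncomm_ring
    rw [this, hCW, hCB, hC, hCA]; simp
  rw [hYW, hWY, add_mul, one_mul, hABCW]
  abel

variable {F : Type u} [Field F] {n : ℕ}

/-- the rank one matrix `a c_i ⊗ ε_j` -/
noncomputable def XX (n : ℕ) (F : Type u) [Field F] (a : F) (i j : ℤ) : Matrix (Fin n) (Fin n) F :=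
  vecMulVec (cc n F i) (a • ee n F j)

theorem XX_mul_XX (a : F) (i j k l : ℤ) :
    XX n F a i j * XX n F a k l = (a * bb n F (k - j)) • XX n F a i l := by
  unfold XX
  rw [vecMulVec_mul_vecMulVec, smul_dotProduct, ee_dot_cc, smul_eq_mul, vecMulVec_smul]

theorem bb_zero (hn : 2 ≤ n) : bb n F 0 = 0 := by
  have := bb_small (F := F) (n := n) (by omega) 0 (by omega)
  simpa using this

theorem bb_one (hn : 3 ≤ n) : bb n F 1 = 0 := by
  have := bb_small (F := F) (n := n) (by omega) 1 (by omega)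
  simpa using this

theorem bb_two (hn : 4 ≤ n) : bb n F 2 = 0 := by
  have := bb_small (F := F) (n := n) (by omega) 2 (by omega)
  simpa using this

theorem bb_of_eq (hn : 1 ≤ n) (d : ℤ) (m : ℕ) (h : d = (m : ℤ)) (hm : m + 2 ≤ n) :
    bb n F d = 0 := by
  rw [h]
  exact bb_small hn m hm

theorem tvMat_cc_ee (a : F) (i j : ℤ) : tvMat (a • ee n F j) (cc n F i) = 1 + XX n F a i j := by
  rw [tvMat_eq]
  rfl

theorem tvMat_neg_cc_ee (a : F) (i j : ℤ) :
    tvMat (-(a • ee n F j)) (cc n F i) = 1 - XX n F a i j := by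
  rw [tvMat_eq, vecMulVec_neg, ← sub_eq_add_neg]
  rfl

theorem inv_val_of_tvMat (g : GL (Fin n) F) (c ψ : Fin n → F) (h : ψ ⬝ᵥ c = 0)
    (hg : g.1 = tvMat ψ c) : (g⁻¹ : GL (Fin n) F).1 = tvMat (-ψ) c := by
  have : g = tvG c ψ h := Units.ext (by rw [hg, tvG_val])
  rw [this, tvG_inv_val]

section Step

variable (a : F) (tG : GL (Fin n) F)

theorem tG_val' (htG : tG.1 = tvMat (a • E n F 0) (E n F (n - 1))) :
    tG.1 = tvMat (a • ee n F 0) (cc n F 0) := by
  rw [htG, ee_zero, cc_zero]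

theorem tp_val (htG : tG.1 = tvMat (a • E n F 0) (E n F (n - 1))) :
    (uu n F * tG * (uu n F)⁻¹).1 = tvMat (a • ee n F 1) (cc n F 1) := by
  rw [Units.val_mul, Units.val_mul, tG_val' a tG htG, conj_tvMat, smul_vecMul, ee_vecMul_uu_inv,
    uu_mulVec_cc, zero_add, add_zero]

theorem tm_val (htG : tG.1 = tvMat (a • E n F 0) (E n F (n - 1))) :
    ((uu n F)⁻¹ * tG * uu n F).1 = tvMat (a • ee n F (-1)) (cc n F (-1)) := by
  have h := conj_tvMat ((uu n F)⁻¹) (cc n F 0) (a • ee n F 0)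
  rw [inv_inv, smul_vecMul, ee_vecMul_uu, uu_inv_mulVec_cc, zero_add, add_zero] at h
  rw [Units.val_mul, Units.val_mul, tG_val' a tG htG, h]

theorem dot0 (hn : 2 ≤ n) (i : ℤ) : (a • ee n F i) ⬝ᵥ cc n F i = 0 := by
  rw [smul_dotProduct, ee_dot_cc, sub_self, bb_zero hn, smul_zero]

/-- the first transvection in `⟨u, v⟩` -/
theorem step_one (hn : 4 ≤ n) (H : Subgroup (GL (Fin n) F))
    (htG : tG.1 = tvMat (a • E n F 0) (E n F (n - 1))) (hu : uu n F ∈ H)
    (hv : tG * uu n F * tG⁻¹ ∈ H) : TvIn H (cc n F 1) (a ^ 3 • ee n F (-1)) := by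
  have h2n : 2 ≤ n := by omega
  set A := XX n F a 1 1 with hAdef
  set B := XX n F a 0 0 with hBdef
  set C := XX n F a (-1) (-1) with hCdef
  have hA : A * A = 0 := by
    rw [hAdef, XX_mul_XX, sub_self, bb_zero h2n, mul_zero, zero_smul]
  have hB : B * B = 0 := by
    rw [hBdef, XX_mul_XX, sub_self, bb_zero h2n, mul_zero, zero_smul]
  have hC : C * C = 0 := by
    rw [hCdef, XX_mul_XX, sub_self, bb_zero h2n, mul_zero, zero_smul]
  have hBA : B * A = 0 := by
    rw [hBdef, hAdef, XX_mul_XX, sub_zero, bb_one (by omega), mul_zero, zero_smul]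
  have hCA : C * A = 0 := by
    have e : (1 : ℤ) - (-1) = 2 := by norm_num
    rw [hCdef, hAdef, XX_mul_XX, e, bb_two hn, mul_zero, zero_smul]
  have hCB : C * B = 0 := by
    have e : (0 : ℤ) - (-1) = 1 := by norm_num
    rw [hCdef, hBdef, XX_mul_XX, e, bb_one (by omega), mul_zero, zero_smul]
  have hABC : 1 + A * B * C = tvMat (a ^ 3 • ee n F (-1)) (cc n F 1) := by
    have e1 : (0 : ℤ) - 1 = -1 := by norm_num
    have e2 : (-1 : ℤ) - 0 = -1 := by norm_num
    rw [hAdef, hBdef, hCdef, XX_mul_XX, Matrix.smul_mul, XX_mul_XX, e1, e2, bb_neg_one (by omega),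
      mul_one, smul_smul, tvMat_eq]
    unfold XX
    rw [← vecMulVec_smul, smul_smul]
    have e3 : a * a * a = a ^ 3 := by ring
    rw [e3]
  -- group elements
  set tp := uu n F * tG * (uu n F)⁻¹ with htp
  set tm := (uu n F)⁻¹ * tG * uu n F with htm
  have vt : tG.1 = 1 + B := by rw [tG_val' a tG htG, tvMat_cc_ee]
  have vti : (tG⁻¹ : GL (Fin n) F).1 = 1 - B := by
    rw [inv_val_of_tvMat tG _ _ (dot0 a h2n 0) (tG_val' a tG htG), tvMat_neg_cc_ee]
  have vp : tp.1 = 1 + A := by rw [htp, tp_val a tG htG, tvMat_cc_ee]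
  have vpi : (tp⁻¹ : GL (Fin n) F).1 = 1 - A := by
    rw [inv_val_of_tvMat tp _ _ (dot0 a h2n 1) (tp_val a tG htG), tvMat_neg_cc_ee]
  have vm : tm.1 = 1 + C := by rw [htm, tm_val a tG htG, tvMat_cc_ee]
  set yG := (uu n F)⁻¹ * (tG * uu n F * tG⁻¹) with hyG
  set hG := uu n F * (tG * uu n F * tG⁻¹)⁻¹ with hhG
  set wG := hG * yG * hG⁻¹ with hwG
  have my : yG ∈ H := H.mul_mem (H.inv_mem hu) hv
  have mh : hG ∈ H := H.mul_mem hu (H.inv_mem hv)
  have mw : wG ∈ H := H.mul_mem (H.mul_mem mh my) (H.inv_mem mh)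
  have ey : yG = tm * tG⁻¹ := by rw [hyG, htm]; group
  have ew : wG = tp * tG⁻¹ * tm * tp⁻¹ := by rw [hwG, hhG, hyG, htp, htm]; group
  have vy : yG.1 = (1 + C) * (1 - B) := by rw [ey, Units.val_mul, vm, vti]
  have vw : wG.1 = (1 + A) * (1 - B) * (1 + C) * (1 - A) := by
    rw [ew, Units.val_mul, Units.val_mul, Units.val_mul, vp, vti, vm, vpi]
  have e1 : (yG * wG).1 = (1 + A * B * C) * (wG * yG).1 := by
    rw [Units.val_mul yG wG, Units.val_mul wG yG, vy, vw]
    exact ring_identity A B C hA hB hC hBA hCA hCB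
  refine ⟨yG * wG * (wG * yG)⁻¹, H.mul_mem (H.mul_mem my mw) (H.inv_mem (H.mul_mem mw my)), ?_⟩
  rw [Units.val_mul (yG * wG) (wG * yG)⁻¹, e1, mul_assoc, ← Units.val_mul (wG * yG) (wG * yG)⁻¹,
    mul_inv_cancel, Units.val_one, mul_one, hABC]

/-- action of `v` on `c_{-1}` -/
theorem v_mulVec_cc (hn : 3 ≤ n) (htG : tG.1 = tvMat (a • E n F 0) (E n F (n - 1))) :
    (tG * uu n F * tG⁻¹).1 *ᵥ cc n F (-1) = cc n F 0 - a • cc n F 1 := by
  have h2n : 2 ≤ n := by omega
  have vti : (tG⁻¹ : GL (Fin n) F).1 = tvMat (-(a • ee n F 0)) (cc n F 0) :=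
    inv_val_of_tvMat tG _ _ (dot0 a h2n 0) (tG_val' a tG htG)
  have s1 : (tG⁻¹ : GL (Fin n) F).1 *ᵥ cc n F (-1) = cc n F (-1) - a • cc n F 0 := by
    have e : (-1 : ℤ) - 0 = -1 := by norm_num
    rw [vti, tvMat_mulVec, neg_dotProduct, smul_dotProduct, ee_dot_cc, e, bb_neg_one (by omega),
      smul_eq_mul, mul_one, neg_smul, sub_eq_add_neg]
  have s2 : (uu n F).1 *ᵥ (cc n F (-1) - a • cc n F 0) = cc n F 0 - a • cc n F 1 := by
    rw [mulVec_sub, mulVec_smul, uu_mulVec_cc, uu_mulVec_cc]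
    norm_num
  have s3 : tG.1 *ᵥ (cc n F 0 - a • cc n F 1) = cc n F 0 - a • cc n F 1 := by
    have e : (1 : ℤ) - 0 = 1 := by norm_num
    rw [tG_val' a tG htG, tvMat_mulVec, dotProduct_sub, dotProduct_smul, smul_dotProduct,
      smul_dotProduct, ee_dot_cc, ee_dot_cc, sub_self, e, bb_zero h2n, bb_one hn]
    simp
  rw [Units.val_mul, Units.val_mul, ← mulVec_mulVec, ← mulVec_mulVec, s1, s2, s3]

/-- action of `v⁻¹` on `ε_{-1-D}` -/
theorem ee_vecMul_v_inv (hn : 3 ≤ n) (htG : tG.1 = tvMat (a • E n F 0) (E n F (n - 1)))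
    (D : ℕ) (hD : D + 3 ≤ n) :
    ee n F (-(D : ℤ) + -1) ᵥ* ((tG * uu n F * tG⁻¹)⁻¹ : GL (Fin n) F).1 = ee n F (-(D : ℤ)) := by
  have h2n : 2 ≤ n := by omega
  have vti : (tG⁻¹ : GL (Fin n) F).1 = tvMat (-(a • ee n F 0)) (cc n F 0) :=
    inv_val_of_tvMat tG _ _ (dot0 a h2n 0) (tG_val' a tG htG)
  have ev : (tG * uu n F * tG⁻¹)⁻¹ = tG * (uu n F)⁻¹ * tG⁻¹ := by group
  have s1 : ee n F (-(D : ℤ) + -1) ᵥ* tG.1 = ee n F (-(D : ℤ) + -1) := by
    have e : (0 : ℤ) - (-(D : ℤ) + -1) = ((D + 1 : ℕ) : ℤ) := by push_cast; ring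
    rw [tG_val' a tG htG, vecMul_tvMat, ee_dot_cc, e, bb_small (by omega) (D + 1) (by omega),
      zero_smul, add_zero]
  have s2 : ee n F (-(D : ℤ) + -1) ᵥ* ((uu n F)⁻¹ : GL (Fin n) F).1 = ee n F (-(D : ℤ)) := by
    rw [ee_vecMul_uu_inv]
    congr 1
    ring
  have s3 : ee n F (-(D : ℤ)) ᵥ* (tG⁻¹ : GL (Fin n) F).1 = ee n F (-(D : ℤ)) := by
    have e : (0 : ℤ) - (-(D : ℤ)) = ((D : ℕ) : ℤ) := by ring
    rw [vti, vecMul_tvMat, ee_dot_cc, e, bb_small (by omega) D (by omega), zero_smul, add_zero]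
  rw [ev, Units.val_mul, Units.val_mul, ← vecMul_vecMul, ← vecMul_vecMul, s1, s2, s3]

end Step

end Cfsg.Agent.Lib.Helper1.Rv
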