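import Mathlib
import Cfsg.Agent.Lib.Helper1.Rv2

set_option autoImplicit false
set_option maxHeartbeats 4000000
set_option linter.unusedVariables false
set_option linter.unusedSectionVars false
set_option linter.style.longLine false
set_option linter.unusedSimpArgs false
set_option linter.deprecated false

/-! Generation of `SL_n` by two conjugate regular unipotent elements, part 3:
the coefficient calculus for the transvections `1 + s c_k ⊗ ε_j`. -/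

namespace Cfsg.Agent.Lib.Helper1.Rv

open Matrix Cfsg.Agent.Lib.Helper5.TvGL Cfsg.Agent.Lib.Helper5.SLSubspaceMax
  Cfsg.Agent.Lib.Helper2.Sfm Cfsg.Agent.Lib.Helper1.Rg

universe u

variable {F : Type u} [Field F] {n : ℕ}

theorem tvIn_add_centre {H : Subgroup (GL (Fin n) F)} {c1 c2 ψ : Fin n → F}
    (h1 : TvIn H c1 ψ) (h2 : TvIn H c2 ψ) (h : ψ ⬝ᵥ c2 = 0) : TvIn H (c1 + c2) ψ := by
  obtain ⟨g1, hg1, e1⟩ := h1
  obtain ⟨g2, hg2, e2⟩ := h2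
  refine ⟨g1 * g2, H.mul_mem hg1 hg2, ?_⟩
  rw [Units.val_mul, e1, e2, tvMat_eq, tvMat_eq, tvMat_eq, add_vecMulVec]
  have hz : vecMulVec c1 ψ * vecMulVec c2 ψ = 0 := by
    rw [vecMulVec_mul_vecMulVec, h, zero_smul, vecMulVec_zero]
  have : (1 + vecMulVec c1 ψ) * (1 + vecMulVec c2 ψ) =
      1 + (vecMulVec c1 ψ + vecMulVec c2 ψ) + vecMulVec c1 ψ * vecMulVec c2 ψ := by noncomm_ring
  rw [this, hz, add_zero]

section Calc

variable (H : Subgroup (GL (Fin n) F))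

/-- `Q(D, s)`: the transvection `1 + s c_0 ⊗ ε_{-D}` lies in `H` -/
def QQ (D : ℕ) (s : F) : Prop := TvIn H (cc n F 0) (s • ee n F (-(D : ℤ)))

theorem dotD (hn : 1 ≤ n) {D : ℕ} (hD : D + 2 ≤ n) (s : F) :
    (s • ee n F (-(D : ℤ))) ⬝ᵥ cc n F 0 = 0 := by
  have e : (0 : ℤ) - (-(D : ℤ)) = ((D : ℕ) : ℤ) := by ring
  rw [smul_dotProduct, ee_dot_cc, e, bb_small hn D hD, smul_zero]

theorem QQ_zero (D : ℕ) : QQ H D 0 := by
  unfold QQ
  rw [zero_smul]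
  exact tvIn_zero H _

theorem QQ_add (hn : 1 ≤ n) {D : ℕ} (hD : D + 2 ≤ n) {s s' : F} (h : QQ H D s) (h' : QQ H D s') :
    QQ H D (s + s') := by
  unfold QQ at *
  rw [add_smul]
  exact TvIn.mul_same h h' (dotD hn hD s)

theorem QQ_neg (hn : 1 ≤ n) {D : ℕ} (hD : D + 2 ≤ n) {s : F} (h : QQ H D s) : QQ H D (-s) := by
  unfold QQ at *
  rw [neg_smul]
  exact TvIn.neg h (dotD hn hD s)

theorem transplant (hn : 1 ≤ n) {k j k' j' : ℤ} {s s' : F}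
    (h1 : TvIn H (cc n F k) (s • ee n F j)) (h2 : TvIn H (cc n F k') (s' • ee n F j'))
    (d1 d2 d3 : ℕ) (e1 : k - j = (d1 : ℤ)) (e2 : k' - j' = (d2 : ℤ)) (e3 : k - j' = (d3 : ℤ))
    (hd1 : d1 + 2 ≤ n) (hd2 : d2 + 2 ≤ n) (hd3 : d3 + 2 ≤ n) :
    TvIn H (cc n F k) ((s * bb n F (k' - j) * s') • ee n F j') := by
  have b1 : (s • ee n F j) ⬝ᵥ cc n F k = 0 := by
    rw [smul_dotProduct, ee_dot_cc, bb_of_eq hn _ d1 e1 hd1, smul_zero]
  have b2 : (s' • ee n F j') ⬝ᵥ cc n F k' = 0 := by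
    rw [smul_dotProduct, ee_dot_cc, bb_of_eq hn _ d2 e2 hd2, smul_zero]
  have b3 : (s' • ee n F j') ⬝ᵥ cc n F k = 0 := by
    rw [smul_dotProduct, ee_dot_cc, bb_of_eq hn _ d3 e3 hd3, smul_zero]
  have h3 := (TvIn.comm h1 h2 b1 b2 b3).smul_comm
  rw [smul_dotProduct, ee_dot_cc, smul_eq_mul, smul_smul] at h3
  exact h3

theorem QQ_transplant (hn : 1 ≤ n) (hu : uu n F ∈ H) {D D' D'' : ℕ} (e : ℤ)
    (he : (D'' : ℤ) = (D : ℤ) + (D' : ℤ) - e) (hD : D + 2 ≤ n) (hD' : D' + 2 ≤ n)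
    (hD'' : D'' + 2 ≤ n) {s s' : F} (h : QQ H D s) (h' : QQ H D' s') :
    QQ H D'' (s * bb n F e * s') := by
  unfold QQ at *
  have h2 := move hu h' (e - (D : ℤ))
  have h3 := transplant H hn h h2 D D' D'' (by ring) (by ring) (by rw [he]; ring) hD hD' hD''
  have x1 : (e - (D : ℤ) + 0) - (-(D : ℤ)) = e := by ring
  have x2 : -(D' : ℤ) + (e - (D : ℤ)) = -(D'' : ℤ) := by rw [he]; ring
  rw [x1, x2] at h3
  exact h3

variable (a : F) (tG : GL (Fin n) F)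

/-- the step `Q(D, s) → Q(D+1, -a s)` -/
theorem QQ_step (hn : 3 ≤ n) (htG : tG.1 = tvMat (a • E n F 0) (E n F (n - 1)))
    (hu : uu n F ∈ H) (hv : tG * uu n F * tG⁻¹ ∈ H) {D : ℕ} (hD : D + 3 ≤ n) {s : F}
    (h : QQ H D s) : QQ H (D + 1) (-a * s) := by
  unfold QQ at *
  have h1n : 1 ≤ n := by omega
  have X := move hu h (-1)
  rw [add_zero] at X
  have hX := X.conj (tG * uu n F * tG⁻¹) hv
  rw [v_mulVec_cc a tG hn htG, smul_vecMul, ee_vecMul_v_inv a tG hn htG D hD] at hX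
  have hneg := TvIn.neg h (dotD h1n (by omega) s)
  rw [← neg_one_smul F (s • ee n F (-(D : ℤ)))] at hneg
  have hneg' := hneg.smul_comm'
  have hdot : (s • ee n F (-(D : ℤ))) ⬝ᵥ ((-1 : F) • cc n F 0) = 0 := by
    rw [dotProduct_smul, dotD h1n (by omega) s, smul_zero]
  have hsum := tvIn_add_centre hX hneg' hdot
  have e1 : cc n F 0 - a • cc n F 1 + (-1 : F) • cc n F 0 = (-a) • cc n F 1 := by
    rw [neg_one_smul, neg_smul]
    abel
  rw [e1] at hsum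
  have h4 := hsum.smul_comm
  rw [smul_smul] at h4
  have h5 := move hu h4 (-1)
  have e2 : (-1 : ℤ) + 1 = 0 := by norm_num
  have e3 : -(D : ℤ) + -1 = -((D + 1 : ℕ) : ℤ) := by push_cast; ring
  rw [e2, e3] at h5
  exact h5

/-- the normalised predicate `P(D, x) = Q(D, a^{D+1} x)` -/
def PP (D : ℕ) (x : F) : Prop := QQ H D (a ^ (D + 1) * x)

theorem PP_zero (D : ℕ) : PP H a D 0 := by
  unfold PP
  rw [mul_zero]
  exact QQ_zero H D

theorem PP_add (hn : 1 ≤ n) {D : ℕ} (hD : D + 2 ≤ n) {x y : F} (h : PP H a D x)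
    (h' : PP H a D y) : PP H a D (x + y) := by
  unfold PP at *
  rw [mul_add]
  exact QQ_add H hn hD h h'

theorem PP_neg (hn : 1 ≤ n) {D : ℕ} (hD : D + 2 ≤ n) {x : F} (h : PP H a D x) :
    PP H a D (-x) := by
  unfold PP at *
  rw [mul_neg]
  exact QQ_neg H hn hD h

theorem PP_succ (hn : 3 ≤ n) (htG : tG.1 = tvMat (a • E n F 0) (E n F (n - 1)))
    (hu : uu n F ∈ H) (hv : tG * uu n F * tG⁻¹ ∈ H) {D : ℕ} (hD : D + 3 ≤ n) {x : F}
    (h : PP H a D x) : PP H a (D + 1) x := by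
  unfold PP at *
  have h1 := QQ_step H a tG hn htG hu hv hD h
  have h2 := QQ_neg H (by omega) (by omega) h1
  have e : -(-a * (a ^ (D + 1) * x)) = a ^ (D + 1 + 1) * x := by ring
  rw [e] at h2
  exact h2

theorem PP_two_one (hn : 4 ≤ n) (htG : tG.1 = tvMat (a • E n F 0) (E n F (n - 1)))
    (hu : uu n F ∈ H) (hv : tG * uu n F * tG⁻¹ ∈ H) : PP H a 2 1 := by
  unfold PP QQ
  have h1 := step_one a tG hn H htG hu hv
  have h2 := move hu h1 (-1)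
  have e2 : (-1 : ℤ) + 1 = 0 := by norm_num
  have e3 : (-1 : ℤ) + -1 = -((2 : ℕ) : ℤ) := by norm_num
  rw [e2, e3] at h2
  rw [mul_one]
  exact h2

theorem PP_wrap (hn : 1 ≤ n) (hu : uu n F ∈ H) {D D' D'' : ℕ}
    (he : D'' + (n - 1) = D + D') (hD : D + 2 ≤ n) (hD' : D' + 2 ≤ n) {x y : F}
    (h : PP H a D x) (h' : PP H a D' y) :
    PP H a D'' ((-1) ^ (n - 1) * a ^ n * x * y) := by
  unfold PP at *
  have he' : (D'' : ℤ) = (D : ℤ) + (D' : ℤ) - ((n - 1 : ℕ) : ℤ) := by omega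
  have h1 := QQ_transplant H hn hu ((n - 1 : ℕ) : ℤ) he' hD hD' (by omega) h h'
  rw [bb_pred hn] at h1
  have hp : a ^ (D + 1) * a ^ (D' + 1) = a ^ (D'' + 1) * a ^ n := by
    rw [← pow_add, ← pow_add]
    congr 1
    omega
  have e : a ^ (D + 1) * x * (-1) ^ (n - 1) * (a ^ (D' + 1) * y) =
      a ^ (D'' + 1) * ((-1) ^ (n - 1) * a ^ n * x * y) := by
    linear_combination (x * (-1) ^ (n - 1) * y) * hp
  rw [e] at h1
  exact h1

theorem PP_char (hn : 1 ≤ n) (ha : a ≠ 0) (hu : uu n F ∈ H) (p : ℕ) [Fact p.Prime] [CharP F p]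
    (ν : ℕ) (hdvd : p ^ ν ∣ n) (hm : p ^ ν + 3 ≤ n) {x y : F}
    (h : PP H a 0 x) (h' : PP H a 0 y) :
    PP H a (1 + p ^ ν) (((n / p ^ ν : ℕ) : F) * x * y * (a ^ (p ^ ν))⁻¹) := by
  unfold PP at *
  have he' : ((1 + p ^ ν : ℕ) : ℤ) = ((0 : ℕ) : ℤ) + ((0 : ℕ) : ℤ) - (-1 - ((p ^ ν : ℕ) : ℤ)) := by
    push_cast; ring
  have h1 := QQ_transplant H hn hu (-1 - ((p ^ ν : ℕ) : ℤ)) he' (by omega) (by omega) (by omega) h h'
  rw [bb_neg_char hn p ν hdvd] at h1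
  have hne : a ^ (p ^ ν) ≠ 0 := pow_ne_zero _ ha
  have e : a ^ (0 + 1) * x * ((n / p ^ ν : ℕ) : F) * (a ^ (0 + 1) * y) =
      a ^ (1 + p ^ ν + 1) * (((n / p ^ ν : ℕ) : F) * x * y * (a ^ (p ^ ν))⁻¹) := by
    have : a ^ (1 + p ^ ν + 1) = a ^ (p ^ ν) * a ^ 2 := by
      rw [← pow_add]; congr 1; omega
    rw [this]
    field_simp
    ring
  rw [e] at h1
  exact h1

end Calc

end Cfsg.Agent.Lib.Helper1.Rv
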