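import Mathlib
import Cfsg.Agent.Lib.Helper1.Rv3

set_option autoImplicit false
set_option maxHeartbeats 4000000
set_option linter.unusedVariables false
set_option linter.unusedSectionVars false
set_option linter.style.longLine false
set_option linter.unusedSimpArgs false
set_option linter.deprecated false

/-! Generation of `SL_n` by two conjugate regular unipotent elements, part 4:
the coefficient field is everything. -/

namespace Cfsg.Agent.Lib.Helper1.Rv

open Matrix Cfsg.Agent.Lib.Helper5.TvGL Cfsg.Agent.Lib.Helper5.SLSubspaceMax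
  Cfsg.Agent.Lib.Helper2.Sfm Cfsg.Agent.Lib.Helper1.Rg

universe u

variable {F : Type u} [Field F] {n : ℕ}

theorem PP_all [Fintype F] (hn : 4 ≤ n) (H : Subgroup (GL (Fin n) F)) (a : F)
    (tG : GL (Fin n) F) (htG : tG.1 = tvMat (a • E n F 0) (E n F (n - 1)))
    (hu : uu n F ∈ H) (hv : tG * uu n F * tG⁻¹ ∈ H) (ha0 : a ≠ 0)
    (hgen : ∀ x : F, x ≠ 0 → ∃ k : ℕ, a ^ k = x) :
    ∀ D : ℕ, D + 2 ≤ n → ∀ x : F, PP H a D x := by
  classical
  have h1n : 1 ≤ n := by omega
  have h3n : 3 ≤ n := by omega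
  obtain ⟨θ, hθ⟩ : ∃ θ : F, θ = (-1) ^ (n - 1) * a ^ n := ⟨_, rfl⟩
  have hθ0 : θ ≠ 0 := by
    rw [hθ]
    exact mul_ne_zero (pow_ne_zero _ (neg_ne_zero.mpr one_ne_zero)) (pow_ne_zero _ ha0)
  have succ : ∀ {D : ℕ} {x : F}, D + 3 ≤ n → PP H a D x → PP H a (D + 1) x :=
    fun hD h => PP_succ H a tG h3n htG hu hv hD h
  have lift : ∀ (j : ℕ) {D : ℕ} {x : F}, D + j + 2 ≤ n → PP H a D x → PP H a (D + j) x := by
    intro j
    induction j with
    | zero => intro D x _ h; exact h
    | succ j ih =>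
      intro D x hD h
      have := ih (by omega) h
      exact succ (by omega) this
  have liftTo : ∀ {D D' : ℕ} {x : F}, D ≤ D' → D' + 2 ≤ n → PP H a D x → PP H a D' x := by
    intro D D' x hle hD' h
    have := lift (D' - D) (by omega) h
    rw [Nat.add_sub_cancel' hle] at this
    exact this
  have K1 : PP H a (n - 2) 1 :=
    liftTo (by omega) (by omega) (PP_two_one H a tG hn htG hu hv)
  have Kadd : ∀ {x y : F}, PP H a (n - 2) x → PP H a (n - 2) y → PP H a (n - 2) (x + y) :=
    fun h h' => PP_add H a h1n (by omega) h h'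
  have Kneg : ∀ {x : F}, PP H a (n - 2) x → PP H a (n - 2) (-x) :=
    fun h => PP_neg H a h1n (by omega) h
  have Kθ : ∀ {x y : F}, PP H a (n - 2) x → PP H a (n - 2) y → PP H a (n - 2) (θ * x * y) := by
    intro x y hx hy
    have := PP_wrap H a h1n hu (D'' := n - 3) (by omega) (by omega) (by omega) hx hy
    rw [← hθ] at this
    exact liftTo (by omega) (by omega) this
  have Kθ1 : ∀ {x : F}, PP H a (n - 2) x → PP H a (n - 2) (θ * x) := by
    intro x hx
    have := Kθ hx K1
    rwa [mul_one] at this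
  have Kθpow : ∀ (k : ℕ) {x : F}, PP H a (n - 2) x → PP H a (n - 2) (θ ^ k * x) := by
    intro k
    induction k with
    | zero => intro x hx; rwa [pow_zero, one_mul]
    | succ k ih =>
      intro x hx
      have := Kθ1 (ih hx)
      rwa [← mul_assoc, ← pow_succ'] at this
  obtain ⟨q, hq⟩ : ∃ q : ℕ, q = Fintype.card F := ⟨_, rfl⟩
  have hq2 : 2 ≤ q := by rw [hq]; exact Fintype.one_lt_card
  have inv_eq : ∀ x : F, x ≠ 0 → x⁻¹ = x ^ (q - 2) := by
    intro x hx
    have h1 : x ^ (q - 1) = 1 := by rw [hq]; exact FiniteField.pow_card_sub_one_eq_one x hx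
    have : x * x ^ (q - 2) = 1 := by
      rw [← pow_succ', show q - 2 + 1 = q - 1 by omega]
      exact h1
    exact inv_eq_of_mul_eq_one_right this
  have Kθinv : ∀ {x : F}, PP H a (n - 2) x → PP H a (n - 2) (θ⁻¹ * x) := by
    intro x hx
    rw [inv_eq θ hθ0]
    exact Kθpow _ hx
  have Kmul : ∀ {x y : F}, PP H a (n - 2) x → PP H a (n - 2) y → PP H a (n - 2) (x * y) := by
    intro x y hx hy
    have := Kθ hx (Kθinv hy)
    have e : θ * x * (θ⁻¹ * y) = x * y := by field_simp
    rwa [e] at this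
  have Kpow : ∀ (k : ℕ) {x : F}, PP H a (n - 2) x → PP H a (n - 2) (x ^ k) := by
    intro k
    induction k with
    | zero => intro x _; rw [pow_zero]; exact K1
    | succ k ih => intro x hx; rw [pow_succ]; exact Kmul (ih hx) hx
  have Kinv : ∀ {x : F}, PP H a (n - 2) x → PP H a (n - 2) x⁻¹ := by
    intro x hx
    by_cases hx0 : x = 0
    · rw [hx0, _root_.inv_zero]; exact PP_zero H a _
    · rw [inv_eq x hx0]; exact Kpow _ hx
  have Knat : ∀ k : ℕ, PP H a (n - 2) (k : F) := by
    intro k
    induction k with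
    | zero => rw [Nat.cast_zero]; exact PP_zero H a _
    | succ k ih => rw [Nat.cast_succ]; exact Kadd ih K1
  have down : ∀ j : ℕ, j ≤ n - 2 → ∀ x : F, PP H a (n - 2) x → PP H a (n - 2 - j) x := by
    intro j
    induction j with
    | zero => intro _ x hx; exact hx
    | succ j ih =>
      intro hj x hx
      have h1 := ih (by omega) (θ⁻¹ * x) (Kθinv hx)
      have h2 := PP_wrap H a h1n hu (D'' := n - 2 - (j + 1)) (D := n - 2 - j) (D' := n - 2)
        (by omega) (by omega) (by omega) h1 K1
      have e : (-1) ^ (n - 1) * a ^ n * (θ⁻¹ * x) * 1 = x := by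
        rw [← hθ]; field_simp
      rwa [e] at h2
  -- the characteristic
  obtain ⟨p, hp⟩ := CharP.exists F
  haveI := hp
  have hpp : p.Prime := CharP.char_is_prime F p
  haveI : Fact p.Prime := ⟨hpp⟩
  obtain ⟨ν, m', hm'p, hnm⟩ := Nat.exists_eq_pow_mul_and_not_dvd (by omega : n ≠ 0) p hpp.ne_one
  have Kapow : PP H a (n - 2) (a ^ (p ^ ν)) := by
    by_cases hm1 : m' = 1
    · have hnp : n = p ^ ν := by rw [hnm, hm1, mul_one]
      have hθK : PP H a (n - 2) θ := by
        have := Kθ1 K1
        rwa [mul_one] at this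
      have hσK : PP H a (n - 2) ((-1) ^ (n - 1)) := Kpow _ (Kneg K1)
      have h3 := Kmul hσK hθK
      have e : (-1 : F) ^ (n - 1) * θ = a ^ n := by
        rw [hθ, ← mul_assoc, ← mul_pow]
        norm_num
      rw [e] at h3
      have e2 : a ^ (p ^ ν) = a ^ n := congrArg (fun k => a ^ k) hnp.symm
      rw [e2]
      exact h3
    · have hm'0 : m' ≠ 0 := by
        rintro rfl
        rw [mul_zero] at hnm
        omega
      have hm'2 : 2 ≤ m' := by omega
      have hmpos : 0 < p ^ ν := pow_pos hpp.pos ν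
      have hdvd : p ^ ν ∣ n := ⟨m', hnm⟩
      have hm3 : p ^ ν + 3 ≤ n := by
        by_cases c3 : 3 ≤ p ^ ν
        · have : 2 * p ^ ν ≤ n := by
            calc 2 * p ^ ν = p ^ ν * 2 := mul_comm _ _
              _ ≤ p ^ ν * m' := Nat.mul_le_mul_left _ hm'2
              _ = n := hnm.symm
          omega
        · by_cases c1 : p ^ ν = 1
          · omega
          · have c2 : p ^ ν = 2 := by omega
            have hν : ν ≠ 0 := by
              rintro rfl
              rw [pow_zero] at c1
              exact c1 rfl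
            have hp2 : p ∣ 2 := by
              rw [← c2]
              exact dvd_pow_self p hν
            have hple : p ≤ 2 := Nat.le_of_dvd (by norm_num) hp2
            have hpe : p = 2 := by have := hpp.two_le; omega
            rw [hpe] at hm'p
            have hodd : m' % 2 = 1 := Nat.two_dvd_ne_zero.mp hm'p
            rw [c2] at hnm
            omega
      have h01 : PP H a 0 1 := by
        have := down (n - 2) le_rfl 1 K1
        rwa [Nat.sub_self] at this
      have h2 := PP_char H a h1n ha0 hu p ν hdvd hm3 h01 h01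
      have h3 : PP H a (n - 2) (((n / p ^ ν : ℕ) : F) * 1 * 1 * (a ^ (p ^ ν))⁻¹) :=
        liftTo (by omega) (by omega) h2
      have hβ : ((n / p ^ ν : ℕ) : F) ≠ 0 := by
        have : n / p ^ ν = m' := by
          conv_lhs => rw [hnm]
          exact Nat.mul_div_cancel_left m' hmpos
        rw [this]
        intro h0
        exact hm'p ((CharP.cast_eq_zero_iff F p m').mp h0)
      have h4 := Kmul (Kinv (Knat (n / p ^ ν))) h3
      have hne : a ^ (p ^ ν) ≠ 0 := pow_ne_zero _ ha0
      have e : ((n / p ^ ν : ℕ) : F)⁻¹ * (((n / p ^ ν : ℕ) : F) * 1 * 1 * (a ^ (p ^ ν))⁻¹) =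
          (a ^ (p ^ ν))⁻¹ := by
        field_simp
      rw [e] at h4
      have := Kinv h4
      rwa [inv_inv] at this
  have Ka : PP H a (n - 2) a := by
    obtain ⟨f, hpf, hqf⟩ := FiniteField.card F p
    have h1 : a ^ (Fintype.card F ^ ν) = a := FiniteField.pow_card_pow ν a
    have hf : 1 ≤ (f : ℕ) := f.pos
    have h2 : Fintype.card F ^ ν = p ^ ν * (p ^ ν) ^ ((f : ℕ) - 1) := by
      rw [hqf, ← pow_succ', ← pow_mul, ← pow_mul, show (f : ℕ) - 1 + 1 = (f : ℕ) by omega, mul_comm]
    rw [h2, pow_mul] at h1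
    have h3 := Kpow ((p ^ ν) ^ ((f : ℕ) - 1)) Kapow
    rw [h1] at h3
    exact h3
  have Kall : ∀ x : F, PP H a (n - 2) x := by
    intro x
    by_cases hx : x = 0
    · rw [hx]; exact PP_zero H a _
    · obtain ⟨k, rfl⟩ := hgen x hx
      exact Kpow k Ka
  intro D hD x
  have := down (n - 2 - D) (by omega) x (Kall x)
  rwa [show n - 2 - (n - 2 - D) = D by omega] at this

theorem ee_neg_nat (i : ℕ) : ee n F (-(i : ℤ)) = E n F 0 ᵥ* (1 - Nm n F) ^ i := by
  unfold ee
  rw [neg_neg, _root_.zpow_natCast, Units.val_pow_eq_pow_val, uu_val]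

theorem Nm_mul_pow (i : ℕ) :
    Nm n F * (1 - Nm n F) ^ i = (1 - Nm n F) ^ i - (1 - Nm n F) ^ (i + 1) := by
  rw [pow_succ', sub_mul, one_mul]
  abel

/-- main step: an overgroup of `u` and `v = t u t⁻¹` contains `SL_n` -/
theorem main_GL [Fintype F] (hn : 4 ≤ n) (H : Subgroup (GL (Fin n) F)) (a : F)
    (tG : GL (Fin n) F) (htG : tG.1 = tvMat (a • E n F 0) (E n F (n - 1)))
    (hu : uu n F ∈ H) (hv : tG * uu n F * tG⁻¹ ∈ H) (ha0 : a ≠ 0)
    (hgen : ∀ x : F, x ≠ 0 → ∃ k : ℕ, a ^ k = x) :
    Cfsg.Geo.specialLinear (Fin n) F ≤ H := by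
  classical
  have h1n : 1 ≤ n := by omega
  have h0n : 0 < n := by omega
  have hn1 : n - 1 < n := by omega
  have hP := PP_all hn H a tG htG hu hv ha0 hgen
  have hQ : ∀ D : ℕ, D + 2 ≤ n → ∀ s : F,
      TvIn H (E n F (n - 1)) (s • (E n F 0 ᵥ* (1 - Nm n F) ^ D)) := by
    intro D hD s
    have h := hP D hD (s / a ^ (D + 1))
    unfold PP QQ at h
    have e : a ^ (D + 1) * (s / a ^ (D + 1)) = s := by
      have : a ^ (D + 1) ≠ 0 := pow_ne_zero _ ha0
      field_simp
    rw [e, cc_zero, ee_neg_nat] at h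
    exact h
  have claim : ∀ k : ℕ, ∀ i : ℕ, i + k + 2 ≤ n →
      (E n F k ᵥ* (1 - Nm n F) ^ i) ⬝ᵥ E n F (n - 1) = 0 ∧
        ∀ s : F, TvIn H (E n F (n - 1)) (s • (E n F k ᵥ* (1 - Nm n F) ^ i)) := by
    intro k
    induction k with
    | zero =>
      intro i hi
      refine ⟨?_, fun s => hQ i (by omega) s⟩
      rw [dot_E _ hn1, row_pow]
      show (-1 : F) ^ (n - 1) * ((i.choose (n - 1) : ℕ) : F) = 0
      rw [Nat.choose_eq_zero_of_lt (by omega), Nat.cast_zero, mul_zero]
    | succ k ih =>
      intro i hi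
      obtain ⟨d1, t1⟩ := ih i (by omega)
      obtain ⟨d2, t2⟩ := ih (i + 1) (by omega)
      have e : E n F (k + 1) ᵥ* (1 - Nm n F) ^ i =
          E n F k ᵥ* (1 - Nm n F) ^ i - E n F k ᵥ* (1 - Nm n F) ^ (i + 1) := by
        rw [← E_vecMul_Nm, vecMul_vecMul, Nm_mul_pow, vecMul_sub]
      rw [e]
      refine ⟨by rw [sub_dotProduct, d1, d2, sub_zero], fun s => ?_⟩
      have h1 := t1 s
      have h2 := t2 (-s)
      have h3 := TvIn.mul_same h1 h2 (by rw [smul_dotProduct, d1, smul_zero])
      have e2 : s • (E n F k ᵥ* (1 - Nm n F) ^ i) + (-s) • (E n F k ᵥ* (1 - Nm n F) ^ (i + 1)) =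
          s • (E n F k ᵥ* (1 - Nm n F) ^ i - E n F k ᵥ* (1 - Nm n F) ^ (i + 1)) := by
        rw [smul_sub, neg_smul, ← sub_eq_add_neg]
      rw [e2] at h3
      exact h3
  have hE : ∀ k : ℕ, k + 2 ≤ n → ∀ s : F, TvIn H (E n F (n - 1)) (s • E n F k) := by
    intro k hk s
    have := (claim k 0 (by omega)).2 s
    rw [pow_zero, vecMul_one] at this
    exact this
  have ctop : IsCentre H (E n F (n - 1)) := by
    apply isCentre_of_tvIn
    intro φ hφ
    have hφ' : φ ⟨n - 1, hn1⟩ = 0 := by
      rw [dot_E _ hn1] at hφ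
      exact hφ
    rw [vec_eq_sum_E φ]
    apply tvIn_sum
    · intro i _
      by_cases hi : i.val = n - 1
      · have : φ i = 0 := by
          have e : i = ⟨n - 1, hn1⟩ := Fin.ext hi
          rw [e]
          exact hφ'
        rw [this, zero_smul, zero_dotProduct]
      · rw [smul_dotProduct, dot_E _ hn1, E_apply, if_neg (fun e => hi e.symm), smul_zero]
    · intro i _
      by_cases hi : i.val = n - 1
      · have : φ i = 0 := by
          have e : i = ⟨n - 1, hn1⟩ := Fin.ext hi
          rw [e]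
          exact hφ'
        rw [this, zero_smul]
        exact tvIn_zero H _
      · exact hE i.val (by have := i.isLt; omega) (φ i)
  have cneg : ∀ x : Fin n → F, IsCentre H x → IsCentre H (-x) := by
    intro x hx
    have := isCentre_smul H x (-1) hx
    rw [neg_smul, one_smul] at this
    exact this
  have cdown : ∀ j : ℕ, j ≤ n - 1 → IsCentre H (E n F (n - 1 - j)) := by
    intro j
    induction j with
    | zero => intro _; exact ctop
    | succ j ih =>
      intro hj
      have h1 := ih (by omega)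
      have hk1 : n - 1 - (j + 1) + 1 < n := by omega
      have e : n - 1 - j = n - 1 - (j + 1) + 1 := by omega
      rw [e] at h1
      have h2 := isCentre_mulVec H _ (uu n F) hu h1
      rw [uu_val, u_mulVec_E_succ hk1] at h2
      have h3 := isCentre_add H _ _ h1 (cneg _ h2)
      have e2 : E n F (n - 1 - (j + 1) + 1) +
          -(E n F (n - 1 - (j + 1) + 1) - E n F (n - 1 - (j + 1))) = E n F (n - 1 - (j + 1)) := by
        abel
      rw [e2] at h3
      exact h3
  have call : ∀ k : ℕ, IsCentre H (E n F k) := by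
    intro k
    by_cases h1 : k ≤ n - 1
    · have := cdown (n - 1 - k) (by omega)
      have e : n - 1 - (n - 1 - k) = k := by omega
      rw [e] at this
      exact this
    · rw [E_eq_zero (by omega)]
      exact isCentre_zero H
  apply specialLinear_le (by omega) H
  intro x
  rw [vec_eq_sum_E x]
  have : ∀ s : Finset (Fin n), IsCentre H (∑ i ∈ s, x i • E n F i.val) := by
    intro s
    induction s using Finset.induction_on with
    | empty => rw [Finset.sum_empty]; exact isCentre_zero H
    | insert b s hb ih =>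
      rw [Finset.sum_insert hb]
      exact isCentre_add H _ _ (isCentre_smul H _ _ (call b.val)) ih
  exact this Finset.univ

end Cfsg.Agent.Lib.Helper1.Rv
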