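import Mathlib
import Cfsg.Agent.Lib.Helper1.Rv4
import Cfsg.Agent.Lib.Helper1.Rg4

set_option autoImplicit false
set_option maxHeartbeats 4000000
set_option linter.unusedVariables false
set_option linter.unusedSectionVars false
set_option linter.style.longLine false
set_option linter.unusedSimpArgs false
set_option linter.deprecated false

/-! Generation of `SL_n` by two conjugate regular unipotent elements, part 5:
the statement in `SL_n`. -/

namespace Cfsg.Agent.Lib.Helper1.Rv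

open Matrix Cfsg.Agent.Lib.Helper5.TvGL Cfsg.Agent.Lib.Helper5.SLSubspaceMax
  Cfsg.Agent.Lib.Helper2.Sfm Cfsg.Agent.Lib.Helper1.Rg

universe u

variable {F : Type u} [Field F] {n : ℕ}

theorem conj_pow {R : Type*} [Ring R] (G G' M : R) (h : G' * G = 1) (hGG' : G * G' = 1) (k : ℕ) :
    (G * M * G') ^ k = G * M ^ k * G' := by
  induction k with
  | zero => rw [pow_zero, pow_zero, mul_one, hGG']
  | succ k ih =>
    rw [pow_succ, ih, pow_succ]
    have : G * M ^ k * G' * (G * M * G') = G * M ^ k * (G' * G) * M * G' := by noncomm_ring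
    rw [this, h, mul_one]
    noncomm_ring

/-- conjugates of regular unipotent elements are regular unipotent -/
theorem regular_conj (u g : SpecialLinearGroup (Fin n) F)
    (h : IsNilpotent ((u : Matrix (Fin n) (Fin n) F) - 1) ∧
      ((u : Matrix (Fin n) (Fin n) F) - 1) ^ (n - 1) ≠ 0) :
    IsNilpotent (((g * u * g⁻¹ : SpecialLinearGroup (Fin n) F) : Matrix (Fin n) (Fin n) F) - 1) ∧
      (((g * u * g⁻¹ : SpecialLinearGroup (Fin n) F) : Matrix (Fin n) (Fin n) F) - 1) ^ (n - 1)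
        ≠ 0 := by
  obtain ⟨G, hG⟩ : ∃ G : Matrix (Fin n) (Fin n) F, G = (g : Matrix (Fin n) (Fin n) F) := ⟨_, rfl⟩
  obtain ⟨G', hG'⟩ : ∃ G' : Matrix (Fin n) (Fin n) F,
    G' = ((g⁻¹ : SpecialLinearGroup (Fin n) F) : Matrix (Fin n) (Fin n) F) := ⟨_, rfl⟩
  obtain ⟨U, hU⟩ : ∃ U : Matrix (Fin n) (Fin n) F, U = (u : Matrix (Fin n) (Fin n) F) := ⟨_, rfl⟩
  have hGG' : G * G' = 1 := by
    rw [hG, hG']
    have := congrArg (fun A : SpecialLinearGroup (Fin n) F => (A : Matrix (Fin n) (Fin n) F))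
      (mul_inv_cancel g)
    exact this
  have hG'G : G' * G = 1 := by
    rw [hG, hG']
    have := congrArg (fun A : SpecialLinearGroup (Fin n) F => (A : Matrix (Fin n) (Fin n) F))
      (inv_mul_cancel g)
    exact this
  have e0 : ((g * u * g⁻¹ : SpecialLinearGroup (Fin n) F) : Matrix (Fin n) (Fin n) F) =
      G * U * G' := by
    rw [hG, hG', hU]
    rfl
  have e : ((g * u * g⁻¹ : SpecialLinearGroup (Fin n) F) : Matrix (Fin n) (Fin n) F) - 1 =
      G * (U - 1) * G' := by
    rw [e0, mul_sub, sub_mul, mul_one, hGG']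
  rw [e]
  rw [← hU] at h
  obtain ⟨⟨N, hN⟩, h2⟩ := h
  constructor
  · refine ⟨N, ?_⟩
    rw [conj_pow _ _ _ hG'G hGG', hN, mul_zero, zero_mul]
  · intro h0
    rw [conj_pow _ _ _ hG'G hGG'] at h0
    apply h2
    have : (U - 1) ^ (n - 1) = G' * (G * (U - 1) ^ (n - 1) * G') * G := by
      have : G' * (G * (U - 1) ^ (n - 1) * G') * G =
          (G' * G) * (U - 1) ^ (n - 1) * (G' * G) := by noncomm_ring
      rw [this, hG'G, one_mul, mul_one]
    rw [this, h0, mul_zero, zero_mul]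

theorem main [Fintype F] (hn : 4 ≤ n) :
    ∃ u g : SpecialLinearGroup (Fin n) F,
      (IsNilpotent ((u : Matrix (Fin n) (Fin n) F) - 1) ∧
        ((u : Matrix (Fin n) (Fin n) F) - 1) ^ (n - 1) ≠ 0) ∧
      Subgroup.closure ({u, g * u * g⁻¹} : Set (SpecialLinearGroup (Fin n) F)) = ⊤ := by
  classical
  have h0n : 0 < n := by omega
  obtain ⟨γ, hγ⟩ := IsCyclic.exists_monoid_generator (α := Fˣ)
  obtain ⟨a, hadef⟩ : ∃ a : F, a = (γ : F) := ⟨_, rfl⟩
  have ha0 : a ≠ 0 := by rw [hadef]; exact γ.ne_zero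
  have hgen : ∀ x : F, x ≠ 0 → ∃ k : ℕ, a ^ k = x := by
    intro x hx
    obtain ⟨k, hk⟩ := hγ (Units.mk0 x hx)
    refine ⟨k, ?_⟩
    have := congrArg (fun y : Fˣ => (y : F)) hk
    rw [hadef]
    simpa using this
  have hp0 : (a • E n F 0) ⬝ᵥ E n F (n - 1) = 0 := by
    rw [smul_dotProduct, E_dot_E h0n, if_neg (by omega), smul_zero]
  set u := uS n F with hu
  set g := tS (E n F (n - 1)) (a • E n F 0) hp0 with hg
  refine ⟨u, g, uS_regular (by omega), ?_⟩
  set G0 := Subgroup.closure ({u, g * u * g⁻¹} : Set (SpecialLinearGroup (Fin n) F)) with hG0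
  have m1 : u ∈ G0 := Subgroup.subset_closure (by simp)
  have m2 : g * u * g⁻¹ ∈ G0 := Subgroup.subset_closure (by simp)
  set H : Subgroup (GL (Fin n) F) := G0.map SpecialLinearGroup.toGL with hH
  have eu : SpecialLinearGroup.toGL u = uu n F := Units.ext rfl
  have hle : Cfsg.Geo.specialLinear (Fin n) F ≤ H := by
    apply main_GL hn H a (SpecialLinearGroup.toGL g) rfl ?_ ?_ ha0 hgen
    · rw [← eu]
      exact Subgroup.mem_map_of_mem _ m1
    · rw [← eu, ← map_inv, ← map_mul, ← map_mul]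
      exact Subgroup.mem_map_of_mem _ m2
  rw [eq_top_iff]
  intro A _
  have hA : SpecialLinearGroup.toGL A ∈ Cfsg.Geo.specialLinear (Fin n) F := by
    rw [mem_specialLinear_iff]
    exact A.2
  obtain ⟨B, hB, hBA⟩ := hle hA
  have : B = A := toGL_injective hBA
  rw [← this]
  exact hB

end Cfsg.Agent.Lib.Helper1.Rv
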