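import Mathlib
import Cfsg.Agent.Lib.Helper1.QuadSL2i
import Cfsg.Agent.Lib.Helper1.SL2Q8f
import Cfsg.Agent.Lib.Helper1.QuadStable3
set_option autoImplicit false
open scoped commutatorElement Pointwise IsMulCommutative
universe u v w
namespace Cfsg.Agent.Lib.Helper1.QuadSL2

variable {G : Type u} [Group G]

theorem s0594 [Finite G] {p : ℕ} [hpF : Fact p.Prime] (hp : p ≠ 2) (V H : Subgroup G)
    (hV : Cfsg.IsElementaryAbelian p V) (hHV : H ≤ Subgroup.normalizer (V : Set G))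
    (hf : H ⊓ Subgroup.centralizer (V : Set G) = ⊥) (a b : G)
    (hab : H = Subgroup.closure {a, b})
    (ha : ⁅⁅V, Subgroup.zpowers a⁆, Subgroup.zpowers a⁆ = ⊥)
    (hb : ⁅⁅V, Subgroup.zpowers b⁆, Subgroup.zpowers b⁆ = ⊥)
    (Q : Subgroup G) (hQH : Q ≤ H)
    (hQn : H ≤ Subgroup.normalizer (Q : Set G)) (hQ : (Nat.card Q).Coprime p)
    (hQa : ⁅Q, Subgroup.zpowers a⁆ ≠ ⊥) :
    p = 3 ∧ ∃ (K L : Subgroup G) (hL : (L.subgroupOf K).Normal), K ≤ H ∧
      Nonempty ((K ⧸ L.subgroupOf K) ≃* Matrix.SpecialLinearGroup (Fin 2) (ZMod 3)) := by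
  haveI : IsMulCommutative V := hV.1
  have haH : a ∈ H := by rw [hab]; exact Subgroup.subset_closure (by simp)
  have hbH : b ∈ H := by rw [hab]; exact Subgroup.subset_closure (by simp)
  have hgen := closure_pair_eq_top H a b hab haH hbH
  obtain ⟨D, hD⟩ : ∃ D : Subgroup G, D = ⁅Q, Subgroup.zpowers a⁆ := ⟨_, rfl⟩
  rw [← hD] at hQa
  have hzN : Subgroup.zpowers a ≤ Subgroup.normalizer (Q : Set G) := by
    rw [Subgroup.zpowers_le]; exact hQn haH
  have hDQ : D ≤ Q := by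
    rw [hD]; exact Subgroup.le_normalizer_iff_commutator_le_left.mp hzN
  have hDH : D ≤ H := hDQ.trans hQH
  have hDcop : (Nat.card D).Coprime p :=
    Nat.Coprime.coprime_dvd_left (Subgroup.card_dvd_of_le hDQ) hQ
  have hnpD : ¬ IsPGroup p (Subgroup.inclusion hDH).range := by
    intro h
    apply hQa
    have h1 : IsPGroup p D :=
      IsPGroup.of_injective h (Subgroup.inclusion hDH).rangeRestrict (by
        intro d₁ d₂ h12
        have := congrArg (fun t : (Subgroup.inclusion hDH).range => ((t : H) : G)) h12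
        exact Subtype.ext this)
    obtain ⟨k, hk⟩ := IsPGroup.iff_card.mp h1
    have h2 : Nat.card D = 1 := by
      rcases Nat.eq_zero_or_pos k with h0 | h0
      · rw [hk, h0, pow_zero]
      · exfalso
        rw [hk] at hDcop
        have : p ∣ Nat.gcd (p ^ k) p := Nat.dvd_gcd (dvd_pow_self p h0.ne') dvd_rfl
        rw [Nat.Coprime.gcd_eq_one hDcop] at this
        exact hpF.out.one_lt.ne' (Nat.dvd_one.mp this)
    exact Subgroup.card_eq_one.mp h2
  obtain ⟨n, φ, hφ, hrange, hS⟩ := exists_sl2_hom_of_quadratic_pair_track (A := V)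
    (fun u => Subtype.ext (hV.2 u u.2)) (conjOn V H hHV) (conjOn_injective V H hHV hf)
    ⟨a, haH⟩ ⟨b, hbH⟩ hgen (conjOn_quad V H hHV ⟨a, haH⟩ ha) (conjOn_quad V H hHV ⟨b, hbH⟩ hb)
    (Subgroup.inclusion hDH) hnpD
  obtain ⟨x, hx⟩ : ∃ x, x = φ ⟨a, haH⟩ := ⟨_, rfl⟩
  obtain ⟨Qb, hQb⟩ : ∃ Qb, Qb = (Q.subgroupOf H).map φ := ⟨_, rfl⟩
  have hxp : x ^ p = 1 := by rw [hx]; exact hS _ (by simp)
  have hQbcop : (Nat.card Qb).Coprime p := by
    have h1 : Nat.card Qb ∣ Nat.card (Q.subgroupOf H) := by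
      rw [hQb]; exact Subgroup.card_map_dvd _ _
    have h2 : Nat.card (Q.subgroupOf H) = Nat.card Q :=
      Nat.card_congr (Subgroup.subgroupOfEquivOfLe hQH).toEquiv
    rw [h2] at h1
    exact Nat.Coprime.coprime_dvd_left h1 hQ
  have hxN : x ∈ Subgroup.normalizer (Qb : Set _) := by
    have h1 : (⟨a, haH⟩ : H) ∈ Subgroup.normalizer ((Q.subgroupOf H : Subgroup H) : Set H) := by
      rw [Subgroup.mem_normalizer_iff]
      intro h
      rw [Subgroup.mem_subgroupOf, Subgroup.mem_subgroupOf]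
      exact Subgroup.mem_normalizer_iff.mp (hQn haH) (h : G)
    have := Subgroup.le_normalizer_map φ (Subgroup.mem_map_of_mem φ h1)
    rw [hx, hQb]; exact this
  have hnc : ¬ ∀ q ∈ Qb, x * q = q * x := by
    intro hall
    apply hφ
    have hDker : D ≤ φ.ker.map H.subtype := by
      rw [hD, Subgroup.commutator_le]
      intro q hq z hz
      obtain ⟨k, rfl⟩ := Subgroup.mem_zpowers_iff.mp hz
      refine ⟨⁅(⟨q, hQH hq⟩ : H), (⟨a, haH⟩ : H) ^ k⁆, ?_, ?_⟩
      · rw [SetLike.mem_coe, MonoidHom.mem_ker, map_commutatorElement, commutatorElement_eq_one_iff_mul_comm,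
          map_zpow, ← hx]
        have hc : Commute x (φ ⟨q, hQH hq⟩) := by
          apply hall
          rw [hQb]
          exact Subgroup.mem_map_of_mem φ (Subgroup.mem_subgroupOf.mpr hq)
        exact ((hc.zpow_left k).eq).symm
      · simp [commutatorElement_def]
    rintro ⟨_, ⟨d, rfl⟩⟩
    refine ⟨0, ?_⟩
    apply Subtype.ext
    obtain ⟨h, hh, hhd⟩ := hDker d.2
    have : Subgroup.inclusion hDH d = h := Subtype.ext hhd.symm
    simp only [pow_zero, pow_one, MonoidHom.comp_apply, Subgroup.coe_one]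
    rw [this]
    exact hh
  have hp3 : p = 3 := SL2Three.eq_three_of_coprime_action hp Qb hQbcop x hxp hxN hnc
  refine ⟨hp3, ?_⟩
  subst hp3
  obtain ⟨i, hi, ⟨e⟩⟩ := SL2Three.exists_sl2_three_of_coprime_action Qb hQbcop x hxp hxN hnc
  have hYle : Subgroup.closure {i, x} ≤ φ.range := by
    rw [Subgroup.closure_le]
    rintro z (rfl | rfl)
    · rw [hQb] at hi
      obtain ⟨h, -, rfl⟩ := hi
      exact ⟨h, rfl⟩
    · rw [hx]; exact ⟨_, rfl⟩
  obtain ⟨K, L, hL, hK, ⟨e'⟩⟩ := SectionPull.exists_section_of_injective_hom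
    H.subtype H.subtype_injective φ _ hYle
  refine ⟨K, L, hL, ?_, ⟨e'.trans e⟩⟩
  rwa [Subgroup.range_subtype] at hK

end Cfsg.Agent.Lib.Helper1.QuadSL2
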