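import Mathlib
import Cfsg.Agent.Lib.Helper1.SL2Q8f
import Cfsg.Agent.Lib.Helper1.QuadStable3
set_option autoImplicit false
open scoped commutatorElement Pointwise IsMulCommutative
universe u v w
namespace Cfsg.Agent.Lib.Helper1.QuadSL2

variable {G : Type u} [Group G]

theorem s0596 [Finite G] {p : ℕ} [Fact p.Prime] (hp : p ≠ 2) (V H : Subgroup G)
    (hV : Cfsg.IsElementaryAbelian p V) (hHV : H ≤ Subgroup.normalizer (V : Set G))
    (hf : H ⊓ Subgroup.centralizer (V : Set G) = ⊥) (hsep : Cfsg.IsPSolvable p H) (a : G)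
    (haH : a ∈ H) (hq : ⁅⁅V, Subgroup.zpowers a⁆, Subgroup.zpowers a⁆ = ⊥)
    (hna : a ∉ (Cfsg.pCore p H).map H.subtype) :
    p = 3 ∧ ∃ (K L : Subgroup G) (hL : (L.subgroupOf K).Normal), K ≤ H ∧
      Nonempty ((K ⧸ L.subgroupOf K) ≃* Matrix.SpecialLinearGroup (Fin 2) (ZMod 3)) := by
  haveI : IsMulCommutative V := hV.1
  have hna' : (⟨a, haH⟩ : H) ∉ Cfsg.pCore p H := by
    intro h
    exact hna ⟨⟨a, haH⟩, h, rfl⟩
  obtain ⟨hp3, K, L, hL, hK, hiso⟩ := exists_sl2_three_section_of_quad_pSolvable (A := V) hp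
    (fun u => Subtype.ext (hV.2 u u.2)) (conjOn V H hHV) (conjOn_injective V H hHV hf)
    ⟨a, haH⟩ (conjOn_quad V H hHV ⟨a, haH⟩ hq) hsep hna' H.subtype H.subtype_injective
  refine ⟨hp3, K, L, hL, ?_, hiso⟩
  rwa [Subgroup.range_subtype] at hK

end Cfsg.Agent.Lib.Helper1.QuadSL2
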