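import Mathlib
import Cfsg.Agent.Lib.Helper1.Dickson17
import Cfsg.Agent.Lib.Helper1.QuadStable3
set_option autoImplicit false
open scoped commutatorElement Pointwise IsMulCommutative
universe u v w
namespace Cfsg.Agent.Lib.Helper1.QuadSL2

variable {G : Type u} [Group G]

theorem s0656 [Finite G] {p : ℕ} [Fact p.Prime] (hp : p ≠ 2) (V H : Subgroup G)
    (hV : Cfsg.IsElementaryAbelian p V) (hHV : H ≤ Subgroup.normalizer (V : Set G))
    (hf : H ⊓ Subgroup.centralizer (V : Set G) = ⊥) (hO : Cfsg.pCore p ↥H = ⊥) (x : G)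
    (hxH : x ∈ H) (hx1 : x ≠ 1)
    (hq : ⁅⁅V, Subgroup.zpowers x⁆, Subgroup.zpowers x⁆ = ⊥) :
    ∃ (K L : Subgroup G) (hL : (L.subgroupOf K).Normal), K ≤ H ∧
      Nonempty ((K ⧸ L.subgroupOf K) ≃* Matrix.SpecialLinearGroup (Fin 2) (ZMod p)) := by
  haveI : IsMulCommutative V := hV.1
  have hna' : (⟨x, hxH⟩ : H) ∉ Cfsg.pCore p H := by
    rw [hO, Subgroup.mem_bot]
    intro h
    exact hx1 (congrArg Subtype.val h)
  obtain ⟨K, L, hL, hK, hiso⟩ := exists_sl2_section_of_quad (A := V) hp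
    (fun u => Subtype.ext (hV.2 u u.2)) (conjOn V H hHV) (conjOn_injective V H hHV hf)
    ⟨x, hxH⟩ (conjOn_quad V H hHV ⟨x, hxH⟩ hq) hna' H.subtype H.subtype_injective
  refine ⟨K, L, hL, ?_, hiso⟩
  rwa [Subgroup.range_subtype] at hK

end Cfsg.Agent.Lib.Helper1.QuadSL2
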