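import Mathlib
import Cfsg.Prelude.Def_CaseTheorems

/-!
# S1233 farm: shared definitions (owner helper1)

Paper proof: tips "NOMINATE S1233 part 1/2, 2/2" (helper1, 04:45Z Dec 5).
Import THIS file in every unit. Exact unit statements: tip "S1233 STUBS".

Conventions: `cm x y = x⁻¹ * y⁻¹ * x * y` (the commutator `[x, y]` of the paper).  Conjugates are written `x⁻¹ * a * x`.
`Zs z = ⟨z⟩`, `cen H = C_S(H)`, `Bs i₁ i₂ = ⟨i₁, i₂⟩`, `Rs i₁ i₂ = C_S(i₁) ∩ C_S(i₂)`.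
-/

set_option autoImplicit false

namespace Cfsg.Agent.Lib.Helper1.S1233

variable {S : Type*} [Group S]

/-- the commutator `[x, y] = x⁻¹ y⁻¹ x y` -/
abbrev cm (x y : S) : S := x⁻¹ * y⁻¹ * x * y

/-- the subgroup `⟨z⟩` -/
abbrev Zs (z : S) : Subgroup S := Subgroup.zpowers z

/-- the centralizer of a subgroup -/
abbrev cen (H : Subgroup S) : Subgroup S := Subgroup.centralizer (H : Set S)

/-- `B = ⟨i₁, i₂⟩` -/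
abbrev Bs (i₁ i₂ : S) : Subgroup S := Subgroup.closure {i₁, i₂}

/-- `R = C_S(B)`: the elements commuting with `i₁` and `i₂` -/
abbrev Rs (i₁ i₂ : S) : Subgroup S := Subgroup.centralizer {i₁, i₂}

/-- Hypotheses of S1233 (with `Q = Q₁ ⊔ Q₂`) together with the central involution `z`
(`⟨z⟩ = Z(Q₁) = Z(Q₂) = Z(S)`). -/
structure Base (Q₁ Q₂ : Subgroup S) (z : S) : Prop where
  fin : Finite S
  pS : IsPGroup 2 S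
  q1 : Nonempty (Q₁ ≃* QuaternionGroup 2)
  q2 : Nonempty (Q₂ ≃* QuaternionGroup 2)
  comm : ∀ a ∈ Q₁, ∀ b ∈ Q₂, a * b = b * a
  card : Nat.card ↥(Q₁ ⊔ Q₂) = 32
  cent : cen (Q₁ ⊔ Q₂) ≤ Q₁ ⊔ Q₂
  z_ne : z ≠ 1
  z_sq : z * z = 1
  z_central : ∀ g : S, g * z = z * g
  z_mem₁ : z ∈ Q₁
  z_mem₂ : z ∈ Q₂

/-- Structure of `X = C_S(Q')` (`Q'` the other quaternion group) around `Qk ≤ X`:
`⟨c⟩` is cyclic of index 2 in `X`, of order `2 ^ n`, `c ^ (2 ^ (n-1)) = z`,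
`i = c ^ (2 ^ (n-2)) ∈ Qk` (order 4), `j ∈ Qk` outside `⟨c⟩`, and every `x ∈ X` outside `⟨c⟩`
conjugates `c` to `c ^ ε`, `ε = -1` or `ε = -1 + 2 ^ (n-1)` (as natural numbers below `2 ^ n`).
For `n = 2`: `X = Qk`, `i = c`. -/
structure Side (Qk X : Subgroup S) (z c i j : S) (n ε : ℕ) : Prop where
  two_le : 2 ≤ n
  card : Nat.card ↥X = 2 ^ (n + 1)
  c_mem : c ∈ X
  ord : orderOf c = 2 ^ n
  c_pow : c ^ (2 ^ (n - 1)) = z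
  i_eq : i = c ^ (2 ^ (n - 2))
  i_mem : i ∈ Qk
  j_mem : j ∈ Qk
  j_not : j ∉ Subgroup.zpowers c
  act : ∀ x ∈ X, x ∉ Subgroup.zpowers c → x⁻¹ * c * x = c ^ ε
  eps : ε = 2 ^ n - 1 ∨ (3 ≤ n ∧ ε = 2 ^ (n - 1) - 1)

/-- the chosen elements -/
structure Dat (S : Type*) where
  z : S
  c₁ : S
  i₁ : S
  j₁ : S
  n₁ : ℕ
  ε₁ : ℕ
  c₂ : S
  i₂ : S
  j₂ : S
  n₂ : ℕ
  ε₂ : ℕ

/-- swap the roles of the two sides -/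
def Dat.swap (d : Dat S) : Dat S :=
  { z := d.z, c₁ := d.c₂, i₁ := d.i₂, j₁ := d.j₂, n₁ := d.n₂, ε₁ := d.ε₂,
    c₂ := d.c₁, i₂ := d.i₁, j₂ := d.j₁, n₂ := d.n₁, ε₂ := d.ε₁ }

/-- The full context: base hypotheses, the structure of `X₁ = C_S(Q₂)` and `X₂ = C_S(Q₁)`,
and Lemma B (`[X₁, X₂] ≤ ⟨z⟩`). -/
structure Ctx (Q₁ Q₂ : Subgroup S) (d : Dat S) : Prop where
  base : Base Q₁ Q₂ d.z
  s1 : Side Q₁ (cen Q₂) d.z d.c₁ d.i₁ d.j₁ d.n₁ d.ε₁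
  s2 : Side Q₂ (cen Q₁) d.z d.c₂ d.i₂ d.j₂ d.n₂ d.ε₂
  lemB : ∀ x ∈ cen Q₂, ∀ y ∈ cen Q₁, cm x (y) ∈ Zs d.z

/-- The structure theorem (SIGMA). -/
def Sigma (Q₁ Q₂ : Subgroup S) (z : S) : Prop :=
  ∃ i₁ ∈ Q₁, ∃ i₂ ∈ Q₂, i₁ * i₁ = z ∧ i₂ * i₂ = z ∧
    (∀ g : S, g⁻¹ * i₁ * g ∈ Bs i₁ i₂ ∧ g⁻¹ * i₂ * g ∈ Bs i₁ i₂) ∧
    (∀ r ∈ Rs i₁ i₂, ∀ s ∈ Rs i₁ i₂, cm r (s) ∈ Zs z) ∧
    (∀ r ∈ Rs i₁ i₂, r * r ∈ Zs z → r ∈ Bs i₁ i₂)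

/-- `r ∈ R₁`: `r` centralizes `c₁` and `c₂` modulo `z`. -/
def InR1 (d : Dat S) (r : S) : Prop := cm r (d.c₁) ∈ Zs d.z ∧ cm r (d.c₂) ∈ Zs d.z

/-- `M ⊇ X₁X₂` is GOOD: `B = ⟨i₁, i₂⟩` is normal in `M` and `C_M(B) ≤ R₁`. -/
structure Good (Q₁ Q₂ : Subgroup S) (d : Dat S) (M : Subgroup S) : Prop where
  le1 : cen Q₂ ≤ M
  le2 : cen Q₁ ≤ M
  nB : ∀ m ∈ M, m⁻¹ * d.i₁ * m ∈ Bs d.i₁ d.i₂ ∧ m⁻¹ * d.i₂ * m ∈ Bs d.i₁ d.i₂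
  rM : ∀ r ∈ M, r ∈ Rs d.i₁ d.i₂ → InR1 d r

end Cfsg.Agent.Lib.Helper1.S1233
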