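import Mathlib
import Cfsg.Agent.Lib.Helper1.MaxClassSelfCentralizing
import Cfsg.Agent.Lib.Helper1.MaxClassTwoC

/-!
# S1233 farm: a 2-group with a self-centralizing four-group; the centralizer of an element of
order at least 4 that is inverted by an involution is cyclic.
-/

set_option autoImplicit false

namespace Cfsg.Agent.Lib.Helper1.S1233

/-- In a finite 2-group `D` with a self-centralizing four-subgroup `U`, if `b` is an involution
inverting `a` and `a * a ≠ 1`, then the centralizer of `a` lies in a cyclic subgroup. -/
theorem centralizer_le_cyclic {D : Type*} [Group D] [Finite D] (hD : IsPGroup 2 D)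
    (U : Subgroup D) (hU : Nat.card U = 4) (hUc : Subgroup.centralizer (U : Set D) = U)
    (a b : D) (hb : b * b = 1) (hab : b⁻¹ * a * b = a⁻¹) (ha : a * a ≠ 1) :
    ∃ Z : Subgroup D, IsCyclic Z ∧ Subgroup.centralizer {a} ≤ Z := by
  have : Fact (Nat.Prime 2) := ⟨Nat.prime_two⟩
  obtain ⟨m, hm⟩ := IsPGroup.iff_card.mp hD
  -- a and b do not commute
  have hnc : a * b ≠ b * a := by
    intro h
    apply ha
    have : b⁻¹ * a * b = a := by rw [mul_assoc, h, ← mul_assoc, inv_mul_cancel, one_mul]
    rw [this] at hab
    calc a * a = a * a⁻¹ := by rw [← hab]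
      _ = 1 := mul_inv_cancel a
  -- card D ≥ 8
  have hm3 : 3 ≤ m := by
    by_contra hlt
    have hle : m ≤ 2 := by omega
    have h4 : Nat.card U ∣ Nat.card D := Subgroup.card_subgroup_dvd_card U
    rw [hU, hm] at h4
    have hm2 : m = 2 := by
      have : 2 ^ m ≥ 4 := Nat.le_of_dvd (by positivity) h4
      interval_cases m <;> simp_all
    have hUtop : U = ⊤ := by
      apply Subgroup.eq_top_of_card_eq
      rw [hU, hm, hm2]; norm_num
    have hac : a ∈ Subgroup.centralizer (U : Set D) := by
      rw [hUc, hUtop]; trivial
    have := hac b (by rw [hUtop]; trivial)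
    exact hnc this.symm
  have hcl : Group.nilpotencyClass D = m - 1 :=
    Cfsg.Agent.Lib.Helper1.max_class_of_self_centralizing (p := 2) m hm U (by rw [hU]; norm_num) hUc
  obtain ⟨C, hCc, hCi⟩ := Cfsg.Agent.Lib.Helper1.exists_cyclic_index_two_of_max_class m hm3 hm hcl
  have hCn : C.Normal := Subgroup.normal_of_index_eq_two hCi
  -- C is commutative
  have hCcomm : ∀ x ∈ C, ∀ y ∈ C, x * y = y * x := by
    intro x hx y hy
    obtain ⟨g, hg⟩ := hCc.exists_generator
    obtain ⟨k, hk⟩ := Subgroup.mem_zpowers_iff.mp (hg ⟨x, hx⟩)
    obtain ⟨l, hl⟩ := Subgroup.mem_zpowers_iff.mp (hg ⟨y, hy⟩)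
    have hx' : x = (g : D) ^ k := by
      have := congrArg Subtype.val hk; simpa using this.symm
    have hy' : y = (g : D) ^ l := by
      have := congrArg Subtype.val hl; simpa using this.symm
    rw [hx', hy', ← zpow_add, ← zpow_add, add_comm]
  -- claim 1 : an element of C commuting with some g ∉ C is central
  have claim1 : ∀ g : D, g ∉ C → ∀ c ∈ C, c * g = g * c → ∀ y : D, c * y = y * c := by
    intro g hg c hc hcg y
    by_cases hy : y ∈ C
    · exact hCcomm c hc y hy
    · have hgy : g⁻¹ * y ∈ C := by
        rw [Subgroup.mul_mem_iff_of_index_two hCi]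
        constructor
        · intro h; exact absurd (C.inv_mem_iff.mp h) hg
        · intro h; exact absurd h hy
      have hyy : y = g * (g⁻¹ * y) := by group
      have h1 := hCcomm c hc _ hgy
      rw [hyy, ← mul_assoc, hcg, mul_assoc, h1, ← mul_assoc]
  -- involutions of C are central
  have claim2 : ∀ t ∈ C, t * t = 1 → t ≠ 1 → ∀ y : D, t * y = y * t := by
    intro t ht htt ht1 y
    classical
    have : Fintype C := Fintype.ofFinite C
    have hle := IsCyclic.card_pow_eq_one_le (α := C) (n := 2) (by norm_num)
    set t' : C := ⟨t, ht⟩ with ht'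
    set s' : C := ⟨y⁻¹ * t * y, by
      have := hCn.conj_mem t ht y⁻¹
      simpa using this⟩ with hs'
    by_contra hne
    have hsne : s' ≠ t' := by
      intro h
      apply hne
      have h2 : y⁻¹ * t * y = t := congrArg Subtype.val h
      calc t * y = y * (y⁻¹ * t * y) := by group
        _ = y * t := by rw [h2]
    have hs1 : s' ≠ 1 := by
      intro h
      have h2 : y⁻¹ * t * y = 1 := congrArg Subtype.val h
      apply ht1
      calc t = y * (y⁻¹ * t * y) * y⁻¹ := by group
        _ = 1 := by rw [h2]; group
    have ht1' : t' ≠ 1 := by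
      intro h
      exact ht1 (congrArg Subtype.val h)
    have hsub : ({1, t', s'} : Finset C) ⊆ Finset.univ.filter (fun a : C => a ^ 2 = 1) := by
      intro x hx
      simp only [Finset.mem_insert, Finset.mem_singleton] at hx
      simp only [Finset.mem_filter, Finset.mem_univ, true_and]
      rcases hx with rfl | rfl | rfl
      · simp
      · apply Subtype.ext
        simp only [ht', pow_two, Subgroup.coe_mul, Subgroup.coe_one]
        exact htt
      · apply Subtype.ext
        simp only [hs', pow_two, Subgroup.coe_mul, Subgroup.coe_one]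
        calc y⁻¹ * t * y * (y⁻¹ * t * y) = y⁻¹ * (t * t) * y := by group
          _ = 1 := by rw [htt]; group
    have hcard : ({1, t', s'} : Finset C).card = 3 := by
      rw [Finset.card_insert_of_notMem, Finset.card_insert_of_notMem, Finset.card_singleton]
      · simp only [Finset.mem_singleton]; exact fun h => hsne h.symm
      · simp only [Finset.mem_insert, Finset.mem_singleton, not_or]
        exact ⟨fun h => ht1' h.symm, fun h => hs1 h.symm⟩
    have := Finset.card_le_card hsub
    omega
  -- a ∈ C
  have haC : a ∈ C := by
    by_contra haC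
    have hba : (b * a) * (b * a) = 1 := by
      have h1 : a * b = b * a⁻¹ := by
        calc a * b = b * (b⁻¹ * a * b) := by group
          _ = b * a⁻¹ := by rw [hab]
      calc b * a * (b * a) = b * (a * b) * a := by group
        _ = b * (b * a⁻¹) * a := by rw [h1]
        _ = b * b := by group
        _ = 1 := hb
    by_cases hbC : b ∈ C
    · have hb1 : b ≠ 1 := by
        intro h; apply hnc; rw [h]; simp
      exact hnc (claim2 b hbC hb hb1 a).symm
    · have hbaC : b * a ∈ C := by
        rw [Subgroup.mul_mem_iff_of_index_two hCi]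
        exact ⟨fun h => absurd h hbC, fun h => absurd h haC⟩
      have hba1 : b * a ≠ 1 := by
        intro h
        apply hnc
        have : b = a⁻¹ := eq_inv_of_mul_eq_one_left h
        rw [this]; simp
      have := claim2 (b * a) hbaC hba hba1 a
      apply hnc
      have h3 : b * a * a = a * b * a := by rw [this, mul_assoc]
      exact (mul_right_cancel h3).symm
  refine ⟨C, hCc, ?_⟩
  intro g hg
  by_contra hgC
  have hga : a * g = g * a := by
    have := Subgroup.mem_centralizer_iff.mp hg a (Set.mem_singleton a)
    exact this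
  exact hnc (claim1 g hgC a haC hga b)

end Cfsg.Agent.Lib.Helper1.S1233
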