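import Mathlib
import Cfsg.Agent.Lib.Helper1.S1233Defs
import Cfsg.Agent.Lib.Helper1.S1233MCA

/-!
# S1233 farm: the quotient form of `centralizer_le_cyclic`
(subgroups `N ≤ K` of `S`, `K` normalizing `N`; all hypotheses elementwise in `S`).
-/

set_option autoImplicit false

namespace Cfsg.Agent.Lib.Helper1.S1233

/-- In a finite cyclic group there is at most one involution. -/
theorem cyclic_invol_unique {C : Type*} [Group C] [Finite C] [IsCyclic C] (x y : C)
    (hx : x * x = 1) (hy : y * y = 1) (hy1 : y ≠ 1) : x = 1 ∨ x = y := by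
  classical
  have : Fintype C := Fintype.ofFinite C
  have hle := IsCyclic.card_pow_eq_one_le (α := C) (n := 2) (by norm_num)
  by_contra hne
  push Not at hne
  have hsub : ({1, y, x} : Finset C) ⊆ Finset.univ.filter (fun a : C => a ^ 2 = 1) := by
    intro w hw
    simp only [Finset.mem_insert, Finset.mem_singleton] at hw
    simp only [Finset.mem_filter, Finset.mem_univ, true_and]
    rcases hw with rfl | rfl | rfl
    · simp
    · rw [pow_two]; exact hy
    · rw [pow_two]; exact hx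
  have hcard : ({1, y, x} : Finset C).card = 3 := by
    rw [Finset.card_insert_of_notMem, Finset.card_insert_of_notMem, Finset.card_singleton]
    · simp only [Finset.mem_singleton]; exact fun h => hne.2 h.symm
    · simp only [Finset.mem_insert, Finset.mem_singleton, not_or]
      exact ⟨fun h => hy1 h.symm, fun h => hne.1 h.symm⟩
  have := Finset.card_le_card hsub
  omega

theorem quot_cyclic {S : Type*} [Group S] [Finite S] (hS : IsPGroup 2 S) (K N R : Subgroup S)
    (hNK : N ≤ K) (hnorm : ∀ x ∈ K, ∀ n ∈ N, x⁻¹ * n * x ∈ N)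
    (u₁ u₂ : S) (hu₁ : u₁ ∈ K) (hu₂ : u₂ ∈ K)
    (h11 : u₁ * u₁ ∈ N) (h22 : u₂ * u₂ ∈ N) (h12 : cm u₁ u₂ ∈ N)
    (hn1 : u₁ ∉ N) (hn2 : u₂ ∉ N) (hn12 : u₁ * u₂ ∉ N)
    (hsc : ∀ x ∈ K, cm x u₁ ∈ N → cm x u₂ ∈ N →
      x ∈ N ∨ x * u₁ ∈ N ∨ x * u₂ ∈ N ∨ x * (u₁ * u₂) ∈ N)
    (a b : S) (ha : a ∈ K) (hb : b ∈ K) (hbb : b * b ∈ N) (hab : b⁻¹ * a * b * a ∈ N)
    (haa : a * a ∉ N) (hRK : R ≤ K) (hR : ∀ g ∈ R, cm g a ∈ N) :
    (∃ r₀ ∈ R, ∀ r ∈ R, ∃ k : ℕ, ∃ n ∈ N, r = r₀ ^ k * n) ∧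
    (∀ r ∈ R, ∀ s ∈ R, r * r ∈ N → s * s ∈ N → s ∉ N → r ∈ N ∨ r * s ∈ N) := by
  have hKn : K ≤ Subgroup.normalizer (N : Set S) := by
    intro x hx
    rw [Subgroup.mem_normalizer_iff]
    intro n
    constructor
    · intro hn
      have := hnorm x⁻¹ (K.inv_mem hx) n hn
      simpa using this
    · intro hn
      have := hnorm x hx _ hn
      have h2 : x⁻¹ * (x * n * x⁻¹) * x = n := by group
      rwa [h2] at this
  have hN' : (N.subgroupOf K).Normal := (Subgroup.normal_subgroupOf_iff_le_normalizer hNK).mpr hKn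
  let π : ↥K →* (↥K ⧸ N.subgroupOf K) := QuotientGroup.mk' (N.subgroupOf K)
  have hπ : ∀ y : ↥K, π y = 1 ↔ (y : S) ∈ N := by
    intro y
    show (QuotientGroup.mk' (N.subgroupOf K)) y = 1 ↔ _
    rw [QuotientGroup.mk'_apply, QuotientGroup.eq_one_iff, Subgroup.mem_subgroupOf]
  have hπsurj : Function.Surjective π := QuotientGroup.mk'_surjective _
  have hDp : IsPGroup 2 (↥K ⧸ N.subgroupOf K) := (hS.to_subgroup K).to_quotient _
  -- the elements
  set U₁ : ↥K := ⟨u₁, hu₁⟩ with hU₁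
  set U₂ : ↥K := ⟨u₂, hu₂⟩ with hU₂
  set A : ↥K := ⟨a, ha⟩ with hA
  set B : ↥K := ⟨b, hb⟩ with hB
  have e11 : π U₁ * π U₁ = 1 := by
    rw [← map_mul, hπ]; exact h11
  have e22 : π U₂ * π U₂ = 1 := by
    rw [← map_mul, hπ]; exact h22
  have e12 : π U₁ * π U₂ = π U₂ * π U₁ := by
    have h : π (U₁⁻¹ * U₂⁻¹ * U₁ * U₂) = 1 := by rw [hπ]; exact h12
    rw [map_mul, map_mul, map_mul, map_inv, map_inv] at h
    calc π U₁ * π U₂ = π U₂ * π U₁ * ((π U₁)⁻¹ * (π U₂)⁻¹ * π U₁ * π U₂) := by group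
      _ = π U₂ * π U₁ := by rw [h, mul_one]
  have n1 : π U₁ ≠ 1 := fun h => hn1 ((hπ U₁).mp h)
  have n2 : π U₂ ≠ 1 := fun h => hn2 ((hπ U₂).mp h)
  have n12 : π U₁ * π U₂ ≠ 1 := fun h => hn12 ((hπ (U₁ * U₂)).mp (by rw [map_mul]; exact h))
  have inv1 : (π U₁)⁻¹ = π U₁ := inv_eq_of_mul_eq_one_left e11
  have inv2 : (π U₂)⁻¹ = π U₂ := inv_eq_of_mul_eq_one_left e22
  -- the four-group U
  set U : Subgroup (↥K ⧸ N.subgroupOf K) := Subgroup.centralizer {π U₁, π U₂} with hUdef
  have hUmem : ∀ d, d ∈ U ↔ d = 1 ∨ d = π U₁ ∨ d = π U₂ ∨ d = π U₁ * π U₂ := by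
    intro d
    constructor
    · intro hd
      obtain ⟨x, rfl⟩ := hπsurj d
      have c1 : π U₁ * π x = π x * π U₁ :=
        Subgroup.mem_centralizer_iff.mp hd _ (by simp)
      have c2 : π U₂ * π x = π x * π U₂ :=
        Subgroup.mem_centralizer_iff.mp hd _ (by simp)
      have m1 : cm (x : S) u₁ ∈ N := by
        have : π (x⁻¹ * U₁⁻¹ * x * U₁) = 1 := by
          rw [map_mul, map_mul, map_mul, map_inv, map_inv]
          calc (π x)⁻¹ * (π U₁)⁻¹ * π x * π U₁ = (π x)⁻¹ * (π U₁)⁻¹ * (π x * π U₁) := by group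
            _ = (π x)⁻¹ * (π U₁)⁻¹ * (π U₁ * π x) := by rw [c1]
            _ = 1 := by group
        exact (hπ _).mp this
      have m2 : cm (x : S) u₂ ∈ N := by
        have : π (x⁻¹ * U₂⁻¹ * x * U₂) = 1 := by
          rw [map_mul, map_mul, map_mul, map_inv, map_inv]
          calc (π x)⁻¹ * (π U₂)⁻¹ * π x * π U₂ = (π x)⁻¹ * (π U₂)⁻¹ * (π x * π U₂) := by group
            _ = (π x)⁻¹ * (π U₂)⁻¹ * (π U₂ * π x) := by rw [c2]
            _ = 1 := by group
        exact (hπ _).mp this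
      rcases hsc x x.2 m1 m2 with h | h | h | h
      · left; exact (hπ x).mpr h
      · right; left
        have : π (x * U₁) = 1 := (hπ _).mpr h
        rw [map_mul] at this
        rw [← inv1]; exact eq_inv_of_mul_eq_one_left this
      · right; right; left
        have : π (x * U₂) = 1 := (hπ _).mpr h
        rw [map_mul] at this
        rw [← inv2]; exact eq_inv_of_mul_eq_one_left this
      · right; right; right
        have : π (x * (U₁ * U₂)) = 1 := (hπ _).mpr h
        rw [map_mul, map_mul] at this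
        have h3 := eq_inv_of_mul_eq_one_left this
        rw [h3, mul_inv_rev, inv1, inv2, e12]
    · intro hd
      rw [hUdef, Subgroup.mem_centralizer_iff]
      intro g hg
      simp only [Set.mem_insert_iff, Set.mem_singleton_iff] at hg
      rcases hd with rfl | rfl | rfl | rfl <;> rcases hg with rfl | rfl
      · simp
      · simp
      · rfl
      · exact e12.symm
      · exact e12
      · rfl
      · rw [← mul_assoc, e11, one_mul, e12, mul_assoc, e11, mul_one]
      · rw [← mul_assoc, ← e12, mul_assoc (π U₁) (π U₂) (π U₂)]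
  have hUcard : Nat.card U = 4 := by
    have hset : (U : Set (↥K ⧸ N.subgroupOf K)) = {1, π U₁, π U₂, π U₁ * π U₂} := by
      ext d
      simp only [SetLike.mem_coe, Set.mem_insert_iff, Set.mem_singleton_iff]
      exact hUmem d
    have hcc : Nat.card U = (U : Set (↥K ⧸ N.subgroupOf K)).ncard :=
      Nat.card_coe_set_eq (U : Set (↥K ⧸ N.subgroupOf K))
    rw [hcc, hset]
    rw [Set.ncard_insert_of_notMem, Set.ncard_insert_of_notMem, Set.ncard_pair]
    · intro h
      apply n1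
      calc π U₁ = π U₂ * π U₂ * π U₁ := by rw [e22, one_mul]
        _ = π U₂ * (π U₁ * π U₂) := by rw [mul_assoc, e12]
        _ = π U₂ * π U₂ := by rw [← h]
        _ = 1 := e22
    · simp only [Set.mem_insert_iff, Set.mem_singleton_iff, not_or]
      constructor
      · intro h
        apply n12
        rw [h, e22]
      · intro h
        apply n2
        calc π U₂ = π U₁ * π U₁ * π U₂ := by rw [e11, one_mul]
          _ = π U₁ * (π U₁ * π U₂) := by rw [mul_assoc]
          _ = π U₁ * π U₁ := by rw [← h]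
          _ = 1 := e11
    · simp only [Set.mem_insert_iff, Set.mem_singleton_iff, not_or]
      exact ⟨fun h => n1 h.symm, fun h => n2 h.symm, fun h => n12 h.symm⟩
  have hUc : Subgroup.centralizer (U : Set (↥K ⧸ N.subgroupOf K)) = U := by
    apply le_antisymm
    · intro d hd
      rw [hUdef, Subgroup.mem_centralizer_iff]
      intro g hg
      apply Subgroup.mem_centralizer_iff.mp hd
      simp only [Set.mem_insert_iff, Set.mem_singleton_iff] at hg
      rcases hg with rfl | rfl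
      · exact (hUmem _).mpr (Or.inr (Or.inl rfl))
      · exact (hUmem _).mpr (Or.inr (Or.inr (Or.inl rfl)))
    · intro d hd
      rw [Subgroup.mem_centralizer_iff]
      intro g hg
      have hg' := (hUmem g).mp hg
      have hd1 : π U₁ * d = d * π U₁ := Subgroup.mem_centralizer_iff.mp hd _ (by simp)
      have hd2 : π U₂ * d = d * π U₂ := Subgroup.mem_centralizer_iff.mp hd _ (by simp)
      rcases hg' with rfl | rfl | rfl | rfl
      · simp
      · exact hd1
      · exact hd2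
      · rw [mul_assoc, hd2, ← mul_assoc, hd1, mul_assoc]
  -- a and b
  have ebb : π B * π B = 1 := by rw [← map_mul, hπ]; exact hbb
  have eab : (π B)⁻¹ * π A * π B = (π A)⁻¹ := by
    have : π (B⁻¹ * A * B * A) = 1 := by rw [hπ]; exact hab
    rw [map_mul, map_mul, map_mul, map_inv] at this
    exact eq_inv_of_mul_eq_one_left this
  have eaa : π A * π A ≠ 1 := fun h => haa ((hπ (A * A)).mp (by rw [map_mul]; exact h))
  obtain ⟨Z, hZc, hZ⟩ := centralizer_le_cyclic hDp U hUcard hUc (π A) (π B) ebb eab eaa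
  -- the image of R
  set R' : Subgroup (↥K ⧸ N.subgroupOf K) := (R.subgroupOf K).map π with hR'
  have hR'Z : R' ≤ Z := by
    intro d hd
    apply hZ
    obtain ⟨g, hg, rfl⟩ := Subgroup.mem_map.mp hd
    rw [Subgroup.mem_subgroupOf] at hg
    rw [Subgroup.mem_centralizer_iff]
    intro y hy
    rw [Set.mem_singleton_iff] at hy
    subst hy
    have : π (g⁻¹ * A⁻¹ * g * A) = 1 := by rw [hπ]; exact hR _ hg
    rw [map_mul, map_mul, map_mul, map_inv, map_inv] at this
    calc π A * π g = π g * π A * ((π g)⁻¹ * (π A)⁻¹ * π g * π A)⁻¹ := by group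
      _ = π g * π A := by rw [this, inv_one, mul_one]
  have hR'c : IsCyclic R' :=
    isCyclic_of_injective (Subgroup.inclusion hR'Z) (Subgroup.inclusion_injective hR'Z)
  have hmemR' : ∀ r (hr : r ∈ R), π ⟨r, hRK hr⟩ ∈ R' := by
    intro r hr
    exact Subgroup.mem_map.mpr ⟨⟨r, hRK hr⟩, by rw [Subgroup.mem_subgroupOf]; exact hr, rfl⟩
  constructor
  · obtain ⟨⟨g, hg⟩, hgen⟩ := IsCyclic.exists_generator (α := R')
    obtain ⟨y, hy, hyg⟩ := Subgroup.mem_map.mp hg
    rw [Subgroup.mem_subgroupOf] at hy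
    refine ⟨(y : S), hy, ?_⟩
    intro r hr
    have h1 := hgen ⟨π ⟨r, hRK hr⟩, hmemR' r hr⟩
    rw [← mem_powers_iff_mem_zpowers] at h1
    obtain ⟨k, hk⟩ := (Submonoid.mem_powers_iff _ _).mp h1
    have hk' : g ^ k = π ⟨r, hRK hr⟩ := by
      have := congrArg Subtype.val hk
      simpa using this
    rw [← hyg, ← map_pow] at hk'
    have h2 : π ((y ^ k)⁻¹ * ⟨r, hRK hr⟩) = 1 := by
      rw [map_mul, map_inv, hk', inv_mul_cancel]
    have h3 := (hπ _).mp h2
    refine ⟨k, _, h3, ?_⟩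
    simp
  · intro r hr s hs hrr hss hsN
    set r' : R' := ⟨π ⟨r, hRK hr⟩, hmemR' r hr⟩ with hr'
    set s' : R' := ⟨π ⟨s, hRK hs⟩, hmemR' s hs⟩ with hs'
    have e1 : r' * r' = 1 := by
      apply Subtype.ext
      show π ⟨r, hRK hr⟩ * π ⟨r, hRK hr⟩ = 1
      rw [← map_mul, hπ]; exact hrr
    have e2 : s' * s' = 1 := by
      apply Subtype.ext
      show π ⟨s, hRK hs⟩ * π ⟨s, hRK hs⟩ = 1
      rw [← map_mul, hπ]; exact hss
    have e3 : s' ≠ 1 := by
      intro h
      have : π ⟨s, hRK hs⟩ = 1 := congrArg Subtype.val h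
      exact hsN ((hπ _).mp this)
    rcases cyclic_invol_unique r' s' e1 e2 e3 with h | h
    · left
      have : π ⟨r, hRK hr⟩ = 1 := congrArg Subtype.val h
      exact (hπ _).mp this
    · right
      have h4 : π ⟨r, hRK hr⟩ = π ⟨s, hRK hs⟩ := congrArg Subtype.val h
      have h5 : π (⟨r, hRK hr⟩ * ⟨s, hRK hs⟩) = 1 := by
        rw [map_mul, h4]
        exact congrArg Subtype.val e2
      exact (hπ _).mp h5

end Cfsg.Agent.Lib.Helper1.S1233
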