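import Mathlib
import Cfsg.Agent.Lib.Helper1.S1233Defs

/-!
# S1233 farm: symmetry (U-SYM) and glue (U-B, U-GLUE) — owner helper1
-/

set_option autoImplicit false

namespace Cfsg.Agent.Lib.Helper1.S1233

variable {S : Type*} [Group S] {Q₁ Q₂ : Subgroup S} {z : S} {d : Dat S}

/-! ## U-SYM -/

theorem base_symm (hB : Base Q₁ Q₂ z) : Base Q₂ Q₁ z where
  fin := hB.fin
  pS := hB.pS
  q1 := hB.q2
  q2 := hB.q1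
  comm := fun a ha b hb => (hB.comm b hb a ha).symm
  card := by
    have h := hB.card
    rwa [sup_comm] at h
  cent := by
    have h := hB.cent
    rwa [sup_comm] at h
  z_ne := hB.z_ne
  z_sq := hB.z_sq
  z_central := hB.z_central
  z_mem₁ := hB.z_mem₂
  z_mem₂ := hB.z_mem₁

theorem cm_inv_eq (x y : S) : (cm x y)⁻¹ = cm y x := by
  simp only [cm, mul_inv_rev, inv_inv, mul_assoc]

theorem ctx_symm (hC : Ctx Q₁ Q₂ d) : Ctx Q₂ Q₁ d.swap where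
  base := base_symm hC.base
  s1 := hC.s2
  s2 := hC.s1
  lemB := by
    intro x hx y hy
    have h := hC.lemB y hy x hx
    have h2 : (cm y x)⁻¹ ∈ Zs d.z := (Zs d.z).inv_mem h
    rw [cm_inv_eq] at h2
    exact h2

theorem Bs_comm (a b : S) : Bs a b = Bs b a := by
  unfold Bs
  rw [Set.pair_comm]

theorem Rs_comm (a b : S) : Rs a b = Rs b a := by
  unfold Rs
  rw [Set.pair_comm]

theorem sigma_symm (h : Sigma Q₂ Q₁ z) : Sigma Q₁ Q₂ z := by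
  obtain ⟨i₂, hi₂, i₁, hi₁, h22, h11, hn, hcomm, hsq⟩ := h
  refine ⟨i₁, hi₁, i₂, hi₂, h11, h22, ?_, ?_, ?_⟩
  · intro g
    rw [Bs_comm i₁ i₂]
    exact ⟨(hn g).2, (hn g).1⟩
  · rw [Rs_comm i₁ i₂]
    exact hcomm
  · rw [Rs_comm i₁ i₂, Bs_comm i₁ i₂]
    exact hsq

/-! ## U-B : the context exists (from `exists_side` twice and Lemma B) -/

theorem exists_ctx_of
    (exists_side : ∀ (Q₁ Q₂ : Subgroup S) (z : S), Base Q₁ Q₂ z →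
      ∃ (c i j : S) (n ε : ℕ), Side Q₁ (cen Q₂) z c i j n ε)
    (lemma_B : ∀ (Q₁ Q₂ : Subgroup S) (z c₁ i₁ j₁ c₂ i₂ j₂ : S) (n₁ ε₁ n₂ ε₂ : ℕ), Base Q₁ Q₂ z →
      Side Q₁ (cen Q₂) z c₁ i₁ j₁ n₁ ε₁ → Side Q₂ (cen Q₁) z c₂ i₂ j₂ n₂ ε₂ →
      ∀ x ∈ cen Q₂, ∀ y ∈ cen Q₁, cm x (y) ∈ Zs z)
    (hB : Base Q₁ Q₂ z) : ∃ d : Dat S, d.z = z ∧ Ctx Q₁ Q₂ d := by
  obtain ⟨c₁, i₁, j₁, n₁, ε₁, h1⟩ := exists_side Q₁ Q₂ z hB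
  obtain ⟨c₂, i₂, j₂, n₂, ε₂, h2⟩ := exists_side Q₂ Q₁ z (base_symm hB)
  refine ⟨⟨z, c₁, i₁, j₁, n₁, ε₁, c₂, i₂, j₂, n₂, ε₂⟩, rfl, ?_⟩
  exact ⟨hB, h1, h2, lemma_B Q₁ Q₂ z c₁ i₁ j₁ c₂ i₂ j₂ n₁ ε₁ n₂ ε₂ hB h1 h2⟩

/-! ## U-GLUE : (SIGMA) in all cases -/

theorem sigma_all_of
    (case_I : ∀ (Q₁ Q₂ : Subgroup S) (d : Dat S), Ctx Q₁ Q₂ d → 3 ≤ d.n₁ → 3 ≤ d.n₂ →
      Sigma Q₁ Q₂ d.z)
    (case_II : ∀ (Q₁ Q₂ : Subgroup S) (d : Dat S), Ctx Q₁ Q₂ d → d.n₁ = 2 → d.n₂ = 2 →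
      Sigma Q₁ Q₂ d.z)
    (case_III : ∀ (Q₁ Q₂ : Subgroup S) (d : Dat S), Ctx Q₁ Q₂ d → 3 ≤ d.n₁ → d.n₂ = 2 →
      Sigma Q₁ Q₂ d.z)
    (hC : Ctx Q₁ Q₂ d) : Sigma Q₁ Q₂ d.z := by
  have h1 := hC.s1.two_le
  have h2 := hC.s2.two_le
  by_cases a1 : 3 ≤ d.n₁
  · by_cases a2 : 3 ≤ d.n₂
    · exact case_I Q₁ Q₂ d hC a1 a2
    · exact case_III Q₁ Q₂ d hC a1 (by omega)
  · by_cases a2 : 3 ≤ d.n₂
    · have h := case_III Q₂ Q₁ d.swap (ctx_symm hC) a2 (by show d.n₁ = 2; omega)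
      exact sigma_symm h
    · exact case_II Q₁ Q₂ d hC (by omega) (by omega)

/-- The whole theorem from the units. -/
theorem result_of {S : Type*} [Group S] [Finite S]
    (exists_base : ∀ (Q Q₁ Q₂ : Subgroup S), IsPGroup 2 S → (Q₁ ≃* QuaternionGroup 2) →
      (Q₂ ≃* QuaternionGroup 2) → (∀ a ∈ Q₁, ∀ b ∈ Q₂, a * b = b * a) → Q₁ ⊔ Q₂ = Q →
      Nat.card Q = 32 → Subgroup.centralizer (Q : Set S) ≤ Q → ∃ z : S, Base Q₁ Q₂ z)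
    (exists_ctx : ∀ (Q₁ Q₂ : Subgroup S) (z : S), Base Q₁ Q₂ z → ∃ d : Dat S, d.z = z ∧ Ctx Q₁ Q₂ d)
    (sigma_all : ∀ (Q₁ Q₂ : Subgroup S) (d : Dat S), Ctx Q₁ Q₂ d → Sigma Q₁ Q₂ d.z)
    (final : ∀ (Q₁ Q₂ : Subgroup S) (z : S), Base Q₁ Q₂ z → Sigma Q₁ Q₂ z →
      Cfsg.SectionalPRankLE 2 4 S)
    (hS : IsPGroup 2 S) (Q Q₁ Q₂ : Subgroup S)
    (e₁ : Q₁ ≃* QuaternionGroup 2) (e₂ : Q₂ ≃* QuaternionGroup 2)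
    (hcomm : ∀ a ∈ Q₁, ∀ b ∈ Q₂, a * b = b * a) (hQ : Q₁ ⊔ Q₂ = Q) (hQ32 : Nat.card Q = 32)
    (hC : Subgroup.centralizer (Q : Set S) ≤ Q) : Cfsg.SectionalPRankLE 2 4 S := by
  obtain ⟨z, hB⟩ := exists_base Q Q₁ Q₂ hS e₁ e₂ hcomm hQ hQ32 hC
  obtain ⟨d, hdz, hCtx⟩ := exists_ctx Q₁ Q₂ z hB
  have hSig := sigma_all Q₁ Q₂ d hCtx
  rw [hdz] at hSig
  exact final Q₁ Q₂ z hB hSig

end Cfsg.Agent.Lib.Helper1.S1233
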