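import Mathlib
import Cfsg.Agent.Lib.Helper1.S1233Defs
import Cfsg.Agent.Lib.Helper1.S1233Glue
import Cfsg.Agent.Lib.Helper6.S1233A2
import Cfsg.Agent.Lib.Helper3.S1233B2c

/-!
# S1233 farm: small generic tools (centralizer modulo `z` as a subgroup, cyclic 2-groups,
enumeration of a quaternion group by two generators) — helper1
-/

set_option autoImplicit false

namespace Cfsg.Agent.Lib.Helper1.S1233

open Cfsg.Agent.Lib.Helper6.S1233A Cfsg.Agent.Lib.Helper3.S1233B2

variable {S : Type*} [Group S] {Q₁ Q₂ : Subgroup S} {z : S}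

theorem Zs_central (hz : ∀ g : S, g * z = z * g) {w : S} (hw : w ∈ Zs z) (g : S) :
    g * w = w * g := by
  have h : Zs z ≤ Subgroup.center S := by
    rw [Subgroup.zpowers_le]
    exact Subgroup.mem_center_iff.mpr hz
  exact Subgroup.mem_center_iff.mp (h hw) g

theorem cm_mul_left (x x' y : S) : cm (x * x') y = x'⁻¹ * cm x y * x' * cm x' y := by
  simp only [cm]; group

theorem cm_mul_right (x y y' : S) : cm x (y * y') = cm x y' * (y'⁻¹ * cm x y * y') := by
  simp only [cm]; group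

theorem cm_inv_right (x y : S) : cm x y⁻¹ = y * (cm x y)⁻¹ * y⁻¹ := by
  simp only [cm]; group

theorem cm_inv_left (x y : S) : cm x⁻¹ y = x * (cm x y)⁻¹ * x⁻¹ := by
  simp only [cm]; group

theorem cm_mem_symm {x y : S} (h : cm x y ∈ Zs z) : cm y x ∈ Zs z := by
  rw [← cm_inv_eq]; exact (Zs z).inv_mem h

/-- `C_S(x mod z)`: the elements `y` with `[x, y] ∈ ⟨z⟩` (`z` central). -/
def CzR (z : S) (hz : ∀ g : S, g * z = z * g) (x : S) : Subgroup S where
  carrier := {y | cm x y ∈ Zs z}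
  one_mem' := by
    show cm x 1 ∈ Zs z
    have : cm x 1 = 1 := by simp [cm]
    rw [this]; exact (Zs z).one_mem
  mul_mem' := by
    intro y y' hy hy'
    show cm x (y * y') ∈ Zs z
    have hy1 : cm x y ∈ Zs z := hy
    have hy2 : cm x y' ∈ Zs z := hy'
    rw [cm_mul_right]
    have h3 : y'⁻¹ * cm x y * y' = cm x y := by
      rw [mul_assoc, ← Zs_central hz hy1 y', ← mul_assoc, inv_mul_cancel, one_mul]
    rw [h3]
    exact (Zs z).mul_mem hy2 hy1
  inv_mem' := by
    intro y hy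
    show cm x y⁻¹ ∈ Zs z
    have hy1 : cm x y ∈ Zs z := hy
    rw [cm_inv_right]
    have hi : (cm x y)⁻¹ ∈ Zs z := (Zs z).inv_mem hy1
    have h3 : y * (cm x y)⁻¹ * y⁻¹ = (cm x y)⁻¹ := by
      rw [Zs_central hz hi y, mul_assoc, mul_inv_cancel, mul_one]
    rw [h3]; exact hi

theorem mem_CzR {hz : ∀ g : S, g * z = z * g} {x y : S} : y ∈ CzR z hz x ↔ cm x y ∈ Zs z :=
  Iff.rfl

theorem mem_CzR' {hz : ∀ g : S, g * z = z * g} {x y : S} : y ∈ CzR z hz x ↔ cm y x ∈ Zs z :=
  ⟨fun h => cm_mem_symm h, fun h => cm_mem_symm h⟩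

/-- conjugation form -/
theorem conj_of_cm {x y : S} (hzz : z * z = 1)
    (h : cm x y ∈ Zs z) : x⁻¹ * y * x = y ∨ x⁻¹ * y * x = y * z := by
  rcases (mem_Zs_iff hzz).mp (cm_mem_symm h) with h1 | h1
  · left
    have : y⁻¹ * (x⁻¹ * y * x) = 1 := by
      have : y⁻¹ * (x⁻¹ * y * x) = cm y x := by simp only [cm]; group
      rw [this, h1]
    calc x⁻¹ * y * x = y * (y⁻¹ * (x⁻¹ * y * x)) := by group
      _ = y := by rw [this, mul_one]
  · right
    have : y⁻¹ * (x⁻¹ * y * x) = z := by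
      have : y⁻¹ * (x⁻¹ * y * x) = cm y x := by simp only [cm]; group
      rw [this, h1]
    calc x⁻¹ * y * x = y * (y⁻¹ * (x⁻¹ * y * x)) := by group
      _ = y * z := by rw [this]

theorem cm_of_conj {x y : S} (h : x⁻¹ * y * x = y ∨ x⁻¹ * y * x = y * z) : cm x y ∈ Zs z := by
  apply cm_mem_symm
  have e : cm y x = y⁻¹ * (x⁻¹ * y * x) := by simp only [cm]; group
  rcases h with h | h
  · rw [e, h, inv_mul_cancel]; exact (Zs z).one_mem
  · rw [e, h, ← mul_assoc, inv_mul_cancel, one_mul]; exact Subgroup.mem_zpowers z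


theorem cm_eq_one_of_comm {x y : S} (h : x * y = y * x) : cm x y = 1 := by
  have : cm x y = x⁻¹ * y⁻¹ * (x * y) := by simp only [cm]; group
  rw [this, h]; group

theorem mem_zpowers_sq {i q : S} (hii : i * i = z) (hq : q ∈ Subgroup.zpowers i) :
    q ∈ Zs z ∨ q * i ∈ Zs z := by
  obtain ⟨k, rfl⟩ := Subgroup.mem_zpowers_iff.mp hq
  rcases Int.even_or_odd' k with ⟨m, rfl | rfl⟩
  · left
    rw [zpow_mul, zpow_two, hii]
    exact Subgroup.zpow_mem_zpowers z m
  · right
    have : i ^ (2 * m + 1) * i = (i * i) ^ (m + 1) := by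
      rw [← zpow_two, ← zpow_mul, ← zpow_add_one]; congr 1; ring
    rw [this, hii]; exact Subgroup.zpow_mem_zpowers z _

/-- enumeration of the quaternion group `Q₁ = ⟨i, j⟩` modulo `⟨z⟩` -/
theorem q8_enum (hB : Base Q₁ Q₂ z) {i j : S} (hi : i ∈ Q₁) (hj : j ∈ Q₁) (hii : i * i = z)
    (hjj : j * j = z) (hji : j ∉ Subgroup.zpowers i) :
    ∀ q ∈ Q₁, q ∈ Zs z ∨ q * i ∈ Zs z ∨ q * j ∈ Zs z ∨ q * (i * j) ∈ Zs z := by
  intro q hq
  have hz := hB.z_central
  have hzi : Zs z ≤ Subgroup.zpowers i := by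
    rw [Subgroup.zpowers_le, ← hii]
    exact (Subgroup.zpowers i).mul_mem (Subgroup.mem_zpowers i) (Subgroup.mem_zpowers i)
  have hi1 : i ≠ i⁻¹ := by
    intro h
    have : i * i = 1 := by
      calc i * i = i * i⁻¹ := by rw [← h]
        _ = 1 := mul_inv_cancel i
    rw [hii] at this
    exact hB.z_ne this
  by_cases hqi : q ∈ Subgroup.zpowers i
  · rcases mem_zpowers_sq hii hqi with h | h
    · exact Or.inl h
    · exact Or.inr (Or.inl h)
  · have hqq : q * q = z := by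
      rcases A1_q8 hB q hq with h | h
      · exact absurd (hzi h) hqi
      · exact h
    have hinvq := (A1_q8_gen hB i hi q hq hii hqq hqi).1
    have hinvj := (A1_q8_gen hB i hi j hj hii hjj hji).1
    -- w = q * j commutes with i
    have hw : (q * j) ∈ Q₁ := Q₁.mul_mem hq hj
    have hwi : (q * j)⁻¹ * i * (q * j) = i := by
      calc (q * j)⁻¹ * i * (q * j) = j⁻¹ * (q⁻¹ * i * q) * j := by group
        _ = j⁻¹ * i⁻¹ * j := by rw [hinvq]
        _ = (j⁻¹ * i * j)⁻¹ := by group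
        _ = i := by rw [hinvj, inv_inv]
    have hwz : q * j ∈ Subgroup.zpowers i := by
      by_contra hwn
      have hww : (q * j) * (q * j) = z := by
        rcases A1_q8 hB _ hw with h | h
        · exact absurd (hzi h) hwn
        · exact h
      have := (A1_q8_gen hB i hi _ hw hii hww hwn).1
      rw [hwi] at this
      exact hi1 this
    rcases mem_zpowers_sq hii hwz with h | h
    · exact Or.inr (Or.inr (Or.inl h))
    · right; right; right
      have hc : cm i j ∈ Zs z :=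
        A1_comm hB i (Subgroup.mem_sup_left hi) j (Subgroup.mem_sup_left hj)
      have : q * (i * j) = q * j * i * cm i j := by simp only [cm]; group
      rw [this]
      exact (Zs z).mul_mem h hc

/-! ### cyclic 2-groups -/

theorem mem_zpowers_nat {c y : S} (hc : 0 < orderOf c) (hy : y ∈ Subgroup.zpowers c) :
    ∃ k : ℕ, y = c ^ k := by
  have hfin : IsOfFinOrder c := orderOf_pos_iff.mp hc
  rw [← hfin.mem_powers_iff_mem_zpowers] at hy
  obtain ⟨k, hk⟩ := (Submonoid.mem_powers_iff _ _).mp hy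
  exact ⟨k, hk.symm⟩

/-- in a cyclic group `⟨c⟩` of order `2 ^ n`, `y ^ (2 ^ a) = 1` implies `y ∈ ⟨c ^ (2 ^ (n - a))⟩`. -/
theorem cyc_pow_two {c y : S} {n a : ℕ} (hord : orderOf c = 2 ^ n) (ha : a ≤ n)
    (hy : y ∈ Subgroup.zpowers c) (h1 : y ^ (2 ^ a) = 1) :
    ∃ m : ℕ, y = (c ^ (2 ^ (n - a))) ^ m := by
  obtain ⟨k, rfl⟩ := mem_zpowers_nat (by rw [hord]; positivity) hy
  rw [← pow_mul] at h1
  have hd : 2 ^ n ∣ k * 2 ^ a := by
    rw [← hord]; exact orderOf_dvd_of_pow_eq_one h1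
  have hn : 2 ^ n = 2 ^ (n - a) * 2 ^ a := by rw [← pow_add]; congr 1; omega
  rw [hn] at hd
  have hd2 : 2 ^ (n - a) ∣ k := Nat.dvd_of_mul_dvd_mul_right (by positivity) hd
  obtain ⟨m, rfl⟩ := hd2
  exact ⟨m, by rw [pow_mul]⟩

end Cfsg.Agent.Lib.Helper1.S1233
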