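import Mathlib
import Cfsg.Agent.Lib.Helper1.S1233Pre
import Cfsg.Agent.Lib.Helper1.S1233MCQ

/-!
# S1233 farm: U-D1 (helper1): `R₁ / ⟨z⟩` is abelian, `Ω₁`-part lies in `B`, `R₁ ≤ C_S(B)`,
`R₁ / C₁` is cyclic.
-/

set_option autoImplicit false

namespace Cfsg.Agent.Lib.Helper1.S1233

open Cfsg.Agent.Lib.Helper6.S1233A Cfsg.Agent.Lib.Helper3.S1233B2

variable {S : Type*} [Group S] {Q₁ Q₂ : Subgroup S} {d : Dat S}

/-- `X₁ ∩ X₂ = ⟨z⟩` -/
theorem side_inf' {z : S} (hB : Base Q₁ Q₂ z) : cen Q₂ ⊓ cen Q₁ = Zs z := by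
  apply side_inf_of hB (A1_inf hB) (A3_cent hB)
  intro x hx h
  have hB' := base_symm hB
  rw [sup_comm] at hx
  exact A3_cent hB' x hx h

theorem comm_of_mem_cen {H : Subgroup S} {y q : S} (hy : y ∈ cen H) (hq : q ∈ H) :
    q * y = y * q := Subgroup.mem_centralizer_iff.mp hy q hq

/-- the core of D1: the two conclusions of `quot_cyclic` for `R₁`. -/
theorem D1_core (hC : Ctx Q₁ Q₂ d) (h1 : 3 ≤ d.n₁) (h2 : 3 ≤ d.n₂) :
    (∃ r₀ : S, InR1 d r₀ ∧ ∀ r : S, InR1 d r →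
      ∃ k : ℕ, ∃ c ∈ Subgroup.zpowers d.c₁, r = r₀ ^ k * c) ∧
    (∀ r : S, InR1 d r → r * r ∈ Zs d.z →
      r ∈ Subgroup.zpowers d.c₁ ∨ r * d.i₂ ∈ Subgroup.zpowers d.c₁) := by
  have hB := hC.base
  have hB' := base_symm hB
  have s1 := hC.s1
  have s2 := hC.s2
  have := hB.fin
  have hz := hB.z_central
  have hzz := hB.z_sq
  have hQ2X2 : Q₂ ≤ cen Q₁ := side_le hB'
  have hi2 : d.i₂ ∈ Q₂ := s2.i_mem
  have hj2 : d.j₂ ∈ Q₂ := s2.j_mem
  have hi2sq : d.i₂ * d.i₂ = d.z := side_i_sq s2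
  have hj2sq : d.j₂ * d.j₂ = d.z := side_j_sq (A1_q8 hB') s2
  have hQ2gen : Q₂ = Subgroup.closure {d.i₂, d.j₂} :=
    side_q_of (A1_q8 hB') (A1_q8_gen hB') s2
  have hj2i2 : d.j₂ ∉ Subgroup.zpowers d.i₂ := j_not_zpowers_i s2
  have hNX1 : Subgroup.zpowers d.c₁ ≤ cen Q₂ := zpowers_le s1
  have hZN : Zs d.z ≤ Subgroup.zpowers d.c₁ := Zs_le_zpowers s1
  have hinf := side_inf' hB
  -- an element of Q₂ inside C₁ lies in ⟨z⟩
  have hQ2N : ∀ q ∈ Q₂, q ∈ Subgroup.zpowers d.c₁ → q ∈ Zs d.z := by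
    intro q hq hqN
    rw [← hinf]
    exact ⟨hNX1 hqN, hQ2X2 hq⟩
  -- elements of Q₂ commute with elements of C₁
  have hcomm : ∀ q ∈ Q₂, ∀ y ∈ Subgroup.zpowers d.c₁, q * y = y * q :=
    fun q hq y hy => comm_of_mem_cen (hNX1 hy) hq
  have hQ2K : Q₂ ≤ CzR d.z hz d.c₁ := by
    intro q hq
    rw [mem_CzR, cm_eq_one_of_comm (hcomm q hq _ (Subgroup.mem_zpowers _)).symm]
    exact (Zs d.z).one_mem
  have hc2K : d.c₂ ∈ CzR d.z hz d.c₁ := by
    rw [mem_CzR]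
    exact hC.lemB _ s1.c_mem _ s2.c_mem
  have hznot : ∀ u : S, u * u = d.z → u ∉ Zs d.z := by
    intro u hu hmem
    rcases (mem_Zs_iff hzz).mp hmem with h | h
    · rw [h, one_mul] at hu; exact hB.z_ne hu.symm
    · rw [h, hzz] at hu; exact hB.z_ne hu.symm
  have hres := quot_cyclic hB.pS (CzR d.z hz d.c₁) (Subgroup.zpowers d.c₁)
    (CzR d.z hz d.c₁ ⊓ CzR d.z hz d.c₂)
    (by
      rw [Subgroup.zpowers_le, mem_CzR, cm_eq_one_of_comm rfl]
      exact (Zs d.z).one_mem)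
    (by
      intro x hx n hn
      obtain ⟨k, rfl⟩ := Subgroup.mem_zpowers_iff.mp hn
      have hconj : x⁻¹ * d.c₁ ^ k * x = (x⁻¹ * d.c₁ * x) ^ k := by
        have := map_zpow (MulAut.conj x⁻¹).toMonoidHom d.c₁ k
        simpa [MulAut.conj_apply] using this
      rw [hconj]
      apply Subgroup.zpow_mem
      rcases conj_of_cm hzz (mem_CzR'.mp hx) with h | h
      · rw [h]; exact Subgroup.mem_zpowers _
      · rw [h]; exact Subgroup.mul_mem _ (Subgroup.mem_zpowers _) (z_mem_zpowers s1))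
    d.i₂ d.j₂ (hQ2K hi2) (hQ2K hj2)
    (by rw [hi2sq]; exact z_mem_zpowers s1)
    (by rw [hj2sq]; exact z_mem_zpowers s1)
    (hZN (A1_comm hB _ (Subgroup.mem_sup_right hi2) _ (Subgroup.mem_sup_right hj2)))
    (fun h => hznot _ hi2sq (hQ2N _ hi2 h))
    (fun h => hznot _ hj2sq (hQ2N _ hj2 h))
    (by
      intro h
      have h3 := hQ2N _ (Q₂.mul_mem hi2 hj2) h
      apply hj2i2
      have hzi : Zs d.z ≤ Subgroup.zpowers d.i₂ := by
        rw [Subgroup.zpowers_le, ← hi2sq]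
        exact Subgroup.mul_mem _ (Subgroup.mem_zpowers _) (Subgroup.mem_zpowers _)
      have : d.j₂ = d.i₂⁻¹ * (d.i₂ * d.j₂) := by group
      rw [this]
      exact Subgroup.mul_mem _ (Subgroup.inv_mem _ (Subgroup.mem_zpowers _)) (hzi h3))
    (by
      intro x hxK hx1 hx2
      -- step A
      have stepA : ∀ u ∈ Q₂, u * u = d.z → cm x u ∈ Subgroup.zpowers d.c₁ →
          cm x u ∈ Zs d.z := by
        intro u hu huu hcu
        set c := cm x u with hc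
        have hcu' : u * c = c * u := hcomm u hu c hcu
        have e1 : x⁻¹ * u * x = u * c⁻¹ := by
          have : x⁻¹ * u * x = u * (cm x u)⁻¹ := by simp only [cm]; group
          rw [this]
        have e2 : x⁻¹ * (u * u) * x = (u * c⁻¹) * (u * c⁻¹) := by
          rw [← e1]; group
        have hcinv : u * c⁻¹ = c⁻¹ * u := by
          calc u * c⁻¹ = c⁻¹ * (c * u) * c⁻¹ := by group
            _ = c⁻¹ * (u * c) * c⁻¹ := by rw [hcu']
            _ = c⁻¹ * u := by group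
        have e3 : x⁻¹ * (u * u) * x = d.z := by
          rw [huu, mul_assoc, ← hz x, ← mul_assoc, inv_mul_cancel, one_mul]
        have e4 : (u * c⁻¹) * (u * c⁻¹) = d.z * (c⁻¹ * c⁻¹) := by
          calc (u * c⁻¹) * (u * c⁻¹) = u * (c⁻¹ * u) * c⁻¹ := by group
            _ = u * (u * c⁻¹) * c⁻¹ := by rw [hcinv]
            _ = (u * u) * (c⁻¹ * c⁻¹) := by group
            _ = d.z * (c⁻¹ * c⁻¹) := by rw [huu]
        have e5 : c⁻¹ * c⁻¹ = 1 := by
          have : d.z * (c⁻¹ * c⁻¹) = d.z := by rw [← e4, ← e2, e3]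
          exact mul_left_cancel (this.trans (mul_one _).symm)
        have e6 : c ^ (2 ^ 1) = 1 := by
          have : c * c = 1 := by
            calc c * c = (c⁻¹ * c⁻¹)⁻¹ := by rw [mul_inv_rev, inv_inv]
              _ = 1 := by rw [e5, inv_one]
          rw [pow_one, pow_two]; exact this
        obtain ⟨m, hm⟩ := cyc_pow_two s1.ord (by omega : 1 ≤ d.n₁) hcu e6
        rw [hm, s1.c_pow]
        exact Subgroup.pow_mem _ (Subgroup.mem_zpowers _) m
      have hA1 := stepA _ hi2 hi2sq hx1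
      have hA2 := stepA _ hj2 hj2sq hx2
      -- step B
      have stepB : Q₂ ≤ CzR d.z hz x := by
        rw [hQ2gen, Subgroup.closure_le]
        intro u hu
        simp only [Set.mem_insert_iff, Set.mem_singleton_iff] at hu
        rcases hu with rfl | rfl
        · exact hA1
        · exact hA2
      -- step C
      obtain ⟨q, hq, y, hy, hxy⟩ := A5' hB x (fun a ha => stepB ha)
      -- step D
      have hyK : y ∈ CzR d.z hz d.c₁ := by
        have : y = q⁻¹ * x := by rw [hxy]; group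
        rw [this]
        exact Subgroup.mul_mem _ (Subgroup.inv_mem _ (hQ2K hq)) hxK
      have hyN : y ∈ Subgroup.zpowers d.c₁ := side_comm_z hB s1 h1 y hy (mem_CzR'.mp hyK)
      -- step E
      have key : ∀ u ∈ Q₂, q * u ∈ Zs d.z → x * u ∈ Subgroup.zpowers d.c₁ := by
        intro u hu hqu
        have : x * u = (q * u) * y := by
          rw [hxy, mul_assoc, ← hcomm u hu y hyN, ← mul_assoc]
        rw [this]
        exact Subgroup.mul_mem _ (hZN hqu) hyN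
      rcases q8_enum hB' hi2 hj2 hi2sq hj2sq hj2i2 q hq with h | h | h | h
      · left
        have := key 1 Q₂.one_mem (by rwa [mul_one])
        rwa [mul_one] at this
      · right; left; exact key _ hi2 h
      · right; right; left; exact key _ hj2 h
      · right; right; right; exact key _ (Q₂.mul_mem hi2 hj2) h)
    d.c₂ d.j₂ hc2K (hQ2K hj2)
    (by rw [hj2sq]; exact z_mem_zpowers s1)
    (by
      have hact := s2.act d.j₂ (hQ2X2 hj2) s2.j_not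
      rw [hact]
      rcases c_pow_eps hB' s2 with h | ⟨_, h⟩
      · rw [h, inv_mul_cancel]; exact Subgroup.one_mem _
      · rw [h, mul_assoc, inv_mul_cancel, mul_one]; exact z_mem_zpowers s1)
    (by
      intro h
      have h3 : d.c₂ * d.c₂ ∈ Zs d.z := by
        rw [← hinf]
        exact ⟨hNX1 h, Subgroup.mul_mem _ s2.c_mem s2.c_mem⟩
      apply c_pow_four_ne s2 h2
      rcases (mem_Zs_iff hzz).mp h3 with h4 | h4
      · calc d.c₂ ^ 4 = (d.c₂ * d.c₂) * (d.c₂ * d.c₂) := pow_four' _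
          _ = 1 := by rw [h4, one_mul]
      · calc d.c₂ ^ 4 = (d.c₂ * d.c₂) * (d.c₂ * d.c₂) := pow_four' _
          _ = 1 := by rw [h4, hzz])
    inf_le_left
    (by
      intro g hg
      exact hZN (mem_CzR'.mp hg.2))
  have hRmem : ∀ r : S, InR1 d r ↔ r ∈ CzR d.z hz d.c₁ ⊓ CzR d.z hz d.c₂ := by
    intro r
    constructor
    · intro h; exact ⟨mem_CzR'.mpr h.1, mem_CzR'.mpr h.2⟩
    · intro h; exact ⟨mem_CzR'.mp h.1, mem_CzR'.mp h.2⟩
  constructor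
  · obtain ⟨r₀, hr₀, hall⟩ := hres.1
    exact ⟨r₀, (hRmem r₀).mpr hr₀, fun r hr => hall r ((hRmem r).mp hr)⟩
  · intro r hr hrr
    have hi2R : d.i₂ ∈ CzR d.z hz d.c₁ ⊓ CzR d.z hz d.c₂ := by
      have hcc : d.c₂ * d.i₂ = d.i₂ * d.c₂ := by
        rw [s2.i_eq, ← pow_succ', ← pow_succ]
      have hmem : d.i₂ ∈ CzR d.z hz d.c₂ := by
        rw [mem_CzR, cm_eq_one_of_comm hcc]
        exact Subgroup.one_mem _
      exact ⟨hQ2K hi2, hmem⟩
    exact hres.2 r ((hRmem r).mp hr) d.i₂ hi2R (hZN hrr)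
      (by rw [hi2sq]; exact z_mem_zpowers s1)
      (fun h => hznot _ hi2sq (hQ2N _ hi2 h))

theorem conj_even_pow {z x c : S} (hzz : z * z = 1) (hz : ∀ g : S, g * z = z * g)
    (h : cm x c ∈ Zs z) (m : ℕ) : x⁻¹ * c ^ (2 * m) * x = c ^ (2 * m) := by
  rw [conj_pow']
  rcases conj_of_cm hzz h with h1 | h1
  · rw [h1]
  · rw [h1, pow_mul, pow_mul, pow_two, pow_two]
    congr 1
    calc c * z * (c * z) = c * (z * c) * z := by group
      _ = c * (c * z) * z := by rw [hz c]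
      _ = c * c * (z * z) := by group
      _ = c * c := by rw [hzz, mul_one]

/-- D1 : `R₁ / C₁` is cyclic -/
theorem D1_cyc (hC : Ctx Q₁ Q₂ d) (h1 : 3 ≤ d.n₁) (h2 : 3 ≤ d.n₂) :
    ∃ r₀ : S, InR1 d r₀ ∧ ∀ r : S, InR1 d r →
      ∃ k : ℕ, ∃ c ∈ Subgroup.zpowers d.c₁, r = r₀ ^ k * c := (D1_core hC h1 h2).1

/-- D1 : `R₁ ≤ C_S(B)` -/
theorem D1_cent (hC : Ctx Q₁ Q₂ d) (h1 : 3 ≤ d.n₁) (h2 : 3 ≤ d.n₂) :
    ∀ r : S, InR1 d r → r ∈ Rs d.i₁ d.i₂ := by
  intro r hr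
  have hB := hC.base
  have hz := hB.z_central
  have hzz := hB.z_sq
  have e1 : r⁻¹ * d.i₁ * r = d.i₁ := by
    rw [hC.s1.i_eq]
    have : 2 ^ (d.n₁ - 2) = 2 * 2 ^ (d.n₁ - 3) := by
      rw [← pow_succ']; congr 1; omega
    rw [this]
    exact conj_even_pow hzz hz hr.1 _
  have e2 : r⁻¹ * d.i₂ * r = d.i₂ := by
    rw [hC.s2.i_eq]
    have : 2 ^ (d.n₂ - 2) = 2 * 2 ^ (d.n₂ - 3) := by
      rw [← pow_succ']; congr 1; omega
    rw [this]
    exact conj_even_pow hzz hz hr.2 _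
  rw [Subgroup.mem_centralizer_iff]
  intro g hg
  simp only [Set.mem_insert_iff, Set.mem_singleton_iff] at hg
  rcases hg with rfl | rfl
  · calc d.i₁ * r = r * (r⁻¹ * d.i₁ * r) := by group
      _ = r * d.i₁ := by rw [e1]
  · calc d.i₂ * r = r * (r⁻¹ * d.i₂ * r) := by group
      _ = r * d.i₂ := by rw [e2]

/-- D1 : the elements of `R₁` of square in `⟨z⟩` lie in `B` -/
theorem D1_sq (hC : Ctx Q₁ Q₂ d) (h1 : 3 ≤ d.n₁) (h2 : 3 ≤ d.n₂) :
    ∀ r : S, InR1 d r → r * r ∈ Zs d.z → r ∈ Bs d.i₁ d.i₂ := by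
  intro r hr hrr
  have hB := hC.base
  have s1 := hC.s1
  have s2 := hC.s2
  have hz := hB.z_central
  have hzz := hB.z_sq
  have hi1B : d.i₁ ∈ Bs d.i₁ d.i₂ := Subgroup.subset_closure (by simp)
  have hi2B : d.i₂ ∈ Bs d.i₁ d.i₂ := Subgroup.subset_closure (by simp)
  -- an element of C₁ with square in ⟨z⟩ is a power of i₁
  have hkey : ∀ c ∈ Subgroup.zpowers d.c₁, c * c ∈ Zs d.z → c ∈ Bs d.i₁ d.i₂ := by
    intro c hc hcc
    have h4 : c ^ (2 ^ 2) = 1 := by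
      have : c ^ (2 ^ 2) = (c * c) * (c * c) := by
        rw [show (2 : ℕ) ^ 2 = 4 by norm_num]; exact pow_four' c
      rw [this]
      rcases (mem_Zs_iff hzz).mp hcc with h | h
      · rw [h, one_mul]
      · rw [h, hzz]
    obtain ⟨m, hm⟩ := cyc_pow_two s1.ord (by omega : 2 ≤ d.n₁) hc h4
    rw [hm, ← s1.i_eq]
    exact Subgroup.pow_mem _ hi1B m
  rcases (D1_core hC h1 h2).2 r hr hrr with h | h
  · exact hkey r h hrr
  · have hr' : r = (r * d.i₂) * d.i₂⁻¹ := by group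
    generalize r * d.i₂ = c at h hr'
    subst hr'
    have hcomm : d.i₂ * c = c * d.i₂ :=
      comm_of_mem_cen (zpowers_le s1 h) s2.i_mem
    have hi2sq : d.i₂ * d.i₂ = d.z := side_i_sq s2
    have hcomm' : d.i₂⁻¹ * c = c * d.i₂⁻¹ := by
      calc d.i₂⁻¹ * c = d.i₂⁻¹ * (c * d.i₂) * d.i₂⁻¹ := by group
        _ = d.i₂⁻¹ * (d.i₂ * c) * d.i₂⁻¹ := by rw [hcomm]
        _ = c * d.i₂⁻¹ := by group
    have hcc : c * c ∈ Zs d.z := by
      have e : c * c = (c * d.i₂⁻¹ * (c * d.i₂⁻¹)) * d.z := by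
        have e1 : c * d.i₂⁻¹ * (c * d.i₂⁻¹) = c * c * (d.i₂ * d.i₂)⁻¹ := by
          calc c * d.i₂⁻¹ * (c * d.i₂⁻¹) = c * (d.i₂⁻¹ * c) * d.i₂⁻¹ := by group
            _ = c * (c * d.i₂⁻¹) * d.i₂⁻¹ := by rw [hcomm']
            _ = c * c * (d.i₂ * d.i₂)⁻¹ := by group
        rw [e1, hi2sq, mul_assoc, inv_mul_cancel, mul_one]
      rw [e]
      exact Subgroup.mul_mem _ hrr (Subgroup.mem_zpowers _)
    exact Subgroup.mul_mem _ (hkey c h hcc) (Subgroup.inv_mem _ hi2B)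

/-- D1 : `R₁ / ⟨z⟩` is abelian -/
theorem D1_comm (hC : Ctx Q₁ Q₂ d) (h1 : 3 ≤ d.n₁) (h2 : 3 ≤ d.n₂) :
    ∀ r s : S, InR1 d r → InR1 d s → cm r (s) ∈ Zs d.z := by
  intro r s hr hs
  have hB := hC.base
  have hz := hB.z_central
  obtain ⟨r₀, hr₀, hall⟩ := D1_cyc hC h1 h2
  obtain ⟨k, c, hc, rfl⟩ := hall r hr
  obtain ⟨l, c', hc', rfl⟩ := hall s hs
  -- everything lies in the centralizer of r₀ modulo z
  have hN0 : Subgroup.zpowers d.c₁ ≤ CzR d.z hz r₀ := by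
    rw [Subgroup.zpowers_le]; exact hr₀.1
  have h00 : r₀ ∈ CzR d.z hz r₀ := by
    rw [mem_CzR, cm_eq_one_of_comm rfl]; exact Subgroup.one_mem _
  have hr0 : r₀ ^ k * c ∈ CzR d.z hz r₀ :=
    Subgroup.mul_mem _ (Subgroup.pow_mem _ h00 k) (hN0 hc)
  -- now the centralizer of r modulo z
  have hNr : Subgroup.zpowers d.c₁ ≤ CzR d.z hz (r₀ ^ k * c) := by
    rw [Subgroup.zpowers_le]; exact hr.1
  have h0r : r₀ ∈ CzR d.z hz (r₀ ^ k * c) := mem_CzR'.mpr hr0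
  have hfin : r₀ ^ l * c' ∈ CzR d.z hz (r₀ ^ k * c) :=
    Subgroup.mul_mem _ (Subgroup.pow_mem _ h0r l) (hNr hc')
  exact mem_CzR.mp hfin

end Cfsg.Agent.Lib.Helper1.S1233
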