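import Mathlib
import Cfsg.Agent.Lib.Helper1.S1233D1
import Cfsg.Agent.Lib.Helper3.S1233B2
import Cfsg.Agent.Lib.Helper6.S1233A4

/-!
# S1233 farm: case III, part F2 (helper1): if `Q₂` is normal in `S` then (SIGMA) holds.
Part a: generic lemmas on a side, the normal cyclic subgroups.
-/

set_option autoImplicit false

namespace Cfsg.Agent.Lib.Helper1.S1233

open Cfsg.Agent.Lib.Helper6.S1233A Cfsg.Agent.Lib.Helper3.S1233B2

variable {S : Type*} [Group S] {Q₁ Q₂ : Subgroup S} {z c i j : S} {n ε : ℕ}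

/-- elements of `X \ ⟨c⟩` have their square in `⟨z⟩` -/
theorem side_sq_of_not_mem (hB : Base Q₁ Q₂ z) (hs : Side Q₁ (cen Q₂) z c i j n ε)
    (x : S) (hx : x ∈ cen Q₂) (hxc : x ∉ Subgroup.zpowers c) : x * x ∈ Zs z := by
  have hz := hB.z_central
  rcases side_mem hB hs x hx with h | ⟨y, hy, rfl⟩
  · exact absurd h hxc
  · obtain ⟨k, rfl⟩ := mem_zpowers_nat (by rw [hs.ord]; positivity) hy
    have hj : j ∈ cen Q₂ := side_le hB hs.j_mem
    have hact := hs.act j hj hs.j_not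
    have hjj : j * j = z := side_j_sq' hB hs
    have e1 : j⁻¹ * c ^ k * j = (c ^ ε) ^ k := by rw [conj_pow', hact]
    have e2 : c ^ k * j * (c ^ k * j) = z * (c ^ k * (c ^ ε) ^ k) := by
      calc c ^ k * j * (c ^ k * j) = c ^ k * (j * j) * (j⁻¹ * c ^ k * j) := by group
        _ = c ^ k * z * (c ^ ε) ^ k := by rw [hjj, e1]
        _ = z * (c ^ k * (c ^ ε) ^ k) := by rw [hz (c ^ k), mul_assoc]
    rw [e2]
    apply Subgroup.mul_mem _ (Subgroup.mem_zpowers z)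
    have e3 : c ^ k * (c ^ ε) ^ k = (c * c ^ ε) ^ k := by
      rw [← pow_mul, ← pow_add, ← pow_succ', ← pow_mul]
      congr 1; ring
    rw [e3]
    apply Subgroup.pow_mem
    rcases c_pow_eps hB hs with h | ⟨_, h⟩
    · rw [h, mul_inv_cancel]; exact Subgroup.one_mem _
    · rw [h, ← mul_assoc, hz c, mul_assoc, mul_inv_cancel, mul_one]
      exact Subgroup.mem_zpowers z

theorem side_pow_four_of_not_mem (hB : Base Q₁ Q₂ z) (hs : Side Q₁ (cen Q₂) z c i j n ε)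
    (x : S) (hx : x ∈ cen Q₂) (hxc : x ∉ Subgroup.zpowers c) : x ^ 4 = 1 := by
  rw [pow_four']
  exact zs_sq hB _ (side_sq_of_not_mem hB hs x hx hxc)

/-- if `Q₂` is normal in `S` then so is `X₁ = C_S(Q₂)` -/
theorem cen_normal_of_normal (hF1 : ∀ g : S, ∀ q ∈ Q₂, g⁻¹ * q * g ∈ Q₂) :
    ∀ g : S, ∀ y ∈ cen Q₂, g⁻¹ * y * g ∈ cen Q₂ := by
  intro g y hy
  rw [Subgroup.mem_centralizer_iff]
  intro q hq
  have hq' : g * q * g⁻¹ ∈ Q₂ := by
    have := hF1 g⁻¹ q hq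
    simpa using this
  have h1 := Subgroup.mem_centralizer_iff.mp hy _ hq'
  calc q * (g⁻¹ * y * g) = g⁻¹ * ((g * q * g⁻¹) * y) * g := by group
    _ = g⁻¹ * (y * (g * q * g⁻¹)) * g := by rw [h1]
    _ = g⁻¹ * y * g * q := by group

/-- if `Q₂` is normal in `S` (and `3 ≤ n`) then `⟨c⟩` is normal in `S` -/
theorem conj_c_mem (hB : Base Q₁ Q₂ z) (hs : Side Q₁ (cen Q₂) z c i j n ε) (h3 : 3 ≤ n)
    (hF1 : ∀ g : S, ∀ q ∈ Q₂, g⁻¹ * q * g ∈ Q₂) :
    ∀ g : S, g⁻¹ * c * g ∈ Subgroup.zpowers c := by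
  intro g
  by_contra hne
  have hx : g⁻¹ * c * g ∈ cen Q₂ := cen_normal_of_normal hF1 g c hs.c_mem
  have h4 := side_pow_four_of_not_mem hB hs _ hx hne
  rw [← conj_pow'] at h4
  apply c_pow_four_ne hs h3
  calc c ^ 4 = g * (g⁻¹ * c ^ 4 * g) * g⁻¹ := by group
    _ = 1 := by rw [h4]; group

/-- ... and so is `⟨i⟩` -/
theorem conj_i_mem (hB : Base Q₁ Q₂ z) (hs : Side Q₁ (cen Q₂) z c i j n ε) (h3 : 3 ≤ n)
    (hF1 : ∀ g : S, ∀ q ∈ Q₂, g⁻¹ * q * g ∈ Q₂) :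
    ∀ g : S, g⁻¹ * i * g ∈ Subgroup.zpowers i := by
  intro g
  have h1 : g⁻¹ * i * g ∈ Subgroup.zpowers c := by
    rw [hs.i_eq, conj_pow']
    exact Subgroup.pow_mem _ (conj_c_mem hB hs h3 hF1 g) _
  have h2 : (g⁻¹ * i * g) ^ (2 ^ 2) = 1 := by
    rw [← conj_pow', show (2 : ℕ) ^ 2 = 4 by norm_num, i_pow_four hB hs]
    group
  obtain ⟨m, hm⟩ := cyc_pow_two hs.ord (by omega : 2 ≤ n) h1 h2
  rw [hm, ← hs.i_eq]
  exact Subgroup.pow_mem _ (Subgroup.mem_zpowers i) m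

/-- when `n₂ = 2` we have `X₂ = Q₂` -/
theorem cen_eq_of_two (hB : Base Q₁ Q₂ z) (hs : Side Q₁ (cen Q₂) z c i j n ε) (h2 : n = 2) :
    cen Q₂ = Q₁ := by
  have := hB.fin
  obtain ⟨e⟩ := hB.q1
  have hle : Q₁ ≤ cen Q₂ := side_le hB
  have hcard : Nat.card ↥(cen Q₂) = 8 := by rw [hs.card, h2]; norm_num
  have hcard1 : Nat.card ↥Q₁ = 8 := Cfsg.Agent.Lib.Helper6.S1233A.card_q8 e
  symm
  apply Subgroup.eq_of_le_of_card_ge hle
  rw [hcard, hcard1]

/-- the centralizer of `i` in the quaternion group `Q₁` -/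
theorem q8_cent (hB : Base Q₁ Q₂ z) {i q : S} (hi : i ∈ Q₁) (hii : i * i = z) (hq : q ∈ Q₁)
    (hc : q * i = i * q) : q ∈ Subgroup.zpowers i := by
  by_contra hqi
  have hzi : Zs z ≤ Subgroup.zpowers i := by
    rw [Subgroup.zpowers_le, ← hii]
    exact (Subgroup.zpowers i).mul_mem (Subgroup.mem_zpowers i) (Subgroup.mem_zpowers i)
  have hqq : q * q = z := by
    rcases A1_q8 hB q hq with h | h
    · exact absurd (hzi h) hqi
    · exact h
  have hinv := (A1_q8_gen hB i hi q hq hii hqq hqi).1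
  have h2 : q⁻¹ * i * q = i := by rw [mul_assoc, ← hc, ← mul_assoc, inv_mul_cancel, one_mul]
  rw [h2] at hinv
  have : i * i = 1 := by
    calc i * i = i * i⁻¹ := by rw [← hinv]
      _ = 1 := mul_inv_cancel i
  rw [hii] at this
  exact hB.z_ne this

end Cfsg.Agent.Lib.Helper1.S1233
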