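import Mathlib
import Cfsg.Agent.Lib.Helper1.S1233F2a

/-!
# S1233 farm: case III, part F2 (helper1), part b: choice of `i₂`, arithmetic.
-/

set_option autoImplicit false

namespace Cfsg.Agent.Lib.Helper1.S1233

open Cfsg.Agent.Lib.Helper6.S1233A Cfsg.Agent.Lib.Helper3.S1233B2

variable {S : Type*} [Group S] {Q₁ Q₂ : Subgroup S} {z c i j : S} {n ε : ℕ}

theorem conj_zpow' (x c : S) (k : ℤ) : x⁻¹ * c ^ k * x = (x⁻¹ * c * x) ^ k := by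
  have := map_zpow (MulAut.conj x⁻¹).toMonoidHom c k
  simpa [MulAut.conj_apply] using this

theorem conj_mem_zpowers {c : S} (h : ∀ g : S, g⁻¹ * c * g ∈ Subgroup.zpowers c) :
    ∀ g : S, ∀ y ∈ Subgroup.zpowers c, g⁻¹ * y * g ∈ Subgroup.zpowers c := by
  intro g y hy
  obtain ⟨k, rfl⟩ := Subgroup.mem_zpowers_iff.mp hy
  rw [conj_zpow']
  exact Subgroup.zpow_mem _ (h g) k

theorem arith_k {n k : ℕ} (hn : 3 ≤ n) (h1 : k * k ≡ 1 [MOD 2 ^ n])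
    (h2 : k * 2 ^ (n - 2) ≡ 2 ^ (n - 2) [MOD 2 ^ n]) : k ≡ 1 [MOD 2 ^ (n - 1)] := by
  obtain ⟨m, rfl⟩ := Nat.exists_eq_add_of_le hn
  have e1 : 3 + m - 2 = m + 1 := by omega
  have e2 : 3 + m - 1 = m + 2 := by omega
  have e3 : (2 : ℕ) ^ (3 + m) = 4 * 2 ^ (m + 1) := by
    rw [show 3 + m = 2 + (m + 1) by omega, pow_add]; norm_num
  rw [e1, e3] at h2
  rw [e2]
  have h4 : k ≡ 1 [MOD 4] := by
    have h2' : k * 2 ^ (m + 1) ≡ 1 * 2 ^ (m + 1) [MOD 4 * 2 ^ (m + 1)] := by rwa [one_mul]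
    exact Nat.ModEq.mul_right_cancel' (by positivity) h2'
  have hk4 : k % 4 = 1 := h4
  obtain ⟨t, rfl⟩ : ∃ t, k = 4 * t + 1 := ⟨k / 4, by omega⟩
  have h5 : 2 ^ (3 + m) ∣ (4 * t + 1) * (4 * t + 1) - 1 :=
    (Nat.modEq_iff_dvd' (by nlinarith)).mp h1.symm
  have h6 : (4 * t + 1) * (4 * t + 1) - 1 = 2 ^ 3 * (t * (2 * t + 1)) := by
    have : (4 * t + 1) * (4 * t + 1) = 2 ^ 3 * (t * (2 * t + 1)) + 1 := by ring
    omega
  rw [h6, pow_add] at h5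
  have h7 : 2 ^ m ∣ t * (2 * t + 1) := Nat.dvd_of_mul_dvd_mul_left (by positivity) h5
  have hcop : Nat.Coprime (2 ^ m) (2 * t + 1) := by
    apply Nat.Coprime.pow_left
    exact (Nat.Prime.coprime_iff_not_dvd Nat.prime_two).mpr (by omega)
  have h8 : 2 ^ m ∣ t := hcop.dvd_of_dvd_mul_right h7
  obtain ⟨s, rfl⟩ := h8
  have h9 : 4 * (2 ^ m * s) + 1 = 1 + 2 ^ (m + 2) * s := by
    rw [pow_add]; ring
  rw [h9]
  exact Nat.add_mul_mod_self_left 1 (2 ^ (m + 2)) s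

/-- an element of `⟨c⟩` with square in `⟨z⟩` is a power of `i` -/
theorem mem_zpowers_i_of_sq (hB : Base Q₁ Q₂ z) (hs : Side Q₁ (cen Q₂) z c i j n ε) {y : S}
    (hy : y ∈ Subgroup.zpowers c) (hyy : y * y ∈ Zs z) : y ∈ Subgroup.zpowers i := by
  have h4 : y ^ (2 ^ 2) = 1 := by
    have : y ^ (2 ^ 2) = (y * y) * (y * y) := by
      rw [show (2 : ℕ) ^ 2 = 4 by norm_num]; exact pow_four' y
    rw [this]
    exact zs_sq hB _ hyy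
  obtain ⟨m, hm⟩ := cyc_pow_two hs.ord hs.two_le hy h4
  rw [hm, ← hs.i_eq]
  exact Subgroup.pow_mem _ (Subgroup.mem_zpowers i) m

/-- conjugation by an element of `Q₂ C_S(Q₂)` normalizes every subgroup of order 4 of `Q₂` -/
theorem conj_S0 (hB : Base Q₁ Q₂ z) {s i : S} (hs : s ∈ Q₂ ⊔ cen Q₂) (hi : i ∈ Q₂)
    (hii : i * i = z) : s⁻¹ * i * s ∈ Subgroup.zpowers i := by
  have hcomm : ∀ x ∈ Q₂, ∀ y ∈ cen Q₂, x * y = y * x :=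
    fun x hx y hy => comm_of_mem_cen hy hx
  obtain ⟨q, hq, y, hy, rfl⟩ := exists_mul_of_mem_sup hcomm hs
  have h1 : q⁻¹ * i * q ∈ Q₂ := Q₂.mul_mem (Q₂.mul_mem (Q₂.inv_mem hq) hi) hq
  have h2 : (q * y)⁻¹ * i * (q * y) = q⁻¹ * i * q := by
    have := hcomm _ h1 y hy
    calc (q * y)⁻¹ * i * (q * y) = y⁻¹ * ((q⁻¹ * i * q) * y) := by group
      _ = y⁻¹ * (y * (q⁻¹ * i * q)) := by rw [this]
      _ = q⁻¹ * i * q := by group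
  rw [h2]
  have h3 : cm q i ∈ Zs z :=
    A1_comm hB q (Subgroup.mem_sup_right hq) i (Subgroup.mem_sup_right hi)
  rcases conj_of_cm hB.z_sq h3 with h | h
  · rw [h]; exact Subgroup.mem_zpowers i
  · rw [h, ← hii]
    exact Subgroup.mul_mem _ (Subgroup.mem_zpowers i)
      (Subgroup.mul_mem _ (Subgroup.mem_zpowers i) (Subgroup.mem_zpowers i))

/-- the choice of `i₂`: a subgroup of order 4 of `Q₂` normal in `S` -/
theorem exists_i2 (hB : Base Q₁ Q₂ z) (hF1 : ∀ g : S, ∀ q ∈ Q₂, g⁻¹ * q * g ∈ Q₂) {i₀ : S}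
    (hi₀ : i₀ ∈ Q₂) (hi₀sq : i₀ * i₀ = z) :
    ∃ i₂ ∈ Q₂, i₂ * i₂ = z ∧ ∀ g : S, g⁻¹ * i₂ * g ∈ Subgroup.zpowers i₂ := by
  have hB' := base_symm hB
  by_cases hall : ∀ x : S, x ∈ Q₂ ⊔ cen Q₂
  · exact ⟨i₀, hi₀, hi₀sq, fun g => conj_S0 hB (hall g) hi₀ hi₀sq⟩
  · push Not at hall
    obtain ⟨h, hh⟩ := hall
    obtain ⟨i, hi, hii, hfix, -⟩ := A4_fix hB' h (fun a ha => hF1 h a ha) hh
    refine ⟨i, hi, hii, ?_⟩
    intro g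
    by_cases hg : g ∈ Q₂ ⊔ cen Q₂
    · exact conj_S0 hB hg hi hii
    · have hh' : h⁻¹ ∉ Q₂ ⊔ cen Q₂ := fun hm => hh (by simpa using Subgroup.inv_mem _ hm)
      have hs : h⁻¹ * g ∈ Q₂ ⊔ cen Q₂ :=
        A4_index hB' h⁻¹ g (fun a ha => hF1 _ a ha) (fun a ha => hF1 _ a ha) hh' hg
      obtain ⟨k, hk⟩ := Subgroup.mem_zpowers_iff.mp hfix
      have e1 : g⁻¹ * i * g = (h⁻¹ * g)⁻¹ * (h⁻¹ * i * h) * (h⁻¹ * g) := by group
      rw [e1, ← hk, conj_zpow']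
      exact Subgroup.zpow_mem _ (conj_S0 hB hs hi hii) k

end Cfsg.Agent.Lib.Helper1.S1233

namespace Cfsg.Agent.Lib.Helper1.S1233

open Cfsg.Agent.Lib.Helper6.S1233A Cfsg.Agent.Lib.Helper6.QQA

/-- helper7's cut `f2_line`: the invariant line of `Q₂` when `Q₂` is normal in `S`. -/
theorem f2_line {S : Type*} [Group S] {Q₁ Q₂ : Subgroup S} {z : S} (hB : Base Q₁ Q₂ z)
    (hn : ∀ g : S, ∀ b ∈ Q₂, g⁻¹ * b * g ∈ Q₂) :
    ∃ i₂ ∈ Q₂, i₂ * i₂ = z ∧ ∀ g : S, g⁻¹ * i₂ * g ∈ Subgroup.zpowers i₂ := by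
  obtain ⟨e₂⟩ := hB.q2
  have hz := base_z₂ hB e₂
  have h0 : homOf e₂ iq * homOf e₂ iq = z := by
    rw [← map_mul, q8_i_sq, hz]
  exact exists_i2 hB hn (homOf_mem e₂ iq) h0

end Cfsg.Agent.Lib.Helper1.S1233
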