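import Mathlib
import Cfsg.Agent.Lib.Helper1.S1233F2b

/-!
# S1233 farm: case III, part F2 (helper1), part c: (SIGMA) when `Q₂` is normal in `S`.
-/

set_option autoImplicit false

namespace Cfsg.Agent.Lib.Helper1.S1233

open Cfsg.Agent.Lib.Helper6.S1233A Cfsg.Agent.Lib.Helper3.S1233B2

variable {S : Type*} [Group S] {Q₁ Q₂ : Subgroup S} {d : Dat S}

theorem case_III_of_normal (hC : Ctx Q₁ Q₂ d) (h1 : 3 ≤ d.n₁) (h2 : d.n₂ = 2)
    (hF1 : ∀ g : S, ∀ q ∈ Q₂, g⁻¹ * q * g ∈ Q₂) : Sigma Q₁ Q₂ d.z := by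
  have hB := hC.base
  have hB' := base_symm hB
  have s1 := hC.s1
  have s2 := hC.s2
  have hz := hB.z_central
  have hzz := hB.z_sq
  have hX2 : cen Q₁ = Q₂ := cen_eq_of_two hB' s2 h2
  obtain ⟨i₂, hi₂, hi₂sq, hi₂n⟩ := f2_line hB hF1
  have hi₁ : d.i₁ ∈ Q₁ := s1.i_mem
  have hj₁ : d.j₁ ∈ Q₁ := s1.j_mem
  have hi₁sq : d.i₁ * d.i₁ = d.z := side_i_sq s1
  have hj₁sq : d.j₁ * d.j₁ = d.z := side_j_sq' hB s1
  have hi₁n := conj_i_mem hB s1 h1 hF1
  have hc₁n := conj_c_mem hB s1 h1 hF1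
  have hi₁B : d.i₁ ∈ Bs d.i₁ i₂ := Subgroup.subset_closure (by simp)
  have hi₂B : i₂ ∈ Bs d.i₁ i₂ := Subgroup.subset_closure (by simp)
  have hQ1X1 : Q₁ ≤ cen Q₂ := side_le hB
  have hcommQX : ∀ x ∈ Q₂, ∀ y ∈ cen Q₂, x * y = y * x :=
    fun x hx y hy => comm_of_mem_cen hy hx
  have hNX1 : Subgroup.zpowers d.c₁ ≤ cen Q₂ := zpowers_le s1
  have hQS0 : Q₁ ⊔ Q₂ ≤ Q₂ ⊔ cen Q₂ :=
    sup_le (hQ1X1.trans le_sup_right) le_sup_left
  -- membership in R
  have hRi₁ : ∀ r ∈ Rs d.i₁ i₂, d.i₁ * r = r * d.i₁ := fun r hr =>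
    Subgroup.mem_centralizer_iff.mp hr _ (by simp)
  have hRi₂ : ∀ r ∈ Rs d.i₁ i₂, i₂ * r = r * i₂ := fun r hr =>
    Subgroup.mem_centralizer_iff.mp hr _ (by simp)
  -- (f) R ∩ S0
  have hRS0 : ∀ r ∈ Rs d.i₁ i₂, r ∈ Q₂ ⊔ cen Q₂ →
      ∃ q ∈ Subgroup.zpowers i₂, ∃ y ∈ Subgroup.zpowers d.c₁, r = q * y := by
    intro r hr hrS
    obtain ⟨q, hq, y, hy, rfl⟩ := exists_mul_of_mem_sup hcommQX hrS
    have hqi₁ : d.i₁ * q = q * d.i₁ := hB.comm _ hi₁ _ hq
    have hyi₂ : i₂ * y = y * i₂ := hcommQX _ hi₂ _ hy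
    have hqy : q * y = y * q := hcommQX _ hq _ hy
    have e1 := hRi₁ _ hr
    have e2 := hRi₂ _ hr
    have hyi₁ : y * d.i₁ = d.i₁ * y := by
      have : q * (y * d.i₁) = q * (d.i₁ * y) := by
        calc q * (y * d.i₁) = (q * y) * d.i₁ := by group
          _ = d.i₁ * (q * y) := e1.symm
          _ = (d.i₁ * q) * y := by group
          _ = (q * d.i₁) * y := by rw [hqi₁]
          _ = q * (d.i₁ * y) := by group
      exact mul_left_cancel this
    have hyC : y ∈ Subgroup.zpowers d.c₁ := side_cent_i hB s1 h1 y hy hyi₁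
    have hqi₂ : q * i₂ = i₂ * q := by
      have : (q * i₂) * y = (i₂ * q) * y := by
        calc (q * i₂) * y = q * (i₂ * y) := by group
          _ = q * (y * i₂) := by rw [hyi₂]
          _ = (q * y) * i₂ := by group
          _ = i₂ * (q * y) := e2.symm
          _ = (i₂ * q) * y := by group
      exact mul_right_cancel this
    exact ⟨q, q8_cent hB' hi₂ hi₂sq hq hqi₂, y, hyC, rfl⟩
  -- i₂ commutes with c₁
  have hci : Commute i₂ d.c₁ := hcommQX _ hi₂ _ s1.c_mem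
  -- (g1) elements of the form q * y commute
  have hform_comm : ∀ q ∈ Subgroup.zpowers i₂, ∀ y ∈ Subgroup.zpowers d.c₁,
      ∀ q' ∈ Subgroup.zpowers i₂, ∀ y' ∈ Subgroup.zpowers d.c₁,
      (q * y) * (q' * y') = (q' * y') * (q * y) := by
    intro q hq y hy q' hq' y' hy'
    obtain ⟨a, rfl⟩ := Subgroup.mem_zpowers_iff.mp hq
    obtain ⟨b, rfl⟩ := Subgroup.mem_zpowers_iff.mp hy
    obtain ⟨a', rfl⟩ := Subgroup.mem_zpowers_iff.mp hq'
    obtain ⟨b', rfl⟩ := Subgroup.mem_zpowers_iff.mp hy'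
    have c1 : Commute (i₂ ^ a) (i₂ ^ a') := (Commute.refl i₂).zpow_zpow a a'
    have c2 : Commute (i₂ ^ a) (d.c₁ ^ b') := hci.zpow_zpow a b'
    have c3 : Commute (d.c₁ ^ b) (i₂ ^ a') := (hci.zpow_zpow a' b).symm
    have c4 : Commute (d.c₁ ^ b) (d.c₁ ^ b') := (Commute.refl d.c₁).zpow_zpow b b'
    exact ((c1.mul_right c2).mul_left (c3.mul_right c4)).eq
  -- (g2)
  have hsqS0 : ∀ r ∈ Rs d.i₁ i₂, r ∈ Q₂ ⊔ cen Q₂ → r * r ∈ Zs d.z → r ∈ Bs d.i₁ i₂ := by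
    intro r hr hrS hrr
    obtain ⟨q, hq, y, hy, rfl⟩ := hRS0 r hr hrS
    have hqQ : q ∈ Q₂ := (Subgroup.zpowers_le.mpr hi₂) hq
    have hqy : q * y = y * q := hcommQX _ hqQ _ (hNX1 hy)
    have hqq : q * q ∈ Zs d.z := A1_sq hB q (Subgroup.mem_sup_right hqQ)
    have e : y * y = (q * q)⁻¹ * ((q * y) * (q * y)) := by
      calc y * y = (q * q)⁻¹ * (q * (q * y) * y) := by group
        _ = (q * q)⁻¹ * (q * (y * q) * y) := by rw [hqy]
        _ = (q * q)⁻¹ * ((q * y) * (q * y)) := by group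
    have hyy : y * y ∈ Zs d.z := by
      rw [e]; exact Subgroup.mul_mem _ (Subgroup.inv_mem _ hqq) hrr
    have hyi : y ∈ Subgroup.zpowers d.i₁ := mem_zpowers_i_of_sq hB s1 hy hyy
    exact Subgroup.mul_mem _ ((Subgroup.zpowers_le.mpr hi₂B) hq)
      ((Subgroup.zpowers_le.mpr hi₁B) hyi)
  -- elements of R ∩ S0 commute with c₁
  have hS0c : ∀ r ∈ Rs d.i₁ i₂, r ∈ Q₂ ⊔ cen Q₂ → r * d.c₁ = d.c₁ * r := by
    intro r hr hrS
    obtain ⟨q, hq, y, hy, rfl⟩ := hRS0 r hr hrS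
    have := hform_comm q hq y hy 1 (Subgroup.one_mem _) d.c₁ (Subgroup.mem_zpowers _)
    simpa using this
  -- Claim K
  have claimK : ∀ e ∈ Rs d.i₁ i₂, e ∉ Q₂ ⊔ cen Q₂ → cm e d.c₁ ∈ Zs d.z := by
    intro e he heS
    have hee : e * e ∈ Q₂ ⊔ cen Q₂ :=
      A4_index hB' e e (fun a ha => hF1 _ a ha) (fun a ha => hF1 _ a ha) heS heS
    have heeR : e * e ∈ Rs d.i₁ i₂ := Subgroup.mul_mem _ he he
    have hcomm2 := hS0c _ heeR hee
    obtain ⟨k, hk⟩ := mem_zpowers_nat (by rw [s1.ord]; positivity) (hc₁n e)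
    -- k * k ≡ 1
    have e1 : d.c₁ ^ (k * k) = d.c₁ ^ 1 := by
      have : (e * e)⁻¹ * d.c₁ * (e * e) = d.c₁ := by
        rw [mul_assoc, ← hcomm2, ← mul_assoc, inv_mul_cancel, one_mul]
      have h3 : (e * e)⁻¹ * d.c₁ * (e * e) = e⁻¹ * (e⁻¹ * d.c₁ * e) * e := by group
      rw [h3, hk, conj_pow', hk, ← pow_mul] at this
      rw [this, pow_one]
    have m1 : k * k ≡ 1 [MOD 2 ^ d.n₁] := by
      rw [← s1.ord]; exact pow_eq_pow_iff_modEq.mp e1
    -- k ≡ 1 mod 4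
    have e2 : d.c₁ ^ (k * 2 ^ (d.n₁ - 2)) = d.c₁ ^ (2 ^ (d.n₁ - 2)) := by
      have hfix : e⁻¹ * d.i₁ * e = d.i₁ := by
        rw [mul_assoc, hRi₁ e he, ← mul_assoc, inv_mul_cancel, one_mul]
      rw [s1.i_eq, conj_pow', hk, ← pow_mul] at hfix
      exact hfix
    have m2 : k * 2 ^ (d.n₁ - 2) ≡ 2 ^ (d.n₁ - 2) [MOD 2 ^ d.n₁] := by
      rw [← s1.ord]; exact pow_eq_pow_iff_modEq.mp e2
    have m3 := arith_k h1 m1 m2
    -- c₁ ^ k = c₁ * w, w ∈ ⟨z⟩
    have hk1 : 1 ≤ k := by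
      rcases Nat.eq_zero_or_pos k with h0 | h0
      · subst h0
        have : (0 : ℕ) % 2 ^ (d.n₁ - 1) = 1 % 2 ^ (d.n₁ - 1) := m3
        have h4 : 2 ≤ 2 ^ (d.n₁ - 1) := by
          calc 2 = 2 ^ 1 := by norm_num
            _ ≤ 2 ^ (d.n₁ - 1) := Nat.pow_le_pow_right (by norm_num) (by omega)
        rw [Nat.zero_mod, Nat.mod_eq_of_lt (by omega)] at this
        omega
      · exact h0
    have hdvd : 2 ^ (d.n₁ - 1) ∣ k - 1 := (Nat.modEq_iff_dvd' hk1).mp m3.symm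
    obtain ⟨t, ht⟩ := hdvd
    have hk' : k = 1 + 2 ^ (d.n₁ - 1) * t := by omega
    have e3 : e⁻¹ * d.c₁ * e = d.c₁ * d.z ^ t := by
      rw [hk, hk', pow_add, pow_one, pow_mul, s1.c_pow]
    apply cm_of_conj
    have hzt : d.z ^ t ∈ Zs d.z := Subgroup.pow_mem _ (Subgroup.mem_zpowers _) t
    rcases (mem_Zs_iff hzz).mp hzt with h | h
    · left; rw [e3, h, mul_one]
    · right; rw [e3, h]
  -- Step 1/2 : cm r a ∈ ⟨z⟩ for r ∈ R, a ∈ R ∩ S0
  have step2 : ∀ r ∈ Rs d.i₁ i₂, ∀ a ∈ Rs d.i₁ i₂, a ∈ Q₂ ⊔ cen Q₂ → cm r a ∈ Zs d.z := by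
    intro r hr a ha haS
    by_cases hrS : r ∈ Q₂ ⊔ cen Q₂
    · obtain ⟨q, hq, y, hy, rfl⟩ := hRS0 r hr hrS
      obtain ⟨q', hq', y', hy', rfl⟩ := hRS0 a ha haS
      rw [cm_eq_one_of_comm (hform_comm q hq y hy q' hq' y' hy')]
      exact Subgroup.one_mem _
    · obtain ⟨q', hq', y', hy', rfl⟩ := hRS0 a ha haS
      have hK := claimK r hr hrS
      have hc1 : Subgroup.zpowers d.c₁ ≤ CzR d.z hz r := by
        rw [Subgroup.zpowers_le]; exact hK
      have hc2 : Subgroup.zpowers i₂ ≤ CzR d.z hz r := by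
        rw [Subgroup.zpowers_le, mem_CzR, cm_eq_one_of_comm (hRi₂ r hr).symm]
        exact Subgroup.one_mem _
      have : q' * y' ∈ CzR d.z hz r := Subgroup.mul_mem _ (hc2 hq') (hc1 hy')
      exact mem_CzR.mp this
  refine ⟨d.i₁, hi₁, i₂, hi₂, hi₁sq, hi₂sq, ?_, ?_, ?_⟩
  · intro g
    exact ⟨(Subgroup.zpowers_le.mpr hi₁B) (hi₁n g), (Subgroup.zpowers_le.mpr hi₂B) (hi₂n g)⟩
  · intro r hr s hs
    by_cases hsS : s ∈ Q₂ ⊔ cen Q₂
    · exact step2 r hr s hs hsS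
    · by_cases hrS : r ∈ Q₂ ⊔ cen Q₂
      · exact cm_mem_symm (step2 s hs r hr hrS)
      · have hrs : r⁻¹ * s ∈ Q₂ ⊔ cen Q₂ := by
          have hr' : r⁻¹ ∉ Q₂ ⊔ cen Q₂ := fun hm => hrS (by simpa using Subgroup.inv_mem _ hm)
          exact A4_index hB' r⁻¹ s (fun a ha => hF1 _ a ha) (fun a ha => hF1 _ a ha) hr' hsS
        have hrsR : r⁻¹ * s ∈ Rs d.i₁ i₂ := Subgroup.mul_mem _ (Subgroup.inv_mem _ hr) hs
        have h3 : r⁻¹ * s ∈ CzR d.z hz r := mem_CzR.mpr (step2 r hr _ hrsR hrs)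
        have h4 : r ∈ CzR d.z hz r := by
          rw [mem_CzR, cm_eq_one_of_comm rfl]; exact Subgroup.one_mem _
        have h5 : r * (r⁻¹ * s) ∈ CzR d.z hz r := Subgroup.mul_mem _ h4 h3
        rw [mul_inv_cancel_left] at h5
        exact mem_CzR.mp h5
  · intro e he hee
    by_cases heS : e ∈ Q₂ ⊔ cen Q₂
    · exact hsqS0 e he heS hee
    · exfalso
      have hK := claimK e he heS
      -- e⁻¹ j₁ e ∈ X₁ \ C₁
      have hjX : e⁻¹ * d.j₁ * e ∈ cen Q₂ := cen_normal_of_normal hF1 e _ (hQ1X1 hj₁)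
      have hjC : e⁻¹ * d.j₁ * e ∉ Subgroup.zpowers d.c₁ := by
        intro hm
        have := conj_mem_zpowers hc₁n e⁻¹ _ hm
        have h3 : e⁻¹⁻¹ * (e⁻¹ * d.j₁ * e) * e⁻¹ = d.j₁ := by group
        rw [h3] at this
        exact s1.j_not this
      rcases side_mem hB s1 _ hjX with hm | ⟨y, hy, hyj⟩
      · exact hjC hm
      · -- conjugate again
        have hcen : (e * e)⁻¹ * d.j₁ * (e * e) = d.j₁ := by
          rw [mul_assoc, Zs_central hz hee d.j₁, ← mul_assoc, inv_mul_cancel, one_mul]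
        have h3 : (e * e)⁻¹ * d.j₁ * (e * e) = (e⁻¹ * y * e) * (e⁻¹ * d.j₁ * e) := by
          calc (e * e)⁻¹ * d.j₁ * (e * e) = e⁻¹ * (e⁻¹ * d.j₁ * e) * e := by group
            _ = e⁻¹ * (y * d.j₁) * e := by rw [hyj]
            _ = (e⁻¹ * y * e) * (e⁻¹ * d.j₁ * e) := by group
        rw [hcen, hyj, ← mul_assoc] at h3
        have h4 : e⁻¹ * y * e * y = 1 := by
          have : (e⁻¹ * y * e * y) * d.j₁ = 1 * d.j₁ := by rw [one_mul]; exact h3.symm
          exact mul_right_cancel this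
        have hyK : y ∈ CzR d.z hz e := by
          have hc1 : Subgroup.zpowers d.c₁ ≤ CzR d.z hz e := by
            rw [Subgroup.zpowers_le]; exact hK
          exact hc1 hy
        have hyy : y * y ∈ Zs d.z := by
          rcases conj_of_cm hzz (mem_CzR.mp hyK) with h | h
          · rw [h] at h4; rw [h4]; exact Subgroup.one_mem _
          · rw [h] at h4
            have : y * y = d.z := by
              calc y * y = (y * d.z * y) * d.z := by
                    rw [mul_assoc y d.z y, ← hz y, ← mul_assoc, mul_assoc (y * y), hzz, mul_one]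
                _ = d.z := by rw [h4, one_mul]
            rw [this]; exact Subgroup.mem_zpowers _
        have hyi : y ∈ Subgroup.zpowers d.i₁ := mem_zpowers_i_of_sq hB s1 hy hyy
        have hyQ : y ∈ Q₁ := (Subgroup.zpowers_le.mpr hi₁) hyi
        -- e normalizes Q₁
        have hnorm : ∀ a ∈ Q₁, e⁻¹ * a * e ∈ Q₁ := by
          have hgen : Q₁ = Subgroup.closure {d.i₁, d.j₁} := side_q hB s1
          have hle : Q₁ ≤ Subgroup.comap (MulAut.conj e⁻¹).toMonoidHom Q₁ := by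
            conv_lhs => rw [hgen]
            rw [Subgroup.closure_le]
            intro u hu
            simp only [Set.mem_insert_iff, Set.mem_singleton_iff] at hu
            show (MulAut.conj e⁻¹).toMonoidHom u ∈ Q₁
            simp only [MulEquiv.toMonoidHom_eq_coe, MonoidHom.coe_coe, MulAut.conj_apply, inv_inv]
            rcases hu with rfl | rfl
            · have : e⁻¹ * d.i₁ * e = d.i₁ := by
                rw [mul_assoc, hRi₁ e he, ← mul_assoc, inv_mul_cancel, one_mul]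
              rw [this]; exact hi₁
            · rw [hyj]; exact Q₁.mul_mem hyQ hj₁
          intro a ha
          have := hle ha
          simpa [Subgroup.mem_comap, MulAut.conj_apply] using this
        have hout := (A4_outer hB e d.i₁ d.j₁ hi₁ hj₁ hi₁sq hj₁sq (j_not_zpowers_i s1) hnorm
          (hRi₁ e he).symm).2
        by_cases heQ : e ∈ Q₁ ⊔ cen Q₁
        · rw [hX2] at heQ
          exact heS (hQS0 heQ)
        · have h5 := (hout heQ).2
          rw [hcen] at h5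
          have : d.z = 1 := by
            have : d.j₁ * 1 = d.j₁ * d.z := by rw [mul_one]; exact h5
            exact (mul_left_cancel this).symm
          exact hB.z_ne this

end Cfsg.Agent.Lib.Helper1.S1233
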