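import Mathlib
import Cfsg.Agent.Lib.Helper8.S4Loc3

/-!
# Farm S1932 (owner helper5), unit E (helper1): two involutions whose product has order divisible
by 3 modulo `C_G(V)`, `V` a normal 2-subgroup: `S₄` is involved.
-/

set_option autoImplicit false
set_option linter.unusedVariables false
set_option linter.style.longLine false

universe u

open Cfsg

namespace Cfsg.Agent.Lib.Helper1.S1932E

theorem involves_S4_of_three_dvd {G : Type u} [Group G] [Finite G] (V : Subgroup G) [V.Normal]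
    (hV : IsPGroup 2 V) (a b : G) (ha2 : a * a = 1) (hb2 : b * b = 1)
    (h3 : ∀ n : ℕ, (a * b) ^ n ∈ Subgroup.centralizer (V : Set G) → 3 ∣ n) :
    Cfsg.Involves (Equiv.Perm (Fin 4)) G := by
  classical
  have hex : ∃ n : ℕ, 0 < n ∧ (a * b) ^ n ∈ Subgroup.centralizer (V : Set G) :=
    ⟨orderOf (a * b), orderOf_pos _, by rw [pow_orderOf_eq_one]; exact Subgroup.one_mem _⟩
  obtain ⟨hmpos, hmC⟩ := Nat.find_spec hex
  have hmin : ∀ n : ℕ, n < Nat.find hex → ¬ (0 < n ∧ (a * b) ^ n ∈ Subgroup.centralizer (V : Set G)) :=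
    fun n hn => Nat.find_min hex hn
  obtain ⟨k, hk⟩ := h3 _ hmC
  have hkpos : 0 < k := by
    rcases Nat.eq_zero_or_pos k with h | h
    · rw [h, mul_zero] at hk; omega
    · exact h
  have hklt : k < Nat.find hex := by omega
  have hainv : a⁻¹ = a := inv_eq_of_mul_eq_one_left ha2
  have hbinv : b⁻¹ = b := inv_eq_of_mul_eq_one_left hb2
  have hconj : a * (a * b) * a⁻¹ = (a * b)⁻¹ := by
    rw [mul_inv_rev, hainv, hbinv]
    calc a * (a * b) * a = (a * a) * b * a := by group
      _ = b * a := by rw [ha2, one_mul]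
  have hyp : Cfsg.Agent.Lib.Helper8.S4Loc.Hyp V a ((a * b) ^ k) := by
    refine ⟨inferInstance, hV, ⟨1, by rw [pow_one, pow_two]; exact ha2⟩, ?_, ?_, ?_⟩
    · rw [← pow_mul, mul_comm, ← hk]
      exact hmC
    · intro h
      exact hmin k hklt ⟨hkpos, h⟩
    · have e : a * (a * b) ^ k * a⁻¹ * (a * b) ^ k = 1 := by
        rw [← conj_pow, hconj, inv_pow, inv_mul_cancel]
      rw [e]
      exact Subgroup.one_mem _
  exact Cfsg.Agent.Lib.Helper8.S4Loc.involves_of_hyp_aux (Nat.card V) G V a _ rfl hyp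

end Cfsg.Agent.Lib.Helper1.S1932E
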