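import Mathlib
import Cfsg.Prelude.Def_PLocal
import Cfsg.Agent.Lib.Helper1.CoprimeLift
import Cfsg.Agent.Lib.Helper1.PLengthOne
import Cfsg.Agent.Lib.Helper1.StableNormalClosure
import Cfsg.Agent.Lib.Helper1.OmegaCenter
set_option autoImplicit false
open Cfsg
open scoped Pointwise
universe u v
namespace Cfsg.Agent.Lib.Helper1
variable {G : Type u} [Group G] {G' : Type v} [Group G']

/-- The restriction of `f` to a subgroup on which it is injective, as an isomorphism onto the image. -/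
noncomputable def subgroupMapEquivOfInjOn (f : G →* G') (S : Subgroup G)
    (hf : ∀ s ∈ S, f s = 1 → s = 1) : S ≃* S.map f :=
  MulEquiv.ofBijective (f.subgroupMap S) ⟨by
    rw [injective_iff_map_eq_one]
    intro s hs
    have h1 : f (s : G) = 1 := by
      have := congrArg Subtype.val hs
      exact this
    exact Subtype.ext (hf s s.2 h1), f.subgroupMap_surjective S⟩

theorem subgroupMapEquivOfInjOn_coe (f : G →* G') (S : Subgroup G)
    (hf : ∀ s ∈ S, f s = 1 → s = 1) (s : S) :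
    ((subgroupMapEquivOfInjOn f S hf s : S.map f) : G') = f s := rfl

theorem thompsonSubgroupOf_map_of_injOn {p : ℕ} (f : G →* G') (S : Subgroup G)
    (hf : ∀ s ∈ S, f s = 1 → s = 1) :
    thompsonSubgroupOf p (S.map f) = (thompsonSubgroupOf p S).map f := by
  unfold thompsonSubgroupOf
  rw [← thompsonSubgroup_map_equiv (subgroupMapEquivOfInjOn f S hf), Subgroup.map_map,
    Subgroup.map_map]
  rfl

theorem map_inf_centralizer_of_injOn (f : G →* G') (S : Subgroup G)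
    (hf : ∀ s ∈ S, f s = 1 → s = 1) :
    S.map f ⊓ Subgroup.centralizer ((S.map f : Subgroup G') : Set G') =
      (S ⊓ Subgroup.centralizer (S : Set G)).map f := by
  have hinj : ∀ a ∈ S, ∀ b ∈ S, f a = f b → a = b := by
    intro a ha b hb hab
    have h1 : f (a * b⁻¹) = 1 := by rw [map_mul, map_inv, hab, mul_inv_cancel]
    have h2 := hf _ (S.mul_mem ha (S.inv_mem hb)) h1
    exact mul_inv_eq_one.mp h2
  ext y
  constructor
  · rintro ⟨⟨x, hxS, rfl⟩, hc⟩
    refine ⟨x, ⟨hxS, ?_⟩, rfl⟩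
    change x ∈ Subgroup.centralizer _
    change f x ∈ Subgroup.centralizer _ at hc
    rw [Subgroup.mem_centralizer_iff]
    intro k hk
    apply hinj _ (S.mul_mem hk hxS) _ (S.mul_mem hxS hk)
    rw [map_mul, map_mul]
    exact (Subgroup.mem_centralizer_iff.mp hc) (f k) ⟨k, hk, rfl⟩
  · rintro ⟨x, ⟨hxK, hxc⟩, rfl⟩
    refine ⟨⟨x, hxK, rfl⟩, ?_⟩
    change f x ∈ Subgroup.centralizer _
    change x ∈ Subgroup.centralizer _ at hxc
    rw [Subgroup.mem_centralizer_iff]
    rintro _ ⟨k, hk, rfl⟩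
    rw [← map_mul, ← map_mul, (Subgroup.mem_centralizer_iff.mp hxc) k hk]

theorem omegaOne_map_of_injOn {p : ℕ} (f : G →* G') (K : Subgroup G)
    (hf : ∀ s ∈ K, f s = 1 → s = 1) :
    omegaOne p (K.map f) = (omegaOne p K).map f := by
  unfold omegaOne
  rw [MonoidHom.map_closure]
  congr 1
  ext y
  constructor
  · rintro ⟨⟨x, hxK, rfl⟩, hyp⟩
    refine ⟨x, ⟨hxK, ?_⟩, rfl⟩
    apply hf _ (K.pow_mem hxK p)
    rw [map_pow, hyp]
  · rintro ⟨x, ⟨hxK, hxp⟩, rfl⟩
    exact ⟨⟨x, hxK, rfl⟩, by rw [← map_pow, hxp, map_one]⟩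

theorem omegaOne_center_map_of_injOn {p : ℕ} (f : G →* G') (S : Subgroup G)
    (hf : ∀ s ∈ S, f s = 1 → s = 1) :
    omegaOne p (S.map f ⊓ Subgroup.centralizer ((S.map f : Subgroup G') : Set G')) =
      (omegaOne p (S ⊓ Subgroup.centralizer (S : Set G))).map f := by
  rw [map_inf_centralizer_of_injOn f S hf]
  exact omegaOne_map_of_injOn f _ (fun s hs => hf s hs.1)

theorem isThompsonFactorizable_iff_quotient {G : Type u} [Group G] [Finite G] {p : ℕ}
    [hp : Fact p.Prime] :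
    IsThompsonFactorizable p G ↔ IsThompsonFactorizable p (G ⧸ pPrimeCore p G) := by
  obtain ⟨N, hN⟩ : ∃ N, N = pPrimeCore p G := ⟨_, rfl⟩
  have hNn : N.Normal := by rw [hN]; infer_instance
  have hNc : (Nat.card N).Coprime p := by rw [hN]; exact pPrimeCore_card_coprime p
  have hsurj : Function.Surjective (QuotientGroup.mk' (pPrimeCore p G)) :=
    QuotientGroup.mk'_surjective _
  have hker : ∀ x : G, (QuotientGroup.mk' (pPrimeCore p G)) x = 1 ↔ x ∈ N := by
    intro x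
    rw [QuotientGroup.mk'_apply, QuotientGroup.eq_one_iff, hN]
  have hinj : ∀ S : Sylow p G, ∀ s ∈ (S : Subgroup G),
      (QuotientGroup.mk' (pPrimeCore p G)) s = 1 → s = 1 := by
    intro S s hs h1
    have h2 : s ∈ (S : Subgroup G) ⊓ N := ⟨hs, (hker s).mp h1⟩
    have h3 : (S : Subgroup G) ⊓ N = ⊥ := by
      apply (Subgroup.disjoint_of_coprime_natCard ?_).eq_bot
      obtain ⟨k, hk⟩ := (IsPGroup.iff_card.mp S.isPGroup')
      rw [hk]
      exact (Nat.Coprime.pow_right k hNc).symm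
    rw [h3, Subgroup.mem_bot] at h2
    exact h2
  constructor
  · intro hTF Sbar gbar
    obtain ⟨S, rfl⟩ := Sylow.mapSurjective_surjective hsurj p Sbar
    obtain ⟨g, rfl⟩ := hsurj gbar
    obtain ⟨x, hx, c, hc, n, hn, rfl⟩ := hTF S g
    rw [Sylow.coe_mapSurjective, omegaOne_center_map_of_injOn _ _ (hinj S),
      thompsonSubgroupOf_map_of_injOn _ _ (hinj S)]
    refine ⟨1, Subgroup.one_mem _, (QuotientGroup.mk' (pPrimeCore p G)) c, ?_,
      (QuotientGroup.mk' (pPrimeCore p G)) n, ?_, ?_⟩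
    · rw [Subgroup.mem_centralizer_iff]
      rintro _ ⟨z, hz, rfl⟩
      rw [← map_mul, ← map_mul, Subgroup.mem_centralizer_iff.mp hc z hz]
    · exact Subgroup.le_normalizer_map _ ⟨n, hn, rfl⟩
    · have hx1 : (QuotientGroup.mk' (pPrimeCore p G)) x = 1 := (hker x).mpr (hN ▸ hx)
      rw [map_mul, map_mul, hx1]
  · intro hTF S g
    obtain ⟨xbar, hxbar, cbar, hcbar, nbar, hnbar, hg⟩ :=
      hTF (S.mapSurjective hsurj) ((QuotientGroup.mk' (pPrimeCore p G)) g)
    rw [pPrimeCore_quotient_eq_bot, Subgroup.mem_bot] at hxbar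
    rw [Sylow.coe_mapSurjective, omegaOne_center_map_of_injOn _ _ (hinj S)] at hcbar
    rw [Sylow.coe_mapSurjective, thompsonSubgroupOf_map_of_injOn _ _ (hinj S)] at hnbar
    obtain ⟨c₀, rfl⟩ := hsurj cbar
    obtain ⟨n₀, rfl⟩ := hsurj nbar
    obtain ⟨Z, hZ⟩ : ∃ Z, Z = omegaOne p ((S : Subgroup G) ⊓ Subgroup.centralizer ((S : Subgroup G) : Set G)) := ⟨_, rfl⟩
    obtain ⟨J, hJ⟩ : ∃ J, J = thompsonSubgroupOf p (S : Subgroup G) := ⟨_, rfl⟩
    rw [← hZ] at hcbar ⊢
    rw [← hJ] at hnbar ⊢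
    have hZS : Z ≤ S := by
      rw [hZ]; exact (omegaOne_le p _).trans inf_le_left
    have hJS : J ≤ S := by
      rw [hJ]; unfold thompsonSubgroupOf; exact Subgroup.map_subtype_le _
    have hZp : IsPGroup p Z := S.isPGroup'.to_le hZS
    have hJp : IsPGroup p J := S.isPGroup'.to_le hJS
    -- lift the centralizing element
    have hcomm : ∀ q ∈ Z, c₀ * q * c₀⁻¹ * q⁻¹ ∈ N := by
      intro q hq
      have h1 := Subgroup.mem_centralizer_iff.mp hcbar _ ⟨q, hq, rfl⟩
      rw [← hker, map_mul, map_mul, map_mul, map_inv, map_inv, ← h1]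
      group
    obtain ⟨x₁, hx₁, c, hc, rfl⟩ :=
      exists_mul_mem_centralizer_of_comm_mem N hNc Z hZp c₀ hcomm
    -- lift the normalizing element
    have hconj : MulAut.conj n₀ • J ≤ N ⊔ J := by
      rintro _ ⟨j, hj, rfl⟩
      have h1 : (QuotientGroup.mk' (pPrimeCore p G)) n₀ * (QuotientGroup.mk' (pPrimeCore p G)) j *
          ((QuotientGroup.mk' (pPrimeCore p G)) n₀)⁻¹ ∈ J.map (QuotientGroup.mk' (pPrimeCore p G)) :=
        (Subgroup.mem_normalizer_iff.mp hnbar _).mp ⟨j, hj, rfl⟩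
      obtain ⟨j', hj', hjj'⟩ := h1
      have h2 : (n₀ * j * n₀⁻¹) * j'⁻¹ ∈ N := by
        rw [← hker, map_mul, map_mul, map_mul, map_inv, map_inv, hjj']
        group
      have h3 : (MulAut.conj n₀).toMonoidHom j = ((n₀ * j * n₀⁻¹) * j'⁻¹) * j' := by
        simp [MulAut.conj_apply]
      change (MulAut.conj n₀).toMonoidHom j ∈ N ⊔ J
      rw [h3]
      exact Subgroup.mul_mem_sup h2 hj'
    obtain ⟨x₂, hx₂, n, hn, rfl⟩ :=
      exists_mul_mem_normalizer_of_conj_le_sup N hNc J hJp n₀ hconj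
    have hy : g * (x₁ * c * (x₂ * n))⁻¹ ∈ N := by
      rw [← hker, map_mul, hg, hxbar, one_mul, ← map_mul, ← map_mul, mul_inv_cancel, map_one]
    refine ⟨g * (x₁ * c * (x₂ * n))⁻¹ * x₁ * (c * x₂ * c⁻¹), ?_, c, hc, n, hn, by group⟩
    rw [← hN]
    exact N.mul_mem (N.mul_mem hy hx₁) (hNn.conj_mem x₂ hx₂ c)

end Cfsg.Agent.Lib.Helper1
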