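import Mathlib
import Cfsg.Agent.Lib.Helper8.FFT3
import Cfsg.Agent.Lib.Helper8.ThLoc3
import Cfsg.Agent.Lib.Helper1.OmegaCenter
import Cfsg.Agent.Lib.Helper1.ThompsonRelative
import Cfsg.Agent.Lib.Helper1.ThompsonFactorizableQuotient
import Cfsg.Agent.Lib.Helper1.ZJ10
import Cfsg.Agent.Lib.Helper1.FittingCentralizer
import Cfsg.Agent.Lib.Helper1.CoprimeAut
import Cfsg.Agent.Lib.Helper1.StableQuad4
import Cfsg.Agent.Lib.Helper2.Involves
import Cfsg.Agent.Lib.Helper1.GlaubermanRepl3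

/-! `S₄`-free solvable groups with Sylow `2`-subgroups of class at most two:
`G = N_G(J_e(S)) O_{2'}(G)`. -/
set_option autoImplicit false
universe u
open Cfsg
open scoped commutatorElement Pointwise

namespace Cfsg.Agent.Lib.Helper1.SFour

variable {G : Type u} [Group G]

/-- If `O_2(X) = 1` then `F(X)` has odd order. -/
theorem card_fittingSubgroup_coprime_two {X : Type u} [Group X] [Finite X]
    (h : Cfsg.pCore 2 X = ⊥) : (Nat.card (Cfsg.fittingSubgroup X)).Coprime 2 := by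
  have : Fact (Nat.Prime 2) := ⟨Nat.prime_two⟩
  by_contra hcon
  have h2 : 2 ∣ Nat.card (Cfsg.fittingSubgroup X) := by
    by_contra h2
    exact hcon ((Nat.Prime.coprime_iff_not_dvd Nat.prime_two).mpr h2).symm
  obtain ⟨F, hF⟩ : ∃ F : Subgroup X, F = Cfsg.fittingSubgroup X := ⟨_, rfl⟩
  rw [← hF] at h2
  have hFn : F.Normal := by rw [hF]; exact fittingSubgroup_normal
  have hFnil : Group.IsNilpotent F := by rw [hF]; exact fittingSubgroup_isNilpotent
  obtain ⟨T⟩ : Nonempty (Sylow 2 ↥F) := inferInstance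
  have hTne : (T : Subgroup ↥F) ≠ ⊥ := T.ne_bot_of_dvd_card h2
  have htfae := (Group.isNilpotent_of_finite_tfae (G := ↥F)).out 0 3
  have hTn : (T : Subgroup ↥F).Normal := htfae.mp hFnil 2 inferInstance T
  have hTc : (T : Subgroup ↥F).Characteristic := T.characteristic_of_normal hTn
  have hTmapn : ((T : Subgroup ↥F).map F.subtype).Normal :=
    ConjAct.normal_of_characteristic_of_normal
  have hTp : IsPGroup 2 ((T : Subgroup ↥F).map F.subtype) := T.2.map _
  have hle := le_pCore hTmapn hTp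
  rw [h, le_bot_iff] at hle
  apply hTne
  rw [eq_bot_iff]
  intro x hx
  have : F.subtype x ∈ (T : Subgroup ↥F).map F.subtype := ⟨x, hx, rfl⟩
  rw [hle, Subgroup.mem_bot] at this
  rw [Subgroup.mem_bot]
  exact Subtype.ext this

/-- A solvable group acting on a normal elementary abelian `2`-subgroup `V` with
`O_2(Y/C_Y(V)) = 1` and an abelian offender outside `C_Y(V)` involves `S₄`. -/
theorem involves_s4_of_offender {Y : Type u} [Group Y] [Finite Y] [hsol : Group.IsSolvable Y]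
    (V : Subgroup Y) [hVn : V.Normal] (hV : IsElementaryAbelian 2 V)
    (hO2 : Cfsg.pCore 2 (Y ⧸ Subgroup.centralizer (V : Set Y)) = ⊥)
    (A : Subgroup Y) (hAc : ∀ a ∈ A, ∀ b ∈ A, a * b = b * a) (hAp : IsPGroup 2 A)
    (hAU : ¬ A ≤ Subgroup.centralizer (V : Set Y))
    (hoff : Nat.card V * Nat.card ↥(A ⊓ Subgroup.centralizer (V : Set Y)) ≤
      Nat.card A * Nat.card ↥(V ⊓ Subgroup.centralizer (A : Set Y))) :
    Cfsg.Involves (Equiv.Perm (Fin 4)) Y := by
  have : Fact (Nat.Prime 2) := ⟨Nat.prime_two⟩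
  obtain ⟨Qx, hQx⟩ : ∃ Qx : Subgroup (Y ⧸ Subgroup.centralizer (V : Set Y)),
      Qx = Cfsg.fittingSubgroup (Y ⧸ Subgroup.centralizer (V : Set Y)) := ⟨_, rfl⟩
  have hQn : Qx.Normal := by rw [hQx]; exact fittingSubgroup_normal
  have hQodd : (Nat.card Qx).Coprime 2 := by
    rw [hQx]; exact card_fittingSubgroup_coprime_two hO2
  have hCQ : Subgroup.centralizer (Qx : Set (Y ⧸ Subgroup.centralizer (V : Set Y))) ≤ Qx := by
    rw [hQx]; exact centralizer_fittingSubgroup_le
  obtain ⟨-, a, haA, haU, ha2, S, hSV, hScard, hS⟩ :=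
    Cfsg.Agent.Lib.Helper8.FFT.exists_transvection V (Subgroup.centralizer (V : Set Y)) rfl hV Qx
      hQodd hCQ A hAc hAp hAU hoff
  exact Cfsg.Agent.Lib.Helper8.ThLoc.involves_S4_of_transvection V
    (Subgroup.centralizer (V : Set Y)) rfl hV Qx hQodd hCQ a haU ha2 S hSV hScard hS

open Cfsg.Agent.Lib.Helper1.StableQuad in
/-- In a solvable `S₄`-free group with `O_{2'}(G) = 1` and Sylow `2`-subgroup of class at most
two, every elementary abelian subgroup of `S` of maximal order lies in `O_2(G)`. -/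
theorem le_pCore_of_mem_maxElAbIn [Finite G] [Group.IsSolvable G]
    (hS4 : ¬ Cfsg.Involves (Equiv.Perm (Fin 4)) G) (hO : Cfsg.pPrimeCore 2 G = ⊥)
    (S : Sylow 2 G)
    (hcl : ∀ x ∈ (S : Subgroup G), ∀ y ∈ (S : Subgroup G), ∀ z ∈ (S : Subgroup G),
      ⁅⁅x, y⁆, z⁆ = 1)
    (A : Subgroup G) (hA : A ∈ maxElAbIn 2 (S : Subgroup G)) : A ≤ Cfsg.pCore 2 G := by
  have : Fact (Nat.Prime 2) := ⟨Nat.prime_two⟩
  obtain ⟨hAS, hAel, hAmax⟩ := hA
  obtain ⟨hAcomm, hApow⟩ := isElementaryAbelian_iff.mp hAel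
  have hAp : IsPGroup 2 A := S.2.to_le hAS
  have hc : Subgroup.centralizer (Cfsg.pCore 2 G : Set G) ≤ Cfsg.pCore 2 G :=
    centralizer_pCore_le 2 hO
  obtain ⟨Q, hQ⟩ : ∃ Q : Subgroup G, Q = Cfsg.pCore 2 G := ⟨_, rfl⟩
  have hQn : Q.Normal := by rw [hQ]; exact pCore_normal 2
  have hQ2 : IsPGroup 2 Q := by rw [hQ]; exact pCore_isPGroup 2
  have hQS : Q ≤ S := by rw [hQ]; exact pCore_le_sylow 2 S
  -- `Z = Ω₁(Z(S))`
  obtain ⟨Z, hZ⟩ : ∃ Z : Subgroup G, Z = omegaOne 2 ((S : Subgroup G) ⊓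
      Subgroup.centralizer ((S : Subgroup G) : Set G)) := ⟨_, rfl⟩
  have hZel : IsElementaryAbelian 2 Z := by
    rw [hZ]; exact isElementaryAbelian_omegaOne_center 2 (S : Subgroup G)
  have hZle : Z ≤ (S : Subgroup G) ⊓ Subgroup.centralizer ((S : Subgroup G) : Set G) := by
    rw [hZ]; exact omegaOne_le 2 _
  -- `V`
  obtain ⟨V, hV⟩ : ∃ V : Subgroup G, V = ⨆ T : Sylow 2 G, omegaOne 2 ((T : Subgroup G) ⊓
      Subgroup.centralizer ((T : Subgroup G) : Set G)) := ⟨_, rfl⟩
  have hVn : V.Normal := by rw [hV]; exact iSup_omegaOne_center_sylow_normal 2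
  have hVel : IsElementaryAbelian 2 V := by rw [hV]; exact (S0601_aux hc).2.1
  have hZV : Z ≤ V := by
    rw [hZ, hV]
    exact le_iSup (fun T : Sylow 2 G => omegaOne 2 ((T : Subgroup G) ⊓
      Subgroup.centralizer ((T : Subgroup G) : Set G))) S
  have hVQ' : V ≤ Q ⊓ Subgroup.centralizer (Q : Set G) := by
    rw [hV, hQ]
    apply iSup_le
    intro T
    exact (omegaOne_center_sylow_le hc T).trans (omegaOne_le 2 _)
  have hVQ : V ≤ Q := hVQ'.trans inf_le_left
  have hgen : V = ⨆ T : Sylow 2 G, V ⊓ Subgroup.centralizer ((T : Subgroup G) : Set G) := by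
    apply le_antisymm
    · nth_rewrite 1 [hV]
      apply iSup_le
      intro T
      refine le_trans ?_ (le_iSup (fun T : Sylow 2 G =>
        V ⊓ Subgroup.centralizer ((T : Subgroup G) : Set G)) T)
      apply le_inf
      · rw [hV]
        exact le_iSup (fun T : Sylow 2 G => omegaOne 2 ((T : Subgroup G) ⊓
          Subgroup.centralizer ((T : Subgroup G) : Set G))) T
      · exact (omegaOne_le 2 _).trans inf_le_right
    · exact iSup_le (fun T => inf_le_left)
  have hO2 : Cfsg.pCore 2 (G ⧸ Subgroup.centralizer (V : Set G)) = ⊥ :=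
    pCore_quotient_centralizer_eq_bot V hgen
  -- Step 1: `Z ≤ A`
  have hZA : Z ≤ A := by
    have hBel : IsElementaryAbelian 2 (A ⊔ Z) := by
      rw [Subgroup.sup_eq_closure]
      apply isElementaryAbelian_closure
      · intro x hx y hy
        rcases hx with hx | hx <;> rcases hy with hy | hy
        · exact hAcomm x hx y hy
        · exact Subgroup.mem_centralizer_iff.mp (hZle hy).2 x (hAS hx)
        · exact (Subgroup.mem_centralizer_iff.mp (hZle hx).2 y (hAS hy)).symm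
        · exact isElementaryAbelian_comm hZel hx hy
      · intro x hx
        rcases hx with hx | hx
        · exact hApow x hx
        · exact hZel.2 x hx
    have hBS : A ⊔ Z ≤ S := sup_le hAS (hZle.trans inf_le_left)
    have hcard := hAmax _ hBS hBel
    have heq : A = A ⊔ Z := Subgroup.eq_of_le_of_card_ge le_sup_left hcard
    rw [heq]; exact le_sup_right
  -- Step 2: `[S, A] ≤ Z`
  have hcomm : ∀ s ∈ (S : Subgroup G), ∀ a ∈ A, ⁅s, a⁆ ∈ Z := by
    intro s hs a ha
    have haS := hAS ha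
    have hcS : ⁅s, a⁆ ∈ (S : Subgroup G) := by
      rw [commutatorElement_def]
      exact mul_mem (mul_mem (mul_mem hs haS) (inv_mem hs)) (inv_mem haS)
    have hcC : ⁅s, a⁆ ∈ Subgroup.centralizer ((S : Subgroup G) : Set G) := by
      rw [Subgroup.mem_centralizer_iff]
      intro t ht
      have h1 := hcl s hs a haS t ht
      rw [commutatorElement_def] at h1
      have h2 := mul_inv_eq_one.mp h1
      exact (mul_inv_eq_iff_eq_mul.mp h2).symm
    have ha2 : a * a = 1 := by rw [← pow_two]; exact hApow a ha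
    have hainv : a⁻¹ = a := inv_eq_of_mul_eq_one_right ha2
    obtain ⟨b, hb⟩ : ∃ b : G, b = s * a * s⁻¹ := ⟨_, rfl⟩
    have hb2 : b * b = 1 := by
      rw [hb]
      calc s * a * s⁻¹ * (s * a * s⁻¹) = s * (a * a) * s⁻¹ := by group
        _ = 1 := by rw [ha2]; group
    have hc_eq : ⁅s, a⁆ = b * a := by rw [commutatorElement_def, hainv, hb]
    have hca : a * ⁅s, a⁆ = ⁅s, a⁆ * a := Subgroup.mem_centralizer_iff.mp hcC a haS
    have h3 : a * b * a = b := by
      rw [hc_eq] at hca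
      calc a * b * a = a * (b * a) := by group
        _ = b * a * a := hca
        _ = b * (a * a) := by group
        _ = b := by rw [ha2, mul_one]
    have hc2 : ⁅s, a⁆ * ⁅s, a⁆ = 1 := by
      rw [hc_eq]
      calc b * a * (b * a) = b * (a * b * a) := by group
        _ = b * b := by rw [h3]
        _ = 1 := hb2
    rw [hZ]
    apply Subgroup.subset_closure
    exact ⟨Subgroup.mem_inf.mpr ⟨hcS, hcC⟩, by rw [pow_two]; exact hc2⟩
  -- Step 4: the offender inequality
  have hoff : Nat.card V * Nat.card ↥(A ⊓ Subgroup.centralizer (V : Set G)) ≤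
      Nat.card A * Nat.card ↥(V ⊓ Subgroup.centralizer (A : Set G)) := by
    obtain ⟨U, hU⟩ : ∃ U : Subgroup G, U = Subgroup.centralizer (V : Set G) := ⟨_, rfl⟩
    rw [← hU]
    have hBel : IsElementaryAbelian 2 ((A ⊓ U) ⊔ V) := by
      rw [Subgroup.sup_eq_closure]
      apply isElementaryAbelian_closure
      · intro x hx y hy
        rcases hx with hx | hx <;> rcases hy with hy | hy
        · exact hAcomm x (Subgroup.mem_inf.mp hx).1 y (Subgroup.mem_inf.mp hy).1
        · have h1 : x ∈ Subgroup.centralizer (V : Set G) := hU ▸ (Subgroup.mem_inf.mp hx).2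
          exact (Subgroup.mem_centralizer_iff.mp h1 y hy).symm
        · have h1 : y ∈ Subgroup.centralizer (V : Set G) := hU ▸ (Subgroup.mem_inf.mp hy).2
          exact Subgroup.mem_centralizer_iff.mp h1 x hx
        · exact isElementaryAbelian_comm hVel hx hy
      · intro x hx
        rcases hx with hx | hx
        · exact hApow x (Subgroup.mem_inf.mp hx).1
        · exact hVel.2 x hx
    have hBS : (A ⊓ U) ⊔ V ≤ S := sup_le (inf_le_left.trans hAS) (hVQ.trans hQS)
    have hcard := hAmax _ hBS hBel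
    have hformula := Cfsg.Agent.Lib.Helper1.GlaubermanRepl.card_sup_mul_card_inf_of_le_normalizer (A ⊓ U) V
      (by rw [Subgroup.normalizer_eq_top]; exact le_top)
    have hle2 : Nat.card ↥((A ⊓ U) ⊓ V) ≤ Nat.card ↥(V ⊓ Subgroup.centralizer (A : Set G)) := by
      apply Subgroup.card_le_of_le
      intro x hx
      obtain ⟨hx1, hx2⟩ := Subgroup.mem_inf.mp hx
      refine Subgroup.mem_inf.mpr ⟨hx2, ?_⟩
      rw [Subgroup.mem_centralizer_iff]
      intro a ha
      exact hAcomm a ha x (Subgroup.mem_inf.mp hx1).1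
    calc Nat.card V * Nat.card ↥(A ⊓ U) = Nat.card ↥(A ⊓ U) * Nat.card V := mul_comm _ _
      _ = Nat.card ↥((A ⊓ U) ⊔ V) * Nat.card ↥((A ⊓ U) ⊓ V) := hformula.symm
      _ ≤ Nat.card A * Nat.card ↥(V ⊓ Subgroup.centralizer (A : Set G)) :=
        Nat.mul_le_mul hcard hle2
  -- Step 5: `A` centralizes `V`
  have hAU : A ≤ Subgroup.centralizer (V : Set G) := by
    by_contra hAU
    exact hS4 (involves_s4_of_offender V hVel hO2 A hAcomm hAp hAU hoff)
  -- Step 6: the stabilizer of the chain `Q ≥ V ≥ 1`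
  obtain ⟨K, hK⟩ : ∃ K : Subgroup G,
      K = sectionKernel Q V ⊓ Subgroup.centralizer (V : Set G) := ⟨_, rfl⟩
  have hKn : K.Normal := by
    rw [hK]
    have h1 : (sectionKernel Q V).Normal := by
      unfold sectionKernel
      have h2 : (Q.map (QuotientGroup.mk' V)).Normal :=
        hQn.map _ (QuotientGroup.mk'_surjective V)
      exact Subgroup.Normal.comap inferInstance _
    infer_instance
  have hK2 : IsPGroup 2 K := by
    rintro ⟨y, hy⟩
    have hn0 : orderOf y ≠ 0 := (orderOf_pos y).ne'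
    obtain ⟨e, m, hm, hem⟩ := Nat.exists_eq_pow_mul_and_not_dvd hn0 2 (by norm_num)
    obtain ⟨x, hx⟩ : ∃ x : G, x = y ^ (2 ^ e) := ⟨_, rfl⟩
    have hxK : x ∈ K := hx ▸ K.pow_mem hy _
    have hxm : x ^ m = 1 := by rw [hx, ← pow_mul, ← hem]; exact pow_orderOf_eq_one y
    rw [hK] at hxK
    obtain ⟨hxK1, hxK2⟩ := Subgroup.mem_inf.mp hxK
    have hxQ : x ∈ Subgroup.centralizer (Q : Set G) := by
      rw [Subgroup.mem_centralizer_iff]
      intro q hq
      obtain ⟨c, hc'⟩ : ∃ c : G, c = q⁻¹ * (x * q * x⁻¹) := ⟨_, rfl⟩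
      have hcV : c ∈ V := by
        have h1 := (mem_sectionKernel_iff Q V x).mp hxK1 q hq
        have h2 := hVn.conj_mem _ h1 q⁻¹
        have e : q⁻¹ * (x * q * x⁻¹ * q⁻¹) * q⁻¹⁻¹ = c := by rw [hc']; group
        rwa [e] at h2
      have h3 : (MulAut.conj x) q = q * c := by rw [MulAut.conj_apply, hc']; group
      have h4 : (MulAut.conj x) c = c := by
        rw [MulAut.conj_apply]
        have h5 := Subgroup.mem_centralizer_iff.mp hxK2 c hcV
        rw [← h5]; group
      have h5 := aut_pow_apply_of_fixed (MulAut.conj x) q c h3 h4 m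
      rw [← map_pow, hxm, map_one, MulAut.one_apply] at h5
      have hcm : c ^ m = 1 := by
        have h6 : q * c ^ m = q * 1 := by rw [mul_one]; exact h5.symm
        exact mul_left_cancel h6
      have hc2 : c ^ 2 = 1 := hVel.2 c hcV
      have hc1 : c = 1 := by
        have h7 : orderOf c ∣ Nat.gcd 2 m :=
          Nat.dvd_gcd (orderOf_dvd_of_pow_eq_one hc2) (orderOf_dvd_of_pow_eq_one hcm)
        have h8 : Nat.gcd 2 m = 1 := (Nat.Prime.coprime_iff_not_dvd Nat.prime_two).mpr hm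
        rw [h8] at h7
        exact orderOf_eq_one_iff.mp (Nat.dvd_one.mp h7)
      rw [hc1, mul_one, MulAut.conj_apply] at h3
      calc q * x = (x * q * x⁻¹) * x := by rw [h3]
        _ = x * q := by group
    have hxQ2 : x ∈ Q := by
      rw [hQ] at hxQ ⊢
      exact hc hxQ
    obtain ⟨i, hi⟩ := hQ2 ⟨x, hxQ2⟩
    refine ⟨e + i, ?_⟩
    apply Subtype.ext
    have hi' := congrArg Subtype.val hi
    simp only [Subgroup.coe_pow, Subgroup.coe_one] at hi' ⊢
    rw [pow_add, pow_mul, ← hx]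
    exact hi'
  have hKQ : K ≤ Cfsg.pCore 2 G := le_pCore hKn hK2
  refine le_trans ?_ hKQ
  intro a ha
  rw [hK]
  refine Subgroup.mem_inf.mpr ⟨?_, hAU ha⟩
  rw [mem_sectionKernel_iff]
  intro q hq
  have h1 := hcomm q (hQS hq) a ha
  have h2 : a * q * a⁻¹ * q⁻¹ = (⁅q, a⁆)⁻¹ := by rw [commutatorElement_def]; group
  rw [h2]
  exact V.inv_mem (hZV h1)

/-- `J_e(S)` is normal in `G` under the hypotheses above. -/
theorem normalizer_thompsonSubgroupOf_eq_top [Finite G] [Group.IsSolvable G]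
    (hS4 : ¬ Cfsg.Involves (Equiv.Perm (Fin 4)) G) (hO : Cfsg.pPrimeCore 2 G = ⊥)
    (S : Sylow 2 G)
    (hcl : ∀ x ∈ (S : Subgroup G), ∀ y ∈ (S : Subgroup G), ∀ z ∈ (S : Subgroup G),
      ⁅⁅x, y⁆, z⁆ = 1) :
    Subgroup.normalizer (thompsonSubgroupOf 2 (S : Subgroup G) : Set G) = ⊤ := by
  have : Fact (Nat.Prime 2) := ⟨Nat.prime_two⟩
  have hJQ : thompsonSubgroupOf 2 (S : Subgroup G) ≤ Cfsg.pCore 2 G := by
    rw [thompsonSubgroupOf_eq_sSup]
    apply sSup_le
    intro A hA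
    exact le_pCore_of_mem_maxElAbIn hS4 hO S hcl A hA
  have h1 := normalizer_le_normalizer_thompsonSubgroupOf (p := 2) hJQ (pCore_le_sylow 2 S)
  rw [eq_top_iff]
  refine le_trans ?_ h1
  have : (Cfsg.pCore 2 G).Normal := pCore_normal 2
  rw [Subgroup.normalizer_eq_top]

/-- S2010. -/
theorem s2010 {G : Type u} [Group G] [Finite G] [Group.IsSolvable G]
    (hS4 : ¬ Cfsg.Involves (Equiv.Perm (Fin 4)) G) (S : Sylow 2 G)
    (hcl : Subgroup.lowerCentralSeries (S : Subgroup G) 2 = ⊥) :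
    Subgroup.normalizer ((Cfsg.thompsonSubgroupOf 2 (S : Subgroup G)) : Set G) ⊔
      Cfsg.pPrimeCore 2 G = ⊤ := by
  have : Fact (Nat.Prime 2) := ⟨Nat.prime_two⟩
  have hcl' : ∀ x ∈ (S : Subgroup G), ∀ y ∈ (S : Subgroup G), ∀ z ∈ (S : Subgroup G),
      ⁅⁅x, y⁆, z⁆ = 1 := by
    intro x hx y hy z hz
    have h1 : ⁅⁅x, y⁆, z⁆ ∈ Subgroup.lowerCentralSeries (S : Subgroup G) 2 := by
      rw [Subgroup.lowerCentralSeries_succ, Subgroup.lowerCentralSeries_succ,
        Subgroup.lowerCentralSeries_zero]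
      exact Subgroup.commutator_mem_commutator (Subgroup.commutator_mem_commutator hx hy) hz
    rw [hcl, Subgroup.mem_bot] at h1
    exact h1
  obtain ⟨R, hR⟩ : ∃ R : Subgroup G, R = Cfsg.pPrimeCore 2 G := ⟨_, rfl⟩
  have hRn : R.Normal := by rw [hR]; exact pPrimeCore_normal 2
  have hRc : (Nat.card R).Coprime 2 := by rw [hR]; exact pPrimeCore_card_coprime 2
  have hOq : Cfsg.pPrimeCore 2 (G ⧸ R) = ⊥ := by subst hR; exact pPrimeCore_quotient_eq_bot 2
  rw [← hR]
  have hS4q : ¬ Cfsg.Involves (Equiv.Perm (Fin 4)) (G ⧸ R) :=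
    fun h => hS4 (Cfsg.Agent.Lib.Helper2.Inv.involves_of_quotient R h)
  obtain ⟨π, hπ⟩ : ∃ π : G →* G ⧸ R, π = QuotientGroup.mk' R := ⟨_, rfl⟩
  have hπs : Function.Surjective π := by rw [hπ]; exact QuotientGroup.mk'_surjective R
  have hclq : ∀ x ∈ ((S.mapSurjective hπs : Sylow 2 (G ⧸ R)) : Subgroup (G ⧸ R)),
      ∀ y ∈ ((S.mapSurjective hπs : Sylow 2 (G ⧸ R)) : Subgroup (G ⧸ R)),
      ∀ z ∈ ((S.mapSurjective hπs : Sylow 2 (G ⧸ R)) : Subgroup (G ⧸ R)), ⁅⁅x, y⁆, z⁆ = 1 := by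
    intro x hx y hy z hz
    rw [Sylow.coe_mapSurjective] at hx hy hz
    obtain ⟨x', hx', rfl⟩ := hx
    obtain ⟨y', hy', rfl⟩ := hy
    obtain ⟨z', hz', rfl⟩ := hz
    rw [← map_commutatorElement, ← map_commutatorElement, hcl' x' hx' y' hy' z' hz', map_one]
  have hchar := normalizer_thompsonSubgroupOf_eq_top hS4q hOq (S.mapSurjective hπs) hclq
  have hdisj : (S : Subgroup G) ⊓ R = ⊥ := by
    apply Disjoint.eq_bot
    apply Subgroup.disjoint_of_coprime_natCard
    obtain ⟨k, hk⟩ := S.2.exists_card_eq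
    rw [hk]
    exact Nat.Coprime.pow_left _ hRc.symm
  have hinj : ∀ s ∈ (S : Subgroup G), π s = 1 → s = 1 := by
    intro s hs h1
    have h2 : s ∈ R := by
      rw [hπ] at h1
      exact (QuotientGroup.eq_one_iff s).mp h1
    have h3 : s ∈ (S : Subgroup G) ⊓ R := ⟨hs, h2⟩
    rw [hdisj, Subgroup.mem_bot] at h3
    exact h3
  rw [Sylow.coe_mapSurjective, thompsonSubgroupOf_map_of_injOn π _ hinj,
    Subgroup.normalizer_eq_top_iff] at hchar
  obtain ⟨J, hJ⟩ : ∃ J : Subgroup G, J = thompsonSubgroupOf 2 (S : Subgroup G) := ⟨_, rfl⟩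
  rw [← hJ] at hchar ⊢
  have hJS : J ≤ S := hJ ▸ thompsonSubgroupOf_le_self 2 _
  have hJp : IsPGroup 2 J := S.2.to_le hJS
  have hKn : (J ⊔ R).Normal := by
    have h1 : ((J.map π).comap π).Normal := Subgroup.Normal.comap hchar _
    rwa [Subgroup.comap_map_eq, hπ, QuotientGroup.ker_mk'] at h1
  rw [sup_comm]
  exact Cfsg.Agent.Lib.Helper1.ZJ.sup_normalizer_eq_top_of_sup_normal R hRc J hJp hKn

end Cfsg.Agent.Lib.Helper1.SFour
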