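import Mathlib
import Cfsg.Agent.Lib.Helper1.SFour1
import Cfsg.Agent.Lib.Helper5.S1932Defs

/-!
# Farm S1932 (owner helper5), unit H (helper1): transport of the induction hypothesis to a proper
subgroup `H ≥ S`: `J_e(S)` is normal in `H`.
-/

set_option autoImplicit false
set_option linter.unusedVariables false
set_option linter.style.longLine false
set_option maxHeartbeats 1000000

universe u

open Cfsg
open scoped commutatorElement

namespace Cfsg.Agent.Lib.Helper1.S1932H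

open Cfsg.Agent.Lib.Helper1 Cfsg.Agent.Lib.Helper5.S1932

theorem le_normalizer_of_IH {G : Type u} [Group G] [Finite G] (IH : IHyp.{u} (Nat.card G))
    (hS4 : ¬ Cfsg.Involves (Equiv.Perm (Fin 4)) G) (hO : Cfsg.pPrimeCore 2 G = ⊥)
    (hc : Subgroup.centralizer (Cfsg.pCore 2 G : Set G) ≤ Cfsg.pCore 2 G)
    (S : Sylow 2 G)
    (hcl : ∀ x ∈ (S : Subgroup G), ∀ y ∈ (S : Subgroup G), ∀ z ∈ (S : Subgroup G),
      ⁅⁅x, y⁆, z⁆ = 1)
    (H : Subgroup G) (hSH : (S : Subgroup G) ≤ H) (hH : H ≠ ⊤) :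
    H ≤ Subgroup.normalizer (thompsonSubgroupOf 2 (S : Subgroup G) : Set G) := by
  classical
  have : Fact (Nat.Prime 2) := ⟨Nat.prime_two⟩
  obtain ⟨Q, hQdef⟩ : ∃ Q : Subgroup G, Q = Cfsg.pCore 2 G := ⟨_, rfl⟩
  have hQn : Q.Normal := by rw [hQdef]; exact pCore_normal 2
  have hQp : IsPGroup 2 Q := by rw [hQdef]; exact pCore_isPGroup 2
  have hQS : Q ≤ S := by rw [hQdef]; exact pCore_le_sylow 2 S
  have hQH : Q ≤ H := hQS.trans hSH
  have hcQ : Subgroup.centralizer (Q : Set G) ≤ Q := by rw [hQdef]; exact hc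
  -- `Q' = Q` inside `↥H`
  have hQ'n : (Q.subgroupOf H).Normal := Subgroup.normal_subgroupOf
  have hQ'p : IsPGroup 2 (Q.subgroupOf H) := hQp.comap_of_injective H.subtype H.subtype_injective
  have hQ'le : Q.subgroupOf H ≤ Cfsg.pCore 2 ↥H := le_pCore hQ'n hQ'p
  -- an element of `↥H` centralising `Q'` lies in `Q'`
  have hcent : ∀ x : ↥H, (∀ q ∈ Q.subgroupOf H, q * x = x * q) → x ∈ Q.subgroupOf H := by
    intro x hx
    rw [Subgroup.mem_subgroupOf]
    apply hcQ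
    rw [Subgroup.mem_centralizer_iff]
    intro q hq
    have := hx ⟨q, hQH hq⟩ (by rw [Subgroup.mem_subgroupOf]; exact hq)
    exact congrArg Subtype.val this
  -- (a) order
  have hcard : Nat.card ↥H < Nat.card G := by
    apply lt_of_le_of_ne (Subgroup.card_le_card_group H)
    intro h
    exact hH ((Subgroup.card_eq_iff_eq_top H).mp h)
  -- (b) `S₄`-free
  have hS4' : ¬ Cfsg.Involves (Equiv.Perm (Fin 4)) ↥H := fun h =>
    hS4 (Cfsg.Agent.Lib.Helper2.Inv.involves_of_subgroup H h)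
  -- (c) `O_{2'}(H) = 1`
  have hO' : Cfsg.pPrimeCore 2 ↥H = ⊥ := by
    obtain ⟨K, hKdef⟩ : ∃ K : Subgroup ↥H, K = Cfsg.pPrimeCore 2 ↥H := ⟨_, rfl⟩
    have hKn : K.Normal := by rw [hKdef]; exact pPrimeCore_normal 2
    have hKc : (Nat.card K).Coprime 2 := by rw [hKdef]; exact pPrimeCore_card_coprime 2
    rw [← hKdef, eq_bot_iff]
    have hinf : K ⊓ Q.subgroupOf H = ⊥ := by
      apply disjoint_iff.mp
      apply Subgroup.disjoint_of_coprime_natCard
      obtain ⟨n, hn⟩ := IsPGroup.iff_card.mp hQ'p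
      rw [hn]
      exact Nat.Coprime.pow_right n hKc
    intro k hk
    have hkQ : k ∈ Q.subgroupOf H := by
      apply hcent
      intro q hq
      have h1 : k * q * k⁻¹ * q⁻¹ ∈ K ⊓ Q.subgroupOf H := by
        refine ⟨?_, ?_⟩
        · have : q * k⁻¹ * q⁻¹ ∈ K := hKn.conj_mem _ (K.inv_mem hk) q
          have h2 := K.mul_mem hk this
          have e : k * (q * k⁻¹ * q⁻¹) = k * q * k⁻¹ * q⁻¹ := by group
          rw [e] at h2; exact h2
        · exact Subgroup.mul_mem _ (hQ'n.conj_mem _ hq k) (Subgroup.inv_mem _ hq)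
      rw [hinf, Subgroup.mem_bot] at h1
      calc q * k = (k * q * k⁻¹ * q⁻¹)⁻¹ * (k * q) := by group
        _ = k * q := by rw [h1, inv_one, one_mul]
    have : k ∈ K ⊓ Q.subgroupOf H := ⟨hk, hkQ⟩
    rw [hinf] at this
    exact this
  -- (d) `C_H(O_2(H)) ≤ O_2(H)`
  have hc' : Subgroup.centralizer (Cfsg.pCore 2 ↥H : Set ↥H) ≤ Cfsg.pCore 2 ↥H := by
    intro x hx
    apply hQ'le
    apply hcent
    intro q hq
    rw [Subgroup.mem_centralizer_iff] at hx
    exact hx q (hQ'le hq)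
  -- (e) the Sylow subgroup
  obtain ⟨T, hTdef⟩ : ∃ T : Sylow 2 ↥H, T = S.subtype hSH := ⟨_, rfl⟩
  have hTcoe : (T : Subgroup ↥H) = (S : Subgroup G).subgroupOf H := by
    rw [hTdef]; exact Sylow.coe_subtype S hSH
  have hcl' : ∀ x ∈ (T : Subgroup ↥H), ∀ y ∈ (T : Subgroup ↥H), ∀ z ∈ (T : Subgroup ↥H),
      ⁅⁅x, y⁆, z⁆ = 1 := by
    intro x hx y hy z hz
    rw [hTcoe, Subgroup.mem_subgroupOf] at hx hy hz
    apply H.subtype_injective
    rw [map_commutatorElement, map_commutatorElement, map_one]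
    exact hcl _ hx _ hy _ hz
  -- (f) the induction hypothesis
  have hIH := IH ↥H hcard hS4' hO' hc' T hcl'
  have hJQ : thompsonSubgroupOf 2 (T : Subgroup ↥H) ≤ Cfsg.pCore 2 ↥H := by
    rw [thompsonSubgroupOf_eq_sSup]
    apply sSup_le
    intro A hA
    exact hIH A hA
  have hJtop : Subgroup.normalizer (thompsonSubgroupOf 2 (T : Subgroup ↥H) : Set ↥H) = ⊤ := by
    have h1 := normalizer_le_normalizer_thompsonSubgroupOf (p := 2) hJQ (pCore_le_sylow 2 T)
    rw [eq_top_iff]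
    refine le_trans ?_ h1
    have : (Cfsg.pCore 2 ↥H).Normal := pCore_normal 2
    rw [Subgroup.normalizer_eq_top]
  -- transport
  have hTmap : (T : Subgroup ↥H).map H.subtype = (S : Subgroup G) := by
    rw [hTcoe, Subgroup.subgroupOf_map_subtype]
    exact inf_eq_left.mpr hSH
  have hJmap : thompsonSubgroupOf 2 (S : Subgroup G) =
      (thompsonSubgroupOf 2 (T : Subgroup ↥H)).map H.subtype := by
    rw [← thompsonSubgroupOf_map_of_injOn H.subtype (T : Subgroup ↥H)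
      (fun s _ hs => H.subtype_injective (by rw [hs, map_one])), hTmap]
  intro h hh
  rw [hJmap, Subgroup.mem_normalizer_iff]
  have hnorm : ∀ (g : ↥H) (j : ↥H), j ∈ thompsonSubgroupOf 2 (T : Subgroup ↥H) →
      g * j * g⁻¹ ∈ thompsonSubgroupOf 2 (T : Subgroup ↥H) := by
    intro g j hj
    have hg : g ∈ Subgroup.normalizer (thompsonSubgroupOf 2 (T : Subgroup ↥H) : Set ↥H) := by
      rw [hJtop]; trivial
    exact (Subgroup.mem_normalizer_iff.mp hg j).mp hj
  intro x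
  constructor
  · rintro ⟨j, hj, rfl⟩
    exact ⟨⟨h, hh⟩ * j * (⟨h, hh⟩ : ↥H)⁻¹, hnorm _ _ hj, rfl⟩
  · rintro ⟨j, hj, hjx⟩
    refine ⟨(⟨h, hh⟩ : ↥H)⁻¹ * j * (⟨h, hh⟩ : ↥H)⁻¹⁻¹, hnorm _ _ hj, ?_⟩
    show h⁻¹ * (j : G) * h⁻¹⁻¹ = x
    have : (j : G) = h * x * h⁻¹ := hjx
    rw [this]; group

end Cfsg.Agent.Lib.Helper1.S1932H
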