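import Mathlib
import Cfsg.Prelude.Def_Perm
import Cfsg.Agent.Lib.Lead.S3A
import Cfsg.Agent.Lib.Lead.S3B
import Cfsg.Agent.Lib.Helper2.SutD
import Cfsg.Agent.Lib.Helper2.SutF

/-! Piece Z2 of S3043: a sharply 3-transitive group of degree `p^j + 1`, `p` odd, in which the
elements swapping two points invert the two-point stabiliser, is `PGL₂(p^j)`. -/
set_option autoImplicit false
set_option linter.style.haveILetI false

namespace Cfsg.Agent.Lib.Helper1.S3043

open MulAction Cfsg Cfsg.Agent.Lib.Lead Cfsg.Agent.Lib.Lead.NearFieldLib Cfsg.Agent.Lib.Lead.S3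
  Cfsg.Agent.Lib.Helper2.Sut

section Perm

variable {α : Type*} [Fintype α] [DecidableEq α] (G : Subgroup (Equiv.Perm α))

/-- the permutation group version -/
theorem sharp3_pgl_perm {p f : ℕ} (hp : p.Prime) (hf : 1 ≤ f)
    (hα : Fintype.card α = p ^ f + 1) (h3 : IsMultiplyPretransitive G α 3)
    (hsharp : ∀ x : Fin 3 ↪ α, stabilizer G x = ⊥)
    (hinv : ∀ t ∈ G, ∀ h ∈ G, ∀ a b : α, a ≠ b → t a = b → t b = a → h a = a → h b = b →
      t * h * t⁻¹ = h⁻¹) :
    ∃ (F : Type) (_ : Field F) (_ : Fintype F), Fintype.card F = p ^ f ∧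
      Nonempty (G ≃* Matrix.ProjGenLinGroup (Fin 2) F) := by
  have hf0 : f ≠ 0 := by omega
  have h1pf : 1 < p ^ f := Nat.one_lt_pow hf0 hp.one_lt
  obtain ⟨inf⟩ : Nonempty α := Fintype.card_pos_iff.mp (by omega)
  haveI h2t := restrict_two_trans G inf h3
  have hsh2 := restrict_sharp G inf hsharp
  have hcK : 2 ≤ Fintype.card (Pt inf) := by rw [card_Pt]; omega
  obtain ⟨nf, hdesc⟩ := Cfsg.Agent.S0683.result (stabRestrict G inf) hsh2 hcK
  obtain ⟨hA, hA'⟩ := aff_desc G inf hdesc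
  obtain ⟨tp, htpG, hti', ht0', hte', htt, τ, hτ, hτ0, hττ, hτ1, hmul⟩ :=
    exists_tau G inf h3 hsharp hA hA'
  have hoi : ((0 : Pt inf) : α) ≠ inf := (0 : Pt inf).2
  -- `τ a` is the inverse of `a`
  have key : ∀ a b : Pt inf, a ≠ 0 → b * a = 1 → τ a = b := by
    intro a b ha hba
    obtain ⟨g, hgG, hgi, hg⟩ := hA' a 0 ha
    have hg0 : g ((0 : Pt inf) : α) = ((0 : Pt inf) : α) := by
      rw [hg, nf_zero_mul, add_zero]
    have hconj := hinv tp htpG g hgG inf ((0 : Pt inf) : α) hoi.symm hti' ht0' hgi hg0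
    have h1 : tp * g = g⁻¹ * tp := by
      rw [← hconj]; group
    have h2 := DFunLike.congr_fun h1 ((1 : Pt inf) : α)
    rw [Equiv.Perm.mul_apply, Equiv.Perm.mul_apply, hte', hg, one_mul, add_zero,
      ← hτ a ha] at h2
    have h3' : g⁻¹ ((1 : Pt inf) : α) = ((b : Pt inf) : α) := by
      rw [Equiv.Perm.inv_eq_iff_eq, hg, hba, add_zero]
    rw [h3'] at h2
    exact Subtype.ext h2
  have hcomm : ∀ a b : Pt inf, a * b = b * a := by
    intro a b
    by_cases ha : a = 0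
    · rw [ha, nf_zero_mul, NearField.mul_zero]
    by_cases hb : b = 0
    · rw [hb, nf_zero_mul, NearField.mul_zero]
    have ha' := nfInv_ne_zero a ha
    have hb' := nfInv_ne_zero b hb
    have e1 : τ (nfInv a ha) = a := key _ a ha' (mul_nfInv a ha)
    have e2 : τ (nfInv b hb) = b := key _ b hb' (mul_nfInv b hb)
    have e3 : τ (nfInv b hb * nfInv a ha) = a * b := by
      apply key _ _ (nf_mul_ne_zero hb' ha')
      calc a * b * (nfInv b hb * nfInv a ha) = a * (b * nfInv b hb) * nfInv a ha := by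
            simp only [mul_assoc]
        _ = 1 := by rw [mul_nfInv, mul_one, mul_nfInv]
    have e4 := hmul (nfInv a ha) (nfInv b hb) ha' hb'
    rw [e1, e2, e3] at e4
    exact e4
  have hcKpf : Fintype.card (Pt inf) = p ^ f := by rw [card_Pt, hα]; omega
  letI fld : Field (Pt inf) := fieldOfNF (Pt inf) hcomm
  have hT : ∃ t ∈ G, t inf = ((0 : Pt inf) : α) ∧ t ((0 : Pt inf) : α) = inf ∧
      ∀ x : Pt inf, x ≠ 0 → t (x : α) = ((x⁻¹ : Pt inf) : α) := by
    refine ⟨tp, htpG, hti', ht0', fun x hx => ?_⟩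
    rw [← hτ x hx]
    exact congrArg Subtype.val (key x x⁻¹ hx (inv_mul_cancel₀ hx))
  obtain ⟨e⟩ := pgl_iso G inf h3 hA hA' hT
  haveI : Fact (Nat.Prime p) := ⟨hp⟩
  haveI : Fintype (GaloisField p f) := Fintype.ofFinite _
  have hcF : Fintype.card (GaloisField p f) = p ^ f := by
    rw [← Nat.card_eq_fintype_card]; exact GaloisField.card p f hf0
  let r : Pt inf ≃+* GaloisField p f := FiniteField.ringEquivOfCardEq (hcKpf.trans hcF.symm)
  exact ⟨GaloisField p f, inferInstance, inferInstance, hcF, ⟨e.trans (pglCongr r)⟩⟩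

end Perm

theorem sharp3_pgl_abstract {G Ω : Type*} [Group G] [Finite G] [MulAction G Ω] [Finite Ω]
    [FaithfulSMul G Ω] (h3 : MulAction.IsMultiplyPretransitive G Ω 3)
    (hsharp : ∀ g : G, ∀ a b c : Ω, a ≠ b → b ≠ c → a ≠ c → g • a = a → g • b = b → g • c = c → g = 1)
    {p j : ℕ} (hp : p.Prime) (hp2 : p ≠ 2) (hj : 1 ≤ j) (hΩ : Nat.card Ω = p ^ j + 1)
    (hinv : ∀ t h : G, ∀ a b : Ω, a ≠ b → t • a = b → t • b = a → h • a = a → h • b = b →
      t * h * t⁻¹ = h⁻¹) :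
    ∃ (F : Type) (_ : Field F) (_ : Fintype F), Fintype.card F = p ^ j ∧
      Nonempty (G ≃* (GL (Fin 2) F ⧸ Subgroup.center (GL (Fin 2) F))) := by
  classical
  haveI : Fintype Ω := Fintype.ofFinite Ω
  let φ : G →* Equiv.Perm Ω := MulAction.toPermHom G Ω
  have hφ : ∀ (g : G) (x : Ω), φ g x = g • x := fun g x => rfl
  have hinj : Function.Injective φ := MulAction.toPerm_injective
  have hα : Fintype.card Ω = p ^ j + 1 := by rw [← Nat.card_eq_fintype_card]; exact hΩ
  have h3' : IsMultiplyPretransitive φ.range Ω 3 := by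
    refine ⟨fun x y => ?_⟩
    obtain ⟨g, hg⟩ := h3.exists_smul_eq x y
    refine ⟨⟨φ g, ⟨g, rfl⟩⟩, ?_⟩
    ext i
    have := DFunLike.congr_fun hg i
    exact this
  have hsharp' : ∀ x : Fin 3 ↪ Ω, stabilizer φ.range x = ⊥ := by
    intro x
    rw [eq_bot_iff]
    rintro ⟨σ, g, rfl⟩ hσ
    rw [mem_stabilizer_iff] at hσ
    have hfix : ∀ i, g • x i = x i := fun i => DFunLike.congr_fun hσ i
    have hg1 : g = 1 := hsharp g (x 0) (x 1) (x 2)
      (fun h => by have := x.injective h; simp at this)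
      (fun h => by have := x.injective h; simp at this)
      (fun h => by have := x.injective h; simp at this)
      (hfix 0) (hfix 1) (hfix 2)
    rw [Subgroup.mem_bot]
    apply Subtype.ext
    show φ g = 1
    rw [hg1, map_one]
  have hinv' : ∀ t ∈ φ.range, ∀ h ∈ φ.range, ∀ a b : Ω, a ≠ b → t a = b → t b = a → h a = a →
      h b = b → t * h * t⁻¹ = h⁻¹ := by
    rintro _ ⟨t, rfl⟩ _ ⟨h, rfl⟩ a b hab h1 h2 h3 h4
    rw [← map_inv, ← map_inv, ← map_mul, ← map_mul, hinv t h a b hab h1 h2 h3 h4]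
  obtain ⟨F, iF, iF', hc, ⟨e⟩⟩ := sharp3_pgl_perm φ.range hp hj hα h3' hsharp' hinv'
  exact ⟨F, iF, iF', hc, ⟨(MonoidHom.ofInjective hinj).trans e⟩⟩

end Cfsg.Agent.Lib.Helper1.S3043
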