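import Mathlib
import Cfsg.Agent.Lib.Helper1.Mcl7
import Cfsg.Agent.Lib.Helper1.Metacyclic
import Cfsg.Agent.Lib.Helper1.MaxClassNormal2

/-! # S4079, the converse direction (internal form): a metacyclic maximal subgroup of a 3-group of
maximal class which has no cyclic subgroup of index 3 is the common two-step centralizer. -/

set_option autoImplicit false
set_option maxHeartbeats 1000000
set_option linter.unusedVariables false
set_option linter.unusedSectionVars false
set_option linter.style.longLine false
set_option linter.unusedSimpArgs false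
set_option linter.style.haveILetI false

open scoped commutatorElement Pointwise
universe u

namespace Cfsg.Agent.Lib.Helper1.S4079

open Cfsg.Agent.Lib.Helper1.Mcl
open Cfsg.Agent.Lib.Helper3.Breadth (twoStep mem_twoStep)

variable {G L : Type u} [Group G] [Finite G] [Group L] [Finite L]

/-- a maximal class metacyclic 3-group has a cyclic subgroup of index dividing 3 -/
theorem false_of_maxCl_metacyclic {k : ℕ} (hL : MaxCl 3 k L) (hmc : Cfsg.IsMetacyclic L)
    (hnc : ∀ C : Subgroup L, IsCyclic C → C.index ≠ 3) : False := by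
  haveI : Fact (Nat.Prime 3) := ⟨Nat.prime_three⟩
  obtain ⟨N, hNn, hNc, hQc⟩ := hmc
  haveI := hNn
  have hk := hL.hm
  have hexp := pow_eq_one_abelianization_of_max_class (p := 3) k hk hL.card hL.nilpotencyClass_eq
  -- commutator ≤ N
  haveI : IsCyclic (L ⧸ N) := hQc
  have hcomm : commutator L ≤ N := by
    rw [← Subgroup.Normal.quotient_commutative_iff_commutator_le]
    exact ⟨⟨fun a b => (IsCyclic.commGroup (α := L ⧸ N)).mul_comm a b⟩⟩
  -- every element of L ⧸ N has cube 1
  have hexpN : ∀ q : L ⧸ N, q ^ 3 = 1 := by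
    intro q
    obtain ⟨x, rfl⟩ := QuotientGroup.mk_surjective q
    have h1 := hexp (QuotientGroup.mk x)
    have h2 : (x ^ 3 : L) ∈ commutator L := by
      rw [← QuotientGroup.mk_pow] at h1
      exact (QuotientGroup.eq_one_iff _).mp h1
    rw [← QuotientGroup.mk_pow]
    exact (QuotientGroup.eq_one_iff _).mpr (hcomm h2)
  obtain ⟨g, hg⟩ := IsCyclic.exists_generator (α := L ⧸ N)
  have hcard : Nat.card (L ⧸ N) ∣ 3 := by
    rw [← orderOf_eq_card_of_forall_mem_zpowers hg]
    exact orderOf_dvd_of_pow_eq_one (hexpN g)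
  have hidx : N.index ∣ 3 := by rwa [Subgroup.index_eq_card]
  rcases (Nat.dvd_prime Nat.prime_three).mp hidx with h1 | h3
  · -- N = ⊤, L cyclic hence commutative: contradiction with maximal class
    have hNtop : N = ⊤ := Subgroup.index_eq_one.mp h1
    have hLc : IsCyclic L := by
      haveI := hNc
      rw [hNtop] at hNc
      exact isCyclic_of_surjective (Subgroup.topEquiv (G := L)).toMonoidHom
        (Subgroup.topEquiv (G := L)).surjective
    have hbot : commutator L = ⊥ := by
      rw [commutator_def, Subgroup.commutator_eq_bot_iff_le_centralizer]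
      intro x _
      rw [Subgroup.mem_centralizer_iff]
      intro y _
      exact (IsCyclic.commGroup (α := L)).mul_comm y x
    have hne := hL.ne_bot (i := 1) (by omega)
    apply hne
    show (⊤ : Subgroup L).lowerCentralSeries 1 = ⊥
    rw [Subgroup.top_lowerCentralSeries_one]
    exact hbot
  · exact hnc N hNc h3

/-- internal form of the converse. -/
theorem converse_internal {n : ℕ} (h : MaxCl 3 n G) (hn : 5 ≤ n) (ι : L →* G)
    (hι : Function.Injective ι) (hidx : ι.range.index = 3) [hnorm : ι.range.Normal]
    (hmc : Cfsg.IsMetacyclic L) (hnc : ∀ C : Subgroup L, IsCyclic C → C.index ≠ 3)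
    (a : G) (ha : a ∉ ι.range) :
    ∃ x : L, orderOf x = 3 ∧ a * ι x * a⁻¹ ≠ ι x := by
  haveI : Fact (Nat.Prime 3) := ⟨Nat.prime_three⟩
  have hG3 : IsPGroup 3 G := h.isPGroup
  have hL3 : IsPGroup 3 L := hG3.of_injective ι hι
  -- card L = 3 ^ (n - 1)
  have hcardM : Nat.card ι.range = Nat.card L :=
    (Nat.card_congr (MonoidHom.ofInjective hι).toEquiv).symm
  have hcardL : Nat.card L = 3 ^ (n - 1) := by
    have h1 := Subgroup.card_mul_index ι.range
    rw [hidx, h.card, hcardM] at h1
    have h2 : (3 : ℕ) ^ n = 3 ^ (n - 1) * 3 := by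
      rw [← pow_succ]; congr 1; omega
    rw [h2] at h1
    exact Nat.eq_of_mul_eq_mul_right (by norm_num) h1
  have h81 : 81 ≤ Nat.card L := by
    rw [hcardL]
    calc 81 = 3 ^ 4 := by norm_num
      _ ≤ 3 ^ (n - 1) := Nat.pow_le_pow_right (by norm_num) (by omega)
  by_cases hMG : ι.range = twoStep G 1
  · -- case `M = G₁`
    have ha1 : a ∉ twoStep G 1 := hMG ▸ ha
    have ha2 : a ∉ twoStep G (n - 3) := by
      rw [twoStep_eq n hn G h (n - 3) (by omega) (by omega)]; exact ha1
    rw [mem_twoStep] at ha2
    push Not at ha2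
    obtain ⟨g, hg, hga⟩ := ha2
    have hbot : (⊤ : Subgroup G).lowerCentralSeries (n - 3 + 2) = ⊥ := h.bot' (by omega)
    rw [hbot, Subgroup.mem_bot] at hga
    -- L is not cyclic
    have hncyc : ¬ IsCyclic L := by
      intro hc
      obtain ⟨C, hC⟩ := Sylow.exists_subgroup_card_pow_prime (G := L) 3
        (n := n - 2) (by rw [hcardL]; exact pow_dvd_pow 3 (by omega))
      have hCi : C.index = 3 := by
        have h1 := Subgroup.card_mul_index C
        rw [hC, hcardL] at h1
        have h2 : (3 : ℕ) ^ (n - 1) = 3 ^ (n - 2) * 3 := by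
          rw [← pow_succ]; congr 1; omega
        rw [h2] at h1
        exact Nat.eq_of_mul_eq_mul_left (by positivity) h1
      exact hnc C inferInstance hCi
    obtain ⟨⟨hΩc, hΩe⟩, hΩcard⟩ :=
      metacyclic_omegaOne (p := 3) (by norm_num) hL3 hmc hncyc
    set Ω : Subgroup L := Cfsg.omegaOne 3 (⊤ : Subgroup L) with hΩ
    have hΩmem : ∀ x : L, x ^ 3 = 1 → x ∈ Ω := fun x hx =>
      Subgroup.subset_closure ⟨Subgroup.mem_top x, hx⟩
    -- the image of Ω is normal in G
    have hΩn : (Ω.map ι).Normal := by
      constructor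
      intro x hx g'
      obtain ⟨w, hw, rfl⟩ := hx
      have hmem : g' * ι w * g'⁻¹ ∈ ι.range := hnorm.conj_mem _ ⟨w, rfl⟩ g'
      obtain ⟨w', hw'⟩ := hmem
      refine ⟨w', hΩmem w' ?_, hw'⟩
      apply hι
      rw [map_pow, hw', map_one, conj_pow, ← map_pow, hΩe w hw, map_one, mul_one, mul_inv_cancel]
    have hΩ'card : Nat.card (Ω.map ι) = 3 ^ 2 := by
      rw [Subgroup.card_map_of_injective hι]; exact hΩcard
    have hΩ'idx : (Ω.map ι).index = 3 ^ (n - 2) := by
      have h1 := Subgroup.card_mul_index (Ω.map ι)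
      rw [hΩ'card, h.card] at h1
      have h2 : (3 : ℕ) ^ n = 3 ^ 2 * 3 ^ (n - 2) := by
        rw [← pow_add]; congr 1; omega
      rw [h2] at h1
      exact Nat.eq_of_mul_eq_mul_left (by positivity) h1
    have hΩeq := normal_eq_lowerCentralSeries_of_max_class (p := 3) n h.card
      h.nilpotencyClass_eq (by omega) (Ω.map ι) (n - 2) (by omega) hΩ'idx
    have hidx3 : n - 2 - 1 = n - 3 := by omega
    rw [hidx3] at hΩeq
    rw [← hΩeq] at hg
    obtain ⟨w, hw, rfl⟩ := hg
    have hw1 : w ≠ 1 := by
      rintro rfl
      apply hga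
      rw [map_one, commutatorElement_one_left]
    refine ⟨w, orderOf_eq_prime (hΩe w hw) hw1, fun heq => hga ?_⟩
    rw [commutatorElement_def]
    have h1 : a * ι w = ι w * a := by
      have := congrArg (· * a) heq
      simpa [mul_assoc] using this
    rw [← h1]; group
  · -- case `M ≠ G₁`: `L` has maximal class
    exfalso
    have hi1 : (twoStep G 1).index = 3 := h.index_twoStep le_rfl (by omega)
    have hnle : ¬ ι.range ≤ twoStep G 1 := by
      intro hle
      apply hMG
      have h1 := Subgroup.relIndex_mul_index hle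
      rw [hi1, hidx] at h1
      have h2 : (ι.range).relIndex (twoStep G 1) = 1 := by omega
      exact le_antisymm hle (Subgroup.relIndex_eq_one.mp h2)
    obtain ⟨s, hsM, hsG⟩ := SetLike.not_le_iff_exists.mp hnle
    obtain ⟨s', rfl⟩ := hsM
    have hs : IsUniform n (ι s') := h.uniform_of_not_mem hn hsG
    have hcent := h.card_centralizer_le (by omega) hs
    set E : Subgroup L := Subgroup.centralizer ({s'} : Set L) with hE
    have hs'E : s' ∈ E := Subgroup.mem_centralizer_iff.mpr (fun y hy => by
      rw [Set.mem_singleton_iff] at hy; rw [hy])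
    have hEle : Nat.card E ≤ 3 ^ 2 := by
      refine le_trans ?_ hcent
      refine Nat.card_le_card_of_injective
        (fun x : E => (⟨ι x.1, ?_⟩ : Subgroup.centralizer ({ι s'} : Set G))) ?_
      · rw [Subgroup.mem_centralizer_iff]
        intro y hy
        rw [Set.mem_singleton_iff] at hy
        rw [hy, ← map_mul, ← map_mul]
        congr 1
        exact (Subgroup.mem_centralizer_iff.mp x.2) s' rfl
      · intro x y hxy
        have := congrArg Subtype.val hxy
        exact Subtype.ext (hι this)
    haveI : Nontrivial L := by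
      apply (Finite.one_lt_card_iff_nontrivial).mp; omega
    obtain ⟨k, hk⟩ := (IsPGroup.iff_card.mp (hL3.to_subgroup E))
    have hk2 : k ≤ 2 := by
      by_contra hcon
      push Not at hcon
      have : 3 ^ 3 ≤ Nat.card E := by
        rw [hk]; exact Nat.pow_le_pow_right (by norm_num) hcon
      omega
    have hkge : 2 ≤ k := by
      by_contra hcon
      push Not at hcon
      have hE3 : Nat.card E ≤ 3 := by
        rw [hk]
        calc 3 ^ k ≤ 3 ^ 1 := Nat.pow_le_pow_right (by norm_num) (by omega)
          _ = 3 := by norm_num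
      have hZle : Subgroup.center L ≤ E := by
        intro z hz
        rw [Subgroup.mem_centralizer_iff]
        intro y hy
        exact (Subgroup.mem_center_iff.mp hz y)
      haveI := hL3.center_nontrivial
      obtain ⟨j, hj⟩ := (IsPGroup.iff_card.mp (hL3.to_subgroup (Subgroup.center L)))
      have hZ3 : 3 ≤ Nat.card (Subgroup.center L) := by
        have h1 : 1 < Nat.card (Subgroup.center L) := Finite.one_lt_card
        rw [hj] at h1 ⊢
        have : j ≠ 0 := by
          rintro rfl; simp at h1
        calc 3 = 3 ^ 1 := by norm_num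
          _ ≤ 3 ^ j := Nat.pow_le_pow_right (by norm_num) (by omega)
      have hZE : Subgroup.center L = E :=
        Subgroup.eq_of_le_of_card_ge hZle (by omega)
      have hs'Z : s' ∈ Subgroup.center L := hZE ▸ hs'E
      have hEtop : E = ⊤ := by
        rw [eq_top_iff]
        intro y _
        rw [Subgroup.mem_centralizer_iff]
        intro z hz
        rw [Set.mem_singleton_iff] at hz
        rw [hz]
        exact ((Subgroup.mem_center_iff.mp hs'Z y)).symm
      have : Nat.card E = Nat.card L := by rw [hEtop]; exact Subgroup.card_top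
      omega
    have hk' : k = 2 := le_antisymm hk2 hkge
    rw [hk'] at hk
    have hab : ∀ x ∈ E, ∀ y ∈ E, x * y = y * x := by
      intro x hx y hy
      have := comm_of_card_dvd_sq (p := 3) (K := E) (by rw [hk]) ⟨x, hx⟩ ⟨y, hy⟩
      exact congrArg Subtype.val this
    have hC : Subgroup.centralizer (E : Set L) ≤ E := by
      intro x hx
      rw [Subgroup.mem_centralizer_iff]
      intro y hy
      rw [Set.mem_singleton_iff] at hy
      rw [hy]
      exact (Subgroup.mem_centralizer_iff.mp hx) s' hs'E
    have hne : E ≠ ⊤ := by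
      intro htop
      have : Nat.card E = Nat.card L := by rw [htop]; exact Subgroup.card_top
      omega
    obtain ⟨k', hk'L⟩ := maxCl_of_sc_sq hL3 E hk hab hC hne
    exact false_of_maxCl_metacyclic hk'L hmc hnc

/-- the converse direction of S4079 (with `4 ≤ m` as an extra hypothesis). -/
theorem converse {L : Type u} [Group L] [Finite L]
    (hmc : Cfsg.IsMetacyclic L) (hnc : ∀ C : Subgroup L, IsCyclic C → C.index ≠ 3)
    (a : MulAut L) (ha : orderOf a = 3) (m : ℕ) (hm4 : 4 ≤ m) (hm : Nat.card L = 3 ^ m)
    (hcl : Group.nilpotencyClass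
      (SemidirectProduct L ↥(Subgroup.zpowers a) (Subgroup.zpowers a).subtype) = m) :
    ∃ x : L, orderOf x = 3 ∧ a x ≠ x := by
  haveI : Fact (Nat.Prime 3) := ⟨Nat.prime_three⟩
  set X := SemidirectProduct L ↥(Subgroup.zpowers a) (Subgroup.zpowers a).subtype with hX
  haveI : Finite ↥(Subgroup.zpowers a) := by
    apply Nat.finite_of_card_ne_zero
    rw [Nat.card_zpowers, ha]; norm_num
  haveI : Finite X := Finite.of_equiv _ (SemidirectProduct.equivProd).symm
  have hcardX : Nat.card X = 3 ^ (m + 1) := by
    rw [Nat.card_congr SemidirectProduct.equivProd, Nat.card_prod, hm, Nat.card_zpowers, ha,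
      pow_succ]
  have hMax : MaxCl 3 (m + 1) X := maxCl_of_class (m + 1) (by omega) hcardX (by simpa using hcl)
  let ι : L →* X := SemidirectProduct.inl
  have hι : Function.Injective ι := SemidirectProduct.inl_injective
  have hker : ι.range = (SemidirectProduct.rightHom : X →* _).ker :=
    SemidirectProduct.range_inl_eq_ker_rightHom
  haveI hnorm : ι.range.Normal := by rw [hker]; infer_instance
  have hidx : ι.range.index = 3 := by
    rw [hker, Subgroup.index_ker,
      MonoidHom.range_eq_top.mpr SemidirectProduct.rightHom_surjective, Subgroup.card_top,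
      Nat.card_zpowers, ha]
  let a' : X := SemidirectProduct.inr ⟨a, Subgroup.mem_zpowers a⟩
  have ha' : a' ∉ ι.range := by
    rw [hker, MonoidHom.mem_ker]
    intro h1
    have h2 : (⟨a, Subgroup.mem_zpowers a⟩ : ↥(Subgroup.zpowers a)) = 1 := by
      rw [show a' = SemidirectProduct.inr ⟨a, Subgroup.mem_zpowers a⟩ from rfl,
        SemidirectProduct.rightHom_inr] at h1
      exact h1
    have h3 : a = 1 := congrArg Subtype.val h2
    rw [h3, orderOf_one] at ha
    omega
  obtain ⟨x, hx, hne⟩ := converse_internal hMax (by omega) ι hι hidx hmc hnc a' ha'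
  refine ⟨x, hx, fun heq => hne ?_⟩
  have h1 := SemidirectProduct.inl_aut (φ := (Subgroup.zpowers a).subtype)
    (⟨a, Subgroup.mem_zpowers a⟩ : ↥(Subgroup.zpowers a)) x
  simp only [Subgroup.coe_subtype] at h1
  rw [heq, map_inv] at h1
  exact h1.symm

end Cfsg.Agent.Lib.Helper1.S4079
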