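import Mathlib
import Cfsg.Prelude.Def_CaseTheorems
import Cfsg.Prelude.Def_Transfer
import Cfsg.Agent.Lib.Helper9.SyTE

/-!
# Farm S4402 (owner helper1): definitions.

`P ≅ Sylow₂(Sym 8) = D8 wr Z2` is coordinatised by `κ : Fin 128 → S` through helper9's table model
`TB : TabGrp (Perm (Fin 8)) 128`; the index `i = 64 t + 8 h + l` stands for `τ^t · (h, l)` with
`(h, l) ∈ D8 × D8` (`D8` numbered `0..7` by the table `d8`), `τ (h, l) τ = (l, h)`.
Named elements: `a1 = 16`, `b1 = 32`, `z1 = 24`, `a2 = 2`, `b2 = 4`, `z2 = 3`, `τ = 64`, `z = z1 z2 = 27`.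
-/

set_option autoImplicit false
set_option linter.style.longLine false

namespace Cfsg.Agent.Lib.Helper1.S4402

open Cfsg.Agent.Lib.Helper9.SyT

/-- rows of the `D8` multiplication table, packed in base 8 -/
def d8N : List ℕ := [16434824, 11789505, 14570010, 9924691, 6852524, 2207205, 4987710, 342391]

/-- the `D8` multiplication table on `0..7` -/
def d8 (h l : ℕ) : ℕ := d8N.getD h 0 / 8 ^ l % 8

/-- fast multiplication on `Fin 128` (`i = 64 t + 8 h + l`) -/
def fm (i j : Fin 128) : Fin 128 :=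
  ⟨(if j.val < 64 then
      64 * (i.val / 64) + 8 * d8 (i.val / 8 % 8) (j.val / 8 % 8) + d8 (i.val % 8) (j.val % 8)
    else
      64 * ((i.val / 64 + 1) % 2) + 8 * d8 (i.val % 8) (j.val / 8 % 8) + d8 (i.val / 8 % 8) (j.val % 8))
      % 128, Nat.mod_lt _ (by norm_num)⟩

set_option maxRecDepth 100000 in
/-- `fm` is the multiplication of helper9's table model -/
theorem m_eq_fm : ∀ i j : Fin 128, TB.m i j = fm i j := by decide +kernel

theorem e_eq : TB.e = 0 := rfl

theorem iv_eq : ∀ i : Fin 128, TB.iv i = ivb i := fun _ => rfl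

/-- the coordinatisation of `P` -/
structure Coord {S : Type*} [Group S] (P : Subgroup S) (κ : Fin 128 → S) : Prop where
  inj : Function.Injective κ
  mem : ∀ x : S, x ∈ P ↔ ∃ i, κ i = x
  mul : ∀ i j, κ i * κ j = κ (fm i j)
  one : κ 0 = 1
  inv : ∀ i, (κ i)⁻¹ = κ (ivb i)

/-- the two normal `E16` of `P`: config `false` = `V_A = ⟨a1, z1, a2, z2⟩`, config `true` = `V_B = ⟨b1, z1, b2, z2⟩` -/
def inV (c : Bool) (i : Fin 128) : Bool :=
  if c then
    decide (i.val < 64 ∧ (i.val % 8 = 0 ∨ i.val % 8 = 3 ∨ i.val % 8 = 4 ∨ i.val % 8 = 7) ∧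
      (i.val / 8 = 0 ∨ i.val / 8 = 3 ∨ i.val / 8 = 4 ∨ i.val / 8 = 7))
  else decide (i.val < 32 ∧ i.val % 8 < 4)

/-- `M = D1 × D2 = V_A V_B` -/
def inM (i : Fin 128) : Bool := decide (i.val < 64)

/-- the config elements: `v1 ∈ D1`, `w1 ∈ D1 ∖ V`, `v2 = v1^τ`, `w2 = w1^τ` -/
def iv1 (c : Bool) : Fin 128 := if c then 32 else 16
def iw1 (c : Bool) : Fin 128 := if c then 16 else 32
def iv2 (c : Bool) : Fin 128 := if c then 4 else 2
def iw2 (c : Bool) : Fin 128 := if c then 2 else 4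
def iz1 : Fin 128 := 24
def iz2 : Fin 128 := 3
def iz : Fin 128 := 27
def itau : Fin 128 := 64

end Cfsg.Agent.Lib.Helper1.S4402
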