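import Mathlib
import Cfsg.Agent.Lib.Helper1.S4402Defs

/-!
# Farm S4402, unit U-MODEL (helper1): the coordinatisation `κ : Fin 128 → S` of `P ≅ Sylow₂(Sym 8)`.
-/

set_option autoImplicit false
set_option linter.style.longLine false

namespace Cfsg.Agent.Lib.Helper1.S4402

open Cfsg.Agent.Lib.Helper9.SyT

theorem exists_coord {S : Type*} [Group S] (P : Subgroup S)
    (hP : ∃ T : Sylow 2 (Equiv.Perm (Fin 8)), Nonempty (↥P ≃* ↥(T : Subgroup (Equiv.Perm (Fin 8))))) :
    ∃ κ : Fin 128 → S, Coord P κ := by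
  obtain ⟨T, ⟨e⟩⟩ := hP
  have : Fact (Nat.Prime 2) := ⟨Nat.prime_two⟩
  obtain ⟨e2⟩ := sylow_iso fact_S8 TB.sub (by rw [TB.card_sub]; norm_num) T
  obtain ⟨E, hE⟩ : ∃ E : ↥TB.sub ≃* ↥P, E = (e.trans e2).symm := ⟨_, rfl⟩
  refine ⟨fun i => (E (TB.par i) : S), ?_⟩
  constructor
  · intro i j hij
    exact TB.par.injective (E.injective (Subtype.ext hij))
  · intro x
    constructor
    · intro hx
      refine ⟨TB.par.symm (E.symm ⟨x, hx⟩), ?_⟩
      simp
    · rintro ⟨i, rfl⟩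
      exact (E (TB.par i)).2
  · intro i j
    rw [← m_eq_fm, TB.par_mul, map_mul]
    rfl
  · have h1 : TB.par 0 = 1 := by
      apply Subtype.ext
      rw [TB.par_apply]
      exact TB.he
    show ((E (TB.par 0) : ↥P) : S) = 1
    rw [h1, map_one]
    rfl
  · intro i
    have h1 : (TB.par i)⁻¹ = TB.par (ivb i) := by
      apply Subtype.ext
      rw [Subgroup.coe_inv, TB.par_apply, TB.par_apply]
      exact TB.inv_eq i
    show ((E (TB.par i) : ↥P) : S)⁻¹ = ((E (TB.par (ivb i)) : ↥P) : S)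
    rw [← h1, map_inv]
    rfl

end Cfsg.Agent.Lib.Helper1.S4402
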