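import Mathlib
import Cfsg.Agent.Lib.Helper1.S4402Model

/-!
# Farm S4402 (owner helper1): unit signatures.  NEVER import this file.
-/

set_option autoImplicit false
set_option linter.style.longLine false

namespace Cfsg.Agent.Lib.Helper1.S4402.Stubs

open Cfsg.Agent.Lib.Helper9.SyT Cfsg.Agent.Lib.Helper1.S4402

variable {S : Type*} [Group S] [Finite S] {P : Subgroup S} {κ : Fin 128 → S}

/-- **U-P7**: the normal elementary abelian subgroups of order 16 of `P` are `V_A`, `V_B`.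
(Table fact: `{i | fm i i = 0 ∧ i commutes with all its conjugates}` ⊆ `V_A ∪ V_B`; a subgroup inside the union of two subgroups
lies in one of them; cardinality.) -/
theorem normal_E16 (hκ : Coord P κ) (V : Subgroup S) (hVP : V ≤ P)
    (hVn : ∀ g ∈ P, ∀ v ∈ V, g * v * g⁻¹ ∈ V) (hVe : Cfsg.IsElementaryAbelian 2 V) (hV16 : Nat.card V = 16) :
    ∃ c : Bool, ∀ x : S, x ∈ V ↔ ∃ i, inV c i = true ∧ κ i = x := by
  sorry

/-- **U-A** (STEP A): `C_S(V_c) = V_c`. -/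
theorem stepA (h2 : IsPGroup 2 S) (hr : Cfsg.SectionalPRankLE 2 4 S) (hκ : Coord P κ) (c : Bool)
    (x : S) (hx : ∀ i, inV c i = true → x * κ i = κ i * x) : ∃ i, inV c i = true ∧ κ i = x := by
  sorry

/-- **U-B** (STEP B), of-form on STEP A: `N_S(V_c) = P`. -/
theorem stepB (h2 : IsPGroup 2 S) (hr : Cfsg.SectionalPRankLE 2 4 S) (hκ : Coord P κ) (c : Bool)
    (hA : ∀ x : S, (∀ i, inV c i = true → x * κ i = κ i * x) → ∃ i, inV c i = true ∧ κ i = x)
    (g : S) (hg : ∀ i, inV c i = true → ∃ j, inV c j = true ∧ g * κ i * g⁻¹ = κ j) : g ∈ P := by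
  sorry

/-- **U-1** (conclusion (1)), of-form on STEP A for one config. -/
theorem center_eq (h2 : IsPGroup 2 S) (hκ : Coord P κ)
    (hA : ∀ x : S, (∀ i, inV false i = true → x * κ i = κ i * x) → ∃ i, inV false i = true ∧ κ i = x) :
    Subgroup.center S = (Subgroup.center ↥P).map P.subtype ∧ Nat.card ↥(Subgroup.center S) = 2 ∧
      ∀ x : S, x ∈ Subgroup.center S ↔ x = 1 ∨ x = κ iz := by
  sorry

/-- **U-2** (conclusion (2)), of-form on P7 and STEP B: `|N_S(P) : P| = 2` and the elements of `N_S(P) ∖ P` swap `V_A`, `V_B`. -/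
theorem relIndex_normalizer (h2 : IsPGroup 2 S) (hκ : Coord P κ) (hPlt : P ≠ ⊤)
    (hP7 : ∀ V : Subgroup S, V ≤ P → (∀ g ∈ P, ∀ v ∈ V, g * v * g⁻¹ ∈ V) → Cfsg.IsElementaryAbelian 2 V →
      Nat.card V = 16 → ∃ c : Bool, ∀ x : S, x ∈ V ↔ ∃ i, inV c i = true ∧ κ i = x)
    (hB : ∀ (c : Bool) (g : S), (∀ i, inV c i = true → ∃ j, inV c j = true ∧ g * κ i * g⁻¹ = κ j) → g ∈ P) :
    P.relIndex (Subgroup.normalizer (P : Set S)) = 2 ∧
      ∀ n ∈ Subgroup.normalizer (P : Set S), n ∉ P → ∀ (c : Bool) (i : Fin 128), inV c i = true →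
        ∃ j, inV (!c) j = true ∧ n * κ i * n⁻¹ = κ j := by
  sorry

/-- **U-3a**: pure Mathlib plumbing: a group of order `128 |Z|` acting on 8 points with kernel exactly `Z`. -/
theorem sylow_of_action {N : Type*} [Group N] [Finite N] (Z : Subgroup N) [Z.Normal] {Ω : Type*} [Fintype Ω]
    [MulAction N Ω] (hΩ : Fintype.card Ω = 8) (hker : ∀ n : N, (∀ ω : Ω, n • ω = ω) ↔ n ∈ Z)
    (hcard : Nat.card N = 128 * Nat.card Z) :
    ∃ T : Sylow 2 (Equiv.Perm (Fin 8)), Nonempty (N ⧸ Z ≃* ↥(T : Subgroup (Equiv.Perm (Fin 8)))) := by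
  sorry

/-- **U-3b** (conclusion (3)), of-form: `N_S(P)/Z(S) ≅ Sylow₂(Sym 8)` via conjugation on the 8 conjugates of `τ`. -/
theorem quotient_iso (h2 : IsPGroup 2 S) (hκ : Coord P κ)
    (hcen : ∀ x : S, x ∈ Subgroup.center S ↔ x = 1 ∨ x = κ iz)
    (hidx : P.relIndex (Subgroup.normalizer (P : Set S)) = 2)
    (hswap : ∀ n ∈ Subgroup.normalizer (P : Set S), n ∉ P → ∀ (c : Bool) (i : Fin 128), inV c i = true →
        ∃ j, inV (!c) j = true ∧ n * κ i * n⁻¹ = κ j) :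
    ∃ (_ : ((Subgroup.center S).subgroupOf (Subgroup.normalizer (P : Set S))).Normal)
      (T : Sylow 2 (Equiv.Perm (Fin 8))),
      Nonempty (↥(Subgroup.normalizer (P : Set S)) ⧸
        (Subgroup.center S).subgroupOf (Subgroup.normalizer (P : Set S)) ≃*
          ↥(T : Subgroup (Equiv.Perm (Fin 8)))) := by
  sorry

/-- **U-A2** (core of STEP A): no `cc ∈ C_S(V_c) ∖ V_c` with `cc² ∈ V_c` and `[P, cc] ⊆ V_c`.
(`cc² = z`; `e_x := x cc x⁻¹ cc⁻¹`; `e_{w1} ∈ C_V(w1)`, `e_{w2} ∈ C_V(w2)`, `[w1,w2] = 1` ⇒ both in `L = ⟨z1,z2⟩`;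
`K = ⟨V, cc, w1, w2⟩`, `K/L = E32`: `Helper5.GH7.false_of_gen_section`.) -/
theorem stepA_core (hr : Cfsg.SectionalPRankLE 2 4 S) (hκ : Coord P κ) (c : Bool) (cc : S)
    (hcen : ∀ i, inV c i = true → cc * κ i = κ i * cc) (hnot : ¬ ∃ i, inV c i = true ∧ κ i = cc)
    (hsq : ∃ i, inV c i = true ∧ κ i = cc * cc)
    (hP : ∀ p ∈ P, ∃ i, inV c i = true ∧ κ i = p * cc * p⁻¹ * cc⁻¹) : False := by
  sorry

/-- **U-A1** (reduction of STEP A to its core; `p`-group fixed point argument on `C_S(V)/V` under `P`). -/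
theorem stepA_of_core (h2 : IsPGroup 2 S) (hκ : Coord P κ) (c : Bool)
    (hcore : ∀ cc : S, (∀ i, inV c i = true → cc * κ i = κ i * cc) → (¬ ∃ i, inV c i = true ∧ κ i = cc) →
      (∃ i, inV c i = true ∧ κ i = cc * cc) →
      (∀ p ∈ P, ∃ i, inV c i = true ∧ κ i = p * cc * p⁻¹ * cc⁻¹) → False)
    (x : S) (hx : ∀ i, inV c i = true → x * κ i = κ i * x) : ∃ i, inV c i = true ∧ κ i = x := by
  sorry

/-- **U-B2** (core of STEP B): no `g ∈ N_S(P) ∖ P` normalises `V_c`. -/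
theorem stepB_core (hr : Cfsg.SectionalPRankLE 2 4 S) (hκ : Coord P κ) (c : Bool)
    (hA : ∀ x : S, (∀ i, inV c i = true → x * κ i = κ i * x) → ∃ i, inV c i = true ∧ κ i = x)
    (g : S) (hgP : g ∉ P) (hgN : ∀ i, ∃ j, g * κ i * g⁻¹ = κ j)
    (hg : ∀ i, inV c i = true → ∃ j, inV c j = true ∧ g * κ i * g⁻¹ = κ j) : False := by
  sorry

/-- **U-B1** (reduction of STEP B to its core; normaliser condition inside `N_S(V_c)`). -/
theorem stepB_of_core (h2 : IsPGroup 2 S) (hκ : Coord P κ) (c : Bool)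
    (hcore : ∀ g : S, g ∉ P → (∀ i, ∃ j, g * κ i * g⁻¹ = κ j) →
      (∀ i, inV c i = true → ∃ j, inV c j = true ∧ g * κ i * g⁻¹ = κ j) → False)
    (g : S) (hg : ∀ i, inV c i = true → ∃ j, inV c j = true ∧ g * κ i * g⁻¹ = κ j) : g ∈ P := by
  sorry

end Cfsg.Agent.Lib.Helper1.S4402.Stubs
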