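import Mathlib
import Cfsg.Agent.Lib.Helper1.SLQ8

set_option autoImplicit false
set_option maxHeartbeats 4000000
set_option linter.unusedVariables false
set_option linter.unusedSectionVars false
set_option linter.deprecated false
set_option linter.style.haveILetI false
set_option linter.unnecessarySimpa false
set_option linter.unusedSimpArgs false

namespace Cfsg.Agent.Lib.Helper1.SLQ

universe u

/-- `SL₂(pⁿ)` acting faithfully on an elementary abelian `p`-group `V`: every nontrivial
`p`-element `a` has `|V : C_V(a)| ≥ pⁿ`. -/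
theorem sl2_bound {G : Type u} [Group G] [Finite G] {p : ℕ} [Fact p.Prime] (V H : Subgroup G)
    (hVc : IsMulCommutative V) (hVp : ∀ v ∈ V, v ^ p = 1)
    (hHV : H ≤ Subgroup.normalizer (V : Set G))
    (hf : H ⊓ Subgroup.centralizer (V : Set G) = ⊥)
    {F : Type*} [Field F] [Fintype F] (n : ℕ) (hF : Fintype.card F = p ^ n)
    (e : ↥H ≃* Matrix.SpecialLinearGroup (Fin 2) F) (S : Sylow p ↥H) (a : G)
    (ha : a ∈ (S : Subgroup ↥H).map H.subtype) (ha1 : a ≠ 1) :
    p ^ n ≤ (V ⊓ Subgroup.centralizer ({a} : Set G)).relIndex V := by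
  have hp : p.Prime := Fact.out
  obtain ⟨s, hsS, rfl⟩ := Subgroup.mem_map.1 ha
  have hs1 : s ≠ 1 := by
    rintro rfl
    exact ha1 (by simp)
  rw [Subgroup.inf_relIndex_left]
  show p ^ n ≤ (Subgroup.centralizer ({(s : G)} : Set G)).relIndex V
  have hVpg : IsPGroup p V := by
    intro v
    refine ⟨1, ?_⟩
    apply Subtype.ext
    rw [pow_one, Subgroup.coe_pow, Subgroup.coe_one]
    exact hVp v v.2
  have hXne : ¬ V ≤ Subgroup.centralizer ({(s : G)} : Set G) :=
    not_le_centralizer_of_faithful hf s hs1
  rcases Nat.lt_or_ge n 2 with hn | hn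
  · obtain ⟨j, hj⟩ := exists_relIndex_eq_pow V hVpg (Subgroup.centralizer ({(s : G)} : Set G))
    have hj0 : j ≠ 0 := by
      rintro rfl
      rw [pow_zero, Subgroup.relIndex_eq_one] at hj
      exact hXne hj
    rw [hj]
    exact Nat.pow_le_pow_right hp.pos (by omega)
  · apply le_of_pow_two_mul_le
    haveI : CharP F p := charP_of_card_pow hp (by omega) hF
    have hs : ∃ k : ℕ, s ^ (p ^ k) = 1 := by
      obtain ⟨k, hk⟩ := S.isPGroup' ⟨s, hsS⟩
      refine ⟨k, ?_⟩
      have := congrArg Subtype.val hk
      simpa using this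
    have hcardH : Nat.card ↥H = p ^ n * (p ^ (2 * n) - 1) := by
      rw [Nat.card_congr e.toEquiv, Cfsg.Agent.Lib.Helper4.card_SL2, hF, ← pow_mul, mul_comm n 2]
    have hq4 : 4 ≤ Nat.card F := by
      rw [Nat.card_eq_fintype_card, hF]
      calc 4 = 2 ^ 2 := rfl
        _ ≤ p ^ 2 := Nat.pow_le_pow_left hp.two_le 2
        _ ≤ p ^ n := Nat.pow_le_pow_right hp.pos hn
    have hpow1 : p ^ (2 * n) = (p ^ (2 * n) - 1) + 1 := by
      have := Nat.one_le_pow (2 * n) p hp.pos
      omega
    by_cases hp2 : p = 2
    · subst hp2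
      have hs2 : e s * e s = 1 := by
        obtain ⟨k, hk⟩ := hs
        have hMpow : (e s) ^ (2 ^ k) = 1 := by rw [← map_pow, hk, map_one]
        have hMpow' : ((e s : Matrix.SpecialLinearGroup (Fin 2) F) : Matrix (Fin 2) (Fin 2) F) ^ (2 ^ k) = 1 := by
          have := congrArg (fun M : Matrix.SpecialLinearGroup (Fin 2) F => (M : Matrix (Fin 2) (Fin 2) F)) hMpow
          simpa using this
        have hN := sub_one_mul_self 2 _ k hMpow'
        have htr := trace_eq_two_of_unipotent (e s) hN
        apply mul_self_eq_one_of_trace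
        rw [htr]
        exact two_eq_zero'
      by_cases hn3 : n = 3
      · subst hn3
        obtain ⟨Y, hY⟩ := exists_order_nine (F := F) (by rw [hF]; norm_num)
        have hyo : orderOf (e.symm Y) = 9 := by
          rw [← hY]
          exact MulEquiv.orderOf_eq e.symm Y
        have hy3 : e ((e.symm Y) ^ 3) * e ((e.symm Y) ^ 3) ≠ 1 := by
          intro h
          have h6 : (e.symm Y) ^ 6 = 1 := by
            apply e.injective
            rw [map_one, ← h, ← map_mul, ← pow_add]
          have := orderOf_dvd_of_pow_eq_one h6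
          rw [hyo] at this
          omega
        have h1 := char2_core V H hHV e s ((e.symm Y) ^ 3) hs2 hs1 hy3
        have hy31 : (e.symm Y) ^ 3 ≠ 1 := by
          intro h
          have := orderOf_dvd_of_pow_eq_one h
          rw [hyo] at this
          omega
        have hfa := not_le_centralizer_of_faithful hf ((e.symm Y) ^ 3) hy31
        rw [Subgroup.coe_pow] at hfa h1
        have h2 := nine_le_relIndex V hVpg (y := ((e.symm Y : ↥H) : G))
          (by rw [Subgroup.orderOf_coe]; exact hyo) (hHV (e.symm Y).2) hfa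
        calc 2 ^ (2 * 3) = 2 ^ 6 := by norm_num
          _ ≤ _ := h2
          _ ≤ _ := h1
      · obtain ⟨r, hr, hrd, hppd⟩ := Cfsg.Agent.Lib.Helper2.Zsig.zsigmondy 2 (2 * n) (by norm_num)
          (by omega) (by omega) (by omega)
        have hrp : r ≠ 2 := by
          rintro rfl
          have h1 : (2 : ℕ) ∣ 2 ^ (2 * n) := dvd_pow_self 2 (by omega)
          rw [hpow1] at h1
          have := (Nat.dvd_add_right hrd).1 h1
          omega
        haveI : Fact r.Prime := ⟨hr⟩
        obtain ⟨y, hy⟩ := exists_prime_orderOf_dvd_card' (G := ↥H) r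
          (by rw [hcardH]; exact Dvd.dvd.mul_left hrd _)
        have hy1 : y ≠ 1 := by
          rintro rfl
          rw [orderOf_one] at hy
          exact hr.one_lt.ne hy
        have hy2 : e y * e y ≠ 1 := by
          intro h
          have h2 : y * y = 1 := by
            apply e.injective
            rw [map_mul, map_one]
            exact h
          have h3 : orderOf y ∣ 2 := orderOf_dvd_of_pow_eq_one (by rw [pow_two]; exact h2)
          rw [hy] at h3
          exact hrp ((Nat.prime_dvd_prime_iff_eq hr Nat.prime_two).1 h3)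
        have h1 := char2_core V H hHV e s y hs2 hs1 hy2
        have h2 := ppd_le_relIndex V hVpg hr (by rw [Subgroup.orderOf_coe]; exact hy) (hHV y.2)
          (not_le_centralizer_of_faithful hf y hy1) hrp (2 * n) hppd
        exact le_trans h2 h1
    · obtain ⟨r, hr, hrd, hppd⟩ := Cfsg.Agent.Lib.Helper2.Zsig.zsigmondy p (2 * n) hp.one_lt
        (by omega) (by rintro ⟨h, _⟩; exact hp2 h) (by rintro ⟨h, _⟩; omega)
      have hrp : r ≠ p := by
        rintro rfl
        have h1 : r ∣ r ^ (2 * n) := dvd_pow_self r (by omega)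
        rw [hpow1] at h1
        have := (Nat.dvd_add_right hrd).1 h1
        have := Nat.le_of_dvd (by norm_num) this
        have := hr.two_le
        omega
      have hr2 : r ≠ 2 := by
        rintro rfl
        apply hppd 1 (by norm_num) (by omega)
        rw [pow_one]
        rcases hp.eq_two_or_odd' with h | h
        · exact absurd h hp2
        · obtain ⟨k, hk⟩ := h
          exact ⟨k, by omega⟩
      haveI : Fact r.Prime := ⟨hr⟩
      obtain ⟨y, hy⟩ := exists_prime_orderOf_dvd_card' (G := ↥H) r
        (by rw [hcardH]; exact Dvd.dvd.mul_left hrd _)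
      exact odd_core V H hVc hVp hHV hf hp2 hq4 e s hs hs1 y hr hr2 hy hrp (2 * n) hppd

end Cfsg.Agent.Lib.Helper1.SLQ
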