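import Mathlib
import Cfsg.Agent.Lib.Helper1.SM3b

/-!
Schur multiplier of the Suzuki groups, part c: step 3 and the core theorem.
-/

set_option autoImplicit false
set_option maxHeartbeats 4000000
set_option linter.unusedVariables false
set_option linter.unusedSectionVars false
set_option linter.style.longLine false
set_option linter.unusedSimpArgs false

namespace Cfsg.Agent.Lib.Helper1.SM3

open Cfsg.Agent.Lib.Helper1 Cfsg.Agent.Lib.Helper1.SM2 Cfsg.Agent.Lib.Helper4.Stem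
open scoped commutatorElement IsMulCommutative

section core

variable {Γ G : Type*} [Group Γ] [Group G] {F : Type*} [Field F]

namespace SuzSetup

variable {σ : Γ →* G} {θ : F → F} {u : F → F → G} {h : Fˣ →* G} {f : F → F → Γ}

theorem u_comm (S : SuzSetup σ θ u h f) (a b c d : F) :
    ⁅u a b, u c d⁆ = u 0 (θ a * c - θ c * a) := by
  have hxy : u a b * u c d = u 0 (θ a * c - θ c * a) * (u c d * u a b) := by
    rw [S.u_mul, S.u_mul, S.u_mul, S.θ_zero, zero_mul, add_zero, zero_add]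
    congr 1
    · exact add_comm a c
    · ring
  rw [commutatorElement_def, hxy]
  group

/-- the preimage of the centre of `U` -/
def Wt (S : SuzSetup σ θ u h f) : Subgroup Γ where
  carrier := {x | ∃ b, σ x = u 0 b}
  one_mem' := ⟨0, by rw [map_one, S.u_zero_zero]⟩
  mul_mem' := by
    rintro x y ⟨b, hb⟩ ⟨b', hb'⟩
    exact ⟨b + b', by rw [map_mul, hb, hb', S.u_zero_mul]⟩
  inv_mem' := by
    rintro x ⟨b, hb⟩
    refine ⟨-b, ?_⟩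
    rw [map_inv, hb]
    apply inv_eq_of_mul_eq_one_right
    rw [S.u_zero_mul, add_neg_cancel, S.u_zero_zero]

theorem mem_Wt (S : SuzSetup σ θ u h f) {x : Γ} : x ∈ S.Wt ↔ ∃ b, σ x = u 0 b := Iff.rfl

theorem cen_gen (S : SuzSetup σ θ u h f) (hcen : ∀ a d b, ⁅f a d, f 0 b⁆ = 1) {x y : Γ} {a d b : F}
    (hx : σ x = u a d) (hy : σ y = u 0 b) : ⁅x, y⁆ = 1 := by
  rw [S.comm_eq (x' := f a d) (y' := f 0 b) (by rw [hx, S.hf]) (by rw [hy, S.hf])]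
  exact hcen a d b

theorem isMulCommutative_Wt (S : SuzSetup σ θ u h f) (hW : ∀ b b', ⁅f 0 b, f 0 b'⁆ = 1) :
    IsMulCommutative S.Wt := by
  refine ⟨⟨fun x y => ?_⟩⟩
  obtain ⟨b, hb⟩ := x.2
  obtain ⟨b', hb'⟩ := y.2
  have h1 : ⁅(x : Γ), (y : Γ)⁆ = 1 := by
    rw [S.comm_eq (x' := f 0 b) (y' := f 0 b') (by rw [hb, S.hf]) (by rw [hb', S.hf])]
    exact hW b b'
  rw [commutatorElement_eq_one_iff_commute] at h1
  exact Subtype.ext h1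

/-- commutators of elements over `U` only depend on the first coordinates -/
theorem comm_indep (S : SuzSetup σ θ u h f) (hcen : ∀ a d b, ⁅f a d, f 0 b⁆ = 1) {x y : Γ}
    {a d a' d' : F} (hx : σ x = u a d) (hy : σ y = u a' d') : ⁅x, y⁆ = ⁅f a 0, f a' 0⁆ := by
  have e1 : ⁅x, y⁆ = ⁅f a 0 * f 0 d, f a' 0 * f 0 d'⁆ := by
    apply S.comm_eq
    · rw [hx, map_mul, S.hf, S.hf, S.u_split]
    · rw [hy, map_mul, S.hf, S.hf, S.u_split]
  have hy' : σ (f a' 0 * f 0 d') = u a' d' := by rw [map_mul, S.hf, S.hf, S.u_split]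
  rw [e1, comm_mul_left_of_comm _ _ _
    (comm_symm_one (S.cen_gen hcen hy' (S.hf 0 d))),
    comm_mul_right_of_comm _ _ _ (S.cen_gen hcen (S.hf a 0) (S.hf 0 d'))]

theorem comm_mem_Wt (S : SuzSetup σ θ u h f) {x y : Γ} {a d a' d' : F} (hx : σ x = u a d)
    (hy : σ y = u a' d') : ⁅x, y⁆ ∈ S.Wt :=
  ⟨θ a * a' - θ a' * a, by rw [map_commutatorElement, hx, hy, S.u_comm]⟩

/-- Step 3: all commutators of the preimage of `U` lie in `⁅W̃, A⁆` -/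
theorem step3 (S : SuzSetup σ θ u h f) [Fintype F] (h2 : (2 : F) = 0) (hq : 8 ≤ Fintype.card F)
    (hθs : ∀ l : F, l ≠ 0 → ∃ z : Fˣ, θ z = l)
    (hW : ∀ b b', ⁅f 0 b, f 0 b'⁆ = 1) (hcen : ∀ a d b, ⁅f a d, f 0 b⁆ = 1)
    (A : Subgroup Γ) (hA : ∀ z : Fˣ, ∃ τ ∈ A, σ τ = h z) :
    ∀ a a', ⁅f a 0, f a' 0⁆ ∈ ⁅S.Wt, A⁆ := by
  haveI hWc : IsMulCommutative S.Wt := S.isMulCommutative_Wt hW
  have hcW : ∀ a a', ⁅f a 0, f a' 0⁆ ∈ S.Wt := fun a a' => S.comm_mem_Wt (S.hf a 0) (S.hf a' 0)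
  -- multiplicativity in the first variable
  have hmulL : ∀ a₁ a₂ a', ⁅f (a₁ + a₂) 0, f a' 0⁆ = ⁅f a₁ 0, f a' 0⁆ * ⁅f a₂ 0, f a' 0⁆ := by
    intro a₁ a₂ a'
    have e1 : ⁅f (a₁ + a₂) 0, f a' 0⁆ = ⁅f a₁ 0 * f a₂ 0, f a' 0⁆ := by
      have hx : σ (f a₁ 0 * f a₂ 0) = u (a₁ + a₂) (θ a₁ * a₂) := by
        rw [map_mul, S.hf, S.hf, S.u_mul, add_zero, zero_add]
      rw [S.comm_indep hcen hx (S.hf a' 0)]
    have e2 : ⁅f a₁ 0 * f a₂ 0, f a' 0⁆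
        = f a₁ 0 * ⁅f a₂ 0, f a' 0⁆ * (f a₁ 0)⁻¹ * ⁅f a₁ 0, f a' 0⁆ := by
      simp only [commutatorElement_def]; group
    obtain ⟨b, hb⟩ := hcW a₂ a'
    have e3 : f a₁ 0 * ⁅f a₂ 0, f a' 0⁆ * (f a₁ 0)⁻¹ = ⁅f a₂ 0, f a' 0⁆ := by
      have := S.cen_gen hcen (S.hf a₁ 0) hb
      rw [commutatorElement_def] at this
      calc f a₁ 0 * ⁅f a₂ 0, f a' 0⁆ * (f a₁ 0)⁻¹
          = (f a₁ 0 * ⁅f a₂ 0, f a' 0⁆ * (f a₁ 0)⁻¹ * ⁅f a₂ 0, f a' 0⁆⁻¹) * ⁅f a₂ 0, f a' 0⁆ := by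
            group
        _ = ⁅f a₂ 0, f a' 0⁆ := by rw [this, one_mul]
    rw [e1, e2, e3]
    have := hWc.is_comm.comm ⟨_, hcW a₂ a'⟩ ⟨_, hcW a₁ a'⟩
    exact congrArg Subtype.val this
  have hanti : ∀ a a', ⁅f a 0, f a' 0⁆ = (⁅f a' 0, f a 0⁆)⁻¹ := fun a a' =>
    (commutatorElement_inv _ _).symm
  have hmulR : ∀ a a₁ a₂, ⁅f a 0, f (a₁ + a₂) 0⁆ = ⁅f a 0, f a₁ 0⁆ * ⁅f a 0, f a₂ 0⁆ := by
    intro a a₁ a₂
    rw [hanti, hmulL, mul_inv_rev, ← hanti, ← hanti]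
    have := hWc.is_comm.comm ⟨_, hcW a a₂⟩ ⟨_, hcW a a₁⟩
    exact congrArg Subtype.val this
  -- the quotient
  let M : Subgroup S.Wt := (⁅S.Wt, A⁆).subgroupOf S.Wt
  haveI : M.Normal := inferInstance
  obtain ⟨x, y, hx, hy, hxy, hτ⟩ := exists_param_even h2 hq
  have key : ∀ a a', (QuotientGroup.mk (⟨⁅f a 0, f a' 0⁆, hcW a a'⟩ : S.Wt) : S.Wt ⧸ M) = 1 := by
    apply biadd_trivial_grp
      (fun a a' => (QuotientGroup.mk (⟨⁅f a 0, f a' 0⁆, hcW a a'⟩ : S.Wt) : S.Wt ⧸ M)) _ _ _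
      x y hx hy hxy hτ
    · intro a₁ a₂ a'
      show (QuotientGroup.mk _ : S.Wt ⧸ M) = QuotientGroup.mk _ * QuotientGroup.mk _
      rw [← QuotientGroup.mk_mul]
      congr 1
      exact Subtype.ext (hmulL a₁ a₂ a')
    · intro a a₁ a₂
      show (QuotientGroup.mk _ : S.Wt ⧸ M) = QuotientGroup.mk _ * QuotientGroup.mk _
      rw [← QuotientGroup.mk_mul]
      congr 1
      exact Subtype.ext (hmulR a a₁ a₂)
    · intro s a a' hs
      show (QuotientGroup.mk _ : S.Wt ⧸ M) = QuotientGroup.mk _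
      obtain ⟨z, hz⟩ := hθs (s ^ 2) (pow_ne_zero 2 hs)
      obtain ⟨τ, hτA, hτ⟩ := hA z
      have e1 : ⁅f (s ^ 2 * a) 0, f (s ^ 2 * a') 0⁆ = τ * ⁅f a 0, f a' 0⁆ * τ⁻¹ := by
        rw [← comm_conj]
        have hx1 : σ (τ * f a 0 * τ⁻¹) = u (s ^ 2 * a) 0 := by
          rw [map_mul, map_mul, map_inv, hτ, S.hf, S.h_conj_first, hz]
        have hx2 : σ (τ * f a' 0 * τ⁻¹) = u (s ^ 2 * a') 0 := by
          rw [map_mul, map_mul, map_inv, hτ, S.hf, S.h_conj_first, hz]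
        exact (S.comm_indep hcen hx1 hx2).symm
      rw [QuotientGroup.eq]
      show ((⟨⁅f (s ^ 2 * a) 0, f (s ^ 2 * a') 0⁆, hcW _ _⟩ : S.Wt)⁻¹
        * (⟨⁅f a 0, f a' 0⁆, hcW a a'⟩ : S.Wt) : S.Wt) ∈ (⁅S.Wt, A⁆).subgroupOf S.Wt
      rw [Subgroup.mem_subgroupOf]
      show (⁅f (s ^ 2 * a) 0, f (s ^ 2 * a') 0⁆)⁻¹ * ⁅f a 0, f a' 0⁆ ∈ ⁅S.Wt, A⁆
      rw [e1, Subgroup.commutator_comm]
      have e2 : (τ * ⁅f a 0, f a' 0⁆ * τ⁻¹)⁻¹ * ⁅f a 0, f a' 0⁆ = ⁅τ, (⁅f a 0, f a' 0⁆)⁻¹⁆ := by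
        simp only [commutatorElement_def]; group
      rw [e2]
      exact Subgroup.commutator_mem_commutator hτA (S.Wt.inv_mem (hcW a a'))
  intro a a'
  have := key a a'
  rw [QuotientGroup.eq_one_iff, Subgroup.mem_subgroupOf] at this
  exact this

/-- the core theorem: no nontrivial element of the kernel lies in the derived subgroup of the preimage of
`U` -/
theorem core (S : SuzSetup σ θ u h f) [Fintype F] [Finite Γ] (h2 : (2 : F) = 0) (r : ℕ) (hr : 1 ≤ r)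
    (hθ : ∀ x, θ x = x ^ r) (hθadd : ∀ x y, θ (x + y) = θ x + θ y)
    (hq : 2 * r + 6 < Fintype.card F) (hinj : ∀ z : F, z ^ r = 1 → z = 1)
    (hN : ∀ l : F, l ≠ 0 → ∃ z : Fˣ, θ z * (z : F) ^ 2 = l)
    (hθs : ∀ l : F, l ≠ 0 → ∃ z : Fˣ, θ z = l)
    (hodd : ¬ 2 ∣ Nat.card Fˣ) (hk2 : ∀ z ∈ σ.ker, z ^ 2 = 1)
    (U : Subgroup G) (hU : ∀ g ∈ U, ∃ a b, g = u a b)
    (z₀ : Γ) (hz₀ : z₀ ∈ σ.ker) (hzU : z₀ ∈ U.comap σ)
    (hcomm : (⟨z₀, hzU⟩ : U.comap σ) ∈ commutator (U.comap σ)) : z₀ = 1 := by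
  have hq8 : 8 ≤ Fintype.card F := by omega
  have h1 := S.step1 h2 hq8 hN
  have hcen := S.step2 h2 r hr hθ hθadd hq hinj h1
  haveI hWc : IsMulCommutative S.Wt := S.isMulCommutative_Wt h1
  -- the odd order torus lift
  obtain ⟨z₁, hz₁⟩ := IsCyclic.exists_generator (α := Fˣ)
  obtain ⟨t₁, ht₁⟩ := S.lift_h z₁
  obtain ⟨n, hn⟩ : ∃ n, n = Nat.card Fˣ := ⟨_, rfl⟩
  have hz₁n : z₁ ^ n = 1 := by rw [hn]; exact pow_card_eq_one'
  obtain ⟨t, htdef⟩ : ∃ t, t = t₁ ^ (n + 1) := ⟨_, rfl⟩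
  have ht : σ t = h z₁ := by
    rw [htdef, map_pow, ht₁, ← map_pow, pow_succ, hz₁n, one_mul]
  have htn : t ^ n = 1 := by
    have hk : t₁ ^ n ∈ σ.ker := by
      rw [MonoidHom.mem_ker, map_pow, ht₁, ← map_pow, hz₁n, map_one]
    have hk' := hk2 _ hk
    obtain ⟨k, hk''⟩ : ∃ k, n + 1 = 2 * k := by
      rw [← hn] at hodd
      exact ⟨(n + 1) / 2, by omega⟩
    calc t ^ n = (t₁ ^ n) ^ (n + 1) := by rw [htdef, ← pow_mul, ← pow_mul, mul_comm]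
      _ = ((t₁ ^ n) ^ 2) ^ k := by rw [hk'', pow_mul]
      _ = 1 := by rw [hk', one_pow]
  have hpow : ∀ k : ℤ, σ (t ^ k) = h (z₁ ^ k) := by
    intro k
    rw [map_zpow, ht, map_zpow]
  have hA : ∀ z : Fˣ, ∃ τ ∈ Subgroup.zpowers t, σ τ = h z := by
    intro z
    obtain ⟨k, hk⟩ := Subgroup.mem_zpowers_iff.mp (hz₁ z)
    exact ⟨t ^ k, Subgroup.zpow_mem_zpowers t k, by rw [hpow, hk]⟩
  have h3 := S.step3 h2 hq8 hθs h1 hcen (Subgroup.zpowers t) hA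
  -- `z₀ ∈ ⁅W̃, A⁆`
  have hzM : z₀ ∈ ⁅S.Wt, Subgroup.zpowers t⁆ := by
    have hle : commutator (U.comap σ) ≤ (⁅S.Wt, Subgroup.zpowers t⁆).subgroupOf (U.comap σ) := by
      rw [commutator_def, Subgroup.commutator_le]
      intro g₁ _ g₂ _
      rw [Subgroup.mem_subgroupOf]
      show ⁅(g₁ : Γ), (g₂ : Γ)⁆ ∈ ⁅S.Wt, Subgroup.zpowers t⁆
      obtain ⟨a, d, hg₁⟩ := hU _ g₁.2
      obtain ⟨a', d', hg₂⟩ := hU _ g₂.2
      rw [S.comm_indep hcen hg₁ hg₂]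
      exact h3 a a'
    have := hle hcomm
    rw [Subgroup.mem_subgroupOf] at this
    exact this
  -- `z₀ ∈ W̃ ⊓ C(A)`
  have hzW : z₀ ∈ S.Wt ⊓ Subgroup.centralizer (Subgroup.zpowers t : Set Γ) := by
    refine Subgroup.mem_inf.mpr ⟨⟨0, by rw [MonoidHom.mem_ker.mp hz₀, S.u_zero_zero]⟩, ?_⟩
    rw [Subgroup.mem_centralizer_iff]
    intro g _
    exact Subgroup.mem_center_iff.mp (S.hc hz₀) g
  -- `A` normalizes `W̃`
  have hconjW : ∀ τ : Γ, (∃ z', σ τ = h z') → ∀ x ∈ S.Wt, τ * x * τ⁻¹ ∈ S.Wt := by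
    rintro τ ⟨z', hz'⟩ x ⟨b, hb⟩
    exact ⟨_, by rw [map_mul, map_mul, map_inv, hz', hb, S.h_conj_zero]⟩
  have hAV : Subgroup.zpowers t ≤ Subgroup.normalizer (S.Wt : Set Γ) := by
    intro τ hτ
    obtain ⟨k, rfl⟩ := Subgroup.mem_zpowers_iff.mp hτ
    rw [Subgroup.mem_normalizer_iff]
    intro x
    constructor
    · intro hx
      exact hconjW _ ⟨_, hpow k⟩ x hx
    · intro hx
      have := hconjW (t ^ (-k)) ⟨_, hpow (-k)⟩ _ hx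
      have e : t ^ (-k) * (t ^ k * x * (t ^ k)⁻¹) * (t ^ (-k))⁻¹ = x := by
        rw [zpow_neg]; group
      rw [e] at this
      exact this
  -- coprimality
  have hcop : (Nat.card (Subgroup.zpowers t)).Coprime (Nat.card S.Wt) := by
    haveI : Fact (Nat.Prime 2) := ⟨Nat.prime_two⟩
    have hp : IsPGroup 2 S.Wt := by
      intro x
      refine ⟨2, ?_⟩
      obtain ⟨b, hb⟩ := x.2
      have hx2 : (x : Γ) ^ 2 ∈ σ.ker := by
        rw [MonoidHom.mem_ker, map_pow, hb, pow_two, S.u_zero_mul]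
        have : b + b = 0 := by linear_combination b * h2
        rw [this, S.u_zero_zero]
      have := hk2 _ hx2
      apply Subtype.ext
      rw [Subgroup.coe_pow, Subgroup.coe_one]
      calc (x : Γ) ^ 2 ^ 2 = ((x : Γ) ^ 2) ^ 2 := by rw [← pow_mul]; norm_num
        _ = 1 := this
    obtain ⟨k, hk⟩ := IsPGroup.iff_card.mp hp
    rw [hk]
    apply Nat.Coprime.pow_right
    rw [Nat.card_zpowers]
    have hdvd : orderOf t ∣ n := orderOf_dvd_of_pow_eq_one htn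
    have hodd' : ¬ 2 ∣ orderOf t := by
      intro h
      apply hodd
      rw [← hn]
      exact dvd_trans h hdvd
    exact ((Nat.Prime.coprime_iff_not_dvd Nat.prime_two).mpr hodd').symm
  have hbot := coprime_abelian_centralizer_inf_commutator (Subgroup.zpowers t) S.Wt hAV hcop
  have : z₀ ∈ (S.Wt ⊓ Subgroup.centralizer (Subgroup.zpowers t : Set Γ)) ⊓
      ⁅S.Wt, Subgroup.zpowers t⁆ := Subgroup.mem_inf.mpr ⟨hzW, hzM⟩
  rw [hbot] at this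
  exact Subgroup.mem_bot.mp this

end SuzSetup

end core

end Cfsg.Agent.Lib.Helper1.SM3
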