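import Mathlib
import Cfsg.Agent.Lib.Helper1.SM3c
import Cfsg.Agent.Lib.Helper1.SM2c
import Cfsg.Agent.Lib.Helper4.Suz21
import Cfsg.Agent.Lib.Helper4.SzB4

/-!
Schur multiplier of the Suzuki groups, part d: `Sz(q)`, `q = 2^(2m+1) ≥ 32`, has trivial multiplier.
-/

set_option autoImplicit false
set_option maxHeartbeats 4000000
set_option linter.unusedVariables false
set_option linter.unusedSectionVars false
set_option linter.style.longLine false
set_option linter.unusedSimpArgs false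

namespace Cfsg.Agent.Lib.Helper1.SM3

open Cfsg Cfsg.Agent.Lib.Helper1.SM2 Cfsg.Agent.Lib.Helper4.Stem Cfsg.Agent.Lib.Helper4.Suz
open scoped commutatorElement

universe u

section sz

variable {F : Type u} [Field F] [Fintype F] {m : ℕ}

theorem arith_q (hm : 2 ≤ m) : 2 * 2 ^ (m + 1) + 6 < 2 ^ (2 * m + 1) := by
  obtain ⟨k, rfl⟩ : ∃ k, m = k + 2 := ⟨m - 2, by omega⟩
  have h1 : 2 ^ (2 * (k + 2) + 1) = 2 ^ (k + 2 + 1) * 2 ^ (k + 2) := by
    rw [← pow_add]; congr 1; omega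
  have h2 : 4 ≤ 2 ^ (k + 2) := by
    calc 4 = 2 ^ 2 := by norm_num
      _ ≤ 2 ^ (k + 2) := Nat.pow_le_pow_right (by norm_num) (by omega)
  have h3 : 8 ≤ 2 ^ (k + 2 + 1) := by
    calc 8 = 2 ^ 3 := by norm_num
      _ ≤ 2 ^ (k + 2 + 1) := Nat.pow_le_pow_right (by norm_num) (by omega)
  rw [h1]
  nlinarith

/-- the prime `2` -/
theorem noStemPrime_two_Sz (hF : Fintype.card F = 2 ^ (2 * m + 1)) (hm : 2 ≤ m) :
    NoStemPrime (Cfsg.Sz F m) 2 := by
  have hm1 : 1 ≤ m := by omega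
  intro Γ _ _ σ hσ hcard
  obtain ⟨hs, hc, hd⟩ := hσ
  choose f hf using fun a b : F => hs (uZ hF a b)
  have S : SuzSetup σ (th m) (uZ hF) (hZHom hF) f :=
    ⟨hc, uZ_mul hF, fun z a b => hZ_uZ_hZ hF z a b, hf, fun z => hs _, th_zero m⟩
  have h2 : (2 : F) = 0 := two_eq_zero hF
  have hk2 : ∀ z ∈ σ.ker, z ^ 2 = 1 := by
    intro z hz
    have := pow_card_eq_one' (G := σ.ker) (x := ⟨z, hz⟩)
    rw [hcard] at this
    exact congrArg Subtype.val this
  have hoddU : ¬ 2 ∣ ((USub hF).comap σ).index := by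
    rw [Subgroup.index_comap_of_surjective _ hs, ← coe_USylow hF hm1]
    haveI : Fact (Nat.Prime 2) := ⟨Nat.prime_two⟩
    exact (USylow hF hm1).not_dvd_index
  have hker : σ.ker = ⊥ := by
    rw [eq_bot_iff]
    intro z hz
    rw [Subgroup.mem_bot]
    have hzK : z ∈ (USub hF).comap σ := by
      show σ z ∈ USub hF
      rw [MonoidHom.mem_ker.mp hz]
      exact (USub hF).one_mem
    have hpow : z ^ ((USub hF).comap σ).index = z := by
      obtain ⟨k, hk⟩ : ∃ k, ((USub hF).comap σ).index = 2 * k + 1 :=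
        ⟨((USub hF).comap σ).index / 2, by omega⟩
      rw [hk, pow_succ, pow_mul, hk2 z hz, one_pow, one_mul]
    have h1 := pow_index_mem_commutator ((USub hF).comap σ) z (hc hz) (hd hz)
      (((USub hF).comap σ).pow_mem hzK _)
    have h1' : (⟨z, hzK⟩ : (USub hF).comap σ) ∈ commutator ((USub hF).comap σ) := by
      have e : (⟨z ^ ((USub hF).comap σ).index, ((USub hF).comap σ).pow_mem hzK _⟩ :
          (USub hF).comap σ) = ⟨z, hzK⟩ := Subtype.ext hpow
      rw [← e]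
      exact h1
    refine S.core h2 (2 ^ (m + 1)) Nat.one_le_two_pow (fun x => rfl) (th_add hF) ?_ ?_ ?_ ?_ ?_ hk2
      (USub hF) (fun g hg => hg) z hz hzK h1'
    · rw [hF]; exact arith_q hm
    · intro z hz
      exact th_eq_one hF hz
    · intro l hl
      exact exists_multiplier hF (Units.mk0 l hl)
    · intro l hl
      obtain ⟨z, hz⟩ := th_surjective hF l
      have hz0 : z ≠ 0 := by
        rintro rfl
        rw [th_zero] at hz
        exact hl hz.symm
      exact ⟨Units.mk0 z hz0, hz⟩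
    · rw [Nat.card_units, Nat.card_eq_fintype_card, hF]
      exact q_sub_one_odd m
  rw [hker] at hcard
  have : Nat.card (⊥ : Subgroup Γ) = 1 := Subgroup.card_bot
  rw [this] at hcard
  exact absurd hcard (by norm_num)

/-- odd primes -/
theorem noStemPrime_odd_Sz (hF : Fintype.card F = 2 ^ (2 * m + 1)) (hm : 1 ≤ m) (p : ℕ)
    (hp : p.Prime) (hp2 : p ≠ 2) : NoStemPrime (Cfsg.Sz F m) p := by
  haveI : Fact p.Prime := ⟨hp⟩
  haveI : Finite (Cfsg.Sz F m) := inferInstance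
  obtain ⟨P⟩ : Nonempty (Sylow p (Cfsg.Sz F m)) := inferInstance
  haveI : IsCyclic (P : Subgroup (Cfsg.Sz F m)) := sylow_odd_cyclic hF hm hp2 P
  have hP : NoStemPrime (P : Subgroup (Cfsg.Sz F m)) p := noStemPrime_of_isCyclic p hp.one_lt.ne'
  exact noStemPrime_of_subgroup (Cfsg.Sz F m) (P : Subgroup (Cfsg.Sz F m)) p hp P.not_dvd_index hP

theorem noStemPrime_Sz (hF : Fintype.card F = 2 ^ (2 * m + 1)) (hm : 2 ≤ m) (p : ℕ)
    (hp : p.Prime) : NoStemPrime (Cfsg.Sz F m) p := by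
  by_cases hp2 : p = 2
  · subst hp2
    exact noStemPrime_two_Sz hF hm
  · exact noStemPrime_odd_Sz hF (by omega) p hp hp2

/-- `Sz(q)`, `q ≥ 32`, has trivial Schur multiplier -/
theorem sz_trivial_multiplier (hF : Fintype.card F = 2 ^ (2 * m + 1)) (hm : 2 ≤ m) :
    HasCyclicSchurMultiplier (Cfsg.Lie.Sz F (2 ^ (m + 1))) 1 := by
  have hm1 : 1 ≤ m := by omega
  apply trivialMultiplier_of_noStemPrime
  intro p hp
  exact noStemPrime_of_mulEquiv (szEquiv hF hm1) p (noStemPrime_Sz hF hm p hp)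

end sz

end Cfsg.Agent.Lib.Helper1.SM3
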