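import Mathlib
import Cfsg.Agent.Lib.Helper6.WlB

set_option autoImplicit false
set_option linter.unusedSectionVars false
set_option linter.unusedVariables false

/-!
Farm SPE (statement S2333): the Landazuri-Seitz bound for `Sp_{2n}(q)`, `q` even.  Definitions for
the orbit bound: quadratic forms `x ↦ qf T x = x ⬝ᵥ T x` (`T` ANY matrix, helper6 `Wl.qf`), their
polar forms and `GL_n`-orbits (as functions).
-/

namespace Cfsg.Agent.Lib.Helper1.SPE

open Matrix Cfsg.Agent.Lib.Helper6.Wl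

variable {F : Type*} [Field F]

/-- the polar form of a function `Q` -/
def polF {n : ℕ} (Q : (Fin n → F) → F) (x y : Fin n → F) : F := Q (x + y) - Q x - Q y

/-- the binary quadratic form `a s² + b s t + c t²` -/
def bq (a b c s t : F) : F := a * s * s + b * s * t + c * t * t

/-- the `GL_n`-orbit of the quadratic form of the matrix `T`, as a set of functions -/
noncomputable def qOrbit [Fintype F] [DecidableEq F] {n : ℕ} (T : Matrix (Fin n) (Fin n) F) :
    Finset ((Fin n → F) → F) :=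
  Finset.univ.image (fun g : GL (Fin n) F =>
    fun x => qf T ((g : Matrix (Fin n) (Fin n) F) *ᵥ x))

/-- the plane `⟨x₀, y₀⟩` is anisotropic for `Q` -/
def Ani {n : ℕ} (Q : (Fin n → F) → F) (x₀ y₀ : Fin n → F) : Prop :=
  ∀ s t : F, Q (s • x₀ + t • y₀) = 0 → s = 0 ∧ t = 0

/-- `(x₀, y₀)` is a pair of singular vectors and `Q` vanishes on `⟨x₀, y₀⟩^⊥` -/
def Hyp {n : ℕ} (Q : (Fin n → F) → F) (x₀ y₀ : Fin n → F) : Prop :=
  Q x₀ = 0 ∧ Q y₀ = 0 ∧ ∀ z, polF Q x₀ z = 0 → polF Q y₀ z = 0 → Q z = 0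

end Cfsg.Agent.Lib.Helper1.SPE
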