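import Mathlib
import Cfsg.Agent.Lib.Helper1.SPEDefs

set_option autoImplicit false
set_option linter.unusedSectionVars false
set_option linter.unusedVariables false

/-!
Farm SPE (statement S2333), unit A: characteristic two facts and the polar form.
-/

namespace Cfsg.Agent.Lib.Helper1.SPE

open Matrix Cfsg.Agent.Lib.Helper6.Wl

variable {F : Type*} [Field F] [Fintype F] [DecidableEq F]

theorem exists_sq (h2 : (2 : F) = 0) (a : F) : ∃ r : F, r * r = a := by
  have hinj : Function.Injective (fun x : F => x * x) := by
    intro x y hxy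
    have hxy' : x * x = y * y := hxy
    have h : (x - y) * (x - y) = 0 := by
      have : (x - y) * (x - y) = x * x + y * y - (2 : F) * (x * y) := by ring
      rw [this, h2, hxy']
      have : y * y + y * y = (2 : F) * (y * y) := by ring
      rw [this, h2]; ring
    have := mul_self_eq_zero.mp h
    exact sub_eq_zero.mp this
  exact Finite.surjective_of_injective hinj a

/-- `x ↦ x² + x` is additive with kernel `{0, 1}`, hence not onto -/
theorem exists_no_root (h2 : (2 : F) = 0) : ∃ δ : F, ∀ x : F, x * x + x + δ ≠ 0 := by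
  have hninj : ¬ Function.Injective (fun x : F => x * x + x) := by
    intro h
    have h01 : (fun x : F => x * x + x) 0 = (fun x : F => x * x + x) (-1) := by
      show (0 : F) * 0 + 0 = (-1) * (-1) + (-1)
      ring
    have := h h01
    have h1 : (1 : F) = 0 := by
      have := congrArg (fun z : F => -z) this
      simpa using this.symm
    exact one_ne_zero h1
  have hnsurj : ¬ Function.Surjective (fun x : F => x * x + x) :=
    fun h => hninj (Finite.injective_iff_surjective.mpr h)
  rw [Function.Surjective] at hnsurj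
  push Not at hnsurj
  obtain ⟨δ', hδ'⟩ := hnsurj
  refine ⟨-δ', fun x hx => hδ' x ?_⟩
  show x * x + x = δ'
  linear_combination hx

theorem polF_qf {n : ℕ} (T : Matrix (Fin n) (Fin n) F) (x y : Fin n → F) :
    polF (qf T) x y = x ⬝ᵥ ((T + Tᵀ) *ᵥ y) := by
  unfold polF qf
  have h : y ⬝ᵥ T *ᵥ x = x ⬝ᵥ Tᵀ *ᵥ y := by
    rw [dotProduct_mulVec, ← mulVec_transpose, dotProduct_comm]
  rw [mulVec_add, add_dotProduct, dotProduct_add, dotProduct_add, add_mulVec,
    dotProduct_add, h]
  ring

theorem qf_smul {n : ℕ} (T : Matrix (Fin n) (Fin n) F) (s : F) (x : Fin n → F) :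
    qf T (s • x) = s * s * qf T x := by
  unfold qf
  rw [mulVec_smul, smul_dotProduct, dotProduct_smul, smul_eq_mul, smul_eq_mul, mul_assoc]

/-- `Q (s x + t y) = bq (Q x) (pol x y) (Q y) s t` -/
theorem qf_comb {n : ℕ} (T : Matrix (Fin n) (Fin n) F) (s t : F) (x y : Fin n → F) :
    qf T (s • x + t • y) = bq (qf T x) (polF (qf T) x y) (qf T y) s t := by
  have h1 : polF (qf T) (s • x) (t • y) = s * t * polF (qf T) x y := by
    rw [polF_qf, polF_qf, mulVec_smul, smul_dotProduct, dotProduct_smul, smul_eq_mul,
      smul_eq_mul]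
    ring
  have h2 : qf T (s • x + t • y) = qf T (s • x) + qf T (t • y) + polF (qf T) (s • x) (t • y) := by
    unfold polF; ring
  rw [h2, h1, qf_smul, qf_smul]
  unfold bq
  ring

end Cfsg.Agent.Lib.Helper1.SPE
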