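import Mathlib
import Cfsg.Agent.Lib.Helper1.SPEDefs
import Cfsg.Agent.Lib.Helper1.SPEA

set_option autoImplicit false
set_option linter.unusedSectionVars false
set_option linter.unusedVariables false

/-!
Farm SPE (statement S2333), unit C: an anisotropic plane, or a hyperbolic pair whose orthogonal is
totally singular.
-/

namespace Cfsg.Agent.Lib.Helper1.SPE

open Matrix Cfsg.Agent.Lib.Helper6.Wl

variable {F : Type*} [Field F] [Fintype F] [DecidableEq F]

theorem polF_self (h2 : (2 : F) = 0) {n : ℕ} (T : Matrix (Fin n) (Fin n) F) (x : Fin n → F) :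
    polF (qf T) x x = 0 := by
  unfold polF
  have h : x + x = (2 : F) • x := by rw [two_smul]
  rw [h, qf_smul, h2]
  have h3 : -qf T x - qf T x = -((2 : F) * qf T x) := by ring
  rw [zero_mul, zero_mul, zero_sub, h3, h2, zero_mul, neg_zero]

theorem polF_add_left {n : ℕ} (T : Matrix (Fin n) (Fin n) F) (x x' y : Fin n → F) :
    polF (qf T) (x + x') y = polF (qf T) x y + polF (qf T) x' y := by
  rw [polF_qf, polF_qf, polF_qf, add_dotProduct]

theorem polF_smul_left {n : ℕ} (T : Matrix (Fin n) (Fin n) F) (s : F) (x y : Fin n → F) :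
    polF (qf T) (s • x) y = s * polF (qf T) x y := by
  rw [polF_qf, polF_qf, smul_dotProduct, smul_eq_mul]

theorem polF_comm {n : ℕ} (Q : (Fin n → F) → F) (x y : Fin n → F) :
    polF Q x y = polF Q y x := by
  unfold polF
  rw [add_comm x y]
  ring

theorem polF_add_right {n : ℕ} (T : Matrix (Fin n) (Fin n) F) (x y y' : Fin n → F) :
    polF (qf T) x (y + y') = polF (qf T) x y + polF (qf T) x y' := by
  rw [polF_comm, polF_add_left, polF_comm _ y x, polF_comm _ y' x]

theorem polF_smul_right {n : ℕ} (T : Matrix (Fin n) (Fin n) F) (s : F) (x y : Fin n → F) :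
    polF (qf T) x (s • y) = s * polF (qf T) x y := by
  rw [polF_comm, polF_smul_left, polF_comm _ y x]

theorem qf_add {n : ℕ} (T : Matrix (Fin n) (Fin n) F) (x y : Fin n → F) :
    qf T (x + y) = qf T x + qf T y + polF (qf T) x y := by
  unfold polF; ring

/-- a pair with nonzero polar value is independent -/
theorem indep_of_pol (h2 : (2 : F) = 0) {n : ℕ} (T : Matrix (Fin n) (Fin n) F)
    (x y : Fin n → F) (hpol : polF (qf T) x y ≠ 0) (s t : F) (h : s • x + t • y = 0) :
    s = 0 ∧ t = 0 := by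
  have h1 : polF (qf T) (s • x + t • y) y = s * polF (qf T) x y := by
    rw [polF_add_left, polF_smul_left, polF_smul_left, polF_self h2, mul_zero, add_zero]
  have h2' : polF (qf T) (s • x + t • y) x = t * polF (qf T) x y := by
    rw [polF_add_left, polF_smul_left, polF_smul_left, polF_self h2, mul_zero, zero_add,
      polF_comm (qf T) y x]
  have h0 : ∀ z, polF (qf T) (0 : Fin n → F) z = 0 := by
    intro z
    have := polF_smul_left T 0 z z
    rw [zero_smul, zero_mul] at this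
    exact this
  rw [h, h0] at h1 h2'
  constructor
  · rcases mul_eq_zero.mp h1.symm with h3 | h3
    · exact h3
    · exact absurd h3 hpol
  · rcases mul_eq_zero.mp h2'.symm with h3 | h3
    · exact h3
    · exact absurd h3 hpol

theorem exists_plane (h2 : (2 : F) = 0) {n : ℕ} (T : Matrix (Fin n) (Fin n) F)
    (hT : T + Tᵀ ≠ 0) :
    ∃ x₀ y₀ : Fin n → F, polF (qf T) x₀ y₀ ≠ 0 ∧
      (Ani (qf T) x₀ y₀ ∨ Hyp (qf T) x₀ y₀) := by
  have h2x : ∀ a : F, a + a = 0 := by
    intro a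
    have : a + a = (2 : F) * a := by ring
    rw [this, h2, zero_mul]
  -- step 1: a pair of basis vectors with nonzero polar value
  obtain ⟨i, j, hij⟩ : ∃ i j, (T + Tᵀ) i j ≠ 0 := by
    by_contra hcon
    push Not at hcon
    apply hT
    ext i j
    exact hcon i j
  set x : Fin n → F := Pi.single i 1 with hx
  set y : Fin n → F := Pi.single j 1 with hy
  have hb : polF (qf T) x y ≠ 0 := by
    rw [polF_qf, hx, hy, mulVec_single_one, single_one_dotProduct]
    exact hij
  by_cases hani : Ani (qf T) x y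
  · exact ⟨x, y, hb, Or.inl hani⟩
  -- step 3: a singular vector `x₁` in the plane and a partner `y₁`
  unfold Ani at hani
  push Not at hani
  obtain ⟨s, t, hst, hne⟩ := hani
  obtain ⟨x₁, hx₁⟩ : ∃ x₁ : Fin n → F, x₁ = s • x + t • y := ⟨_, rfl⟩
  rw [← hx₁] at hst
  obtain ⟨y₁, hβ⟩ : ∃ y₁ : Fin n → F, polF (qf T) x₁ y₁ ≠ 0 := by
    by_cases hs : s = 0
    · have ht : t ≠ 0 := fun h => hne hs h
      refine ⟨x, ?_⟩
      rw [hx₁, polF_add_left, polF_smul_left, polF_smul_left, polF_self h2, mul_zero, zero_add,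
        polF_comm (qf T) y x]
      exact mul_ne_zero ht hb
    · refine ⟨y, ?_⟩
      rw [hx₁, polF_add_left, polF_smul_left, polF_smul_left, polF_self h2, mul_zero, add_zero]
      exact mul_ne_zero hs hb
  obtain ⟨β, hβdef⟩ : ∃ β : F, β = polF (qf T) x₁ y₁ := ⟨_, rfl⟩
  rw [← hβdef] at hβ
  -- step 4: make the partner singular and normalise
  obtain ⟨lam, hlam⟩ : ∃ lam : F, lam = qf T y₁ / β := ⟨_, rfl⟩
  obtain ⟨y₂, hy₂⟩ : ∃ y₂ : Fin n → F, y₂ = y₁ + lam • x₁ := ⟨_, rfl⟩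
  have hQy₂ : qf T y₂ = 0 := by
    rw [hy₂, qf_add, qf_smul, hst, mul_zero, add_zero, polF_smul_right, polF_comm (qf T) y₁ x₁,
      ← hβdef, hlam, div_mul_cancel₀ _ hβ]
    exact h2x _
  have hpol₂ : polF (qf T) x₁ y₂ = β := by
    rw [hy₂, polF_add_right, polF_smul_right, polF_self h2, mul_zero, add_zero, hβdef]
  obtain ⟨y₃, hy₃⟩ : ∃ y₃ : Fin n → F, y₃ = β⁻¹ • y₂ := ⟨_, rfl⟩
  have hQy₃ : qf T y₃ = 0 := by rw [hy₃, qf_smul, hQy₂, mul_zero]
  have hpol₃ : polF (qf T) x₁ y₃ = 1 := by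
    rw [hy₃, polF_smul_right, hpol₂, inv_mul_cancel₀ hβ]
  by_cases hperp : ∀ z, polF (qf T) x₁ z = 0 → polF (qf T) y₃ z = 0 → qf T z = 0
  · refine ⟨x₁, y₃, ?_, Or.inr ⟨hst, hQy₃, hperp⟩⟩
    rw [hpol₃]; exact one_ne_zero
  -- step 6: an anisotropic plane
  push Not at hperp
  obtain ⟨z, hz1, hz3, hγ⟩ := hperp
  obtain ⟨γ, hγdef⟩ : ∃ γ : F, γ = qf T z := ⟨_, rfl⟩
  rw [← hγdef] at hγ
  obtain ⟨δ, hδ⟩ := exists_no_root h2
  obtain ⟨r, hr⟩ := exists_sq h2 δ
  obtain ⟨μ, hμ⟩ : ∃ μ : F, μ = r / γ := ⟨_, rfl⟩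
  obtain ⟨X, hX⟩ : ∃ X : Fin n → F, X = x₁ + z := ⟨_, rfl⟩
  obtain ⟨Y, hY⟩ : ∃ Y : Fin n → F, Y = y₃ + μ • z := ⟨_, rfl⟩
  have hQX : qf T X = γ := by
    rw [hX, qf_add, hst, hz1, zero_add, add_zero, hγdef]
  have hQY : qf T Y = μ * μ * γ := by
    rw [hY, qf_add, qf_smul, hQy₃, zero_add, polF_smul_right, hz3, mul_zero, add_zero, hγdef]
  have hpolXY : polF (qf T) X Y = 1 := by
    rw [hX, hY, polF_add_left, polF_add_right, polF_add_right, polF_smul_right, polF_smul_right,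
      hpol₃, hz1, polF_self h2, polF_comm (qf T) z y₃, hz3]
    ring
  refine ⟨X, Y, by rw [hpolXY]; exact one_ne_zero, Or.inl ?_⟩
  intro s' t' h0
  rw [qf_comb, hQX, hQY, hpolXY] at h0
  unfold bq at h0
  by_cases ht' : t' = 0
  · subst ht'
    refine ⟨?_, rfl⟩
    have h1 : γ * s' * s' = 0 := by linear_combination h0
    rcases mul_eq_zero.mp h1 with h3 | h3
    · rcases mul_eq_zero.mp h3 with h4 | h4
      · exact absurd h4 hγ
      · exact h4
    · exact h3
  · exfalso
    apply hδ (γ * s' / t')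
    have hμγ : μ * γ = r := by rw [hμ, div_mul_cancel₀ _ hγ]
    have hδ' : δ = μ * μ * γ * γ := by
      rw [← hr, ← hμγ]; ring
    rw [hδ']
    field_simp
    linear_combination γ * h0

end Cfsg.Agent.Lib.Helper1.SPE
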