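import Mathlib
import Cfsg.Agent.Lib.Helper6.WlF
import Cfsg.Agent.Lib.Helper4.SL2Borel

set_option autoImplicit false
set_option linter.unusedSectionVars false
set_option linter.unusedVariables false

/-!
Farm SPW (statement S2524): definitions for Part III (rigidity of the rank-one modules).

`Heis m F` : the Heisenberg group `F^{2m} × F`, `(w,s)(w',s') = (w + w', s + s' + hcoef w w')`.
`Datum F m G` : a group `G` with homomorphisms `iS : SL₂(F) → G`, `iG : Sp_{2m}(F) → G`,
`iH : Heis m F → G` and the relations which hold in `G = Sp_{2m+2}(F)` for the subgroups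
`S₁ = Sp(⟨e₀,f₀⟩)`, `G' = Sp(⟨e₀,f₀⟩^⊥)`, `Q₁ = O_p(Stab ⟨e₀⟩)`.
-/

namespace Cfsg.Agent.Lib.Helper1.SPW

open Matrix Cfsg.Agent.Lib.Helper6.Wl Cfsg.Agent.Lib.Helper4

/-- the Heisenberg group on `F^{2m}` -/
@[ext] structure Heis (m : ℕ) (F : Type*) [Field F] where
  w : Fin m ⊕ Fin m → F
  s : F

namespace Heis
variable {m : ℕ} {F : Type*} [Field F]

instance : Mul (Heis m F) := ⟨fun x y => ⟨x.w + y.w, x.s + y.s + hcoef x.w y.w⟩⟩
instance : One (Heis m F) := ⟨⟨0, 0⟩⟩
instance : Inv (Heis m F) := ⟨fun x => ⟨-x.w, -x.s⟩⟩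

@[simp] theorem mul_w (x y : Heis m F) : (x * y).w = x.w + y.w := rfl
@[simp] theorem mul_s (x y : Heis m F) : (x * y).s = x.s + y.s + hcoef x.w y.w := rfl
@[simp] theorem one_w : (1 : Heis m F).w = 0 := rfl
@[simp] theorem one_s : (1 : Heis m F).s = 0 := rfl
@[simp] theorem inv_w (x : Heis m F) : (x⁻¹).w = -x.w := rfl
@[simp] theorem inv_s (x : Heis m F) : (x⁻¹).s = -x.s := rfl

theorem hcoef_add_left (u v w : Fin m ⊕ Fin m → F) :
    hcoef (u + v) w = hcoef u w + hcoef v w := by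
  unfold hcoef
  simp only [va_add, vb_add, add_dotProduct, dotProduct_add]
  ring

theorem hcoef_add_right (u v w : Fin m ⊕ Fin m → F) :
    hcoef u (v + w) = hcoef u v + hcoef u w := by
  unfold hcoef
  simp only [va_add, vb_add, add_dotProduct, dotProduct_add]
  ring

theorem hcoef_self (u : Fin m ⊕ Fin m → F) : hcoef u u = 0 := by
  unfold hcoef; ring

theorem hcoef_zero_left (u : Fin m ⊕ Fin m → F) : hcoef 0 u = 0 := by
  unfold hcoef; simp [va_zero, vb_zero]

theorem hcoef_zero_right (u : Fin m ⊕ Fin m → F) : hcoef u 0 = 0 := by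
  unfold hcoef; simp [va_zero, vb_zero]

theorem hcoef_neg_left (u v : Fin m ⊕ Fin m → F) : hcoef (-u) v = -hcoef u v := by
  unfold hcoef
  simp only [va_neg, vb_neg, neg_dotProduct, dotProduct_neg]
  ring

instance : Group (Heis m F) where
  mul_assoc x y z := by
    ext
    · simp [add_assoc]
    · simp only [mul_s, mul_w, hcoef_add_left, hcoef_add_right]; ring
  one_mul x := by
    ext
    · simp
    · simp [hcoef_zero_left]
  mul_one x := by
    ext
    · simp
    · simp [hcoef_zero_right]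
  inv_mul_cancel x := by
    ext
    · simp
    · simp [hcoef_neg_left, hcoef_self]

/-- the central element `(0, s)` -/
def cen (s : F) : Heis m F := ⟨0, s⟩
/-- the element `(w, 0)` -/
def vec (w : Fin m ⊕ Fin m → F) : Heis m F := ⟨w, 0⟩

noncomputable instance [Fintype F] [DecidableEq F] : Fintype (Heis m F) :=
  Fintype.ofEquiv ((Fin m ⊕ Fin m → F) × F)
    ⟨fun p => ⟨p.1, p.2⟩, fun x => (x.w, x.s), fun _ => rfl, fun _ => rfl⟩

end Heis

/-- the group theoretic data (see the file header) -/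
structure Datum (F : Type*) [Field F] (m : ℕ) (G : Type*) [Group G] where
  iS : Matrix.SpecialLinearGroup (Fin 2) F →* G
  iG : symplecticGroup (Fin m) F →* G
  iH : Heis m F →* G
  comm : ∀ (x : Matrix.SpecialLinearGroup (Fin 2) F) (g : symplecticGroup (Fin m) F),
    iS x * iG g = iG g * iS x
  conjG : ∀ (g : symplecticGroup (Fin m) F) (x : Heis m F),
    iG g * iH x * (iG g)⁻¹ =
      iH ⟨(g : Matrix (Fin m ⊕ Fin m) (Fin m ⊕ Fin m) F) *ᵥ x.w, x.s⟩
  conjT : ∀ (t : Fˣ) (x : Heis m F),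
    iS (mkSL t 0) * iH x * (iS (mkSL t 0))⁻¹ = iH ⟨(t : F) • x.w, (t : F) * (t : F) * x.s⟩
  cenU : ∀ s : F, iH (Heis.cen s) = iS (upperU s)
  gen : Subgroup.closure (Set.range iS ∪ Set.range iH) = ⊤
  central : ∀ g : G, g * (iS (-1) * iG negSp) = (iS (-1) * iG negSp) * g

/-- the element `((b, 0), s)` of the abelian subgroup `A = Q₁ ∩ Q` -/
def Heis.ab {m : ℕ} {F : Type*} [Field F] (b : Fin m → F) (s : F) : Heis m F := ⟨Sum.elim b 0, s⟩

section rep
variable {F : Type*} [Field F] [Fintype F] [DecidableEq F] {m : ℕ} {G : Type*} [Group G]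
variable (D : Datum F m G)
variable {V : Type*} [AddCommGroup V] [Module ℂ V]
variable {Ω : Type*} [AddCommGroup Ω] [Module ℂ Ω]
variable (ρ : Representation ℂ G V) (ρΩ : Representation ℂ G Ω) (ψ : AddChar F ℂ)

/-- the isotypic projector of `Z₁ = {iH (cen x)}` for the character `x ↦ ψ (a x)` -/
noncomputable def eZ (a : F) : Module.End ℂ V :=
  ((Fintype.card F : ℂ))⁻¹ • ∑ x : F, ψ (-(a * x)) • ρ (D.iH (Heis.cen x))

/-- the rank `≤ 1` condition, in the language of the datum: an `A`-eigenvector with character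
`((b,0),s) ↦ ψ (a s + 2 d·b)`, `a ≠ 0`, is a `Q'`-eigenvector with character
`S' ↦ ψ (a⁻¹ dᵀ S' d)`; and `A` is trivial on the `Z₁`-fixed vectors -/
def Rk1 : Prop :=
  (∀ (a : F) (d : Fin m → F) (v : V), a ≠ 0 →
    (∀ (b : Fin m → F) (s : F), ρ (D.iH (Heis.ab b s)) v = ψ (a * s + 2 * (d ⬝ᵥ b)) • v) →
    ∀ S' : symAdd F m, ρ (D.iG (uQ S')) v =
      ψ (a⁻¹ * (d ⬝ᵥ ((S' : Matrix (Fin m) (Fin m) F) *ᵥ d))) • v) ∧
  (∀ v : V, (∀ s : F, ρ (D.iH (Heis.cen s)) v = v) →
    ∀ b : Fin m → F, ρ (D.iH (Heis.ab b 0)) v = v)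

/-- the maps `Ω → V` commuting with `K` (through `f : K → G`), as a subspace of `Hom` -/
def homK {K : Type*} [Group K] (f : K →* G) : Submodule ℂ (Ω →ₗ[ℂ] V) where
  carrier := {φ | ∀ k : K, φ ∘ₗ ρΩ (f k) = ρ (f k) ∘ₗ φ}
  add_mem' := by
    intro φ φ' h h' k
    rw [LinearMap.add_comp, LinearMap.comp_add, h k, h' k]
  zero_mem' := by
    intro k
    rw [LinearMap.zero_comp, LinearMap.comp_zero]
  smul_mem' := by
    intro c φ h k
    rw [LinearMap.smul_comp, LinearMap.comp_smul, h k]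

/-- the Heisenberg intertwiners supported on the `a`-part -/
def hHom (a : F) : Submodule ℂ (Ω →ₗ[ℂ] V) where
  carrier := {φ | (∀ x : Heis m F, φ ∘ₗ ρΩ (D.iH x) = ρ (D.iH x) ∘ₗ φ) ∧
    φ ∘ₗ eZ D ρΩ ψ a = φ}
  add_mem' := by
    rintro φ φ' ⟨h1, h2⟩ ⟨h1', h2'⟩
    refine ⟨fun x => ?_, ?_⟩
    · rw [LinearMap.add_comp, LinearMap.comp_add, h1 x, h1' x]
    · rw [LinearMap.add_comp, h2, h2']
  zero_mem' := by
    refine ⟨fun x => ?_, ?_⟩
    · rw [LinearMap.zero_comp, LinearMap.comp_zero]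
    · rw [LinearMap.zero_comp]
  smul_mem' := by
    rintro c φ ⟨h1, h2⟩
    refine ⟨fun x => ?_, ?_⟩
    · rw [LinearMap.smul_comp, LinearMap.comp_smul, h1 x]
    · rw [LinearMap.smul_comp, h2]

/-- the `τ`-component of the character of `ρ` on `S₁ × G'`: a class function on `SL₂` -/
noncomputable def comp [Fintype (symplecticGroup (Fin m) F)] (τ : symplecticGroup (Fin m) F → ℂ)
    (x : Matrix.SpecialLinearGroup (Fin 2) F) : ℂ :=
  ((Fintype.card (symplecticGroup (Fin m) F) : ℂ))⁻¹ *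
    ∑ g : symplecticGroup (Fin m) F,
      LinearMap.trace ℂ V (ρ (D.iS x * D.iG g)) * (starRingEnd ℂ) (τ g)

/-- the character of `G'` on the `a`-part -/
noncomputable def chiA (a : F) (g : symplecticGroup (Fin m) F) : ℂ :=
  LinearMap.trace ℂ V (ρ (D.iG g) * eZ D ρ ψ a)

end rep

/-- the product map `SL₂ × Sp_{2m} → G` -/
def Datum.iSG {F : Type*} [Field F] {m : ℕ} {G : Type*} [Group G] (D : Datum F m G) :
    Matrix.SpecialLinearGroup (Fin 2) F × symplecticGroup (Fin m) F →* G :=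
  MonoidHom.noncommCoprod D.iS D.iG (fun x g => D.comm x g)

/-- the product map `B × Sp_{2m} → G`, `B` the Borel subgroup of `SL₂` -/
def Datum.iBG {F : Type*} [Field F] {m : ℕ} {G : Type*} [Group G] (D : Datum F m G) :
    borelSL2 F × symplecticGroup (Fin m) F →* G :=
  MonoidHom.noncommCoprod (D.iS.comp (borelSL2 F).subtype) D.iG (fun x g => D.comm x g)

/-- the point stabiliser `P₁ = Q₁ (B × G')` in the datum: the coproduct of the three maps is not a
group, so `P₁`-equivariance is expressed as the intersection of two `homK` -/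
def homP {F : Type*} [Field F] {m : ℕ} {G : Type*} [Group G] (D : Datum F m G)
    {V : Type*} [AddCommGroup V] [Module ℂ V] {Ω : Type*} [AddCommGroup Ω] [Module ℂ Ω]
    (ρ : Representation ℂ G V) (ρΩ : Representation ℂ G Ω) : Submodule ℂ (Ω →ₗ[ℂ] V) :=
  homK ρ ρΩ D.iBG ⊓ homK ρ ρΩ D.iH

/-- the symmetric matrix with first row `(s, b)` and zero lower right block -/
def symRow {F : Type*} [Field F] {m : ℕ} (b : Fin m → F) (s : F) : symAdd F (m + 1) :=
  ⟨Matrix.of fun i j : Fin (m + 1) =>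
      Fin.cases (Fin.cases s (fun j' => b j') j) (fun i' => Fin.cases (b i') (fun _ => 0) j) i, by
    rw [mem_symAdd]
    ext i j
    refine Fin.cases ?_ (fun i' => ?_) i <;> refine Fin.cases ?_ (fun j' => ?_) j <;>
      simp [Matrix.transpose_apply]⟩

/-- the symmetric matrix with lower right block `S'` and zero first row and column -/
def symEmb {F : Type*} [Field F] {m : ℕ} (S' : symAdd F m) : symAdd F (m + 1) :=
  ⟨Matrix.of fun i j : Fin (m + 1) =>
      Fin.cases 0 (fun i' => Fin.cases 0 (fun j' => (S' : Matrix (Fin m) (Fin m) F) i' j') j) i, by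
    rw [mem_symAdd]
    ext i j
    have hS : ∀ a b, (S' : Matrix (Fin m) (Fin m) F) a b = (S' : Matrix (Fin m) (Fin m) F) b a := by
      intro a b
      have := congrFun (congrFun (symAdd_transpose S') b) a
      simpa [Matrix.transpose_apply] using this
    refine Fin.cases ?_ (fun i' => ?_) i <;> refine Fin.cases ?_ (fun j' => ?_) j <;>
      simp [Matrix.transpose_apply, hS]⟩

/-- multiplicity of the character `x ↦ ψ (a x)` of `U` in a class function of `SL₂` -/
noncomputable def mU {F : Type*} [Field F] [Fintype F] (ψ : AddChar F ℂ)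
    (φ : Matrix.SpecialLinearGroup (Fin 2) F → ℂ) (a : F) : ℂ :=
  ((Fintype.card F : ℂ))⁻¹ * ∑ x : F, ψ (-(a * x)) * φ (upperU x)

/-- the norm of a class function of `SL₂` on the Borel subgroup -/
noncomputable def nB {F : Type*} [Field F] [Fintype F] [DecidableEq F]
    (φ φ' : Matrix.SpecialLinearGroup (Fin 2) F → ℂ) : ℂ :=
  ((Fintype.card Fˣ * Fintype.card F : ℕ) : ℂ)⁻¹ *
    ∑ t : Fˣ, ∑ u : F, φ (mkSL t u) * (starRingEnd ℂ) (φ' (mkSL t u))

end Cfsg.Agent.Lib.Helper1.SPW
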