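import Mathlib
import Cfsg.Agent.Lib.Helper1.SPWDefs

set_option autoImplicit false
set_option linter.unusedSectionVars false
set_option linter.unusedVariables false

/-!
Farm SPW (statement S2524), Part III: more definitions (spaces of intertwiners cut down by
idempotents).
-/

namespace Cfsg.Agent.Lib.Helper1.SPW

open Matrix Cfsg.Agent.Lib.Helper6.Wl Cfsg.Agent.Lib.Helper4

section rep
variable {F : Type*} [Field F] [Fintype F] [DecidableEq F] {m : ℕ} {G : Type*} [Group G]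
variable (D : Datum F m G)
variable {V : Type*} [AddCommGroup V] [Module ℂ V]
variable {Ω : Type*} [AddCommGroup Ω] [Module ℂ Ω]
variable (ρ : Representation ℂ G V) (ρΩ : Representation ℂ G Ω) (ψ : AddChar F ℂ)

/-- the maps `φ : Ω → V` commuting with `K` (through `f : K → G`) with `φ eΩ = φ = eV φ` -/
def homE {K : Type*} [Group K] (f : K →* G) (eV : Module.End ℂ V) (eΩ : Module.End ℂ Ω) :
    Submodule ℂ (Ω →ₗ[ℂ] V) where
  carrier := {φ | (∀ k : K, φ ∘ₗ ρΩ (f k) = ρ (f k) ∘ₗ φ) ∧ φ ∘ₗ eΩ = φ ∧ eV ∘ₗ φ = φ}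
  add_mem' := by
    rintro φ φ' ⟨h1, h2, h3⟩ ⟨h1', h2', h3'⟩
    refine ⟨fun k => ?_, ?_, ?_⟩
    · rw [LinearMap.add_comp, LinearMap.comp_add, h1 k, h1' k]
    · rw [LinearMap.add_comp, h2, h2']
    · rw [LinearMap.comp_add, h3, h3']
  zero_mem' := by
    refine ⟨fun k => ?_, ?_, ?_⟩
    · rw [LinearMap.zero_comp, LinearMap.comp_zero]
    · rw [LinearMap.zero_comp]
    · rw [LinearMap.comp_zero]
  smul_mem' := by
    rintro c φ ⟨h1, h2, h3⟩
    refine ⟨fun k => ?_, ?_, ?_⟩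
    · rw [LinearMap.smul_comp, LinearMap.comp_smul, h1 k]
    · rw [LinearMap.smul_comp, h2]
    · rw [LinearMap.comp_smul, h3]

/-- the maps `Ω → V` killing the `Z₁`-fixed vectors of `Ω` -/
def killZ : Submodule ℂ (Ω →ₗ[ℂ] V) where
  carrier := {φ | φ ∘ₗ eZ D ρΩ ψ 0 = 0}
  add_mem' := by
    intro φ φ' h h'
    show (φ + φ') ∘ₗ _ = 0
    rw [LinearMap.add_comp, h, h', add_zero]
  zero_mem' := by
    show (0 : Ω →ₗ[ℂ] V) ∘ₗ _ = 0
    rw [LinearMap.zero_comp]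
  smul_mem' := by
    intro c φ h
    show (c • φ) ∘ₗ _ = 0
    rw [LinearMap.smul_comp, h, smul_zero]

/-- the maps `Ω → V` supported on the `Z₁`-fixed vectors of `Ω` -/
def suppZ : Submodule ℂ (Ω →ₗ[ℂ] V) where
  carrier := {φ | φ ∘ₗ eZ D ρΩ ψ 0 = φ}
  add_mem' := by
    intro φ φ' h h'
    show (φ + φ') ∘ₗ _ = φ + φ'
    rw [LinearMap.add_comp, h, h']
  zero_mem' := by
    show (0 : Ω →ₗ[ℂ] V) ∘ₗ _ = 0
    rw [LinearMap.zero_comp]
  smul_mem' := by
    intro c φ h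
    show (c • φ) ∘ₗ _ = c • φ
    rw [LinearMap.smul_comp, h]

end rep

end Cfsg.Agent.Lib.Helper1.SPW
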