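import Mathlib
import Cfsg.Agent.Lib.Helper1.SPWDefs2

set_option autoImplicit false
set_option linter.unusedSectionVars false
set_option linter.unusedVariables false

/-!
Farm SPW, unit A1: calculus of the projectors `eZ`.
-/

namespace Cfsg.Agent.Lib.Helper1.SPW

open Matrix Cfsg Cfsg.Agent.Lib.Helper6.Wl Cfsg.Agent.Lib.Helper4
open Module

section heis
variable {m : ℕ} {F : Type*} [Field F]

theorem Heis.cen_add (x y : F) : (Heis.cen (x + y) : Heis m F) = Heis.cen x * Heis.cen y := by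
  ext
  · simp [Heis.cen]
  · simp [Heis.cen, Heis.hcoef_zero_left]

theorem Heis.cen_zero : (Heis.cen (0 : F) : Heis m F) = 1 := by
  ext <;> simp [Heis.cen]

theorem Heis.cen_mul_comm (x : F) (y : Heis m F) : Heis.cen x * y = y * Heis.cen x := by
  ext
  · simp [Heis.cen, add_comm]
  · simp [Heis.cen, Heis.hcoef_zero_left, Heis.hcoef_zero_right]; ring

theorem Heis.ab_zero (s : F) : (Heis.ab (0 : Fin m → F) s : Heis m F) = Heis.cen s := by
  ext i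
  · cases i <;> simp [Heis.ab, Heis.cen]
  · simp [Heis.ab, Heis.cen]

end heis

section abstract
variable {F : Type*} [Field F] [Fintype F] [DecidableEq F] {m : ℕ}
variable {G : Type*} [Group G]
variable (D : Datum F m G)
variable {V : Type*} [AddCommGroup V] [Module ℂ V]
variable {Ω : Type*} [AddCommGroup Ω] [Module ℂ Ω]
variable (ρ : Representation ℂ G V) (ρΩ : Representation ℂ G Ω) (ψ : AddChar F ℂ)

theorem sum_psi_mul_eq_zero (hψ : ψ ≠ 1) {c : F} (hc : c ≠ 0) : ∑ x : F, ψ (c * x) = 0 := by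
  have h : ψ.compAddMonoidHom (AddMonoidHom.mulLeft c) ≠ 1 := by
    intro h
    apply hψ
    ext y
    have := DFunLike.congr_fun h (c⁻¹ * y)
    simpa [mul_inv_cancel_left₀ hc] using this
  have := AddChar.sum_eq_zero_of_ne_one h
  simpa using this

theorem rho_cen_mul_eZ (x a : F) :
    ρ (D.iH (Heis.cen x)) * eZ D ρ ψ a = ψ (a * x) • eZ D ρ ψ a := by
  have key : ρ (D.iH (Heis.cen x)) * ∑ y : F, ψ (-(a * y)) • ρ (D.iH (Heis.cen y)) =
      ψ (a * x) • ∑ y : F, ψ (-(a * y)) • ρ (D.iH (Heis.cen y)) := by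
    rw [Finset.mul_sum, Finset.smul_sum]
    refine Fintype.sum_equiv (Equiv.addLeft x)
      (fun y : F => ρ (D.iH (Heis.cen x)) * (ψ (-(a * y)) • ρ (D.iH (Heis.cen y))))
      (fun y : F => ψ (a * x) • (ψ (-(a * y)) • ρ (D.iH (Heis.cen y)))) ?_
    intro y
    show ρ (D.iH (Heis.cen x)) * (ψ (-(a * y)) • ρ (D.iH (Heis.cen y))) =
      ψ (a * x) • (ψ (-(a * (x + y))) • ρ (D.iH (Heis.cen (x + y))))
    rw [mul_smul_comm, ← MonoidHom.map_mul ρ, ← MonoidHom.map_mul D.iH, ← Heis.cen_add, smul_smul]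
    congr 1
    rw [← AddChar.map_add_eq_mul]
    congr 1
    ring
  unfold eZ
  rw [mul_smul_comm, key, smul_comm]

theorem eZ_mul' (a : F) (X : Module.End ℂ V) :
    eZ D ρ ψ a * X = ((Fintype.card F : ℂ))⁻¹ • ∑ x : F,
      ψ (-(a * x)) • (ρ (D.iH (Heis.cen x)) * X) := by
  unfold eZ
  rw [smul_mul_assoc, Finset.sum_mul]
  simp only [smul_mul_assoc]

theorem eZ_idem (a : F) : eZ D ρ ψ a * eZ D ρ ψ a = eZ D ρ ψ a := by
  rw [eZ_mul']
  have h : ∀ x : F, ψ (-(a * x)) • (ρ (D.iH (Heis.cen x)) * eZ D ρ ψ a) = eZ D ρ ψ a := by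
    intro x
    rw [rho_cen_mul_eZ, smul_smul, ← AddChar.map_add_eq_mul, neg_add_cancel,
      AddChar.map_zero_eq_one, one_smul]
  rw [Finset.sum_congr rfl (fun x _ => h x), Finset.sum_const, Finset.card_univ,
    ← Nat.cast_smul_eq_nsmul ℂ, smul_smul, inv_mul_cancel₀, one_smul]
  exact Nat.cast_ne_zero.2 Fintype.card_ne_zero

theorem eZ_mul_of_ne (hψ : ψ ≠ 1) {a a' : F} (h : a ≠ a') : eZ D ρ ψ a * eZ D ρ ψ a' = 0 := by
  rw [eZ_mul']
  have h1 : ∀ x : F, ψ (-(a * x)) • (ρ (D.iH (Heis.cen x)) * eZ D ρ ψ a') =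
      ψ ((a' - a) * x) • eZ D ρ ψ a' := by
    intro x
    rw [rho_cen_mul_eZ, smul_smul, ← AddChar.map_add_eq_mul]
    congr 2
    ring
  rw [Finset.sum_congr rfl (fun x _ => h1 x), ← Finset.sum_smul,
    sum_psi_mul_eq_zero ψ hψ (sub_ne_zero.2 (Ne.symm h)), zero_smul, smul_zero]

theorem sum_eZ (hψ : ψ ≠ 1) : ∑ a : F, eZ D ρ ψ a = 1 := by
  classical
  unfold eZ
  rw [← Finset.smul_sum, Finset.sum_comm]
  have h : ∀ x : F, ∑ a : F, ψ (-(a * x)) • ρ (D.iH (Heis.cen x)) =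
      if x = 0 then (Fintype.card F : ℂ) • (1 : Module.End ℂ V) else 0 := by
    intro x
    rw [← Finset.sum_smul]
    split_ifs with hx
    · subst hx
      simp [Heis.cen_zero]
    · have h0 : ∑ a : F, ψ (-(a * x)) = 0 := by
        have := sum_psi_mul_eq_zero ψ hψ (neg_ne_zero.2 hx)
        rw [← this]
        refine Finset.sum_congr rfl (fun a _ => ?_)
        congr 1
        ring
      rw [h0, zero_smul]
  rw [Finset.sum_congr rfl (fun x _ => h x), Finset.sum_ite_eq' Finset.univ (0 : F)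
    (fun _ => (Fintype.card F : ℂ) • (1 : Module.End ℂ V)), if_pos (Finset.mem_univ _),
    smul_smul, inv_mul_cancel₀, one_smul]
  exact Nat.cast_ne_zero.2 Fintype.card_ne_zero

/-- anything commuting with all `ρ (iH (cen x))` commutes with `eZ` -/
theorem eZ_comm_of_comm (X : Module.End ℂ V)
    (h : ∀ x : F, X * ρ (D.iH (Heis.cen x)) = ρ (D.iH (Heis.cen x)) * X) (a : F) :
    X * eZ D ρ ψ a = eZ D ρ ψ a * X := by
  rw [eZ_mul']
  unfold eZ
  rw [mul_smul_comm, Finset.mul_sum]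
  congr 1
  refine Finset.sum_congr rfl (fun x _ => ?_)
  rw [mul_smul_comm, h x]

theorem eZ_comm_iH (x : Heis m F) (a : F) :
    ρ (D.iH x) * eZ D ρ ψ a = eZ D ρ ψ a * ρ (D.iH x) := by
  apply eZ_comm_of_comm
  intro y
  rw [← MonoidHom.map_mul ρ, ← MonoidHom.map_mul ρ, ← MonoidHom.map_mul D.iH,
    ← MonoidHom.map_mul D.iH, Heis.cen_mul_comm]

theorem iG_cen_comm (g : symplecticGroup (Fin m) F) (x : F) :
    D.iG g * D.iH (Heis.cen x) = D.iH (Heis.cen x) * D.iG g := by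
  have h := D.conjG g (Heis.cen x)
  have h2 : (⟨(g : Matrix (Fin m ⊕ Fin m) (Fin m ⊕ Fin m) F) *ᵥ (Heis.cen x : Heis m F).w,
      (Heis.cen x : Heis m F).s⟩ : Heis m F) = Heis.cen x := by
    ext i
    · simp [Heis.cen]
    · simp [Heis.cen]
  rw [h2] at h
  exact mul_inv_eq_iff_eq_mul.mp h

theorem eZ_comm_iG (g : symplecticGroup (Fin m) F) (a : F) :
    ρ (D.iG g) * eZ D ρ ψ a = eZ D ρ ψ a * ρ (D.iG g) := by
  apply eZ_comm_of_comm
  intro y
  rw [← MonoidHom.map_mul ρ, ← MonoidHom.map_mul ρ, iG_cen_comm]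

theorem torus_cen (t : Fˣ) (x : F) :
    D.iS (mkSL t 0) * D.iH (Heis.cen x) =
      D.iH (Heis.cen ((t : F) * (t : F) * x)) * D.iS (mkSL t 0) := by
  have h := D.conjT t (Heis.cen x)
  have h2 : (⟨(t : F) • (Heis.cen x : Heis m F).w,
      (t : F) * (t : F) * (Heis.cen x : Heis m F).s⟩ : Heis m F) =
      Heis.cen ((t : F) * (t : F) * x) := by
    ext i
    · simp [Heis.cen]
    · simp [Heis.cen]
  rw [h2] at h
  exact mul_inv_eq_iff_eq_mul.mp h

/-- `h z(x) h⁻¹ = z(t² x)` for the torus element `h = iS (mkSL t 0)` -/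
theorem eZ_conj_torus (t : Fˣ) (a : F) :
    ρ (D.iS (mkSL t 0)) * eZ D ρ ψ (a * t * t) = eZ D ρ ψ a * ρ (D.iS (mkSL t 0)) := by
  rw [eZ_mul']
  unfold eZ
  rw [mul_smul_comm, Finset.mul_sum]
  congr 1
  have ht : (t : F) * (t : F) ≠ 0 := mul_ne_zero t.ne_zero t.ne_zero
  refine Fintype.sum_equiv (Equiv.mulLeft₀ ((t : F) * (t : F)) ht)
    (fun x : F => ρ (D.iS (mkSL t 0)) * (ψ (-(a * t * t * x)) • ρ (D.iH (Heis.cen x))))
    (fun x : F => ψ (-(a * x)) • (ρ (D.iH (Heis.cen x)) * ρ (D.iS (mkSL t 0)))) ?_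
  intro x
  show ρ (D.iS (mkSL t 0)) * (ψ (-(a * t * t * x)) • ρ (D.iH (Heis.cen x))) =
    ψ (-(a * ((t : F) * (t : F) * x))) •
      (ρ (D.iH (Heis.cen ((t : F) * (t : F) * x))) * ρ (D.iS (mkSL t 0)))
  rw [mul_smul_comm, ← MonoidHom.map_mul ρ, ← MonoidHom.map_mul ρ, torus_cen]
  congr 2
  ring

theorem isUnit_rho (g : G) : IsUnit (ρ g) :=
  ⟨⟨ρ g, ρ g⁻¹, by rw [← MonoidHom.map_mul, mul_inv_cancel, map_one],
    by rw [← MonoidHom.map_mul, inv_mul_cancel, map_one]⟩, rfl⟩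

theorem rho_inv_mul (g : G) : ρ g⁻¹ * ρ g = 1 := by
  rw [← MonoidHom.map_mul, inv_mul_cancel, map_one]

theorem rho_mul_inv (g : G) : ρ g * ρ g⁻¹ = 1 := by
  rw [← MonoidHom.map_mul, mul_inv_cancel, map_one]

theorem eZ_torus_eq (t : Fˣ) (a : F) :
    eZ D ρ ψ (a * t * t) = ρ ((D.iS (mkSL t 0))⁻¹) * eZ D ρ ψ a * ρ (D.iS (mkSL t 0)) := by
  have h := eZ_conj_torus D ρ ψ t a
  calc eZ D ρ ψ (a * t * t) = (ρ ((D.iS (mkSL t 0))⁻¹) * ρ (D.iS (mkSL t 0))) *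
        eZ D ρ ψ (a * t * t) := by rw [rho_inv_mul, one_mul]
    _ = ρ ((D.iS (mkSL t 0))⁻¹) * (ρ (D.iS (mkSL t 0)) * eZ D ρ ψ (a * t * t)) := by
        rw [mul_assoc]
    _ = _ := by rw [h, ← mul_assoc]

theorem trace_eZ_torus [FiniteDimensional ℂ V] (t : Fˣ) (a : F) :
    LinearMap.trace ℂ V (eZ D ρ ψ (a * t * t)) = LinearMap.trace ℂ V (eZ D ρ ψ a) := by
  rw [eZ_torus_eq, LinearMap.trace_mul_comm, ← mul_assoc, rho_mul_inv, one_mul]

theorem iS_iG_comm (x : Matrix.SpecialLinearGroup (Fin 2) F) (g : symplecticGroup (Fin m) F) :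
    D.iS x * D.iG g = D.iG g * D.iS x := D.comm x g

/-- conjugate with `iS (mkSL t 0)`, which commutes with `iG g` -/
theorem chiA_torus [FiniteDimensional ℂ V] (t : Fˣ) (a : F) (g : symplecticGroup (Fin m) F) :
    chiA D ρ ψ (a * t * t) g = chiA D ρ ψ a g := by
  unfold chiA
  rw [eZ_torus_eq, ← mul_assoc, ← mul_assoc, LinearMap.trace_mul_comm, ← mul_assoc, ← mul_assoc,
    ← MonoidHom.map_mul ρ, ← MonoidHom.map_mul ρ, D.comm, mul_inv_cancel_right]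

theorem mkSL_neg_one : (mkSL (-1 : Fˣ) (0 : F) : Matrix.SpecialLinearGroup (Fin 2) F) = -1 := by
  apply Subtype.ext
  rw [mkSL_coe]
  ext i j
  fin_cases i <;> fin_cases j <;> simp

/-- `iS (-1) = iS (mkSL (-1) 0)` centralises `Z₁` -/
theorem eZ_comm_negS (a : F) :
    ρ (D.iS (-1)) * eZ D ρ ψ a = eZ D ρ ψ a * ρ (D.iS (-1)) := by
  have h := eZ_conj_torus D ρ ψ (-1 : Fˣ) a
  rw [mkSL_neg_one] at h
  have h2 : a * ((-1 : Fˣ) : F) * ((-1 : Fˣ) : F) = a := by simp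
  rw [h2] at h
  exact h

theorem eZ_comp_of_mem_hHom {a : F} {φ : Ω →ₗ[ℂ] V} (hφ : φ ∈ hHom D ρ ρΩ ψ a) :
    eZ D ρ ψ a ∘ₗ φ = φ := by
  obtain ⟨h1, h2⟩ := hφ
  have h3 : eZ D ρ ψ a ∘ₗ φ = φ ∘ₗ eZ D ρΩ ψ a := by
    ext v
    simp only [eZ, LinearMap.comp_apply, LinearMap.smul_apply, LinearMap.sum_apply, map_smul,
      map_sum]
    congr 1
    refine Finset.sum_congr rfl (fun x _ => ?_)
    congr 1
    exact (LinearMap.congr_fun (h1 (Heis.cen x)) v).symm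
  rw [h3, h2]

theorem mkSL_one_eq (b : F) : mkSL (1 : Fˣ) b = upperU b := by
  apply Subtype.ext
  rw [mkSL_coe, upperU_coe]
  simp

theorem mkSL_eq_torus_mul (t : Fˣ) (u : F) :
    mkSL t u = mkSL t 0 * upperU (((t⁻¹ : Fˣ) : F) * u) := by
  rw [← mkSL_one_eq, mkSL_mul]
  congr 1
  · simp
  · simp

theorem eZ_comm_iS_mkSL (t : Fˣ) (u : F) :
    ρ (D.iS (mkSL t u)) * eZ D ρ ψ 0 = eZ D ρ ψ 0 * ρ (D.iS (mkSL t u)) := by
  have h := eZ_conj_torus D ρ ψ t 0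
  have h0 : (0 : F) * (t : F) * (t : F) = 0 := by ring
  rw [h0] at h
  rw [mkSL_eq_torus_mul, MonoidHom.map_mul D.iS, MonoidHom.map_mul ρ, ← D.cenU, mul_assoc,
    eZ_comm_iH, ← mul_assoc, h, mul_assoc]

/-- the projector on the `Z₁`-fixed vectors commutes with `B × G'` -/
theorem eZ_zero_comm_iBG (k : borelSL2 F × symplecticGroup (Fin m) F) :
    ρ (D.iBG k) * eZ D ρ ψ 0 = eZ D ρ ψ 0 * ρ (D.iBG k) := by
  obtain ⟨b, g⟩ := k
  obtain ⟨t, u, rfl⟩ := exists_mkB b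
  have h1 : D.iBG (mkB t u, g) = D.iS (mkSL t u) * D.iG g := rfl
  rw [h1, MonoidHom.map_mul ρ, mul_assoc, eZ_comm_iG, ← mul_assoc, eZ_comm_iS_mkSL, mul_assoc]

theorem iBG_apply (b : borelSL2 F) (g : symplecticGroup (Fin m) F) :
    D.iBG (b, g) = D.iS (b : Matrix.SpecialLinearGroup (Fin 2) F) * D.iG g := rfl

theorem iSG_apply (x : Matrix.SpecialLinearGroup (Fin 2) F) (g : symplecticGroup (Fin m) F) :
    D.iSG (x, g) = D.iS x * D.iG g := rfl

end abstract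

end Cfsg.Agent.Lib.Helper1.SPW
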