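import Mathlib
import Cfsg.Agent.Lib.Helper1.SPWA1

set_option autoImplicit false
set_option linter.unusedSectionVars false
set_option linter.unusedVariables false

/-!
Farm SPW, unit C2: the dimension count giving a nonzero `G`-map (`rigidity_of`), with the other
units as hypotheses.
-/

namespace Cfsg.Agent.Lib.Helper1.SPW

open Matrix Cfsg Cfsg.Agent.Lib.Helper6.Wl Cfsg.Agent.Lib.Helper4
open Module

/-- the linear algebra of the count -/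
theorem inf_ne_bot_of_count {W : Type*} [AddCommGroup W] [Module ℂ W] [FiniteDimensional ℂ W]
    (A C P K S : Submodule ℂ W) (b : ℕ) (hAC : A ≤ C) (hPC : P ≤ C) (hCS : C ⊓ S ≤ P)
    (hSK : S ⊓ K = ⊥) (hdec : C ≤ (C ⊓ S) ⊔ (C ⊓ K)) (hA : 2 * b ≤ finrank ℂ A)
    (hCK : finrank ℂ ↥(C ⊓ K) ≤ 2 * b) (hPK : b ≤ finrank ℂ ↥(P ⊓ K)) (hb : 0 < b) :
    A ⊓ P ≠ ⊥ := by
  have h1 : finrank ℂ C ≤ finrank ℂ ↥(C ⊓ S) + finrank ℂ ↥(C ⊓ K) := by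
    have := Submodule.finrank_mono hdec
    have h2 := Submodule.finrank_add_le_finrank_add_finrank (C ⊓ S) (C ⊓ K)
    omega
  have h3 : finrank ℂ ↥(C ⊓ S) + finrank ℂ ↥(P ⊓ K) ≤ finrank ℂ P := by
    have hle : (C ⊓ S) ⊔ (P ⊓ K) ≤ P := sup_le hCS inf_le_left
    have hdisj : (C ⊓ S) ⊓ (P ⊓ K) = ⊥ := by
      apply le_bot_iff.1
      calc (C ⊓ S) ⊓ (P ⊓ K) ≤ S ⊓ K := inf_le_inf inf_le_right inf_le_right
        _ = ⊥ := hSK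
    have h4 := Submodule.finrank_sup_add_finrank_inf_eq (C ⊓ S) (P ⊓ K)
    rw [hdisj, finrank_bot, add_zero] at h4
    have := Submodule.finrank_mono hle
    omega
  have h5 := Submodule.finrank_sup_add_finrank_inf_eq A P
  have h6 : finrank ℂ ↥(A ⊔ P) ≤ finrank ℂ C := Submodule.finrank_mono (sup_le hAC hPC)
  intro h
  rw [h, finrank_bot] at h5
  omega

section abstract
variable {F : Type*} [Field F] [Fintype F] [DecidableEq F] {m : ℕ}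
variable {G : Type*} [Group G]
variable (D : Datum F m G)
variable {V : Type*} [AddCommGroup V] [Module ℂ V] [FiniteDimensional ℂ V]
variable {Ω : Type*} [AddCommGroup Ω] [Module ℂ Ω] [FiniteDimensional ℂ Ω]
variable (ρ : Representation ℂ G V) (ρΩ : Representation ℂ G Ω) (ψ : AddChar F ℂ)

theorem homK_iSG_le_iBG : homK ρ ρΩ D.iSG ≤ homK ρ ρΩ D.iBG := by
  intro φ hφ k
  obtain ⟨b, g⟩ := k
  exact hφ ((b : Matrix.SpecialLinearGroup (Fin 2) F), g)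

theorem suppZ_inf_killZ : suppZ D (V := V) ρΩ ψ ⊓ killZ D (V := V) ρΩ ψ = ⊥ := by
  apply le_bot_iff.1
  rintro φ ⟨h1, h2⟩
  have h1' : φ ∘ₗ eZ D ρΩ ψ 0 = φ := h1
  have h2' : φ ∘ₗ eZ D ρΩ ψ 0 = 0 := h2
  rw [Submodule.mem_bot, ← h1', h2']

theorem homK_iBG_decomp :
    homK ρ ρΩ D.iBG ≤ (homK ρ ρΩ D.iBG ⊓ suppZ D (V := V) ρΩ ψ) ⊔
      (homK ρ ρΩ D.iBG ⊓ killZ D (V := V) ρΩ ψ) := by
  intro φ hφ
  have hcomm : ∀ k, (φ ∘ₗ eZ D ρΩ ψ 0) ∘ₗ ρΩ (D.iBG k) = ρ (D.iBG k) ∘ₗ (φ ∘ₗ eZ D ρΩ ψ 0) := by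
    intro k
    have h1 : eZ D ρΩ ψ 0 ∘ₗ ρΩ (D.iBG k) = ρΩ (D.iBG k) ∘ₗ eZ D ρΩ ψ 0 :=
      (eZ_zero_comm_iBG D ρΩ ψ k).symm
    rw [LinearMap.comp_assoc, h1, ← LinearMap.comp_assoc, hφ k, LinearMap.comp_assoc]
  have hid : eZ D ρΩ ψ 0 ∘ₗ eZ D ρΩ ψ 0 = eZ D ρΩ ψ 0 := eZ_idem D ρΩ ψ 0
  have hmem1 : φ ∘ₗ eZ D ρΩ ψ 0 ∈ homK ρ ρΩ D.iBG ⊓ suppZ D (V := V) ρΩ ψ := by
    refine ⟨hcomm, ?_⟩
    show (φ ∘ₗ eZ D ρΩ ψ 0) ∘ₗ eZ D ρΩ ψ 0 = φ ∘ₗ eZ D ρΩ ψ 0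
    rw [LinearMap.comp_assoc, hid]
  have hmem2 : φ - φ ∘ₗ eZ D ρΩ ψ 0 ∈ homK ρ ρΩ D.iBG ⊓ killZ D (V := V) ρΩ ψ := by
    refine ⟨Submodule.sub_mem _ hφ hmem1.1, ?_⟩
    show (φ - φ ∘ₗ eZ D ρΩ ψ 0) ∘ₗ eZ D ρΩ ψ 0 = 0
    rw [LinearMap.sub_comp, LinearMap.comp_assoc, hid, sub_self]
  have : φ = φ ∘ₗ eZ D ρΩ ψ 0 + (φ - φ ∘ₗ eZ D ρΩ ψ 0) := by abel
  rw [this]
  exact Submodule.add_mem_sup hmem1 hmem2

/-- a map commuting with `iS` and `iH` commutes with `G` -/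
theorem comm_of_gen (φ : Ω →ₗ[ℂ] V)
    (hS : ∀ x, φ ∘ₗ ρΩ (D.iS x) = ρ (D.iS x) ∘ₗ φ)
    (hH : ∀ x, φ ∘ₗ ρΩ (D.iH x) = ρ (D.iH x) ∘ₗ φ) (g : G) :
    φ ∘ₗ ρΩ g = ρ g ∘ₗ φ := by
  let N : Subgroup G :=
    { carrier := {g | φ ∘ₗ ρΩ g = ρ g ∘ₗ φ}
      mul_mem' := by
        intro a b ha hb
        show φ ∘ₗ ρΩ (a * b) = ρ (a * b) ∘ₗ φ
        rw [MonoidHom.map_mul ρΩ, MonoidHom.map_mul ρ, Module.End.mul_eq_comp,
          Module.End.mul_eq_comp, ← LinearMap.comp_assoc, ha, LinearMap.comp_assoc, hb,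
          LinearMap.comp_assoc]
      one_mem' := by
        show φ ∘ₗ ρΩ 1 = ρ 1 ∘ₗ φ
        rw [map_one, map_one]
        rfl
      inv_mem' := by
        intro a ha
        show φ ∘ₗ ρΩ a⁻¹ = ρ a⁻¹ ∘ₗ φ
        ext v
        have h1 := LinearMap.congr_fun ha (ρΩ a⁻¹ v)
        have h2 : ρΩ a (ρΩ a⁻¹ v) = v := by
          have := LinearMap.congr_fun (rho_mul_inv ρΩ a) v
          simpa using this
        have h3 : ∀ w, ρ a⁻¹ (ρ a w) = w := by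
          intro w
          have := LinearMap.congr_fun (rho_inv_mul ρ a) w
          simpa using this
        simp only [LinearMap.comp_apply] at h1 ⊢
        rw [h2] at h1
        rw [h1, h3] }
  have hle : Subgroup.closure (Set.range D.iS ∪ Set.range D.iH) ≤ N := by
    rw [Subgroup.closure_le]
    rintro g (⟨x, rfl⟩ | ⟨x, rfl⟩)
    · exact hS x
    · exact hH x
  rw [D.gen] at hle
  exact hle (Subgroup.mem_top g)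

/-- unit C2, with the other units as hypotheses -/
theorem rigidity_of {a : F} (b : ℕ) (hb : 0 < b)
    (hA : 2 * b ≤ finrank ℂ (homK ρ ρΩ D.iSG))
    (hC1 : finrank ℂ ↥(homK ρ ρΩ D.iBG ⊓ killZ D (V := V) ρΩ ψ) ≤ 2 * b)
    (hC0 : homK ρ ρΩ D.iBG ⊓ suppZ D (V := V) ρΩ ψ ≤ homP D ρ ρΩ)
    (hP : b ≤ finrank ℂ ↥(homP D ρ ρΩ ⊓ killZ D (V := V) ρΩ ψ)) :
    ∃ φ : Ω →ₗ[ℂ] V, φ ≠ 0 ∧ ∀ g : G, φ ∘ₗ ρΩ g = ρ g ∘ₗ φ := by
  have hne := inf_ne_bot_of_count (homK ρ ρΩ D.iSG) (homK ρ ρΩ D.iBG) (homP D ρ ρΩ)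
    (killZ D (V := V) ρΩ ψ) (suppZ D (V := V) ρΩ ψ) b (homK_iSG_le_iBG D ρ ρΩ) inf_le_left hC0
    (suppZ_inf_killZ D ρΩ ψ) (homK_iBG_decomp D ρ ρΩ ψ) hA hC1 hP hb
  obtain ⟨φ, hφ, hφ0⟩ := (Submodule.ne_bot_iff _).1 hne
  refine ⟨φ, hφ0, comm_of_gen D ρ ρΩ φ ?_ ?_⟩
  · intro x
    have h := hφ.1 (x, 1)
    have h1 : D.iSG (x, 1) = D.iS x := by
      rw [iSG_apply, map_one, mul_one]
    rw [h1] at h
    exact h
  · intro x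
    exact hφ.2.2 x

end abstract

end Cfsg.Agent.Lib.Helper1.SPW

namespace Cfsg.Agent.Lib.Helper1.SPW

open Matrix Cfsg Cfsg.Agent.Lib.Helper6.Wl Cfsg.Agent.Lib.Helper4
open Module

section abstract2
variable {F : Type*} [Field F] [Fintype F] [DecidableEq F] {m : ℕ}
variable {G : Type*} [Group G]
variable (D : Datum F m G)
variable {V : Type*} [AddCommGroup V] [Module ℂ V]
variable {Ω : Type*} [AddCommGroup Ω] [Module ℂ Ω]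
variable (ρ : Representation ℂ G V) (ρΩ : Representation ℂ G Ω) (ψ : AddChar F ℂ)

theorem iBG_upper (s : F) : D.iBG (mkB 1 s, 1) = D.iH (Heis.cen s) := by
  rw [iBG_apply, map_one, mul_one, mkB_coe, mkSL_one_eq, D.cenU]

theorem homK_iBG_comm_cen {φ : Ω →ₗ[ℂ] V} (hφ : φ ∈ homK ρ ρΩ D.iBG) (s : F) :
    φ ∘ₗ ρΩ (D.iH (Heis.cen s)) = ρ (D.iH (Heis.cen s)) ∘ₗ φ := by
  have h := hφ (mkB 1 s, 1)
  rw [iBG_upper] at h
  exact h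

theorem homK_iBG_comm_eZ {φ : Ω →ₗ[ℂ] V} (hφ : φ ∈ homK ρ ρΩ D.iBG) (a : F) :
    φ ∘ₗ eZ D ρΩ ψ a = eZ D ρ ψ a ∘ₗ φ := by
  ext v
  simp only [eZ, LinearMap.comp_apply, LinearMap.smul_apply, LinearMap.sum_apply, map_smul,
    map_sum]
  congr 1
  refine Finset.sum_congr rfl (fun x _ => ?_)
  congr 1
  exact LinearMap.congr_fun (homK_iBG_comm_cen D ρ ρΩ hφ x) v

theorem eZ_zero_fixed (v : V) (s : F) :
    ρ (D.iH (Heis.cen s)) (eZ D ρ ψ 0 v) = eZ D ρ ψ 0 v := by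
  have h := LinearMap.congr_fun (rho_cen_mul_eZ D ρ ψ s 0) v
  simp only [Module.End.mul_apply, zero_mul, AddChar.map_zero_eq_one, one_smul] at h
  exact h

/-- unit C0', with A6 (`iH_fixed` for both modules) as hypotheses -/
theorem suppZ_le_homP_of
    (hfV : ∀ v : V, (∀ s : F, ρ (D.iH (Heis.cen s)) v = v) → ∀ x : Heis m F, ρ (D.iH x) v = v)
    (hfΩ : ∀ v : Ω, (∀ s : F, ρΩ (D.iH (Heis.cen s)) v = v) →
      ∀ x : Heis m F, ρΩ (D.iH x) v = v) :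
    homK ρ ρΩ D.iBG ⊓ suppZ D (V := V) ρΩ ψ ≤ homP D ρ ρΩ := by
  rintro φ ⟨hφ, hs⟩
  have hs' : φ ∘ₗ eZ D ρΩ ψ 0 = φ := hs
  refine ⟨hφ, ?_⟩
  intro x
  ext ω
  simp only [LinearMap.comp_apply]
  have h1 : ∀ ω' : Ω, φ ω' = φ (eZ D ρΩ ψ 0 ω') := by
    intro ω'
    exact (LinearMap.congr_fun hs' ω').symm
  have h2 : ∀ ω' : Ω, φ ω' = eZ D ρ ψ 0 (φ ω') := by
    intro ω'
    have := LinearMap.congr_fun (homK_iBG_comm_eZ D ρ ρΩ ψ hφ 0) ω'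
    simp only [LinearMap.comp_apply] at this
    exact (h1 ω').trans this
  have h3 : φ (ρΩ (D.iH x) ω) = φ ω := by
    rw [h1 (ρΩ (D.iH x) ω)]
    have hc := LinearMap.congr_fun (eZ_comm_iH D ρΩ ψ x 0) ω
    simp only [Module.End.mul_apply] at hc
    rw [← hc, hfΩ _ (eZ_zero_fixed D ρΩ ψ ω) x, ← h1 ω]
  rw [h3, h2 ω, hfV _ (eZ_zero_fixed D ρ ψ (φ ω)) x]

end abstract2

end Cfsg.Agent.Lib.Helper1.SPW
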