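import Mathlib
import Cfsg.Agent.Lib.Helper1.SPWC2

set_option autoImplicit false
set_option linter.unusedSectionVars false
set_option linter.unusedVariables false
set_option linter.unnecessarySimpa false

/-!
Farm SPW, unit C1': the torus average of the Heisenberg intertwiners.
-/

namespace Cfsg.Agent.Lib.Helper1.SPW

open Matrix Cfsg Cfsg.Agent.Lib.Helper6.Wl Cfsg.Agent.Lib.Helper4
open Module

section abstract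
variable {F : Type*} [Field F] [Fintype F] [DecidableEq F] {m : ℕ}
variable {G : Type*} [Group G]
variable (D : Datum F m G)
variable {V : Type*} [AddCommGroup V] [Module ℂ V]
variable {Ω : Type*} [AddCommGroup Ω] [Module ℂ Ω]
variable (ρ : Representation ℂ G V) (ρΩ : Representation ℂ G Ω) (ψ : AddChar F ℂ)

/-- the torus element `h_t` -/
def hT (t : Fˣ) : G := D.iS (mkSL t 0)

theorem hT_mul (t t' : Fˣ) : hT D (t * t') = hT D t * hT D t' := by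
  unfold hT
  rw [← MonoidHom.map_mul, mkSL_mul]
  congr 2
  simp

theorem hT_one : hT D (1 : Fˣ) = 1 := by
  unfold hT
  rw [mkSL_one_eq]
  have : (upperU (0 : F) : Matrix.SpecialLinearGroup (Fin 2) F) = 1 := by
    apply Subtype.ext
    rw [upperU_coe]
    ext i j
    fin_cases i <;> fin_cases j <;> simp
  rw [this, map_one]

theorem hT_inv (t : Fˣ) : hT D t⁻¹ = (hT D t)⁻¹ := by
  apply eq_inv_of_mul_eq_one_left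
  rw [← hT_mul, inv_mul_cancel, hT_one]

/-- the torus action on `Heis` -/
def tAct (t : Fˣ) (x : Heis m F) : Heis m F := ⟨(t : F) • x.w, (t : F) * (t : F) * x.s⟩

theorem hT_iH (t : Fˣ) (x : Heis m F) : hT D t * D.iH x = D.iH (tAct t x) * hT D t := by
  have h := D.conjT t x
  exact mul_inv_eq_iff_eq_mul.mp h

theorem tAct_inv (t : Fˣ) (x : Heis m F) : tAct t (tAct t⁻¹ x) = x := by
  ext i
  · simp [tAct, smul_smul]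
  · simp only [tAct]
    have : (t : F) * (t : F) * (((t⁻¹ : Fˣ) : F) * ((t⁻¹ : Fˣ) : F) * x.s) =
        ((t : F) * ((t⁻¹ : Fˣ) : F)) * ((t : F) * ((t⁻¹ : Fˣ) : F)) * x.s := by ring
    rw [this, ← Units.val_mul, mul_inv_cancel, Units.val_one, one_mul, one_mul]

/-- the torus average -/
noncomputable def tAv : (Ω →ₗ[ℂ] V) →ₗ[ℂ] (Ω →ₗ[ℂ] V) where
  toFun φ := ∑ t : Fˣ, ρ (hT D t) ∘ₗ φ ∘ₗ ρΩ (hT D t⁻¹)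
  map_add' φ φ' := by
    rw [← Finset.sum_add_distrib]
    refine Finset.sum_congr rfl (fun t _ => ?_)
    rw [LinearMap.add_comp, LinearMap.comp_add]
  map_smul' c φ := by
    rw [RingHom.id_apply, Finset.smul_sum]
    refine Finset.sum_congr rfl (fun t _ => ?_)
    rw [LinearMap.smul_comp, LinearMap.comp_smul]

theorem tAv_apply (φ : Ω →ₗ[ℂ] V) :
    tAv D ρ ρΩ φ = ∑ t : Fˣ, ρ (hT D t) ∘ₗ φ ∘ₗ ρΩ (hT D t⁻¹) := rfl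

theorem sum_comp_right {ι : Type*} (s : Finset ι) (f : ι → (Ω →ₗ[ℂ] V)) (X : Ω →ₗ[ℂ] Ω) :
    (∑ i ∈ s, f i) ∘ₗ X = ∑ i ∈ s, f i ∘ₗ X := by
  ext v
  simp [LinearMap.sum_apply]

theorem sum_comp_left {ι : Type*} (s : Finset ι) (f : ι → (Ω →ₗ[ℂ] V)) (X : V →ₗ[ℂ] V) :
    X ∘ₗ (∑ i ∈ s, f i) = ∑ i ∈ s, X ∘ₗ f i := by
  ext v
  simp [LinearMap.sum_apply]

theorem comp_rho (g h : G) : ρ g ∘ₗ ρ h = ρ (g * h) := by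
  rw [MonoidHom.map_mul]; rfl

/-- the average commutes with `Heis` -/
theorem tAv_comm_iH {φ : Ω →ₗ[ℂ] V}
    (hφ : ∀ x : Heis m F, φ ∘ₗ ρΩ (D.iH x) = ρ (D.iH x) ∘ₗ φ) (x : Heis m F) :
    tAv D ρ ρΩ φ ∘ₗ ρΩ (D.iH x) = ρ (D.iH x) ∘ₗ tAv D ρ ρΩ φ := by
  rw [tAv_apply, sum_comp_right, sum_comp_left]
  refine Finset.sum_congr rfl (fun t _ => ?_)
  -- `h_t⁻¹ x = (t⁻¹·x) h_t⁻¹`, `x h_t = h_t (t⁻¹·x)`
  have h1 : hT D t⁻¹ * D.iH x = D.iH (tAct t⁻¹ x) * hT D t⁻¹ := hT_iH D t⁻¹ x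
  have h2 : D.iH x * hT D t = hT D t * D.iH (tAct t⁻¹ x) := by
    rw [hT_iH, tAct_inv]
  calc (ρ (hT D t) ∘ₗ φ ∘ₗ ρΩ (hT D t⁻¹)) ∘ₗ ρΩ (D.iH x)
      = ρ (hT D t) ∘ₗ φ ∘ₗ (ρΩ (hT D t⁻¹) ∘ₗ ρΩ (D.iH x)) := by
        simp only [LinearMap.comp_assoc]
    _ = ρ (hT D t) ∘ₗ φ ∘ₗ (ρΩ (D.iH (tAct t⁻¹ x)) ∘ₗ ρΩ (hT D t⁻¹)) := by
        rw [comp_rho, h1, ← comp_rho]
    _ = ρ (hT D t) ∘ₗ (φ ∘ₗ ρΩ (D.iH (tAct t⁻¹ x))) ∘ₗ ρΩ (hT D t⁻¹) := by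
        simp only [LinearMap.comp_assoc]
    _ = ρ (hT D t) ∘ₗ (ρ (D.iH (tAct t⁻¹ x)) ∘ₗ φ) ∘ₗ ρΩ (hT D t⁻¹) := by rw [hφ]
    _ = (ρ (hT D t) ∘ₗ ρ (D.iH (tAct t⁻¹ x))) ∘ₗ φ ∘ₗ ρΩ (hT D t⁻¹) := by
        simp only [LinearMap.comp_assoc]
    _ = (ρ (D.iH x) ∘ₗ ρ (hT D t)) ∘ₗ φ ∘ₗ ρΩ (hT D t⁻¹) := by
        rw [comp_rho, ← h2, ← comp_rho]
    _ = ρ (D.iH x) ∘ₗ ρ (hT D t) ∘ₗ φ ∘ₗ ρΩ (hT D t⁻¹) := by
        simp only [LinearMap.comp_assoc]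

/-- the average commutes with `G'` -/
theorem tAv_comm_iG {φ : Ω →ₗ[ℂ] V}
    (hφ : ∀ g : symplecticGroup (Fin m) F, φ ∘ₗ ρΩ (D.iG g) = ρ (D.iG g) ∘ₗ φ)
    (g : symplecticGroup (Fin m) F) :
    tAv D ρ ρΩ φ ∘ₗ ρΩ (D.iG g) = ρ (D.iG g) ∘ₗ tAv D ρ ρΩ φ := by
  rw [tAv_apply, sum_comp_right, sum_comp_left]
  refine Finset.sum_congr rfl (fun t _ => ?_)
  have h1 : hT D t⁻¹ * D.iG g = D.iG g * hT D t⁻¹ := D.comm _ g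
  have h2 : hT D t * D.iG g = D.iG g * hT D t := D.comm _ g
  calc (ρ (hT D t) ∘ₗ φ ∘ₗ ρΩ (hT D t⁻¹)) ∘ₗ ρΩ (D.iG g)
      = ρ (hT D t) ∘ₗ φ ∘ₗ (ρΩ (hT D t⁻¹) ∘ₗ ρΩ (D.iG g)) := by
        simp only [LinearMap.comp_assoc]
    _ = ρ (hT D t) ∘ₗ φ ∘ₗ (ρΩ (D.iG g) ∘ₗ ρΩ (hT D t⁻¹)) := by
        rw [comp_rho, h1, ← comp_rho]
    _ = ρ (hT D t) ∘ₗ (φ ∘ₗ ρΩ (D.iG g)) ∘ₗ ρΩ (hT D t⁻¹) := by
        simp only [LinearMap.comp_assoc]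
    _ = ρ (hT D t) ∘ₗ (ρ (D.iG g) ∘ₗ φ) ∘ₗ ρΩ (hT D t⁻¹) := by rw [hφ]
    _ = (ρ (hT D t) ∘ₗ ρ (D.iG g)) ∘ₗ φ ∘ₗ ρΩ (hT D t⁻¹) := by
        simp only [LinearMap.comp_assoc]
    _ = (ρ (D.iG g) ∘ₗ ρ (hT D t)) ∘ₗ φ ∘ₗ ρΩ (hT D t⁻¹) := by
        rw [comp_rho, h2, ← comp_rho]
    _ = ρ (D.iG g) ∘ₗ ρ (hT D t) ∘ₗ φ ∘ₗ ρΩ (hT D t⁻¹) := by
        simp only [LinearMap.comp_assoc]

/-- the average commutes with the torus -/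
theorem tAv_comm_hT (φ : Ω →ₗ[ℂ] V) (t' : Fˣ) :
    tAv D ρ ρΩ φ ∘ₗ ρΩ (hT D t') = ρ (hT D t') ∘ₗ tAv D ρ ρΩ φ := by
  rw [tAv_apply, sum_comp_right, sum_comp_left]
  refine Fintype.sum_equiv (Equiv.mulLeft t'⁻¹)
    (fun t => (ρ (hT D t) ∘ₗ φ ∘ₗ ρΩ (hT D t⁻¹)) ∘ₗ ρΩ (hT D t'))
    (fun t => ρ (hT D t') ∘ₗ ρ (hT D t) ∘ₗ φ ∘ₗ ρΩ (hT D t⁻¹)) ?_
  intro t
  show (ρ (hT D t) ∘ₗ φ ∘ₗ ρΩ (hT D t⁻¹)) ∘ₗ ρΩ (hT D t') =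
    ρ (hT D t') ∘ₗ ρ (hT D (t'⁻¹ * t)) ∘ₗ φ ∘ₗ ρΩ (hT D (t'⁻¹ * t)⁻¹)
  have h1 : hT D t⁻¹ * hT D t' = hT D (t'⁻¹ * t)⁻¹ := by
    rw [← hT_mul]
    congr 1
  have h2 : hT D t' * hT D (t'⁻¹ * t) = hT D t := by
    rw [← hT_mul, mul_inv_cancel_left]
  calc (ρ (hT D t) ∘ₗ φ ∘ₗ ρΩ (hT D t⁻¹)) ∘ₗ ρΩ (hT D t')
      = ρ (hT D t) ∘ₗ φ ∘ₗ (ρΩ (hT D t⁻¹) ∘ₗ ρΩ (hT D t')) := by
        simp only [LinearMap.comp_assoc]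
    _ = ρ (hT D t) ∘ₗ φ ∘ₗ ρΩ (hT D (t'⁻¹ * t)⁻¹) := by rw [comp_rho, h1]
    _ = (ρ (hT D t') ∘ₗ ρ (hT D (t'⁻¹ * t))) ∘ₗ φ ∘ₗ ρΩ (hT D (t'⁻¹ * t)⁻¹) := by
        rw [comp_rho, h2]
    _ = _ := by simp only [LinearMap.comp_assoc]

theorem comm_mul {Φ : Ω →ₗ[ℂ] V} {g h : G} (hg : Φ ∘ₗ ρΩ g = ρ g ∘ₗ Φ)
    (hh : Φ ∘ₗ ρΩ h = ρ h ∘ₗ Φ) : Φ ∘ₗ ρΩ (g * h) = ρ (g * h) ∘ₗ Φ := by
  rw [← comp_rho, ← comp_rho, ← LinearMap.comp_assoc, hg, LinearMap.comp_assoc, hh,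
    LinearMap.comp_assoc]

theorem hT_neg_one : hT D (-1 : Fˣ) = D.iS (-1) := by
  unfold hT
  rw [mkSL_neg_one]

/-- the average of a Heisenberg intertwiner commuting with `G'` is a `P₁`-map -/
theorem tAv_mem_homP {φ : Ω →ₗ[ℂ] V}
    (hH : ∀ x : Heis m F, φ ∘ₗ ρΩ (D.iH x) = ρ (D.iH x) ∘ₗ φ)
    (hG : ∀ g : symplecticGroup (Fin m) F, φ ∘ₗ ρΩ (D.iG g) = ρ (D.iG g) ∘ₗ φ) :
    tAv D ρ ρΩ φ ∈ homP D ρ ρΩ := by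
  refine ⟨?_, fun x => tAv_comm_iH D ρ ρΩ hH x⟩
  rintro ⟨b, g⟩
  obtain ⟨t, u, rfl⟩ := exists_mkB b
  have h1 : D.iBG (mkB t u, g) =
      hT D t * D.iH (Heis.cen (((t⁻¹ : Fˣ) : F) * u)) * D.iG g := by
    rw [iBG_apply, mkB_coe, mkSL_eq_torus_mul, MonoidHom.map_mul, D.cenU]
    rfl
  rw [h1]
  exact comm_mul ρ ρΩ (comm_mul ρ ρΩ (tAv_comm_hT D ρ ρΩ φ t) (tAv_comm_iH D ρ ρΩ hH _))
    (tAv_comm_iG D ρ ρΩ hG g)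

theorem tAv_mem_killZ (hψ : ψ ≠ 1) {a : F} (ha : a ≠ 0) {φ : Ω →ₗ[ℂ] V}
    (hφ : φ ∈ hHom D ρ ρΩ ψ a) : tAv D ρ ρΩ φ ∈ killZ D (V := V) ρΩ ψ := by
  show tAv D ρ ρΩ φ ∘ₗ eZ D ρΩ ψ 0 = 0
  rw [tAv_apply, sum_comp_right]
  refine Finset.sum_eq_zero (fun t _ => ?_)
  have h1 : ρΩ (hT D t⁻¹) ∘ₗ eZ D ρΩ ψ 0 = eZ D ρΩ ψ 0 ∘ₗ ρΩ (hT D t⁻¹) := by
    have h := eZ_conj_torus D ρΩ ψ t⁻¹ 0
    have h0 : (0 : F) * ((t⁻¹ : Fˣ) : F) * ((t⁻¹ : Fˣ) : F) = 0 := by ring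
    rw [h0] at h
    exact h
  have h2 : φ ∘ₗ eZ D ρΩ ψ 0 = 0 := by
    have h3 : eZ D ρΩ ψ a ∘ₗ eZ D ρΩ ψ 0 = 0 := eZ_mul_of_ne D ρΩ ψ hψ ha
    rw [← hφ.2, LinearMap.comp_assoc, h3, LinearMap.comp_zero]
  calc (ρ (hT D t) ∘ₗ φ ∘ₗ ρΩ (hT D t⁻¹)) ∘ₗ eZ D ρΩ ψ 0
      = ρ (hT D t) ∘ₗ φ ∘ₗ (ρΩ (hT D t⁻¹) ∘ₗ eZ D ρΩ ψ 0) := by
        simp only [LinearMap.comp_assoc]
    _ = ρ (hT D t) ∘ₗ (φ ∘ₗ eZ D ρΩ ψ 0) ∘ₗ ρΩ (hT D t⁻¹) := by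
        rw [h1]; simp only [LinearMap.comp_assoc]
    _ = 0 := by rw [h2, LinearMap.zero_comp, LinearMap.comp_zero]

/-- cutting the average down to the `a`-parts gives back a positive multiple of `φ` -/
theorem eZ_tAv_eZ (hψ : ψ ≠ 1) {a : F} (ha : a ≠ 0) {φ : Ω →ₗ[ℂ] V}
    (hφ : φ ∈ hHom D ρ ρΩ ψ a)
    (hN : φ ∘ₗ ρΩ (D.iS (-1)) = ρ (D.iS (-1)) ∘ₗ φ) :
    eZ D ρ ψ a ∘ₗ tAv D ρ ρΩ φ ∘ₗ eZ D ρΩ ψ a =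
      ((Finset.univ.filter (fun t : Fˣ => t * t = 1)).card : ℂ) • φ := by
  classical
  rw [tAv_apply, sum_comp_right, sum_comp_left]
  have hφ1 : eZ D ρ ψ a ∘ₗ φ = φ := eZ_comp_of_mem_hHom D ρ ρΩ ψ hφ
  have hφ2 : φ ∘ₗ eZ D ρΩ ψ a = φ := hφ.2
  have hterm : ∀ t : Fˣ, eZ D ρ ψ a ∘ₗ (ρ (hT D t) ∘ₗ φ ∘ₗ ρΩ (hT D t⁻¹)) ∘ₗ eZ D ρΩ ψ a =
      if t * t = 1 then φ else 0 := by
    intro t
    split_ifs with ht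
    · -- `t = ± 1`
      have ht' : t = 1 ∨ t = -1 := by
        have h1 : (t - 1 : F) * ((t : F) + 1) = 0 := by
          have : ((t * t : Fˣ) : F) = 1 := by rw [ht]; rfl
          rw [Units.val_mul] at this
          linear_combination this
        rcases mul_eq_zero.1 h1 with h | h
        · left
          exact Units.ext (by simpa using sub_eq_zero.1 h)
        · right
          apply Units.ext
          rw [Units.val_neg, Units.val_one]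
          exact eq_neg_of_add_eq_zero_left h
      have hmid : ρ (hT D t) ∘ₗ φ ∘ₗ ρΩ (hT D t⁻¹) = φ := by
        rcases ht' with rfl | rfl
        · rw [inv_one, hT_one, map_one, map_one]
          rfl
        · rw [inv_neg, inv_one, hT_neg_one, ← LinearMap.comp_assoc, ← hN, LinearMap.comp_assoc,
            comp_rho]
          have : (D.iS (-1) * D.iS (-1) : G) = 1 := by
            rw [← MonoidHom.map_mul]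
            have : ((-1 : Matrix.SpecialLinearGroup (Fin 2) F) * -1) = 1 := by
              simp
            rw [this, map_one]
          rw [this, map_one]
          rfl
      rw [hmid, hφ2, hφ1]
    · -- `a t² ≠ a`
      have hne : a * t * t ≠ a := by
        intro h
        apply ht
        apply Units.ext
        rw [Units.val_mul, Units.val_one]
        have h2 : a * ((t : F) * (t : F)) = a * 1 := by rw [mul_one, ← mul_assoc]; exact h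
        exact mul_left_cancel₀ ha h2
      have h1 : eZ D ρ ψ a ∘ₗ ρ (hT D t) = ρ (hT D t) ∘ₗ eZ D ρ ψ (a * t * t) :=
        (eZ_conj_torus D ρ ψ t a).symm
      have h2 : eZ D ρ ψ (a * t * t) ∘ₗ φ = 0 := by
        rw [← hφ1, ← LinearMap.comp_assoc]
        have : eZ D ρ ψ (a * t * t) ∘ₗ eZ D ρ ψ a = 0 := eZ_mul_of_ne D ρ ψ hψ hne
        rw [this, LinearMap.zero_comp]
      calc eZ D ρ ψ a ∘ₗ (ρ (hT D t) ∘ₗ φ ∘ₗ ρΩ (hT D t⁻¹)) ∘ₗ eZ D ρΩ ψ a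
          = (eZ D ρ ψ a ∘ₗ ρ (hT D t)) ∘ₗ φ ∘ₗ ρΩ (hT D t⁻¹) ∘ₗ eZ D ρΩ ψ a := by
            simp only [LinearMap.comp_assoc]
        _ = ρ (hT D t) ∘ₗ (eZ D ρ ψ (a * t * t) ∘ₗ φ) ∘ₗ ρΩ (hT D t⁻¹) ∘ₗ eZ D ρΩ ψ a := by
            rw [h1]; simp only [LinearMap.comp_assoc]
        _ = 0 := by rw [h2, LinearMap.zero_comp, LinearMap.comp_zero]
  rw [Finset.sum_congr rfl (fun t _ => hterm t), Finset.sum_ite, Finset.sum_const_zero, add_zero,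
    Finset.sum_const, Nat.cast_smul_eq_nsmul]

/-- unit C1', with A4 as hypotheses -/
theorem finrank_hHom_le_of [FiniteDimensional ℂ V] [FiniteDimensional ℂ Ω]
    (hψ : ψ ≠ 1) {a : F} (ha : a ≠ 0)
    (hG : ∀ φ ∈ hHom D ρ ρΩ ψ a, ∀ g : symplecticGroup (Fin m) F,
      φ ∘ₗ ρΩ (D.iG g) = ρ (D.iG g) ∘ₗ φ)
    (hN : ∀ φ ∈ hHom D ρ ρΩ ψ a, φ ∘ₗ ρΩ (D.iS (-1)) = ρ (D.iS (-1)) ∘ₗ φ) :
    finrank ℂ (hHom D ρ ρΩ ψ a) ≤ finrank ℂ ↥(homP D ρ ρΩ ⊓ killZ D (V := V) ρΩ ψ) := by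
  classical
  let f : hHom D ρ ρΩ ψ a →ₗ[ℂ] ↥(homP D ρ ρΩ ⊓ killZ D (V := V) ρΩ ψ) :=
    LinearMap.codRestrict _ ((tAv D ρ ρΩ).comp (hHom D ρ ρΩ ψ a).subtype) (by
      rintro ⟨φ, hφ⟩
      exact ⟨tAv_mem_homP D ρ ρΩ hφ.1 (hG φ hφ), tAv_mem_killZ D ρ ρΩ ψ hψ ha hφ⟩)
  apply LinearMap.finrank_le_finrank_of_injective (f := f)
  rw [← LinearMap.ker_eq_bot, LinearMap.ker_eq_bot']
  rintro ⟨φ, hφ⟩ h0
  have h1 : tAv D ρ ρΩ φ = 0 := by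
    have := congrArg Subtype.val h0
    simpa [f] using this
  have h2 := eZ_tAv_eZ D ρ ρΩ ψ hψ ha hφ (hN φ hφ)
  rw [h1, LinearMap.zero_comp, LinearMap.comp_zero] at h2
  have hcard : ((Finset.univ.filter (fun t : Fˣ => t * t = 1)).card : ℂ) ≠ 0 := by
    rw [Nat.cast_ne_zero]
    apply Finset.card_ne_zero.2
    exact ⟨1, by simp⟩
  have h3 : φ = 0 := by
    rcases smul_eq_zero.1 h2.symm with h | h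
    · exact absurd h hcard
    · exact h
  exact Subtype.ext h3

end abstract

end Cfsg.Agent.Lib.Helper1.SPW
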