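import Mathlib
import Cfsg.Agent.Lib.Helper1.SPWC1

set_option autoImplicit false
set_option linter.unusedSectionVars false
set_option linter.unusedVariables false
set_option linter.unnecessarySimpa false

/-!
Farm SPW, unit A4: `G'` centralises the Heisenberg intertwiners.
-/

namespace Cfsg.Agent.Lib.Helper1.SPW

open Matrix Cfsg Cfsg.Agent.Lib.Helper6.Wl Cfsg.Agent.Lib.Helper4
open Module

section heis
variable {m : ℕ} {F : Type*} [Field F]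

theorem Heis.ab_mul (b b' : Fin m → F) (s s' : F) :
    (Heis.ab b s : Heis m F) * Heis.ab b' s' = Heis.ab (b + b') (s + s') := by
  ext i
  · cases i <;> simp [Heis.ab]
  · have h1 : vb (Sum.elim b (0 : Fin m → F)) = 0 := rfl
    have h2 : vb (Sum.elim b' (0 : Fin m → F)) = 0 := rfl
    show s + s' + hcoef (Sum.elim b 0) (Sum.elim b' 0) = s + s'
    unfold hcoef
    rw [h1, h2]
    simp

theorem Heis.ab_eq (b : Fin m → F) (s : F) :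
    (Heis.ab b s : Heis m F) = Heis.ab b 0 * Heis.cen s := by
  rw [← Heis.ab_zero, Heis.ab_mul, add_zero, zero_add]

theorem Heis.ab_zero_zero : (Heis.ab (0 : Fin m → F) 0 : Heis m F) = 1 := by
  rw [Heis.ab_zero, Heis.cen_zero]

end heis

section abstract
variable {F : Type*} [Field F] [Fintype F] [DecidableEq F] {m : ℕ}
variable {G : Type*} [Group G]
variable (D : Datum F m G)
variable {V : Type*} [AddCommGroup V] [Module ℂ V]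
variable {Ω : Type*} [AddCommGroup Ω] [Module ℂ Ω]
variable (ρ : Representation ℂ G V) (ρΩ : Representation ℂ G Ω) (ψ : AddChar F ℂ)

/-- the projector of `A₀ = {iH (ab b 0)}` for the character `b ↦ ψ (2 d·b)` -/
noncomputable def pA (d : Fin m → F) : Module.End ℂ V :=
  ((Fintype.card (Fin m → F) : ℂ))⁻¹ • ∑ b : Fin m → F,
    ψ (-(2 * (d ⬝ᵥ b))) • ρ (D.iH (Heis.ab b 0))

theorem rho_ab_mul_pA (b' d : Fin m → F) :
    ρ (D.iH (Heis.ab b' 0)) * pA D ρ ψ d = ψ (2 * (d ⬝ᵥ b')) • pA D ρ ψ d := by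
  have key : ρ (D.iH (Heis.ab b' 0)) * ∑ b : Fin m → F,
      ψ (-(2 * (d ⬝ᵥ b))) • ρ (D.iH (Heis.ab b 0)) =
      ψ (2 * (d ⬝ᵥ b')) • ∑ b : Fin m → F, ψ (-(2 * (d ⬝ᵥ b))) • ρ (D.iH (Heis.ab b 0)) := by
    rw [Finset.mul_sum, Finset.smul_sum]
    refine Fintype.sum_equiv (Equiv.addLeft b')
      (fun b => ρ (D.iH (Heis.ab b' 0)) * (ψ (-(2 * (d ⬝ᵥ b))) • ρ (D.iH (Heis.ab b 0))))
      (fun b => ψ (2 * (d ⬝ᵥ b')) • (ψ (-(2 * (d ⬝ᵥ b))) • ρ (D.iH (Heis.ab b 0)))) ?_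
    intro b
    show ρ (D.iH (Heis.ab b' 0)) * (ψ (-(2 * (d ⬝ᵥ b))) • ρ (D.iH (Heis.ab b 0))) =
      ψ (2 * (d ⬝ᵥ b')) • (ψ (-(2 * (d ⬝ᵥ (b' + b)))) • ρ (D.iH (Heis.ab (b' + b) 0)))
    rw [mul_smul_comm, ← MonoidHom.map_mul ρ, ← MonoidHom.map_mul D.iH, Heis.ab_mul, add_zero,
      smul_smul]
    congr 1
    rw [← AddChar.map_add_eq_mul]
    congr 1
    rw [dotProduct_add]
    ring
  unfold pA
  rw [mul_smul_comm, key, smul_comm]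

theorem sum_pA (h2 : (2 : F) ≠ 0) (hψ : ψ ≠ 1) : ∑ d : Fin m → F, pA D ρ ψ d = 1 := by
  classical
  unfold pA
  rw [← Finset.smul_sum, Finset.sum_comm]
  have h : ∀ b : Fin m → F, ∑ d : Fin m → F, ψ (-(2 * (d ⬝ᵥ b))) • ρ (D.iH (Heis.ab b 0)) =
      if b = 0 then (Fintype.card (Fin m → F) : ℂ) • (1 : Module.End ℂ V) else 0 := by
    intro b
    rw [← Finset.sum_smul]
    split_ifs with hb
    · subst hb
      simp [Heis.ab_zero_zero]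
    · have hx : (-(2 : F)) • b ≠ 0 := smul_ne_zero (neg_ne_zero.2 h2) hb
      have h0 := sum_vec_psi_zero ψ hψ ((-(2 : F)) • b) hx
      have : ∑ d : Fin m → F, ψ (-(2 * (d ⬝ᵥ b))) = 0 := by
        rw [← h0]
        refine Finset.sum_congr rfl (fun d _ => ?_)
        congr 1
        rw [smul_dotProduct, dotProduct_comm, smul_eq_mul]
        ring
      rw [this, zero_smul]
  rw [Finset.sum_congr rfl (fun b _ => h b), Finset.sum_ite_eq' Finset.univ (0 : Fin m → F)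
    (fun _ => (Fintype.card (Fin m → F) : ℂ) • (1 : Module.End ℂ V)), if_pos (Finset.mem_univ _),
    smul_smul, inv_mul_cancel₀, one_smul]
  exact Nat.cast_ne_zero.2 Fintype.card_ne_zero

/-- a map commuting with `Heis` commutes with `pA` -/
theorem comm_pA {φ : Ω →ₗ[ℂ] V} (hφ : ∀ x : Heis m F, φ ∘ₗ ρΩ (D.iH x) = ρ (D.iH x) ∘ₗ φ)
    (d : Fin m → F) : φ ∘ₗ pA D ρΩ ψ d = pA D ρ ψ d ∘ₗ φ := by
  ext v
  simp only [pA, LinearMap.comp_apply, LinearMap.smul_apply, LinearMap.sum_apply, map_smul,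
    map_sum]
  congr 1
  refine Finset.sum_congr rfl (fun x _ => ?_)
  congr 1
  exact LinearMap.congr_fun (hφ (Heis.ab x 0)) v

/-- `pA d (eZ a v)` is an `A`-eigenvector with the character `(a, d)` -/
theorem pA_eZ_eigen (a : F) (d : Fin m → F) (v : V) (b : Fin m → F) (s : F) :
    ρ (D.iH (Heis.ab b s)) (pA D ρ ψ d (eZ D ρ ψ a v)) =
      ψ (a * s + 2 * (d ⬝ᵥ b)) • pA D ρ ψ d (eZ D ρ ψ a v) := by
  rw [Heis.ab_eq, ← Heis.cen_mul_comm, MonoidHom.map_mul D.iH, MonoidHom.map_mul ρ]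
  have h1 := LinearMap.congr_fun (rho_ab_mul_pA D ρ ψ b d) (eZ D ρ ψ a v)
  have h2 := LinearMap.congr_fun (rho_cen_mul_eZ D ρ ψ s a) v
  simp only [Module.End.mul_apply, LinearMap.smul_apply] at h1 h2 ⊢
  -- `cen s` commutes with `pA`
  have h3 : ρ (D.iH (Heis.cen s)) (ρ (D.iH (Heis.ab b 0)) (pA D ρ ψ d (eZ D ρ ψ a v))) =
      ρ (D.iH (Heis.ab b 0)) (pA D ρ ψ d (ρ (D.iH (Heis.cen s)) (eZ D ρ ψ a v))) := by
    have hc : ∀ w : V, ρ (D.iH (Heis.cen s)) (pA D ρ ψ d w) =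
        pA D ρ ψ d (ρ (D.iH (Heis.cen s)) w) := by
      intro w
      simp only [pA, LinearMap.smul_apply, LinearMap.sum_apply, map_smul, map_sum]
      congr 1
      refine Finset.sum_congr rfl (fun x _ => ?_)
      congr 1
      have := congrArg (fun g => ρ (D.iH g) w) (Heis.cen_mul_comm s (Heis.ab x 0))
      simpa [MonoidHom.map_mul] using this
    have hc2 : ∀ w : V, ρ (D.iH (Heis.cen s)) (ρ (D.iH (Heis.ab b 0)) w) =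
        ρ (D.iH (Heis.ab b 0)) (ρ (D.iH (Heis.cen s)) w) := by
      intro w
      have := congrArg (fun g => ρ (D.iH g) w) (Heis.cen_mul_comm s (Heis.ab b 0))
      simpa [MonoidHom.map_mul] using this
    rw [hc2, hc]
  rw [h3, h2, map_smul, map_smul, h1, smul_smul, ← AddChar.map_add_eq_mul]

/-- `Q'` commutes with the Heisenberg intertwiners -/
theorem hHom_comm_uQ (h2 : (2 : F) ≠ 0) (hψ : ψ ≠ 1) {a : F} (ha : a ≠ 0)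
    (rV : Rk1 D ρ ψ) (rΩ : Rk1 D ρΩ ψ) {φ : Ω →ₗ[ℂ] V} (hφ : φ ∈ hHom D ρ ρΩ ψ a)
    (S' : symAdd F m) :
    φ ∘ₗ ρΩ (D.iG (uQ S')) = ρ (D.iG (uQ S')) ∘ₗ φ := by
  have hφ1 : eZ D ρ ψ a ∘ₗ φ = φ := eZ_comp_of_mem_hHom D ρ ρΩ ψ hφ
  have hφ2 : φ ∘ₗ eZ D ρΩ ψ a = φ := hφ.2
  ext ω
  simp only [LinearMap.comp_apply]
  -- decompose `e_a ω`
  have hdec : ∀ w : Ω, eZ D ρΩ ψ a w = ∑ d : Fin m → F, pA D ρΩ ψ d (eZ D ρΩ ψ a w) := by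
    intro w
    have := LinearMap.congr_fun (sum_pA D ρΩ ψ h2 hψ) (eZ D ρΩ ψ a w)
    simp only [LinearMap.sum_apply, Module.End.one_apply] at this
    exact this.symm
  have hL : φ (ρΩ (D.iG (uQ S')) ω) =
      ∑ d : Fin m → F, ψ (a⁻¹ * (d ⬝ᵥ ((S' : Matrix (Fin m) (Fin m) F) *ᵥ d))) •
        φ (pA D ρΩ ψ d (eZ D ρΩ ψ a ω)) := by
    have e1 : φ (ρΩ (D.iG (uQ S')) ω) = φ (eZ D ρΩ ψ a (ρΩ (D.iG (uQ S')) ω)) :=
      (LinearMap.congr_fun hφ2 _).symm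
    have e2 : eZ D ρΩ ψ a (ρΩ (D.iG (uQ S')) ω) = ρΩ (D.iG (uQ S')) (eZ D ρΩ ψ a ω) :=
      (LinearMap.congr_fun (eZ_comm_iG D ρΩ ψ (uQ S') a) ω).symm
    rw [e1, e2]
    conv_lhs => rw [hdec ω, map_sum, map_sum]
    refine Finset.sum_congr rfl (fun d _ => ?_)
    rw [rΩ.1 a d _ ha (pA_eZ_eigen D ρΩ ψ a d ω) S', map_smul]
  have hR : ρ (D.iG (uQ S')) (φ ω) =
      ∑ d : Fin m → F, ψ (a⁻¹ * (d ⬝ᵥ ((S' : Matrix (Fin m) (Fin m) F) *ᵥ d))) •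
        φ (pA D ρΩ ψ d (eZ D ρΩ ψ a ω)) := by
    have e1 : φ ω = φ (eZ D ρΩ ψ a ω) := (LinearMap.congr_fun hφ2 ω).symm
    have e3 : ∀ d, φ (pA D ρΩ ψ d (eZ D ρΩ ψ a ω)) = pA D ρ ψ d (eZ D ρ ψ a (φ ω)) := by
      intro d
      have h3 := LinearMap.congr_fun (comm_pA D ρ ρΩ ψ hφ.1 d) (eZ D ρΩ ψ a ω)
      simp only [LinearMap.comp_apply] at h3
      rw [h3, ← e1]
      congr 1
      exact (LinearMap.congr_fun hφ1 ω).symm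
    conv_lhs => rw [e1, hdec ω, map_sum, map_sum]
    refine Finset.sum_congr rfl (fun d _ => ?_)
    rw [e3 d, rV.1 a d _ ha (pA_eZ_eigen D ρ ψ a d (φ ω)) S']
  rw [hL, hR]

/-- conjugation by `iG g` on `Hom(Ω, V)` -/
noncomputable def cG (g : symplecticGroup (Fin m) F) : (Ω →ₗ[ℂ] V) →ₗ[ℂ] (Ω →ₗ[ℂ] V) where
  toFun φ := ρ (D.iG g) ∘ₗ φ ∘ₗ ρΩ (D.iG g⁻¹)
  map_add' φ φ' := by
    rw [LinearMap.add_comp, LinearMap.comp_add]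
  map_smul' c φ := by
    rw [RingHom.id_apply, LinearMap.smul_comp, LinearMap.comp_smul]

theorem cG_apply (g : symplecticGroup (Fin m) F) (φ : Ω →ₗ[ℂ] V) :
    cG D ρ ρΩ g φ = ρ (D.iG g) ∘ₗ φ ∘ₗ ρΩ (D.iG g⁻¹) := rfl

/-- the action of `G'` on `Heis` -/
def gAct (g : symplecticGroup (Fin m) F) (x : Heis m F) : Heis m F :=
  ⟨(g : Matrix (Fin m ⊕ Fin m) (Fin m ⊕ Fin m) F) *ᵥ x.w, x.s⟩

theorem iG_iH (g : symplecticGroup (Fin m) F) (x : Heis m F) :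
    D.iG g * D.iH x = D.iH (gAct g x) * D.iG g :=
  mul_inv_eq_iff_eq_mul.mp (D.conjG g x)

theorem gAct_inv (g : symplecticGroup (Fin m) F) (x : Heis m F) : gAct g (gAct g⁻¹ x) = x := by
  ext i
  · simp only [gAct]
    rw [Matrix.mulVec_mulVec, ← Submonoid.coe_mul, mul_inv_cancel, Submonoid.coe_one,
      Matrix.one_mulVec]
  · rfl

theorem cG_mem_hHom {a : F} (g : symplecticGroup (Fin m) F) {φ : Ω →ₗ[ℂ] V}
    (hφ : φ ∈ hHom D ρ ρΩ ψ a) : cG D ρ ρΩ g φ ∈ hHom D ρ ρΩ ψ a := by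
  refine ⟨?_, ?_⟩
  · intro x
    have h1 : D.iG g⁻¹ * D.iH x = D.iH (gAct g⁻¹ x) * D.iG g⁻¹ := iG_iH D g⁻¹ x
    have h2 : D.iH x * D.iG g = D.iG g * D.iH (gAct g⁻¹ x) := by
      rw [iG_iH, gAct_inv]
    rw [cG_apply]
    calc (ρ (D.iG g) ∘ₗ φ ∘ₗ ρΩ (D.iG g⁻¹)) ∘ₗ ρΩ (D.iH x)
        = ρ (D.iG g) ∘ₗ φ ∘ₗ (ρΩ (D.iG g⁻¹) ∘ₗ ρΩ (D.iH x)) := by
          simp only [LinearMap.comp_assoc]
      _ = ρ (D.iG g) ∘ₗ φ ∘ₗ (ρΩ (D.iH (gAct g⁻¹ x)) ∘ₗ ρΩ (D.iG g⁻¹)) := by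
          rw [comp_rho, h1, ← comp_rho]
      _ = ρ (D.iG g) ∘ₗ (φ ∘ₗ ρΩ (D.iH (gAct g⁻¹ x))) ∘ₗ ρΩ (D.iG g⁻¹) := by
          simp only [LinearMap.comp_assoc]
      _ = ρ (D.iG g) ∘ₗ (ρ (D.iH (gAct g⁻¹ x)) ∘ₗ φ) ∘ₗ ρΩ (D.iG g⁻¹) := by rw [hφ.1]
      _ = (ρ (D.iG g) ∘ₗ ρ (D.iH (gAct g⁻¹ x))) ∘ₗ φ ∘ₗ ρΩ (D.iG g⁻¹) := by
          simp only [LinearMap.comp_assoc]
      _ = (ρ (D.iH x) ∘ₗ ρ (D.iG g)) ∘ₗ φ ∘ₗ ρΩ (D.iG g⁻¹) := by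
          rw [comp_rho, ← h2, ← comp_rho]
      _ = ρ (D.iH x) ∘ₗ ρ (D.iG g) ∘ₗ φ ∘ₗ ρΩ (D.iG g⁻¹) := by
          simp only [LinearMap.comp_assoc]
  · rw [cG_apply]
    have h1 : ρΩ (D.iG g⁻¹) ∘ₗ eZ D ρΩ ψ a = eZ D ρΩ ψ a ∘ₗ ρΩ (D.iG g⁻¹) :=
      eZ_comm_iG D ρΩ ψ g⁻¹ a
    calc (ρ (D.iG g) ∘ₗ φ ∘ₗ ρΩ (D.iG g⁻¹)) ∘ₗ eZ D ρΩ ψ a
        = ρ (D.iG g) ∘ₗ φ ∘ₗ (ρΩ (D.iG g⁻¹) ∘ₗ eZ D ρΩ ψ a) := by
          simp only [LinearMap.comp_assoc]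
      _ = ρ (D.iG g) ∘ₗ (φ ∘ₗ eZ D ρΩ ψ a) ∘ₗ ρΩ (D.iG g⁻¹) := by
          rw [h1]; simp only [LinearMap.comp_assoc]
      _ = _ := by rw [hφ.2]

/-- the representation of `G'` on `hHom` -/
noncomputable def repH (a : F) : Representation ℂ (symplecticGroup (Fin m) F)
    (hHom D ρ ρΩ ψ a) where
  toFun g := LinearMap.codRestrict _ ((cG D ρ ρΩ g).comp (hHom D ρ ρΩ ψ a).subtype)
    (fun φ => cG_mem_hHom D ρ ρΩ ψ g φ.2)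
  map_one' := by
    apply LinearMap.ext
    intro φ
    apply Subtype.ext
    show ((cG D ρ ρΩ 1 (φ : Ω →ₗ[ℂ] V)) : Ω →ₗ[ℂ] V) = φ
    rw [cG_apply, inv_one, map_one, map_one, map_one]
    rfl
  map_mul' g h := by
    apply LinearMap.ext
    intro φ
    apply Subtype.ext
    show ((cG D ρ ρΩ (g * h) (φ : Ω →ₗ[ℂ] V)) : Ω →ₗ[ℂ] V) =
      cG D ρ ρΩ g (cG D ρ ρΩ h (φ : Ω →ₗ[ℂ] V))
    rw [cG_apply, cG_apply, cG_apply, _root_.mul_inv_rev, MonoidHom.map_mul D.iG,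
      MonoidHom.map_mul D.iG, ← comp_rho, ← comp_rho]
    simp only [LinearMap.comp_assoc]

theorem repH_apply_coe (a : F) (g : symplecticGroup (Fin m) F) (φ : hHom D ρ ρΩ ψ a) :
    ((repH D ρ ρΩ ψ a g φ : hHom D ρ ρΩ ψ a) : Ω →ₗ[ℂ] V) =
      ρ (D.iG g) ∘ₗ (φ : Ω →ₗ[ℂ] V) ∘ₗ ρΩ (D.iG g⁻¹) := rfl

/-- unit A4 -/
theorem hHom_comm_iG [FiniteDimensional ℂ V] [FiniteDimensional ℂ Ω]
    (hm : 0 < m) (hodd : Odd (Fintype.card F)) (hψ : ψ ≠ 1) {a : F} (ha : a ≠ 0)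
    (rV : Rk1 D ρ ψ) (rΩ : Rk1 D ρΩ ψ) {φ : Ω →ₗ[ℂ] V} (hφ : φ ∈ hHom D ρ ρΩ ψ a)
    (g : symplecticGroup (Fin m) F) :
    φ ∘ₗ ρΩ (D.iG g) = ρ (D.iG g) ∘ₗ φ := by
  have h2 : (2 : F) ≠ 0 := by
    intro h
    have hchar : ringChar F = 2 := by
      apply (CharP.ringChar_of_prime_eq_zero Nat.prime_two (by exact_mod_cast h))
    have := FiniteField.even_card_of_char_two hchar
    rcases hodd with ⟨k, hk⟩
    omega
  have htriv : ∀ S' : symAdd F m, repH D ρ ρΩ ψ a (uQ S') = 1 := by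
    intro S'
    apply LinearMap.ext
    intro φ'
    apply Subtype.ext
    rw [repH_apply_coe, Module.End.one_apply]
    have h := hHom_comm_uQ D ρ ρΩ ψ h2 hψ ha rV rΩ φ'.2 S'
    rw [← LinearMap.comp_assoc, ← h, LinearMap.comp_assoc, comp_rho, ← MonoidHom.map_mul,
      mul_inv_cancel, map_one, map_one]
    rfl
  have hall := rho_trivial_of_uQ (repH D ρ ρΩ ψ a) hm htriv g
  have h3 := congrArg (fun X => ((X ⟨φ, hφ⟩ : hHom D ρ ρΩ ψ a) : Ω →ₗ[ℂ] V)) hall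
  simp only [repH_apply_coe, Module.End.one_apply] at h3
  -- `ρ(g) φ ρΩ(g⁻¹) = φ`
  have h4 : (ρ (D.iG g) ∘ₗ φ ∘ₗ ρΩ (D.iG g⁻¹)) ∘ₗ ρΩ (D.iG g) = φ ∘ₗ ρΩ (D.iG g) := by
    rw [h3]
  rw [← h4]
  simp only [LinearMap.comp_assoc]
  rw [comp_rho, ← MonoidHom.map_mul, inv_mul_cancel, map_one, map_one]
  rfl

/-- `iS (-1) = z₀ (iG negSp)⁻¹` -/
theorem hHom_comm_negS [FiniteDimensional ℂ V] [FiniteDimensional ℂ Ω]
    (hm : 0 < m) (hodd : Odd (Fintype.card F)) (hψ : ψ ≠ 1) {a : F} (ha : a ≠ 0)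
    (rV : Rk1 D ρ ψ) (rΩ : Rk1 D ρΩ ψ) (s : ℂ)
    (hsV : ρ (D.iS (-1) * D.iG negSp) = s • 1) (hsΩ : ρΩ (D.iS (-1) * D.iG negSp) = s • 1)
    {φ : Ω →ₗ[ℂ] V} (hφ : φ ∈ hHom D ρ ρΩ ψ a) :
    φ ∘ₗ ρΩ (D.iS (-1)) = ρ (D.iS (-1)) ∘ₗ φ := by
  have hG := hHom_comm_iG D ρ ρΩ ψ hm hodd hψ ha rV rΩ hφ (negSp⁻¹)
  have e1 : ∀ (r : Representation ℂ G V), r (D.iS (-1)) =
      r (D.iS (-1) * D.iG negSp) ∘ₗ r (D.iG negSp⁻¹) := by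
    intro r
    rw [comp_rho, mul_assoc, ← MonoidHom.map_mul, mul_inv_cancel, map_one, mul_one]
  have e2 : ∀ (r : Representation ℂ G Ω), r (D.iS (-1)) =
      r (D.iS (-1) * D.iG negSp) ∘ₗ r (D.iG negSp⁻¹) := by
    intro r
    rw [comp_rho, mul_assoc, ← MonoidHom.map_mul, mul_inv_cancel, map_one, mul_one]
  rw [e1 ρ, e2 ρΩ, hsV, hsΩ]
  ext v
  simp only [LinearMap.comp_apply, LinearMap.smul_apply, Module.End.one_apply, map_smul]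
  congr 1
  exact LinearMap.congr_fun hG v

end abstract

end Cfsg.Agent.Lib.Helper1.SPW
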