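import Mathlib
import Cfsg.Agent.Lib.Helper1.SPWA1
import Cfsg.Agent.Lib.Helper6.WlH
import Cfsg.Agent.Lib.Helper6.SPWR

set_option autoImplicit false
set_option linter.unusedSectionVars false
set_option linter.unusedVariables false
set_option linter.unnecessarySimpa false
set_option linter.unusedSimpArgs false

/-!
Farm SPW, units Br: from the `Q`-spectrum of a module of `Sp_{2(m+1)}(F)` to the datum.
-/

namespace Cfsg.Agent.Lib.Helper1.SPW

open Matrix Cfsg Cfsg.Agent.Lib.Helper6.Wl Cfsg.Agent.Lib.Helper4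
open Module

section traces
variable {F : Type*} [Field F] {m : ℕ}

theorem symRow_apply_00 (b : Fin m → F) (s : F) :
    (symRow b s : Matrix (Fin (m + 1)) (Fin (m + 1)) F) 0 0 = s := rfl
theorem symRow_apply_0s (b : Fin m → F) (s : F) (j : Fin m) :
    (symRow b s : Matrix (Fin (m + 1)) (Fin (m + 1)) F) 0 j.succ = b j := by
  simp [symRow]
theorem symRow_apply_s0 (b : Fin m → F) (s : F) (i : Fin m) :
    (symRow b s : Matrix (Fin (m + 1)) (Fin (m + 1)) F) i.succ 0 = b i := by
  simp [symRow]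
theorem symRow_apply_ss (b : Fin m → F) (s : F) (i j : Fin m) :
    (symRow b s : Matrix (Fin (m + 1)) (Fin (m + 1)) F) i.succ j.succ = 0 := by
  simp [symRow]

theorem symEmb_apply_00 (S' : symAdd F m) :
    (symEmb S' : Matrix (Fin (m + 1)) (Fin (m + 1)) F) 0 0 = 0 := rfl
theorem symEmb_apply_0s (S' : symAdd F m) (j : Fin m) :
    (symEmb S' : Matrix (Fin (m + 1)) (Fin (m + 1)) F) 0 j.succ = 0 := by
  simp [symEmb]
theorem symEmb_apply_s0 (S' : symAdd F m) (i : Fin m) :
    (symEmb S' : Matrix (Fin (m + 1)) (Fin (m + 1)) F) i.succ 0 = 0 := by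
  simp [symEmb]
theorem symEmb_apply_ss (S' : symAdd F m) (i j : Fin m) :
    (symEmb S' : Matrix (Fin (m + 1)) (Fin (m + 1)) F) i.succ j.succ =
      (S' : Matrix (Fin m) (Fin m) F) i j := by
  simp [symEmb]

/-- `tr (T · symRow b s) = T₀₀ s + 2 ∑ T₀ⱼ bⱼ` for symmetric `T` -/
theorem trace_mul_symRow (T : symAdd F (m + 1)) (b : Fin m → F) (s : F) :
    Matrix.trace ((T : Matrix (Fin (m + 1)) (Fin (m + 1)) F) *
      (symRow b s : Matrix (Fin (m + 1)) (Fin (m + 1)) F)) =
      (T : Matrix (Fin (m + 1)) (Fin (m + 1)) F) 0 0 * s +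
        2 * ∑ j : Fin m, (T : Matrix (Fin (m + 1)) (Fin (m + 1)) F) 0 j.succ * b j := by
  have hT : ∀ i j, (T : Matrix (Fin (m + 1)) (Fin (m + 1)) F) i j =
      (T : Matrix (Fin (m + 1)) (Fin (m + 1)) F) j i := by
    intro i j
    have := congrFun (congrFun (symAdd_transpose T) j) i
    simpa [Matrix.transpose_apply] using this
  simp only [Matrix.trace, Matrix.diag_apply, Matrix.mul_apply, Fin.sum_univ_succ,
    symRow_apply_00, symRow_apply_0s, symRow_apply_s0, symRow_apply_ss, mul_zero,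
    Finset.sum_const_zero, add_zero]
  rw [two_mul, add_assoc]
  congr 2
  refine Finset.sum_congr rfl (fun j _ => ?_)
  rw [hT]

/-- `tr (T · symEmb S') = ∑ T_{i+1,j+1} S'_{ji}` -/
theorem trace_mul_symEmb (T : symAdd F (m + 1)) (S' : symAdd F m) :
    Matrix.trace ((T : Matrix (Fin (m + 1)) (Fin (m + 1)) F) *
      (symEmb S' : Matrix (Fin (m + 1)) (Fin (m + 1)) F)) =
      ∑ i : Fin m, ∑ j : Fin m, (T : Matrix (Fin (m + 1)) (Fin (m + 1)) F) i.succ j.succ *
        (S' : Matrix (Fin m) (Fin m) F) j i := by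
  simp only [Matrix.trace, Matrix.diag_apply, Matrix.mul_apply, Fin.sum_univ_succ,
    symEmb_apply_00, symEmb_apply_0s, symEmb_apply_s0, symEmb_apply_ss, mul_zero,
    Finset.sum_const_zero, add_zero, zero_add]

end traces

section bridge
variable {F : Type*} [Field F] [Fintype F] [DecidableEq F]
variable {m : ℕ} (D : Datum F m (symplecticGroup (Fin (m + 1)) F))
variable {V : Type*} [AddCommGroup V] [Module ℂ V] [FiniteDimensional ℂ V]
variable (ρ : Representation ℂ (symplecticGroup (Fin (m + 1)) F) V) (ψ : AddChar F ℂ)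

theorem two_ne_zero_of_odd (hodd : Odd (Fintype.card F)) : (2 : F) ≠ 0 := by
  intro h
  have hchar : ringChar F = 2 := by
    apply (CharP.ringChar_of_prime_eq_zero Nat.prime_two (by exact_mod_cast h))
  have := FiniteField.even_card_of_char_two hchar
  rcases hodd with ⟨k, hk⟩
  omega

/-- spectral decomposition of `ρ (uQ S)` -/
theorem rho_uQ_eq_sum (h2 : (2 : F) ≠ 0) (hψ : ψ ≠ 1) (S : symAdd F (m + 1)) :
    ρ (uQ S) = ∑ T : symAdd F (m + 1),
      ψ (Matrix.trace ((T : Matrix (Fin (m + 1)) (Fin (m + 1)) F) *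
        (S : Matrix (Fin (m + 1)) (Fin (m + 1)) F))) • eT ρ ψ T := by
  calc ρ (uQ S) = ρ (uQ S) * ∑ T : symAdd F (m + 1), eT ρ ψ T := by
        rw [sum_eT ρ ψ h2 hψ, mul_one]
    _ = _ := by
        rw [Finset.mul_sum]
        exact Finset.sum_congr rfl (fun T _ => rho_mul_eT ρ ψ S T)

/-- Br2 -/
theorem eZ_eq_sum_eT (hodd : Odd (Fintype.card F)) (hψ : ψ ≠ 1)
    (h1 : ∀ (b : Fin m → F) (s : F), D.iH (Heis.ab b s) = uQ (symRow b s)) (a : F) :
    eZ D ρ ψ a = ∑ T : symAdd F (m + 1),
      if (T : Matrix (Fin (m + 1)) (Fin (m + 1)) F) 0 0 = a then eT ρ ψ T else 0 := by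
  classical
  have h2 := two_ne_zero_of_odd hodd
  have hcen : ∀ x : F, ρ (D.iH (Heis.cen x)) = ∑ T : symAdd F (m + 1),
      ψ ((T : Matrix (Fin (m + 1)) (Fin (m + 1)) F) 0 0 * x) • eT ρ ψ T := by
    intro x
    rw [← Heis.ab_zero, h1, rho_uQ_eq_sum ρ ψ h2 hψ]
    refine Finset.sum_congr rfl (fun T _ => ?_)
    rw [trace_mul_symRow]
    simp
  unfold eZ
  simp_rw [hcen, Finset.smul_sum, smul_smul]
  rw [Finset.sum_comm]
  refine Finset.sum_congr rfl (fun T _ => ?_)
  rw [← Finset.sum_smul, ← Finset.mul_sum]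
  have hsum : ∑ x : F, ψ (-(a * x)) * ψ ((T : Matrix (Fin (m + 1)) (Fin (m + 1)) F) 0 0 * x) =
      if (T : Matrix (Fin (m + 1)) (Fin (m + 1)) F) 0 0 = a then (Fintype.card F : ℂ) else 0 := by
    have e : ∀ x : F, ψ (-(a * x)) * ψ ((T : Matrix (Fin (m + 1)) (Fin (m + 1)) F) 0 0 * x) =
        ψ (((T : Matrix (Fin (m + 1)) (Fin (m + 1)) F) 0 0 - a) * x) := by
      intro x
      rw [← AddChar.map_add_eq_mul]
      congr 1
      ring
    rw [Finset.sum_congr rfl (fun x _ => e x)]
    split_ifs with h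
    · rw [h, sub_self]
      simp
    · exact sum_psi_mul_eq_zero ψ hψ (sub_ne_zero.2 h)
  rw [hsum]
  split_ifs with h
  · rw [inv_mul_cancel₀ (Nat.cast_ne_zero.2 Fintype.card_ne_zero), one_smul]
  · rw [mul_zero, zero_smul]

theorem psi_mul_eq_one_imp (hψ : ψ ≠ 1) (c : F) (h : ∀ s : F, ψ (c * s) = 1) : c = 0 := by
  by_contra hc
  apply hψ
  ext x
  have := h (c⁻¹ * x)
  rw [mul_inv_cancel_left₀ hc] at this
  simpa using this

theorem eT_comm_rho (S T : symAdd F (m + 1)) :
    eT ρ ψ T * ρ (uQ S) = ρ (uQ S) * eT ρ ψ T := by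
  unfold eT
  rw [smul_mul_assoc, mul_smul_comm, Finset.sum_mul, Finset.mul_sum]
  congr 1
  refine Finset.sum_congr rfl (fun S' _ => ?_)
  rw [smul_mul_assoc, mul_smul_comm, ← MonoidHom.map_mul ρ, ← MonoidHom.map_mul ρ, ← uQ_add,
    ← uQ_add, add_comm S' S]

/-- the first row of a `T` in the support of an `A`-eigenvector -/
theorem row_of_component (hodd : Odd (Fintype.card F)) (hψ : ψ ≠ 1) (a : F) (d : Fin m → F)
    (v : V)
    (hv : ∀ (b : Fin m → F) (s : F), ρ (uQ (symRow b s)) v = ψ (a * s + 2 * (d ⬝ᵥ b)) • v)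
    (T : symAdd F (m + 1)) (hT : eT ρ ψ T v ≠ 0) :
    (T : Matrix (Fin (m + 1)) (Fin (m + 1)) F) 0 0 = a ∧
      ∀ j : Fin m, (T : Matrix (Fin (m + 1)) (Fin (m + 1)) F) 0 j.succ = d j := by
  classical
  have h2 := two_ne_zero_of_odd hodd
  have key : ∀ (b : Fin m → F) (s : F),
      ψ ((T : Matrix (Fin (m + 1)) (Fin (m + 1)) F) 0 0 * s +
        2 * ∑ j : Fin m, (T : Matrix (Fin (m + 1)) (Fin (m + 1)) F) 0 j.succ * b j) =
      ψ (a * s + 2 * (d ⬝ᵥ b)) := by
    intro b s
    have e1 : ρ (uQ (symRow b s)) (eT ρ ψ T v) =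
        ψ (Matrix.trace ((T : Matrix (Fin (m + 1)) (Fin (m + 1)) F) *
          (symRow b s : Matrix (Fin (m + 1)) (Fin (m + 1)) F))) • eT ρ ψ T v := by
      have := LinearMap.congr_fun (rho_mul_eT ρ ψ (symRow b s) T) v
      simpa using this
    have e2 : ρ (uQ (symRow b s)) (eT ρ ψ T v) = ψ (a * s + 2 * (d ⬝ᵥ b)) • eT ρ ψ T v := by
      have := LinearMap.congr_fun (eT_comm_rho ρ ψ (symRow b s) T) v
      simp only [Module.End.mul_apply] at this
      rw [← this, hv b s, map_smul]
    rw [e1, trace_mul_symRow] at e2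
    by_contra hne
    apply hT
    have : (ψ ((T : Matrix (Fin (m + 1)) (Fin (m + 1)) F) 0 0 * s +
        2 * ∑ j : Fin m, (T : Matrix (Fin (m + 1)) (Fin (m + 1)) F) 0 j.succ * b j) -
        ψ (a * s + 2 * (d ⬝ᵥ b))) • eT ρ ψ T v = 0 := by
      rw [sub_smul, e2, sub_self]
    rcases smul_eq_zero.1 this with h | h
    · exact absurd (sub_eq_zero.1 h) hne
    · exact h
  refine ⟨?_, fun j => ?_⟩
  · have h0 : ∀ s : F, ψ (((T : Matrix (Fin (m + 1)) (Fin (m + 1)) F) 0 0 - a) * s) = 1 := by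
      intro s
      have := key 0 s
      simp only [Pi.zero_apply, mul_zero, Finset.sum_const_zero, add_zero, dotProduct_zero] at this
      rw [sub_mul, sub_eq_add_neg, AddChar.map_add_eq_mul, AddChar.map_neg_eq_inv, this,
        mul_inv_cancel₀ (psi_ne_zero ψ _)]
    exact sub_eq_zero.1 (psi_mul_eq_one_imp ψ hψ _ h0)
  · have h0 : ∀ t : F, ψ ((2 * ((T : Matrix (Fin (m + 1)) (Fin (m + 1)) F) 0 j.succ - d j)) * t)
        = 1 := by
      intro t
      have := key (Pi.single j t) 0
      simp only [mul_zero, zero_add, dotProduct_single, Pi.single_apply, mul_ite,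
        Finset.sum_ite_eq', Finset.mem_univ, if_true] at this
      have e : (2 * ((T : Matrix (Fin (m + 1)) (Fin (m + 1)) F) 0 j.succ - d j)) * t =
          2 * ((T : Matrix (Fin (m + 1)) (Fin (m + 1)) F) 0 j.succ * t) + -(2 * (d j * t)) := by
        ring
      rw [e, AddChar.map_add_eq_mul, AddChar.map_neg_eq_inv, this,
        mul_inv_cancel₀ (psi_ne_zero ψ _)]
    have := psi_mul_eq_one_imp ψ hψ _ h0
    rcases mul_eq_zero.1 this with h | h
    · exact absurd h h2
    · exact sub_eq_zero.1 h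

theorem sum_eT_apply (h2 : (2 : F) ≠ 0) (hψ : ψ ≠ 1) (v : V) :
    ∑ T : symAdd F (m + 1), eT ρ ψ T v = v := by
  have := LinearMap.congr_fun (sum_eT ρ ψ h2 hψ) v
  simpa [LinearMap.sum_apply] using this

theorem rho_uQ_eT_apply (S T : symAdd F (m + 1)) (v : V) :
    ρ (uQ S) (eT ρ ψ T v) =
      ψ (Matrix.trace ((T : Matrix (Fin (m + 1)) (Fin (m + 1)) F) *
        (S : Matrix (Fin (m + 1)) (Fin (m + 1)) F))) • eT ρ ψ T v := by
  have := LinearMap.congr_fun (rho_mul_eT ρ ψ S T) v
  simpa using this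

/-- Br1 -/
theorem rk1_of_spectrum (hodd : Odd (Fintype.card F)) (hψ : ψ ≠ 1)
    (h1 : ∀ (b : Fin m → F) (s : F), D.iH (Heis.ab b s) = uQ (symRow b s))
    (h2 : ∀ S' : symAdd F m, D.iG (uQ S') = uQ (symEmb S'))
    (hsp : ∀ T : symAdd F (m + 1), eT ρ ψ T ≠ 0 →
      ∃ (c : F) (x : Fin (m + 1) → F),
        (T : Matrix (Fin (m + 1)) (Fin (m + 1)) F) = c • vecMulVec x x) :
    Rk1 D ρ ψ := by
  classical
  have h2F := two_ne_zero_of_odd hodd
  refine ⟨?_, ?_⟩
  · intro a d v ha hv S'
    have hv' : ∀ (b : Fin m → F) (s : F),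
        ρ (uQ (symRow b s)) v = ψ (a * s + 2 * (d ⬝ᵥ b)) • v := by
      intro b s
      rw [← h1]
      exact hv b s
    rw [h2]
    have hcomp : ∀ T : symAdd F (m + 1), ρ (uQ (symEmb S')) (eT ρ ψ T v) =
        ψ (a⁻¹ * (d ⬝ᵥ ((S' : Matrix (Fin m) (Fin m) F) *ᵥ d))) • eT ρ ψ T v := by
      intro T
      by_cases hT : eT ρ ψ T v = 0
      · rw [hT, map_zero, smul_zero]
      · obtain ⟨h00, h0j⟩ := row_of_component ρ ψ hodd hψ a d v hv' T hT
        have hne : eT ρ ψ T ≠ 0 := by
          intro h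
          apply hT
          rw [h]
          rfl
        obtain ⟨c, x, hcx⟩ := hsp T hne
        have hent : ∀ i j : Fin m, (T : Matrix (Fin (m + 1)) (Fin (m + 1)) F) i.succ j.succ =
            a⁻¹ * (d i * d j) := by
          intro i j
          have e00 : c * (x 0 * x 0) = a := by
            rw [← h00, hcx]; simp [vecMulVec_apply]
          have e0i : c * (x 0 * x i.succ) = d i := by
            rw [← h0j i, hcx]; simp [vecMulVec_apply]
          have e0j : c * (x 0 * x j.succ) = d j := by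
            rw [← h0j j, hcx]; simp [vecMulVec_apply]
          rw [hcx]
          simp only [Matrix.smul_apply, vecMulVec_apply, smul_eq_mul]
          rw [← e0i, ← e0j, ← e00]
          have hc0 : c * (x 0 * x 0) ≠ 0 := by rw [e00]; exact ha
          have hx0 : x 0 ≠ 0 := by
            intro h
            apply hc0
            rw [h]
            ring
          have hc : c ≠ 0 := by
            intro h
            apply hc0
            rw [h]
            ring
          field_simp
        rw [rho_uQ_eT_apply, trace_mul_symEmb]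
        congr 2
        simp_rw [hent]
        rw [dotProduct, Finset.mul_sum, Finset.sum_comm]
        refine Finset.sum_congr rfl (fun j _ => ?_)
        rw [Matrix.mulVec, dotProduct, Finset.mul_sum, Finset.mul_sum]
        refine Finset.sum_congr rfl (fun i _ => ?_)
        ring
    calc ρ (uQ (symEmb S')) v = ρ (uQ (symEmb S')) (∑ T : symAdd F (m + 1), eT ρ ψ T v) := by
          rw [sum_eT_apply ρ ψ h2F hψ]
      _ = ∑ T : symAdd F (m + 1),
            ψ (a⁻¹ * (d ⬝ᵥ ((S' : Matrix (Fin m) (Fin m) F) *ᵥ d))) • eT ρ ψ T v := by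
          rw [map_sum]
          exact Finset.sum_congr rfl (fun T _ => hcomp T)
      _ = _ := by rw [← Finset.smul_sum, sum_eT_apply ρ ψ h2F hψ]
  · intro v hv b
    have hv' : ∀ (b : Fin m → F) (s : F),
        ρ (uQ (symRow 0 s)) v = ψ (0 * s + 2 * ((0 : Fin m → F) ⬝ᵥ b)) • v := by
      intro b s
      rw [← h1, Heis.ab_zero, hv s]
      simp
    rw [h1]
    have hcomp : ∀ T : symAdd F (m + 1), ρ (uQ (symRow b 0)) (eT ρ ψ T v) = eT ρ ψ T v := by
      intro T
      by_cases hT : eT ρ ψ T v = 0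
      · rw [hT, map_zero]
      · -- `T₀₀ = 0`
        have h00 : (T : Matrix (Fin (m + 1)) (Fin (m + 1)) F) 0 0 = 0 := by
          have key : ∀ s : F, ψ ((T : Matrix (Fin (m + 1)) (Fin (m + 1)) F) 0 0 * s) = 1 := by
            intro s
            have e1 := rho_uQ_eT_apply ρ ψ (symRow 0 s) T v
            have e2 : ρ (uQ (symRow 0 s)) (eT ρ ψ T v) = eT ρ ψ T v := by
              have := LinearMap.congr_fun (eT_comm_rho ρ ψ (symRow 0 s) T) v
              simp only [Module.End.mul_apply] at this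
              rw [← this]
              congr 1
              have h3 := hv' 0 s
              simpa using h3
            rw [e1, trace_mul_symRow] at e2
            simp only [Pi.zero_apply, mul_zero, Finset.sum_const_zero, add_zero] at e2
            by_contra hne
            apply hT
            have : (ψ ((T : Matrix (Fin (m + 1)) (Fin (m + 1)) F) 0 0 * s) - 1) • eT ρ ψ T v = 0 := by
              rw [sub_smul, e2, one_smul, sub_self]
            rcases smul_eq_zero.1 this with h | h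
            · exact absurd (sub_eq_zero.1 h) hne
            · exact h
          exact psi_mul_eq_one_imp ψ hψ _ key
        have hne : eT ρ ψ T ≠ 0 := by
          intro h
          apply hT
          rw [h]
          rfl
        obtain ⟨c, x, hcx⟩ := hsp T hne
        have h0j : ∀ j : Fin m, (T : Matrix (Fin (m + 1)) (Fin (m + 1)) F) 0 j.succ = 0 := by
          intro j
          have e00 : c * (x 0 * x 0) = 0 := by
            rw [← h00, hcx]; simp [vecMulVec_apply]
          rw [hcx]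
          simp only [Matrix.smul_apply, vecMulVec_apply, smul_eq_mul]
          rcases mul_eq_zero.1 e00 with h | h
          · rw [h, zero_mul]
          · have : x 0 = 0 := by
              rcases mul_eq_zero.1 h with h' | h' <;> exact h'
            rw [this, zero_mul, mul_zero]
        rw [rho_uQ_eT_apply, trace_mul_symRow, h00]
        simp [h0j]
    calc ρ (uQ (symRow b 0)) v = ρ (uQ (symRow b 0)) (∑ T : symAdd F (m + 1), eT ρ ψ T v) := by
          rw [sum_eT_apply ρ ψ h2F hψ]
      _ = ∑ T : symAdd F (m + 1), eT ρ ψ T v := by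
          rw [map_sum]
          exact Finset.sum_congr rfl (fun T _ => hcomp T)
      _ = v := sum_eT_apply ρ ψ h2F hψ v

end bridge

end Cfsg.Agent.Lib.Helper1.SPW
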