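import Mathlib
import Cfsg.Agent.Lib.Helper1.SPWC1
import Cfsg.Agent.Lib.Helper6.CharBasic

set_option autoImplicit false
set_option linter.unusedSectionVars false
set_option linter.unusedVariables false
set_option linter.unnecessarySimpa false

/-!
Farm SPW, unit C0: the `B × G'`-maps killing the `Z₁`-fixed vectors.
-/

namespace Cfsg.Agent.Lib.Helper1.SPW

open Matrix Cfsg Cfsg.Agent.Lib.Helper6.Wl Cfsg.Agent.Lib.Helper4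
open Module

section abstract
variable {F : Type*} [Field F] [Fintype F] [DecidableEq F] {m : ℕ}
variable {G : Type*} [Group G]
variable [Fintype (symplecticGroup (Fin m) F)]
variable (D : Datum F m G)
variable {V : Type*} [AddCommGroup V] [Module ℂ V] [FiniteDimensional ℂ V]
variable {Ω : Type*} [AddCommGroup Ω] [Module ℂ Ω] [FiniteDimensional ℂ Ω]
variable (ρ : Representation ℂ G V) (ρΩ : Representation ℂ G Ω) (ψ : AddChar F ℂ)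

theorem iBG_one_left (g : symplecticGroup (Fin m) F) : D.iBG (1, g) = D.iG g := by
  rw [iBG_apply]
  simp

theorem iBG_torus (t : Fˣ) : D.iBG (mkB t 0, 1) = hT D t := by
  rw [iBG_apply, map_one, mul_one, mkB_coe]
  rfl

/-- `Φ ↦ Φ ∘ e_a` from `C₁` to `homE` -/
theorem cut_mem_homE {a : F} {Φ : Ω →ₗ[ℂ] V} (hΦ : Φ ∈ homK ρ ρΩ D.iBG) :
    Φ ∘ₗ eZ D ρΩ ψ a ∈ homE ρ ρΩ D.iG (eZ D ρ ψ a) (eZ D ρΩ ψ a) := by
  have hid : eZ D ρΩ ψ a ∘ₗ eZ D ρΩ ψ a = eZ D ρΩ ψ a := eZ_idem D ρΩ ψ a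
  refine ⟨?_, ?_, ?_⟩
  · intro g
    have h1 : eZ D ρΩ ψ a ∘ₗ ρΩ (D.iG g) = ρΩ (D.iG g) ∘ₗ eZ D ρΩ ψ a :=
      (eZ_comm_iG D ρΩ ψ g a).symm
    have h2 := hΦ (1, g)
    rw [iBG_one_left] at h2
    rw [LinearMap.comp_assoc, h1, ← LinearMap.comp_assoc, h2, LinearMap.comp_assoc]
  · rw [LinearMap.comp_assoc, hid]
  · rw [← LinearMap.comp_assoc, ← homK_iBG_comm_eZ D ρ ρΩ ψ hΦ a, LinearMap.comp_assoc, hid]

theorem cut_injective (hψ : ψ ≠ 1) {a : F} (ha : a ≠ 0)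
    (hΩ' : ∀ a' : F, a' ≠ 0 → ¬ IsSquare (a' / a) → eZ D ρΩ ψ a' = 0)
    {Φ : Ω →ₗ[ℂ] V} (hΦ : Φ ∈ homK ρ ρΩ D.iBG) (hk : Φ ∈ killZ D (V := V) ρΩ ψ)
    (h0 : Φ ∘ₗ eZ D ρΩ ψ a = 0) : Φ = 0 := by
  have hk' : Φ ∘ₗ eZ D ρΩ ψ 0 = 0 := hk
  have hall : ∀ a' : F, Φ ∘ₗ eZ D ρΩ ψ a' = 0 := by
    intro a'
    by_cases ha' : a' = 0
    · rw [ha']; exact hk'
    by_cases hsq : IsSquare (a' / a)
    · obtain ⟨r, hr⟩ := hsq
      have hr0 : r ≠ 0 := by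
        rintro rfl
        rw [mul_zero] at hr
        exact (div_ne_zero ha' ha) hr
      have ha'' : a' = a * ((Units.mk0 r hr0 : Fˣ) : F) * ((Units.mk0 r hr0 : Fˣ) : F) := by
        rw [Units.val_mk0, mul_assoc, ← hr, mul_div_cancel₀ _ ha]
      set t : Fˣ := Units.mk0 r hr0
      have h1 : eZ D ρΩ ψ a' = ρΩ ((D.iS (mkSL t 0))⁻¹) ∘ₗ eZ D ρΩ ψ a ∘ₗ ρΩ (D.iS (mkSL t 0)) := by
        rw [ha'', eZ_torus_eq]
        rfl
      have h2 : Φ ∘ₗ ρΩ ((D.iS (mkSL t 0))⁻¹) = ρ ((D.iS (mkSL t 0))⁻¹) ∘ₗ Φ := by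
        have h3 := hΦ (mkB t⁻¹ 0, 1)
        rw [iBG_torus, hT_inv] at h3
        exact h3
      rw [h1, ← LinearMap.comp_assoc, h2, LinearMap.comp_assoc, ← LinearMap.comp_assoc _ _ Φ, h0,
        LinearMap.zero_comp, LinearMap.comp_zero]
    · rw [hΩ' a' ha' hsq, LinearMap.comp_zero]
  have hsum : (∑ a' : F, eZ D ρΩ ψ a') = 1 := sum_eZ D ρΩ ψ hψ
  have : Φ = Φ ∘ₗ (∑ a' : F, eZ D ρΩ ψ a') := by
    rw [hsum]; rfl
  rw [this]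
  ext v
  simp only [LinearMap.comp_apply, LinearMap.sum_apply, map_sum, LinearMap.zero_apply]
  refine Finset.sum_eq_zero (fun a' _ => ?_)
  exact LinearMap.congr_fun (hall a') v

/-- unit C0, with L0, A5, A5c, A7n as hypotheses -/
theorem finrank_C1_le_of (hψ : ψ ≠ 1) {a : F} (ha : a ≠ 0) (b : ℕ)
    (hL0 : (finrank ℂ (homE ρ ρΩ D.iG (eZ D ρ ψ a) (eZ D ρΩ ψ a)) : ℂ) =
      ((Fintype.card (symplecticGroup (Fin m) F) : ℂ))⁻¹ *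
        ∑ g : symplecticGroup (Fin m) F, LinearMap.trace ℂ V (ρ (D.iG g) * eZ D ρ ψ a) *
          LinearMap.trace ℂ Ω (ρΩ (D.iG g⁻¹) * eZ D ρΩ ψ a))
    (hA5 : ∀ g, chiA D ρ ψ a g = (b : ℂ) * chiA D ρΩ ψ a g)
    (hchar : IsCharacter (symplecticGroup (Fin m) F) (chiA D ρΩ ψ a))
    (hA7 : classInner (chiA D ρΩ ψ a) (chiA D ρΩ ψ a) = 2)
    (hΩ' : ∀ a' : F, a' ≠ 0 → ¬ IsSquare (a' / a) → eZ D ρΩ ψ a' = 0) :
    finrank ℂ ↥(homK ρ ρΩ D.iBG ⊓ killZ D (V := V) ρΩ ψ) ≤ 2 * b := by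
  classical
  -- the dimension of `homE`
  have hdim : finrank ℂ (homE ρ ρΩ D.iG (eZ D ρ ψ a) (eZ D ρΩ ψ a)) = 2 * b := by
    have hinv : ∀ g : symplecticGroup (Fin m) F,
        chiA D ρΩ ψ a g⁻¹ = (starRingEnd ℂ) (chiA D ρΩ ψ a g) := by
      obtain ⟨n, r, hr⟩ := hchar
      intro g
      rw [← hr]
      exact Cfsg.Agent.Lib.Helper6.character_inv r g
    have h1 : (finrank ℂ (homE ρ ρΩ D.iG (eZ D ρ ψ a) (eZ D ρΩ ψ a)) : ℂ) =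
        (b : ℂ) * classInner (chiA D ρΩ ψ a) (chiA D ρΩ ψ a) := by
      rw [hL0]
      have hs : ∑ g : symplecticGroup (Fin m) F, LinearMap.trace ℂ V (ρ (D.iG g) * eZ D ρ ψ a) *
          LinearMap.trace ℂ Ω (ρΩ (D.iG g⁻¹) * eZ D ρΩ ψ a) =
          (b : ℂ) * ∑ g : symplecticGroup (Fin m) F,
            chiA D ρΩ ψ a g * (starRingEnd ℂ) (chiA D ρΩ ψ a g) := by
        rw [Finset.mul_sum]
        refine Finset.sum_congr rfl (fun g _ => ?_)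
        have e1 : LinearMap.trace ℂ V (ρ (D.iG g) * eZ D ρ ψ a) = chiA D ρ ψ a g := rfl
        have e2 : LinearMap.trace ℂ Ω (ρΩ (D.iG g⁻¹) * eZ D ρΩ ψ a) = chiA D ρΩ ψ a g⁻¹ := rfl
        rw [e1, e2, hA5, hinv, mul_assoc]
      rw [hs]
      unfold classInner
      rw [Nat.card_eq_fintype_card]
      ring
    rw [hA7] at h1
    have : (finrank ℂ (homE ρ ρΩ D.iG (eZ D ρ ψ a) (eZ D ρΩ ψ a)) : ℂ) = ((2 * b : ℕ) : ℂ) := by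
      rw [h1]; push_cast; ring
    exact_mod_cast this
  rw [← hdim]
  let f : ↥(homK ρ ρΩ D.iBG ⊓ killZ D (V := V) ρΩ ψ) →ₗ[ℂ]
      homE ρ ρΩ D.iG (eZ D ρ ψ a) (eZ D ρΩ ψ a) :=
    LinearMap.codRestrict _
      ((LinearMap.lcomp ℂ V (eZ D ρΩ ψ a)).comp
        (homK ρ ρΩ D.iBG ⊓ killZ D (V := V) ρΩ ψ).subtype) (by
      rintro ⟨Φ, hΦ, hk⟩
      exact cut_mem_homE D ρ ρΩ ψ hΦ)
  apply LinearMap.finrank_le_finrank_of_injective (f := f)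
  rw [← LinearMap.ker_eq_bot, LinearMap.ker_eq_bot']
  rintro ⟨Φ, hΦ, hk⟩ h0
  have h1 : Φ ∘ₗ eZ D ρΩ ψ a = 0 := by
    have := congrArg Subtype.val h0
    exact this
  exact Subtype.ext (cut_injective D ρ ρΩ ψ hψ ha hΩ' hΦ hk h1)

end abstract

end Cfsg.Agent.Lib.Helper1.SPW
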