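import Mathlib
import Cfsg.Agent.Lib.Helper1.SPWDefs2

set_option autoImplicit false
set_option linter.unusedSectionVars false
set_option linter.unusedVariables false
set_option linter.unnecessarySimpa false

/-!
Farm SPW, unit G (part 1): the coordinates `(e₀, f₀ | e_j, f_j)` on `F^{2(m+1)}` and the block
matrices in these coordinates.
-/

namespace Cfsg.Agent.Lib.Helper1.SPW

open Matrix Cfsg Cfsg.Agent.Lib.Helper6.Wl Cfsg.Agent.Lib.Helper4

section coords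
variable {m : ℕ}

/-- `(e₀, …, e_m | f₀, …, f_m) ≃ (e₀, f₀ | e₁ … e_m | f₁ … f_m)` -/
def sig (m : ℕ) : Fin (m + 1) ⊕ Fin (m + 1) ≃ Fin 2 ⊕ (Fin m ⊕ Fin m) where
  toFun := Sum.elim (Fin.cases (Sum.inl 0) (fun i => Sum.inr (Sum.inl i)))
    (Fin.cases (Sum.inl 1) (fun i => Sum.inr (Sum.inr i)))
  invFun := Sum.elim (fun j => if j = 0 then Sum.inl 0 else Sum.inr 0)
    (Sum.elim (fun i => Sum.inl i.succ) (fun i => Sum.inr i.succ))
  left_inv := by
    rintro (i | i)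
    · refine Fin.cases ?_ (fun i' => ?_) i <;> simp
    · refine Fin.cases ?_ (fun i' => ?_) i <;> simp
  right_inv := by
    rintro (j | (i | i))
    · fin_cases j <;> simp
    · simp
    · simp

@[simp] theorem sig_inl_zero : sig m (Sum.inl 0) = Sum.inl 0 := rfl
@[simp] theorem sig_inr_zero : sig m (Sum.inr 0) = Sum.inl 1 := rfl
@[simp] theorem sig_inl_succ (i : Fin m) : sig m (Sum.inl i.succ) = Sum.inr (Sum.inl i) := by
  simp [sig]
@[simp] theorem sig_inr_succ (i : Fin m) : sig m (Sum.inr i.succ) = Sum.inr (Sum.inr i) := by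
  simp [sig]

end coords

section mats
variable {F : Type*} [Field F] {m : ℕ}

/-- a matrix in the new coordinates, read in the old ones -/
def toM (N : Matrix (Fin 2 ⊕ (Fin m ⊕ Fin m)) (Fin 2 ⊕ (Fin m ⊕ Fin m)) F) :
    Matrix (Fin (m + 1) ⊕ Fin (m + 1)) (Fin (m + 1) ⊕ Fin (m + 1)) F :=
  N.submatrix (sig m) (sig m)

theorem toM_mul (N N' : Matrix (Fin 2 ⊕ (Fin m ⊕ Fin m)) (Fin 2 ⊕ (Fin m ⊕ Fin m)) F) :
    toM (N * N') = toM N * toM N' := by
  unfold toM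
  rw [Matrix.submatrix_mul_equiv]

theorem toM_one : toM (1 : Matrix (Fin 2 ⊕ (Fin m ⊕ Fin m)) (Fin 2 ⊕ (Fin m ⊕ Fin m)) F) = 1 := by
  unfold toM
  rw [Matrix.submatrix_one_equiv]

theorem toM_transpose (N : Matrix (Fin 2 ⊕ (Fin m ⊕ Fin m)) (Fin 2 ⊕ (Fin m ⊕ Fin m)) F) :
    toM Nᵀ = (toM N)ᵀ := by
  unfold toM
  rw [Matrix.transpose_submatrix]

theorem toM_neg (N : Matrix (Fin 2 ⊕ (Fin m ⊕ Fin m)) (Fin 2 ⊕ (Fin m ⊕ Fin m)) F) :
    toM (-N) = -toM N := by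
  unfold toM
  rw [Matrix.submatrix_neg]
  rfl

theorem toM_injective : Function.Injective
    (toM : Matrix (Fin 2 ⊕ (Fin m ⊕ Fin m)) (Fin 2 ⊕ (Fin m ⊕ Fin m)) F → _) := by
  intro N N' h
  ext i j
  have := congrFun (congrFun h ((sig m).symm i)) ((sig m).symm j)
  simpa [toM] using this

/-- the `2 × 2` symplectic form -/
def J2 (F : Type*) [Field F] : Matrix (Fin 2) (Fin 2) F := !![0, -1; 1, 0]

/-- the form in the new coordinates -/
def Jd (F : Type*) [Field F] (m : ℕ) :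
    Matrix (Fin 2 ⊕ (Fin m ⊕ Fin m)) (Fin 2 ⊕ (Fin m ⊕ Fin m)) F :=
  fromBlocks (J2 F) 0 0 (J (Fin m) F)

theorem toM_Jd : toM (Jd F m) = J (Fin (m + 1)) F := by
  ext i j
  rcases i with i | i <;> rcases j with j | j <;>
    refine Fin.cases ?_ (fun i' => ?_) i <;> refine Fin.cases ?_ (fun j' => ?_) j <;>
    simp [toM, Jd, J2, J, Matrix.one_apply, Fin.succ_ne_zero, (Fin.succ_ne_zero _).symm]

theorem mem_of_Jd {N : Matrix (Fin 2 ⊕ (Fin m ⊕ Fin m)) (Fin 2 ⊕ (Fin m ⊕ Fin m)) F}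
    (h : N * Jd F m * Nᵀ = Jd F m) : toM N ∈ symplecticGroup (Fin (m + 1)) F := by
  rw [SymplecticGroup.mem_iff, ← toM_Jd, ← toM_transpose, ← toM_mul, ← toM_mul, h]

end mats

section blocks
variable {F : Type*} [Field F] {m : ℕ}

/-- `e₀` of the plane -/
def e0 (F : Type*) [Field F] : Fin 2 → F := ![1, 0]
/-- `f₀` of the plane -/
def e1 (F : Type*) [Field F] : Fin 2 → F := ![0, 1]

@[simp] theorem e0_dot_e0 : e0 F ⬝ᵥ e0 F = 1 := by simp [e0]
@[simp] theorem e0_dot_e1 : e0 F ⬝ᵥ e1 F = 0 := by simp [e0, e1]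
@[simp] theorem e1_dot_e0 : e1 F ⬝ᵥ e0 F = 0 := by simp [e0, e1]
@[simp] theorem e1_dot_e1 : e1 F ⬝ᵥ e1 F = 1 := by simp [e1]

/-- the unipotent `2 × 2` matrix -/
def U2 (s : F) : Matrix (Fin 2) (Fin 2) F := !![1, s; 0, 1]

theorem U2_mulVec_e0 (s : F) : U2 s *ᵥ e0 F = e0 F := by
  ext i; fin_cases i <;> simp [U2, e0, Matrix.mulVec, dotProduct, Fin.sum_univ_two]

theorem e1_vecMul_U2 (s : F) : e1 F ᵥ* U2 s = e1 F := by
  ext i; fin_cases i <;> simp [U2, e1, Matrix.vecMul, dotProduct, Fin.sum_univ_two]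

theorem J2_mulVec_e1 : J2 F *ᵥ e1 F = -e0 F := by
  ext i; fin_cases i <;> simp [J2, e0, e1, Matrix.mulVec, dotProduct, Fin.sum_univ_two]

theorem e1_vecMul_J2 : e1 F ᵥ* J2 F = e0 F := by
  ext i; fin_cases i <;> simp [J2, e0, e1, Matrix.vecMul, dotProduct, Fin.sum_univ_two]

theorem e0_vecMul_U2T (s : F) : e0 F ᵥ* (U2 s)ᵀ = e0 F := by
  ext i; fin_cases i <;> simp [U2, e0, Matrix.vecMul, dotProduct, Fin.sum_univ_two]

theorem U2_form (s : F) : U2 s * J2 F * (U2 s)ᵀ = J2 F := by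
  ext i j
  fin_cases i <;> fin_cases j <;>
    simp [U2, J2, Matrix.mul_apply, Fin.sum_univ_two]

theorem U2_mul_add (s s' h : F) :
    U2 s * U2 s' + h • vecMulVec (e0 F) (e1 F) = U2 (s + s' + h) := by
  ext i j
  fin_cases i <;> fin_cases j <;>
    simp [U2, e0, e1, Matrix.mul_apply, Fin.sum_univ_two, vecMulVec_apply] <;> ring

theorem vmv_zero_right {α β : Type*} (w : α → F) : vecMulVec w (0 : β → F) = 0 := by
  ext i j; simp [vecMulVec_apply]

theorem vmv_zero_left {α β : Type*} (w : β → F) : vecMulVec (0 : α → F) w = 0 := by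
  ext i j; simp [vecMulVec_apply]

/-- `(J w)·w' = hcoef w w'` -/
theorem J_dot (w w' : Fin m ⊕ Fin m → F) : (J (Fin m) F *ᵥ w) ⬝ᵥ w' = hcoef w w' := by
  rw [hcoef_eq, dotProduct_comm]
  have := Cfsg.Agent.Lib.Helper5.SympTv.sympForm_swap m (F := F) w' w
  unfold sympForm at this ⊢
  rw [this]

/-- the Heisenberg element `(w, s)` in the new coordinates -/
def mH (w : Fin m ⊕ Fin m → F) (s : F) :
    Matrix (Fin 2 ⊕ (Fin m ⊕ Fin m)) (Fin 2 ⊕ (Fin m ⊕ Fin m)) F :=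
  fromBlocks (U2 s) (vecMulVec (e0 F) (J (Fin m) F *ᵥ w)) (vecMulVec w (e1 F)) 1

/-- the element `(x, g)` of `SL₂ × Sp_{2m}` in the new coordinates -/
def mSG (x : Matrix (Fin 2) (Fin 2) F) (g : Matrix (Fin m ⊕ Fin m) (Fin m ⊕ Fin m) F) :
    Matrix (Fin 2 ⊕ (Fin m ⊕ Fin m)) (Fin 2 ⊕ (Fin m ⊕ Fin m)) F :=
  fromBlocks x 0 0 g

theorem mSG_mul (x x' : Matrix (Fin 2) (Fin 2) F)
    (g g' : Matrix (Fin m ⊕ Fin m) (Fin m ⊕ Fin m) F) :
    mSG x g * mSG x' g' = mSG (x * x') (g * g') := by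
  unfold mSG
  rw [fromBlocks_multiply]
  simp

theorem mSG_one : mSG (1 : Matrix (Fin 2) (Fin 2) F)
    (1 : Matrix (Fin m ⊕ Fin m) (Fin m ⊕ Fin m) F) = 1 := by
  unfold mSG
  exact fromBlocks_one

theorem mSG_form {x : Matrix (Fin 2) (Fin 2) F}
    {g : Matrix (Fin m ⊕ Fin m) (Fin m ⊕ Fin m) F} (hx : x * J2 F * xᵀ = J2 F)
    (hg : g * J (Fin m) F * gᵀ = J (Fin m) F) : mSG x g * Jd F m * (mSG x g)ᵀ = Jd F m := by
  unfold mSG Jd
  rw [fromBlocks_transpose, fromBlocks_multiply, fromBlocks_multiply]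
  simp [hx, hg]

theorem mH_mul (w w' : Fin m ⊕ Fin m → F) (s s' : F) :
    mH w s * mH w' s' = mH (w + w') (s + s' + hcoef w w') := by
  unfold mH
  rw [fromBlocks_multiply]
  congr 1
  · rw [vecMulVec_mul_vecMulVec, J_dot, vecMulVec_smul, U2_mul_add]
  · rw [mul_vecMulVec, U2_mulVec_e0, Matrix.mul_one, ← vecMulVec_add, ← Matrix.mulVec_add,
      add_comm]
  · rw [vecMulVec_mul, e1_vecMul_U2, Matrix.one_mul, ← add_vecMulVec]
  · rw [vecMulVec_mul_vecMulVec, e1_dot_e0, zero_smul, vmv_zero_right, zero_add,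
      Matrix.one_mul]

theorem mH_zero : mH (0 : Fin m ⊕ Fin m → F) 0 = 1 := by
  unfold mH
  have : U2 (0 : F) = 1 := by
    ext i j; fin_cases i <;> fin_cases j <;> simp [U2]
  rw [this, Matrix.mulVec_zero, vmv_zero_right, vmv_zero_left, fromBlocks_one]

theorem J_mul_J : J (Fin m) F * J (Fin m) F = -1 := by
  rw [J_squared]

theorem mH_form (w : Fin m ⊕ Fin m → F) (s : F) :
    mH w s * Jd F m * (mH w s)ᵀ = Jd F m := by
  unfold mH Jd
  rw [fromBlocks_transpose, fromBlocks_multiply, fromBlocks_multiply]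
  simp only [Matrix.mul_zero, Matrix.zero_mul, add_zero, zero_add, Matrix.one_mul, Matrix.mul_one,
    transpose_vecMulVec, transpose_one]
  have hJT : (J (Fin m) F)ᵀ = -J (Fin m) F := J_transpose (Fin m) F
  have h1 : (J (Fin m) F *ᵥ w) ᵥ* J (Fin m) F = w := by
    rw [← Matrix.mulVec_transpose, hJT, Matrix.neg_mulVec, Matrix.mulVec_mulVec, J_mul_J,
      Matrix.neg_mulVec, Matrix.one_mulVec, neg_neg]
  have h0 : w ⬝ᵥ (J (Fin m) F *ᵥ w) = 0 :=
    Cfsg.Agent.Lib.Helper5.SympTv.sympForm_self m (F := F) w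
  congr 1
  · -- `U J₂ Uᵀ + R J Rᵀ = J₂`
    rw [U2_form, vecMulVec_mul, vecMulVec_mul_vecMulVec, h1, h0, zero_smul,
      vmv_zero_right, add_zero]
  · -- `U J₂ Cᵀ + R J = 0`
    rw [Matrix.mul_assoc, mul_vecMulVec, J2_mulVec_e1, mul_vecMulVec, Matrix.mulVec_neg,
      U2_mulVec_e0, vecMulVec_mul, h1]
    ext i j
    simp [vecMulVec_apply]
  · -- `C J₂ Uᵀ + J Rᵀ = 0`
    rw [vecMulVec_mul, vecMulVec_mul, e1_vecMul_J2, e0_vecMul_U2T, mul_vecMulVec,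
      Matrix.mulVec_mulVec, J_mul_J, Matrix.neg_mulVec, Matrix.one_mulVec]
    ext i j
    simp [vecMulVec_apply]
  · -- `C J₂ Cᵀ + J = J`
    rw [vecMulVec_mul, vecMulVec_mul_vecMulVec, e1_vecMul_J2, e0_dot_e1, zero_smul,
      vmv_zero_right, zero_add]

end blocks

end Cfsg.Agent.Lib.Helper1.SPW
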