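import Mathlib
import Cfsg.Agent.Lib.Helper1.SPWG1
import Cfsg.Agent.Lib.Helper1.SPWA1

set_option autoImplicit false
set_option linter.unusedSectionVars false
set_option linter.unusedVariables false
set_option linter.unnecessarySimpa false
set_option linter.unusedSimpArgs false

/-!
Farm SPW, unit G (part 2): the three homomorphisms into `Sp_{2(m+1)}(F)` and their relations.
-/

namespace Cfsg.Agent.Lib.Helper1.SPW

open Matrix Cfsg Cfsg.Agent.Lib.Helper6.Wl Cfsg.Agent.Lib.Helper4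

section rel
variable {F : Type*} [Field F] {m : ℕ}

theorem sl2_form (x : Matrix.SpecialLinearGroup (Fin 2) F) :
    (x : Matrix (Fin 2) (Fin 2) F) * J2 F * (x : Matrix (Fin 2) (Fin 2) F)ᵀ = J2 F := by
  have hdet : (x : Matrix (Fin 2) (Fin 2) F) 0 0 * (x : Matrix (Fin 2) (Fin 2) F) 1 1 -
      (x : Matrix (Fin 2) (Fin 2) F) 0 1 * (x : Matrix (Fin 2) (Fin 2) F) 1 0 = 1 := by
    have := x.2
    rw [Matrix.det_fin_two] at this
    exact this
  ext i j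
  fin_cases i <;> fin_cases j <;>
    simp [J2, Matrix.mul_apply, Fin.sum_univ_two] <;>
    first
      | ring1
      | linear_combination hdet
      | linear_combination (-1 : F) * hdet

/-- `G'` normalises the Heisenberg group -/
theorem mSG_mH_G {g : Matrix (Fin m ⊕ Fin m) (Fin m ⊕ Fin m) F}
    (hg : gᵀ * J (Fin m) F * g = J (Fin m) F) (w : Fin m ⊕ Fin m → F) (s : F) :
    mSG 1 g * mH w s = mH (g *ᵥ w) s * mSG 1 g := by
  unfold mSG mH
  rw [fromBlocks_multiply, fromBlocks_multiply]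
  have h1 : (J (Fin m) F *ᵥ (g *ᵥ w)) ᵥ* g = J (Fin m) F *ᵥ w := by
    rw [← Matrix.mulVec_transpose, Matrix.mulVec_mulVec, Matrix.mulVec_mulVec, hg]
  simp only [Matrix.zero_mul, Matrix.mul_zero, Matrix.one_mul, Matrix.mul_one, add_zero, zero_add]
  congr 1
  · rw [vecMulVec_mul, h1]
  · rw [mul_vecMulVec]

/-- the torus matrix -/
def T2 (t : Fˣ) : Matrix (Fin 2) (Fin 2) F := !![(t : F), 0; 0, ((t⁻¹ : Fˣ) : F)]

theorem T2_mul_U2 (t : Fˣ) (s : F) : T2 t * U2 s = U2 ((t : F) * (t : F) * s) * T2 t := by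
  ext i j
  fin_cases i <;> fin_cases j <;>
    simp [T2, U2, Matrix.mul_apply, Fin.sum_univ_two]
  field_simp

theorem T2_mulVec_e0 (t : Fˣ) : T2 t *ᵥ e0 F = (t : F) • e0 F := by
  ext i; fin_cases i <;> simp [T2, e0, Matrix.mulVec, dotProduct, Fin.sum_univ_two]

theorem e1_vecMul_T2 (t : Fˣ) : e1 F ᵥ* T2 t = ((t⁻¹ : Fˣ) : F) • e1 F := by
  ext i; fin_cases i <;> simp [T2, e1, Matrix.vecMul, dotProduct, Fin.sum_univ_two]

/-- the torus normalises the Heisenberg group -/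
theorem mSG_mH_T (t : Fˣ) (w : Fin m ⊕ Fin m → F) (s : F) :
    mSG (T2 t) 1 * mH w s = mH ((t : F) • w) ((t : F) * (t : F) * s) * mSG (T2 t) 1 := by
  unfold mSG mH
  rw [fromBlocks_multiply, fromBlocks_multiply]
  simp only [Matrix.zero_mul, Matrix.mul_zero, Matrix.one_mul, Matrix.mul_one, add_zero, zero_add]
  congr 1
  · rw [T2_mul_U2]
  · rw [mul_vecMulVec, T2_mulVec_e0, Matrix.mulVec_smul]
    ext i j
    simp only [vecMulVec_apply, Pi.smul_apply, smul_eq_mul]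
    ring
  · rw [vecMulVec_mul, e1_vecMul_T2]
    ext i j
    simp only [vecMulVec_apply, Pi.smul_apply, smul_eq_mul]
    have : (t : F) * ((t⁻¹ : Fˣ) : F) = 1 := by
      rw [← Units.val_mul, mul_inv_cancel, Units.val_one]
    calc w i * e1 F j = ((t : F) * ((t⁻¹ : Fˣ) : F)) * (w i * e1 F j) := by rw [this, one_mul]
      _ = _ := by ring

theorem mH_zero_vec (s : F) : mH (0 : Fin m ⊕ Fin m → F) s = mSG (U2 s) 1 := by
  unfold mH mSG
  rw [Matrix.mulVec_zero, vmv_zero_right, vmv_zero_left]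

theorem mSG_neg_one : mSG (-1 : Matrix (Fin 2) (Fin 2) F)
    (-1 : Matrix (Fin m ⊕ Fin m) (Fin m ⊕ Fin m) F) = -1 := by
  unfold mSG
  ext i j
  rcases i with i | i <;> rcases j with j | j <;> simp [Matrix.neg_apply, Matrix.one_apply]

end rel

section homs
variable {F : Type*} [Field F] [DecidableEq F] {m : ℕ}

/-- `SL₂ × Sp_{2m} → Sp_{2(m+1)}` -/
def iSGm (F : Type*) [Field F] [DecidableEq F] (m : ℕ) :
    Matrix.SpecialLinearGroup (Fin 2) F × symplecticGroup (Fin m) F →*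
      symplecticGroup (Fin (m + 1)) F where
  toFun p := ⟨toM (mSG (p.1 : Matrix (Fin 2) (Fin 2) F)
      (p.2 : Matrix (Fin m ⊕ Fin m) (Fin m ⊕ Fin m) F)),
    mem_of_Jd (mSG_form (sl2_form p.1) (SymplecticGroup.mem_iff.1 p.2.2))⟩
  map_one' := by
    apply Subtype.ext
    show toM (mSG ((1 : Matrix.SpecialLinearGroup (Fin 2) F) : Matrix (Fin 2) (Fin 2) F)
      ((1 : symplecticGroup (Fin m) F) : Matrix (Fin m ⊕ Fin m) (Fin m ⊕ Fin m) F)) = 1
    rw [Matrix.SpecialLinearGroup.coe_one, Submonoid.coe_one, mSG_one, toM_one]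
  map_mul' p q := by
    apply Subtype.ext
    show toM (mSG ((p.1 * q.1 : Matrix.SpecialLinearGroup (Fin 2) F) : Matrix (Fin 2) (Fin 2) F)
      ((p.2 * q.2 : symplecticGroup (Fin m) F) : Matrix (Fin m ⊕ Fin m) (Fin m ⊕ Fin m) F)) =
      toM (mSG (p.1 : Matrix (Fin 2) (Fin 2) F) (p.2 : Matrix (Fin m ⊕ Fin m) (Fin m ⊕ Fin m) F)) *
      toM (mSG (q.1 : Matrix (Fin 2) (Fin 2) F) (q.2 : Matrix (Fin m ⊕ Fin m) (Fin m ⊕ Fin m) F))
    rw [← toM_mul, mSG_mul, Matrix.SpecialLinearGroup.coe_mul, Submonoid.coe_mul]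

/-- `Heis → Sp_{2(m+1)}` -/
def iHm (F : Type*) [Field F] [DecidableEq F] (m : ℕ) :
    Heis m F →* symplecticGroup (Fin (m + 1)) F where
  toFun x := ⟨toM (mH x.w x.s), mem_of_Jd (mH_form x.w x.s)⟩
  map_one' := by
    apply Subtype.ext
    show toM (mH (0 : Fin m ⊕ Fin m → F) 0) = 1
    rw [mH_zero, toM_one]
  map_mul' x y := by
    apply Subtype.ext
    show toM (mH (x.w + y.w) (x.s + y.s + hcoef x.w y.w)) = toM (mH x.w x.s) * toM (mH y.w y.s)
    rw [← toM_mul, mH_mul]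

theorem iSGm_coe (x : Matrix.SpecialLinearGroup (Fin 2) F) (g : symplecticGroup (Fin m) F) :
    ((iSGm F m (x, g) : symplecticGroup (Fin (m + 1)) F) :
      Matrix (Fin (m + 1) ⊕ Fin (m + 1)) (Fin (m + 1) ⊕ Fin (m + 1)) F) =
      toM (mSG (x : Matrix (Fin 2) (Fin 2) F)
        (g : Matrix (Fin m ⊕ Fin m) (Fin m ⊕ Fin m) F)) := rfl

theorem iHm_coe (x : Heis m F) :
    ((iHm F m x : symplecticGroup (Fin (m + 1)) F) :
      Matrix (Fin (m + 1) ⊕ Fin (m + 1)) (Fin (m + 1) ⊕ Fin (m + 1)) F) = toM (mH x.w x.s) := rfl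

/-- `SL₂ → Sp_{2(m+1)}` -/
def iSm (F : Type*) [Field F] [DecidableEq F] (m : ℕ) :
    Matrix.SpecialLinearGroup (Fin 2) F →* symplecticGroup (Fin (m + 1)) F :=
  (iSGm F m).comp (MonoidHom.inl _ _)

/-- `Sp_{2m} → Sp_{2(m+1)}` -/
def iGm (F : Type*) [Field F] [DecidableEq F] (m : ℕ) :
    symplecticGroup (Fin m) F →* symplecticGroup (Fin (m + 1)) F :=
  (iSGm F m).comp (MonoidHom.inr _ _)

theorem iSm_coe (x : Matrix.SpecialLinearGroup (Fin 2) F) :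
    ((iSm F m x : symplecticGroup (Fin (m + 1)) F) :
      Matrix (Fin (m + 1) ⊕ Fin (m + 1)) (Fin (m + 1) ⊕ Fin (m + 1)) F) =
      toM (mSG (x : Matrix (Fin 2) (Fin 2) F) 1) := rfl

theorem iGm_coe (g : symplecticGroup (Fin m) F) :
    ((iGm F m g : symplecticGroup (Fin (m + 1)) F) :
      Matrix (Fin (m + 1) ⊕ Fin (m + 1)) (Fin (m + 1) ⊕ Fin (m + 1)) F) =
      toM (mSG 1 (g : Matrix (Fin m ⊕ Fin m) (Fin m ⊕ Fin m) F)) := rfl

theorem iSm_iGm_comm (x : Matrix.SpecialLinearGroup (Fin 2) F) (g : symplecticGroup (Fin m) F) :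
    iSm F m x * iGm F m g = iGm F m g * iSm F m x := by
  unfold iSm iGm
  rw [MonoidHom.comp_apply, MonoidHom.comp_apply, ← MonoidHom.map_mul, ← MonoidHom.map_mul]
  congr 1
  simp

theorem iGm_conj (g : symplecticGroup (Fin m) F) (x : Heis m F) :
    iGm F m g * iHm F m x * (iGm F m g)⁻¹ =
      iHm F m ⟨(g : Matrix (Fin m ⊕ Fin m) (Fin m ⊕ Fin m) F) *ᵥ x.w, x.s⟩ := by
  rw [mul_inv_eq_iff_eq_mul]
  apply Subtype.ext
  rw [Submonoid.coe_mul, Submonoid.coe_mul, iGm_coe, iHm_coe, iHm_coe, ← toM_mul, ← toM_mul,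
    mSG_mH_G (SymplecticGroup.mem_iff'.1 g.2)]

theorem mkSL_coe_T2 (t : Fˣ) :
    ((mkSL t 0 : Matrix.SpecialLinearGroup (Fin 2) F) : Matrix (Fin 2) (Fin 2) F) = T2 t := rfl

theorem iSm_conj_torus (t : Fˣ) (x : Heis m F) :
    iSm F m (mkSL t 0) * iHm F m x * (iSm F m (mkSL t 0))⁻¹ =
      iHm F m ⟨(t : F) • x.w, (t : F) * (t : F) * x.s⟩ := by
  rw [mul_inv_eq_iff_eq_mul]
  apply Subtype.ext
  rw [Submonoid.coe_mul, Submonoid.coe_mul, iSm_coe, iHm_coe, iHm_coe, ← toM_mul, ← toM_mul,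
    mkSL_coe_T2, mSG_mH_T]

theorem iHm_cen (s : F) : iHm F m (Heis.cen s) = iSm F m (upperU s) := by
  apply Subtype.ext
  rw [iHm_coe, iSm_coe]
  show toM (mH (0 : Fin m ⊕ Fin m → F) s) = _
  rw [mH_zero_vec]
  rfl

theorem iSm_neg_mul_iGm_neg : iSm F m (-1) * iGm F m negSp = negSp := by
  apply Subtype.ext
  rw [Submonoid.coe_mul, iSm_coe, iGm_coe, ← toM_mul, mSG_mul, Matrix.mul_one, Matrix.one_mul]
  show toM (mSG (-1 : Matrix (Fin 2) (Fin 2) F) (-1)) = -1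
  rw [mSG_neg_one, toM_neg, toM_one]

theorem negSp_central (g : symplecticGroup (Fin (m + 1)) F) :
    g * negSp = negSp * g := by
  apply Subtype.ext
  rw [Submonoid.coe_mul, Submonoid.coe_mul]
  show (g : Matrix (Fin (m + 1) ⊕ Fin (m + 1)) (Fin (m + 1) ⊕ Fin (m + 1)) F) *
      (-1 : Matrix (Fin (m + 1) ⊕ Fin (m + 1)) (Fin (m + 1) ⊕ Fin (m + 1)) F) =
    (-1 : Matrix (Fin (m + 1) ⊕ Fin (m + 1)) (Fin (m + 1) ⊕ Fin (m + 1)) F) *
      (g : Matrix (Fin (m + 1) ⊕ Fin (m + 1)) (Fin (m + 1) ⊕ Fin (m + 1)) F)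
  simp

end homs

end Cfsg.Agent.Lib.Helper1.SPW
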