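import Mathlib
import Cfsg.Agent.Lib.Helper1.SPWG2

set_option autoImplicit false
set_option linter.unusedSectionVars false
set_option linter.unusedVariables false
set_option linter.unnecessarySimpa false
set_option linter.unusedSimpArgs false

/-!
Farm SPW, unit G (part 3): compatibility of the three homomorphisms with `uQ`.
-/

namespace Cfsg.Agent.Lib.Helper1.SPW

open Matrix Cfsg Cfsg.Agent.Lib.Helper6.Wl Cfsg.Agent.Lib.Helper4

section compat
variable {F : Type*} [Field F] [DecidableEq F] {m : ℕ}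

theorem J_mulVec_inl (w : Fin m ⊕ Fin m → F) (k : Fin m) :
    (J (Fin m) F *ᵥ w) (Sum.inl k) = -w (Sum.inr k) := by
  simp [J, Matrix.mulVec, dotProduct, Fintype.sum_sum_type, Matrix.one_apply]

theorem J_mulVec_inr (w : Fin m ⊕ Fin m → F) (k : Fin m) :
    (J (Fin m) F *ᵥ w) (Sum.inr k) = w (Sum.inl k) := by
  simp [J, Matrix.mulVec, dotProduct, Fintype.sum_sum_type, Matrix.one_apply]

@[simp] theorem e0_zero : e0 F 0 = 1 := rfl
@[simp] theorem e0_one : e0 F 1 = 0 := rfl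
@[simp] theorem e1_zero : e1 F 0 = 0 := rfl
@[simp] theorem e1_one : e1 F 1 = 1 := rfl
@[simp] theorem U2_00 (s : F) : U2 s 0 0 = 1 := rfl
@[simp] theorem U2_01 (s : F) : U2 s 0 1 = s := rfl
@[simp] theorem U2_10 (s : F) : U2 s 1 0 = 0 := rfl
@[simp] theorem U2_11 (s : F) : U2 s 1 1 = 1 := rfl

theorem mH_apply_11 (w : Fin m ⊕ Fin m → F) (s : F) (i j : Fin 2) :
    mH w s (Sum.inl i) (Sum.inl j) = U2 s i j := rfl
theorem mH_apply_12 (w : Fin m ⊕ Fin m → F) (s : F) (i : Fin 2) (k : Fin m ⊕ Fin m) :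
    mH w s (Sum.inl i) (Sum.inr k) = e0 F i * (J (Fin m) F *ᵥ w) k := rfl
theorem mH_apply_21 (w : Fin m ⊕ Fin m → F) (s : F) (k : Fin m ⊕ Fin m) (j : Fin 2) :
    mH w s (Sum.inr k) (Sum.inl j) = w k * e1 F j := rfl
theorem mH_apply_22 (w : Fin m ⊕ Fin m → F) (s : F) (k l : Fin m ⊕ Fin m) :
    mH w s (Sum.inr k) (Sum.inr l) = (1 : Matrix (Fin m ⊕ Fin m) (Fin m ⊕ Fin m) F) k l := rfl

theorem toM_apply (N : Matrix (Fin 2 ⊕ (Fin m ⊕ Fin m)) (Fin 2 ⊕ (Fin m ⊕ Fin m)) F)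
    (i j : Fin (m + 1) ⊕ Fin (m + 1)) : toM N i j = N (sig m i) (sig m j) := rfl

theorem iHm_ab (b : Fin m → F) (s : F) : iHm F m (Heis.ab b s) = uQ (symRow b s) := by
  apply Subtype.ext
  rw [iHm_coe, uQ_coe]
  ext i j
  rcases i with i | i <;> rcases j with j | j <;>
    refine Fin.cases ?_ (fun i' => ?_) i <;> refine Fin.cases ?_ (fun j' => ?_) j <;>
    simp [toM_apply, mH_apply_11, mH_apply_12, mH_apply_21, mH_apply_22, Heis.ab, symRow,
      J_mulVec_inl, J_mulVec_inr, Matrix.one_apply, Fin.succ_ne_zero, (Fin.succ_ne_zero _).symm]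

theorem iGm_uQ (S' : symAdd F m) : iGm F m (uQ S') = uQ (symEmb S') := by
  apply Subtype.ext
  rw [iGm_coe, uQ_coe, uQ_coe]
  ext i j
  rcases i with i | i <;> rcases j with j | j <;>
    refine Fin.cases ?_ (fun i' => ?_) i <;> refine Fin.cases ?_ (fun j' => ?_) j <;>
    simp [toM_apply, mSG, symEmb, Matrix.one_apply, Fin.succ_ne_zero, (Fin.succ_ne_zero _).symm]

end compat

end Cfsg.Agent.Lib.Helper1.SPW
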