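import Mathlib
import Cfsg.Agent.Lib.Helper1.SPWG3
import Cfsg.Agent.Lib.Helper5.SympPerfect

set_option autoImplicit false
set_option linter.unusedSectionVars false
set_option linter.unusedVariables false
set_option linter.unnecessarySimpa false
set_option linter.unusedSimpArgs false

/-!
Farm SPW, unit G (part 4): `Sp_{2(m+1)}(F)` is generated by the images of `SL₂` and `Heis`.
-/

namespace Cfsg.Agent.Lib.Helper1.SPW

open Matrix Cfsg Cfsg.Agent.Lib.Helper6.Wl Cfsg.Agent.Lib.Helper4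
open Cfsg.Agent.Lib.Helper5.SympTv Cfsg.Agent.Lib.Helper5.SympGen Cfsg.Agent.Lib.Helper5.SympPerfect

section gen
variable {F : Type*} [Field F] [DecidableEq F] {m : ℕ}

/-- the subgroup generated by the images of `SL₂` and `Heis` -/
def genK (F : Type*) [Field F] [DecidableEq F] (m : ℕ) :
    Subgroup (symplecticGroup (Fin (m + 1)) F) :=
  Subgroup.closure (Set.range (iSm F m) ∪ Set.range (iHm F m))

theorem iSm_mem (x : Matrix.SpecialLinearGroup (Fin 2) F) : iSm F m x ∈ genK F m :=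
  Subgroup.subset_closure (Or.inl ⟨x, rfl⟩)

theorem iHm_mem (x : Heis m F) : iHm F m x ∈ genK F m :=
  Subgroup.subset_closure (Or.inr ⟨x, rfl⟩)

/-- the basis vector `e₀` -/
def vE (F : Type*) [Field F] (m : ℕ) : Fin (m + 1) ⊕ Fin (m + 1) → F := Pi.single (Sum.inl 0) 1
/-- the basis vector `f₀` -/
def vF (F : Type*) [Field F] (m : ℕ) : Fin (m + 1) ⊕ Fin (m + 1) → F := Pi.single (Sum.inr 0) 1

theorem mSG_apply_11 (x : Matrix (Fin 2) (Fin 2) F)
    (g : Matrix (Fin m ⊕ Fin m) (Fin m ⊕ Fin m) F) (i j : Fin 2) :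
    mSG x g (Sum.inl i) (Sum.inl j) = x i j := rfl
theorem mSG_apply_12 (x : Matrix (Fin 2) (Fin 2) F)
    (g : Matrix (Fin m ⊕ Fin m) (Fin m ⊕ Fin m) F) (i : Fin 2) (k : Fin m ⊕ Fin m) :
    mSG x g (Sum.inl i) (Sum.inr k) = 0 := rfl
theorem mSG_apply_21 (x : Matrix (Fin 2) (Fin 2) F)
    (g : Matrix (Fin m ⊕ Fin m) (Fin m ⊕ Fin m) F) (k : Fin m ⊕ Fin m) (j : Fin 2) :
    mSG x g (Sum.inr k) (Sum.inl j) = 0 := rfl
theorem mSG_apply_22 (x : Matrix (Fin 2) (Fin 2) F)
    (g : Matrix (Fin m ⊕ Fin m) (Fin m ⊕ Fin m) F) (k l : Fin m ⊕ Fin m) :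
    mSG x g (Sum.inr k) (Sum.inr l) = g k l := rfl

@[simp] theorem sig_symm_inr_inl (i : Fin m) :
    (sig m).symm (Sum.inr (Sum.inl i)) = Sum.inl i.succ := rfl
@[simp] theorem sig_symm_inr_inr (i : Fin m) :
    (sig m).symm (Sum.inr (Sum.inr i)) = Sum.inr i.succ := rfl
@[simp] theorem sig_symm_inl_zero : (sig m).symm (Sum.inl 0) = Sum.inl 0 := rfl
@[simp] theorem sig_symm_inl_one : (sig m).symm (Sum.inl 1) = Sum.inr 0 := rfl

/-- the transvection along `e₀` is `iH (cen c)` -/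
theorem tv_vE (c : F) : tv (m + 1) (vE F m) c = iHm F m (Heis.cen c) := by
  apply Subtype.ext
  rw [tv_coe, iHm_coe]
  unfold sympTransvection
  ext i j
  rcases i with i | i <;> rcases j with j | j <;>
    refine Fin.cases ?_ (fun i' => ?_) i <;> refine Fin.cases ?_ (fun j' => ?_) j <;>
    simp [toM_apply, mH_apply_11, mH_apply_12, mH_apply_21, mH_apply_22, Heis.cen, vE,
      J_mulVec_inl, J_mulVec_inr, Matrix.one_apply, vecMulVec_apply, Pi.single_apply,
      Fin.succ_ne_zero, (Fin.succ_ne_zero _).symm, J, Matrix.neg_apply]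

theorem tv_vE_mem (c : F) : tv (m + 1) (vE F m) c ∈ genK F m := by
  rw [tv_vE]
  exact iHm_mem _

/-- conjugates -/
theorem tv_mem_of_move {k : symplecticGroup (Fin (m + 1)) F} (hk : k ∈ genK F m)
    {v : Fin (m + 1) ⊕ Fin (m + 1) → F} {v' : Fin (m + 1) ⊕ Fin (m + 1) → F}
    (hv : (k : Matrix (Fin (m + 1) ⊕ Fin (m + 1)) (Fin (m + 1) ⊕ Fin (m + 1)) F) *ᵥ v' = v)
    (c : F) (h' : tv (m + 1) v' c ∈ genK F m) : tv (m + 1) v c ∈ genK F m := by
  rw [← hv, ← conj_tv]
  exact (genK F m).mul_mem ((genK F m).mul_mem hk h') ((genK F m).inv_mem hk)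

/-- the Weyl-type element of `SL₂` with first column `(0, β)` -/
def wSL (β : F) (hβ : β ≠ 0) : Matrix.SpecialLinearGroup (Fin 2) F :=
  ⟨!![0, -β⁻¹; β, 0], by
    rw [Matrix.det_fin_two_of]
    simp [hβ]⟩

/-- the `K`-orbit of `e₀` contains the vectors with nonzero `f₀`-coordinate -/
theorem exists_move_vE (v : Fin (m + 1) ⊕ Fin (m + 1) → F) (hv : v (Sum.inr 0) ≠ 0) :
    ∃ k ∈ genK F m,
      (k : Matrix (Fin (m + 1) ⊕ Fin (m + 1)) (Fin (m + 1) ⊕ Fin (m + 1)) F) *ᵥ vE F m = v := by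
  set β := v (Sum.inr 0) with hβ
  let w : Fin m ⊕ Fin m → F := fun k => β⁻¹ * v ((sig m).symm (Sum.inr k))
  let s : F := β⁻¹ * v (Sum.inl 0)
  refine ⟨iHm F m ⟨w, s⟩ * iSm F m (wSL β hv),
    (genK F m).mul_mem (iHm_mem _) (iSm_mem _), ?_⟩
  rw [Submonoid.coe_mul, iHm_coe, iSm_coe, ← Matrix.mulVec_mulVec]
  have h1 : toM (mSG ((wSL β hv : Matrix.SpecialLinearGroup (Fin 2) F) : Matrix (Fin 2) (Fin 2) F)
      (1 : Matrix (Fin m ⊕ Fin m) (Fin m ⊕ Fin m) F)) *ᵥ vE F m = β • vF F m := by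
    unfold vE
    rw [Matrix.mulVec_single_one]
    ext i
    rcases i with i | i <;> refine Fin.cases ?_ (fun i' => ?_) i <;>
      simp [toM_apply, mSG_apply_11, mSG_apply_21, wSL, vF, Pi.single_apply,
        Fin.succ_ne_zero, (Fin.succ_ne_zero _).symm]
  rw [h1, Matrix.mulVec_smul]
  unfold vF
  rw [Matrix.mulVec_single_one]
  ext i
  rcases i with i | i <;> refine Fin.cases ?_ (fun i' => ?_) i
  · simp [toM_apply, mH_apply_11, s]
    field_simp
  · simp [toM_apply, mH_apply_21, w]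
    field_simp
  · simp [toM_apply, mH_apply_11]
    exact hβ
  · simp [toM_apply, mH_apply_21, w]
    field_simp

theorem tv_mem_of_coord (v : Fin (m + 1) ⊕ Fin (m + 1) → F) (hv : v (Sum.inr 0) ≠ 0) (c : F) :
    tv (m + 1) v c ∈ genK F m := by
  obtain ⟨k, hk, hkv⟩ := exists_move_vE v hv
  exact tv_mem_of_move hk hkv c (tv_vE_mem c)

/-- all transvections lie in `K` -/
theorem tv_mem (h2 : (2 : F) ≠ 0) (v : Fin (m + 1) ⊕ Fin (m + 1) → F) (c : F) :
    tv (m + 1) v c ∈ genK F m := by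
  by_cases hv0 : v = 0
  · rw [hv0, tv_zero_vec]
    exact (genK F m).one_mem
  by_cases hv : v (Sum.inr 0) ≠ 0
  · exact tv_mem_of_coord v hv c
  rw [not_not] at hv
  obtain ⟨y, hy⟩ := exists_partner (m + 1) v hv0
  -- choose `u = y + t f₀`
  have hex : ∃ t : F, y (Sum.inr 0) + t ≠ 0 ∧ 1 - t * v (Sum.inl 0) ≠ 0 := by
    by_cases hp : y (Sum.inr 0) = 0
    · by_cases hr : v (Sum.inl 0) = 1
      · refine ⟨-1, ?_, ?_⟩
        · rw [hp, zero_add]; exact neg_ne_zero.2 one_ne_zero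
        · rw [hr]
          have : (1 : F) - -1 * 1 = 2 := by ring
          rw [this]; exact h2
      · refine ⟨1, ?_, ?_⟩
        · rw [hp, zero_add]; exact one_ne_zero
        · rw [one_mul]
          intro h
          apply hr
          exact (sub_eq_zero.1 h).symm
    · exact ⟨0, by rwa [add_zero], by simp⟩
  obtain ⟨t, ht1, ht2⟩ := hex
  set u : Fin (m + 1) ⊕ Fin (m + 1) → F := y + t • vF F m with hu
  have hu0 : u (Sum.inr 0) ≠ 0 := by
    simp only [hu, vF, Pi.add_apply, Pi.smul_apply, Pi.single_eq_same, smul_eq_mul, mul_one]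
    exact ht1
  have hvu : sympForm (m + 1) F v u = 1 - t * v (Sum.inl 0) := by
    rw [hu, sympForm_add_right, sympForm_smul_right, hy]
    unfold vF
    rw [sympForm_single_inr]
    ring
  set lam : F := sympForm (m + 1) F v u with hlam
  have hlam0 : lam ≠ 0 := by rw [hvu]; exact ht2
  set v' : Fin (m + 1) ⊕ Fin (m + 1) → F := v - lam • u with hv'
  have hv'0 : v' (Sum.inr 0) ≠ 0 := by
    simp only [hv', Pi.sub_apply, Pi.smul_apply, smul_eq_mul, hv, zero_sub]
    exact neg_ne_zero.2 (mul_ne_zero hlam0 hu0)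
  have hmove : ((tv (m + 1) u 1 : symplecticGroup (Fin (m + 1)) F) :
      Matrix (Fin (m + 1) ⊕ Fin (m + 1)) (Fin (m + 1) ⊕ Fin (m + 1)) F) *ᵥ v' = v := by
    rw [tv_coe, sympTransvection_mulVec, one_mul, hv', sympForm_sub_left, sympForm_smul_left,
      sympForm_self, mul_zero, sub_zero, ← hlam]
    abel
  exact tv_mem_of_move (tv_mem_of_coord u hu0 1) hmove c (tv_mem_of_coord v' hv'0 c)

theorem genK_eq_top (h2 : (2 : F) ≠ 0) : genK F m = ⊤ := by
  rw [eq_top_iff, ← closure_tvSet_eq_top, Subgroup.closure_le]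
  rintro A ⟨w, c, hA⟩
  have : A = tv (m + 1) w c := Subtype.ext hA
  rw [this]
  exact tv_mem h2 w c

/-- the datum of `Sp_{2(m+1)}(F)` -/
def spDatum (F : Type*) [Field F] [DecidableEq F] (m : ℕ) (h2 : (2 : F) ≠ 0) :
    Datum F m (symplecticGroup (Fin (m + 1)) F) where
  iS := iSm F m
  iG := iGm F m
  iH := iHm F m
  comm := iSm_iGm_comm
  conjG := iGm_conj
  conjT := iSm_conj_torus
  cenU := iHm_cen
  gen := genK_eq_top h2
  central := by
    intro g
    rw [iSm_neg_mul_iGm_neg]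
    exact negSp_central g

/-- unit G -/
theorem exists_datum [Fintype F] (hodd : Odd (Fintype.card F)) (m : ℕ) :
    ∃ D : Datum F m (symplecticGroup (Fin (m + 1)) F),
      (∀ (b : Fin m → F) (s : F), D.iH (Heis.ab b s) = uQ (symRow b s)) ∧
      (∀ S' : symAdd F m, D.iG (uQ S') = uQ (symEmb S')) ∧
      D.iS (-1) * D.iG negSp = negSp := by
  have h2 : (2 : F) ≠ 0 := by
    intro h
    have hchar : ringChar F = 2 := by
      apply (CharP.ringChar_of_prime_eq_zero Nat.prime_two (by exact_mod_cast h))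
    have := FiniteField.even_card_of_char_two hchar
    rcases hodd with ⟨k, hk⟩
    omega
  exact ⟨spDatum F m h2, iHm_ab, iGm_uQ, iSm_neg_mul_iGm_neg⟩

end gen

end Cfsg.Agent.Lib.Helper1.SPW
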