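import Mathlib
import Cfsg.Agent.Lib.Helper1.SPWC0
import Cfsg.Agent.Lib.Helper1.SPWA4
import Cfsg.Agent.Lib.Helper3.SPWA3
import Cfsg.Agent.Lib.Helper3.SPWA5
import Cfsg.Agent.Lib.Helper3.SPWA5c
import Cfsg.Agent.Lib.Helper3.SPWA7n
import Cfsg.Agent.Lib.Helper4.SPWA6

set_option autoImplicit false
set_option linter.unusedSectionVars false
set_option linter.unusedVariables false
set_option linter.unnecessarySimpa false

/-!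
Farm SPW: the rigidity theorem, assembled from the units (B4 still as a hypothesis here).
-/

namespace Cfsg.Agent.Lib.Helper1.SPW

open Matrix Cfsg Cfsg.Agent.Lib.Helper6.Wl Cfsg.Agent.Lib.Helper4
open Module

section abstract
variable {F : Type*} [Field F] [Fintype F] [DecidableEq F] {m : ℕ}
variable {G : Type*} [Group G] [Fintype G]
variable [Fintype (symplecticGroup (Fin m) F)]
variable (D : Datum F m G)
variable {V : Type*} [AddCommGroup V] [Module ℂ V] [FiniteDimensional ℂ V]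
variable {Ω : Type*} [AddCommGroup Ω] [Module ℂ Ω] [FiniteDimensional ℂ Ω]
variable (ρ : Representation ℂ G V) (ρΩ : Representation ℂ G Ω) (ψ : AddChar F ℂ)

theorem trace_eZ_ne_zero {a : F} (h : eZ D ρ ψ a ≠ 0) : LinearMap.trace ℂ V (eZ D ρ ψ a) ≠ 0 := by
  have hid : IsIdempotentElem (eZ D ρ ψ a) := eZ_idem D ρ ψ a
  have htr := (LinearMap.IsIdempotentElem.isProj_range _ hid).trace
  rw [htr]
  intro h0
  have h1 : finrank ℂ (LinearMap.range (eZ D ρ ψ a)) = 0 := by exact_mod_cast h0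
  have h2 : LinearMap.range (eZ D ρ ψ a) = ⊥ := Submodule.finrank_eq_zero.1 h1
  exact h (LinearMap.range_eq_bot.1 h2)

/-- `tr e_a^V = b q^m` -/
theorem trace_eZ_eq (hodd : Odd (Fintype.card F)) (hψ : ψ ≠ 1) {a : F} (ha : a ≠ 0)
    (hΩa : LinearMap.trace ℂ Ω (eZ D ρΩ ψ a) = (Fintype.card F : ℂ) ^ m) :
    LinearMap.trace ℂ V (eZ D ρ ψ a) =
      (finrank ℂ (hHom D ρ ρΩ ψ a) : ℂ) * (Fintype.card F : ℂ) ^ m := by
  have h := Cfsg.Agent.Lib.Helper3.SPW.finrank_hHom D ρ ρΩ ψ hodd hψ ha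
  rw [hΩa] at h
  have hq : (Fintype.card F : ℂ) ^ m ≠ 0 :=
    pow_ne_zero _ (Nat.cast_ne_zero.2 Fintype.card_ne_zero)
  have h2 : (Fintype.card F : ℂ) ^ (2 * m) = (Fintype.card F : ℂ) ^ m * (Fintype.card F : ℂ) ^ m := by
    rw [two_mul, pow_add]
  rw [h2, ← mul_assoc] at h
  exact (mul_right_cancel₀ hq h).symm

/-- unit C2 (rigidity), with unit B4 as a hypothesis -/
theorem rigidity_of_B4 (hm : 0 < m) (hodd : Odd (Fintype.card F)) (hψ : ψ ≠ 1) {a : F}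
    (ha : a ≠ 0)
    (rV : Rk1 D ρ ψ) (rΩ : Rk1 D ρΩ ψ)
    (s : ℂ) (hsV : ρ (D.iS (-1) * D.iG negSp) = s • 1)
    (hsΩ : ρΩ (D.iS (-1) * D.iG negSp) = s • 1)
    (hΩa : LinearMap.trace ℂ Ω (eZ D ρΩ ψ a) = (Fintype.card F : ℂ) ^ m)
    (hΩ' : ∀ a' : F, a' ≠ 0 → ¬ IsSquare (a' / a) → eZ D ρΩ ψ a' = 0)
    (hVa : eZ D ρ ψ a ≠ 0)
    (hB4 : 2 * finrank ℂ (hHom D ρ ρΩ ψ a) ≤ finrank ℂ (homK ρ ρΩ D.iSG)) :
    ∃ φ : Ω →ₗ[ℂ] V, φ ≠ 0 ∧ ∀ g : G, φ ∘ₗ ρΩ g = ρ g ∘ₗ φ := by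
  have hq : (Fintype.card F : ℂ) ^ m ≠ 0 :=
    pow_ne_zero _ (Nat.cast_ne_zero.2 Fintype.card_ne_zero)
  have htr := trace_eZ_eq D ρ ρΩ ψ hodd hψ ha hΩa
  have hb : 0 < finrank ℂ (hHom D ρ ρΩ ψ a) := by
    rcases Nat.eq_zero_or_pos (finrank ℂ (hHom D ρ ρΩ ψ a)) with h | h
    · exfalso
      rw [h, Nat.cast_zero, zero_mul] at htr
      exact trace_eZ_ne_zero D ρ ψ hVa htr
    · exact h
  have hA5 : ∀ g, chiA D ρ ψ a g = (finrank ℂ (hHom D ρ ρΩ ψ a) : ℂ) * chiA D ρΩ ψ a g := by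
    intro g
    have h := Cfsg.Agent.Lib.Helper3.SPW.chiA_eq D ρ ρΩ ψ hm hodd hψ ha rV rΩ hΩa g
    rw [htr, mul_assoc, mul_comm ((Fintype.card F : ℂ) ^ m), ← mul_assoc] at h
    exact mul_right_cancel₀ hq h
  have hC1 := finrank_C1_le_of D ρ ρΩ ψ hψ ha (finrank ℂ (hHom D ρ ρΩ ψ a))
    (Cfsg.Agent.Lib.Helper3.SPW.finrank_homE ρ ρΩ D.iG (eZ D ρ ψ a) (eZ D ρΩ ψ a)
      (eZ_idem D ρ ψ a) (eZ_idem D ρΩ ψ a) (fun g => eZ_comm_iG D ρ ψ g a)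
      (fun g => eZ_comm_iG D ρΩ ψ g a))
    hA5 (Cfsg.Agent.Lib.Helper3.SPW.isCharacter_chiA D ρΩ ψ a)
    (Cfsg.Agent.Lib.Helper3.SPW.chiA_norm D ρΩ ψ hm hodd hψ ha hΩa) hΩ'
  have hC0 := suppZ_le_homP_of D ρ ρΩ ψ
    (fun v hv x => Cfsg.Agent.Lib.Helper4.SPWB.iH_fixed D ρ ψ hm rV v hv x)
    (fun v hv x => Cfsg.Agent.Lib.Helper4.SPWB.iH_fixed D ρΩ ψ hm rΩ v hv x)
  have hP := finrank_hHom_le_of D ρ ρΩ ψ hψ ha
    (fun φ hφ g => hHom_comm_iG D ρ ρΩ ψ hm hodd hψ ha rV rΩ hφ g)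
    (fun φ hφ => hHom_comm_negS D ρ ρΩ ψ hm hodd hψ ha rV rΩ s hsV hsΩ hφ)
  exact rigidity_of D ρ ρΩ ψ (a := a) (finrank ℂ (hHom D ρ ρΩ ψ a)) hb hB4 hC1 hC0 hP

end abstract

end Cfsg.Agent.Lib.Helper1.SPW
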