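import Mathlib

set_option autoImplicit false

/-!
Farm SPW: a nonzero intertwiner between irreducible representations gives equal characters.
-/

namespace Cfsg.Agent.Lib.Helper1.SPW

open Module

theorem char_eq_of_intertwiner {G : Type*} [Group G]
    {V : Type*} [AddCommGroup V] [Module ℂ V] [FiniteDimensional ℂ V]
    {W : Type*} [AddCommGroup W] [Module ℂ W] [FiniteDimensional ℂ W]
    (r : Representation ℂ G V) (r2 : Representation ℂ G W)
    (hr : r.IsIrreducible) (hr2 : r2.IsIrreducible)
    (φ : W →ₗ[ℂ] V) (hφ : φ ≠ 0) (hc : ∀ g : G, φ ∘ₗ r2 g = r g ∘ₗ φ) :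
    r2.character = r.character := by
  have := hr
  have := hr2
  let f : Representation.IntertwiningMap r2 r := ⟨φ, hc⟩
  rcases Representation.IsIrreducible.bijective_or_eq_zero f with h | h
  · exact Representation.char_iso (Representation.IntertwiningMap.ofBijective f h)
  · exfalso
    apply hφ
    have := congrArg Representation.IntertwiningMap.toLinearMap h
    exact this

end Cfsg.Agent.Lib.Helper1.SPW
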