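import Mathlib
import Cfsg.Agent.Lib.Helper1.SPWRig
import Cfsg.Agent.Lib.Helper1.SPWBr
import Cfsg.Agent.Lib.Helper1.SPWZ0
import Cfsg.Agent.Lib.Helper4.SPWBr3
import Cfsg.Agent.Lib.Helper4.SPWBr4
import Cfsg.Agent.Lib.Helper6.CenterIndex
import Cfsg.Agent.Lib.Helper4.SPWB3v

set_option autoImplicit false
set_option linter.unusedSectionVars false
set_option linter.unusedVariables false
set_option linter.unnecessarySimpa false
set_option linter.style.haveILetI false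

/-!
Farm SPW, assembly part 1: a small irreducible module whose `Z₁`-spectrum contains `c` has the
character of a member of a Weil pair for `(ψ, c)`.
-/

namespace Cfsg.Agent.Lib.Helper1.SPW

open Matrix Cfsg Cfsg.Agent.Lib.Helper6.Wl Cfsg.Agent.Lib.Helper4
open Module

section final
variable {F : Type*} [Field F] [Fintype F] [DecidableEq F] {m : ℕ}

theorem negSp_mem_center' : (negSp : symplecticGroup (Fin (m + 1)) F) ∈
    Subgroup.center (symplecticGroup (Fin (m + 1)) F) := by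
  rw [Subgroup.mem_center_iff]
  intro g
  apply Subtype.ext
  rw [Submonoid.coe_mul, Submonoid.coe_mul]
  show (g : Matrix (Fin (m + 1) ⊕ Fin (m + 1)) (Fin (m + 1) ⊕ Fin (m + 1)) F) *
      (-1 : Matrix (Fin (m + 1) ⊕ Fin (m + 1)) (Fin (m + 1) ⊕ Fin (m + 1)) F) =
    (-1 : Matrix (Fin (m + 1) ⊕ Fin (m + 1)) (Fin (m + 1) ⊕ Fin (m + 1)) F) *
      (g : Matrix (Fin (m + 1) ⊕ Fin (m + 1)) (Fin (m + 1) ⊕ Fin (m + 1)) F)
  simp

theorem negSp_mul_self' : (negSp : symplecticGroup (Fin (m + 1)) F) * negSp = 1 := by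
  apply Subtype.ext
  rw [Submonoid.coe_mul]
  show (-1 : Matrix (Fin (m + 1) ⊕ Fin (m + 1)) (Fin (m + 1) ⊕ Fin (m + 1)) F) * (-1) = 1
  simp

/-- the central element `-1` acts as `± 1` on an irreducible module -/
theorem exists_sign {V : Type*} [AddCommGroup V] [Module ℂ V] [FiniteDimensional ℂ V]
    (ρ : Representation ℂ (symplecticGroup (Fin (m + 1)) F) V) (hirr : ρ.IsIrreducible) :
    ∃ s : ℂ, (s = 1 ∨ s = -1) ∧ ρ negSp = s • 1 := by
  have := hirr
  haveI : Fintype (symplecticGroup (Fin (m + 1)) F) := Fintype.ofFinite _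
  obtain ⟨s, hs, -⟩ := Cfsg.Agent.Lib.Helper6.exists_scalar_of_mem_center ρ
    (negSp_mem_center' (F := F) (m := m))
  have hnt := Cfsg.Agent.Lib.Helper6.nontrivial_of_isIrreducible ρ
  refine ⟨s, ?_, hs⟩
  have h1 : ρ negSp * ρ negSp = 1 := by
    rw [← map_mul, negSp_mul_self', map_one]
  rw [hs] at h1
  have h2 : (s * s) • (LinearMap.id : V →ₗ[ℂ] V) = (1 : ℂ) • LinearMap.id := by
    rw [one_smul]
    have : (s • (LinearMap.id : V →ₗ[ℂ] V)) * (s • LinearMap.id) = (s * s) • LinearMap.id := by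
      rw [smul_mul_smul_comm]
      rfl
    rw [← this]
    exact h1
  obtain ⟨v, hv⟩ := exists_ne (0 : V)
  have h3 : (s * s) • v = (1 : ℂ) • v := by
    have := LinearMap.congr_fun h2 v
    simpa using this
  have h4 : s * s = 1 := by
    by_contra hne
    have : (s * s - 1) • v = 0 := by rw [sub_smul, h3, sub_self]
    rcases smul_eq_zero.1 this with h | h
    · exact hne (sub_eq_zero.1 h)
    · exact hv h
  have h5 : (s - 1) * (s + 1) = 0 := by linear_combination h4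
  rcases mul_eq_zero.1 h5 with h | h
  · left; exact sub_eq_zero.1 h
  · right; exact eq_neg_of_add_eq_zero_left h

/-- rigidity, applied to one member `rΩ` of a Weil pair -/
theorem char_eq_of_sign (hm : 0 < m) (hodd : Odd (Fintype.card F)) (ψ : AddChar F ℂ)
    (hψ : ψ ≠ 1) (D : Datum F m (symplecticGroup (Fin (m + 1)) F))
    (h1 : ∀ (b : Fin m → F) (s : F), D.iH (Heis.ab b s) = uQ (symRow b s))
    (h2 : ∀ S' : symAdd F m, D.iG (uQ S') = uQ (symEmb S'))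
    (h3 : D.iS (-1) * D.iG negSp = negSp)
    {V : Type*} [AddCommGroup V] [Module ℂ V] [FiniteDimensional ℂ V]
    (ρ : Representation ℂ (symplecticGroup (Fin (m + 1)) F) V) (hirr : ρ.IsIrreducible)
    (hsp : ∀ T : symAdd F (m + 1), eT ρ ψ T ≠ 0 →
      ∃ (c : F) (x : Fin (m + 1) → F),
        (T : Matrix (Fin (m + 1)) (Fin (m + 1)) F) = c • vecMulVec x x)
    (c : F) (hc : c ≠ 0) (hVc : eZ D ρ ψ c ≠ 0) (s : ℂ) (hs : ρ negSp = s • 1)
    {Ω : Type*} [AddCommGroup Ω] [Module ℂ Ω] [FiniteDimensional ℂ Ω]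
    (rΩ : Representation ℂ (symplecticGroup (Fin (m + 1)) F) Ω) (hΩirr : rΩ.IsIrreducible)
    (hΩs : rΩ negSp = s • 1)
    (hΩsp : ∀ T : symAdd F (m + 1), eT rΩ ψ T ≠ 0 →
      ∃ x : Fin (m + 1) → F, (T : Matrix (Fin (m + 1)) (Fin (m + 1)) F) = c • vecMulVec x x)
    (hΩtr : ∀ (x : Fin (m + 1) → F) (T : symAdd F (m + 1)), x ≠ 0 →
      (T : Matrix (Fin (m + 1)) (Fin (m + 1)) F) = c • vecMulVec x x →
      LinearMap.trace ℂ Ω (eT rΩ ψ T) = 1) :
    rΩ.character = ρ.character := by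
  haveI : Fintype (symplecticGroup (Fin (m + 1)) F) := Fintype.ofFinite _
  haveI : Fintype (symplecticGroup (Fin m) F) := Fintype.ofFinite _
  have rV : Rk1 D ρ ψ := rk1_of_spectrum D ρ ψ hodd hψ h1 h2 hsp
  have rΩ' : Rk1 D rΩ ψ := rk1_of_spectrum D rΩ ψ hodd hψ h1 h2
    (fun T hT => by obtain ⟨x, hx⟩ := hΩsp T hT; exact ⟨c, x, hx⟩)
  obtain ⟨hΩa, hΩ'⟩ := Cfsg.Agent.Lib.Helper4.SPWB.trace_eZ_of_spectrum D rΩ ψ hodd hψ h1 c hc
    hΩsp hΩtr
  have hsV : ρ (D.iS (-1) * D.iG negSp) = s • 1 := by rw [h3]; exact hs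
  have hsΩ : rΩ (D.iS (-1) * D.iG negSp) = s • 1 := by rw [h3]; exact hΩs
  have hB4 := Cfsg.Agent.Lib.Helper4.SPWB.finrank_homK_iSG_ge D ρ rΩ ψ hm hodd hψ hc rV rΩ'
    hirr hΩirr s hsV hsΩ hΩa hΩ' hVc
  obtain ⟨φ, hφ0, hφ⟩ := rigidity_of_B4 D ρ rΩ ψ hm hodd hψ hc rV rΩ' s hsV hsΩ hΩa hΩ' hVc hB4
  exact char_eq_of_intertwiner ρ rΩ hirr hΩirr φ hφ0 hφ

end final

end Cfsg.Agent.Lib.Helper1.SPW
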