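import Mathlib
import Cfsg.Agent.Lib.Helper1.SPWZ1
import Cfsg.Agent.Lib.Helper1.SPWG4
import Cfsg.Agent.Lib.Helper6.SPWW
import Cfsg.Agent.Lib.Helper5.SPWIR

set_option autoImplicit false
set_option linter.unusedSectionVars false
set_option linter.unusedVariables false
set_option linter.unnecessarySimpa false
set_option linter.style.haveILetI false

namespace Cfsg.Agent.Lib.Helper1.SPW

open Matrix Cfsg Cfsg.Agent.Lib.Helper6.Wl Cfsg.Agent.Lib.Helper4
open Module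

section final2
variable {F : Type*} [Field F] [Fintype F] [DecidableEq F] {m : ℕ}

/-- every nonzero element is `u²` or `ε u²` -/
theorem exists_class (ε : F) (hε : ¬ IsSquare ε) (c : F) (hc : c ≠ 0) :
    ∃ u : Fˣ, c = 1 * u * u ∨ c = ε * u * u := by
  by_cases hsq : IsSquare c
  · obtain ⟨r, hr⟩ := hsq
    have hr0 : r ≠ 0 := by rintro rfl; exact hc (by rw [hr, mul_zero])
    exact ⟨Units.mk0 r hr0, Or.inl (by rw [Units.val_mk0, one_mul, hr])⟩
  · have hε0 : ε ≠ 0 := by rintro rfl; exact hε ⟨0, by rw [mul_zero]⟩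
    have h1 : quadraticChar F c = -1 := quadraticChar_neg_one_iff_not_isSquare.2 hsq
    have h2 : quadraticChar F ε = -1 := quadraticChar_neg_one_iff_not_isSquare.2 hε
    have h3 : quadraticChar F (c * ε) = 1 := by rw [map_mul, h1, h2]; norm_num
    obtain ⟨r, hr⟩ := (quadraticChar_one_iff_isSquare (mul_ne_zero hc hε0)).1 h3
    have hr0 : r ≠ 0 := by rintro rfl; exact (mul_ne_zero hc hε0) (by rw [hr, mul_zero])
    refine ⟨Units.mk0 (r / ε) (div_ne_zero hr0 hε0), Or.inr ?_⟩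
    rw [Units.val_mk0]
    field_simp
    linear_combination hr

theorem eZ_ne_zero_of_torus {G : Type*} [Group G] (D : Datum F m G)
    {V : Type*} [AddCommGroup V] [Module ℂ V] (ρ : Representation ℂ G V) (ψ : AddChar F ℂ)
    (t : Fˣ) (a : F) (h : eZ D ρ ψ (a * t * t) ≠ 0) : eZ D ρ ψ a ≠ 0 := by
  intro h0
  apply h
  rw [eZ_torus_eq, h0, mul_zero, zero_mul]

/-- numerics: the Weil degrees are below the gap bound -/
theorem gap_numeric (q n : ℕ) (hq : 3 ≤ q) (hn : 2 ≤ n) :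
    (q + 1) * (q ^ n + 1) < (q ^ n - 1) * (q ^ n - q) := by
  obtain ⟨k, rfl⟩ : ∃ k, n = k + 2 := ⟨n - 2, by omega⟩
  have hQ : q * q ≤ q ^ (k + 2) := by
    calc q * q = q ^ 2 := (sq q).symm
      _ ≤ q ^ (k + 2) := Nat.pow_le_pow_right (by omega) (by omega)
  set Q := q ^ (k + 2) with hQdef
  have h9 : 9 ≤ q * q := by nlinarith
  obtain ⟨a, ha⟩ : ∃ a, Q = a + 1 := ⟨Q - 1, by omega⟩
  obtain ⟨b, hb⟩ : ∃ b, Q = b + q := ⟨Q - q, by have : q ≤ q * q := by nlinarith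
                                                omega⟩
  have e1 : Q - 1 = a := by omega
  have e2 : Q - q = b := by omega
  rw [e1, e2]
  have hb2 : 2 * q ≤ b := by nlinarith
  have hab : a + 1 = b + q := by omega
  have h3 : (3 : ℤ) ≤ q := by exact_mod_cast hq
  have hb2' : (2 : ℤ) * q ≤ b := by exact_mod_cast hb2
  have hab' : (a : ℤ) = b + q - 1 := by
    have : (a : ℤ) + 1 = b + q := by exact_mod_cast hab
    linarith
  have hQ' : (Q : ℤ) = b + q := by exact_mod_cast hb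
  suffices h : ((q : ℤ) + 1) * (Q + 1) < a * b by exact_mod_cast h
  rw [hab', hQ']
  nlinarith [mul_nonneg (sub_nonneg.2 hb2') (by linarith : (0 : ℤ) ≤ b),
    mul_nonneg (sub_nonneg.2 hb2') (by linarith : (0 : ℤ) ≤ 2 * q - 2),
    mul_nonneg (sub_nonneg.2 h3) (by linarith : (0 : ℤ) ≤ (q : ℤ) + 1)]

/-- the traces of the idempotents `eT` depend on the character only -/
theorem trace_eT_eq_of_char {n : ℕ}
    {V : Type*} [AddCommGroup V] [Module ℂ V] [FiniteDimensional ℂ V]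
    {Ω : Type*} [AddCommGroup Ω] [Module ℂ Ω] [FiniteDimensional ℂ Ω]
    (r1 : Representation ℂ (symplecticGroup (Fin n) F) V)
    (r2 : Representation ℂ (symplecticGroup (Fin n) F) Ω) (ψ : AddChar F ℂ)
    (h : r1.character = r2.character) (T : symAdd F n) :
    LinearMap.trace ℂ V (eT r1 ψ T) = LinearMap.trace ℂ Ω (eT r2 ψ T) := by
  rw [trace_eT, trace_eT]
  congr 1
  apply Finset.sum_congr rfl
  intro S _
  congr 1
  exact congr_fun h (uQ S)

/-- Weil characters for the two square classes differ -/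
theorem char_ne_of_classes (ψ : AddChar F ℂ) (ε : F) (hε : ¬ IsSquare ε)
    {V : Type*} [AddCommGroup V] [Module ℂ V] [FiniteDimensional ℂ V]
    {Ω : Type*} [AddCommGroup Ω] [Module ℂ Ω] [FiniteDimensional ℂ Ω]
    (r1 : Representation ℂ (symplecticGroup (Fin (m + 1)) F) V)
    (re : Representation ℂ (symplecticGroup (Fin (m + 1)) F) Ω)
    (h1tr : ∀ (x : Fin (m + 1) → F) (T : symAdd F (m + 1)), x ≠ 0 →
      (T : Matrix (Fin (m + 1)) (Fin (m + 1)) F) = (1 : F) • vecMulVec x x →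
      LinearMap.trace ℂ V (eT r1 ψ T) = 1)
    (hesp : ∀ T : symAdd F (m + 1), eT re ψ T ≠ 0 →
      ∃ x : Fin (m + 1) → F, (T : Matrix (Fin (m + 1)) (Fin (m + 1)) F) = ε • vecMulVec x x) :
    r1.character ≠ re.character := by
  intro h
  have hx : (Pi.single 0 1 : Fin (m + 1) → F) ≠ 0 := by
    intro h0
    have := congr_fun h0 0
    simp at this
  have ht := trace_eT_eq_of_char r1 re ψ h (sm1 1 (Pi.single 0 1))
  rw [h1tr _ _ hx (sm1_coe _ _)] at ht
  have h0 : eT re ψ (sm1 1 (Pi.single 0 1)) = 0 := by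
    by_contra hne
    obtain ⟨x, hx⟩ := hesp _ hne
    rw [sm1_coe] at hx
    have h00 := congr_fun (congr_fun hx 0) 0
    simp only [Matrix.smul_apply, vecMulVec_apply, Pi.single_eq_same, smul_eq_mul, mul_one] at h00
    have hx0 : x 0 ≠ 0 := by
      intro hx0
      rw [hx0, mul_zero, mul_zero] at h00
      exact one_ne_zero h00
    apply hε
    refine ⟨(x 0)⁻¹, ?_⟩
    calc ε = ε * (x 0 * x 0) * ((x 0)⁻¹ * (x 0)⁻¹) := by field_simp
      _ = (x 0)⁻¹ * (x 0)⁻¹ := by rw [← h00, one_mul]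
  rw [h0, map_zero] at ht
  exact one_ne_zero ht

/-- a small nontrivial irreducible module has the character of a member of the Weil pair of one
of the two square classes -/
theorem char_mem_pairs (hm : 0 < m) (hodd : Odd (Fintype.card F)) (ψ : AddChar F ℂ) (hψ : ψ ≠ 1)
    (ε : F) (hε : ¬ IsSquare ε)
    {k : ℕ} (ρ : Representation ℂ (symplecticGroup (Fin (m + 1)) F) (Fin k → ℂ))
    (hirr : ρ.IsIrreducible) (hk : k ≠ 1)
    (hdim : 2 * (Fintype.card F + 1) * k <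
      (Fintype.card F ^ (m + 1) - 1) * (Fintype.card F ^ (m + 1) - Fintype.card F))
    {s1 : ℂ} (hs1 : s1 = 1 ∨ s1 = -1)
    {ΩP1 : Type*} [AddCommGroup ΩP1] [Module ℂ ΩP1] [FiniteDimensional ℂ ΩP1]
    {ΩM1 : Type*} [AddCommGroup ΩM1] [Module ℂ ΩM1] [FiniteDimensional ℂ ΩM1]
    (rP1 : Representation ℂ (symplecticGroup (Fin (m + 1)) F) ΩP1)
    (rM1 : Representation ℂ (symplecticGroup (Fin (m + 1)) F) ΩM1)
    (hP1irr : rP1.IsIrreducible) (hM1irr : rM1.IsIrreducible)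
    (hP1s : rP1 negSp = s1 • 1) (hM1s : rM1 negSp = (-s1) • 1)
    (hP1sp : ∀ T : symAdd F (m + 1), eT rP1 ψ T ≠ 0 →
      ∃ x : Fin (m + 1) → F, (T : Matrix (Fin (m + 1)) (Fin (m + 1)) F) = (1 : F) • vecMulVec x x)
    (hM1sp : ∀ T : symAdd F (m + 1), eT rM1 ψ T ≠ 0 →
      ∃ x : Fin (m + 1) → F, (T : Matrix (Fin (m + 1)) (Fin (m + 1)) F) = (1 : F) • vecMulVec x x)
    (h1tr : ∀ (x : Fin (m + 1) → F) (T : symAdd F (m + 1)), x ≠ 0 →
      (T : Matrix (Fin (m + 1)) (Fin (m + 1)) F) = (1 : F) • vecMulVec x x →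
      LinearMap.trace ℂ _ (eT rP1 ψ T) = 1 ∧ LinearMap.trace ℂ _ (eT rM1 ψ T) = 1)
    {se : ℂ} (hse : se = 1 ∨ se = -1)
    {ΩPe : Type*} [AddCommGroup ΩPe] [Module ℂ ΩPe] [FiniteDimensional ℂ ΩPe]
    {ΩMe : Type*} [AddCommGroup ΩMe] [Module ℂ ΩMe] [FiniteDimensional ℂ ΩMe]
    (rPe : Representation ℂ (symplecticGroup (Fin (m + 1)) F) ΩPe)
    (rMe : Representation ℂ (symplecticGroup (Fin (m + 1)) F) ΩMe)
    (hPeirr : rPe.IsIrreducible) (hMeirr : rMe.IsIrreducible)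
    (hPes : rPe negSp = se • 1) (hMes : rMe negSp = (-se) • 1)
    (hPesp : ∀ T : symAdd F (m + 1), eT rPe ψ T ≠ 0 →
      ∃ x : Fin (m + 1) → F, (T : Matrix (Fin (m + 1)) (Fin (m + 1)) F) = ε • vecMulVec x x)
    (hMesp : ∀ T : symAdd F (m + 1), eT rMe ψ T ≠ 0 →
      ∃ x : Fin (m + 1) → F, (T : Matrix (Fin (m + 1)) (Fin (m + 1)) F) = ε • vecMulVec x x)
    (hetr : ∀ (x : Fin (m + 1) → F) (T : symAdd F (m + 1)), x ≠ 0 →
      (T : Matrix (Fin (m + 1)) (Fin (m + 1)) F) = ε • vecMulVec x x →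
      LinearMap.trace ℂ _ (eT rPe ψ T) = 1 ∧ LinearMap.trace ℂ _ (eT rMe ψ T) = 1) :
    ρ.character = rP1.character ∨ ρ.character = rPe.character ∨
      ρ.character = rM1.character ∨ ρ.character = rMe.character := by
  have h2F : (2 : F) ≠ 0 := two_ne_zero_of_odd hodd
  have hε0 : ε ≠ 0 := by rintro rfl; exact hε ⟨0, by rw [mul_zero]⟩
  obtain ⟨D, h1, h2, h3⟩ := exists_datum hodd m
  have hfr : finrank ℂ (Fin k → ℂ) = k := Module.finrank_fin_fun ℂ
  have hpos : 0 < finrank ℂ (Fin k → ℂ) := by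
    have := hirr
    exact Cfsg.Agent.Lib.Helper6.finrank_pos_of_isIrreducible ρ
  have hk2 : 2 ≤ finrank ℂ (Fin k → ℂ) := by rw [hfr] at hpos ⊢; omega
  have hnt : ∃ g, ρ g ≠ 1 := by
    by_contra hcon
    push Not at hcon
    exact not_irreducible_of_trivial ρ hcon hk2 hirr
  have hsp : ∀ T : symAdd F (m + 1), eT ρ ψ T ≠ 0 →
      ∃ (c : F) (x : Fin (m + 1) → F),
        (T : Matrix (Fin (m + 1)) (Fin (m + 1)) F) = c • vecMulVec x x := by
    intro T hT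
    exact Cfsg.Agent.Lib.Helper5.SPWI.isRk1_of_small (by omega) h2F ρ ψ hψ (by rw [hfr]; exact hdim)
      T hT
  obtain ⟨c, hc, hVc⟩ := Cfsg.Agent.Lib.Helper4.SPWB.exists_eZ_ne_zero D ρ ψ hodd hψ h1 hnt hsp
  obtain ⟨s, hs, hρs⟩ := exists_sign ρ hirr
  obtain ⟨u, hu | hu⟩ := exists_class ε hε c hc
  · have hV1 : eZ D ρ ψ 1 ≠ 0 := eZ_ne_zero_of_torus D ρ ψ u 1 (by rw [← hu]; exact hVc)
    have hcase : s = s1 ∨ s = -s1 := by
      rcases hs with rfl | rfl <;> rcases hs1 with rfl | rfl <;> simp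
    rcases hcase with rfl | rfl
    · left
      exact (char_eq_of_sign hm hodd ψ hψ D h1 h2 h3 ρ hirr hsp 1 one_ne_zero hV1 s hρs rP1 hP1irr
        hP1s hP1sp (fun x T hx hT => (h1tr x T hx hT).1)).symm
    · right; right; left
      exact (char_eq_of_sign hm hodd ψ hψ D h1 h2 h3 ρ hirr hsp 1 one_ne_zero hV1 _ hρs rM1 hM1irr
        hM1s hM1sp (fun x T hx hT => (h1tr x T hx hT).2)).symm
  · have hVe : eZ D ρ ψ ε ≠ 0 := eZ_ne_zero_of_torus D ρ ψ u ε (by rw [← hu]; exact hVc)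
    have hcase : s = se ∨ s = -se := by
      rcases hs with rfl | rfl <;> rcases hse with rfl | rfl <;> simp
    rcases hcase with rfl | rfl
    · right; left
      exact (char_eq_of_sign hm hodd ψ hψ D h1 h2 h3 ρ hirr hsp ε hε0 hVe s hρs rPe hPeirr
        hPes hPesp (fun x T hx hT => (hetr x T hx hT).1)).symm
    · right; right; right
      exact (char_eq_of_sign hm hodd ψ hψ D h1 h2 h3 ρ hirr hsp ε hε0 hVe _ hρs rMe hMeirr
        hMes hMesp (fun x T hx hT => (hetr x T hx hT).2)).symm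

theorem exists_nonsquare_of_odd (hodd : Odd (Fintype.card F)) : ∃ ε : F, ¬ IsSquare ε := by
  apply FiniteField.exists_nonsquare
  intro hchar
  have := FiniteField.even_card_of_char_two hchar
  rcases hodd with ⟨k, hk⟩
  omega

/-- the four Weil characters of `Sp(2(m+1), q)` and the gap -/
theorem weil_four (hm : 0 < m) (hodd : Odd (Fintype.card F)) :
    ∃ (kP kM : ℕ) (χP1 χPe χM1 χMe : symplecticGroup (Fin (m + 1)) F → ℂ),
      2 * kP = Fintype.card F ^ (m + 1) + 1 ∧ 2 * kM + 1 = Fintype.card F ^ (m + 1) ∧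
      IsIrrCharacter _ χP1 ∧ IsIrrCharacter _ χPe ∧ IsIrrCharacter _ χM1 ∧ IsIrrCharacter _ χMe ∧
      χP1 1 = kP ∧ χPe 1 = kP ∧ χM1 1 = kM ∧ χMe 1 = kM ∧ χP1 ≠ χPe ∧ χM1 ≠ χMe ∧
      ∀ (k : ℕ) (ρ : Representation ℂ (symplecticGroup (Fin (m + 1)) F) (Fin k → ℂ)),
        ρ.IsIrreducible → k ≠ 1 →
        2 * (Fintype.card F + 1) * k <
          (Fintype.card F ^ (m + 1) - 1) * (Fintype.card F ^ (m + 1) - Fintype.card F) →
        ρ.character = χP1 ∨ ρ.character = χPe ∨ ρ.character = χM1 ∨ ρ.character = χMe := by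
  obtain ⟨ψ, hψ⟩ := exists_psi_ne_one F
  obtain ⟨ε, hε⟩ := exists_nonsquare_of_odd hodd
  have hε0 : ε ≠ 0 := by rintro rfl; exact hε ⟨0, by rw [mul_zero]⟩
  obtain ⟨s1, kP1, kM1, rP1, rM1, hs1, hkP1, hkM1, hP1irr, hM1irr, hP1s, hM1s, hP1sp, hM1sp,
    h1tr⟩ := Cfsg.Agent.Lib.Helper6.SPW.exists_weil_pair (n := m + 1) (by omega) hodd ψ hψ 1
      one_ne_zero
  obtain ⟨se, kPe, kMe, rPe, rMe, hse, hkPe, hkMe, hPeirr, hMeirr, hPes, hMes, hPesp, hMesp,
    hetr⟩ := Cfsg.Agent.Lib.Helper6.SPW.exists_weil_pair (n := m + 1) (by omega) hodd ψ hψ ε hε0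
  have hdeg : ∀ {k : ℕ} (r : Representation ℂ (symplecticGroup (Fin (m + 1)) F) (Fin k → ℂ)),
      r.character 1 = k := by
    intro k r
    rw [Representation.char_one, Module.finrank_fin_fun]
  have hkP : kPe = kP1 := by omega
  have hkM : kMe = kM1 := by omega
  refine ⟨kP1, kM1, rP1.character, rPe.character, rM1.character, rMe.character, hkP1, hkM1,
    ⟨_, rP1, hP1irr, rfl⟩, ⟨_, rPe, hPeirr, rfl⟩, ⟨_, rM1, hM1irr, rfl⟩, ⟨_, rMe, hMeirr, rfl⟩,
    hdeg rP1, by rw [hdeg rPe, hkP], hdeg rM1, by rw [hdeg rMe, hkM],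
    char_ne_of_classes ψ ε hε rP1 rPe (fun x T hx hT => (h1tr x T hx hT).1) hPesp,
    char_ne_of_classes ψ ε hε rM1 rMe (fun x T hx hT => (h1tr x T hx hT).2) hMesp, ?_⟩
  intro k ρ hirr hk hdim
  exact char_mem_pairs hm hodd ψ hψ ε hε ρ hirr hk hdim hs1 rP1 rM1 hP1irr hM1irr hP1s hM1s hP1sp
    hM1sp h1tr hse rPe rMe hPeirr hMeirr hPes hMes hPesp hMesp hetr

end final2

section counting

theorem card_irr_eq_two_of {G : Type*} [Group G] (d : ℂ) (χ1 χ2 : G → ℂ)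
    (h1 : IsIrrCharacter G χ1) (h2 : IsIrrCharacter G χ2) (hd1 : χ1 1 = d) (hd2 : χ2 1 = d)
    (hne : χ1 ≠ χ2)
    (hall : ∀ χ : G → ℂ, IsIrrCharacter G χ → χ 1 = d → χ = χ1 ∨ χ = χ2) :
    Nat.card {χ : IrrCharacter G // (χ : G → ℂ) 1 = d} = 2 := by
  rw [Nat.card_eq_two_iff]
  refine ⟨⟨⟨χ1, h1⟩, hd1⟩, ⟨⟨χ2, h2⟩, hd2⟩, ?_, ?_⟩
  · intro h
    apply hne
    exact congrArg (fun z : {χ : IrrCharacter G // (χ : G → ℂ) 1 = d} => ((z : IrrCharacter G) : G → ℂ)) h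
  · apply Set.eq_univ_of_forall
    rintro ⟨⟨χ, hχ⟩, hd⟩
    rcases hall χ hχ hd with rfl | rfl
    · left; rfl
    · right; rfl

/-- **S2524**: Weil characters of `Sp(2n, q)`, `q` odd, and the degree gap -/
theorem spw_main {F : Type*} [Field F] [Fintype F] (hodd : Odd (Fintype.card F)) (n : ℕ)
    (hn : 2 ≤ n) :
    Nat.card {χ : Cfsg.IrrCharacter ↥(Matrix.symplecticGroup (Fin n) F) // (χ : ↥(Matrix.symplecticGroup (Fin n) F) → ℂ) 1 = (((Fintype.card F) ^ n + 1 : ℕ) : ℂ) / 2} = 2 ∧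
    Nat.card {χ : Cfsg.IrrCharacter ↥(Matrix.symplecticGroup (Fin n) F) // (χ : ↥(Matrix.symplecticGroup (Fin n) F) → ℂ) 1 = (((Fintype.card F) ^ n - 1 : ℕ) : ℂ) / 2} = 2 ∧
    ∀ χ : Cfsg.IrrCharacter ↥(Matrix.symplecticGroup (Fin n) F),
      (χ : ↥(Matrix.symplecticGroup (Fin n) F) → ℂ) 1 ≠ 1 →
      (χ : ↥(Matrix.symplecticGroup (Fin n) F) → ℂ) 1 ≠ (((Fintype.card F) ^ n + 1 : ℕ) : ℂ) / 2 →
      (χ : ↥(Matrix.symplecticGroup (Fin n) F) → ℂ) 1 ≠ (((Fintype.card F) ^ n - 1 : ℕ) : ℂ) / 2 →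
      (((Fintype.card F) ^ n - 1 : ℕ) : ℝ) * (((Fintype.card F) ^ n - Fintype.card F : ℕ) : ℝ) / (2 * ((Fintype.card F : ℕ) + 1 : ℝ)) ≤ ‖(χ : ↥(Matrix.symplecticGroup (Fin n) F) → ℂ) 1‖ := by
  classical
  obtain ⟨m, rfl⟩ : ∃ m, n = m + 1 := ⟨n - 1, by omega⟩
  have hm : 0 < m := by omega
  obtain ⟨kP, kM, χP1, χPe, χM1, χMe, hkP, hkM, iP1, iPe, iM1, iMe, dP1, dPe, dM1, dMe, nP, nM,
    hall⟩ := weil_four (F := F) hm hodd
  set q := Fintype.card F with hq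
  have hq3 : 3 ≤ q := by
    have h1 : 1 < q := Fintype.one_lt_card
    rcases hodd with ⟨j, hj⟩
    omega
  have hgap := gap_numeric q (m + 1) hq3 hn
  have hQ9 : 9 ≤ q ^ (m + 1) := by
    calc 9 ≤ q ^ 2 := by nlinarith
      _ ≤ q ^ (m + 1) := Nat.pow_le_pow_right (by omega) (by omega)
  have hdeg : ∀ {k : ℕ} (r : Representation ℂ (symplecticGroup (Fin (m + 1)) F) (Fin k → ℂ)),
      r.character 1 = k := by
    intro k r
    rw [Representation.char_one, Module.finrank_fin_fun]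
  have hcP : (kP : ℂ) = ((q ^ (m + 1) + 1 : ℕ) : ℂ) / 2 := by
    rw [← hkP]; push_cast; ring
  have hcM : (kM : ℂ) = ((q ^ (m + 1) - 1 : ℕ) : ℂ) / 2 := by
    have : q ^ (m + 1) - 1 = 2 * kM := by omega
    rw [this]; push_cast; ring
  -- a small irreducible character has degree `kP` or `kM` or `1`
  have hsmall : ∀ (k : ℕ) (ρ : Representation ℂ (symplecticGroup (Fin (m + 1)) F) (Fin k → ℂ)),
      ρ.IsIrreducible → k ≠ 1 → 2 * (q + 1) * k < (q ^ (m + 1) - 1) * (q ^ (m + 1) - q) →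
      (k = kP ∧ (ρ.character = χP1 ∨ ρ.character = χPe)) ∨
        (k = kM ∧ (ρ.character = χM1 ∨ ρ.character = χMe)) := by
    intro k ρ hirr hk hdim
    have hk' := hdeg ρ
    rcases hall k ρ hirr hk hdim with h | h | h | h
    · left
      refine ⟨?_, Or.inl h⟩
      rw [h, dP1] at hk'
      exact_mod_cast hk'.symm
    · left
      refine ⟨?_, Or.inr h⟩
      rw [h, dPe] at hk'
      exact_mod_cast hk'.symm
    · right
      refine ⟨?_, Or.inl h⟩
      rw [h, dM1] at hk'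
      exact_mod_cast hk'.symm
    · right
      refine ⟨?_, Or.inr h⟩
      rw [h, dMe] at hk'
      exact_mod_cast hk'.symm
  have hdimP : 2 * (q + 1) * kP < (q ^ (m + 1) - 1) * (q ^ (m + 1) - q) := by
    calc 2 * (q + 1) * kP = (q + 1) * (2 * kP) := by ring
      _ = (q + 1) * (q ^ (m + 1) + 1) := by rw [hkP]
      _ < _ := hgap
  have hdimM : 2 * (q + 1) * kM < (q ^ (m + 1) - 1) * (q ^ (m + 1) - q) := by
    calc 2 * (q + 1) * kM = (q + 1) * (2 * kM) := by ring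
      _ ≤ (q + 1) * (q ^ (m + 1) + 1) := Nat.mul_le_mul_left _ (by omega)
      _ < _ := hgap
  refine ⟨?_, ?_, ?_⟩
  · apply card_irr_eq_two_of _ χP1 χPe iP1 iPe (by rw [dP1, hcP]) (by rw [dPe, hcP]) nP
    rintro χ ⟨k, ρ, hirr, rfl⟩ hd
    have hk' := hdeg ρ
    rw [hk'] at hd
    have hkk : k = kP := by
      have : (k : ℂ) = kP := by rw [hd, hcP]
      exact_mod_cast this
    subst hkk
    rcases hsmall k ρ hirr (by omega) hdimP with ⟨-, h⟩ | ⟨h, -⟩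
    · exact h
    · omega
  · apply card_irr_eq_two_of _ χM1 χMe iM1 iMe (by rw [dM1, hcM]) (by rw [dMe, hcM]) nM
    rintro χ ⟨k, ρ, hirr, rfl⟩ hd
    have hk' := hdeg ρ
    rw [hk'] at hd
    have hkk : k = kM := by
      have : (k : ℂ) = kM := by rw [hd, hcM]
      exact_mod_cast this
    subst hkk
    rcases hsmall k ρ hirr (by omega) hdimM with ⟨h, -⟩ | ⟨-, h⟩
    · omega
    · exact h
  · rintro ⟨χ, k, ρ, hirr, rfl⟩ hne1 hneP hneM
    show _ ≤ ‖ρ.character 1‖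
    replace hne1 : ρ.character 1 ≠ 1 := hne1
    replace hneP : ρ.character 1 ≠ ((q ^ (m + 1) + 1 : ℕ) : ℂ) / 2 := hneP
    replace hneM : ρ.character 1 ≠ ((q ^ (m + 1) - 1 : ℕ) : ℂ) / 2 := hneM
    have hk' := hdeg ρ
    rw [hk'] at hne1 hneP hneM ⊢
    by_contra hlt
    push Not at hlt
    rw [Complex.norm_natCast] at hlt
    have hk1 : k ≠ 1 := by
      rintro rfl
      exact hne1 (by norm_num)
    have hpos : (0 : ℝ) < 2 * ((q : ℕ) + 1 : ℝ) := by positivity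
    rw [lt_div_iff₀ hpos] at hlt
    have hnat : 2 * (q + 1) * k < (q ^ (m + 1) - 1) * (q ^ (m + 1) - q) := by
      have : ((2 * (q + 1) * k : ℕ) : ℝ) < (((q ^ (m + 1) - 1) * (q ^ (m + 1) - q) : ℕ) : ℝ) := by
        rw [Nat.cast_mul (q ^ (m + 1) - 1)]
        calc ((2 * (q + 1) * k : ℕ) : ℝ) = (k : ℝ) * (2 * ((q : ℕ) + 1 : ℝ)) := by
              push_cast; ring
          _ < _ := hlt
      exact_mod_cast this
    rcases hsmall k ρ hirr hk1 hnat with ⟨h, -⟩ | ⟨h, -⟩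
    · exact hneP (by rw [h, hcP])
    · exact hneM (by rw [h, hcM])

end counting


end Cfsg.Agent.Lib.Helper1.SPW
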