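/-
Farm SW (S3211), unit D: `Setting.upper`, the upper bound for the number of square roots of the
involution `a * b` inside `C(j)`.
-/
import Mathlib
import Cfsg.Agent.Lib.Lead.SWDefs
import Cfsg.Agent.Lib.Helper4.CentProd1

set_option autoImplicit false

namespace Cfsg.Agent.Lib.Helper1.SWDu

open Cfsg.Agent.Lib.Lead.SWD

variable {G : Type*} [Group G]

/-- a map whose fibres are stable under a fixed-point-free map has a small image -/
theorem two_mul_card_image_le {α β : Type*} [Fintype α] [DecidableEq β] (f : α → β) (ι : α → α)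
    (h1 : ∀ x, ι x ≠ x) (h2 : ∀ x, f (ι x) = f x) :
    2 * (Finset.univ.image f).card ≤ Fintype.card α := by
  classical
  have hsurj : ∀ y : {y // y ∈ Finset.univ.image f}, ∃ x, f x = y.1 := by
    intro y
    obtain ⟨x, -, hx⟩ := Finset.mem_image.mp y.2
    exact ⟨x, hx⟩
  choose g hg using hsurj
  let φ : {y // y ∈ Finset.univ.image f} × Bool → α := fun p => if p.2 then ι (g p.1) else g p.1
  have hfφ : ∀ p, f (φ p) = p.1.1 := by
    rintro ⟨y, b⟩
    cases b
    · simp only [φ, Bool.false_eq_true, if_false]; exact hg y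
    · simp only [φ, if_true]; rw [h2]; exact hg y
  have hφ : Function.Injective φ := by
    rintro ⟨y, b⟩ ⟨y', b'⟩ h
    have hy : y = y' := by
      apply Subtype.ext
      have := congrArg f h
      rw [hfφ, hfφ] at this
      exact this
    subst hy
    cases b <;> cases b'
    · rfl
    · exfalso
      simp only [φ, Bool.false_eq_true, if_false, if_true] at h
      exact h1 _ h.symm
    · exfalso
      simp only [φ, Bool.false_eq_true, if_false, if_true] at h
      exact h1 _ h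
    · rfl
  have := Fintype.card_le_of_injective φ hφ
  rw [Fintype.card_prod, Fintype.card_bool, Fintype.card_coe] at this
  omega

section basics

variable {L₁ L₂ : Subgroup G} {j n : G} (S : Setting L₁ L₂ j n)
include S

theorem j_sq : j * j = 1 := by
  have := pow_orderOf_eq_one j
  rw [S.hj, pow_two] at this
  exact this

theorem j_ne_one : j ≠ 1 := by
  intro h
  have := S.hj
  rw [h, orderOf_one] at this
  omega

theorem j_mem1 : j ∈ L₁ := by
  have : j ∈ L₁ ⊓ L₂ := by rw [S.hm]; exact Subgroup.mem_zpowers j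
  exact this.1

theorem j_mem2 : j ∈ L₂ := by
  have : j ∈ L₁ ⊓ L₂ := by rw [S.hm]; exact Subgroup.mem_zpowers j
  exact this.2

theorem mem_inter {x : G} (h1 : x ∈ L₁) (h2 : x ∈ L₂) : x = 1 ∨ x = j := by
  have : x ∈ Subgroup.zpowers j := by rw [← S.hm]; exact ⟨h1, h2⟩
  obtain ⟨k, rfl⟩ := Subgroup.mem_zpowers_iff.mp this
  rcases Int.even_or_odd k with ⟨m, rfl⟩ | ⟨m, rfl⟩
  · left
    rw [← two_mul, zpow_mul, zpow_two, j_sq S, one_zpow]
  · right
    rw [zpow_add, zpow_one, zpow_mul, zpow_two, j_sq S, one_zpow, one_mul]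

theorem comm1 {x : G} (hx : x ∈ L₁) : x * j = j * x :=
  Subgroup.mem_centralizer_singleton_iff.mp (S.hle (Subgroup.mem_sup_left hx))

theorem comm2 {x : G} (hx : x ∈ L₂) : x * j = j * x :=
  Subgroup.mem_centralizer_singleton_iff.mp (S.hle (Subgroup.mem_sup_right hx))

theorem commn : n * j = j * n := Subgroup.mem_centralizer_singleton_iff.mp S.hn

theorem n_sq : n * n = j := by rw [← pow_two]; exact S.hn2


theorem conj_mem2 {x : G} (hx : x ∈ L₁) : n * x * n⁻¹ ∈ L₂ := by
  rw [← S.hswap]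
  exact ⟨x, hx, rfl⟩

theorem conj_mem1 {y : G} (hy : y ∈ L₂) : n * y * n⁻¹ ∈ L₁ := by
  have hy' := hy
  rw [← S.hswap] at hy'
  obtain ⟨x, hx, rfl⟩ := hy'
  have h : n * ((MulAut.conj n).toMonoidHom x) * n⁻¹ = (n * n) * x * (n * n)⁻¹ := by
    show n * (n * x * n⁻¹) * n⁻¹ = _
    group
  rw [h, n_sq S]
  have hc := comm1 S hx
  have : j * x * j⁻¹ = x := by
    rw [← hc, mul_assoc, mul_inv_cancel, mul_one]
  rw [this]
  exact hx

/-- `n⁻¹ = n * j` -/
theorem n_inv : n⁻¹ = n * j := by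
  apply inv_eq_of_mul_eq_one_right
  rw [← mul_assoc, n_sq S, j_sq S]

theorem n_not_mem : n ∉ L₁ ⊔ L₂ := by
  intro hn
  obtain ⟨u, hu, v, hv, huv⟩ := Cfsg.Agent.Lib.Helper4.CentProd.exists_mul_of_mem_sup L₁ L₂ S.hc hn
  -- every element of `L₁` is `1` or `j`
  have hall : ∀ x ∈ L₁, x = 1 ∨ x = j := by
    intro x hx
    have h2 : n * x * n⁻¹ ∈ L₂ := conj_mem2 S hx
    have h1 : n * x * n⁻¹ ∈ L₁ := by
      have : n * x * n⁻¹ = u * x * u⁻¹ := by
        rw [huv]
        have hvx : v * x = x * v := (S.hc x hx v hv).symm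
        calc u * v * x * (u * v)⁻¹ = u * (v * x) * v⁻¹ * u⁻¹ := by group
          _ = u * (x * v) * v⁻¹ * u⁻¹ := by rw [hvx]
          _ = u * x * u⁻¹ := by group
      rw [this]
      exact L₁.mul_mem (L₁.mul_mem hu hx) (L₁.inv_mem hu)
    rcases mem_inter S h1 h2 with h | h
    · left
      have : x = n⁻¹ * (n * x * n⁻¹) * n := by group
      rw [this, h]; group
    · right
      have : x = n⁻¹ * (n * x * n⁻¹) * n := by group
      rw [this, h]
      rw [mul_assoc, ← commn S, ← mul_assoc, inv_mul_cancel, one_mul]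
  have hu' := hall u hu
  -- `v = n u n⁻¹ ...`: use that `L₂` is the image of `L₁`
  have hall2 : ∀ y ∈ L₂, y = 1 ∨ y = j := by
    intro y hy
    rcases hall _ (conj_mem1 S hy) with h | h
    · left
      have : y = n⁻¹ * (n * y * n⁻¹) * n := by group
      rw [this, h]; group
    · right
      have : y = n⁻¹ * (n * y * n⁻¹) * n := by group
      rw [this, h]
      rw [mul_assoc, ← commn S, ← mul_assoc, inv_mul_cancel, one_mul]
  have hv' := hall2 v hv
  have hnn := n_sq S
  have hj1 := j_ne_one S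
  have hjj := j_sq S
  rcases hu' with rfl | rfl <;> rcases hv' with rfl | rfl
  · rw [huv] at hnn; simp at hnn; exact hj1 hnn.symm
  · rw [huv] at hnn; simp only [one_mul] at hnn; rw [hjj] at hnn; exact hj1 hnn.symm
  · rw [huv] at hnn; simp only [mul_one] at hnn; rw [hjj] at hnn; exact hj1 hnn.symm
  · rw [huv, hjj] at hnn; simp at hnn; exact hj1 hnn.symm

/-- the elements of `C(j)` outside `L₁L₂` are `l * n` -/
theorem mem_cases (r : G) (hr : r * j = j * r) (hrL : r ∉ L₁ ⊔ L₂) :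
    ∃ u ∈ L₁, ∃ v ∈ L₂, r = u * v * n := by
  have hrC : r ∈ Subgroup.centralizer ({j} : Set G) := Subgroup.mem_centralizer_singleton_iff.mpr hr
  have hidx : ((L₁ ⊔ L₂).subgroupOf (Subgroup.centralizer ({j} : Set G))).index = 2 := S.hi
  have hnC : n ∈ Subgroup.centralizer ({j} : Set G) := S.hn
  have key := Subgroup.mul_mem_iff_of_index_two hidx
    (a := (⟨r, hrC⟩ : Subgroup.centralizer ({j} : Set G)))
    (b := (⟨n, hnC⟩ : Subgroup.centralizer ({j} : Set G))⁻¹)
  have h1 : (⟨r, hrC⟩ : Subgroup.centralizer ({j} : Set G)) ∉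
      (L₁ ⊔ L₂).subgroupOf (Subgroup.centralizer ({j} : Set G)) := by
    rw [Subgroup.mem_subgroupOf]; exact hrL
  have h2 : (⟨n, hnC⟩ : Subgroup.centralizer ({j} : Set G))⁻¹ ∉
      (L₁ ⊔ L₂).subgroupOf (Subgroup.centralizer ({j} : Set G)) := by
    rw [inv_mem_iff, Subgroup.mem_subgroupOf]; exact n_not_mem S
  have h3 : (⟨r, hrC⟩ : Subgroup.centralizer ({j} : Set G)) * (⟨n, hnC⟩ : Subgroup.centralizer ({j} : Set G))⁻¹ ∈
      (L₁ ⊔ L₂).subgroupOf (Subgroup.centralizer ({j} : Set G)) := by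
    rw [key]; exact ⟨fun h => absurd h h1, fun h => absurd h h2⟩
  rw [Subgroup.mem_subgroupOf] at h3
  have h4 : r * n⁻¹ ∈ L₁ ⊔ L₂ := h3
  obtain ⟨u, hu, v, hv, huv⟩ := Cfsg.Agent.Lib.Helper4.CentProd.exists_mul_of_mem_sup L₁ L₂ S.hc h4
  refine ⟨u, hu, v, hv, ?_⟩
  rw [← huv]; group

/-- `sqrt4` for the second factor -/
theorem sqrt4_2 (u v : G) (hu : u ∈ L₂) (hv : v ∈ L₂) (huv : u * u = v * v) (h4 : (u * u) * (u * u) = j) :
    v = u ∨ v = u * j := by
  have hu1 := conj_mem1 S hu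
  have hv1 := conj_mem1 S hv
  have e1 : (n * u * n⁻¹) ^ 2 = (n * v * n⁻¹) ^ 2 := by
    rw [pow_two, pow_two]
    calc n * u * n⁻¹ * (n * u * n⁻¹) = n * (u * u) * n⁻¹ := by group
      _ = n * (v * v) * n⁻¹ := by rw [huv]
      _ = n * v * n⁻¹ * (n * v * n⁻¹) := by group
  have e2 : ((n * u * n⁻¹) ^ 2) ^ 2 = j := by
    rw [pow_two, pow_two]
    calc n * u * n⁻¹ * (n * u * n⁻¹) * (n * u * n⁻¹ * (n * u * n⁻¹))
        = n * ((u * u) * (u * u)) * n⁻¹ := by group
      _ = n * j * n⁻¹ := by rw [h4]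
      _ = j := by rw [commn S, mul_assoc, mul_inv_cancel, mul_one]
  rcases S.q1.sqrt4 _ hu1 _ hv1 e1 e2 with h | h
  · left
    have : v = n⁻¹ * (n * v * n⁻¹) * n := by group
    rw [this, h]; group
  · right
    have : v = n⁻¹ * (n * v * n⁻¹) * n := by group
    rw [this, h]
    calc n⁻¹ * (n * u * n⁻¹ * j) * n = u * (n⁻¹ * (j * n)) := by group
      _ = u * (n⁻¹ * (n * j)) := by rw [commn S]
      _ = u * j := by group

/-- splitting an equation in `L₁L₂` -/
theorem split {x a y b : G} (hx : x ∈ L₁) (ha : a ∈ L₁) (hy : y ∈ L₂) (hb : b ∈ L₂)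
    (h : x * y = a * b) : (x = a ∧ y = b) ∨ (x = a * j ∧ y = j * b) := by
  have e : a⁻¹ * x = b * y⁻¹ := by
    calc a⁻¹ * x = a⁻¹ * (x * y) * y⁻¹ := by group
      _ = a⁻¹ * (a * b) * y⁻¹ := by rw [h]
      _ = b * y⁻¹ := by group
  have m1 : a⁻¹ * x ∈ L₁ := L₁.mul_mem (L₁.inv_mem ha) hx
  have m2 : a⁻¹ * x ∈ L₂ := by rw [e]; exact L₂.mul_mem hb (L₂.inv_mem hy)
  rcases mem_inter S m1 m2 with h1 | h1
  · left
    have hxa : x = a := by
      calc x = a * (a⁻¹ * x) := by group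
        _ = a := by rw [h1, mul_one]
    refine ⟨hxa, ?_⟩
    rw [hxa] at h
    exact mul_left_cancel h
  · right
    have hxa : x = a * j := by
      calc x = a * (a⁻¹ * x) := by group
        _ = a * j := by rw [h1]
    refine ⟨hxa, ?_⟩
    rw [hxa, mul_assoc] at h
    have := mul_left_cancel h
    -- j * y = b
    calc y = j * j * y := by rw [j_sq S, one_mul]
      _ = j * (j * y) := by group
      _ = j * b := by rw [this]


theorem in_aux (a b : G) (ha2 : a * a = j) (hb2 : b * b = j) :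
    ∃ p : G, ∀ u ∈ L₁, ∀ v ∈ L₂, u * u = a → v * v = b → u * v = p ∨ u * v = p * j := by
  by_cases h : ∃ u₀ ∈ L₁, ∃ v₀ ∈ L₂, u₀ * u₀ = a ∧ v₀ * v₀ = b
  · obtain ⟨u₀, hu₀, v₀, hv₀, e1, e2⟩ := h
    refine ⟨u₀ * v₀, ?_⟩
    intro u hu v hv hua hvb
    have h1 : u = u₀ ∨ u = u₀ * j :=
      S.q1.sqrt4 u₀ hu₀ u hu (by rw [pow_two, pow_two, e1, hua]) (by rw [pow_two, pow_two, e1, ha2])
    have h2 : v = v₀ ∨ v = v₀ * j :=
      sqrt4_2 S v₀ v hv₀ hv (by rw [e2, hvb]) (by rw [e2, hb2])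
    have hjv : j * v₀ = v₀ * j := (comm2 S hv₀).symm
    rcases h1 with h1 | h1 <;> rcases h2 with h2 | h2 <;> rw [h1, h2]
    · left; rfl
    · right; group
    · right
      rw [mul_assoc, hjv, ← mul_assoc]
    · left
      calc u₀ * j * (v₀ * j) = u₀ * (j * v₀) * j := by group
        _ = u₀ * (v₀ * j) * j := by rw [hjv]
        _ = u₀ * v₀ * (j * j) := by group
        _ = u₀ * v₀ := by rw [j_sq S, mul_one]
  · refine ⟨1, ?_⟩
    intro u hu v hv hua hvb
    exact absurd ⟨u, hu, v, hv, hua, hvb⟩ h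

theorem out_sq (u v : G) (hu : u ∈ L₁) (hv : v ∈ L₂) :
    (u * v * n) * (u * v * n) = (u * (n * v * n⁻¹) * j) * (v * (n * u * n⁻¹)) := by
  have hv' := conj_mem1 S hv
  have hu' := conj_mem2 S hu
  have c1 : (n * v * n⁻¹) * (v * (n * u * n⁻¹)) = (v * (n * u * n⁻¹)) * (n * v * n⁻¹) :=
    S.hc _ hv' _ (L₂.mul_mem hv hu')
  have c2 : (v * (n * u * n⁻¹)) * j = j * (v * (n * u * n⁻¹)) := comm2 S (L₂.mul_mem hv hu')
  calc (u * v * n) * (u * v * n) = u * ((v * (n * u * n⁻¹)) * (n * v * n⁻¹)) * (n * n) := by group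
    _ = u * ((n * v * n⁻¹) * (v * (n * u * n⁻¹))) * j := by rw [← c1, n_sq S]
    _ = u * (n * v * n⁻¹) * ((v * (n * u * n⁻¹)) * j) := by group
    _ = u * (n * v * n⁻¹) * (j * (v * (n * u * n⁻¹))) := by rw [c2]
    _ = (u * (n * v * n⁻¹) * j) * (v * (n * u * n⁻¹)) := by group

theorem out_key (a b : G) (ha : a ∈ L₁) (hb : b ∈ L₂) (u v : G) (hu : u ∈ L₁) (hv : v ∈ L₂)
    (h : (u * v * n) * (u * v * n) = a * b) :
    u⁻¹ * a * u = n * b * n ∧
      (u * (n * v * n⁻¹) * j = a ∨ u * (n * v * n⁻¹) * j = a * j) := by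
  rw [out_sq S u v hu hv] at h
  have hv' := conj_mem1 S hv
  have hu' := conj_mem2 S hu
  have hx : u * (n * v * n⁻¹) * j ∈ L₁ := L₁.mul_mem (L₁.mul_mem hu hv') (j_mem1 S)
  have hy : v * (n * u * n⁻¹) ∈ L₂ := L₂.mul_mem hv hu'
  rcases split S hx ha hy hb h with ⟨h1, h2⟩ | ⟨h1, h2⟩
  · refine ⟨?_, Or.inl h1⟩
    have hnj : n⁻¹ * j = n := by rw [n_inv S, mul_assoc, j_sq S, mul_one]
    rw [← h1, ← h2]
    calc u⁻¹ * (u * (n * v * n⁻¹) * j) * u = n * v * (n⁻¹ * j) * u := by group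
      _ = n * v * n * u := by rw [hnj]
      _ = n * (v * (n * u * n⁻¹)) * n := by group
  · refine ⟨?_, Or.inr h1⟩
    have h1' : u * (n * v * n⁻¹) = a := mul_right_cancel h1
    have hb' : b = j * (v * (n * u * n⁻¹)) := by
      rw [h2, ← mul_assoc, j_sq S, one_mul]
    have hjn : n⁻¹ = j * n := by rw [n_inv S, commn S]
    rw [← h1', hb']
    calc u⁻¹ * (u * (n * v * n⁻¹)) * u = n * v * n⁻¹ * u := by group
      _ = n * v * (j * n) * u := by rw [hjn]
      _ = n * (v * j) * n * u := by group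
      _ = n * (j * v) * n * u := by rw [comm2 S hv]
      _ = n * (j * (v * (n * u * n⁻¹))) * n := by group

end basics


/-- `Nat.card` version of `two_mul_card_image_le` -/
theorem two_mul_card_range_le {α β : Type*} [Finite α] (f : α → β) (ι : α → α)
    (h1 : ∀ x, ι x ≠ x) (h2 : ∀ x, f (ι x) = f x) :
    2 * Nat.card (Set.range f) ≤ Nat.card α := by
  classical
  have hsurj : ∀ y : Set.range f, ∃ x, f x = y.1 := fun y => y.2
  choose g hg using hsurj
  let φ : Set.range f × Bool → α := fun p => if p.2 then ι (g p.1) else g p.1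
  have hfφ : ∀ p, f (φ p) = p.1.1 := by
    rintro ⟨y, b⟩
    cases b
    · simp only [φ, Bool.false_eq_true, if_false]; exact hg y
    · simp only [φ, if_true]; rw [h2]; exact hg y
  have hφ : Function.Injective φ := by
    rintro ⟨y, b⟩ ⟨y', b'⟩ h
    have hy : y = y' := by
      apply Subtype.ext
      have := congrArg f h
      rw [hfφ, hfφ] at this
      exact this
    subst hy
    cases b <;> cases b'
    · rfl
    · exfalso
      simp only [φ, Bool.false_eq_true, if_false, if_true] at h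
      exact h1 _ h.symm
    · exfalso
      simp only [φ, Bool.false_eq_true, if_false, if_true] at h
      exact h1 _ h
    · rfl
  have := Nat.card_le_card_of_injective φ hφ
  rw [Nat.card_prod, Nat.card_eq_fintype_card (α := Bool), Fintype.card_bool] at this
  omega

/-- the pairs `(u, v)` with `(u v n)² = a b` -/
def PiT (L₁ L₂ : Subgroup G) (n a b : G) : Type _ :=
  {p : G × G // p.1 ∈ L₁ ∧ p.2 ∈ L₂ ∧ (p.1 * p.2 * n) * (p.1 * p.2 * n) = a * b}

/-- the conjugators -/
def UT (L₁ : Subgroup G) (n a b : G) : Type _ :=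
  {u : G // u ∈ L₁ ∧ u⁻¹ * a * u = n * b * n}

instance [Finite G] (L₁ L₂ : Subgroup G) (n a b : G) : Finite (PiT L₁ L₂ n a b) := by
  unfold PiT; infer_instance

instance [Finite G] (L₁ : Subgroup G) (n a b : G) : Finite (UT L₁ n a b) := by
  unfold UT; infer_instance

section counting

variable {L₁ L₂ : Subgroup G} {j n : G} (S : Setting L₁ L₂ j n)
include S

theorem mul_j_mul_j {u v : G} (hv : v ∈ L₂) : u * j * (v * j) = u * v := by
  have hjv : j * v = v * j := (comm2 S hv).symm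
  calc u * j * (v * j) = u * (j * v) * j := by group
    _ = u * (v * j) * j := by rw [hjv]
    _ = u * v * (j * j) := by group
    _ = u * v := by rw [j_sq S, mul_one]

theorem card_range_le [Finite G] (a b : G) :
    2 * Nat.card (Set.range (fun p : PiT L₁ L₂ n a b => p.1.1 * p.1.2 * n)) ≤
      Nat.card (PiT L₁ L₂ n a b) := by
  refine two_mul_card_range_le _
    (fun p => ⟨(p.1.1 * j, p.1.2 * j), L₁.mul_mem p.2.1 (j_mem1 S), L₂.mul_mem p.2.2.1 (j_mem2 S), ?_⟩) ?_ ?_
  · show (p.1.1 * j * (p.1.2 * j) * n) * (p.1.1 * j * (p.1.2 * j) * n) = a * b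
    rw [mul_j_mul_j S p.2.2.1]
    exact p.2.2.2
  · intro p hp
    have := congrArg (fun q : PiT L₁ L₂ n a b => q.1.1) hp
    simp only at this
    have h1 : p.1.1 * j = p.1.1 * 1 := by rw [mul_one]; exact this
    exact j_ne_one S (mul_left_cancel h1)
  · intro p
    show p.1.1 * j * (p.1.2 * j) * n = p.1.1 * p.1.2 * n
    rw [mul_j_mul_j S p.2.2.1]

theorem card_PiT_le [Finite G] (a b : G) (ha : a ∈ L₁) (hb : b ∈ L₂) :
    Nat.card (PiT L₁ L₂ n a b) ≤ Nat.card (UT L₁ n a b) * 2 := by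
  classical
  have key : ∀ p : PiT L₁ L₂ n a b, p.1.1⁻¹ * a * p.1.1 = n * b * n ∧
      (p.1.1 * (n * p.1.2 * n⁻¹) * j = a ∨ p.1.1 * (n * p.1.2 * n⁻¹) * j = a * j) :=
    fun p => out_key S a b ha hb p.1.1 p.1.2 p.2.1 p.2.2.1 p.2.2.2
  let φ : PiT L₁ L₂ n a b → UT L₁ n a b × Bool :=
    fun p => (⟨p.1.1, p.2.1, (key p).1⟩, decide (p.1.1 * (n * p.1.2 * n⁻¹) * j = a))
  have hφ : Function.Injective φ := by
    intro p q h
    have h1 : p.1.1 = q.1.1 := congrArg (fun x : UT L₁ n a b × Bool => x.1.1) h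
    have h2 : decide (p.1.1 * (n * p.1.2 * n⁻¹) * j = a) = decide (q.1.1 * (n * q.1.2 * n⁻¹) * j = a) :=
      congrArg (fun x : UT L₁ n a b × Bool => x.2) h
    have h3 : p.1.1 * (n * p.1.2 * n⁻¹) * j = q.1.1 * (n * q.1.2 * n⁻¹) * j := by
      by_cases hp : p.1.1 * (n * p.1.2 * n⁻¹) * j = a
      · have hq : q.1.1 * (n * q.1.2 * n⁻¹) * j = a := by
          have : decide (q.1.1 * (n * q.1.2 * n⁻¹) * j = a) = true := by rw [← h2]; exact decide_eq_true hp
          exact of_decide_eq_true this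
        rw [hp, hq]
      · have hq : ¬ q.1.1 * (n * q.1.2 * n⁻¹) * j = a := by
          intro hq
          have : decide (p.1.1 * (n * p.1.2 * n⁻¹) * j = a) = true := by rw [h2]; exact decide_eq_true hq
          exact hp (of_decide_eq_true this)
        rw [((key p).2).resolve_left hp, ((key q).2).resolve_left hq]
    rw [h1] at h3
    have h4 : p.1.2 = q.1.2 := by
      have e1 := mul_right_cancel h3
      have e2 := mul_left_cancel e1
      have e3 := mul_right_cancel e2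
      exact mul_left_cancel e3
    apply Subtype.ext
    exact Prod.ext h1 h4
  have := Nat.card_le_card_of_injective φ hφ
  rw [Nat.card_prod, Nat.card_eq_fintype_card (α := Bool), Fintype.card_bool] at this
  exact this

omit S in
theorem card_UT_le [Finite G] (a b : G) :
    Nat.card (UT L₁ n a b) ≤ Nat.card {x : G // x ∈ L₁ ∧ x * a = a * x} := by
  by_cases hne : Nonempty (UT L₁ n a b)
  · obtain ⟨u₀⟩ := hne
    let φ : UT L₁ n a b → {x : G // x ∈ L₁ ∧ x * a = a * x} := fun u =>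
      ⟨u.1 * u₀.1⁻¹, L₁.mul_mem u.2.1 (L₁.inv_mem u₀.2.1), by
        have e1 : u.1⁻¹ * a * u.1 = u₀.1⁻¹ * a * u₀.1 := by rw [u.2.2, u₀.2.2]
        calc u.1 * u₀.1⁻¹ * a = u.1 * (u₀.1⁻¹ * a * u₀.1) * u₀.1⁻¹ := by group
          _ = u.1 * (u.1⁻¹ * a * u.1) * u₀.1⁻¹ := by rw [e1]
          _ = a * (u.1 * u₀.1⁻¹) := by group⟩
    have hφ : Function.Injective φ := by
      intro u u' h
      have := congrArg Subtype.val h
      simp only [φ] at this
      exact Subtype.ext (mul_right_cancel this)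
    exact Nat.card_le_card_of_injective φ hφ
  · rw [not_nonempty_iff] at hne
    rw [Nat.card_of_isEmpty]
    exact Nat.zero_le _

/-- Unit D of the farm SW -/
theorem upper [Finite G] (a b : G)
    (ha : a ∈ L₁) (hb : b ∈ L₂) (ha2 : a ^ 2 = j) (hb2 : b ^ 2 = j) :
    Nat.card {r : G // r ^ 2 = a * b ∧ r * j = j * r} ≤
      4 + Nat.card {x : G // x ∈ L₁ ∧ x * a = a * x} := by
  classical
  rw [pow_two] at ha2 hb2
  have haj : a * j = j * a := comm1 S ha
  have hbj : b * j = j * b := comm2 S hb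
  have ha2' : (a * j) * (a * j) = j := by
    calc a * j * (a * j) = a * (j * a) * j := by group
      _ = a * (a * j) * j := by rw [haj]
      _ = (a * a) * (j * j) := by group
      _ = j := by rw [ha2, j_sq S, mul_one]
  have hb2' : (b * j) * (b * j) = j := by
    calc b * j * (b * j) = b * (j * b) * j := by group
      _ = b * (b * j) * j := by rw [hbj]
      _ = (b * b) * (j * j) := by group
      _ = j := by rw [hb2, j_sq S, mul_one]
  obtain ⟨p0, hp0⟩ := in_aux S a b ha2 hb2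
  obtain ⟨p1, hp1⟩ := in_aux S (a * j) (b * j) ha2' hb2'
  set f : PiT L₁ L₂ n a b → G := fun p => p.1.1 * p.1.2 * n with hf
  have hcover : {r : G | r ^ 2 = a * b ∧ r * j = j * r} ⊆
      ({p0, p0 * j, p1, p1 * j} : Set G) ∪ Set.range f := by
    rintro r ⟨hr2, hrj⟩
    rw [pow_two] at hr2
    by_cases hrL : r ∈ L₁ ⊔ L₂
    · left
      obtain ⟨u, hu, v, hv, rfl⟩ :=
        Cfsg.Agent.Lib.Helper4.CentProd.exists_mul_of_mem_sup L₁ L₂ S.hc hrL
      have hvu : v * u = u * v := (S.hc u hu v hv).symm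
      have e : (u * u) * (v * v) = a * b := by
        rw [← hr2]
        calc u * u * (v * v) = u * (u * v) * v := by group
          _ = u * (v * u) * v := by rw [hvu]
          _ = u * v * (u * v) := by group
      rcases split S (L₁.mul_mem hu hu) ha (L₂.mul_mem hv hv) hb e with ⟨h1, h2⟩ | ⟨h1, h2⟩
      · rcases hp0 u hu v hv h1 h2 with h | h
        · rw [h]; simp
        · rw [h]; simp
      · rw [← hbj] at h2
        rcases hp1 u hu v hv h1 h2 with h | h
        · rw [h]; simp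
        · rw [h]; simp
    · right
      obtain ⟨u, hu, v, hv, rfl⟩ := mem_cases S r hrj hrL
      exact ⟨⟨(u, v), hu, hv, hr2⟩, rfl⟩
  have hfin : (({p0, p0 * j, p1, p1 * j} : Set G) ∪ Set.range f).Finite := Set.toFinite _
  have h4 : ({p0, p0 * j, p1, p1 * j} : Set G).ncard ≤ 4 := by
    have e1 := Set.ncard_insert_le p0 ({p0 * j, p1, p1 * j} : Set G)
    have e2 := Set.ncard_insert_le (p0 * j) ({p1, p1 * j} : Set G)
    have e3 := Set.ncard_insert_le p1 ({p1 * j} : Set G)
    have e4 := Set.ncard_singleton (p1 * j)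
    omega
  have hr : (Set.range f).ncard ≤ Nat.card {x : G // x ∈ L₁ ∧ x * a = a * x} := by
    have r1 := card_range_le S (n := n) a b
    have r2 := card_PiT_le S a b ha hb
    have r3 := card_UT_le (L₁ := L₁) (n := n) a b
    have r4 : Nat.card (Set.range f) = (Set.range f).ncard := Nat.card_coe_set_eq _
    rw [← r4]
    have r5 : Nat.card (Set.range f) =
        Nat.card (Set.range (fun p : PiT L₁ L₂ n a b => p.1.1 * p.1.2 * n)) := rfl
    omega
  calc Nat.card {r : G // r ^ 2 = a * b ∧ r * j = j * r}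
      = ({r : G | r ^ 2 = a * b ∧ r * j = j * r}).ncard := Nat.card_coe_set_eq _
    _ ≤ (({p0, p0 * j, p1, p1 * j} : Set G) ∪ Set.range f).ncard := Set.ncard_le_ncard hcover hfin
    _ ≤ ({p0, p0 * j, p1, p1 * j} : Set G).ncard + (Set.range f).ncard := Set.ncard_union_le _ _
    _ ≤ 4 + Nat.card {x : G // x ∈ L₁ ∧ x * a = a * x} := add_le_add h4 hr

end counting

/-- Unit D with the argument order of the stub `Cfsg.Agent.Lib.Lead.SW.Setting.upper` -/
theorem Setting_upper [Finite G] {L₁ L₂ : Subgroup G} {j n : G} (S : Setting L₁ L₂ j n) (a b : G)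
    (ha : a ∈ L₁) (hb : b ∈ L₂) (ha2 : a ^ 2 = j) (hb2 : b ^ 2 = j) :
    Nat.card {r : G // r ^ 2 = a * b ∧ r * j = j * r} ≤
      4 + Nat.card {x : G // x ∈ L₁ ∧ x * a = a * x} :=
  upper S a b ha hb ha2 hb2

end Cfsg.Agent.Lib.Helper1.SWDu
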