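import Mathlib
import Cfsg.Prelude.Def_SolvableStructure
import Cfsg.Agent.Lib.Helper1.NilpotentHallAux
import Cfsg.Agent.Lib.Helper1.FrattiniP
import Cfsg.Agent.Lib.Helper1.Coprime
import Cfsg.Agent.Lib.Helper1.AbelianAction
set_option autoImplicit false
universe u v
open Cfsg
open scoped Pointwise commutatorElement
namespace Cfsg.Agent.Lib.Helper1
variable {G : Type u} [Group G]

/-- part (1): with the structure -/
theorem schmidt_quotient_nonabelian [Finite G] {p q : ℕ} [hp : Fact p.Prime] [hq : Fact q.Prime]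
    (hpq : p ≠ q) (P : Sylow p G) (Q : Sylow q G) (hQn : (Q : Subgroup G).Normal)
    (hncen : ¬ (P : Subgroup G) ≤ Subgroup.centralizer ((Q : Subgroup G) : Set G))
    (D : Subgroup G) [hDn : D.Normal]
    (hD : D = (commutator ↥(Q : Subgroup G)).map (Q : Subgroup G).subtype) :
    ¬ IsMulCommutative (G ⧸ D) := by
  intro hab
  apply hncen
  let _ : CommGroup (G ⧸ D) :=
    { (inferInstance : Group (G ⧸ D)) with mul_comm := fun a b => mul_comm' a b }
  have h1 : commutator G ≤ D := by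
    have := Abelianization.commutator_subset_ker (QuotientGroup.mk' D)
    rwa [QuotientGroup.ker_mk'] at this
  have hcop : (Nat.card P).Coprime (Nat.card Q) := by
    obtain ⟨a, ha⟩ := P.2.exists_card_eq
    obtain ⟨b, hb⟩ := Q.2.exists_card_eq
    rw [ha, hb]
    exact Nat.Coprime.pow _ _ ((Nat.coprime_primes hp.out hq.out).mpr hpq)
  have hPN : (P : Subgroup G) ≤ Subgroup.normalizer ((Q : Subgroup G) : Set G) := by
    rw [Subgroup.normalizer_eq_top_iff.mpr hQn]; exact le_top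
  have hQsolv : Group.IsSolvable (Q : Subgroup G) := by
    have : Group.IsNilpotent (Q : Subgroup G) := Q.2.isNilpotent
    infer_instance
  have h2 := coprime_commutator_sup_centralizer (P : Subgroup G) (Q : Subgroup G) hPN hcop
    (Or.inr hQsolv)
  have h3 : ⁅(Q : Subgroup G), (P : Subgroup G)⁆ ≤ D :=
    le_trans (Subgroup.commutator_mono le_top le_top) h1
  obtain ⟨C, hC⟩ : ∃ C : Subgroup G,
    C = (Q : Subgroup G) ⊓ Subgroup.centralizer ((P : Subgroup G) : Set G) := ⟨_, rfl⟩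
  rw [← hC] at h2
  have hDQ : D ≤ Q := by rw [hD]; exact Subgroup.map_subtype_le _
  have hCQ : C ≤ Q := by rw [hC]; exact inf_le_left
  have h4 : D ⊔ C = Q := by
    apply le_antisymm (sup_le hDQ hCQ)
    rw [← h2]
    exact sup_le_sup_right h3 C
  have h5 : D.subgroupOf Q = commutator ↥(Q : Subgroup G) := by
    rw [hD]
    exact Subgroup.comap_map_eq_self_of_injective (Subgroup.subtype_injective _) _
  have h6 : C.subgroupOf Q ⊔ frattini ↥(Q : Subgroup G) = ⊤ := by
    rw [eq_top_iff]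
    have : (D ⊔ C).subgroupOf Q = ⊤ := by rw [h4]; exact Subgroup.subgroupOf_self _
    rw [← this, Subgroup.subgroupOf_sup hDQ hCQ, h5, sup_comm]
    exact sup_le_sup_left (commutator_le_frattini_of_isPGroup q Q.2) _
  have h7 := frattini_nongenerating h6
  rw [Subgroup.subgroupOf_eq_top] at h7
  rw [Subgroup.le_centralizer_iff]
  exact le_trans h7 (by rw [hC]; exact inf_le_right)


theorem map_le_centralizer_map {G' : Type v} [Group G'] (f : G →* G') {X Y : Subgroup G}
    (h : ∀ x ∈ X, ∀ y ∈ Y, f x * f y = f y * f x) :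
    X.map f ≤ Subgroup.centralizer ((Y.map f : Subgroup G') : Set G') := by
  rintro u ⟨x, hx, rfl⟩
  rw [Subgroup.mem_centralizer_iff]
  rintro v ⟨y, hy, rfl⟩
  exact (h x hx y hy).symm

theorem schmidt_quotient_proper_abelian [Finite G] {p q : ℕ} [hp : Fact p.Prime]
    [hq : Fact q.Prime] (hpq : p ≠ q)
    (hprop : ∀ H : Subgroup G, H ≠ ⊤ → Group.IsNilpotent H)
    (P : Sylow p G) (Q : Sylow q G) (hcyc : IsCyclic P) (hQn : (Q : Subgroup G).Normal)
    (hPQ : (P : Subgroup G) ⊔ Q = ⊤)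
    (D : Subgroup G) [hDn : D.Normal]
    (hD : D = (commutator ↥(Q : Subgroup G)).map (Q : Subgroup G).subtype) :
    ∀ K : Subgroup (G ⧸ D), K ≠ ⊤ → IsMulCommutative K := by
  intro K hK
  obtain ⟨f, hf0⟩ : ∃ f : G →* G ⧸ D, f = QuotientGroup.mk' D := ⟨_, rfl⟩
  have hf : Function.Surjective f := by rw [hf0]; exact QuotientGroup.mk'_surjective D
  have hker : f.ker = D := by rw [hf0]; exact QuotientGroup.ker_mk' D
  obtain ⟨L, hL⟩ : ∃ L : Subgroup G, L = K.comap f := ⟨_, rfl⟩
  have hLtop : L ≠ ⊤ := by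
    intro h
    apply hK
    rw [← Subgroup.map_comap_eq_self_of_surjective hf K, ← hL, h,
      Subgroup.map_top_of_surjective f hf]
  have hLnil := hprop L hLtop
  have hcop : (Nat.card P).Coprime (Nat.card Q) := by
    obtain ⟨a, ha⟩ := P.2.exists_card_eq
    obtain ⟨b, hb⟩ := Q.2.exists_card_eq
    rw [ha, hb]
    exact Nat.Coprime.pow _ _ ((Nat.coprime_primes hp.out hq.out).mpr hpq)
  have hcardG : Nat.card P * Nat.card Q = Nat.card G := by
    apply le_antisymm
    · have h2 := card_mul_card_le_card_sup_mul_card_inf (P : Subgroup G) (Q : Subgroup G)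
      have hinf : (P : Subgroup G) ⊓ Q = ⊥ := (Subgroup.disjoint_of_coprime_natCard hcop).eq_bot
      rwa [hinf, Subgroup.card_bot, mul_one, hPQ, Subgroup.card_top] at h2
    · have h1 := card_sup_le_of_normal (P : Subgroup G) (Q : Subgroup G)
      rwa [hPQ, Subgroup.card_top] at h1
  have hQidx : (Q : Subgroup G).index = Nat.card P := by
    have h1 := (Q : Subgroup G).card_mul_index
    rw [← hcardG, mul_comm] at h1
    exact Nat.eq_of_mul_eq_mul_right Nat.card_pos h1
  obtain ⟨N, hN⟩ : ∃ N : Subgroup L, N = (Q : Subgroup G).subgroupOf L := ⟨_, rfl⟩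
  have hNn : N.Normal := by rw [hN]; exact hQn.subgroupOf L
  have hNidx : N.index ∣ Nat.card P := by
    rw [hN, ← hQidx]
    exact Subgroup.relIndex_dvd_index_of_normal (Q : Subgroup G) L
  have hNcard : Nat.card N ∣ Nat.card Q := by
    rw [hN]; exact card_subgroupOf_dvd _ _
  have hNcop : (Nat.card N).Coprime N.index :=
    Nat.Coprime.coprime_dvd_left hNcard (Nat.Coprime.coprime_dvd_right hNidx hcop.symm)
  obtain ⟨L₀, hL₀⟩ := Subgroup.exists_right_complement'_of_coprime hNcop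
  obtain ⟨L₀', hL₀'⟩ : ∃ L₀' : Subgroup G, L₀' = L₀.map L.subtype := ⟨_, rfl⟩
  obtain ⟨Lq, hLq⟩ : ∃ Lq : Subgroup G, Lq = (Q : Subgroup G) ⊓ L := ⟨_, rfl⟩
  have hL₀'L : L₀' ≤ L := by rw [hL₀']; exact Subgroup.map_subtype_le _
  have hLqL : Lq ≤ L := by rw [hLq]; exact inf_le_right
  have hLqQ : Lq ≤ Q := by rw [hLq]; exact inf_le_left
  have hL₀'card : Nat.card L₀' = N.index := by
    rw [hL₀', Subgroup.card_map_of_injective (Subgroup.subtype_injective L)]
    have h1 := hL₀.card_mul_card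
    have h2 := N.card_mul_index
    have : Nat.card N * Nat.card L₀ = Nat.card N * N.index := by rw [h1, h2]
    exact Nat.eq_of_mul_eq_mul_left Nat.card_pos this
  have hL₀'pg : IsPGroup p L₀' := by
    obtain ⟨a, ha⟩ := P.2.exists_card_eq
    rw [ha] at hNidx
    obtain ⟨i, -, hi⟩ := (Nat.dvd_prime_pow hp.out).mp hNidx
    exact IsPGroup.of_card (hL₀'card.trans hi)
  have hsup : Lq ⊔ L₀' = L := by
    have h1 := hL₀.sup_eq_top
    have h2 := congrArg (Subgroup.map L.subtype) h1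
    rw [Subgroup.map_sup, ← hL₀', hN, Subgroup.subgroupOf_map_subtype, ← hLq,
      ← MonoidHom.range_eq_map, Subgroup.range_subtype] at h2
    exact h2
  -- L₀' abelian
  obtain ⟨S, hS⟩ := hL₀'pg.exists_le_sylow
  obtain ⟨g, hg⟩ := MulAction.exists_smul_eq G P S
  have hL₀'conj : L₀' ≤ MulAut.conj g • (P : Subgroup G) := by
    rw [← Sylow.coe_subgroup_smul, hg]; exact hS
  have hPcomm : ∀ a ∈ (P : Subgroup G), ∀ b ∈ (P : Subgroup G), a * b = b * a := by
    intro a ha b hb
    let _ : CommGroup (P : Subgroup G) := IsCyclic.commGroup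
    have := mul_comm (⟨a, ha⟩ : (P : Subgroup G)) ⟨b, hb⟩
    exact congrArg Subtype.val this
  have hAA : ∀ x ∈ L₀', ∀ y ∈ L₀', x * y = y * x := by
    intro x hx y hy
    have hx' := hL₀'conj hx
    have hy' := hL₀'conj hy
    rw [Subgroup.mem_pointwise_smul_iff_inv_smul_mem] at hx' hy'
    have e : ∀ z : G, (MulAut.conj g)⁻¹ • z = g⁻¹ * z * g := by
      intro z
      rw [← map_inv, MulAut.smul_def, MulAut.conj_apply, inv_inv]
    rw [e] at hx' hy'
    have h1 := hPcomm _ hx' _ hy'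
    calc x * y = g * ((g⁻¹ * x * g) * (g⁻¹ * y * g)) * g⁻¹ := by group
      _ = g * ((g⁻¹ * y * g) * (g⁻¹ * x * g)) * g⁻¹ := by rw [h1]
      _ = y * x := by group
  -- L₀' and Lq commute
  have hcopL : (Nat.card L₀').Coprime (Nat.card Lq) := by
    rw [hL₀'card]
    exact Nat.Coprime.coprime_dvd_left hNidx
      (Nat.Coprime.coprime_dvd_right (Subgroup.card_dvd_of_le hLqQ) hcop)
  have hLnormLq : L ≤ Subgroup.normalizer (Lq : Set G) := by
    rw [← Subgroup.normal_subgroupOf_iff_le_normalizer hLqL, hLq, Subgroup.inf_subgroupOf_right,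
      ← hN]
    exact hNn
  have hAB0 := commutator_eq_bot_of_nilpotent_of_coprime L Lq L₀' hLnil hLqL hL₀'L
    (le_trans hL₀'L hLnormLq) hcopL
  rw [Subgroup.commutator_eq_bot_iff_le_centralizer] at hAB0
  have hAB : ∀ x ∈ L₀', ∀ y ∈ Lq, x * y = y * x := by
    intro x hx y hy
    exact (Subgroup.mem_centralizer_iff.mp (hAB0 hy)) x hx
  -- Lq commutes mod D
  have hBB : ∀ x ∈ Lq, ∀ y ∈ Lq, f x * f y = f y * f x := by
    intro x hx y hy
    rw [← map_mul, ← map_mul, hf0]
    apply (QuotientGroup.eq).mpr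
    have hxQ : x ∈ (Q : Subgroup G) := hLqQ hx
    have hyQ : y ∈ (Q : Subgroup G) := hLqQ hy
    have : (x * y)⁻¹ * (y * x) = ⁅y⁻¹, x⁻¹⁆ := by
      rw [commutatorElement_def]; group
    rw [this, hD]
    refine ⟨⁅(⟨y, hyQ⟩ : (Q : Subgroup G))⁻¹, (⟨x, hxQ⟩ : (Q : Subgroup G))⁻¹⁆, ?_, ?_⟩
    · exact Subgroup.commutator_mem_commutator (Subgroup.mem_top _) (Subgroup.mem_top _)
    · simp [commutatorElement_def]
  -- assemble
  have hKeq : K = Lq.map f ⊔ L₀'.map f := by
    rw [← Subgroup.map_sup, hsup, hL, Subgroup.map_comap_eq_self_of_surjective hf]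
  have hcenK : K ≤ Subgroup.centralizer (K : Set (G ⧸ D)) := by
    conv_rhs => rw [hKeq, centralizer_sup_eq]
    rw [hKeq]
    apply sup_le
    · apply le_inf
      · exact map_le_centralizer_map f hBB
      · exact map_le_centralizer_map f (fun x hx y hy => by
          rw [← map_mul, ← map_mul, hAB y hy x hx])
    · apply le_inf
      · exact map_le_centralizer_map f (fun x hx y hy => by
          rw [← map_mul, ← map_mul, hAB x hx y hy])
      · exact map_le_centralizer_map f (fun x hx y hy => by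
          rw [← map_mul, ← map_mul, hAA x hx y hy])
  refine ⟨⟨fun a b => ?_⟩⟩
  apply Subtype.ext
  have := (Subgroup.mem_centralizer_iff.mp (hcenK a.2)) b b.2
  simpa using this.symm


theorem minimal_non_nilpotent_quotient_minimal_non_abelian [Finite G]
    (hG : IsMinimalNonNilpotent G) (q : ℕ) [hqF : Fact q.Prime] (hq : q ∣ Nat.card G)
    (Q : Sylow q G) (hQ : (Q : Subgroup G).Normal) (D : Subgroup G) [D.Normal]
    (hD : D = (commutator ↥(Q : Subgroup G)).map (Q : Subgroup G).subtype) :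
    ¬ IsMulCommutative (G ⧸ D) ∧ ∀ K : Subgroup (G ⧸ D), K ≠ ⊤ → IsMulCommutative K := by
  obtain ⟨p₁, q₁, hp₁, hq₁, hpq, P₁, Q₁, hcyc, hQ₁n, hPQ, hncen⟩ :=
    minimal_non_nilpotent_structure_strong hG
  have hp₁F : Fact p₁.Prime := ⟨hp₁⟩
  have hq₁F : Fact q₁.Prime := ⟨hq₁⟩
  have hcop : (Nat.card P₁).Coprime (Nat.card Q₁) := by
    obtain ⟨a, ha⟩ := P₁.2.exists_card_eq
    obtain ⟨b, hb⟩ := Q₁.2.exists_card_eq
    rw [ha, hb]
    exact Nat.Coprime.pow _ _ ((Nat.coprime_primes hp₁ hq₁).mpr hpq)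
  have hcardG : Nat.card G ∣ Nat.card P₁ * Nat.card Q₁ := by
    have h1 := card_sup_le_of_normal (P₁ : Subgroup G) (Q₁ : Subgroup G)
    rw [hPQ, Subgroup.card_top] at h1
    have h2 := card_mul_card_le_card_sup_mul_card_inf (P₁ : Subgroup G) (Q₁ : Subgroup G)
    have hinf : (P₁ : Subgroup G) ⊓ Q₁ = ⊥ := (Subgroup.disjoint_of_coprime_natCard hcop).eq_bot
    rw [hinf, Subgroup.card_bot, mul_one, hPQ, Subgroup.card_top] at h2
    rw [le_antisymm h1 h2]
  have hq' : q = p₁ ∨ q = q₁ := by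
    have h1 := dvd_trans hq hcardG
    obtain ⟨a, ha⟩ := P₁.2.exists_card_eq
    obtain ⟨b, hb⟩ := Q₁.2.exists_card_eq
    rw [ha, hb] at h1
    rcases (Nat.Prime.dvd_mul hqF.out).mp h1 with h2 | h2
    · left
      exact (Nat.prime_dvd_prime_iff_eq hqF.out hp₁).mp (hqF.out.dvd_of_dvd_pow h2)
    · right
      exact (Nat.prime_dvd_prime_iff_eq hqF.out hq₁).mp (hqF.out.dvd_of_dvd_pow h2)
  rcases hq' with h1 | h1
  · exfalso
    subst h1
    have := Sylow.unique_of_normal Q hQ
    have hPQeq : P₁ = Q := Subsingleton.elim _ _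
    apply hncen
    rw [hPQeq]
    intro x hx
    rw [Subgroup.mem_centralizer_iff]
    intro y hy
    have hdis : Disjoint (Q : Subgroup G) (Q₁ : Subgroup G) := by
      rw [← hPQeq]; exact Subgroup.disjoint_of_coprime_natCard hcop
    exact (Subgroup.commute_of_normal_of_disjoint _ _ hQ hQ₁n hdis x y hx hy).symm
  · subst h1
    have := Sylow.unique_of_normal Q hQ
    have hQeq : Q₁ = Q := Subsingleton.elim _ _
    rw [hQeq] at hPQ hncen
    exact ⟨schmidt_quotient_nonabelian hpq P₁ Q hQ hncen D hD,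
      schmidt_quotient_proper_abelian hpq hG.2 P₁ Q hcyc hQ hPQ D hD⟩

end Cfsg.Agent.Lib.Helper1
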