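import Mathlib

set_option autoImplicit false
set_option linter.unusedVariables false
set_option linter.unusedSectionVars false
set_option linter.style.longLine false

/-!
# Groups in which every nonabelian subgroup is self-normalizing: basic definitions (for S4073)
-/

namespace Cfsg.Agent.Lib.Helper1.SelfNorm

/-- every nonabelian subgroup is self-normalizing -/
def SN (G : Type*) [Group G] : Prop :=
  ∀ H : Subgroup G, ¬ IsMulCommutative H → Subgroup.normalizer (H : Set G) = H

/-- commuting is a transitive relation on the non-identity elements -/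
def CT (G : Type*) [Group G] : Prop :=
  ∀ a b c : G, a ≠ 1 → b ≠ 1 → c ≠ 1 → Commute a b → Commute b c → Commute a c

/-- commutativity of a subgroup, elementwise -/
theorem isMulCommutative_iff {G : Type*} [Group G] (H : Subgroup G) :
    IsMulCommutative H ↔ ∀ a ∈ H, ∀ b ∈ H, a * b = b * a := by
  constructor
  · intro h a ha b hb
    have := h.is_comm.comm (⟨a, ha⟩ : H) ⟨b, hb⟩
    exact congrArg Subtype.val this
  · intro h
    exact ⟨⟨fun a b => Subtype.ext (h a a.2 b b.2)⟩⟩

theorem not_isMulCommutative_iff {G : Type*} [Group G] (H : Subgroup G) :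
    ¬ IsMulCommutative H ↔ ∃ a ∈ H, ∃ b ∈ H, a * b ≠ b * a := by
  rw [isMulCommutative_iff]
  push_neg
  rfl

theorem isMulCommutative_top_iff {G : Type*} [Group G] :
    IsMulCommutative (⊤ : Subgroup G) ↔ IsMulCommutative G := by
  rw [isMulCommutative_iff]
  constructor
  · intro h
    exact ⟨⟨fun a b => h a (Subgroup.mem_top a) b (Subgroup.mem_top b)⟩⟩
  · intro h a _ b _
    exact h.is_comm.comm a b

/-- Lemma 2: a nonabelian subgroup normalized by a larger subgroup equals it -/
theorem SN.eq_of_le_normalizer {G : Type*} [Group G] (h : SN G) {H K : Subgroup G} (hHK : H ≤ K)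
    (hn : K ≤ Subgroup.normalizer (H : Set G)) (hna : ¬ IsMulCommutative H) : H = K := by
  apply le_antisymm hHK
  rw [h H hna] at hn
  exact hn

/-- in an `SN`-group every normal subgroup is abelian or everything -/
theorem SN.normal_eq_top {G : Type*} [Group G] (h : SN G) (N : Subgroup G) [hN : N.Normal]
    (hna : ¬ IsMulCommutative N) : N = ⊤ := by
  have := h N hna
  rw [Subgroup.normalizer_eq_top] at this
  exact this.symm

/-- `SN` passes to subgroups -/
theorem SN.subgroup {G : Type*} [Group G] (h : SN G) (K : Subgroup G) : SN K := by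
  intro H hna
  apply le_antisymm _ Subgroup.le_normalizer
  intro k hk
  have hna' : ¬ IsMulCommutative (H.map K.subtype) := by
    rw [not_isMulCommutative_iff] at hna ⊢
    obtain ⟨a, ha, b, hb, hab⟩ := hna
    refine ⟨a, Subgroup.mem_map_of_mem _ ha, b, Subgroup.mem_map_of_mem _ hb, ?_⟩
    intro h'
    apply hab
    exact Subtype.ext h'
  have hN := h (H.map K.subtype) hna'
  have hk' : (k : G) ∈ Subgroup.normalizer ((H.map K.subtype : Subgroup G) : Set G) := by
    rw [Subgroup.mem_normalizer_iff]
    intro g
    rw [Subgroup.mem_normalizer_iff] at hk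
    constructor
    · rintro ⟨g', hg', rfl⟩
      exact ⟨k * g' * k⁻¹, (hk g').1 hg', rfl⟩
    · rintro ⟨g', hg', hg'e⟩
      have hgK : g ∈ K := by
        have h1 : g = (k : G)⁻¹ * ((k : G) * g * (k : G)⁻¹) * (k : G) := by group
        rw [h1, ← hg'e]
        exact K.mul_mem (K.mul_mem (K.inv_mem k.2) g'.2) k.2
      refine ⟨⟨g, hgK⟩, ?_, rfl⟩
      apply (hk ⟨g, hgK⟩).2
      have : k * ⟨g, hgK⟩ * k⁻¹ = g' := Subtype.ext hg'e.symm
      rw [this]
      exact hg'
  rw [hN] at hk'
  obtain ⟨k', hk'H, hk'e⟩ := hk'
  have : k' = k := Subtype.ext hk'e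
  rw [← this]
  exact hk'H

/-- `SN` passes to quotients -/
theorem SN.quotient {G : Type*} [Group G] (h : SN G) (N : Subgroup G) [N.Normal] : SN (G ⧸ N) := by
  intro H hna
  have hsurj : Function.Surjective (QuotientGroup.mk' N) := QuotientGroup.mk'_surjective N
  have hna' : ¬ IsMulCommutative (H.comap (QuotientGroup.mk' N)) := by
    rw [not_isMulCommutative_iff] at hna ⊢
    obtain ⟨a, ha, b, hb, hab⟩ := hna
    obtain ⟨a', rfl⟩ := hsurj a
    obtain ⟨b', rfl⟩ := hsurj b
    refine ⟨a', ha, b', hb, ?_⟩
    intro h'
    apply hab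
    rw [← map_mul, ← map_mul, h']
  have hN := h (H.comap (QuotientGroup.mk' N)) hna'
  have h2 := Subgroup.comap_normalizer_eq_of_surjective H hsurj
  rw [hN] at h2
  exact Subgroup.comap_injective hsurj h2

/-- `SN` is invariant under isomorphism -/
theorem SN.of_equiv {G G' : Type*} [Group G] [Group G'] (e : G ≃* G') (h : SN G) : SN G' := by
  intro H hna
  have hna' : ¬ IsMulCommutative (H.comap e.toMonoidHom) := by
    rw [not_isMulCommutative_iff] at hna ⊢
    obtain ⟨a, ha, b, hb, hab⟩ := hna
    refine ⟨e.symm a, by simpa using ha, e.symm b, by simpa using hb, ?_⟩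
    intro h'
    apply hab
    have := congrArg e h'
    simpa using this
  have hN := h (H.comap e.toMonoidHom) hna'
  have h2 := Subgroup.comap_normalizer_eq_of_surjective H (f := e.toMonoidHom) e.surjective
  rw [hN] at h2
  exact Subgroup.comap_injective (f := e.toMonoidHom) e.surjective h2

/-- `CT` is invariant under isomorphism -/
theorem CT.of_equiv {G G' : Type*} [Group G] [Group G'] (e : G ≃* G') (h : CT G) : CT G' := by
  intro a b c ha hb hc hab hbc
  have := h (e.symm a) (e.symm b) (e.symm c)
    (by simpa using ha) (by simpa using hb) (by simpa using hc)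
    (by
      have : e.symm a * e.symm b = e.symm b * e.symm a := by
        rw [← map_mul, ← map_mul, hab.eq]
      exact this)
    (by
      have : e.symm b * e.symm c = e.symm c * e.symm b := by
        rw [← map_mul, ← map_mul, hbc.eq]
      exact this)
  have h2 := congrArg e this.eq
  have h3 : a * c = c * a := by simpa using h2
  exact h3

end Cfsg.Agent.Lib.Helper1.SelfNorm
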