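import Mathlib
import Cfsg.Agent.Lib.Helper1.SelfNormBase
import Cfsg.Agent.Lib.Helper1.CtG5
import Cfsg.Agent.Lib.Helper7.SimpTools

set_option autoImplicit false
set_option linter.unusedVariables false
set_option linter.unusedSectionVars false
set_option linter.style.longLine false
set_option maxHeartbeats 1000000

/-!
# S4073, piece E: a simple `CT`-group with all nonabelian subgroups self-normalizing is
`PSL₂(2ⁿ)` with `2ⁿ - 1` prime
-/

namespace Cfsg.Agent.Lib.Helper1.SelfNorm

open Cfsg.Agent.Lib.Helper1 Cfsg.Agent.Lib.Helper1.CtG Cfsg.Agent.Lib.Helper7.SimpTools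
open scoped Pointwise

theorem psl_of_ct_sn {G : Type*} [Group G] [Finite G] [IsSimpleGroup G]
    (hna : ¬ IsMulCommutative G) (h : SN G) (hct : CT G) :
    ∃ n : ℕ, 2 ≤ n ∧ (2 ^ n - 1).Prime ∧
      Nonempty (G ≃* Matrix.ProjectiveSpecialLinearGroup (Fin 2) (GaloisField 2 n)) := by
  classical
  haveI : Fact (Nat.Prime 2) := ⟨Nat.prime_two⟩
  have hnc : ∃ x y : G, x * y ≠ y * x := by
    by_contra hcon
    push_neg at hcon
    exact hna ⟨⟨fun a b => hcon a b⟩⟩
  have heven : Even (Nat.card G) := by
    rw [← Nat.not_odd_iff_even]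
    intro hodd
    exact not_odd_of_ct hnc hct hodd
  obtain ⟨t, ht⟩ := exists_prime_orderOf_dvd_card' (G := G) 2 heven.two_dvd
  have hyp : ∀ s : G, orderOf s = 2 → Hyp s := fun s hs => ⟨hct, hs, inferInstance, hnc⟩
  have hy := hyp t ht
  -- the centraliser is a Sylow 2-subgroup
  have hpA : IsPGroup 2 (cA t) := by
    intro a
    refine ⟨1, ?_⟩
    apply Subtype.ext
    rw [pow_one, Subgroup.coe_pow, Subgroup.coe_one, pow_two]
    exact hy.sq_eq_one a.2
  have hcardA : Nat.card (cA t) = nf t + 1 := hy.card_cA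
  have hoddnf : Odd (nf t) := hy.odd_nf
  have hidx : ¬ 2 ∣ (cA t).index := by
    have h2 : (cH t).index = Nat.card (cA t) + 1 := by
      rw [Subgroup.index_eq_card]; exact hy.card_points
    have e1 := Subgroup.card_mul_index (cA t)
    have e2 := Subgroup.card_mul_index (cH t)
    rw [hy.card_cH, h2] at e2
    have e3 : Nat.card (cA t) * (cA t).index = Nat.card (cA t) * (nf t * (Nat.card (cA t) + 1)) := by
      rw [e1, ← e2, mul_assoc]
    have e4 : (cA t).index = nf t * (Nat.card (cA t) + 1) :=
      Nat.eq_of_mul_eq_mul_left Nat.card_pos e3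
    rw [e4, hcardA]
    intro hdvd
    obtain ⟨j, hj⟩ := hoddnf
    rw [hj] at hdvd
    rcases (Nat.Prime.dvd_mul Nat.prime_two).1 hdvd with h5 | h5 <;> omega
  set T : Sylow 2 G := hpA.toSylow hidx with hTdef
  have hTcoe : (T : Subgroup G) = cA t := rfl
  have hC : ∀ s : G, orderOf s = 2 →
      IsMulCommutative (Subgroup.centralizer ({s} : Set G)) ∧
        ∀ c ∈ Subgroup.centralizer ({s} : Set G), c ^ 2 = 1 := by
    intro s hs
    refine ⟨⟨⟨fun a b => Subtype.ext ((hyp s hs).comm a.2 b.2)⟩⟩, fun c hc => ?_⟩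
    rw [pow_two]
    exact (hyp s hs).sq_eq_one hc
  have h3 : 3 ≤ Nat.card (cA t) := hy.three_le_card_cA
  have hnc' : ¬ IsCyclic (T : Subgroup G) := by
    rw [hTcoe]
    intro hcyc
    haveI := hcyc
    obtain ⟨g, hg⟩ := IsCyclic.exists_generator (α := cA t)
    have hord : orderOf g = Nat.card (cA t) := orderOf_eq_card_of_forall_mem_zpowers hg
    have hg2 : g ^ 2 = 1 := by
      apply Subtype.ext
      rw [Subgroup.coe_pow, Subgroup.coe_one, pow_two]
      exact hy.sq_eq_one g.2
    have := orderOf_le_of_pow_eq_one (by norm_num) hg2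
    omega
  have hnn : ¬ (T : Subgroup G).Normal := by
    intro hn
    rcases hn.eq_bot_or_eq_top with hb | htop
    · have : t ∈ (T : Subgroup G) := t_mem_cA t
      rw [hb, Subgroup.mem_bot] at this
      exact hy.t_ne this
    · have hpG : IsPGroup 2 G := by
        have := T.isPGroup'
        rw [htop] at this
        exact IsPGroup.of_equiv this Subgroup.topEquiv
      haveI : Group.IsNilpotent G := hpG.isNilpotent
      exact not_solvable_of_simple_nc hnc inferInstance
  obtain ⟨F, hF1, hF2, hcard, ⟨e⟩⟩ := Cfsg.Agent.S1230.result T hnc' hnn hC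
  obtain ⟨n, hn⟩ := IsPGroup.iff_card.1 T.isPGroup'
  have hT : Nat.card (cA t) = 2 ^ n := hn
  have hn2 : 2 ≤ n := by
    by_contra hlt
    have hle : n = 0 ∨ n = 1 := by omega
    rcases hle with h0 | h1
    · rw [h0, pow_zero] at hT; omega
    · rw [h1, pow_one] at hT; omega
  have hnfeq : nf t = 2 ^ n - 1 := by omega
  -- `nf t` is prime
  have hnf2 : 2 ≤ nf t := by
    have := hy.nf_pos
    have := hy.nf_ne_one
    omega
  have hprime : (nf t).Prime := by
    obtain ⟨r, hr, hrdvd⟩ := Nat.exists_prime_and_dvd (by omega : nf t ≠ 1)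
    obtain ⟨y, hy0⟩ := hy.exists_second_point
    set D : Subgroup G := MulAction.stabilizer G y ⊓
      MulAction.stabilizer G (((1 : G) : G ⧸ cH t)) with hDdef
    have hDcard : Nat.card D = nf t := hy.card_two_point hy0
    haveI : Fact r.Prime := ⟨hr⟩
    obtain ⟨d0, hd0⟩ := exists_prime_orderOf_dvd_card' (G := D) r (by rw [hDcard]; exact hrdvd)
    have hd0G : orderOf (d0 : G) = r := by rw [Subgroup.orderOf_coe]; exact hd0
    have hd01 : (d0 : G) ≠ 1 := by
      intro h1
      rw [h1, orderOf_one] at hd0G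
      exact hr.one_lt.ne hd0G
    have hDH : D ≤ cH t := hy.two_point_le_base
    have hd0A : (d0 : G) ∉ cA t := fun hm => hd01 (hy.cA_two_point_eq_one hy0 hm d0.2)
    set D0 : Subgroup G := Subgroup.zpowers (d0 : G) with hD0def
    have hD0D : D0 ≤ D := by
      rw [hD0def, Subgroup.zpowers_le]; exact d0.2
    have hD0N : D0 ≤ Subgroup.normalizer ((cA t : Subgroup G) : Set G) := hD0D.trans hDH
    set X : Subgroup G := cA t ⊔ D0 with hXdef
    have hXcoe : (X : Set G) = (cA t : Set G) * (D0 : Set G) :=
      Subgroup.coe_mul_of_right_le_normalizer_left (cA t) D0 hD0N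
    have hXna : ¬ IsMulCommutative X := by
      intro hX
      rw [isMulCommutative_iff] at hX
      have := hX (d0 : G) (Subgroup.mem_sup_right (Subgroup.mem_zpowers _)) t
        (Subgroup.mem_sup_left (t_mem_cA t))
      exact hd0A (mem_cA.2 this)
    have hHX : cH t ≤ Subgroup.normalizer (X : Set G) := by
      intro g hg
      obtain ⟨a, ha, d, hd, rfl⟩ := hy.exists_mul_eq hy0 hg
      apply Subgroup.mul_mem
      · exact Subgroup.le_normalizer (Subgroup.mem_sup_left ha)
      · -- `d` normalizes `cA t` and centralizes `D0`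
        have hdN : d ∈ Subgroup.normalizer ((cA t : Subgroup G) : Set G) := hDH hd
        have hdc : ∀ z ∈ D0, d * z * d⁻¹ = z := by
          intro z hz
          have := hy.two_point_comm hy0 hd (hD0D hz)
          rw [this, mul_inv_cancel_right]
        rw [Subgroup.mem_normalizer_iff]
        intro g
        constructor
        · intro hgX
          have hgX' : g ∈ (X : Set G) := hgX
          rw [hXcoe] at hgX'
          obtain ⟨a', ha', z, hz, rfl⟩ := hgX'
          have h5 : d * (a' * z) * d⁻¹ = (d * a' * d⁻¹) * (d * z * d⁻¹) := by group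
          rw [h5, hdc z hz]
          exact Subgroup.mul_mem _ (Subgroup.mem_sup_left ((Subgroup.mem_normalizer_iff.1 hdN a').1 ha'))
            (Subgroup.mem_sup_right hz)
        · intro hgX
          have hgX' : d * g * d⁻¹ ∈ (X : Set G) := hgX
          rw [hXcoe] at hgX'
          obtain ⟨a', ha', z, hz, he⟩ := hgX'
          have he : a' * z = d * g * d⁻¹ := he
          have h5 : g = (d⁻¹ * a' * d) * (d⁻¹ * z * d) := by
            have : g = d⁻¹ * (d * g * d⁻¹) * d := by group
            rw [this, ← he]; group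
          have h6 : d⁻¹ * z * d = z := by
            have := hdc z hz
            calc d⁻¹ * z * d = d⁻¹ * (d * z * d⁻¹) * d := by rw [this]
              _ = z := by group
          rw [h5, h6]
          refine Subgroup.mul_mem _ (Subgroup.mem_sup_left ?_) (Subgroup.mem_sup_right hz)
          have h7 := (Subgroup.mem_normalizer_iff.1 hdN (d⁻¹ * a' * d)).2
          apply h7
          have : d * (d⁻¹ * a' * d) * d⁻¹ = a' := by group
          rw [this]
          exact ha'
    have hXself := h X hXna
    rw [hXself] at hHX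
    -- every element of `D` is a power of `d0`
    have hDle : D ≤ D0 := by
      intro d hd
      have hdX : d ∈ (X : Set G) := hHX (hDH hd)
      rw [hXcoe] at hdX
      obtain ⟨a', ha', z, hz, he⟩ := hdX
      have he : a' * z = d := he
      have ha'D : a' ∈ D := by
        have : a' = d * z⁻¹ := by rw [← he]; group
        rw [this]
        exact D.mul_mem hd (D.inv_mem (hD0D hz))
      have := hy.cA_two_point_eq_one hy0 ha' ha'D
      rw [this, one_mul] at he
      rw [← he]
      exact hz
    have hcardle : Nat.card D ≤ Nat.card D0 := Subgroup.card_le_of_le hDle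
    rw [hDcard, hD0def, Nat.card_zpowers, hd0G] at hcardle
    have : r = nf t := le_antisymm (Nat.le_of_dvd (by omega) hrdvd) hcardle
    rw [← this]
    exact hr
  refine ⟨n, hn2, by rw [← hnfeq]; exact hprime, ?_⟩
  have hn0 : n ≠ 0 := by omega
  letI : Fintype (GaloisField 2 n) := Fintype.ofFinite _
  have hG : Fintype.card (GaloisField 2 n) = 2 ^ n := by
    rw [← Nat.card_eq_fintype_card]
    exact GaloisField.card 2 n hn0
  have hF : Fintype.card F = 2 ^ n := by rw [hcard]; exact hT
  obtain ⟨e2⟩ := psl_congr_char_two (F₀ := F) (F := GaloisField 2 n) hF hG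
  exact ⟨e.trans e2⟩

end Cfsg.Agent.Lib.Helper1.SelfNorm
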