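import Mathlib
import Cfsg.Agent.Lib.Helper1.SelfNormBase

set_option autoImplicit false
set_option linter.unusedVariables false
set_option linter.unusedSectionVars false
set_option linter.style.longLine false
set_option maxHeartbeats 1000000

/-!
# S4073, piece I1: in a non-perfect group whose proper normal subgroups are abelian, a `p'`-element
centralizes a normal `p`-subgroup or the Sylow `p`-subgroup is normal
-/

namespace Cfsg.Agent.Lib.Helper1.SelfNorm

/-- iterated conjugation when the commutator is fixed -/
theorem conj_pow_of_commute {N : Type*} [Group N] {a c y : N} (hc : y⁻¹ * a * y = a * c)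
    (hyc : y * c = c * y) (j : ℕ) : (y ^ j)⁻¹ * a * y ^ j = a * c ^ j := by
  induction j with
  | zero => simp
  | succ j ih =>
    have h1 : (y ^ (j + 1))⁻¹ * a * y ^ (j + 1) = y⁻¹ * ((y ^ j)⁻¹ * a * y ^ j) * y := by
      rw [pow_succ]; group
    have h2 : y⁻¹ * c ^ j * y = c ^ j := by
      have : y * c ^ j = c ^ j * y := (Commute.pow_right hyc j)
      calc y⁻¹ * c ^ j * y = y⁻¹ * (c ^ j * y) := by group
        _ = y⁻¹ * (y * c ^ j) := by rw [this]
        _ = c ^ j := by group
    rw [h1, ih]
    calc y⁻¹ * (a * c ^ j) * y = (y⁻¹ * a * y) * (y⁻¹ * c ^ j * y) := by group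
      _ = a * c * c ^ j := by rw [hc, h2]
      _ = a * c ^ (j + 1) := by rw [pow_succ']; group

theorem centralizes_or_sylow_normal {N : Type*} [Group N] [Finite N] {p : ℕ} [Fact p.Prime]
    (hN : ∀ M : Subgroup N, M.Normal → ¬ IsMulCommutative M → M = ⊤)
    (hcomm : commutator N ≠ ⊤)
    (Q : Subgroup N) [Q.Normal] (hQ : IsPGroup p Q) (y : N) (hy : (orderOf y).Coprime p)
    (T : Sylow p N) :
    (∀ a ∈ Q, y * a = a * y) ∨ (T : Subgroup N).Normal := by
  classical
  have hN'n : (commutator N).Normal := inferInstance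
  have hN'ab : IsMulCommutative (commutator N) := by
    by_contra hna
    exact hcomm (hN _ hN'n hna)
  have hcm : ∀ g m : N, g * m * g⁻¹ * m⁻¹ ∈ commutator N := by
    intro g m
    rw [commutator_def]
    exact Subgroup.commutator_mem_commutator (Subgroup.mem_top g) (Subgroup.mem_top m)
  set M : Subgroup N := commutator N ⊔ (T : Subgroup N) with hMdef
  have hMn : M.Normal := by
    constructor
    intro m hm g
    have h1 : g * m * g⁻¹ = (g * m * g⁻¹ * m⁻¹) * m := by group
    rw [h1]
    exact M.mul_mem (Subgroup.mem_sup_left (hcm g m)) hm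
  by_cases hMab : IsMulCommutative M
  · -- `T` is normal
    right
    constructor
    intro t ht g
    set s : N := g * t * g⁻¹ with hs
    have hsM : s ∈ M := hMn.conj_mem t (Subgroup.mem_sup_right ht) g
    have hsp : IsPGroup p (Subgroup.zpowers s) := by
      obtain ⟨k, hk⟩ := T.isPGroup' ⟨t, ht⟩
      have hk' : t ^ p ^ k = 1 := by
        have := congrArg Subtype.val hk
        simpa using this
      have hsk : s ^ p ^ k = 1 := by
        rw [hs, conj_pow, hk']; group
      rintro ⟨w, hw⟩
      obtain ⟨j, rfl⟩ := Subgroup.mem_zpowers_iff.1 hw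
      refine ⟨k, ?_⟩
      apply Subtype.ext
      simp only [Subgroup.coe_pow, Subgroup.coe_one]
      rw [← zpow_natCast, ← zpow_mul, mul_comm, zpow_mul, zpow_natCast, hsk, one_zpow]
    have hnorm : Subgroup.zpowers s ≤ Subgroup.normalizer ((T : Subgroup N) : Set N) := by
      rw [Subgroup.zpowers_le, Subgroup.mem_normalizer_iff]
      intro x
      have hcomm' : ∀ x ∈ (T : Subgroup N), s * x * s⁻¹ = x := by
        intro x hx
        have := (isMulCommutative_iff M).1 hMab s hsM x (Subgroup.mem_sup_right hx)
        rw [this, mul_inv_cancel_right]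
      constructor
      · intro hx
        rw [hcomm' x hx]; exact hx
      · intro hx
        have h2 := hcomm' _ hx
        -- s (s x s⁻¹) s⁻¹ = s x s⁻¹ so x = s x s⁻¹... 
        have h3 : x = s * x * s⁻¹ := by
          have : s * x * s⁻¹ = s⁻¹ * (s * (s * x * s⁻¹) * s⁻¹) * s := by group
          rw [h2] at this
          have h4 : s⁻¹ * (s * x * s⁻¹) * s = x := by group
          rw [h4] at this
          exact this.symm
        rw [h3]; exact hx
    have hsup : IsPGroup p (Subgroup.zpowers s ⊔ (T : Subgroup N) : Subgroup N) :=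
      hsp.to_sup_of_normal_right' T.isPGroup' hnorm
    have heq := T.is_maximal' hsup le_sup_right
    rw [← heq]
    exact Subgroup.mem_sup_left (Subgroup.mem_zpowers s)
  · -- `M = ⊤`, so `y ∈ N'`
    left
    have hMtop : M = ⊤ := hN M hMn hMab
    have hquot : IsPGroup p (N ⧸ commutator N) := by
      have h1 : ((T : Subgroup N).map (QuotientGroup.mk' (commutator N))) = ⊤ := by
        have h2 : M.map (QuotientGroup.mk' (commutator N)) = ⊤ := by
          rw [hMtop, ← MonoidHom.range_eq_map]
          exact MonoidHom.range_eq_top.2 (QuotientGroup.mk'_surjective _)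
        rw [hMdef, Subgroup.map_sup] at h2
        have h3 : (commutator N).map (QuotientGroup.mk' (commutator N)) = ⊥ := by
          rw [eq_bot_iff]
          rintro _ ⟨x, hx, rfl⟩
          rw [Subgroup.mem_bot, QuotientGroup.mk'_apply, QuotientGroup.eq_one_iff]
          exact hx
        rw [h3, bot_sup_eq] at h2
        exact h2
      have h4 : IsPGroup p ((T : Subgroup N).map (QuotientGroup.mk' (commutator N))) :=
        T.isPGroup'.map _
      rw [h1] at h4
      exact IsPGroup.of_equiv h4 Subgroup.topEquiv
    have hyN' : y ∈ commutator N := by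
      obtain ⟨k, hk⟩ := hquot (QuotientGroup.mk' (commutator N) y)
      have h1 : orderOf (QuotientGroup.mk' (commutator N) y) ∣ p ^ k := orderOf_dvd_of_pow_eq_one hk
      have h2 : orderOf (QuotientGroup.mk' (commutator N) y) ∣ orderOf y := orderOf_map_dvd _ y
      have h3 : (orderOf y).Coprime (p ^ k) := hy.pow_right k
      have h4 : orderOf (QuotientGroup.mk' (commutator N) y) = 1 :=
        Nat.eq_one_of_dvd_coprimes h3 h2 h1
      rw [orderOf_eq_one_iff, QuotientGroup.mk'_apply, QuotientGroup.eq_one_iff] at h4
      exact h4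
    intro a ha
    set c : N := a⁻¹ * (y⁻¹ * a * y) with hc
    have hcN' : c ∈ commutator N := by
      have := hcm a⁻¹ y⁻¹
      have h1 : a⁻¹ * y⁻¹ * a⁻¹⁻¹ * y⁻¹⁻¹ = c := by rw [hc]; group
      rwa [h1] at this
    have hcQ : c ∈ Q := by
      rw [hc]
      refine Q.mul_mem (Q.inv_mem ha) ?_
      have := (inferInstance : Q.Normal).conj_mem a ha y⁻¹
      rwa [inv_inv] at this
    have hyc : y * c = c * y := (isMulCommutative_iff _).1 hN'ab y hyN' c hcN'
    have hconj : y⁻¹ * a * y = a * c := by rw [hc]; group
    have hpow := conj_pow_of_commute hconj hyc (orderOf y)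
    rw [pow_orderOf_eq_one, inv_one, one_mul, mul_one] at hpow
    have hcj : c ^ orderOf y = 1 := by
      have : a * c ^ orderOf y = a * 1 := by rw [mul_one]; exact hpow.symm
      exact mul_left_cancel this
    obtain ⟨k, hk⟩ := hQ ⟨c, hcQ⟩
    have hk' : c ^ p ^ k = 1 := by
      have := congrArg Subtype.val hk
      simpa using this
    have h1 : orderOf c ∣ orderOf y := orderOf_dvd_of_pow_eq_one hcj
    have h2 : orderOf c ∣ p ^ k := orderOf_dvd_of_pow_eq_one hk'
    have h3 : (orderOf y).Coprime (p ^ k) := hy.pow_right k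
    have h4 : orderOf c = 1 := Nat.eq_one_of_dvd_coprimes h3 h1 h2
    rw [orderOf_eq_one_iff] at h4
    rw [h4, mul_one] at hconj
    calc y * a = y * (y⁻¹ * a * y) := by rw [hconj]
      _ = a * y := by group

end Cfsg.Agent.Lib.Helper1.SelfNorm
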