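import Mathlib
import Cfsg.Agent.Lib.Helper1.SelfNormBase
import Cfsg.Agent.Lib.Helper1.CtG5

set_option autoImplicit false
set_option linter.unusedVariables false
set_option linter.unusedSectionVars false
set_option linter.style.longLine false
set_option maxHeartbeats 1000000

/-!
# S4073, piece Q: an abelian maximal normal subgroup with simple `CT` quotient is central
-/

namespace Cfsg.Agent.Lib.Helper1.SelfNorm

open Cfsg.Agent.Lib.Helper1 Cfsg.Agent.Lib.Helper1.CtG

theorem le_center_of_ct_quotient {N : Type*} [Group N] [Finite N] (h : SN N)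
    (R : Subgroup N) [R.Normal] (hRab : IsMulCommutative R)
    (hmax : ∀ K : Subgroup N, K.Normal → R ≤ K → K = R ∨ K = ⊤)
    [IsSimpleGroup (N ⧸ R)] (hnc : ∃ x y : N ⧸ R, x * y ≠ y * x) (hct : CT (N ⧸ R)) :
    R ≤ Subgroup.center N := by
  classical
  haveI : Fact (Nat.Prime 2) := ⟨Nat.prime_two⟩
  have hsurj : Function.Surjective (QuotientGroup.mk' R) := QuotientGroup.mk'_surjective R
  have heven : Even (Nat.card (N ⧸ R)) := by
    rw [← Nat.not_odd_iff_even]
    intro hodd
    exact not_odd_of_ct hnc hct hodd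
  obtain ⟨t, ht⟩ := exists_prime_orderOf_dvd_card' (G := N ⧸ R) 2 heven.two_dvd
  have hy : Hyp t := ⟨hct, ht, inferInstance, hnc⟩
  -- `A < N(A)`
  have hAH : cA t ≠ cH t := by
    intro he
    have h1 := hy.card_cH
    rw [← he] at h1
    have h2 := hy.nf_pos
    have h3 := hy.nf_ne_one
    have hpos : 0 < Nat.card (cA t) := Nat.card_pos
    have : Nat.card (cA t) * 1 = Nat.card (cA t) * nf t := by rw [mul_one]; exact h1
    have := Nat.eq_of_mul_eq_mul_left hpos this
    omega
  set X : Subgroup N := (cA t).comap (QuotientGroup.mk' R) with hXdef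
  have hXnorm : Subgroup.normalizer (X : Set N) = (cH t).comap (QuotientGroup.mk' R) := by
    rw [hXdef]
    exact (Subgroup.comap_normalizer_eq_of_surjective (cA t) hsurj).symm
  have hXab : IsMulCommutative X := by
    by_contra hXna
    have h1 := h X hXna
    rw [hXnorm] at h1
    exact hAH (Subgroup.comap_injective hsurj h1).symm
  have hRX : R ≤ X := by
    intro x hx
    rw [hXdef, Subgroup.mem_comap, QuotientGroup.mk'_apply, (QuotientGroup.eq_one_iff x).2 hx]
    exact Subgroup.one_mem _
  have hXR : X ≠ R := by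
    intro he
    -- then `t ∈ cA t` is trivial
    obtain ⟨t', rfl⟩ := hsurj t
    have : t' ∈ X := by
      rw [hXdef, Subgroup.mem_comap]
      exact t_mem_cA _
    rw [he] at this
    have h1 : QuotientGroup.mk' R t' = 1 := by
      rw [QuotientGroup.mk'_apply, QuotientGroup.eq_one_iff]; exact this
    exact hy.t_ne h1
  -- the centralizer of `R`
  set Cn : Subgroup N := Subgroup.centralizer (R : Set N) with hCndef
  have hCnn : Cn.Normal := by
    constructor
    intro c hc g
    rw [hCndef, Subgroup.mem_centralizer_iff] at hc ⊢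
    intro x hx
    have hx' : g⁻¹ * x * g ∈ R := by
      have := (inferInstance : R.Normal).conj_mem x hx g⁻¹
      rwa [inv_inv] at this
    have := hc _ hx'
    calc x * (g * c * g⁻¹) = g * ((g⁻¹ * x * g) * c) * g⁻¹ := by group
      _ = g * (c * (g⁻¹ * x * g)) * g⁻¹ := by rw [this]
      _ = g * c * g⁻¹ * x := by group
  have hXCn : X ≤ Cn := by
    intro x hx
    rw [hCndef, Subgroup.mem_centralizer_iff]
    intro r hr
    exact (isMulCommutative_iff X).1 hXab r (hRX hr) x hx
  have hRCn : R ≤ Cn := hRX.trans hXCn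
  rcases hmax Cn hCnn hRCn with h1 | h1
  · exfalso
    apply hXR
    exact le_antisymm (h1 ▸ hXCn) hRX
  · intro r hr
    rw [Subgroup.mem_center_iff]
    intro g
    have hg : g ∈ Cn := by rw [h1]; exact Subgroup.mem_top g
    rw [hCndef, Subgroup.mem_centralizer_iff] at hg
    exact (hg r hr).symm

end Cfsg.Agent.Lib.Helper1.SelfNorm
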