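import Mathlib
import Cfsg.Agent.Lib.Helper1.SelfNormBase
import Cfsg.Agent.Lib.Helper1.CtG5
import Cfsg.Agent.Lib.Helper1.FrobeniusPComplement
import Cfsg.Agent.Lib.Helper1.SelfNormQ
import Cfsg.Agent.Lib.Helper1.SelfNormI1

set_option autoImplicit false
set_option linter.unusedVariables false
set_option linter.unusedSectionVars false
set_option linter.style.longLine false
set_option maxHeartbeats 1000000

/-!
# S4073, piece I2: the Sylow subgroups are abelian
-/

namespace Cfsg.Agent.Lib.Helper1.SelfNorm

open Cfsg.Agent.Lib.Helper1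

universe u

/-- a maximal proper normal subgroup above a given proper normal subgroup -/
theorem exists_maximal_normal {N : Type*} [Group N] [Finite N] (Q : Subgroup N) [Q.Normal]
    (hQ : Q ≠ ⊤) :
    ∃ R : Subgroup N, R.Normal ∧ R ≠ ⊤ ∧ Q ≤ R ∧
      ∀ K : Subgroup N, K.Normal → R ≤ K → K = R ∨ K = ⊤ := by
  classical
  let S : ℕ → Prop := fun m => ∃ R : Subgroup N, R.Normal ∧ R ≠ ⊤ ∧ Q ≤ R ∧ Nat.card R = m
  have hS0 : S (Nat.card Q) := ⟨Q, inferInstance, hQ, le_refl _, rfl⟩
  have hbound : ∀ m, S m → m ≤ Nat.card N := by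
    rintro m ⟨R, _, _, _, rfl⟩
    exact Subgroup.card_le_card_group R
  have hSm : S (Nat.findGreatest S (Nat.card N)) := Nat.findGreatest_spec (hbound _ hS0) hS0
  have hmax : ∀ m', S m' → m' ≤ Nat.findGreatest S (Nat.card N) :=
    fun m' h' => Nat.le_findGreatest (hbound _ h') h'
  obtain ⟨R, hRn, hRt, hQR, hRm⟩ := hSm
  refine ⟨R, hRn, hRt, hQR, ?_⟩
  intro K hKn hRK
  by_cases hKt : K = ⊤
  · exact Or.inr hKt
  · left
    have h1 : Nat.card K ≤ Nat.card R := by
      rw [hRm]
      exact hmax _ ⟨K, hKn, hKt, hQR.trans hRK, rfl⟩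
    exact (Subgroup.eq_of_le_of_card_ge hRK h1).symm

/-- the quotient by a maximal normal subgroup is simple -/
theorem isSimpleGroup_quotient_of_maximal {N : Type*} [Group N] (R : Subgroup N) [R.Normal]
    (hR : R ≠ ⊤) (hmax : ∀ K : Subgroup N, K.Normal → R ≤ K → K = R ∨ K = ⊤) :
    IsSimpleGroup (N ⧸ R) := by
  have hsurj : Function.Surjective (QuotientGroup.mk' R) := QuotientGroup.mk'_surjective R
  haveI : Nontrivial (N ⧸ R) := by
    by_contra hnt
    rw [not_nontrivial_iff_subsingleton] at hnt
    apply hR
    rw [eq_top_iff]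
    intro x _
    have : (QuotientGroup.mk' R x) = 1 := Subsingleton.elim _ _
    rwa [QuotientGroup.mk'_apply, QuotientGroup.eq_one_iff] at this
  refine ⟨fun H hH => ?_⟩
  have hKn : (H.comap (QuotientGroup.mk' R)).Normal := hH.comap _
  have hRK : R ≤ H.comap (QuotientGroup.mk' R) := by
    intro x hx
    rw [Subgroup.mem_comap, QuotientGroup.mk'_apply, (QuotientGroup.eq_one_iff x).2 hx]
    exact H.one_mem
  rcases hmax _ hKn hRK with h1 | h1
  · left
    rw [eq_bot_iff]
    intro x hx
    obtain ⟨x', rfl⟩ := hsurj x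
    have : x' ∈ H.comap (QuotientGroup.mk' R) := hx
    rw [h1] at this
    rw [Subgroup.mem_bot, QuotientGroup.mk'_apply, QuotientGroup.eq_one_iff]
    exact this
  · right
    rw [eq_top_iff]
    intro x _
    obtain ⟨x', rfl⟩ := hsurj x
    have : x' ∈ H.comap (QuotientGroup.mk' R) := by rw [h1]; exact Subgroup.mem_top _
    exact this

theorem sylow_abelian {G : Type u} [Group G] [Finite G] [IsSimpleGroup G]
    (hna : ¬ IsMulCommutative G) (h : SN G)
    (IH : ∀ (L : Subgroup G) (R : Subgroup L) [R.Normal], L ≠ ⊤ → IsSimpleGroup (L ⧸ R) →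
      (∃ x y : L ⧸ R, x * y ≠ y * x) → CT (L ⧸ R))
    (p : ℕ) [Fact p.Prime] (P : Sylow p G) : IsMulCommutative (P : Subgroup G) := by
  classical
  by_contra hPna
  have hnc : ∃ x y : G, x * y ≠ y * x := by
    by_contra hcon
    push_neg at hcon
    exact hna ⟨⟨fun a b => hcon a b⟩⟩
  have hbotcomm : IsMulCommutative (⊥ : Subgroup G) := by
    rw [isMulCommutative_iff]
    intro a ha b hb
    rw [Subgroup.mem_bot] at ha hb
    rw [ha, hb]
  -- Step 0: no normal complement
  have hnocomp : ¬ ∃ K : Subgroup G, K.Normal ∧ K.IsComplement' (P : Subgroup G) := by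
    rintro ⟨K, hKn, hKc⟩
    rcases hKn.eq_bot_or_eq_top with hK | hK
    · rw [hK, Subgroup.isComplement'_bot_left] at hKc
      have hpG : IsPGroup p G := by
        have := P.isPGroup'
        rw [hKc] at this
        exact IsPGroup.of_equiv this Subgroup.topEquiv
      haveI : Group.IsNilpotent G := hpG.isNilpotent
      exact CtG.not_solvable_of_simple_nc hnc inferInstance
    · rw [hK, Subgroup.isComplement'_top_left] at hKc
      apply hPna
      rw [hKc]
      exact hbotcomm
  -- Step 1: Frobenius
  have hfrob := (frobenius_normal_p_complement P).not.1 hnocomp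
  push_neg at hfrob
  obtain ⟨Q0, hQ0P, y0, hy0N, hy0c, hy0C⟩ := hfrob
  -- Step 2: a maximal pair
  let S : ℕ → Prop := fun m => ∃ (Q : Subgroup G) (y : G), IsPGroup p Q ∧
    y ∈ Subgroup.normalizer (Q : Set G) ∧ (orderOf y).Coprime p ∧
    y ∉ Subgroup.centralizer (Q : Set G) ∧ Nat.card Q = m
  have hS0 : S (Nat.card Q0) := ⟨Q0, y0, P.isPGroup'.to_le hQ0P, hy0N, hy0c, hy0C, rfl⟩
  have hbound : ∀ m, S m → m ≤ Nat.card G := by
    rintro m ⟨Q, _, _, _, _, _, rfl⟩
    exact Subgroup.card_le_card_group Q
  have hSm : S (Nat.findGreatest S (Nat.card G)) := Nat.findGreatest_spec (hbound _ hS0) hS0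
  have hmaxS : ∀ m', S m' → m' ≤ Nat.findGreatest S (Nat.card G) :=
    fun m' h' => Nat.le_findGreatest (hbound _ h') h'
  obtain ⟨Q, y, hQp, hyN, hyc, hyC, hQm⟩ := hSm
  -- Step 3
  set N : Subgroup G := Subgroup.normalizer (Q : Set G) with hNdef
  have hQN : Q ≤ N := Subgroup.le_normalizer
  have hy1 : y ≠ 1 := by
    rintro rfl
    exact hyC (Subgroup.one_mem _)
  have hyQ : y ∉ Q := by
    intro hyQ
    obtain ⟨k, hk⟩ := (hQp ⟨y, hyQ⟩)
    have hk' : y ^ p ^ k = 1 := by
      have := congrArg Subtype.val hk
      simpa using this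
    have hd : orderOf y ∣ p ^ k := orderOf_dvd_of_pow_eq_one hk'
    have hc : (orderOf y).Coprime (p ^ k) := hyc.pow_right k
    have : orderOf y = 1 := Nat.Coprime.eq_one_of_dvd hc hd
    exact hy1 (orderOf_eq_one_iff.1 this)
  have hQab : IsMulCommutative Q := by
    by_contra hQna
    have := h Q hQna
    rw [← hNdef] at this
    apply hyQ
    rw [← this]
    exact hyN
  have hcentQ : ∀ (z : G), (∀ a ∈ Q, z * a = a * z) → z ∈ Subgroup.centralizer (Q : Set G) := by
    intro z hz
    rw [Subgroup.mem_centralizer_iff]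
    intro a ha
    exact (hz a ha).symm
  have hNtop : N ≠ ⊤ := by
    intro hNt
    have hQn : Q.Normal := Subgroup.normalizer_eq_top_iff.1 hNt
    rcases hQn.eq_bot_or_eq_top with hb | ht
    · apply hyC
      apply hcentQ
      intro a ha
      rw [hb, Subgroup.mem_bot] at ha
      rw [ha, mul_one, one_mul]
    · apply hna
      rw [← isMulCommutative_top_iff, ← ht]
      exact hQab
  -- the type `↥N`
  have hNsn : SN N := h.subgroup N
  have hNN : ∀ M : Subgroup N, M.Normal → ¬ IsMulCommutative M → M = ⊤ :=
    fun M hM hMna => @SN.normal_eq_top _ _ hNsn M hM hMna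
  set Q' : Subgroup N := Q.subgroupOf N with hQ'def
  haveI hQ'n : Q'.Normal := Subgroup.normal_in_normalizer
  have hQ'p : IsPGroup p Q' := hQp.comap_subtype
  set y' : N := ⟨y, hyN⟩ with hy'def
  have hy'ord : orderOf y' = orderOf y := by
    rw [hy'def]
    exact Subgroup.orderOf_mk y hyN
  have hy'c : (orderOf y').Coprime p := by rw [hy'ord]; exact hyc
  have hnotcent : ¬ ∀ a ∈ Q', y' * a = a * y' := by
    intro hc
    apply hyC
    apply hcentQ
    intro a ha
    have := hc ⟨a, hQN ha⟩ (by rw [hQ'def, Subgroup.mem_subgroupOf]; exact ha)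
    exact congrArg Subtype.val this
  have hQ'top : Q' ≠ ⊤ := by
    intro ht
    have : y' ∈ Q' := by rw [ht]; exact Subgroup.mem_top _
    rw [hQ'def, Subgroup.mem_subgroupOf] at this
    exact hyQ this
  by_cases hcomm : commutator N = ⊤
  · -- the perfect case
    obtain ⟨R, hRn, hRt, hQR, hRmax⟩ := exists_maximal_normal Q' hQ'top
    haveI := hRn
    have hRab : IsMulCommutative R := by
      by_contra hRna
      exact hRt (hNN R hRn hRna)
    haveI hsimple : IsSimpleGroup (N ⧸ R) := isSimpleGroup_quotient_of_maximal R hRt hRmax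
    have hncq : ∃ x y : N ⧸ R, x * y ≠ y * x := by
      by_contra hcon
      push_neg at hcon
      apply hRt
      rw [eq_top_iff, ← hcomm, commutator_def, Subgroup.commutator_le]
      intro a _ b _
      rw [← QuotientGroup.eq_one_iff, commutatorElement_def]
      simp only [QuotientGroup.mk_mul, QuotientGroup.mk_inv]
      rw [hcon (a : N ⧸ R) (b : N ⧸ R)]
      group
    have hctq : CT (N ⧸ R) := IH N R hNtop hsimple hncq
    have hcenter := le_center_of_ct_quotient hNsn R hRab hRmax hncq hctq
    apply hnotcent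
    intro a ha
    have haZ : a ∈ Subgroup.center N := hcenter (hQR ha)
    exact (Subgroup.mem_center_iff.1 haZ y')
  · -- the solvable case
    obtain ⟨T'⟩ : Nonempty (Sylow p N) := inferInstance
    rcases centralizes_or_sylow_normal hNN hcomm Q' hQ'p y' hy'c T' with hc | hTn
    · exact hnotcent hc
    · haveI := hTn
      have hQT : Q' ≤ (T' : Subgroup N) := hQ'p.le_sylow_of_normal T'
      set T : Subgroup G := (T' : Subgroup N).map N.subtype with hTdef
      have hTp : IsPGroup p T := T'.isPGroup'.map _
      have hQT' : Q ≤ T := by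
        intro a ha
        refine ⟨⟨a, hQN ha⟩, hQT ?_, rfl⟩
        rw [hQ'def, Subgroup.mem_subgroupOf]
        exact ha
      have hyT : y ∈ Subgroup.normalizer (T : Set G) := by
        rw [Subgroup.mem_normalizer_iff]
        intro g
        constructor
        · rintro ⟨g', hg', rfl⟩
          refine ⟨y' * g' * y'⁻¹, hTn.conj_mem g' hg' y', rfl⟩
        · rintro ⟨g', hg', hg'e⟩
          have hgN : g ∈ N := by
            have h1 : g = y⁻¹ * (y * g * y⁻¹) * y := by group
            rw [h1, ← hg'e]
            exact N.mul_mem (N.mul_mem (N.inv_mem hyN) g'.2) hyN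
          refine ⟨⟨g, hgN⟩, ?_, rfl⟩
          have h2 : (⟨g, hgN⟩ : N) = y'⁻¹ * g' * y'⁻¹⁻¹ := by
            apply Subtype.ext
            simp only [Subgroup.coe_mul, Subgroup.coe_inv, hy'def]
            have hg'e' : (g' : G) = y * g * y⁻¹ := hg'e
            rw [hg'e']
            group
          rw [h2]
          exact hTn.conj_mem g' hg' y'⁻¹
      by_cases hyCT : y ∈ Subgroup.centralizer (T : Set G)
      · apply hyC
        rw [Subgroup.mem_centralizer_iff] at hyCT ⊢
        intro a ha
        exact hyCT a (hQT' ha)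
      · -- maximality: `T = Q`
        have hcard : Nat.card T ≤ Nat.card Q := by
          rw [hQm]
          exact hmaxS _ ⟨T, y, hTp, hyT, hyc, hyCT, rfl⟩
        have hTQ : Q = T := Subgroup.eq_of_le_of_card_ge hQT' hcard
        -- `Q` is a Sylow subgroup of its normalizer, hence of `G`
        obtain ⟨P1, hQP1⟩ := hQp.exists_le_sylow
        have hP1na : ¬ IsMulCommutative (P1 : Subgroup G) := by
          intro hP1
          apply hPna
          have e : (P : Subgroup G) ≃* (P1 : Subgroup G) := Sylow.equiv P P1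
          rw [isMulCommutative_iff] at hP1 ⊢
          intro a ha b hb
          have h3 := hP1 _ (e ⟨a, ha⟩).2 _ (e ⟨b, hb⟩).2
          have h4 : e ⟨a, ha⟩ * e ⟨b, hb⟩ = e ⟨b, hb⟩ * e ⟨a, ha⟩ := Subtype.ext h3
          rw [← map_mul, ← map_mul] at h4
          have h5 := e.injective h4
          exact congrArg Subtype.val h5
        have hQneP1 : Q ≠ (P1 : Subgroup G) := by
          intro he
          apply hP1na
          rw [← he]
          exact hQab
        -- normalizer growth in the `p`-group `P1`
        haveI : Group.IsNilpotent (P1 : Subgroup G) := P1.isPGroup'.isNilpotent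
        have hlt : Q.subgroupOf (P1 : Subgroup G) < ⊤ := by
          rw [lt_top_iff_ne_top]
          intro ht
          apply hQneP1
          apply le_antisymm hQP1
          intro a ha
          have : (⟨a, ha⟩ : (P1 : Subgroup G)) ∈ Q.subgroupOf (P1 : Subgroup G) := by
            rw [ht]; exact Subgroup.mem_top _
          rwa [Subgroup.mem_subgroupOf] at this
        have hgrow := normalizerCondition_of_isNilpotent (G := (P1 : Subgroup G)) _ hlt
        obtain ⟨z, hzN, hzQ⟩ := SetLike.exists_of_lt hgrow
        have hzQ' : (z : G) ∉ Q := by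
          intro hz
          apply hzQ
          rw [Subgroup.mem_subgroupOf]
          exact hz
        have hzNG : (z : G) ∈ N := by
          rw [hNdef, Subgroup.mem_normalizer_iff]
          intro g
          rw [Subgroup.mem_normalizer_iff] at hzN
          constructor
          · intro hg
            have := (hzN ⟨g, hQP1 hg⟩).1 (by rw [Subgroup.mem_subgroupOf]; exact hg)
            rw [Subgroup.mem_subgroupOf] at this
            exact this
          · intro hg
            have hgP : g ∈ (P1 : Subgroup G) := by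
              have h1 : g = (z : G)⁻¹ * ((z : G) * g * (z : G)⁻¹) * (z : G) := by group
              rw [h1]
              exact (P1 : Subgroup G).mul_mem ((P1 : Subgroup G).mul_mem
                ((P1 : Subgroup G).inv_mem z.2) (hQP1 hg)) z.2
            have := (hzN ⟨g, hgP⟩).2 (by rw [Subgroup.mem_subgroupOf]; exact hg)
            rw [Subgroup.mem_subgroupOf] at this
            exact this
        -- the `p`-subgroup `Q' ⊔ ⟨z⟩` of `N` is bigger than the Sylow subgroup `T' = Q'`
        set z' : N := ⟨(z : G), hzNG⟩ with hz'def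
        have hzp : IsPGroup p (Subgroup.zpowers z') := by
          obtain ⟨k, hk⟩ := P1.isPGroup' z
          have hk' : z' ^ p ^ k = 1 := by
            apply Subtype.ext
            have := congrArg Subtype.val hk
            simpa using this
          rintro ⟨w, hw⟩
          obtain ⟨j, rfl⟩ := Subgroup.mem_zpowers_iff.1 hw
          refine ⟨k, ?_⟩
          apply Subtype.ext
          simp only [Subgroup.coe_pow, Subgroup.coe_one]
          rw [← zpow_natCast, ← zpow_mul, mul_comm, zpow_mul, zpow_natCast, hk', one_zpow]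
        have hsup : IsPGroup p (Q' ⊔ Subgroup.zpowers z' : Subgroup N) :=
          hQ'p.to_sup_of_normal_left hzp
        have hTle : (T' : Subgroup N) ≤ Q' ⊔ Subgroup.zpowers z' := by
          intro t ht
          apply Subgroup.mem_sup_left
          rw [hQ'def, Subgroup.mem_subgroupOf, hTQ]
          exact ⟨t, ht, rfl⟩
        have heq := T'.is_maximal' hsup hTle
        have hz'T : z' ∈ (T' : Subgroup N) := by
          rw [← heq]
          exact Subgroup.mem_sup_right (Subgroup.mem_zpowers z')
        apply hzQ'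
        rw [hTQ]
        exact ⟨z', hz'T, rfl⟩

end Cfsg.Agent.Lib.Helper1.SelfNorm
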