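import Mathlib
import Cfsg.Agent.Lib.Helper1.SelfNormBase
import Cfsg.Agent.Lib.Helper1.SelfNormI1
import Cfsg.Agent.Lib.Lead.HallSylow

set_option autoImplicit false
set_option linter.unusedVariables false
set_option linter.unusedSectionVars false
set_option linter.style.longLine false
set_option maxHeartbeats 2000000

/-!
# S4073, piece S: a nonabelian group whose proper normal subgroups are abelian, with an abelian
Sylow `p`-subgroup and a proper normal subgroup of `p`-power index, has a cyclic Sylow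
`p`-subgroup whose normalizer centralizes it
-/

namespace Cfsg.Agent.Lib.Helper1.SelfNorm

open scoped Pointwise

theorem cyclic_sylow_of_normal_ppow_index {C : Type*} [Group C] [Finite C] {p : ℕ} [Fact p.Prime]
    (hN : ∀ N : Subgroup C, N.Normal → ¬ IsMulCommutative N → N = ⊤)
    (hna : ¬ IsMulCommutative C) (P : Sylow p C) (hP : IsMulCommutative (P : Subgroup C))
    (K : Subgroup C) (hKn : K.Normal) (hK : K ≠ ⊤) (k : ℕ) (hidx : K.index = p ^ k) :
    IsCyclic (P : Subgroup C) ∧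
      Subgroup.normalizer ((P : Subgroup C) : Set C) ≤
        Subgroup.centralizer ((P : Subgroup C) : Set C) := by
  classical
  have hp : p.Prime := Fact.out
  haveI := hKn
  -- 0. `K` is abelian
  have hKab : IsMulCommutative K := by
    by_contra hKna
    exact hK (hN K hKn hKna)
  have hKc : ∀ a ∈ K, ∀ b ∈ K, a * b = b * a := (isMulCommutative_iff K).1 hKab
  have hPc : ∀ a ∈ (P : Subgroup C), ∀ b ∈ (P : Subgroup C), a * b = b * a :=
    (isMulCommutative_iff _).1 hP
  -- 1. `K ⊔ P = ⊤`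
  have hKP : K ⊔ (P : Subgroup C) = ⊤ := by
    rw [← Subgroup.index_eq_one]
    have h1 : (K ⊔ (P : Subgroup C)).index ∣ p ^ k := hidx ▸ Subgroup.index_dvd_of_le le_sup_left
    have h2 : (K ⊔ (P : Subgroup C)).index ∣ (P : Subgroup C).index :=
      Subgroup.index_dvd_of_le le_sup_right
    have hcop : ((P : Subgroup C).index).Coprime (p ^ k) := by
      apply Nat.Coprime.pow_right
      rw [Nat.coprime_comm]
      exact (Nat.Prime.coprime_iff_not_dvd hp).2 P.not_dvd_index
    exact Nat.eq_one_of_dvd_coprimes hcop h2 h1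
  have hdecomp : ∀ c : C, ∃ a ∈ K, ∃ u ∈ (P : Subgroup C), c = a * u := by
    intro c
    have hc : c ∈ ((K ⊔ (P : Subgroup C) : Subgroup C) : Set C) := by
      rw [hKP]; exact Set.mem_univ c
    rw [Subgroup.normal_mul] at hc
    obtain ⟨a, ha, u, hu, he⟩ := hc
    exact ⟨a, ha, u, hu, he.symm⟩
  -- 2. some `w ∈ P` does not centralize `K`
  have hw : ∃ w ∈ (P : Subgroup C), ∃ k0 ∈ K, w * k0 ≠ k0 * w := by
    by_contra hcon
    push_neg at hcon
    apply hna
    refine ⟨⟨fun c1 c2 => ?_⟩⟩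
    obtain ⟨a1, ha1, u1, hu1, rfl⟩ := hdecomp c1
    obtain ⟨a2, ha2, u2, hu2, rfl⟩ := hdecomp c2
    have e1 := hcon u1 hu1 a2 ha2
    have e2 := hcon u2 hu2 a1 ha1
    have e3 := hKc a1 ha1 a2 ha2
    have e4 := hPc u1 hu1 u2 hu2
    calc a1 * u1 * (a2 * u2) = a1 * (u1 * a2) * u2 := by group
      _ = a1 * (a2 * u1) * u2 := by rw [e1]
      _ = (a1 * a2) * (u1 * u2) := by group
      _ = (a2 * a1) * (u2 * u1) := by rw [e3, e4]
      _ = a2 * (a1 * u2) * u1 := by group
      _ = a2 * (u2 * a1) * u1 := by rw [e2]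
      _ = a2 * u2 * (a1 * u1) := by group
  obtain ⟨w, hwP, k0, hk0, hwk0⟩ := hw
  -- 3. the homomorphism `phi`
  have hconjK : ∀ a ∈ K, w⁻¹ * a * w ∈ K := by
    intro a ha
    have := hKn.conj_mem a ha w⁻¹
    rwa [inv_inv] at this
  let f : K →* K :=
    { toFun := fun a => ⟨(a : C)⁻¹ * (w⁻¹ * (a : C) * w), K.mul_mem (K.inv_mem a.2) (hconjK a a.2)⟩
      map_one' := by
        apply Subtype.ext
        simp
      map_mul' := by
        intro a b
        apply Subtype.ext
        simp only [Subgroup.coe_mul]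
        have e1 := hKc (w⁻¹ * (a : C) * w) (hconjK a a.2) (b : C)⁻¹ (K.inv_mem b.2)
        calc ((a : C) * (b : C))⁻¹ * (w⁻¹ * ((a : C) * (b : C)) * w)
            = (b : C)⁻¹ * ((a : C)⁻¹ * (w⁻¹ * (a : C) * w)) * (w⁻¹ * (b : C) * w) := by group
          _ = ((a : C)⁻¹ * (w⁻¹ * (a : C) * w)) * (b : C)⁻¹ * (w⁻¹ * (b : C) * w) := by
              have e2 := hKc (b : C)⁻¹ (K.inv_mem b.2) ((a : C)⁻¹ * (w⁻¹ * (a : C) * w))
                (K.mul_mem (K.inv_mem a.2) (hconjK a a.2))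
              rw [e2]
          _ = (a : C)⁻¹ * (w⁻¹ * (a : C) * w) * ((b : C)⁻¹ * (w⁻¹ * (b : C) * w)) := by group }
  have hf : ∀ a : K, ((f a : K) : C) = (a : C)⁻¹ * (w⁻¹ * (a : C) * w) := fun a => rfl
  set B : Subgroup C := f.range.map K.subtype with hBdef
  have hBmem : ∀ b : C, b ∈ B ↔ ∃ a ∈ K, b = a⁻¹ * (w⁻¹ * a * w) := by
    intro b
    constructor
    · rintro ⟨b', ⟨a, rfl⟩, rfl⟩
      exact ⟨a, a.2, hf a⟩
    · rintro ⟨a, ha, rfl⟩
      exact ⟨f ⟨a, ha⟩, ⟨⟨a, ha⟩, rfl⟩, hf ⟨a, ha⟩⟩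
  have hBK : B ≤ K := by
    rintro b ⟨b', _, rfl⟩
    exact b'.2
  -- (b) `p ∤ |B|`
  have hBcard : ¬ p ∣ Nat.card B := by
    have h1 : Nat.card B = Nat.card f.range := by
      rw [hBdef]
      exact Nat.card_congr (f.range.equivMapOfInjective K.subtype K.subtype_injective).symm.toEquiv
    have h2 : f.ker.index = Nat.card f.range := Subgroup.index_ker f
    have h3 : ((P : Subgroup C) ⊓ K).subgroupOf K ≤ f.ker := by
      intro a ha
      rw [Subgroup.mem_subgroupOf] at ha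
      rw [MonoidHom.mem_ker]
      apply Subtype.ext
      rw [hf a, Subgroup.coe_one]
      have e := hPc w hwP (a : C) ha.1
      calc (a : C)⁻¹ * (w⁻¹ * (a : C) * w) = (a : C)⁻¹ * (w⁻¹ * ((a : C) * w)) := by group
        _ = (a : C)⁻¹ * (w⁻¹ * (w * (a : C))) := by rw [e]
        _ = 1 := by group
    have h4 : f.ker.index ∣ (((P : Subgroup C) ⊓ K).subgroupOf K).index :=
      Subgroup.index_dvd_of_le h3
    have h5 : (((P : Subgroup C) ⊓ K).subgroupOf K).index = ((P : Subgroup C) ⊓ K).relIndex K := rfl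
    have h6 := Cfsg.Agent.Lib.Lead.HallSylow.not_dvd_relIndex_inf p P K
    intro hd
    apply h6
    rw [← h5]
    rw [h1, ← h2] at hd
    exact hd.trans h4
  have hBcop : ∀ j : ℕ, (Nat.card B).Coprime (p ^ j) := by
    intro j
    apply Nat.Coprime.pow_right
    rw [Nat.coprime_comm]
    exact (Nat.Prime.coprime_iff_not_dvd hp).2 hBcard
  -- elements of `B` of `p`-power order are trivial
  have hBp : ∀ b ∈ B, ∀ j : ℕ, b ^ p ^ j = 1 → b = 1 := by
    intro b hb j hj
    have h1 : orderOf b ∣ p ^ j := orderOf_dvd_of_pow_eq_one hj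
    have h2 : orderOf b ∣ Nat.card B := by
      have := orderOf_dvd_natCard (⟨b, hb⟩ : B)
      rwa [Subgroup.orderOf_mk] at this
    have := Nat.eq_one_of_dvd_coprimes (hBcop j) h2 h1
    exact orderOf_eq_one_iff.1 this
  obtain ⟨jw, hjw⟩ := P.isPGroup' ⟨w, hwP⟩
  have hjw' : w ^ p ^ jw = 1 := by
    have := congrArg Subtype.val hjw
    simpa using this
  -- (c) `B` is normal
  have hBn : B.Normal := by
    constructor
    intro b hb c
    obtain ⟨a, ha, rfl⟩ := (hBmem b).1 hb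
    obtain ⟨a1, ha1, u, hu, rfl⟩ := hdecomp c
    rw [hBmem]
    have huw : u * w = w * u := hPc u hu w hwP
    have huw' : u * w⁻¹ = w⁻¹ * u := by
      calc u * w⁻¹ = w⁻¹ * (w * u) * w⁻¹ := by group
        _ = w⁻¹ * (u * w) * w⁻¹ := by rw [huw]
        _ = w⁻¹ * u := by group
    refine ⟨u * a * u⁻¹, hKn.conj_mem a ha u, ?_⟩
    have hbK : u * (a⁻¹ * (w⁻¹ * a * w)) * u⁻¹ ∈ K :=
      hKn.conj_mem _ (K.mul_mem (K.inv_mem ha) (hconjK a ha)) u
    have e1 : a1 * u * (a⁻¹ * (w⁻¹ * a * w)) * (a1 * u)⁻¹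
        = a1 * (u * (a⁻¹ * (w⁻¹ * a * w)) * u⁻¹) * a1⁻¹ := by group
    rw [e1, hKc a1 ha1 _ hbK, mul_inv_cancel_right]
    calc u * (a⁻¹ * (w⁻¹ * a * w)) * u⁻¹
        = (u * a * u⁻¹)⁻¹ * ((u * w⁻¹) * a * (w * u⁻¹)) := by group
      _ = (u * a * u⁻¹)⁻¹ * ((w⁻¹ * u) * a * (u⁻¹ * w)) := by
          have : w * u⁻¹ = u⁻¹ * w := by
            calc w * u⁻¹ = u⁻¹ * (u * w) * u⁻¹ := by group
              _ = u⁻¹ * (w * u) * u⁻¹ := by rw [huw]
              _ = u⁻¹ * w := by group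
          rw [huw', this]
      _ = (u * a * u⁻¹)⁻¹ * (w⁻¹ * (u * a * u⁻¹) * w) := by group
  haveI := hBn
  -- (d) `F = B ⊔ ⟨w⟩` is normal
  set F : Subgroup C := B ⊔ Subgroup.zpowers w with hFdef
  have hFn : F.Normal := by
    constructor
    intro x hx c
    have hle : F ≤ F.comap ((MulAut.conj c).toMonoidHom) := by
      rw [hFdef]
      apply sup_le
      · intro b hb
        rw [Subgroup.mem_comap]
        show c * b * c⁻¹ ∈ _
        exact Subgroup.mem_sup_left (hBn.conj_mem b hb c)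
      · rw [Subgroup.zpowers_le, Subgroup.mem_comap]
        show c * w * c⁻¹ ∈ _
        obtain ⟨a1, ha1, u, hu, rfl⟩ := hdecomp c
        have huw : u * w = w * u := hPc u hu w hwP
        have e1 : a1 * u * w * (a1 * u)⁻¹ = w * ((a1⁻¹)⁻¹ * (w⁻¹ * a1⁻¹ * w))⁻¹ := by
          calc a1 * u * w * (a1 * u)⁻¹ = a1 * (u * w) * u⁻¹ * a1⁻¹ := by group
            _ = a1 * (w * u) * u⁻¹ * a1⁻¹ := by rw [huw]
            _ = w * ((a1⁻¹)⁻¹ * (w⁻¹ * a1⁻¹ * w))⁻¹ := by group
        rw [e1]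
        apply Subgroup.mul_mem _ (Subgroup.mem_sup_right (Subgroup.mem_zpowers w))
        apply Subgroup.inv_mem
        apply Subgroup.mem_sup_left
        rw [hBmem]
        exact ⟨a1⁻¹, K.inv_mem ha1, rfl⟩
    exact hle hx
  -- (e) `F` is nonabelian
  have hFna : ¬ IsMulCommutative F := by
    intro hFab
    have hFc := (isMulCommutative_iff F).1 hFab
    apply hwk0
    set c : C := k0⁻¹ * (w⁻¹ * k0 * w) with hc
    have hcB : c ∈ B := (hBmem c).2 ⟨k0, hk0, rfl⟩
    have hwc : w * c = c * w := hFc w (Subgroup.mem_sup_right (Subgroup.mem_zpowers w)) c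
      (Subgroup.mem_sup_left hcB)
    have hconj : w⁻¹ * k0 * w = k0 * c := by rw [hc]; group
    have hpow := conj_pow_of_commute hconj hwc (p ^ jw)
    rw [hjw', inv_one, one_mul, mul_one] at hpow
    have hcj : c ^ p ^ jw = 1 := by
      have : k0 * c ^ p ^ jw = k0 * 1 := by rw [mul_one]; exact hpow.symm
      exact mul_left_cancel this
    have hc1 : c = 1 := hBp c hcB jw hcj
    rw [hc1, mul_one] at hconj
    calc w * k0 = w * (w⁻¹ * k0 * w) := by rw [hconj]
      _ = k0 * w := by group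
  -- (f) `F = ⊤`
  have hFtop : F = ⊤ := hN F hFn hFna
  -- (g) `B ⊓ P = ⊥`
  have hBP : ∀ b ∈ B, b ∈ (P : Subgroup C) → b = 1 := by
    intro b hb hbP
    obtain ⟨j, hj⟩ := P.isPGroup' ⟨b, hbP⟩
    have hj' : b ^ p ^ j = 1 := by
      have := congrArg Subtype.val hj
      simpa using this
    exact hBp b hb j hj'
  have hdisj : Disjoint B (Subgroup.zpowers w) := by
    rw [Subgroup.disjoint_def]
    intro x hxB hxw
    exact hBP x hxB ((Subgroup.zpowers_le.2 hwP) hxw)
  have hmul : (B : Set C) * (Subgroup.zpowers w : Set C) = Set.univ := by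
    rw [← Subgroup.normal_mul, ← hFdef, hFtop]
    rfl
  have hcompl : Subgroup.IsComplement' B (Subgroup.zpowers w) :=
    Subgroup.isComplement'_of_disjoint_and_mul_eq_univ hdisj hmul
  have hcardC : Nat.card B * Nat.card (Subgroup.zpowers w) = Nat.card C := hcompl.card_mul_card
  -- (i) `P = ⟨w⟩`
  have hwle : Subgroup.zpowers w ≤ (P : Subgroup C) := Subgroup.zpowers_le.2 hwP
  have hPw : Subgroup.zpowers w = (P : Subgroup C) := by
    apply Subgroup.eq_of_le_of_card_ge hwle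
    obtain ⟨a, ha⟩ := IsPGroup.iff_card.1 P.isPGroup'
    have h1 : Nat.card (P : Subgroup C) ∣ Nat.card C := Subgroup.card_subgroup_dvd_card _
    rw [← hcardC, ha] at h1
    have h2 : p ^ a ∣ Nat.card (Subgroup.zpowers w) :=
      (Nat.Coprime.dvd_mul_left (Nat.Coprime.symm (hBcop a))).1 h1
    rw [ha]
    exact Nat.le_of_dvd Nat.card_pos h2
  refine ⟨?_, ?_⟩
  · rw [← hPw]
    infer_instance
  · -- (j) the normalizer of `P` centralizes `P`
    intro n hn
    have hnuniv : n ∈ (B : Set C) * (Subgroup.zpowers w : Set C) := by rw [hmul]; exact Set.mem_univ n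
    obtain ⟨b, hb, u', hu', rfl⟩ := hnuniv
    have hu'P : u' ∈ (P : Subgroup C) := hwle hu'
    have hbN : b ∈ Subgroup.normalizer ((P : Subgroup C) : Set C) := by
      have h1 : b = (b * u') * u'⁻¹ := by group
      rw [h1]
      exact Subgroup.mul_mem _ hn (Subgroup.inv_mem _ (Subgroup.le_normalizer hu'P))
    rw [Subgroup.mem_centralizer_iff]
    intro u hu
    have hbu : b * u * b⁻¹ * u⁻¹ = 1 := by
      apply hBP
      · have h2 : b * u * b⁻¹ * u⁻¹ = b * (u * b⁻¹ * u⁻¹) := by group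
        rw [h2]
        exact B.mul_mem hb (hBn.conj_mem b⁻¹ (B.inv_mem hb) u)
      · exact Subgroup.mul_mem _ ((Subgroup.mem_normalizer_iff.1 hbN u).1 hu) (Subgroup.inv_mem _ hu)
    have hbu' : b * u = u * b := by
      calc b * u = (b * u * b⁻¹ * u⁻¹) * (u * b) := by group
        _ = u * b := by rw [hbu, one_mul]
    have huu' : u * u' = u' * u := hPc u hu u' hu'P
    show u * (b * u') = b * u' * u
    calc u * (b * u') = (u * b) * u' := by group
      _ = (b * u) * u' := by rw [hbu']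
      _ = b * (u * u') := by group
      _ = b * (u' * u) := by rw [huu']
      _ = b * u' * u := by group

end Cfsg.Agent.Lib.Helper1.SelfNorm
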