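import Mathlib
import Cfsg.Agent.Lib.Helper1.SelfNormBase

set_option autoImplicit false
set_option linter.unusedVariables false
set_option linter.unusedSectionVars false
set_option linter.style.longLine false
set_option maxHeartbeats 1000000

/-!
# S4073, piece T: the kernel of the transfer into an abelian Sylow subgroup
-/

namespace Cfsg.Agent.Lib.Helper1.SelfNorm

open scoped IsMulCommutative in
theorem exists_transfer_kernel {C : Type*} [Group C] [Finite C] {p : ℕ} [Fact p.Prime]
    (P : Sylow p C) (hP : IsMulCommutative (P : Subgroup C)) {x : C} (hxP : x ∈ (P : Subgroup C))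
    (hxZ : x ∈ Subgroup.center C) (hx1 : x ≠ 1) :
    ∃ K : Subgroup C, K.Normal ∧ commutator C ≤ K ∧ x ∉ K ∧ ∃ k : ℕ, K.index = p ^ k := by
  classical
  haveI := hP
  let V : C →* (P : Subgroup C) := MonoidHom.transfer (MonoidHom.id (P : Subgroup C))
  refine ⟨V.ker, inferInstance, Abelianization.commutator_subset_ker V, ?_, ?_⟩
  · intro hx
    have key : ∀ (k : ℕ) (g₀ : C), g₀⁻¹ * x ^ k * g₀ ∈ (P : Subgroup C) →
        g₀⁻¹ * x ^ k * g₀ = x ^ k := by
      intro k g₀ _
      have h1 : x ^ k ∈ Subgroup.center C := Subgroup.pow_mem _ hxZ k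
      rw [Subgroup.mem_center_iff] at h1
      rw [mul_assoc, ← h1 g₀, ← mul_assoc, inv_mul_cancel, one_mul]
    have h1 := MonoidHom.transfer_eq_pow (MonoidHom.id (P : Subgroup C)) x key
    have h2 : V x = 1 := hx
    have h3 : x ^ (P : Subgroup C).index = 1 := by
      have h4 : V x = ⟨x ^ (P : Subgroup C).index, MonoidHom.transfer_eq_pow_aux x key⟩ := h1
      rw [h2] at h4
      have := congrArg Subtype.val h4
      simpa using this.symm
    obtain ⟨k, hk⟩ := P.isPGroup' ⟨x, hxP⟩
    have hk' : x ^ p ^ k = 1 := by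
      have := congrArg Subtype.val hk
      simpa using this
    have hd1 : orderOf x ∣ (P : Subgroup C).index := orderOf_dvd_of_pow_eq_one h3
    have hd2 : orderOf x ∣ p ^ k := orderOf_dvd_of_pow_eq_one hk'
    have hcop : ((P : Subgroup C).index).Coprime (p ^ k) := by
      apply Nat.Coprime.pow_right
      rw [Nat.coprime_comm]
      exact (Nat.Prime.coprime_iff_not_dvd Fact.out).2 P.not_dvd_index
    have : orderOf x = 1 := Nat.eq_one_of_dvd_coprimes hcop hd1 hd2
    exact hx1 (orderOf_eq_one_iff.1 this)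
  · rw [Subgroup.index_ker]
    have h1 : Nat.card V.range ∣ Nat.card (P : Subgroup C) := Subgroup.card_subgroup_dvd_card _
    obtain ⟨a, ha⟩ := IsPGroup.iff_card.1 P.isPGroup'
    rw [ha] at h1
    obtain ⟨k, -, hk⟩ := (Nat.dvd_prime_pow Fact.out).1 h1
    exact ⟨k, hk⟩

end Cfsg.Agent.Lib.Helper1.SelfNorm
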