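import Mathlib
import Cfsg.Agent.Lib.Helper1.SelfNormBase
import Cfsg.Agent.Lib.Helper1.SelfNormT
import Cfsg.Agent.Lib.Helper1.SelfNormS

set_option autoImplicit false
set_option linter.unusedVariables false
set_option linter.unusedSectionVars false
set_option linter.style.longLine false
set_option maxHeartbeats 2000000

/-!
# S4073, piece M: if all Sylow subgroups are abelian then commuting is transitive
-/

namespace Cfsg.Agent.Lib.Helper1.SelfNorm

/-- in a finite cyclic group, an element killed by the prime `p` lies in any subgroup of order `p` -/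
theorem mem_zpowers_of_pow_eq_one_of_isCyclic {A : Type*} [Group A] [Finite A] [IsCyclic A]
    {p : ℕ} (hp : p.Prime) {x z : A} (hx : orderOf x = p) (hz : z ^ p = 1) :
    z ∈ Subgroup.zpowers x := by
  classical
  haveI := Fintype.ofFinite A
  by_contra hzx
  have h1 := IsCyclic.card_pow_eq_one_le (α := A) hp.pos
  have hsub : insert z ((Subgroup.zpowers x : Set A).toFinset) ⊆
      Finset.univ.filter (fun a : A => a ^ p = 1) := by
    intro a ha
    rw [Finset.mem_filter]
    refine ⟨Finset.mem_univ _, ?_⟩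
    rw [Finset.mem_insert] at ha
    rcases ha with rfl | ha
    · exact hz
    · rw [Set.mem_toFinset] at ha
      obtain ⟨j, rfl⟩ := Subgroup.mem_zpowers_iff.1 ha
      rw [← zpow_natCast, ← zpow_mul, mul_comm, zpow_mul, zpow_natCast, ← hx, pow_orderOf_eq_one,
        one_zpow]
  have h2 := Finset.card_le_card hsub
  rw [Finset.card_insert_of_notMem (by rw [Set.mem_toFinset]; exact hzx)] at h2
  have h3 : ((Subgroup.zpowers x : Set A).toFinset).card = p := by
    rw [Set.toFinset_card, ← hx, ← Nat.card_eq_fintype_card]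
    exact Nat.card_zpowers x
  rw [h3] at h2
  omega

theorem ct_of_abelian_sylow {G : Type*} [Group G] [Finite G] [IsSimpleGroup G]
    (hna : ¬ IsMulCommutative G) (h : SN G)
    (hsyl : ∀ (p : ℕ) [Fact p.Prime] (P : Sylow p G), IsMulCommutative (P : Subgroup G)) :
    CT G := by
  classical
  -- it suffices that centralizers of non-identity elements are abelian
  suffices key : ∀ b : G, b ≠ 1 → IsMulCommutative (Subgroup.centralizer ({b} : Set G)) by
    intro a b c ha hb hc hab hbc
    have h1 := (isMulCommutative_iff _).1 (key b hb)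
    have haC : a ∈ Subgroup.centralizer ({b} : Set G) := by
      rw [Subgroup.mem_centralizer_singleton_iff]; exact hab.eq
    have hcC : c ∈ Subgroup.centralizer ({b} : Set G) := by
      rw [Subgroup.mem_centralizer_singleton_iff]; exact hbc.eq.symm
    exact h1 a haC c hcC
  intro x0 hx0
  by_contra hC0
  -- reduce to prime order
  have hord0 : orderOf x0 ≠ 1 := fun h1 => hx0 (orderOf_eq_one_iff.1 h1)
  set p := (orderOf x0).minFac with hpdef
  have hp : p.Prime := Nat.minFac_prime hord0
  haveI : Fact p.Prime := ⟨hp⟩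
  have hpdvd : p ∣ orderOf x0 := Nat.minFac_dvd _
  set x : G := x0 ^ (orderOf x0 / p) with hxdef
  have hxord : orderOf x = p := orderOf_pow_orderOf_div (orderOf_pos x0).ne' hpdvd
  have hx1 : x ≠ 1 := by
    intro h1
    rw [h1, orderOf_one] at hxord
    exact hp.one_lt.ne hxord
  set Cx : Subgroup G := Subgroup.centralizer ({x} : Set G) with hCxdef
  have hCle : Subgroup.centralizer ({x0} : Set G) ≤ Cx := by
    intro g hg
    rw [hCxdef, Subgroup.mem_centralizer_singleton_iff]
    rw [Subgroup.mem_centralizer_singleton_iff] at hg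
    exact (Commute.pow_right hg _).eq
  have hCxna : ¬ IsMulCommutative Cx := by
    intro hab
    apply hC0
    rw [isMulCommutative_iff] at hab ⊢
    intro a ha b hb
    exact hab a (hCle ha) b (hCle hb)
  have hCxself : Subgroup.normalizer (Cx : Set G) = Cx := h Cx hCxna
  have hmemCx : ∀ g : G, g ∈ Cx ↔ g * x = x * g := by
    intro g
    rw [hCxdef, Subgroup.mem_centralizer_singleton_iff]
  -- normalizing `⟨x⟩` implies centralizing `x`
  have hcardzx : Nat.card (Subgroup.zpowers x) = p := by rw [Nat.card_zpowers, hxord]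
  have hNx : ∀ n : G, n * x * n⁻¹ ∈ Subgroup.zpowers x → n ∈ Cx := by
    intro n hn
    have hord' : orderOf (n * x * n⁻¹) = p := by
      rw [← hxord]
      have hsc : SemiconjBy n x (n * x * n⁻¹) := by
        show n * x = n * x * n⁻¹ * n
        group
      exact (SemiconjBy.orderOf_eq n hsc).symm
    have hzeq : Subgroup.zpowers (n * x * n⁻¹) = Subgroup.zpowers x := by
      apply Subgroup.eq_of_le_of_card_ge (Subgroup.zpowers_le.2 hn)
      rw [Nat.card_zpowers, Nat.card_zpowers, hord', hxord]
    have hxin : x ∈ Subgroup.zpowers (n * x * n⁻¹) := by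
      rw [hzeq]; exact Subgroup.mem_zpowers x
    obtain ⟨i, hi⟩ := Subgroup.mem_zpowers_iff.1 hxin
    obtain ⟨j, hj⟩ := Subgroup.mem_zpowers_iff.1 hn
    -- `n⁻¹ x n = x ^ i`
    have hinv : n⁻¹ * x * n = x ^ i := by
      rw [conj_zpow] at hi
      calc n⁻¹ * x * n = n⁻¹ * (n * x ^ i * n⁻¹) * n := by rw [hi]
        _ = x ^ i := by group
    have hxij : (x ^ i) ^ j = x := by
      rw [← hinv]
      have e1 : (n⁻¹ * x * n) ^ j = n⁻¹ * x ^ j * n := by
        have := conj_zpow (a := n⁻¹) (b := x) (i := j)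
        rw [inv_inv] at this
        exact this
      rw [e1, hj]
      group
    have hnN : n ∈ Subgroup.normalizer (Cx : Set G) := by
      rw [Subgroup.mem_normalizer_iff]
      intro g
      rw [hmemCx, hmemCx]
      constructor
      · intro hg
        have h1 : (n * g * n⁻¹) * x = n * (g * (n⁻¹ * x * n)) * n⁻¹ := by group
        have h2 : x * (n * g * n⁻¹) = n * ((n⁻¹ * x * n) * g) * n⁻¹ := by group
        rw [h1, h2, hinv]
        have : g * x ^ i = x ^ i * g := (Commute.zpow_right hg i).eq
        rw [this]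
      · intro hg
        have h1 : g * (n⁻¹ * x * n) = (n⁻¹ * x * n) * g := by
          calc g * (n⁻¹ * x * n) = n⁻¹ * ((n * g * n⁻¹) * x) * n := by group
            _ = n⁻¹ * (x * (n * g * n⁻¹)) * n := by rw [hg]
            _ = (n⁻¹ * x * n) * g := by group
        rw [hinv] at h1
        have h2 : g * (x ^ i) ^ j = (x ^ i) ^ j * g := (Commute.zpow_right h1 j).eq
        rw [hxij] at h2
        exact h2
    rw [hCxself] at hnN
    exact hnN
  -- the type `↥Cx`
  have hCsn : SN Cx := h.subgroup Cx
  have hCN : ∀ M : Subgroup Cx, M.Normal → ¬ IsMulCommutative M → M = ⊤ :=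
    fun M hM hMna => @SN.normal_eq_top _ _ hCsn M hM hMna
  have hxCx : x ∈ Cx := (hmemCx x).2 rfl
  set x' : Cx := ⟨x, hxCx⟩ with hx'def
  have hx'Z : x' ∈ Subgroup.center Cx := by
    rw [Subgroup.mem_center_iff]
    intro g
    apply Subtype.ext
    exact (hmemCx g).1 g.2
  have hx'1 : x' ≠ 1 := by
    intro h1
    exact hx1 (congrArg Subtype.val h1)
  have hx'ord : orderOf x' = p := by
    rw [hx'def, Subgroup.orderOf_mk]; exact hxord
  have hzp : IsPGroup p (Subgroup.zpowers x') := by
    apply IsPGroup.of_card (n := 1)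
    rw [Nat.card_zpowers, hx'ord, pow_one]
  obtain ⟨P', hxP'⟩ := hzp.exists_le_sylow
  have hx'P' : x' ∈ (P' : Subgroup Cx) := hxP' (Subgroup.mem_zpowers x')
  -- a Sylow subgroup of `G` containing the image of `P'`
  have hPimg : IsPGroup p ((P' : Subgroup Cx).map Cx.subtype) := P'.isPGroup'.map _
  obtain ⟨Ps, hPs⟩ := hPimg.exists_le_sylow
  have hPsab : ∀ a ∈ (Ps : Subgroup G), ∀ b ∈ (Ps : Subgroup G), a * b = b * a :=
    (isMulCommutative_iff _).1 (hsyl p Ps)
  have hP'ab : IsMulCommutative (P' : Subgroup Cx) := by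
    rw [isMulCommutative_iff]
    intro a ha b hb
    apply Subtype.ext
    exact hPsab a (hPs ⟨a, ha, rfl⟩) b (hPs ⟨b, hb, rfl⟩)
  have hxPs : x ∈ (Ps : Subgroup G) := hPs ⟨x', hx'P', rfl⟩
  have hPsCx : (Ps : Subgroup G) ≤ Cx := by
    intro g hg
    rw [hmemCx]
    exact hPsab g hg x hxPs
  -- `Ps` is the image of `P'`
  have hPseq : (Ps : Subgroup G) = (P' : Subgroup Cx).map Cx.subtype := by
    apply le_antisymm _ hPs
    intro g hg
    have hsub : IsPGroup p ((Ps : Subgroup G).subgroupOf Cx) := Ps.isPGroup'.comap_subtype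
    have hle : (P' : Subgroup Cx) ≤ (Ps : Subgroup G).subgroupOf Cx := by
      intro a ha
      rw [Subgroup.mem_subgroupOf]
      exact hPs ⟨a, ha, rfl⟩
    have heq := P'.is_maximal' hsub hle
    have : (⟨g, hPsCx hg⟩ : Cx) ∈ (Ps : Subgroup G).subgroupOf Cx := by
      rw [Subgroup.mem_subgroupOf]; exact hg
    rw [heq] at this
    exact ⟨⟨g, hPsCx hg⟩, this, rfl⟩
  -- transfer and the structure lemma
  obtain ⟨K, hKn, hKcomm, hxK, k, hKidx⟩ := exists_transfer_kernel P' hP'ab hx'P' hx'Z hx'1
  have hKtop : K ≠ ⊤ := by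
    intro ht
    apply hxK
    rw [ht]; exact Subgroup.mem_top _
  obtain ⟨hcyc, hNC⟩ := cyclic_sylow_of_normal_ppow_index hCN hCxna P' hP'ab K hKn hKtop k hKidx
  -- Burnside
  have hNCG : Subgroup.normalizer ((Ps : Subgroup G) : Set G) ≤
      Subgroup.centralizer ((Ps : Subgroup G) : Set G) := by
    intro n hn
    -- `n x n⁻¹ ∈ ⟨x⟩`
    have h1 : n * x * n⁻¹ ∈ (Ps : Subgroup G) := (Subgroup.mem_normalizer_iff.1 hn x).1 hxPs
    rw [hPseq] at h1
    obtain ⟨z, hzP', hze⟩ := h1
    haveI := hcyc
    have hzp' : (⟨z, hzP'⟩ : (P' : Subgroup Cx)) ^ p = 1 := by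
      apply Subtype.ext
      apply Subtype.ext
      simp only [Subgroup.coe_pow, Subgroup.coe_one]
      have : ((z : Cx) : G) = n * x * n⁻¹ := hze
      rw [this, conj_pow, ← hxord, pow_orderOf_eq_one]
      group
    have hx''ord : orderOf (⟨x', hx'P'⟩ : (P' : Subgroup Cx)) = p := by
      rw [Subgroup.orderOf_mk]; exact hx'ord
    have hmem := mem_zpowers_of_pow_eq_one_of_isCyclic hp hx''ord hzp'
    obtain ⟨j, hj⟩ := Subgroup.mem_zpowers_iff.1 hmem
    have hj' : x ^ j = n * x * n⁻¹ := by
      have := congrArg (fun a : (P' : Subgroup Cx) => ((a : Cx) : G)) hj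
      simp only [Subgroup.coe_zpow] at this
      rw [← hze]
      exact this
    have hnCx : n ∈ Cx := hNx n (by rw [← hj']; exact Subgroup.zpow_mem_zpowers x j)
    -- now `n` normalizes `P'` inside `Cx`
    have hn' : (⟨n, hnCx⟩ : Cx) ∈ Subgroup.normalizer ((P' : Subgroup Cx) : Set Cx) := by
      rw [Subgroup.mem_normalizer_iff]
      intro g
      have h2 := Subgroup.mem_normalizer_iff.1 hn (g : G)
      rw [hPseq] at h2
      constructor
      · intro hg
        obtain ⟨g', hg', hg'e⟩ := h2.1 ⟨g, hg, rfl⟩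
        have : (⟨n, hnCx⟩ : Cx) * g * (⟨n, hnCx⟩ : Cx)⁻¹ = g' := by
          apply Subtype.ext
          simp only [Subgroup.coe_mul, Subgroup.coe_inv]
          exact hg'e.symm
        rw [this]; exact hg'
      · intro hg
        obtain ⟨g', hg', hg'e⟩ := h2.2 ⟨_, hg, rfl⟩
        have : g = g' := by
          apply Subtype.ext
          exact hg'e.symm
        rw [this]; exact hg'
    have hc := hNC hn'
    rw [Subgroup.mem_centralizer_iff] at hc ⊢
    intro u hu
    rw [hPseq] at hu
    obtain ⟨u', hu', rfl⟩ := hu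
    have := hc u' hu'
    exact congrArg Subtype.val this
  have hcompl := MonoidHom.ker_transferSylow_isComplement' Ps hNCG
  have hkn : (MonoidHom.transferSylow Ps hNCG).ker.Normal := inferInstance
  rcases hkn.eq_bot_or_eq_top with hb | ht
  · rw [hb, Subgroup.isComplement'_bot_left] at hcompl
    apply hna
    rw [← isMulCommutative_top_iff, ← hcompl]
    exact hsyl p Ps
  · rw [ht, Subgroup.isComplement'_top_left] at hcompl
    rw [hcompl, Subgroup.mem_bot] at hxPs
    exact hx1 hxPs

end Cfsg.Agent.Lib.Helper1.SelfNorm
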