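import Mathlib
import Cfsg.Agent.Lib.Helper1.SelfNormBase
import Cfsg.Agent.Lib.Helper1.SelfNormI2
import Cfsg.Agent.Lib.Helper1.SelfNormM
import Cfsg.Agent.Lib.Helper1.SelfNormE

set_option autoImplicit false
set_option linter.unusedVariables false
set_option linter.unusedSectionVars false
set_option linter.style.longLine false

/-!
# S4073, forward direction: a simple group all of whose nonabelian subgroups are self-normalizing
is `PSL₂(2ⁿ)` with `2ⁿ - 1` prime
-/

namespace Cfsg.Agent.Lib.Helper1.SelfNorm

open Cfsg.Agent.Lib.Helper1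

universe u

/-- the forward direction: induction on the order -/
theorem ct_of_sn : ∀ (n : ℕ) (G : Type u) [Group G] [Finite G] [IsSimpleGroup G],
    Nat.card G = n → ¬ IsMulCommutative G → SN G → CT G := by
  intro n
  induction n using Nat.strong_induction_on with
  | _ n ih =>
    intro G _ _ _ hn hna h
    have IH : ∀ (L : Subgroup G) (R : Subgroup L) [R.Normal], L ≠ ⊤ → IsSimpleGroup (L ⧸ R) →
        (∃ x y : L ⧸ R, x * y ≠ y * x) → CT (L ⧸ R) := by
      intro L R _ hL hs hnc
      have hlt : Nat.card (L ⧸ R) < n := by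
        have h1 : Nat.card (L ⧸ R) ≤ Nat.card L := by
          have := Subgroup.card_eq_card_quotient_mul_card_subgroup R
          rw [this]
          exact Nat.le_mul_of_pos_right _ Nat.card_pos
        have h2 : Nat.card L < Nat.card G := by
          have hlt' : L < ⊤ := lt_top_iff_ne_top.2 hL
          have := card_lt_card_of_lt' hlt'
          rwa [Subgroup.card_top] at this
        omega
      have hna' : ¬ IsMulCommutative (L ⧸ R) := by
        intro hc
        obtain ⟨x, y, hxy⟩ := hnc
        exact hxy (hc.is_comm.comm x y)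
      exact ih _ hlt (L ⧸ R) rfl hna' ((h.subgroup L).quotient R)
    have hsyl : ∀ (p : ℕ) [Fact p.Prime] (P : Sylow p G), IsMulCommutative (P : Subgroup G) :=
      fun p _ P => sylow_abelian hna h IH p P
    exact ct_of_abelian_sylow hna h hsyl

theorem forward {G : Type*} [Group G] [Finite G] [IsSimpleGroup G]
    (hna : ¬ IsMulCommutative G)
    (h : ∀ H : Subgroup G, ¬ IsMulCommutative H → Subgroup.normalizer (H : Set G) = H) :
    ∃ n : ℕ, 2 ≤ n ∧ (2 ^ n - 1).Prime ∧
      Nonempty (G ≃* Matrix.ProjectiveSpecialLinearGroup (Fin 2) (GaloisField 2 n)) := by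
  have hct : CT G := ct_of_sn _ G rfl hna h
  exact psl_of_ct_sn hna h hct

end Cfsg.Agent.Lib.Helper1.SelfNorm
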