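import Mathlib
import Cfsg.Agent.Lib.Helper1.SelfNormBase

set_option autoImplicit false
set_option linter.unusedVariables false
set_option linter.unusedSectionVars false
set_option linter.style.longLine false
set_option maxHeartbeats 1000000

/-!
# S4073, piece RB: in a "Borel group" `A ⋊ C_r` with `r = |A| - 1` prime, the only nonabelian
subgroup is the whole group
-/

namespace Cfsg.Agent.Lib.Helper1.SelfNorm

theorem borel_nonabelian_eq_top {B : Type*} [Group B] [Finite B] (A : Subgroup B) [A.Normal]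
    (hA : IsMulCommutative A) (r : ℕ) (hr : r.Prime) (hcard : Nat.card B = Nat.card A * r)
    (hAr : Nat.card A = r + 1)
    (hfree : ∀ d : B, d ∉ A → ∀ a ∈ A, d * a = a * d → a = 1)
    (H : Subgroup B) (hna : ¬ IsMulCommutative H) : H = ⊤ := by
  classical
  haveI : Fact r.Prime := ⟨hr⟩
  have hAc := (isMulCommutative_iff A).1 hA
  -- 1. an element of `H` outside `A`
  obtain ⟨d, hdH, hdA⟩ : ∃ d ∈ H, d ∉ A := by
    by_contra hcon
    push_neg at hcon
    apply hna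
    rw [isMulCommutative_iff]
    intro a ha b hb
    exact hAc a (hcon a ha) b (hcon b hb)
  -- 2. the quotient has order `r`
  have hidx : A.index = r := by
    have h1 := A.card_mul_index
    rw [hcard] at h1
    exact Nat.eq_of_mul_eq_mul_left Nat.card_pos h1
  have hqcard : Nat.card (B ⧸ A) = r := by rw [← Subgroup.index_eq_card]; exact hidx
  have hdord : orderOf (QuotientGroup.mk' A d) = r := by
    have h1 : orderOf (QuotientGroup.mk' A d) ∣ r := hqcard ▸ orderOf_dvd_natCard _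
    rcases (Nat.dvd_prime hr).1 h1 with h2 | h2
    · exfalso
      rw [orderOf_eq_one_iff, QuotientGroup.mk'_apply, QuotientGroup.eq_one_iff] at h2
      exact hdA h2
    · exact h2
  have hpow : ∀ j : ℕ, 0 < j → j < r → d ^ j ∉ A := by
    intro j hj0 hjr hmem
    have h1 : (QuotientGroup.mk' A d) ^ j = 1 := by
      rw [← map_pow, QuotientGroup.mk'_apply, QuotientGroup.eq_one_iff]
      exact hmem
    have h2 : r ∣ j := hdord ▸ orderOf_dvd_of_pow_eq_one h1
    exact absurd (Nat.le_of_dvd hj0 h2) (by omega)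
  -- 3. `H ⊓ A ≠ ⊥`
  have hHA : ∃ a0 ∈ H ⊓ A, a0 ≠ 1 := by
    by_contra hcon
    push_neg at hcon
    apply hna
    haveI : IsCyclic (B ⧸ A) := isCyclic_of_prime_card hqcard
    rw [isMulCommutative_iff]
    intro a ha b hb
    have h1 : (QuotientGroup.mk' A a) * (QuotientGroup.mk' A b) =
        (QuotientGroup.mk' A b) * (QuotientGroup.mk' A a) := by
      obtain ⟨g, hg⟩ := IsCyclic.exists_generator (α := B ⧸ A)
      obtain ⟨i, hi⟩ := Subgroup.mem_zpowers_iff.1 (hg (QuotientGroup.mk' A a))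
      obtain ⟨j, hj⟩ := Subgroup.mem_zpowers_iff.1 (hg (QuotientGroup.mk' A b))
      rw [← hi, ← hj, ← zpow_add, ← zpow_add, add_comm]
    rw [← map_mul, ← map_mul] at h1
    have h2 : (b * a)⁻¹ * (a * b) ∈ A := by
      have := QuotientGroup.eq.1 h1.symm
      exact this
    have h3 : (b * a)⁻¹ * (a * b) ∈ H := H.mul_mem (H.inv_mem (H.mul_mem hb ha)) (H.mul_mem ha hb)
    have h4 := hcon _ ⟨h3, h2⟩
    calc a * b = (b * a) * ((b * a)⁻¹ * (a * b)) := by group
      _ = b * a := by rw [h4, mul_one]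
  obtain ⟨a0, ha0, ha01⟩ := hHA
  have ha0H : a0 ∈ H := ha0.1
  have ha0A : a0 ∈ A := ha0.2
  -- 4. `A ≤ H`
  have hcj : ∀ j : ℕ, d ^ j * a0 * (d ^ j)⁻¹ ∈ H ⊓ A := by
    intro j
    refine ⟨H.mul_mem (H.mul_mem (H.pow_mem hdH j) ha0H) (H.inv_mem (H.pow_mem hdH j)), ?_⟩
    exact (inferInstance : A.Normal).conj_mem a0 ha0A (d ^ j)
  let g : Option (Fin r) → ↥(H ⊓ A) := fun o =>
    match o with
    | none => 1
    | some j => ⟨d ^ (j : ℕ) * a0 * (d ^ (j : ℕ))⁻¹, hcj j⟩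
  have hginj : Function.Injective g := by
    intro o1 o2 h12
    match o1, o2 with
    | none, none => rfl
    | none, some j =>
      exfalso
      have h1 : (1 : B) = d ^ (j : ℕ) * a0 * (d ^ (j : ℕ))⁻¹ := congrArg Subtype.val h12
      apply ha01
      calc a0 = (d ^ (j : ℕ))⁻¹ * (d ^ (j : ℕ) * a0 * (d ^ (j : ℕ))⁻¹) * d ^ (j : ℕ) := by group
        _ = 1 := by rw [← h1]; group
    | some j, none =>
      exfalso
      have h1 : d ^ (j : ℕ) * a0 * (d ^ (j : ℕ))⁻¹ = (1 : B) := congrArg Subtype.val h12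
      apply ha01
      calc a0 = (d ^ (j : ℕ))⁻¹ * (d ^ (j : ℕ) * a0 * (d ^ (j : ℕ))⁻¹) * d ^ (j : ℕ) := by group
        _ = 1 := by rw [h1]; group
    | some i, some j =>
      have h1 : d ^ (i : ℕ) * a0 * (d ^ (i : ℕ))⁻¹ = d ^ (j : ℕ) * a0 * (d ^ (j : ℕ))⁻¹ :=
        congrArg Subtype.val h12
      congr 1
      by_contra hij
      -- WLOG by symmetry: handle both orders
      rcases lt_or_gt_of_ne (fun h => hij (Fin.ext h) : (i : ℕ) ≠ (j : ℕ)) with hlt | hlt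
      · have hjr := j.2
        have h2 : d ^ ((j : ℕ) - (i : ℕ)) * a0 = a0 * d ^ ((j : ℕ) - (i : ℕ)) := by
          have e : d ^ (j : ℕ) = d ^ (i : ℕ) * d ^ ((j : ℕ) - (i : ℕ)) := by
            rw [← pow_add]; congr 1; omega
          rw [e] at h1
          have : a0 = d ^ ((j : ℕ) - (i : ℕ)) * a0 * (d ^ ((j : ℕ) - (i : ℕ)))⁻¹ := by
            calc a0 = (d ^ (i : ℕ))⁻¹ * (d ^ (i : ℕ) * a0 * (d ^ (i : ℕ))⁻¹) * d ^ (i : ℕ) := by group
              _ = (d ^ (i : ℕ))⁻¹ * (d ^ (i : ℕ) * d ^ ((j : ℕ) - (i : ℕ)) * a0 *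
                    (d ^ (i : ℕ) * d ^ ((j : ℕ) - (i : ℕ)))⁻¹) * d ^ (i : ℕ) := by rw [h1]
              _ = d ^ ((j : ℕ) - (i : ℕ)) * a0 * (d ^ ((j : ℕ) - (i : ℕ)))⁻¹ := by group
          calc d ^ ((j : ℕ) - (i : ℕ)) * a0
              = (d ^ ((j : ℕ) - (i : ℕ)) * a0 * (d ^ ((j : ℕ) - (i : ℕ)))⁻¹) * d ^ ((j : ℕ) - (i : ℕ)) := by group
            _ = a0 * d ^ ((j : ℕ) - (i : ℕ)) := by rw [← this]
        exact ha01 (hfree _ (hpow _ (by omega) (by omega)) a0 ha0A h2)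
      · have hir := i.2
        have h2 : d ^ ((i : ℕ) - (j : ℕ)) * a0 = a0 * d ^ ((i : ℕ) - (j : ℕ)) := by
          have e : d ^ (i : ℕ) = d ^ (j : ℕ) * d ^ ((i : ℕ) - (j : ℕ)) := by
            rw [← pow_add]; congr 1; omega
          rw [e] at h1
          have : a0 = d ^ ((i : ℕ) - (j : ℕ)) * a0 * (d ^ ((i : ℕ) - (j : ℕ)))⁻¹ := by
            calc a0 = (d ^ (j : ℕ))⁻¹ * (d ^ (j : ℕ) * a0 * (d ^ (j : ℕ))⁻¹) * d ^ (j : ℕ) := by group
              _ = (d ^ (j : ℕ))⁻¹ * (d ^ (j : ℕ) * d ^ ((i : ℕ) - (j : ℕ)) * a0 *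
                    (d ^ (j : ℕ) * d ^ ((i : ℕ) - (j : ℕ)))⁻¹) * d ^ (j : ℕ) := by rw [← h1]
              _ = d ^ ((i : ℕ) - (j : ℕ)) * a0 * (d ^ ((i : ℕ) - (j : ℕ)))⁻¹ := by group
          calc d ^ ((i : ℕ) - (j : ℕ)) * a0
              = (d ^ ((i : ℕ) - (j : ℕ)) * a0 * (d ^ ((i : ℕ) - (j : ℕ)))⁻¹) * d ^ ((i : ℕ) - (j : ℕ)) := by group
            _ = a0 * d ^ ((i : ℕ) - (j : ℕ)) := by rw [← this]
        exact ha01 (hfree _ (hpow _ (by omega) (by omega)) a0 ha0A h2)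
  have hcardHA : r + 1 ≤ Nat.card ↥(H ⊓ A) := by
    have := Nat.card_le_card_of_injective g hginj
    rw [Nat.card_eq_fintype_card, Fintype.card_option, Fintype.card_fin] at this
    exact this
  have hHAeq : H ⊓ A = A := Subgroup.eq_of_le_of_card_ge inf_le_right (by rw [hAr]; exact hcardHA)
  have hAH : A ≤ H := inf_eq_right.1 hHAeq
  -- 5. counting
  obtain ⟨m, hm⟩ : Nat.card A ∣ Nat.card H := Subgroup.card_dvd_of_le hAH
  have hHdvd : Nat.card H ∣ Nat.card B := Subgroup.card_subgroup_dvd_card H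
  rw [hm, hcard] at hHdvd
  have hmr : m ∣ r := (Nat.mul_dvd_mul_iff_left Nat.card_pos).1 hHdvd
  rcases (Nat.dvd_prime hr).1 hmr with h1 | h1
  · exfalso
    rw [h1, mul_one] at hm
    have : A = H := Subgroup.eq_of_le_of_card_ge hAH (le_of_eq hm)
    exact hdA (this ▸ hdH)
  · apply Subgroup.eq_top_of_card_eq
    rw [hm, h1, hcard]

end Cfsg.Agent.Lib.Helper1.SelfNorm
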