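import Mathlib
import Cfsg.Agent.Lib.Helper1.SelfNormBase
import Cfsg.Agent.Lib.Helper1.SelfNormRB

set_option autoImplicit false
set_option linter.unusedVariables false
set_option linter.unusedSectionVars false
set_option linter.style.longLine false
set_option maxRecDepth 100000

/-!
# S4073, reverse direction: abstract tools (groups whose normal subgroups are abelian or everything)
-/

namespace Cfsg.Agent.Lib.Helper1.SelfNorm

/-- every normal subgroup is abelian or everything -/
def NA (X : Type*) [Group X] : Prop :=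
  ∀ N : Subgroup X, N.Normal → ¬ IsMulCommutative N → N = ⊤

/-- every subgroup is abelian or everything -/
def AllNA (X : Type*) [Group X] : Prop :=
  ∀ N : Subgroup X, ¬ IsMulCommutative N → N = ⊤

theorem not_comm_map_of_injective {X Y : Type*} [Group X] [Group Y] (f : Y →* X)
    (hf : Function.Injective f) (N : Subgroup Y) (hna : ¬ IsMulCommutative N) :
    ¬ IsMulCommutative (N.map f) := by
  rw [not_isMulCommutative_iff] at hna ⊢
  obtain ⟨a, ha, b, hb, hab⟩ := hna
  refine ⟨f a, Subgroup.mem_map_of_mem _ ha, f b, Subgroup.mem_map_of_mem _ hb, ?_⟩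
  intro h'
  apply hab
  apply hf
  rw [map_mul, map_mul, h']

theorem eq_top_of_map_eq_top {X Y : Type*} [Group X] [Group Y] (f : Y →* X)
    (hf : Function.Injective f) (N : Subgroup Y) (h : N.map f = ⊤) : N = ⊤ := by
  rw [eq_top_iff]
  intro y _
  have h1 : f y ∈ N.map f := by rw [h]; trivial
  obtain ⟨z, hz, hzy⟩ := h1
  rwa [← hf hzy]

theorem AllNA.of_injective {X Y : Type*} [Group X] [Group Y] (h : AllNA X) (f : Y →* X)
    (hf : Function.Injective f) : AllNA Y := by
  intro N hna
  exact eq_top_of_map_eq_top f hf N (h (N.map f) (not_comm_map_of_injective f hf N hna))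

theorem AllNA.na {X : Type*} [Group X] (h : AllNA X) : NA X := fun N _ hna => h N hna

theorem NA.of_equiv {X Y : Type*} [Group X] [Group Y] (ψ : X ≃* Y) (h : NA Y) : NA X := by
  intro N hN hna
  have hN' : (N.map ψ.toMonoidHom).Normal := hN.map _ ψ.surjective
  exact eq_top_of_map_eq_top ψ.toMonoidHom ψ.injective N
    (h _ hN' (not_comm_map_of_injective ψ.toMonoidHom ψ.injective N hna))

/-- the reduction: if every subgroup `K` has `NA`, the group has `SN` -/
theorem sn_of_na_subgroups {L : Type*} [Group L] (h : ∀ K : Subgroup L, NA K) : SN L := by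
  intro H hna
  apply le_antisymm _ Subgroup.le_normalizer
  intro k hk
  have hnorm : (H.subgroupOf (Subgroup.normalizer (H : Set L))).Normal :=
    Subgroup.normal_in_normalizer
  have hna' : ¬ IsMulCommutative (H.subgroupOf (Subgroup.normalizer (H : Set L))) := by
    rw [not_isMulCommutative_iff] at hna ⊢
    obtain ⟨a, ha, b, hb, hab⟩ := hna
    refine ⟨⟨a, Subgroup.le_normalizer ha⟩, ?_, ⟨b, Subgroup.le_normalizer hb⟩, ?_, ?_⟩
    · rw [Subgroup.mem_subgroupOf]; exact ha
    · rw [Subgroup.mem_subgroupOf]; exact hb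
    · intro h'
      apply hab
      exact congrArg Subtype.val h'
  have h1 := h _ _ hnorm hna'
  have h2 : (⟨k, hk⟩ : Subgroup.normalizer (H : Set L)) ∈
      H.subgroupOf (Subgroup.normalizer (H : Set L)) := by rw [h1]; trivial
  rw [Subgroup.mem_subgroupOf] at h2
  exact h2

/-- a commutative group has only commutative subgroups -/
theorem isMulCommutative_of_comm {X : Type*} [Group X] (hc : ∀ a b : X, a * b = b * a)
    (N : Subgroup X) : IsMulCommutative N := by
  rw [isMulCommutative_iff]
  intro a _ b _
  exact hc a b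

theorem comm_of_isCyclic {X : Type*} [Group X] [IsCyclic X] (a b : X) : a * b = b * a := by
  obtain ⟨g, hg⟩ := IsCyclic.exists_generator (α := X)
  obtain ⟨i, rfl⟩ := hg a
  obtain ⟨j, rfl⟩ := hg b
  rw [← zpow_add, ← zpow_add, add_comm]

theorem allNA_of_isCyclic {X : Type*} [Group X] [IsCyclic X] : AllNA X := by
  intro N hna
  exact absurd (isMulCommutative_of_comm comm_of_isCyclic N) hna

theorem na_of_isSimpleGroup {X : Type*} [Group X] [IsSimpleGroup X] : NA X := by
  intro N hN hna
  rcases hN.eq_bot_or_eq_top with h | h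
  · exfalso
    apply hna
    rw [isMulCommutative_iff]
    intro a ha b hb
    rw [h, Subgroup.mem_bot] at ha hb
    rw [ha, hb]
  · exact h

/-- a group of order one or a prime is commutative -/
theorem comm_of_card_le_three {X : Type*} [Group X] [Finite X] (h : Nat.card X ≤ 3) (a b : X) :
    a * b = b * a := by
  have hpos : 0 < Nat.card X := Nat.card_pos
  have hcases : Nat.card X = 1 ∨ Nat.card X = 2 ∨ Nat.card X = 3 := by omega
  rcases hcases with h1 | h2 | h3
  · have : Subsingleton X := (Nat.card_eq_one_iff_unique.mp h1).1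
    exact Subsingleton.elim _ _
  · haveI : Fact (Nat.Prime 2) := ⟨Nat.prime_two⟩
    haveI : IsCyclic X := isCyclic_of_prime_card h2
    exact comm_of_isCyclic a b
  · haveI : Fact (Nat.Prime 3) := ⟨Nat.prime_three⟩
    haveI : IsCyclic X := isCyclic_of_prime_card h3
    exact comm_of_isCyclic a b

/-- a group of order 6: every nonabelian subgroup is everything -/
theorem allNA_of_card_six {X : Type*} [Group X] [Finite X] (h : Nat.card X = 6) : AllNA X := by
  intro N hna
  have hdvd : Nat.card N ∣ 6 := h ▸ Subgroup.card_subgroup_dvd_card N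
  have hle : Nat.card N ≤ 6 := Nat.le_of_dvd (by norm_num) hdvd
  by_cases h6 : Nat.card N = 6
  · exact (Subgroup.card_eq_iff_eq_top N).mp (h6.trans h.symm)
  · exfalso
    have h3 : Nat.card N ≤ 3 := by
      have hpos : 0 < Nat.card N := Nat.card_pos
      interval_cases hN : Nat.card N <;> simp_all
    apply hna
    rw [isMulCommutative_iff]
    intro a ha b hb
    have := comm_of_card_le_three h3 (⟨a, ha⟩ : N) ⟨b, hb⟩
    exact congrArg Subtype.val this

/-! ### the alternating group of degree four -/

theorem A4_sq_facts : ∀ x y : alternatingGroup (Fin 4), x ^ 2 = 1 → y ^ 2 = 1 →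
    (x * y) ^ 2 = 1 ∧ x * y = y * x := by
  decide

theorem A4_free : ∀ d a : alternatingGroup (Fin 4), a ^ 2 = 1 → d * a = a * d →
    a = 1 ∨ d ^ 2 = 1 := by
  decide

theorem A4_card_sq : Fintype.card {x : alternatingGroup (Fin 4) // x ^ 2 = 1} = 4 := by
  decide

theorem A4_card : Fintype.card (alternatingGroup (Fin 4)) = 12 := by
  decide

/-- the four-group of `A₄` -/
def fourA4 : Subgroup (alternatingGroup (Fin 4)) where
  carrier := {x | x ^ 2 = 1}
  mul_mem' := fun {a b} ha hb => (A4_sq_facts a b ha hb).1
  one_mem' := one_pow 2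
  inv_mem' := fun {a} ha => by
    show (a⁻¹) ^ 2 = 1
    rw [inv_pow, ha, inv_one]

theorem mem_fourA4 (x : alternatingGroup (Fin 4)) : x ∈ fourA4 ↔ x ^ 2 = 1 := Iff.rfl

instance fourA4_normal : fourA4.Normal := by
  constructor
  intro x hx g
  rw [mem_fourA4] at hx ⊢
  rw [conj_pow, hx, mul_one, mul_inv_cancel]

theorem card_fourA4 : Nat.card fourA4 = 4 := by
  have h : Nat.card {x : alternatingGroup (Fin 4) // x ^ 2 = 1} = 4 := by
    rw [Nat.card_eq_fintype_card]; exact A4_card_sq
  exact h

theorem allNA_A4 : AllNA (alternatingGroup (Fin 4)) := by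
  intro H hna
  refine borel_nonabelian_eq_top fourA4 ?_ 3 Nat.prime_three ?_ ?_ ?_ H hna
  · rw [isMulCommutative_iff]
    intro a ha b hb
    exact (A4_sq_facts a b ha hb).2
  · rw [Nat.card_eq_fintype_card, A4_card, card_fourA4]
  · rw [card_fourA4]
  · intro d hd a ha hda
    rcases A4_free d a ha hda with h | h
    · exact h
    · exact absurd h hd

/-- the symmetric group of degree four has an element of order four -/
theorem S4_order_four : ∃ g : Equiv.Perm (Fin 4), g ^ 4 = 1 ∧ g ^ 2 ≠ 1 := by
  refine ⟨c[0, 1, 2, 3], ?_, ?_⟩ <;> decide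

end Cfsg.Agent.Lib.Helper1.SelfNorm
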