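import Mathlib
import Cfsg.Agent.Lib.Helper1.SelfNormBase

set_option autoImplicit false
set_option linter.unusedVariables false
set_option linter.unusedSectionVars false
set_option linter.style.longLine false

/-!
# S4073, piece RD: a nonabelian normal subgroup of a dihedral group of odd degree is everything
-/

namespace Cfsg.Agent.Lib.Helper1.SelfNorm

open DihedralGroup

theorem dihedral_normal_eq_top {k : ℕ} (hk : Odd k) (H : Subgroup (DihedralGroup k)) [hH : H.Normal]
    (hna : ¬ IsMulCommutative H) : H = ⊤ := by
  classical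
  have hsr : ∃ i, sr i ∈ H := by
    by_contra hcon
    push_neg at hcon
    apply hna
    rw [isMulCommutative_iff]
    intro a ha b hb
    cases a with
    | r i =>
      cases b with
      | r j => rw [r_mul_r, r_mul_r, add_comm]
      | sr j => exact absurd hb (hcon j)
    | sr i => exact absurd ha (hcon i)
  obtain ⟨i, hi⟩ := hsr
  obtain ⟨m, hm⟩ := hk
  have h2 : (2 : ZMod k) * ((m + 1 : ℕ) : ZMod k) = 1 := by
    have h3 : (2 : ZMod k) * ((m + 1 : ℕ) : ZMod k) = ((k + 1 : ℕ) : ZMod k) := by
      have : k + 1 = 2 * (m + 1) := by omega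
      rw [this]
      push_cast
      ring
    rw [h3]
    push_cast
    rw [ZMod.natCast_self, zero_add]
  have hall : ∀ i' : ZMod k, sr i' ∈ H := by
    intro i'
    set j : ZMod k := (i - i') * ((m + 1 : ℕ) : ZMod k) with hj
    have hconj := hH.conj_mem (sr i) hi (r j)
    have e : r j * sr i * (r j)⁻¹ = sr i' := by
      rw [inv_r, r_mul_sr, sr_mul_r]
      congr 1
      rw [hj]
      linear_combination (-(i - i')) * h2
    rw [e] at hconj
    exact hconj
  rw [eq_top_iff]
  intro g _
  cases g with
  | r i' =>
    have h3 : r i' = sr 0 * sr i' := by rw [sr_mul_sr, sub_zero]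
    rw [h3]
    exact H.mul_mem (hall 0) (hall i')
  | sr i' => exact hall i'

end Cfsg.Agent.Lib.Helper1.SelfNorm
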