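import Mathlib
import Cfsg.Agent.Lib.Helper1.SelfNormBase
import Cfsg.Agent.Lib.Helper1.CtG5

set_option autoImplicit false
set_option linter.unusedVariables false
set_option linter.unusedSectionVars false
set_option linter.style.longLine false
set_option maxHeartbeats 1000000

/-!
# S4073, piece RN: the normalizer of a Sylow 2-subgroup of a simple `CT`-group
-/

namespace Cfsg.Agent.Lib.Helper1.SelfNorm

open Cfsg.Agent.Lib.Helper1 Cfsg.Agent.Lib.Helper1.CtG

theorem sylow_two_normalizer_structure {G : Type*} [Group G] [Finite G] [IsSimpleGroup G]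
    (hnc : ∃ x y : G, x * y ≠ y * x) (hct : CT G) (P : Sylow 2 G) :
    IsMulCommutative (P : Subgroup G) ∧
    Nat.card (Subgroup.normalizer ((P : Subgroup G) : Set G)) =
      Nat.card (P : Subgroup G) * (Nat.card (P : Subgroup G) - 1) ∧
    (∀ d ∈ Subgroup.normalizer ((P : Subgroup G) : Set G), d ∉ (P : Subgroup G) →
      ∀ a ∈ (P : Subgroup G), d * a = a * d → a = 1) ∧
    (∀ g : G, g ^ 4 = 1 → g ^ 2 = 1) := by
  classical
  haveI : Fact (Nat.Prime 2) := ⟨Nat.prime_two⟩
  have hyp : ∀ s : G, orderOf s = 2 → Hyp s := fun s hs => ⟨hct, hs, inferInstance, hnc⟩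
  have heven : Even (Nat.card G) := by
    rw [← Nat.not_odd_iff_even]
    intro hodd
    exact not_odd_of_ct hnc hct hodd
  -- `P` is nontrivial
  have hPnt : Nontrivial (P : Subgroup G) := by
    rw [← Finite.one_lt_card_iff_nontrivial]
    have h1 : 2 ∣ Nat.card (P : Subgroup G) := by
      by_contra hnd
      have h2 := P.card_eq_multiplicity
      have h3 : 2 ∣ Nat.card G := heven.two_dvd
      have h4 : 0 < (Nat.card G).factorization 2 :=
        Nat.Prime.factorization_pos_of_dvd Nat.prime_two Nat.card_pos.ne' h3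
      rw [h2] at hnd
      exact hnd (dvd_pow_self 2 h4.ne')
    exact lt_of_lt_of_le (by norm_num) (Nat.le_of_dvd Nat.card_pos h1)
  haveI := hPnt
  haveI hZnt : Nontrivial (Subgroup.center (P : Subgroup G)) := P.isPGroup'.center_nontrivial
  have h2Z : 2 ∣ Nat.card (Subgroup.center (P : Subgroup G)) := by
    have hZp : IsPGroup 2 (Subgroup.center (P : Subgroup G)) :=
      P.isPGroup'.to_subgroup _
    obtain ⟨k, hk⟩ := IsPGroup.iff_card.1 hZp
    have hk0 : k ≠ 0 := by
      rintro rfl
      rw [pow_zero] at hk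
      have := Finite.one_lt_card_iff_nontrivial.2 hZnt
      omega
    rw [hk]
    exact dvd_pow_self 2 hk0
  obtain ⟨z, hz⟩ := exists_prime_orderOf_dvd_card' (G := Subgroup.center (P : Subgroup G)) 2 h2Z
  set t : G := ((z : (P : Subgroup G)) : G) with htdef
  have ht : orderOf t = 2 := by
    rw [htdef, Subgroup.orderOf_coe, Subgroup.orderOf_coe]; exact hz
  have hy := hyp t ht
  have hPle : (P : Subgroup G) ≤ cA t := by
    intro g hg
    rw [mem_cA]
    have := Subgroup.mem_center_iff.1 z.2 ⟨g, hg⟩
    exact congrArg Subtype.val this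
  have hpA : IsPGroup 2 (cA t) := by
    intro a
    refine ⟨1, ?_⟩
    apply Subtype.ext
    rw [pow_one, Subgroup.coe_pow, Subgroup.coe_one, pow_two]
    exact hy.sq_eq_one a.2
  have hPeq : cA t = (P : Subgroup G) := P.is_maximal' hpA hPle
  refine ⟨?_, ?_, ?_, ?_⟩
  · rw [← hPeq, isMulCommutative_iff]
    intro a ha b hb
    exact hy.comm ha hb
  · rw [← hPeq]
    have h1 : Nat.card (Subgroup.normalizer ((cA t : Subgroup G) : Set G)) =
        Nat.card (cA t) * nf t := hy.card_cH
    rw [h1, hy.card_cA]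
    simp
  · intro d hdN hdP a haP hda
    by_contra ha1
    rw [← hPeq] at hdP haP
    have h1 := hy.cent_eq haP ha1
    apply hdP
    rw [← h1, Subgroup.mem_centralizer_singleton_iff]
    exact hda
  · intro g hg4
    by_contra hg2
    set s : G := g ^ 2 with hsdef
    have hs2 : s ^ 2 = 1 := by rw [hsdef, ← pow_mul]; exact hg4
    have hsord : orderOf s = 2 := orderOf_eq_prime hs2 hg2
    have hys := hyp s hsord
    have hgs : g ∈ cA s := by
      rw [mem_cA, hsdef, pow_two]
      group
    have := hys.sq_eq_one hgs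
    apply hg2
    rw [hsdef, pow_two]
    exact this

end Cfsg.Agent.Lib.Helper1.SelfNorm
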