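import Mathlib
import Cfsg.Agent.Lib.Helper1.SelfNormRA1
import Cfsg.Agent.Lib.Helper1.SelfNormRD
import Cfsg.Agent.Lib.Helper1.SelfNormRN
import Cfsg.Agent.Lib.Helper1.CtG5
import Cfsg.Agent.Lib.Helper5.DicksonMax2
import Cfsg.Agent.Lib.Lead.SylowCount

set_option autoImplicit false
set_option linter.unusedVariables false
set_option linter.unusedSectionVars false
set_option linter.style.longLine false
set_option linter.style.haveILetI false

/-!
# S4073, reverse direction: `PSL₂(2ⁿ)` with `2ⁿ - 1` prime has all nonabelian subgroups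
self-normalizing (via Dickson's theorem)
-/

namespace Cfsg.Agent.Lib.Helper1.SelfNorm

open Cfsg.Agent.Lib.Helper5.DicksonMain Cfsg.Agent.Lib.Helper5.DicksonMax
  Cfsg.Agent.Lib.Helper5.DicksonOrders

section
variable {F : Type} [Field F] [Fintype F]

theorem na_subgroup_psl {n : ℕ} (hn : 2 ≤ n) (hp : (2 ^ n - 1).Prime)
    (hF : Fintype.card F = 2 ^ n) [CharP F 2]
    [IsSimpleGroup (Matrix.ProjectiveSpecialLinearGroup (Fin 2) F)]
    (hnc : ∃ x y : Matrix.ProjectiveSpecialLinearGroup (Fin 2) F, x * y ≠ y * x)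
    (K : Subgroup (Matrix.ProjectiveSpecialLinearGroup (Fin 2) F)) : NA K := by
  classical
  haveI : Fact (Nat.Prime 2) := ⟨Nat.prime_two⟩
  have hn0 : n ≠ 0 := by omega
  obtain ⟨j, hj⟩ : 2 ∣ 2 ^ n := dvd_pow_self 2 hn0
  have hq4 : 4 ≤ 2 ^ n := by
    calc 4 = 2 ^ 2 := by norm_num
      _ ≤ 2 ^ n := Nat.pow_le_pow_right (by norm_num) hn
  have hq1 : 1 ≤ 2 ^ n := by omega
  have hgcd : Nat.gcd 2 (Fintype.card F - 1) = 1 := by
    rw [hF]; exact gcd_two_of_even (by omega) hq1
  have hct : CT (Matrix.ProjectiveSpecialLinearGroup (Fin 2) F) :=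
    fun a b c ha hb hc hab hbc =>
      Cfsg.Agent.Lib.Helper1.CtG.ct_of_psl hn hF (MulEquiv.refl _) a b c ha hb hc hab hbc
  have hnprime : n.Prime := (Nat.prime_of_pow_sub_one_prime (by omega) hp).2
  have hcardL : Nat.card (Matrix.ProjectiveSpecialLinearGroup (Fin 2) F) =
      2 ^ n * ((2 ^ n - 1) * (2 ^ n + 1)) := by
    have := card_PSL2_mul (F := F)
    rw [hgcd, one_mul, hF] at this
    exact this
  rcases dickson 2 K with h | h | h | h | h | h
  · -- cyclic or dihedral
    obtain ⟨k, hk, hK⟩ := h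
    rw [hgcd, Nat.div_one, Nat.div_one, hF] at hk
    rcases hK with ⟨hcyc, -⟩ | ⟨⟨ψ⟩⟩
    · haveI := hcyc
      exact allNA_of_isCyclic.na
    · have hodd : Odd k := by
        rcases hk with hk | hk
        · exact Odd.of_dvd_nat ⟨j, by omega⟩ hk
        · exact Odd.of_dvd_nat ⟨j - 1, by omega⟩ hk
      apply NA.of_equiv ψ
      intro N hN hna
      exact dihedral_normal_eq_top hodd N hna
  · -- Borel
    obtain ⟨P, K', hK', ⟨ψ⟩⟩ := h
    obtain ⟨hPab, hcardN, hfree, -⟩ := sylow_two_normalizer_structure hnc hct P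
    have hnd : ¬ 2 ∣ (2 ^ n - 1) * (2 ^ n + 1) := by
      intro h2
      rcases (Nat.Prime.dvd_mul Nat.prime_two).mp h2 with h3 | h3
      · omega
      · omega
    have hcardP : Nat.card (P : Subgroup (Matrix.ProjectiveSpecialLinearGroup (Fin 2) F)) = 2 ^ n :=
      Cfsg.Agent.Lib.Lead.SylowCount.card_sylow_of_card_eq_pow 2 n _ hcardL hnd P
    have hcardA : Nat.card ((P : Subgroup (Matrix.ProjectiveSpecialLinearGroup (Fin 2) F)).subgroupOf
        (Subgroup.normalizer ((P : Subgroup (Matrix.ProjectiveSpecialLinearGroup (Fin 2) F)) :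
          Set (Matrix.ProjectiveSpecialLinearGroup (Fin 2) F)))) = 2 ^ n := by
      rw [← hcardP]
      exact Nat.card_congr (Subgroup.subgroupOfEquivOfLe Subgroup.le_normalizer).toEquiv
    have hB : AllNA (Subgroup.normalizer
        ((P : Subgroup (Matrix.ProjectiveSpecialLinearGroup (Fin 2) F)) :
          Set (Matrix.ProjectiveSpecialLinearGroup (Fin 2) F))) := by
      intro H hna
      haveI : ((P : Subgroup (Matrix.ProjectiveSpecialLinearGroup (Fin 2) F)).subgroupOf
        (Subgroup.normalizer ((P : Subgroup (Matrix.ProjectiveSpecialLinearGroup (Fin 2) F)) :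
          Set (Matrix.ProjectiveSpecialLinearGroup (Fin 2) F)))).Normal :=
        Subgroup.normal_in_normalizer
      refine borel_nonabelian_eq_top
        ((P : Subgroup (Matrix.ProjectiveSpecialLinearGroup (Fin 2) F)).subgroupOf
          (Subgroup.normalizer ((P : Subgroup (Matrix.ProjectiveSpecialLinearGroup (Fin 2) F)) :
            Set (Matrix.ProjectiveSpecialLinearGroup (Fin 2) F)))) ?_ (2 ^ n - 1) hp ?_ ?_ ?_ H hna
      · rw [isMulCommutative_iff]
        intro a ha b hb
        rw [Subgroup.mem_subgroupOf] at ha hb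
        have := (isMulCommutative_iff _).mp hPab a ha b hb
        exact Subtype.ext this
      · rw [hcardA, hcardN, hcardP]
      · rw [hcardA]; omega
      · intro d hd a ha hda
        rw [Subgroup.mem_subgroupOf] at hd ha
        have := hfree d d.2 hd a ha (congrArg Subtype.val hda)
        exact Subtype.ext this
    have hinj : Function.Injective ((Subgroup.inclusion hK').comp ψ.toMonoidHom) := by
      intro x y hxy
      apply ψ.injective
      exact Subgroup.inclusion_injective hK' hxy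
    exact (hB.of_injective _ hinj).na
  · -- A4
    obtain ⟨ψ⟩ := h
    exact NA.of_equiv ψ allNA_A4.na
  · -- S4
    obtain ⟨ψ⟩ := h
    exfalso
    obtain ⟨g, hg4, hg2⟩ := S4_order_four
    obtain ⟨-, -, -, h4⟩ := sylow_two_normalizer_structure hnc hct
      (default : Sylow 2 (Matrix.ProjectiveSpecialLinearGroup (Fin 2) F))
    have h1 : ((ψ.symm g : K) : Matrix.ProjectiveSpecialLinearGroup (Fin 2) F) ^ 4 = 1 := by
      rw [← Subgroup.coe_pow, ← map_pow, hg4, map_one, Subgroup.coe_one]
    have h2 := h4 _ h1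
    apply hg2
    have h3 : (ψ.symm g) ^ 2 = 1 := Subtype.ext (by rw [Subgroup.coe_pow]; exact h2)
    have h5 := congrArg ψ h3
    rw [map_pow, ψ.apply_symm_apply, map_one] at h5
    exact h5
  · -- A5
    obtain ⟨ψ⟩ := h
    haveI : IsSimpleGroup (alternatingGroup (Fin 5)) := alternatingGroup.isSimpleGroup_five
    exact NA.of_equiv ψ na_of_isSimpleGroup
  · -- subfield
    obtain ⟨q₀, m, hq₀, hm, hcard⟩ := card_of_subfieldCase K h
    rw [hF] at hm
    have hm0 : m ≠ 0 := by
      rintro rfl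
      rw [pow_zero] at hm
      omega
    have hdvd : q₀ ∣ 2 ^ n := hm ▸ dvd_pow_self q₀ hm0
    obtain ⟨a, ha, rfl⟩ := (Nat.dvd_prime_pow Nat.prime_two).mp hdvd
    rw [← pow_mul] at hm
    have ham : a * m = n := Nat.pow_right_injective (le_refl 2) hm
    have ha0 : a ≠ 0 := by
      rintro rfl
      rw [pow_zero] at hq₀
      omega
    have hcases : a = 1 ∨ a = n := (Nat.dvd_prime hnprime).mp ⟨m, ham.symm⟩
    obtain ⟨j', hj'⟩ : 2 ∣ 2 ^ a := dvd_pow_self 2 ha0
    have hgcd' : Nat.gcd 2 (2 ^ a - 1) = 1 := gcd_two_of_even (by omega) (by omega)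
    have hcardK : Nat.card K = 2 ^ a * ((2 ^ a - 1) * (2 ^ a + 1)) := by
      rcases hcard with h | ⟨-, h⟩
      · rwa [hgcd', one_mul] at h
      · omega
    rcases hcases with rfl | rfl
    · have h6 : Nat.card K = 6 := by rw [hcardK]; norm_num
      exact (allNA_of_card_six h6).na
    · have hKtop : K = ⊤ := eq_top_of_card K (by rw [hgcd, one_mul, hF]; exact hcardK)
      rw [hKtop]
      exact NA.of_equiv Subgroup.topEquiv na_of_isSimpleGroup

theorem sn_psl {n : ℕ} (hn : 2 ≤ n) (hp : (2 ^ n - 1).Prime)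
    (hF : Fintype.card F = 2 ^ n) [CharP F 2]
    [IsSimpleGroup (Matrix.ProjectiveSpecialLinearGroup (Fin 2) F)]
    (hnc : ∃ x y : Matrix.ProjectiveSpecialLinearGroup (Fin 2) F, x * y ≠ y * x) :
    SN (Matrix.ProjectiveSpecialLinearGroup (Fin 2) F) :=
  sn_of_na_subgroups (fun K => na_subgroup_psl hn hp hF hnc K)

end

/-- PIECE RA: the reverse direction of S4073 -/
theorem sn_of_equiv_psl {G : Type*} [Group G] [Finite G] [IsSimpleGroup G]
    (hna : ¬ IsMulCommutative G) {n : ℕ} (hn : 2 ≤ n) (hp : (2 ^ n - 1).Prime)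
    (e : G ≃* Matrix.ProjectiveSpecialLinearGroup (Fin 2) (GaloisField 2 n)) : SN G := by
  classical
  haveI : Fact (Nat.Prime 2) := ⟨Nat.prime_two⟩
  letI : Fintype (GaloisField 2 n) := Fintype.ofFinite _
  have hn0 : n ≠ 0 := by omega
  have hF : Fintype.card (GaloisField 2 n) = 2 ^ n := by
    rw [← Nat.card_eq_fintype_card]; exact GaloisField.card 2 n hn0
  haveI : IsSimpleGroup (Matrix.ProjectiveSpecialLinearGroup (Fin 2) (GaloisField 2 n)) :=
    e.symm.isSimpleGroup
  have hnc : ∃ x y : Matrix.ProjectiveSpecialLinearGroup (Fin 2) (GaloisField 2 n),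
      x * y ≠ y * x := by
    by_contra hcon
    push_neg at hcon
    apply hna
    refine ⟨⟨fun a b => ?_⟩⟩
    apply e.injective
    rw [map_mul, map_mul]
    exact hcon _ _
  exact SN.of_equiv e.symm (sn_psl hn hp hF hnc)

end Cfsg.Agent.Lib.Helper1.SelfNorm
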