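import Mathlib
import Cfsg.Agent.Lib.Helper1.SolvablePmQ
open Pointwise

set_option autoImplicit false

namespace Cfsg.Agent.Lib.Helper1

universe u

theorem isSolvable_of_card_dvd_sq_mul_sq {H : Type u} [Group H] [Finite H] {p q : ℕ}
    (hp : p.Prime) (hq : q.Prime)
    (hdvd : Nat.card H ∣ p ^ 2 * q ^ 2) (hne : Nat.card H ≠ p ^ 2 * q ^ 2) :
    Group.IsSolvable H := by
  obtain ⟨k₁, k₂, h1, h2, h3⟩ := (Nat.dvd_mul).mp hdvd
  obtain ⟨a, ha, rfl⟩ := (Nat.dvd_prime_pow hp).mp h1
  obtain ⟨b, hb, rfl⟩ := (Nat.dvd_prime_pow hq).mp h2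
  interval_cases a <;> interval_cases b
  · exact isSolvable_of_card_prime_pow (k := 0) hp (by rw [← h3]; simp)
  · exact isSolvable_of_card_prime hq (by rw [← h3]; simp)
  · exact isSolvable_of_card_prime_pow (k := 2) hq (by rw [← h3]; simp)
  · exact isSolvable_of_card_prime hp (by rw [← h3]; simp)
  · exact solvable_of_card_prime_pow_mul_prime p q 1 hp hq (by rw [← h3]; simp)
  · exact solvable_of_card_prime_pow_mul_prime q p 2 hq hp (by rw [← h3]; ring)
  · exact isSolvable_of_card_prime_pow (k := 2) hp (by rw [← h3]; simp)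
  · exact solvable_of_card_prime_pow_mul_prime p q 2 hp hq (by rw [← h3]; simp)
  · exact absurd h3.symm hne

variable {G : Type u} [Group G]

theorem isSolvable_of_normal_of_card_sq_mul_sq [Finite G] {p q : ℕ} (hp : p.Prime) (hq : q.Prime)
    (hG : Nat.card G = p ^ 2 * q ^ 2) (N : Subgroup G) [hN : N.Normal] (h0 : N ≠ ⊥) (h1 : N ≠ ⊤) :
    Group.IsSolvable G := by
  have hmul := N.card_mul_index
  have hNpos : 0 < Nat.card N := Nat.card_pos
  have hipos : 0 < N.index := Nat.pos_of_ne_zero Subgroup.index_ne_zero_of_finite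
  have hN1 : Nat.card N ≠ 1 := fun h => h0 (Subgroup.card_eq_one.mp h)
  have hi1 : N.index ≠ 1 := fun h => h1 (Subgroup.index_eq_one.mp h)
  have hs1 : Group.IsSolvable N := by
    apply isSolvable_of_card_dvd_sq_mul_sq hp hq
    · rw [← hG]; exact Subgroup.card_subgroup_dvd_card N
    · intro h
      rw [h, hG] at hmul
      have : N.index = 1 := by
        have h2 : p ^ 2 * q ^ 2 * N.index = p ^ 2 * q ^ 2 * 1 := by rw [hmul, mul_one]
        exact Nat.eq_of_mul_eq_mul_left (Nat.mul_pos (pow_pos hp.pos 2) (pow_pos hq.pos 2)) h2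
      exact hi1 this
  have hs2 : Group.IsSolvable (G ⧸ N) := by
    apply isSolvable_of_card_dvd_sq_mul_sq hp hq
    · rw [← hG]; exact Subgroup.card_quotient_dvd_card N
    · intro h
      change N.index = _ at h
      rw [h, hG] at hmul
      have : Nat.card N = 1 := by
        have h2 : Nat.card N * (p ^ 2 * q ^ 2) = 1 * (p ^ 2 * q ^ 2) := by rw [hmul, one_mul]
        exact Nat.eq_of_mul_eq_mul_right (Nat.mul_pos (pow_pos hp.pos 2) (pow_pos hq.pos 2)) h2
      exact hN1 this
  exact isSolvable_of_normal_of_quotient N hs1 hs2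

theorem solvable_p2q2_of_lt [Finite G] (p q : ℕ) (hp : p.Prime) (hq : q.Prime) (hlt : q < p)
    (hG : Nat.card G = p ^ 2 * q ^ 2) : Group.IsSolvable G := by
  have : Fact p.Prime := ⟨hp⟩
  have hpq : p ≠ q := hlt.ne'
  obtain ⟨P⟩ : Nonempty (Sylow p G) := inferInstance
  have hfac : (p ^ 2 * q ^ 2).factorization p = 2 := by
    rw [Nat.factorization_mul (pow_ne_zero _ hp.ne_zero) (pow_ne_zero _ hq.ne_zero),
      hp.factorization_pow, hq.factorization_pow]
    simp [hpq.symm]
  have hPcard : Nat.card (P : Subgroup G) = p ^ 2 := by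
    rw [P.card_eq_multiplicity, hG, hfac]
  have hPidx : (P : Subgroup G).index = q ^ 2 := by
    have h1 := (P : Subgroup G).card_mul_index
    rw [hPcard, hG] at h1
    exact Nat.eq_of_mul_eq_mul_left (pow_pos hp.pos 2) h1
  have hP0 : (P : Subgroup G) ≠ ⊥ := by
    intro h
    rw [h, Subgroup.card_bot] at hPcard
    have : 1 < p ^ 2 := Nat.one_lt_pow (by norm_num) hp.one_lt
    omega
  have hP1 : (P : Subgroup G) ≠ ⊤ := by
    intro h
    rw [h, Subgroup.index_top] at hPidx
    have : 1 < q ^ 2 := Nat.one_lt_pow (by norm_num) hq.one_lt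
    omega
  have hdvd : Nat.card (Sylow p G) ∣ q ^ 2 := hPidx ▸ P.card_dvd_index
  have hmod : Nat.card (Sylow p G) ≡ 1 [MOD p] := card_sylow_modEq_one p G
  obtain ⟨a, ha, hna⟩ := (Nat.dvd_prime_pow hq).mp hdvd
  have hnorm : Nat.card (Sylow p G) = 1 → Group.IsSolvable G := by
    intro h1
    have : Subsingleton (Sylow p G) := (Nat.card_eq_one_iff_unique.mp h1).1
    have hPn : (P : Subgroup G).Normal := Sylow.normal_of_subsingleton P
    exact isSolvable_of_normal_of_card_sq_mul_sq hp hq hG (P : Subgroup G) hP0 hP1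
  interval_cases a
  · exact hnorm (by rw [hna, pow_zero])
  · exfalso
    rw [hna, pow_one] at hmod
    have h1 : q % p = q := Nat.mod_eq_of_lt hlt
    have h2 : 1 % p = 1 := Nat.mod_eq_of_lt hp.one_lt
    have h3 : q % p = 1 % p := hmod
    rw [h1, h2] at h3
    exact hq.one_lt.ne' h3
  · -- p ∣ q^2 - 1
    rw [hna] at hmod
    have h1 : p ∣ q ^ 2 - 1 := (Nat.modEq_iff_dvd' (Nat.one_le_pow _ _ hq.pos)).mp hmod.symm
    have h2 : q ^ 2 - 1 = (q - 1) * (q + 1) := by
      have : 1 ≤ q := hq.pos
      zify [this, Nat.one_le_pow 2 q hq.pos]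
      ring
    rw [h2] at h1
    have hq1 : ¬ p ∣ q - 1 := by
      intro h
      have h3 : 0 < q - 1 := by have := hq.one_lt; omega
      have := Nat.le_of_dvd h3 h
      omega
    have h3 : p ∣ q + 1 := (hp.dvd_mul.mp h1).resolve_left hq1
    have h4 : p = q + 1 := by
      have := Nat.le_of_dvd (by omega) h3
      omega
    have hq2 : q = 2 := by
      rcases hq.eq_two_or_odd with h | h
      · exact h
      · exfalso
        rcases hp.eq_two_or_odd with h' | h'
        · have := hq.two_le; omega
        · omega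
    have hp3 : p = 3 := by omega
    subst hq2 hp3
    -- action on the four Sylow 3-subgroups
    set φ : G →* Equiv.Perm (Sylow 3 G) := MulAction.toPermHom G (Sylow 3 G) with hφ
    have hker0 : φ.ker ≠ ⊥ := by
      intro h
      have hinj : Function.Injective φ := (MonoidHom.ker_eq_bot_iff φ).mp h
      have h5 := Nat.card_le_card_of_injective φ hinj
      rw [Nat.card_perm, hna, hG] at h5
      norm_num [Nat.factorial] at h5
    have hker1 : φ.ker ≠ ⊤ := by
      intro h
      have h5 : ∀ g : G, g • P = P := by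
        intro g
        have h6 : g ∈ φ.ker := by rw [h]; trivial
        have h7 : φ g = 1 := h6
        have h8 : (φ g) P = P := by rw [h7]; rfl
        exact h8
      have h6 : Subgroup.normalizer ((P : Subgroup G) : Set G) = ⊤ := by
        rw [eq_top_iff]
        intro g _
        exact Sylow.smul_eq_iff_mem_normalizer.mp (h5 g)
      have h7 : Nat.card (Sylow 3 G) = (Subgroup.normalizer ((P : Subgroup G) : Set G)).index :=
        P.card_eq_index_normalizer
      rw [h6, Subgroup.index_top, hna] at h7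
      norm_num at h7
    exact isSolvable_of_normal_of_card_sq_mul_sq hp hq hG φ.ker hker0 hker1

theorem solvable_p2q2 [Finite G] (p q : ℕ) (hp : p.Prime) (hq : q.Prime)
    (hG : Nat.card G = p ^ 2 * q ^ 2) : Group.IsSolvable G := by
  rcases lt_trichotomy p q with h | h | h
  · exact solvable_p2q2_of_lt q p hq hp h (by rw [hG, mul_comm])
  · subst h
    exact isSolvable_of_card_prime_pow (k := 4) hp (by rw [hG]; ring)
  · exact solvable_p2q2_of_lt p q hp hq h hG

end Cfsg.Agent.Lib.Helper1
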