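import Mathlib
import Cfsg.Agent.Lib.Helper1.ClassTwo
import Cfsg.Agent.Lib.Helper1.FrattiniP
import Cfsg.Prelude.Def_Transfer
set_option autoImplicit false
open scoped commutatorElement

namespace Cfsg.Agent.Lib.Helper1

universe u

theorem special_commCentral {P : Type u} [Group P] {p : ℕ} (h : Cfsg.IsSpecial p P) : CommCentral P :=
  commCentral_of_commutator_le_center h.2.2.le

/-- In a special `p`-group every commutator has order dividing `p`. -/
theorem special_comm_pow {P : Type u} [Group P] [Finite P] {p : ℕ} [Fact p.Prime]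
    (h : Cfsg.IsSpecial p P) (x y : P) : ⁅x, y⁆ ^ p = 1 := by
  have hcc := special_commCentral h
  rw [← hcc.comm_pow_left]
  have hx : x ^ p ∈ Subgroup.center P := by
    rw [← h.2.1]; exact pow_prime_mem_frattini_of_isPGroup p h.1 x
  rw [commutatorElement_eq_one_iff_mul_comm]
  exact (Subgroup.mem_center_iff.mp hx y).symm

theorem special_center_pow {P : Type u} [Group P] [Finite P] {p : ℕ} [Fact p.Prime]
    (h : Cfsg.IsSpecial p P) (z : P) (hz : z ∈ Subgroup.center P) : z ^ p = 1 := by
  rw [← h.2.2, commutator_def, Subgroup.commutator_def] at hz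
  induction hz using Subgroup.closure_induction with
  | mem x hx =>
    obtain ⟨a, -, b, -, rfl⟩ := hx
    exact special_comm_pow h a b
  | one => exact one_pow p
  | mul x y hx' hy' hx hy =>
    have hxc : x ∈ Subgroup.center P := by
      rw [← h.2.2, commutator_def, Subgroup.commutator_def]; exact hx'
    have hcomm : Commute x y := (Subgroup.mem_center_iff.mp hxc y).symm
    rw [hcomm.mul_pow, hx, hy, one_mul]
  | inv x _ hx => rw [inv_pow, hx, inv_one]

theorem extraspecial_odd_omega {E : Type u} [Group E] [Finite E] {p : ℕ} [hp : Fact p.Prime] (hp2 : p ≠ 2)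
    (h : Cfsg.IsExtraspecial p E) :
    (Subgroup.closure {x : E | x ^ p = 1}).index ≤ p ∧
      ∀ g ∈ Subgroup.closure {x : E | x ^ p = 1}, g ^ p = 1 := by
  have hs := h.1
  have hcc := special_commCentral hs
  refine ⟨?_, fun g hg => hcc.omega_exponent hp.out hp2 g hg⟩
  -- the p-th power map is a homomorphism into the centre
  let π : E →* Subgroup.center E :=
    { toFun := fun x => ⟨x ^ p, by
        rw [← hs.2.1]; exact pow_prime_mem_frattini_of_isPGroup p hs.1 x⟩
      map_one' := by ext; simp
      map_mul' := fun x y => by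
        ext
        exact hcc.mul_pow_prime_eq hp.out hp2 x y (special_comm_pow hs y x) }
  have hker : π.ker ≤ Subgroup.closure {x : E | x ^ p = 1} := by
    intro x hx
    apply Subgroup.subset_closure
    have := congrArg Subtype.val (MonoidHom.mem_ker.mp hx)
    exact this
  have h1 : (Subgroup.closure {x : E | x ^ p = 1}).index ∣ π.ker.index := Subgroup.index_dvd_of_le hker
  have h2 : π.ker.index = Nat.card π.range := Subgroup.index_ker π
  have h3 : Nat.card π.range ∣ Nat.card (Subgroup.center E) := Subgroup.card_subgroup_dvd_card _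
  rw [h.2] at h3
  rw [h2] at h1
  exact Nat.le_of_dvd hp.out.pos (h1.trans h3)

end Cfsg.Agent.Lib.Helper1
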