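import Mathlib
import Cfsg.Agent.Lib.Helper1.Coprime
import Cfsg.Agent.Lib.Helper1.CoprimeIndexP
import Cfsg.Agent.Lib.Helper1.Rk3

/-! Piece PH of S4130: a coprime element whose centralizer has index dividing `q` in a normal
`q`-subgroup `Q`: the commutator `[Q, ⟨h⟩]` has order dividing `q`, is central in `Q`, and
`Q = [Q, ⟨h⟩] C_Q(h)`. -/
set_option autoImplicit false
namespace Cfsg.Agent.Lib.Helper1.SqF
open scoped commutatorElement

theorem centralizer_zpowers_coe {G : Type*} [Group G] (h : G) :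
    Subgroup.centralizer ((Subgroup.zpowers h : Subgroup G) : Set G) =
      Subgroup.centralizer ({h} : Set G) := by
  rw [Subgroup.zpowers_eq_closure, Subgroup.centralizer_closure]

theorem coprime_commutator_of_relIndex_dvd {G : Type*} [Group G] [Finite G] {q : ℕ}
    [Fact q.Prime] (Q : Subgroup G) [Q.Normal] (hQ : IsPGroup q Q) (h : G)
    (hh : (orderOf h).Coprime q)
    (hidx : (Subgroup.centralizer ({h} : Set G)).relIndex Q ∣ q) :
    Nat.card ↥⁅Q, Subgroup.zpowers h⁆ ∣ q ∧
      ⁅Q, Subgroup.zpowers h⁆ ≤ Subgroup.centralizer (Q : Set G) ∧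
      ⁅Q, Subgroup.zpowers h⁆ ⊔ (Q ⊓ Subgroup.centralizer ({h} : Set G)) = Q := by
  have hq : q.Prime := Fact.out
  set A : Subgroup G := Subgroup.zpowers h with hA
  have hAK : A ≤ Subgroup.normalizer (Q : Set G) := by
    rw [Subgroup.normalizer_eq_top]; exact le_top
  have hcop : (Nat.card A).Coprime (Nat.card Q) := by
    obtain ⟨n, hn⟩ := hQ.exists_card_eq
    rw [hn, hA, Nat.card_zpowers]
    exact Nat.Coprime.pow_right n hh
  have hsolv : Group.IsSolvable A ∨ Group.IsSolvable Q := by
    haveI := hQ.isNilpotent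
    exact Or.inr inferInstance
  have hcent : Subgroup.centralizer (A : Set G) = Subgroup.centralizer ({h} : Set G) :=
    centralizer_zpowers_coe h
  have hsup := Cfsg.Agent.Lib.Helper1.coprime_commutator_sup_centralizer A Q hAK hcop hsolv
  rw [hcent] at hsup
  have hrel : (Q ⊓ Subgroup.centralizer ({h} : Set G)).relIndex Q =
      (Subgroup.centralizer ({h} : Set G)).relIndex Q := by
    rw [inf_comm, Subgroup.inf_relIndex_right]
  rcases (Nat.dvd_prime hq).mp hidx with h1 | h1
  · -- `Q ≤ C(h)`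
    have hle : Q ≤ Subgroup.centralizer ({h} : Set G) := Subgroup.relIndex_eq_one.mp h1
    have hbot : ⁅Q, A⁆ = ⊥ := by
      rw [Subgroup.commutator_eq_bot_iff_le_centralizer, hcent]
      exact hle
    refine ⟨?_, ?_, hsup⟩
    · rw [hbot, Subgroup.card_bot]; exact one_dvd _
    · rw [hbot]; exact bot_le
  · have hcard : Nat.card (⁅Q, A⁆ : Subgroup G) = q := by
      apply Cfsg.Agent.Lib.Helper1.coprime_action_index_p_centralizer A Q hAK hcop hsolv q hq
      rw [hcent, hrel, h1]
    refine ⟨by rw [hcard], ?_, hsup⟩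
    -- a normal subgroup of order `q` of the `q`-group `Q` is central
    have hLQ : ⁅Q, A⁆ ≤ Q := Subgroup.le_normalizer_iff_commutator_le_left.mp hAK
    have hQL : Q ≤ Subgroup.normalizer ((⁅Q, A⁆ : Subgroup G) : Set G) :=
      Subgroup.normalizer_commutator_ge_left Q A
    haveI hnil : Group.IsNilpotent Q := hQ.isNilpotent
    haveI hnorm : ((⁅Q, A⁆ : Subgroup G).subgroupOf Q).Normal := by
      refine ⟨fun n hn g => ?_⟩
      rw [Subgroup.mem_subgroupOf] at hn ⊢
      have := (Subgroup.mem_normalizer_iff.mp (hQL g.2) (n : G)).mp hn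
      simpa using this
    have hc : Nat.card ((⁅Q, A⁆ : Subgroup G).subgroupOf Q) = q := by
      rw [← hcard]
      exact Nat.card_congr (Subgroup.subgroupOfEquivOfLe hLQ).toEquiv
    have hcen := Cfsg.Agent.Lib.Helper1.Rk.le_center_of_normal_card_prime (p := q)
      ((⁅Q, A⁆ : Subgroup G).subgroupOf Q) hc
    intro m hm
    rw [Subgroup.mem_centralizer_iff]
    intro x hx
    have hmem : (⟨m, hLQ hm⟩ : Q) ∈ (⁅Q, A⁆ : Subgroup G).subgroupOf Q := by
      rw [Subgroup.mem_subgroupOf]; exact hm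
    have := Subgroup.mem_center_iff.mp (hcen hmem) ⟨x, hx⟩
    exact congrArg Subtype.val this

end Cfsg.Agent.Lib.Helper1.SqF
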