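import Mathlib
import Cfsg.Agent.Lib.Helper1.SqfH

/-! Piece PIb of S4130, part 1: auxiliary lemmas (coincidence of the commutators `[Q, ⟨h⟩]`,
the bound `|[Q, H]| ∣ q`, and `Q` abelian as soon as some `[Q, ⟨h⟩] ≠ 1`). -/
set_option autoImplicit false
namespace Cfsg.Agent.Lib.Helper1.SqF
open scoped commutatorElement

variable {G : Type*} [Group G] [Finite G] {q : ℕ} [hqF : Fact q.Prime]

/-- the relative index of any subgroup in a normal subgroup divides its index -/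
theorem relIndex_dvd_index_of_normal_right (H N : Subgroup G) [N.Normal] :
    H.relIndex N ∣ H.index := by
  obtain ⟨k, hk⟩ := Subgroup.relIndex_dvd_index_of_normal (H := N) (K := H)
  have h1 : (H ⊓ N).relIndex N * N.index = (H ⊓ N).index :=
    Subgroup.relIndex_mul_index inf_le_right
  have h2 : (H ⊓ N).relIndex H * H.index = (H ⊓ N).index :=
    Subgroup.relIndex_mul_index inf_le_left
  rw [Subgroup.inf_relIndex_right] at h1
  rw [Subgroup.inf_relIndex_left] at h2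
  have hne : N.relIndex H ≠ 0 := by
    intro h0
    have : N.index = 0 := by rw [hk, h0, zero_mul]
    exact Subgroup.index_ne_zero_of_finite this
  refine ⟨k, ?_⟩
  apply Nat.eq_of_mul_eq_mul_left (Nat.pos_of_ne_zero hne)
  rw [h2, ← h1, hk]; ring

/-- a subgroup of prime order meeting another subgroup nontrivially lies in it -/
theorem le_of_card_prime_of_inf_ne_bot {X Y : Subgroup G} (hX : Nat.card X = q)
    (h : X ⊓ Y ≠ ⊥) : X ≤ Y := by
  have hq : q.Prime := Fact.out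
  have hd : Nat.card (X ⊓ Y : Subgroup G) ∣ q := hX ▸ Subgroup.card_dvd_of_le inf_le_left
  rcases (Nat.dvd_prime hq).mp hd with h1 | h1
  · exact absurd (Subgroup.card_eq_one.mp h1) h
  · have : X ⊓ Y = X := Subgroup.eq_of_le_of_card_ge inf_le_left (by rw [h1, hX])
    rw [← this]; exact inf_le_right

/-- a power of a `q`-number dividing nothing divisible by `q²` divides `q` -/
theorem dvd_prime_of_dvd_pow_of_not_sq_dvd {m n : ℕ} (hm : m ∣ q ^ n) (hsq : ¬ q * q ∣ m) :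
    m ∣ q := by
  have hq : q.Prime := Fact.out
  obtain ⟨k, -, rfl⟩ := (Nat.dvd_prime_pow hq).mp hm
  rcases Nat.lt_or_ge k 2 with hk | hk
  · interval_cases k
    · simp
    · simp
  · exfalso; apply hsq
    rw [← pow_two]; exact pow_dvd_pow q hk

/-- `q ∣ m` if `m ≠ 1` divides a power of `q` -/
theorem prime_dvd_of_dvd_pow_of_ne_one {m n : ℕ} (hm : m ∣ q ^ n) (h1 : m ≠ 1) : q ∣ m := by
  have hq : q.Prime := Fact.out
  obtain ⟨k, -, rfl⟩ := (Nat.dvd_prime_pow hq).mp hm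
  rcases Nat.eq_zero_or_pos k with hk | hk
  · subst hk; simp at h1
  · exact dvd_pow_self q hk.ne'

theorem conj_mem_commutator_zpowers (Q : Subgroup G) [hQn : Q.Normal] {h1 h2 : G}
    (hc : h1 * h2 = h2 * h1) {g : G} (hg : g ∈ ⁅Q, Subgroup.zpowers h1⁆) :
    h2 * g * h2⁻¹ ∈ ⁅Q, Subgroup.zpowers h1⁆ := by
  have hle : ⁅Q, Subgroup.zpowers h1⁆ ≤
      (⁅Q, Subgroup.zpowers h1⁆).comap (MulAut.conj h2).toMonoidHom := by
    rw [Subgroup.commutator_le]
    intro x hx z hz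
    rw [Subgroup.mem_comap]
    change h2 * ⁅x, z⁆ * h2⁻¹ ∈ _
    have hzc : h2 * z * h2⁻¹ = z := by
      obtain ⟨k, rfl⟩ := Subgroup.mem_zpowers_iff.mp hz
      have : Commute h2 (h1 ^ k) := (Commute.zpow_right (show Commute h2 h1 from hc.symm) k)
      rw [this.eq, mul_inv_cancel_right]
    have : h2 * ⁅x, z⁆ * h2⁻¹ = ⁅h2 * x * h2⁻¹, h2 * z * h2⁻¹⁆ := by
      simp only [commutatorElement_def]; group
    rw [this, hzc]
    exact Subgroup.commutator_mem_commutator (hQn.conj_mem x hx h2) hz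
  exact hle hg

/-- key step of the coincidence lemma -/
theorem commutator_zpowers_le_mul (Q : Subgroup G) [hQn : Q.Normal] (hQ : IsPGroup q Q)
    (hidx : ∀ x : G, (Subgroup.centralizer ({x} : Set G)).relIndex Q ∣ q)
    (h1 h2 : G) (hc : h1 * h2 = h2 * h1)
    (ho1 : (orderOf h1).Coprime q)
    (hA1 : ⁅Q, Subgroup.zpowers h1⁆ ≠ ⊥)
    (hinf : ⁅Q, Subgroup.zpowers h1⁆ ⊓ ⁅Q, Subgroup.zpowers h2⁆ = ⊥) :
    ⁅Q, Subgroup.zpowers h1⁆ ≤ ⁅Q, Subgroup.zpowers (h1 * h2)⁆ := by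
  have hq : q.Prime := Fact.out
  obtain ⟨hc1, hcen1, -⟩ := coprime_commutator_of_relIndex_dvd Q hQ h1 ho1 (hidx h1)
  have hcard1 : Nat.card (⁅Q, Subgroup.zpowers h1⁆ : Subgroup G) = q := by
    rcases (Nat.dvd_prime hq).mp hc1 with h | h
    · exact absurd (Subgroup.card_eq_one.mp h) hA1
    · exact h
  have hAK : Subgroup.zpowers h1 ≤ Subgroup.normalizer (Q : Set G) := by
    rw [Subgroup.normalizer_eq_top]; exact le_top
  have hLQ : ⁅Q, Subgroup.zpowers h1⁆ ≤ Q :=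
    Subgroup.le_normalizer_iff_commutator_le_left.mp hAK
  -- `h2` centralizes `A1`
  have hcent2 : ∀ a ∈ ⁅Q, Subgroup.zpowers h1⁆, a * h2 = h2 * a := by
    intro a ha
    have hmem : ⁅a, h2⁆ ∈ ⁅Q, Subgroup.zpowers h1⁆ ⊓ ⁅Q, Subgroup.zpowers h2⁆ := by
      refine ⟨?_, Subgroup.commutator_mem_commutator (hLQ ha) (Subgroup.mem_zpowers h2)⟩
      have : ⁅a, h2⁆ = a * (h2 * a⁻¹ * h2⁻¹) := by
        simp only [commutatorElement_def]; group
      rw [this]
      exact mul_mem ha (conj_mem_commutator_zpowers Q hc (inv_mem ha))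
    rw [hinf, Subgroup.mem_bot, commutatorElement_eq_one_iff_commute] at hmem
    exact hmem.eq
  -- some `a ∈ A1` does not commute with `h1`
  have hex : ∃ a ∈ ⁅Q, Subgroup.zpowers h1⁆, ⁅a, h1⁆ ≠ 1 := by
    by_contra hno
    push_neg at hno
    have hcop : (Nat.card (Subgroup.zpowers h1)).Coprime (Nat.card Q) := by
      obtain ⟨n, hn⟩ := hQ.exists_card_eq
      rw [hn, Nat.card_zpowers]
      exact Nat.Coprime.pow_right n ho1
    have hsolv : Group.IsSolvable (Subgroup.zpowers h1) ∨ Group.IsSolvable Q := by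
      haveI := hQ.isNilpotent
      exact Or.inr inferInstance
    have hcc := Cfsg.Agent.Lib.Helper1.coprime_commutator_commutator (Subgroup.zpowers h1) Q
      hAK hcop hsolv
    apply hA1
    rw [← hcc, Subgroup.commutator_eq_bot_iff_le_centralizer, centralizer_zpowers_coe]
    intro a ha
    rw [Subgroup.mem_centralizer_iff]
    intro k hk
    rw [Set.mem_singleton_iff] at hk
    subst hk
    have := hno a ha
    rw [commutatorElement_eq_one_iff_commute] at this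
    exact this.eq.symm
  obtain ⟨a, ha, hane⟩ := hex
  have hcA1 : ⁅a, h1⁆ ∈ ⁅Q, Subgroup.zpowers h1⁆ := by
    have : ⁅a, h1⁆ = a * (h1 * a⁻¹ * h1⁻¹) := by
      simp only [commutatorElement_def]; group
    rw [this]
    exact mul_mem ha (conj_mem_commutator_zpowers Q rfl (inv_mem ha))
  have hcA12 : ⁅a, h1⁆ ∈ ⁅Q, Subgroup.zpowers (h1 * h2)⁆ := by
    have hai : a⁻¹ * h2 = h2 * a⁻¹ := by
      have := hcent2 a ha
      calc a⁻¹ * h2 = a⁻¹ * (h2 * a) * a⁻¹ := by group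
        _ = a⁻¹ * (a * h2) * a⁻¹ := by rw [this]
        _ = h2 * a⁻¹ := by group
    have : ⁅a, h1⁆ = ⁅a, h1 * h2⁆ := by
      simp only [commutatorElement_def, mul_inv_rev]
      calc a * h1 * a⁻¹ * h1⁻¹ = a * h1 * (a⁻¹ * h2) * h2⁻¹ * h1⁻¹ := by group
        _ = a * h1 * (h2 * a⁻¹) * h2⁻¹ * h1⁻¹ := by rw [hai]
        _ = a * (h1 * h2) * a⁻¹ * (h2⁻¹ * h1⁻¹) := by group
    rw [this]
    exact Subgroup.commutator_mem_commutator (hLQ ha) (Subgroup.mem_zpowers _)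
  apply le_of_card_prime_of_inf_ne_bot hcard1
  intro hbot
  have hmem : ⁅a, h1⁆ ∈ ⁅Q, Subgroup.zpowers h1⁆ ⊓ ⁅Q, Subgroup.zpowers (h1 * h2)⁆ :=
    Subgroup.mem_inf.mpr ⟨hcA1, hcA12⟩
  rw [hbot] at hmem
  exact hane (Subgroup.mem_bot.mp hmem)

/-- coincidence lemma -/
theorem commutator_zpowers_eq_of_commute (Q : Subgroup G) [hQn : Q.Normal] (hQ : IsPGroup q Q)
    (hidx : ∀ x : G, (Subgroup.centralizer ({x} : Set G)).relIndex Q ∣ q)
    (h1 h2 : G) (hc : h1 * h2 = h2 * h1)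
    (ho1 : (orderOf h1).Coprime q) (ho2 : (orderOf h2).Coprime q)
    (ho12 : (orderOf (h1 * h2)).Coprime q)
    (hA1 : ⁅Q, Subgroup.zpowers h1⁆ ≠ ⊥) (hA2 : ⁅Q, Subgroup.zpowers h2⁆ ≠ ⊥) :
    ⁅Q, Subgroup.zpowers h1⁆ = ⁅Q, Subgroup.zpowers h2⁆ := by
  have hq : q.Prime := Fact.out
  by_contra hne
  obtain ⟨hc1, -, -⟩ := coprime_commutator_of_relIndex_dvd Q hQ h1 ho1 (hidx h1)
  obtain ⟨hc2, -, -⟩ := coprime_commutator_of_relIndex_dvd Q hQ h2 ho2 (hidx h2)
  obtain ⟨hc12, -, -⟩ := coprime_commutator_of_relIndex_dvd Q hQ (h1 * h2) ho12 (hidx _)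
  have hcard1 : Nat.card (⁅Q, Subgroup.zpowers h1⁆ : Subgroup G) = q := by
    rcases (Nat.dvd_prime hq).mp hc1 with h | h
    · exact absurd (Subgroup.card_eq_one.mp h) hA1
    · exact h
  have hcard2 : Nat.card (⁅Q, Subgroup.zpowers h2⁆ : Subgroup G) = q := by
    rcases (Nat.dvd_prime hq).mp hc2 with h | h
    · exact absurd (Subgroup.card_eq_one.mp h) hA2
    · exact h
  have hinf : ⁅Q, Subgroup.zpowers h1⁆ ⊓ ⁅Q, Subgroup.zpowers h2⁆ = ⊥ := by
    by_contra hnb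
    have hle := le_of_card_prime_of_inf_ne_bot hcard1 hnb
    exact hne (Subgroup.eq_of_le_of_card_ge hle (by rw [hcard1, hcard2]))
  have hle1 := commutator_zpowers_le_mul Q hQ hidx h1 h2 hc ho1 hA1 hinf
  have hle2 := commutator_zpowers_le_mul Q hQ hidx h2 h1 hc.symm ho2 hA2 (by rwa [inf_comm])
  rw [← hc] at hle2
  have hge : q ≤ Nat.card (⁅Q, Subgroup.zpowers (h1 * h2)⁆ : Subgroup G) := by
    rw [← hcard1]; exact Nat.le_of_dvd Nat.card_pos (Subgroup.card_dvd_of_le hle1)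
  have hle12 : Nat.card (⁅Q, Subgroup.zpowers (h1 * h2)⁆ : Subgroup G) ≤ q :=
    Nat.le_of_dvd hq.pos hc12
  have e1 := Subgroup.eq_of_le_of_card_ge hle1 (by rw [hcard1]; exact hle12)
  have e2 := Subgroup.eq_of_le_of_card_ge hle2 (by rw [hcard2]; exact hle12)
  exact hne (e1.trans e2.symm)

/-- `|[Q, H]| ∣ q` for an abelian `q'`-group `H` -/
theorem card_commutator_dvd_of_abelian (Q : Subgroup G) [hQn : Q.Normal] (hQ : IsPGroup q Q)
    (hidx : ∀ x : G, (Subgroup.centralizer ({x} : Set G)).relIndex Q ∣ q)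
    (H : Subgroup G) (hHab : ∀ a ∈ H, ∀ b ∈ H, a * b = b * a)
    (hHq : ∀ a ∈ H, (orderOf a).Coprime q) :
    Nat.card (⁅Q, H⁆ : Subgroup G) ∣ q := by
  by_cases hall : ∀ h ∈ H, ⁅Q, Subgroup.zpowers h⁆ = ⊥
  · have : ⁅Q, H⁆ = ⊥ := by
      rw [eq_bot_iff, Subgroup.commutator_le]
      intro x hx h hh
      rw [← hall h hh]
      exact Subgroup.commutator_mem_commutator hx (Subgroup.mem_zpowers h)
    rw [this, Subgroup.card_bot]; exact one_dvd _
  · push_neg at hall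
    obtain ⟨h0, hh0, hA0⟩ := hall
    obtain ⟨hc0, -, -⟩ := coprime_commutator_of_relIndex_dvd Q hQ h0 (hHq h0 hh0) (hidx h0)
    have hle : ⁅Q, H⁆ ≤ ⁅Q, Subgroup.zpowers h0⁆ := by
      rw [Subgroup.commutator_le]
      intro x hx h hh
      by_cases hA : ⁅Q, Subgroup.zpowers h⁆ = ⊥
      · have : ⁅x, h⁆ ∈ ⁅Q, Subgroup.zpowers h⁆ :=
          Subgroup.commutator_mem_commutator hx (Subgroup.mem_zpowers h)
        rw [hA, Subgroup.mem_bot] at this
        rw [this]; exact one_mem _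
      · rw [commutator_zpowers_eq_of_commute Q hQ hidx h0 h (hHab h0 hh0 h hh) (hHq h0 hh0)
          (hHq h hh) (hHq _ (mul_mem hh0 hh)) hA0 hA]
        exact Subgroup.commutator_mem_commutator hx (Subgroup.mem_zpowers h)
    exact (Subgroup.card_dvd_of_le hle).trans hc0

end Cfsg.Agent.Lib.Helper1.SqF
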