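import Mathlib
import Cfsg.Agent.Lib.Helper1.SqfIb1

/-! Piece PIb of S4130, part 2. -/
set_option autoImplicit false
namespace Cfsg.Agent.Lib.Helper1.SqF
open scoped commutatorElement

variable {G : Type*} [Group G] [Finite G] {q : ℕ} [hqF : Fact q.Prime]

theorem mem_centralizer_singleton_pow {w g : G} (hg : g ∈ Subgroup.centralizer ({w} : Set G))
    (n : ℕ) : g ∈ Subgroup.centralizer ({w ^ n} : Set G) := by
  rw [Subgroup.mem_centralizer_iff] at hg ⊢
  intro k hk
  rw [Set.mem_singleton_iff] at hk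
  subst hk
  have : Commute w g := hg w rfl
  exact (this.pow_left n).eq

/-- for commuting `y`, `h` with `y ^ N = 1`, `h ^ M = 1`, `N`, `M` coprime, both are powers of
`y * h` -/
theorem exists_pow_eq_of_coprime {y h : G} (hc : y * h = h * y) {N M : ℕ} (hy : y ^ N = 1)
    (hh : h ^ M = 1) (hNM : N.Coprime M) :
    (∃ n : ℕ, (y * h) ^ n = y) ∧ ∃ m : ℕ, (y * h) ^ m = h := by
  have hcm : Commute y h := hc
  constructor
  · obtain ⟨n, hn1, hn2⟩ := Nat.chineseRemainder hNM 1 0
    refine ⟨n, ?_⟩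
    rw [hcm.mul_pow]
    have e1 : y ^ n = y ^ 1 := by
      rw [pow_eq_pow_iff_modEq]
      exact hn1.of_dvd (orderOf_dvd_of_pow_eq_one hy)
    have e2 : h ^ n = h ^ 0 := by
      rw [pow_eq_pow_iff_modEq]
      exact hn2.of_dvd (orderOf_dvd_of_pow_eq_one hh)
    rw [e1, e2, pow_one, pow_zero, mul_one]
  · obtain ⟨n, hn1, hn2⟩ := Nat.chineseRemainder hNM 0 1
    refine ⟨n, ?_⟩
    rw [hcm.mul_pow]
    have e1 : y ^ n = y ^ 0 := by
      rw [pow_eq_pow_iff_modEq]
      exact hn1.of_dvd (orderOf_dvd_of_pow_eq_one hy)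
    have e2 : h ^ n = h ^ 1 := by
      rw [pow_eq_pow_iff_modEq]
      exact hn2.of_dvd (orderOf_dvd_of_pow_eq_one hh)
    rw [e1, e2, pow_one, pow_zero, one_mul]

/-- if some coprime `h` acts nontrivially on `Q` then `Q` is abelian -/
theorem le_centralizer_self_of_commutator_ne_bot (Q : Subgroup G) [hQn : Q.Normal]
    (hQ : IsPGroup q Q)
    (hsq : ∀ x : G, ¬ q * q ∣ (Subgroup.centralizer ({x} : Set G)).relIndex Q)
    (hidx : ∀ x : G, (Subgroup.centralizer ({x} : Set G)).relIndex Q ∣ q)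
    (h : G) (hh : (orderOf h).Coprime q) (hA : ⁅Q, Subgroup.zpowers h⁆ ≠ ⊥) :
    Q ≤ Subgroup.centralizer (Q : Set G) := by
  have hq : q.Prime := Fact.out
  obtain ⟨-, hcen, hsup⟩ := coprime_commutator_of_relIndex_dvd Q hQ h hh (hidx h)
  by_contra hnab
  have hY : ¬ (Q ⊓ Subgroup.centralizer ({h} : Set G)) ≤
      Subgroup.centralizer ((Q ⊓ Subgroup.centralizer ({h} : Set G) : Subgroup G) : Set G) := by
    intro hYab
    apply hnab
    have hsub : ((Q ⊓ Subgroup.centralizer ({h} : Set G) : Subgroup G) : Set G) ⊆ (Q : Set G) :=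
      SetLike.coe_subset_coe.mpr inf_le_left
    have h1 : Q ≤ Subgroup.centralizer
        ((Q ⊓ Subgroup.centralizer ({h} : Set G) : Subgroup G) : Set G) :=
      calc Q = ⁅Q, Subgroup.zpowers h⁆ ⊔ (Q ⊓ Subgroup.centralizer ({h} : Set G)) := hsup.symm
        _ ≤ _ := sup_le (hcen.trans (Subgroup.centralizer_le hsub)) hYab
    have h2 : (Q ⊓ Subgroup.centralizer ({h} : Set G)) ≤ Subgroup.centralizer (Q : Set G) :=
      Subgroup.le_centralizer_iff.mp h1
    calc Q = ⁅Q, Subgroup.zpowers h⁆ ⊔ (Q ⊓ Subgroup.centralizer ({h} : Set G)) := hsup.symm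
      _ ≤ _ := sup_le hcen h2
  obtain ⟨y1, hy1, hy1n⟩ := SetLike.not_le_iff_exists.mp hY
  rw [Subgroup.mem_centralizer_iff] at hy1n
  push_neg at hy1n
  obtain ⟨y2, hy2, hy12⟩ := hy1n
  have hy1' := Subgroup.mem_inf.mp hy1
  have hy2' := Subgroup.mem_inf.mp (show y2 ∈ Q ⊓ Subgroup.centralizer ({h} : Set G) from hy2)
  have hy1Q : y1 ∈ Q := hy1'.1
  have hy1h : y1 * h = h * y1 := by
    have := hy1'.2
    rw [Subgroup.mem_centralizer_iff] at this
    exact (this h rfl).symm
  -- `y1` is a `q`-element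
  obtain ⟨k, hk⟩ := hQ ⟨y1, hy1Q⟩
  have hy1pow : y1 ^ (q ^ k) = 1 := by
    have := congrArg Subtype.val hk
    simpa using this
  have hcopNM : (q ^ k).Coprime (orderOf h) := (Nat.Coprime.pow_right k hh).symm
  obtain ⟨⟨n, hn⟩, ⟨m, hm⟩⟩ := exists_pow_eq_of_coprime hy1h hy1pow (pow_orderOf_eq_one h) hcopNM
  have hw1 : Subgroup.centralizer ({y1 * h} : Set G) ≤
      Subgroup.centralizer ({y1} : Set G) ⊓ Subgroup.centralizer ({h} : Set G) := by
    intro g hg
    refine ⟨?_, ?_⟩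
    · have := mem_centralizer_singleton_pow hg n
      rwa [hn] at this
    · have := mem_centralizer_singleton_pow hg m
      rwa [hm] at this
  have e := Subgroup.relIndex_inf_mul_relIndex (H := Subgroup.centralizer ({y1} : Set G))
    (K := Subgroup.centralizer ({h} : Set G)) (L := Q)
  obtain ⟨nQ, hnQ⟩ := hQ.exists_card_eq
  have d1 : q ∣ (Subgroup.centralizer ({y1} : Set G)).relIndex
      (Subgroup.centralizer ({h} : Set G) ⊓ Q) := by
    apply prime_dvd_of_dvd_pow_of_ne_one (n := nQ)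
    · rw [← hnQ]
      exact (Subgroup.relIndex_dvd_card _ _).trans (Subgroup.card_dvd_of_le inf_le_right)
    · intro h1
      rw [Subgroup.relIndex_eq_one] at h1
      have : y2 ∈ Subgroup.centralizer ({y1} : Set G) := h1 (Subgroup.mem_inf.mpr ⟨hy2'.2, hy2'.1⟩)
      rw [Subgroup.mem_centralizer_iff] at this
      exact hy12 (this y1 rfl).symm
  have d2 : (Subgroup.centralizer ({h} : Set G)).relIndex Q = q := by
    rcases (Nat.dvd_prime hq).mp (hidx h) with h1 | h1
    · exfalso; apply hA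
      rw [Subgroup.relIndex_eq_one] at h1
      rw [Subgroup.commutator_eq_bot_iff_le_centralizer, centralizer_zpowers_coe]
      exact h1
    · exact h1
  apply hsq (y1 * h)
  refine dvd_trans ?_ (Subgroup.relIndex_dvd_of_le_left Q hw1)
  rw [← e, d2]
  exact Nat.mul_dvd_mul_right d1 q

/-- `G' ≤ [Q,Q][Q,H]` when `G = QH`, `Q` normal, `H` abelian -/
theorem commutator_le_sup_of_sup_eq_top (Q H : Subgroup G) [hQn : Q.Normal]
    (htop : Q ⊔ H = ⊤) (hHab : ∀ a ∈ H, ∀ b ∈ H, a * b = b * a) :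
    commutator G ≤ ⁅Q, Q⁆ ⊔ ⁅Q, H⁆ := by
  haveI hn2 : (⁅Q, H⁆ : Subgroup G).Normal := by
    rw [← Subgroup.normalizer_eq_top_iff, eq_top_iff, ← htop]
    exact sup_le (Subgroup.normalizer_commutator_ge_left Q H)
      (Subgroup.normalizer_commutator_ge_right Q H)
  set B : Subgroup G := ⁅Q, Q⁆ ⊔ ⁅Q, H⁆ with hB
  haveI hBn : B.Normal := by rw [hB]; infer_instance
  let π := QuotientGroup.mk' B
  have hπ : ∀ g : G, π g = 1 ↔ g ∈ B := fun g => QuotientGroup.eq_one_iff g
  have hcomm_of : ∀ a b : G, ⁅a, b⁆ ∈ B → π a * π b = π b * π a := by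
    intro a b hab
    have : π ⁅a, b⁆ = 1 := (hπ _).mpr hab
    rw [map_commutatorElement, commutatorElement_eq_one_iff_commute] at this
    exact this.eq
  -- the generating set
  have hgen : ∀ x ∈ π '' ((Q : Set G) ∪ H), ∀ y ∈ π '' ((Q : Set G) ∪ H), x * y = y * x := by
    rintro _ ⟨a, ha, rfl⟩ _ ⟨b, hb, rfl⟩
    rcases ha with ha | ha <;> rcases hb with hb | hb
    · exact hcomm_of a b (le_sup_left (a := ⁅Q, Q⁆) (Subgroup.commutator_mem_commutator ha hb))
    · exact hcomm_of a b (le_sup_right (b := ⁅Q, H⁆) (Subgroup.commutator_mem_commutator ha hb))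
    · exact (hcomm_of b a
        (le_sup_right (b := ⁅Q, H⁆) (Subgroup.commutator_mem_commutator hb ha))).symm
    · rw [← map_mul, ← map_mul, hHab a ha b hb]
  have hclos : Subgroup.closure (π '' ((Q : Set G) ∪ H)) = ⊤ := by
    rw [← MonoidHom.map_closure, Subgroup.closure_union, Subgroup.closure_eq, Subgroup.closure_eq,
      htop, ← MonoidHom.range_eq_map, MonoidHom.range_eq_top]
    exact QuotientGroup.mk'_surjective B
  letI := Subgroup.closureCommGroupOfComm hgen
  have hall : ∀ x y : G ⧸ B, x * y = y * x := by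
    intro x y
    have hx : x ∈ Subgroup.closure (π '' ((Q : Set G) ∪ H)) := by rw [hclos]; trivial
    have hy : y ∈ Subgroup.closure (π '' ((Q : Set G) ∪ H)) := by rw [hclos]; trivial
    have := mul_comm (⟨x, hx⟩ : Subgroup.closure (π '' ((Q : Set G) ∪ H))) ⟨y, hy⟩
    exact congrArg Subtype.val this
  rw [commutator_def, Subgroup.commutator_le]
  intro a _ b _
  rw [← hπ, map_commutatorElement, commutatorElement_eq_one_iff_commute]
  exact hall _ _

end Cfsg.Agent.Lib.Helper1.SqF
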