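import Mathlib
import Cfsg.Agent.Lib.Helper1.SqfIb2
import Cfsg.Agent.Lib.Helper6.SqfG

/-! Piece PIb of S4130: a normal Sylow `q`-subgroup `Q` with `G' ≤ Q`, all class sizes
squarefree: `q²` does not divide `|G'|`. -/
set_option autoImplicit false
namespace Cfsg.Agent.Lib.Helper1.SqF
open scoped commutatorElement

theorem not_sq_dvd_card_commutator_of_normal_sylow {G : Type*} [Group G] [Finite G] {q : ℕ}
    [Fact q.Prime]
    (h : ∀ x : G, Squarefree (Subgroup.centralizer ({x} : Set G)).index)
    (Q : Sylow q G) (hQn : (Q : Subgroup G).Normal)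
    (hab : commutator G ≤ (Q : Subgroup G)) : ¬ q ^ 2 ∣ Nat.card (commutator G) := by
  have hq : q.Prime := Fact.out
  haveI := hQn
  have hQp : IsPGroup q (Q : Subgroup G) := Q.isPGroup'
  obtain ⟨nQ, hnQ⟩ := hQp.exists_card_eq
  have hsq : ∀ x : G, ¬ q * q ∣ (Subgroup.centralizer ({x} : Set G)).relIndex (Q : Subgroup G) := by
    intro x hd
    have h1 : q * q ∣ (Subgroup.centralizer ({x} : Set G)).index :=
      hd.trans (relIndex_dvd_index_of_normal_right _ _)
    have := h x q h1
    exact hq.not_isUnit this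
  have hidx : ∀ x : G, (Subgroup.centralizer ({x} : Set G)).relIndex (Q : Subgroup G) ∣ q := by
    intro x
    apply dvd_prime_of_dvd_pow_of_not_sq_dvd (n := nQ) _ (hsq x)
    rw [← hnQ]; exact Subgroup.relIndex_dvd_card _ _
  -- complement
  obtain ⟨H, hH⟩ := Subgroup.exists_right_complement'_of_coprime
    (N := (Q : Subgroup G)) Q.card_coprime_index
  have hdisj : (Q : Subgroup G) ⊓ H = ⊥ := disjoint_iff.mp hH.disjoint
  have htop : (Q : Subgroup G) ⊔ H = ⊤ := hH.sup_eq_top
  have hHab : ∀ a ∈ H, ∀ b ∈ H, a * b = b * a := by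
    intro a ha b hb
    have h1 : ⁅a, b⁆ ∈ (Q : Subgroup G) := hab (by
      rw [commutator_def]
      exact Subgroup.commutator_mem_commutator (Subgroup.mem_top a) (Subgroup.mem_top b))
    have h2 : ⁅a, b⁆ ∈ H := by
      rw [commutatorElement_def]
      exact mul_mem (mul_mem (mul_mem ha hb) (inv_mem ha)) (inv_mem hb)
    have h3 : ⁅a, b⁆ ∈ (Q : Subgroup G) ⊓ H := Subgroup.mem_inf.mpr ⟨h1, h2⟩
    rw [hdisj, Subgroup.mem_bot, commutatorElement_eq_one_iff_commute] at h3
    exact h3.eq
  have hHcard : Nat.card H = (Q : Subgroup G).index := by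
    have e1 := hH.card_mul_card
    have e2 := (Q : Subgroup G).card_mul_index
    have hpos : 0 < Nat.card (Q : Subgroup G) := Nat.card_pos
    exact Nat.eq_of_mul_eq_mul_left hpos (e1.trans e2.symm)
  have hHq : ∀ a ∈ H, (orderOf a).Coprime q := by
    intro a ha
    rw [Nat.coprime_comm, Nat.Prime.coprime_iff_not_dvd hq]
    intro hd
    have h1 : q ∣ Nat.card H := hd.trans (H.orderOf_dvd_natCard ha)
    rw [hHcard] at h1
    exact Q.not_dvd_index h1
  have hA := card_commutator_dvd_of_abelian (Q : Subgroup G) hQp hidx H hHab hHq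
  -- Knoche on `Q`
  have hQ' : Nat.card (⁅(Q : Subgroup G), (Q : Subgroup G)⁆ : Subgroup G) ∣ q := by
    have hK := Cfsg.Agent.Lib.Helper6.SqF.card_commutator_dvd_of_index_dvd
      (P := ↥(Q : Subgroup G)) (p := q) hQp (by
        intro x
        have hx : Subgroup.centralizer ({x} : Set ↥(Q : Subgroup G)) =
            (Subgroup.centralizer ({(x : G)} : Set G)).subgroupOf (Q : Subgroup G) := by
          ext y
          rw [Subgroup.mem_subgroupOf, Subgroup.mem_centralizer_iff, Subgroup.mem_centralizer_iff]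
          constructor
          · intro hy k hk
            rw [Set.mem_singleton_iff] at hk
            rw [hk]
            exact congrArg Subtype.val (hy x rfl)
          · intro hy k hk
            rw [Set.mem_singleton_iff] at hk
            rw [hk]
            exact Subtype.ext (hy (x : G) rfl)
        rw [hx]
        exact hidx (x : G))
    rw [← Subgroup.map_subtype_commutator,
      Subgroup.card_map_of_injective (Subgroup.subtype_injective _)]
    exact hK
  have hle := commutator_le_sup_of_sup_eq_top (Q : Subgroup G) H htop hHab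
  have hfin : Nat.card (commutator G) ∣ q := by
    by_cases hAbot : ⁅(Q : Subgroup G), H⁆ = ⊥
    · rw [hAbot, sup_bot_eq] at hle
      exact (Subgroup.card_dvd_of_le hle).trans hQ'
    · have hex : ∃ h0 ∈ H, ⁅(Q : Subgroup G), Subgroup.zpowers h0⁆ ≠ ⊥ := by
        by_contra hno
        push_neg at hno
        apply hAbot
        rw [eq_bot_iff, Subgroup.commutator_le]
        intro x hx h0 hh0
        rw [← hno h0 hh0]
        exact Subgroup.commutator_mem_commutator hx (Subgroup.mem_zpowers h0)
      obtain ⟨h0, hh0, hA0⟩ := hex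
      have hQab := le_centralizer_self_of_commutator_ne_bot (Q : Subgroup G) hQp hsq hidx h0
        (hHq h0 hh0) hA0
      have : ⁅(Q : Subgroup G), (Q : Subgroup G)⁆ = ⊥ :=
        Subgroup.commutator_eq_bot_iff_le_centralizer.mpr hQab
      rw [this, bot_sup_eq] at hle
      exact (Subgroup.card_dvd_of_le hle).trans hA
  intro hd
  have h1 : q ^ 2 ∣ q := hd.trans hfin
  have h2 : q ^ 2 ≤ q := Nat.le_of_dvd hq.pos h1
  have h3 : 2 ≤ q := hq.two_le
  nlinarith

end Cfsg.Agent.Lib.Helper1.SqF
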