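import Mathlib

set_option autoImplicit false

/-!
# Lifting a presentation through a finite central extension with `p'`-kernel (for S2399)

`ρ : E → Q` a homomorphism of a finite group `E` with central kernel without `p`-torsion,
`φ : G → Q` with `range φ ≤ range ρ`.  Every `p`-element of `G` has a unique `p`-element lift,
on every `p`-subgroup of `G` there is a homomorphic lift, and a presentation all of whose
relators live in `p`-subgroups lifts.
-/

namespace Cfsg.Agent.Lib.Helper1.StLift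

variable {p : ℕ} [hp : Fact p.Prime]

omit hp in
/-- a subgroup without elements of order `p` has no nontrivial `p`-elements -/
theorem eq_one_of_pow_prime_pow {C : Type*} [Group C] (H : Subgroup C)
    (hH : ∀ c ∈ H, c ^ p = 1 → c = 1) (k : ℕ) :
    ∀ c ∈ H, c ^ p ^ k = 1 → c = 1 := by
  induction k with
  | zero =>
    intro c _ h
    simpa using h
  | succ k ih =>
    intro c hc h
    have h1 : (c ^ p) ^ p ^ k = 1 := by
      rw [← pow_mul, ← pow_succ']
      exact h
    exact hH c hc (ih (c ^ p) (pow_mem hc p) h1)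

section Lift

variable {E Q G : Type*} [Group E] [Finite E] [Group Q] [Group G]
  (ρ : E →* Q) (φ : G →* Q)
  (hker : ρ.ker ≤ Subgroup.center E) (htor : ∀ c ∈ ρ.ker, c ^ p = 1 → c = 1)
  (hrange : φ.range ≤ ρ.range)

include hker htor hrange in
/-- existence of a `p`-element lift -/
theorem exists_plift (x : G) (k : ℕ) (hx : x ^ p ^ k = 1) :
    ∃ e : E, ρ e = φ x ∧ e ^ p ^ k = 1 := by
  obtain ⟨e₀, he₀⟩ : φ x ∈ ρ.range := hrange ⟨x, rfl⟩
  set a := e₀ ^ p ^ k with ha
  have hak : a ∈ ρ.ker := by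
    rw [MonoidHom.mem_ker, ha, map_pow, he₀, ← map_pow, hx, map_one]
  have hnd : ¬ p ∣ orderOf a := by
    intro hdvd
    have h0 : orderOf a ≠ 0 := (orderOf_pos a).ne'
    have h1 := orderOf_pow_orderOf_div h0 hdvd
    have h2 : (a ^ (orderOf a / p)) ^ p = 1 := by
      have h2' := pow_orderOf_eq_one (a ^ (orderOf a / p))
      rwa [h1] at h2'
    have h3 := htor _ (pow_mem hak _) h2
    rw [h3, orderOf_one] at h1
    exact hp.out.one_lt.ne h1
  have hcop : (p ^ k).Coprime (orderOf a) :=
    Nat.Coprime.pow_left k ((Nat.Prime.coprime_iff_not_dvd hp.out).2 hnd)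
  obtain ⟨j, hj⟩ := exists_pow_eq_self_of_coprime hcop
  have hbk : (a ^ j)⁻¹ ∈ ρ.ker := inv_mem (pow_mem hak j)
  have hbc : Commute e₀ (a ^ j)⁻¹ := by
    have := Subgroup.mem_center_iff.1 (hker hbk) e₀
    exact this
  refine ⟨e₀ * (a ^ j)⁻¹, ?_, ?_⟩
  · rw [map_mul, he₀, MonoidHom.mem_ker.1 hbk, mul_one]
  · rw [hbc.mul_pow, inv_pow, ← pow_mul, mul_comm j, pow_mul, hj, ← ha, mul_inv_cancel]

omit [Finite E] hp in
include hker htor in
/-- uniqueness of the `p`-element lift -/
theorem plift_unique (e e' : E) (k k' : ℕ) (h : ρ e = ρ e') (he : e ^ p ^ k = 1)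
    (he' : e' ^ p ^ k' = 1) : e = e' := by
  set c := e⁻¹ * e' with hc
  have hck : c ∈ ρ.ker := by
    rw [MonoidHom.mem_ker, hc, map_mul, map_inv, h, inv_mul_cancel]
  have hcc : Commute e c := by
    have := Subgroup.mem_center_iff.1 (hker hck) e
    exact this
  have h1 : e ^ p ^ (k + k') = 1 := by
    rw [pow_add, pow_mul, he, one_pow]
  have h2 : e' ^ p ^ (k + k') = 1 := by
    rw [pow_add, mul_comm, pow_mul, he', one_pow]
  have h3 : e' = e * c := by
    rw [hc]; group
  have h4 : c ^ p ^ (k + k') = 1 := by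
    have := h2
    rw [h3, hcc.mul_pow, h1, one_mul] at this
    exact this
  have h5 : c = 1 := eq_one_of_pow_prime_pow ρ.ker htor (k + k') c hck h4
  rw [h3, h5, mul_one]

include htor hrange in
/-- a homomorphic lift on a `p`-subgroup -/
theorem exists_hom_lift (P : Subgroup G) (hP : IsPGroup p P) :
    ∃ f : P →* E, ∀ x : P, ρ (f x) = φ x := by
  classical
  -- the preimage of `φ P`
  set H : Subgroup E := (P.map φ).comap ρ with hH
  let ρH : H →* ↥(P.map φ) := (ρ.comp H.subtype).codRestrict (P.map φ) (fun h => h.2)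
  have hsurj : Function.Surjective ρH := by
    rintro ⟨y, hy⟩
    obtain ⟨x, hx, rfl⟩ := Subgroup.mem_map.1 hy
    obtain ⟨e, he⟩ : φ x ∈ ρ.range := hrange ⟨x, rfl⟩
    have heH : e ∈ H := by
      rw [hH, Subgroup.mem_comap, he]
      exact hy
    exact ⟨⟨e, heH⟩, Subtype.ext he⟩
  have : Finite ↥(P.map φ) := Finite.of_surjective ρH hsurj
  have hPm : IsPGroup p ↥(P.map φ) := hP.map φ
  obtain ⟨a, hcard⟩ := IsPGroup.iff_card.1 hPm
  set N : Subgroup H := ρH.ker with hN
  have hidx : N.index = p ^ a := by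
    rw [hN, Subgroup.index_ker, MonoidHom.range_eq_top.2 hsurj, Subgroup.card_top, hcard]
  have hnd : ¬ p ∣ Nat.card N := by
    intro hdvd
    obtain ⟨c, hc⟩ := exists_prime_orderOf_dvd_card' p hdvd
    have hck : (c : H).1 ∈ ρ.ker := by
      have h1 : ρH (c : H) = 1 := c.2
      have h2 := congrArg Subtype.val h1
      exact h2
    have hcp : ((c : H).1) ^ p = 1 := by
      have h1 : c ^ p = 1 := by
        rw [← hc]
        exact pow_orderOf_eq_one c
      have h2 := congrArg (fun z : N => ((z : H) : E)) h1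
      simpa using h2
    have h3 := htor _ hck hcp
    have h4 : c = 1 := Subtype.ext (Subtype.ext h3)
    rw [h4, orderOf_one] at hc
    exact hp.out.one_lt.ne hc
  have hcop : Nat.Coprime (Nat.card N) N.index := by
    rw [hidx]
    exact Nat.Coprime.pow_right a ((Nat.Prime.coprime_iff_not_dvd hp.out).2 hnd).symm
  obtain ⟨S, hS⟩ := Subgroup.exists_right_complement'_of_coprime hcop
  let ρS : S →* ↥(P.map φ) := ρH.comp S.subtype
  have hinj : Function.Injective ρS := by
    rw [injective_iff_map_eq_one]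
    intro s hs
    have h1 : (s : H) ∈ N := hs
    have h2 : (s : H) ∈ N ⊓ S := ⟨h1, s.2⟩
    rw [hS.disjoint.eq_bot, Subgroup.mem_bot] at h2
    exact Subtype.ext h2
  have hsur : Function.Surjective ρS := by
    intro y
    obtain ⟨h, hh⟩ := hsurj y
    obtain ⟨⟨n, s⟩, hns⟩ := hS.2 h
    refine ⟨s, ?_⟩
    have h1 : ρH (n : H) = 1 := n.2
    have h2 : (n : H) * (s : H) = h := hns
    show ρH (s : H) = y
    rw [← hh, ← h2, map_mul, h1, one_mul]
  let eS : S ≃* ↥(P.map φ) := MulEquiv.ofBijective ρS ⟨hinj, hsur⟩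
  let φP : P →* ↥(P.map φ) :=
    (φ.comp P.subtype).codRestrict (P.map φ) (fun x => Subgroup.mem_map.2 ⟨x.1, x.2, rfl⟩)
  refine ⟨(H.subtype.comp S.subtype).comp (eS.symm.toMonoidHom.comp φP), fun x => ?_⟩
  have h1 : ρS (eS.symm (φP x)) = φP x := eS.apply_symm_apply (φP x)
  have h2 := congrArg Subtype.val h1
  exact h2

end Lift

section Presented

variable {E Q G : Type*} [Group E] [Finite E] [Group Q] [Group G]
  (ρ : E →* Q) (φ : G →* Q)
  (hker : ρ.ker ≤ Subgroup.center E) (htor : ∀ c ∈ ρ.ker, c ^ p = 1 → c = 1)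
  (hrange : φ.range ≤ ρ.range)
  {α : Type*} (rels : Set (FreeGroup α)) (θ : PresentedGroup rels →* G)

include hker htor hrange in
/-- **lifting a presentation**: if every generator maps to a `p`-element and the letters of every
relator map into one `p`-subgroup, the map `φ ∘ θ` lifts through `ρ` -/
theorem exists_presented_lift
    (hgen : ∀ a : α, ∃ k : ℕ, (θ (PresentedGroup.of a)) ^ p ^ k = 1)
    (hrel : ∀ r ∈ rels, ∃ P : Subgroup G, IsPGroup p P ∧
      r ∈ Subgroup.closure (FreeGroup.of '' {a : α | θ (PresentedGroup.of a) ∈ P})) :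
    ∃ ψ : PresentedGroup rels →* E, ∀ d, ρ (ψ d) = φ (θ d) := by
  classical
  have hF : ∀ a : α, ∃ e : E, ρ e = φ (θ (PresentedGroup.of a)) ∧ ∃ k : ℕ, e ^ p ^ k = 1 := by
    intro a
    obtain ⟨k, hk⟩ := hgen a
    obtain ⟨e, he1, he2⟩ := exists_plift ρ φ hker htor hrange _ k hk
    exact ⟨e, he1, k, he2⟩
  choose F hF1 hF2 using hF
  have hlift : ∀ r ∈ rels, FreeGroup.lift F r = 1 := by
    intro r hr
    obtain ⟨P, hP, hrP⟩ := hrel r hr
    obtain ⟨f, hf⟩ := exists_hom_lift ρ φ htor hrange P hP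
    -- `F` and `f` agree on the letters
    have hagree : ∀ a : α, ∀ ha : θ (PresentedGroup.of a) ∈ P,
        F a = f ⟨θ (PresentedGroup.of a), ha⟩ := by
      intro a ha
      obtain ⟨k, hk⟩ := hF2 a
      obtain ⟨k', hk'⟩ := hgen a
      apply plift_unique ρ hker htor (F a) (f ⟨θ (PresentedGroup.of a), ha⟩) k k'
      · rw [hF1 a, hf]
      · exact hk
      · rw [← map_pow]
        have : (⟨θ (PresentedGroup.of a), ha⟩ : P) ^ p ^ k' = 1 := Subtype.ext (by simpa using hk')
        rw [this, map_one]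
    have key : ∀ w ∈ Subgroup.closure (FreeGroup.of '' {a : α | θ (PresentedGroup.of a) ∈ P}),
        ∃ y : P, (y : G) = θ (PresentedGroup.mk rels w) ∧ FreeGroup.lift F w = f y := by
      intro w hw
      induction hw using Subgroup.closure_induction with
      | mem w hw =>
        obtain ⟨a, ha, rfl⟩ := hw
        exact ⟨⟨θ (PresentedGroup.of a), ha⟩, rfl, by rw [FreeGroup.lift_apply_of]; exact hagree a ha⟩
      | one => exact ⟨1, by simp, by simp⟩
      | mul w₁ w₂ _ _ ih₁ ih₂ =>
        obtain ⟨y₁, h1, h1'⟩ := ih₁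
        obtain ⟨y₂, h2, h2'⟩ := ih₂
        exact ⟨y₁ * y₂, by rw [Subgroup.coe_mul, h1, h2, map_mul, map_mul],
          by rw [map_mul, h1', h2', map_mul]⟩
      | inv w _ ih =>
        obtain ⟨y, h1, h1'⟩ := ih
        exact ⟨y⁻¹, by rw [Subgroup.coe_inv, h1, map_inv, map_inv], by rw [map_inv, h1', map_inv]⟩
    obtain ⟨y, hy1, hy2⟩ := key r hrP
    have hy : y = 1 := by
      apply Subtype.ext
      rw [hy1, PresentedGroup.one_of_mem hr, map_one]
      rfl
    rw [hy2, hy, map_one]
  refine ⟨PresentedGroup.toGroup hlift, fun d => ?_⟩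
  have heq : ρ.comp (PresentedGroup.toGroup hlift) = φ.comp θ := by
    apply PresentedGroup.ext
    intro a
    rw [MonoidHom.comp_apply, MonoidHom.comp_apply, PresentedGroup.toGroup.of, hF1]
  exact DFunLike.congr_fun heq d

end Presented

end Cfsg.Agent.Lib.Helper1.StLift
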