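import Mathlib
import Cfsg.Prelude.Def_ChevStructure
import Cfsg.Agent.Lib.Helper5.ChevW0Def

set_option autoImplicit false

/-!
# Positivity bitmasks along the suffixes of a Weyl word (for S2399)

`maskAux D W a` runs through the word `W` once and records, as the bits of a natural number,
whether the image of the root `a` under each suffix of `W` is positive.  Two roots are
simultaneously positive under some suffix as soon as the bitwise `and` of their masks is nonzero.
-/

namespace Cfsg.Agent.Lib.Helper1.StLift

open Cfsg Cfsg.Lie Cfsg.Agent.Lib.Helper5.ChevSym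

/-- cheap positivity test: in the tabulated data the positive roots are the second half -/
def posB (D : ChevalleyDatum) (c : ℕ) : Bool := Nat.ble (D.nroots / 2) c && Nat.blt c D.nroots

/-- image of `a` under the whole word and the bitmask of positivity along the suffixes:
bit `k` is the positivity of the image under `W.drop k` -/
def maskAux (D : ChevalleyDatum) : List ℕ → ℕ → ℕ × ℕ
  | [], a => (a, Nat.bit (posB D a) 0)
  | i :: w, a =>
    let q := maskAux D w a
    let c := canonN (fun r => D.reflectRoot i r) q.1
    (c, Nat.bit (posB D c) q.2)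

theorem maskAux_fst (D : ChevalleyDatum) (W : List ℕ) (a : ℕ) :
    (maskAux D W a).1 = wAct D W a := by
  induction W with
  | nil => rfl
  | cons i w ih =>
    show canonN (fun r => D.reflectRoot i r) (maskAux D w a).1 = _
    rw [canonN_eq, ih]
    rfl

theorem maskAux_spec (D : ChevalleyDatum) (W : List ℕ) (a : ℕ) :
    ∀ k, (maskAux D W a).2.testBit k = true → posB D (wAct D (W.drop k) a) = true := by
  induction W with
  | nil =>
    intro k hk
    cases k with
    | zero =>
      have h1 : (maskAux D [] a).2 = Nat.bit (posB D a) 0 := rfl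
      rw [h1, Nat.testBit_bit_zero] at hk
      exact hk
    | succ k =>
      have h1 : (maskAux D [] a).2 = Nat.bit (posB D a) 0 := rfl
      rw [h1, Nat.testBit_bit_succ, Nat.zero_testBit] at hk
      exact absurd hk (by simp)
  | cons i w ih =>
    intro k hk
    have h1 : (maskAux D (i :: w) a).2
        = Nat.bit (posB D (canonN (fun r => D.reflectRoot i r) (maskAux D w a).1))
            (maskAux D w a).2 := rfl
    cases k with
    | zero =>
      rw [h1, Nat.testBit_bit_zero, canonN_eq, maskAux_fst] at hk
      exact hk
    | succ k =>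
      rw [h1, Nat.testBit_bit_succ] at hk
      exact ih k hk

/-- the table of masks of all roots -/
def masks (D : ChevalleyDatum) (W : List ℕ) : List ℕ :=
  (List.range D.nroots).map fun a => (maskAux D W a).2

theorem masks_spec (D : ChevalleyDatum) (W : List ℕ) (a k : ℕ)
    (h : ((masks D W).getD a 0).testBit k = true) :
    a < D.nroots ∧ posB D (wAct D (W.drop k) a) = true := by
  by_cases ha : a < D.nroots
  · refine ⟨ha, ?_⟩
    have h1 : (masks D W).getD a 0 = (maskAux D W a).2 := by
      unfold masks
      rw [List.getD_eq_getElem?_getD, List.getElem?_map, List.getElem?_range ha]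
      rfl
    rw [h1] at h
    exact maskAux_spec D W a k h
  · exfalso
    have h1 : (masks D W).getD a 0 = 0 := by
      unfold masks
      rw [List.getD_eq_getElem?_getD, List.getElem?_eq_none]
      · rfl
      · rw [List.length_map, List.length_range]
        omega
    rw [h1, Nat.zero_testBit] at h
    exact absurd h (by simp)

/-- the letters of the word are fundamental reflections -/
def chkWord (D : ChevalleyDatum) (W : List ℕ) : Bool := W.all fun i => Nat.blt i D.rank

theorem chkWord_spec (D : ChevalleyDatum) (W : List ℕ) (h : chkWord D W = true) (k : ℕ) :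
    ∀ i ∈ W.drop k, i < D.rank := by
  intro i hi
  unfold chkWord at h
  rw [List.all_eq_true] at h
  have := h i (List.mem_of_mem_drop hi)
  rwa [Nat.blt_eq] at this

/-- every root is positive under some suffix -/
def chkSingle (D : ChevalleyDatum) (tab : List ℕ) : Bool :=
  (List.range D.nroots).all fun r => tab.getD r 0 != 0

/-- the pair check without the roots of the commutator formula -/
def chkPos (D : ChevalleyDatum) (tab : List ℕ) : Bool :=
  (List.range D.nroots).all fun r => (List.range D.nroots).all fun s =>
    s == r || s == D.neg r || Nat.land (tab.getD r 0) (tab.getD s 0) != 0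

/-- the pair check with the roots of the commutator formula -/
def chkFull (D : ChevalleyDatum) (tab : List ℕ) : Bool :=
  (List.range D.nroots).all fun r => (List.range D.nroots).all fun s =>
    s == r || s == D.neg r ||
      (D.commTerms r s).foldl (fun acc c => Nat.land acc (tab.getD c.1 0))
        (Nat.land (tab.getD r 0) (tab.getD s 0)) != 0

theorem chkSingle_spec (D : ChevalleyDatum) (W : List ℕ) (h : chkSingle D (masks D W) = true)
    (r : ℕ) (hr : r < D.nroots) : ∃ k, posB D (wAct D (W.drop k) r) = true := by
  unfold chkSingle at h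
  rw [List.all_eq_true] at h
  have h1 := h r (List.mem_range.2 hr)
  rw [bne_iff_ne] at h1
  obtain ⟨k, hk⟩ := Nat.exists_testBit_of_ne_zero h1
  exact ⟨k, (masks_spec D W r k hk).2⟩

theorem chkPos_spec (D : ChevalleyDatum) (W : List ℕ) (h : chkPos D (masks D W) = true)
    (r s : ℕ) (hr : r < D.nroots) (hs : s < D.nroots) (hsr : s ≠ r) (hsn : s ≠ D.neg r) :
    ∃ k, posB D (wAct D (W.drop k) r) = true ∧ posB D (wAct D (W.drop k) s) = true := by
  unfold chkPos at h
  rw [List.all_eq_true] at h
  have h1 := h r (List.mem_range.2 hr)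
  rw [List.all_eq_true] at h1
  have h2 := h1 s (List.mem_range.2 hs)
  rw [Bool.or_eq_true, Bool.or_eq_true] at h2
  rcases h2 with (h2 | h2) | h2
  · exact absurd (beq_iff_eq.1 h2) hsr
  · exact absurd (beq_iff_eq.1 h2) hsn
  · rw [bne_iff_ne] at h2
    obtain ⟨k, hk⟩ := Nat.exists_testBit_of_ne_zero h2
    have hk' : (Nat.land ((masks D W).getD r 0) ((masks D W).getD s 0)).testBit k
        = (((masks D W).getD r 0).testBit k && ((masks D W).getD s 0).testBit k) :=
      Nat.testBit_and _ _ _
    rw [hk', Bool.and_eq_true] at hk
    exact ⟨k, (masks_spec D W r k hk.1).2, (masks_spec D W s k hk.2).2⟩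

theorem foldl_land_testBit (tab : List ℕ) (l : List (ℕ × ℤ × ℕ × ℕ)) (m k : ℕ)
    (h : (l.foldl (fun acc c => Nat.land acc (tab.getD c.1 0)) m).testBit k = true) :
    m.testBit k = true ∧ ∀ c ∈ l, (tab.getD c.1 0).testBit k = true := by
  induction l generalizing m with
  | nil => exact ⟨h, fun c hc => absurd hc (by simp)⟩
  | cons c l ih =>
    rw [List.foldl_cons] at h
    obtain ⟨h1, h2⟩ := ih _ h
    have h3 : (Nat.land m (tab.getD c.1 0)).testBit k
        = (m.testBit k && (tab.getD c.1 0).testBit k) := Nat.testBit_and _ _ _
    rw [h3, Bool.and_eq_true] at h1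
    refine ⟨h1.1, fun c' hc' => ?_⟩
    rcases List.mem_cons.1 hc' with rfl | hc'
    · exact h1.2
    · exact h2 c' hc'

theorem chkFull_spec (D : ChevalleyDatum) (W : List ℕ) (h : chkFull D (masks D W) = true)
    (r s : ℕ) (hr : r < D.nroots) (hs : s < D.nroots) (hsr : s ≠ r) (hsn : s ≠ D.neg r) :
    ∃ k, posB D (wAct D (W.drop k) r) = true ∧ posB D (wAct D (W.drop k) s) = true ∧
      ∀ c ∈ D.commTerms r s, c.1 < D.nroots ∧ posB D (wAct D (W.drop k) c.1) = true := by
  unfold chkFull at h
  rw [List.all_eq_true] at h
  have h1 := h r (List.mem_range.2 hr)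
  rw [List.all_eq_true] at h1
  have h2 := h1 s (List.mem_range.2 hs)
  rw [Bool.or_eq_true, Bool.or_eq_true] at h2
  rcases h2 with (h2 | h2) | h2
  · exact absurd (beq_iff_eq.1 h2) hsr
  · exact absurd (beq_iff_eq.1 h2) hsn
  · rw [bne_iff_ne] at h2
    obtain ⟨k, hk⟩ := Nat.exists_testBit_of_ne_zero h2
    obtain ⟨h3, h4⟩ := foldl_land_testBit _ _ _ k hk
    have h3' : (Nat.land ((masks D W).getD r 0) ((masks D W).getD s 0)).testBit k
        = (((masks D W).getD r 0).testBit k && ((masks D W).getD s 0).testBit k) :=
      Nat.testBit_and _ _ _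
    rw [h3', Bool.and_eq_true] at h3
    exact ⟨k, (masks_spec D W r k h3.1).2, (masks_spec D W s k h3.2).2,
      fun c hc => masks_spec D W c.1 k (h4 c hc)⟩

end Cfsg.Agent.Lib.Helper1.StLift
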