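import Mathlib
import Cfsg.Prelude.Def_ChevG2
import Cfsg.Prelude.Def_ChevB2
import Cfsg.Prelude.Def_ChevD4
import Cfsg.Prelude.Def_ChevF4
import Cfsg.Prelude.Def_ChevE6
import Cfsg.Prelude.Def_ChevE7
import Cfsg.Prelude.Def_ChevE8
import Cfsg.Agent.Lib.Helper1.StLiftDef

set_option autoImplicit false

/-!
# The positivity certificates for the seven tabulated data (for S2399)
-/

namespace Cfsg.Agent.Lib.Helper1.StLift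

open Cfsg Cfsg.Lie

def wwG2 : List ℕ := [0, 1, 0, 1, 0, 1, 0, 1, 0, 1, 0, 1]

def wwB2 : List ℕ := [0, 1, 0, 1, 0, 1, 0, 1]

def wwD4 : List ℕ := [0, 1, 0, 2, 1, 0, 3, 1, 0, 2, 1, 3, 0, 1, 0, 2, 1, 0, 3, 1, 0, 2, 1, 3]

def wwF4 : List ℕ :=
  [0, 1, 0, 2, 1, 0, 2, 1, 2, 3, 2, 1, 0, 2, 1, 2, 3, 2, 1, 0, 2, 1, 2, 3,
   0, 1, 0, 2, 1, 0, 2, 1, 2, 3, 2, 1, 0, 2, 1, 2, 3, 2, 1, 0, 2, 1, 2, 3]

def wwE6 : List ℕ :=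
  [5, 1, 4, 5, 3, 1, 4, 5, 3, 4, 2, 3, 1, 4, 5, 3, 4, 2, 3, 1, 0, 2, 3, 1, 4, 5, 3, 4, 2, 3, 1,
   0, 2, 3, 4, 5,
   0, 1, 2, 0, 3, 1, 2, 0, 3, 2, 4, 3, 1, 2, 0, 3, 2, 4, 3, 1, 5, 4, 3, 1, 2, 0, 3, 2, 4, 3, 1,
   5, 4, 3, 2, 0]

def w0E7 : List ℕ :=
  [0, 1, 2, 0, 3, 1, 2, 0, 3, 2, 4, 3, 1, 2, 0, 3, 2, 4, 3, 1, 5, 4, 3, 1, 2, 0, 3, 2, 4, 3, 1,
   5, 4, 3, 2, 0, 6, 5, 4, 3, 1, 2, 0, 3, 2, 4, 3, 1, 5, 4, 3, 2, 0, 6, 5, 4, 3, 1, 2, 3, 4, 5,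
   6]

def wwE7 : List ℕ := w0E7 ++ w0E7

def w0E8 : List ℕ :=
  [0, 1, 2, 0, 3, 1, 2, 0, 3, 2, 4, 3, 1, 2, 0, 3, 2, 4, 3, 1, 5, 4, 3, 1, 2, 0, 3, 2, 4, 3, 1,
   5, 4, 3, 2, 0, 6, 5, 4, 3, 1, 2, 0, 3, 2, 4, 3, 1, 5, 4, 3, 2, 0, 6, 5, 4, 3, 1, 2, 3, 4, 5,
   6, 7, 6, 5, 4, 3, 1, 2, 0, 3, 2, 4, 3, 1, 5, 4, 3, 2, 0, 6, 5, 4, 3, 1, 2, 3, 4, 5, 6, 7, 6,
   5, 4, 3, 1, 2, 0, 3, 2, 4, 3, 1, 5, 4, 3, 2, 0, 6, 5, 4, 3, 1, 2, 3, 4, 5, 6, 7]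

def wwE8 : List ℕ := w0E8 ++ w0E8

set_option maxRecDepth 1000000 in
theorem cert_G2 : (chkWord chevG2 wwG2 && chkSingle chevG2 (masks chevG2 wwG2) &&
    chkFull chevG2 (masks chevG2 wwG2)) = true := by decide +kernel

set_option maxRecDepth 1000000 in
theorem cert_B2 : (chkWord chevB2 wwB2 && chkSingle chevB2 (masks chevB2 wwB2) &&
    chkFull chevB2 (masks chevB2 wwB2)) = true := by decide +kernel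

set_option maxRecDepth 1000000 in
theorem cert_D4 : (chkWord chevD4 wwD4 && chkSingle chevD4 (masks chevD4 wwD4) &&
    chkFull chevD4 (masks chevD4 wwD4)) = true := by decide +kernel

set_option maxRecDepth 1000000 in
theorem cert_F4 : (chkWord chevF4 wwF4 && chkSingle chevF4 (masks chevF4 wwF4) &&
    chkFull chevF4 (masks chevF4 wwF4)) = true := by decide +kernel

set_option maxRecDepth 1000000 in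
theorem cert_E6 : (chkWord chevE6 wwE6 && chkSingle chevE6 (masks chevE6 wwE6) &&
    chkPos chevE6 (masks chevE6 wwE6)) = true := by decide +kernel

end Cfsg.Agent.Lib.Helper1.StLift
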