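import Mathlib
import Cfsg.Agent.Lib.Helper1.StLiftCert

set_option autoImplicit false

namespace Cfsg.Agent.Lib.Helper1.StLift

open Cfsg Cfsg.Lie

set_option maxRecDepth 1000000 in
theorem cert_E7 : (chkWord chevE7 wwE7 && chkSingle chevE7 (masks chevE7 wwE7) &&
    chkPos chevE7 (masks chevE7 wwE7)) = true := by decide +kernel

end Cfsg.Agent.Lib.Helper1.StLift
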