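import Mathlib
import Cfsg.Prelude.Def_SteinbergCover
import Cfsg.Agent.Lib.Helper5.ChevW0
import Cfsg.Agent.Lib.Helper5.ChevUCard
import Cfsg.Agent.Lib.Helper5.ChevUOrd
import Cfsg.Agent.Lib.Helper5.ChevSL
import Cfsg.Agent.Lib.Helper5.ChevChk.TreeE6
import Cfsg.Agent.Lib.Helper5.ChevChk.TreeE7
import Cfsg.Agent.Lib.Helper5.ChevChk.TreeE8
import Cfsg.Agent.Lib.Helper1.StLiftCert
import Cfsg.Agent.Lib.Helper1.StLiftCertE7
import Cfsg.Agent.Lib.Helper1.StLiftCertE8

set_option autoImplicit false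

/-!
# The relators of the Steinberg cover live in `p`-subgroups (for S2399)
-/

namespace Cfsg.Agent.Lib.Helper1.StLift

open Cfsg Cfsg.Lie Cfsg.Agent.Lib.Helper5.ChevStruct Cfsg.Agent.Lib.Helper5.ChevSym

/-- what the certificates give -/
def PairOK (D : ChevalleyDatum) : Prop :=
  (∀ r < D.nroots, ∃ v : List ℕ, (∀ i ∈ v, i < D.rank) ∧ D.IsPosRoot (wAct D v r)) ∧
  (∀ r s, r < D.nroots → s < D.nroots → s ≠ r → s ≠ D.neg r →
    ∃ v : List ℕ, (∀ i ∈ v, i < D.rank) ∧ D.IsPosRoot (wAct D v r) ∧ D.IsPosRoot (wAct D v s) ∧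
      ((∀ c ∈ D.commTerms r s, c.1 < D.nroots ∧ D.IsPosRoot (wAct D v c.1)) ∨
        (D.commTerms r s).length ≤ 1))

theorem pos_of_posB (D : ChevalleyDatum) (hD : D ∈ Seven) (c : ℕ) (h : posB D c = true) :
    D.IsPosRoot c := by
  unfold posB at h
  rw [Bool.and_eq_true, Nat.ble_eq, Nat.blt_eq] at h
  exact (isPosRoot_iff D hD c).2 h

theorem pairOK_of_full (D : ChevalleyDatum) (hD : D ∈ Seven) (W : List ℕ)
    (h : (chkWord D W && chkSingle D (masks D W) && chkFull D (masks D W)) = true) :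
    PairOK D := by
  rw [Bool.and_eq_true, Bool.and_eq_true] at h
  obtain ⟨⟨h1, h2⟩, h3⟩ := h
  constructor
  · intro r hr
    obtain ⟨k, hk⟩ := chkSingle_spec D W h2 r hr
    exact ⟨W.drop k, chkWord_spec D W h1 k, pos_of_posB D hD _ hk⟩
  · intro r s hr hs hsr hsn
    obtain ⟨k, hk1, hk2, hk3⟩ := chkFull_spec D W h3 r s hr hs hsr hsn
    exact ⟨W.drop k, chkWord_spec D W h1 k, pos_of_posB D hD _ hk1, pos_of_posB D hD _ hk2,
      Or.inl fun c hc => ⟨(hk3 c hc).1, pos_of_posB D hD _ (hk3 c hc).2⟩⟩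

theorem pairOK_of_pos (D : ChevalleyDatum) (hD : D ∈ Seven) (W : List ℕ) (hSL : checkSL D = true)
    (h : (chkWord D W && chkSingle D (masks D W) && chkPos D (masks D W)) = true) :
    PairOK D := by
  rw [Bool.and_eq_true, Bool.and_eq_true] at h
  obtain ⟨⟨h1, h2⟩, h3⟩ := h
  constructor
  · intro r hr
    obtain ⟨k, hk⟩ := chkSingle_spec D W h2 r hr
    exact ⟨W.drop k, chkWord_spec D W h1 k, pos_of_posB D hD _ hk⟩
  · intro r s hr hs hsr hsn
    obtain ⟨k, hk1, hk2⟩ := chkPos_spec D W h3 r s hr hs hsr hsn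
    refine ⟨W.drop k, chkWord_spec D W h1 k, pos_of_posB D hD _ hk1, pos_of_posB D hD _ hk2,
      Or.inr ?_⟩
    rw [commTerms_of_SL D hSL, List.length_map]
    rcases chainEntry_length D hSL r s with h4 | ⟨km, h4⟩
    · rw [h4]; simp
    · rw [h4]; simp

theorem pairOK_all (D : ChevalleyDatum) (hD : D ∈ Seven) : PairOK D := by
  have hD' := hD
  simp only [Seven, List.mem_cons, List.not_mem_nil, or_false] at hD
  rcases hD with rfl | rfl | rfl | rfl | rfl | rfl | rfl
  · exact pairOK_of_full _ hD' _ cert_G2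
  · exact pairOK_of_full _ hD' _ cert_B2
  · exact pairOK_of_full _ hD' _ cert_D4
  · exact pairOK_of_full _ hD' _ cert_F4
  · exact pairOK_of_pos _ hD' _ chkSL_E6 cert_E6
  · exact pairOK_of_pos _ hD' _ chkSL_E7 cert_E7
  · exact pairOK_of_pos _ hD' _ chkSL_E8 cert_E8

variable {K : Type*} [Field K]

/-- the conjugate `n_v⁻¹ U n_v` of the positive unipotent subgroup, inside the group -/
def PW (D : ChevalleyDatum) (hD : D ∈ Seven) (v : List ℕ) : Subgroup ↥(D.group K) :=
  ((D.posUnipotent K).map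
    (MulAut.conj ((wGL D hD v : GL D.Idx K)⁻¹)).toMonoidHom).subgroupOf (D.group K)

theorem PW_isPGroup [Fintype K] (p : ℕ) [Fact p.Prime] [CharP K p] (D : ChevalleyDatum)
    (hD : D ∈ Seven) (v : List ℕ) : IsPGroup p (PW (K := K) D hD v) := by
  have hU : IsPGroup p (D.posUnipotent K) := by
    obtain ⟨m, -, hm⟩ := FiniteField.card K p
    apply IsPGroup.of_card (n := (m : ℕ) * (D.nroots / 2))
    rw [card_posUnipotent D hD, hm, ← pow_mul]
  unfold PW Subgroup.subgroupOf
  exact (hU.map _).comap_of_injective _ (Subgroup.subtype_injective _)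

theorem x_mem_PW (D : ChevalleyDatum) (hD : D ∈ Seven) (v : List ℕ) (hv : ∀ i ∈ v, i < D.rank)
    (a : ℕ) (ha : a < D.nroots) (hpos : D.IsPosRoot (wAct D v a)) (t : K) (g : ↥(D.group K))
    (hg : ((g : GL D.Idx K) : Matrix D.Idx D.Idx K) = D.x K a t) : g ∈ PW D hD v := by
  show (g : GL D.Idx K) ∈ (D.posUnipotent K).map
    (MulAut.conj ((wGL D hD v : GL D.Idx K)⁻¹)).toMonoidHom
  rw [Subgroup.mem_map]
  refine ⟨wGL D hD v * (g : GL D.Idx K) * (wGL D hD v)⁻¹, ?_, ?_⟩
  · obtain ⟨ε, -, h⟩ := wGL_conj (F := K) D hD v hv a ha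
    have h1 := h t (g : GL D.Idx K) hg
    exact Subgroup.subset_closure ⟨wAct D v a, ε * t, hpos, h1⟩
  · rw [MulEquiv.coe_toMonoidHom, MulAut.conj_apply]
    group

theorem of_eq_scGen (D : ChevalleyDatum) (a : Fin D.nroots × K) :
    (PresentedGroup.of a : D.SteinbergCover K) = D.scGen K a.1.val a.2 := by
  unfold ChevalleyDatum.scGen ChevalleyDatum.stX
  rw [dif_pos a.1.2]
  rfl

section Rel

variable (D : ChevalleyDatum) (θ : D.SteinbergCover K →* ↥(D.group K))

theorem stX_mem (P : Subgroup ↥(D.group K)) (c : ℕ) (v : K)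
    (h : c < D.nroots → θ (D.scGen K c v) ∈ P) :
    D.stX c v ∈ Subgroup.closure
      (FreeGroup.of '' {a : Fin D.nroots × K | θ (PresentedGroup.of a) ∈ P}) := by
  unfold ChevalleyDatum.stX
  split_ifs with hc
  · apply Subgroup.subset_closure
    refine ⟨(⟨c, hc⟩, v), ?_, rfl⟩
    show θ (PresentedGroup.of (⟨c, hc⟩, v)) ∈ P
    rw [of_eq_scGen]
    exact h hc
  · exact one_mem _

theorem stWord_mem (P : Subgroup ↥(D.group K)) (w : List (ℕ × K))
    (h : ∀ q ∈ w, q.1 < D.nroots → θ (D.scGen K q.1 q.2) ∈ P) :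
    D.stWord w ∈ Subgroup.closure
      (FreeGroup.of '' {a : Fin D.nroots × K | θ (PresentedGroup.of a) ∈ P}) := by
  unfold ChevalleyDatum.stWord
  apply Subgroup.list_prod_mem
  intro x hx
  rw [List.mem_map] at hx
  obtain ⟨q, hq, rfl⟩ := hx
  exact stX_mem D θ P q.1 q.2 (h q hq)

end Rel

/-- **the Chevalley side**: generators map to `p`-elements and every relator of (R1), (R2) has
all its letters mapped into one `p`-subgroup -/
theorem chev_hyps [Fintype K] (p : ℕ) [hp : Fact p.Prime] [CharP K p] (D : ChevalleyDatum)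
    (hD : D ∈ Seven) (θ : D.SteinbergCover K →* ↥(D.group K))
    (hθ : ∀ (r : ℕ) (t : K), r < D.nroots →
      ((θ (D.scGen K r t) : GL D.Idx K) : Matrix D.Idx D.Idx K) = D.x K r t) :
    (∀ a : Fin D.nroots × K, ∃ k : ℕ, (θ (PresentedGroup.of a)) ^ p ^ k = 1) ∧
    (∀ g ∈ D.steinbergRelsAB K, ∃ P : Subgroup ↥(D.group K), IsPGroup p P ∧
      g ∈ Subgroup.closure
        (FreeGroup.of '' {a : Fin D.nroots × K | θ (PresentedGroup.of a) ∈ P})) := by
  obtain ⟨hsingle, hpair⟩ := pairOK_all D hD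
  constructor
  · rintro ⟨⟨r, hr⟩, t⟩
    obtain ⟨v, hv, hpos⟩ := hsingle r hr
    have hmem : θ (PresentedGroup.of (⟨r, hr⟩, t)) ∈ PW (K := K) D hD v := by
      rw [of_eq_scGen]
      exact x_mem_PW D hD v hv r hr hpos t _ (hθ r t hr)
    obtain ⟨k, hk⟩ := (PW_isPGroup p D hD v) ⟨_, hmem⟩
    refine ⟨k, ?_⟩
    have := congrArg Subtype.val hk
    simpa using this
  · intro g hg
    unfold ChevalleyDatum.steinbergRelsAB at hg
    rcases hg with ⟨r, t₁, t₂, hr, rfl⟩ | ⟨r, s, t, u, hr, hs, hsr, hsn, rfl⟩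
    · obtain ⟨v, hv, hpos⟩ := hsingle r hr
      refine ⟨PW D hD v, PW_isPGroup p D hD v, ?_⟩
      have h : ∀ t : K, D.stX r t ∈ Subgroup.closure
          (FreeGroup.of '' {a : Fin D.nroots × K | θ (PresentedGroup.of a) ∈ PW D hD v}) :=
        fun t => stX_mem D θ _ r t (fun _ => x_mem_PW D hD v hv r hr hpos t _ (hθ r t hr))
      exact mul_mem (mul_mem (h t₁) (h t₂)) (inv_mem (h _))
    · obtain ⟨v, hv, hposr, hposs, hc⟩ := hpair r s hr hs hsr hsn
      refine ⟨PW D hD v, PW_isPGroup p D hD v, ?_⟩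
      have hA : D.stX s u ∈ Subgroup.closure
          (FreeGroup.of '' {a : Fin D.nroots × K | θ (PresentedGroup.of a) ∈ PW D hD v}) :=
        stX_mem D θ _ s u (fun _ => x_mem_PW D hD v hv s hs hposs u _ (hθ s u hs))
      have hB : D.stX r t ∈ Subgroup.closure
          (FreeGroup.of '' {a : Fin D.nroots × K | θ (PresentedGroup.of a) ∈ PW D hD v}) :=
        stX_mem D θ _ r t (fun _ => x_mem_PW D hD v hv r hr hposr t _ (hθ r t hr))
      have hAB := mul_mem (mul_mem (mul_mem (inv_mem hA) (inv_mem hB)) hA) hB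
      refine mul_mem hAB (inv_mem ?_)
      rcases hc with hc | hc
      · apply stWord_mem D θ
        intro q hq _
        unfold ChevalleyDatum.commWord at hq
        rw [List.mem_map] at hq
        obtain ⟨c, hcm, rfl⟩ := hq
        obtain ⟨hcn, hcp⟩ := hc c hcm
        exact x_mem_PW D hD v hv c.1 hcn hcp _ _ (hθ c.1 _ hcn)
      · -- at most one letter: it is the commutator of the other two
        have hrel : (PresentedGroup.mk (D.steinbergRelsAB K)
            ((D.stX s u)⁻¹ * (D.stX r t)⁻¹ * D.stX s u * D.stX r t *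
              (D.stWord (D.commWord K r s t u))⁻¹) : D.SteinbergCover K) = 1 :=
          PresentedGroup.one_of_mem (Or.inr ⟨r, s, t, u, hr, hs, hsr, hsn, rfl⟩)
        have hθA : θ (PresentedGroup.mk (D.steinbergRelsAB K) (D.stX s u)) ∈ PW D hD v :=
          x_mem_PW D hD v hv s hs hposs u _ (hθ s u hs)
        have hθB : θ (PresentedGroup.mk (D.steinbergRelsAB K) (D.stX r t)) ∈ PW D hD v :=
          x_mem_PW D hD v hv r hr hposr t _ (hθ r t hr)
        have hW : θ (PresentedGroup.mk (D.steinbergRelsAB K)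
            (D.stWord (D.commWord K r s t u))) ∈ PW D hD v := by
          have h1 : (PresentedGroup.mk (D.steinbergRelsAB K))
              ((D.stX s u)⁻¹ * (D.stX r t)⁻¹ * D.stX s u * D.stX r t)
              = (PresentedGroup.mk (D.steinbergRelsAB K)
                (D.stWord (D.commWord K r s t u))) := by
            have h2 := hrel
            rw [map_mul, map_inv, mul_inv_eq_one] at h2
            exact h2
          rw [← h1]
          simp only [map_mul, map_inv]
          exact mul_mem (mul_mem (mul_mem (inv_mem hθA) (inv_mem hθB)) hθA) hθB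
        unfold ChevalleyDatum.commWord at hW ⊢
        match hct : D.commTerms r s, hc with
        | [], _ =>
          rw [List.map_nil]
          unfold ChevalleyDatum.stWord
          rw [List.map_nil, List.prod_nil]
          exact one_mem _
        | [c], _ =>
          rw [hct, List.map_cons, List.map_nil] at hW
          rw [List.map_cons, List.map_nil]
          unfold ChevalleyDatum.stWord at hW ⊢
          rw [List.map_cons, List.map_nil, List.prod_cons, List.prod_nil, mul_one] at hW ⊢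
          exact stX_mem D θ _ _ _ (fun _ => hW)
        | _ :: _ :: _, hc =>
          exfalso
          simp at hc

end Cfsg.Agent.Lib.Helper1.StLift
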