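import Mathlib

set_option autoImplicit false

/-!
# A finite cover of a finite perfect subgroup of `PGL_n(L)` inside `GL_n(L)` (for S2399)
-/

namespace Cfsg.Agent.Lib.Helper1.StLift

open Matrix

variable {L : Type*} [Field L] {n : ℕ}

theorem scalar_inj_of_pos (hn : 0 < n) (u v : Lˣ)
    (h : GeneralLinearGroup.scalar (Fin n) u = GeneralLinearGroup.scalar (Fin n) v) : u = v := by
  have h1 := congrArg
    (fun g : GL (Fin n) L => (g : Matrix (Fin n) (Fin n) L) ⟨0, hn⟩ ⟨0, hn⟩) h
  simp only [GeneralLinearGroup.coe_scalar, Matrix.scalar_apply, Matrix.diagonal_apply_eq] at h1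
  exact Units.ext h1

/-- the centre of `GL_n(L)` has no `p`-torsion in characteristic `p` -/
theorem center_no_ptorsion (p : ℕ) [hp : Fact p.Prime] [CharP L p] (c : GL (Fin n) L)
    (hc : c ∈ Subgroup.center (GL (Fin n) L)) (h : c ^ p = 1) : c = 1 := by
  rcases Nat.eq_zero_or_pos n with hn | hn
  · subst hn
    exact Subsingleton.elim _ _
  · rw [GeneralLinearGroup.center_eq_range_scalar] at hc
    obtain ⟨u, rfl⟩ := hc
    rw [← map_pow] at h
    have h1 : u ^ p = 1 := scalar_inj_of_pos hn (u ^ p) 1 (h.trans (map_one _).symm)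
    have h2 : ((u : L) - 1) ^ p = 0 := by
      rw [sub_pow_char, one_pow, ← Units.val_pow_eq_pow_val, h1, Units.val_one, sub_self]
    have h3 : (u : L) = 1 := sub_eq_zero.1 (pow_eq_zero_iff hp.out.ne_zero |>.1 h2)
    have h4 : u = 1 := Units.ext h3
    rw [h4, map_one]

/-- a group with a homomorphism with finite kernel and finite range is finite -/
theorem finite_of_ker_range {E Q : Type*} [Group E] [Group Q] (f : E →* Q) [Finite f.ker]
    [Finite f.range] : Finite E := by
  have e1 : E ≃ (E ⧸ f.ker) × f.ker := Subgroup.groupEquivQuotientProdSubgroup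
  have e2 : (E ⧸ f.ker) ≃ f.range := (QuotientGroup.quotientKerEquivRange f).toEquiv
  have : Finite (E ⧸ f.ker) := Finite.of_equiv _ e2.symm
  exact Finite.of_equiv _ e1.symm

/-- a subgroup of `GL_n(L)` of determinant one with finite image in `PGL_n(L)` is finite -/
theorem finite_of_det_one (E1 : Subgroup (GL (Fin n) L))
    (hdet : ∀ e ∈ E1, GeneralLinearGroup.det e = 1)
    (hfin : Finite ((QuotientGroup.mk' (Subgroup.center (GL (Fin n) L))).comp E1.subtype).range) :
    Finite E1 := by
  classical
  rcases Nat.eq_zero_or_pos n with hn | hn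
  · subst hn
    infer_instance
  · have : NeZero n := ⟨hn.ne'⟩
    set ρ := (QuotientGroup.mk' (Subgroup.center (GL (Fin n) L))).comp E1.subtype with hρ
    have hk : ∀ c : ρ.ker, ((c : E1) : GL (Fin n) L) ∈ Subgroup.center (GL (Fin n) L) := by
      intro c
      have h1 : (QuotientGroup.mk' (Subgroup.center (GL (Fin n) L)))
          ((c : E1) : GL (Fin n) L) = 1 := c.2
      rw [QuotientGroup.mk'_apply, QuotientGroup.eq_one_iff] at h1
      exact h1
    have hu : ∀ c : ρ.ker, ∃ u : Lˣ,
        GeneralLinearGroup.scalar (Fin n) u = ((c : E1) : GL (Fin n) L) := by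
      intro c
      have h2 : ((c : E1) : GL (Fin n) L) ∈ (GeneralLinearGroup.scalar (Fin n)).range := by
        rw [← GeneralLinearGroup.center_eq_range_scalar]
        exact hk c
      exact h2
    choose uf huf using hu
    have hroot : ∀ c : ρ.ker, uf c ∈ rootsOfUnity n L := by
      intro c
      rw [mem_rootsOfUnity]
      have h1 := hdet _ ((c : E1)).2
      rw [← huf c] at h1
      have h2 := congrArg Units.val h1
      rw [GeneralLinearGroup.val_det_apply, GeneralLinearGroup.coe_scalar, Matrix.scalar_apply,
        Matrix.det_diagonal, Finset.prod_const, Finset.card_univ, Fintype.card_fin,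
        Units.val_one] at h2
      exact Units.ext (by rw [Units.val_pow_eq_pow_val, h2, Units.val_one])
    have : Finite ρ.ker := by
      apply Finite.of_injective (fun c : ρ.ker => (⟨uf c, hroot c⟩ : rootsOfUnity n L))
      intro c c' h
      have h1 : uf c = uf c' := congrArg Subtype.val h
      apply Subtype.ext
      apply Subtype.ext
      rw [← huf c, ← huf c', h1]
    have : Finite ρ.range := hfin
    exact finite_of_ker_range ρ

/-- **the finite cover**: for a finite perfect group `G` and `φ : G → PGL_n(L)` there is a finite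
subgroup `E1` of `GL_n(L)` covering `range φ` whose kernel is central without `p`-torsion -/
theorem exists_finite_cover (p : ℕ) [hp : Fact p.Prime] [CharP L p] {G : Type*} [Group G]
    [Finite G] (hperf : commutator G = ⊤)
    (φ : G →* GL (Fin n) L ⧸ Subgroup.center (GL (Fin n) L)) :
    ∃ E1 : Subgroup (GL (Fin n) L), Finite E1 ∧
      ((QuotientGroup.mk' (Subgroup.center (GL (Fin n) L))).comp E1.subtype).ker
        ≤ Subgroup.center E1 ∧
      (∀ c ∈ ((QuotientGroup.mk' (Subgroup.center (GL (Fin n) L))).comp E1.subtype).ker,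
        c ^ p = 1 → c = 1) ∧
      φ.range ≤ ((QuotientGroup.mk' (Subgroup.center (GL (Fin n) L))).comp E1.subtype).range := by
  classical
  set Z := Subgroup.center (GL (Fin n) L) with hZ
  set Gh : Subgroup (GL (Fin n) L) := φ.range.comap (QuotientGroup.mk' Z) with hGh
  set E1 : Subgroup (GL (Fin n) L) := ⁅Gh, Gh⁆ with hE1
  have hmap : E1.map (QuotientGroup.mk' Z) = φ.range := by
    rw [hE1, Subgroup.map_commutator, hGh,
      Subgroup.map_comap_eq_self_of_surjective (QuotientGroup.mk'_surjective Z),
      MonoidHom.range_eq_map, ← Subgroup.map_commutator, ← commutator_def, hperf]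
  have hrange : ((QuotientGroup.mk' Z).comp E1.subtype).range = φ.range := by
    rw [MonoidHom.range_comp, Subgroup.range_subtype, hmap]
  have hdet : ∀ e ∈ E1, GeneralLinearGroup.det e = 1 := by
    intro e he
    have h1 : E1 ≤ commutator (GL (Fin n) L) := by
      rw [hE1, commutator_def]
      exact Subgroup.commutator_mono le_top le_top
    have h2 := Abelianization.commutator_subset_ker
      (GeneralLinearGroup.det : GL (Fin n) L →* Lˣ) (h1 he)
    exact h2
  have hfin : Finite E1 := by
    apply finite_of_det_one E1 hdet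
    rw [hrange]
    exact Finite.of_surjective φ.rangeRestrict φ.rangeRestrict_surjective
  refine ⟨E1, hfin, ?_, ?_, ?_⟩
  · intro c hc
    have h1 : (c : GL (Fin n) L) ∈ Z := by
      rw [MonoidHom.mem_ker, MonoidHom.comp_apply, QuotientGroup.mk'_apply,
        QuotientGroup.eq_one_iff] at hc
      exact hc
    rw [Subgroup.mem_center_iff]
    intro y
    apply Subtype.ext
    exact Subgroup.mem_center_iff.1 h1 y
  · intro c hc hcp
    have h1 : (c : GL (Fin n) L) ∈ Z := by
      rw [MonoidHom.mem_ker, MonoidHom.comp_apply, QuotientGroup.mk'_apply,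
        QuotientGroup.eq_one_iff] at hc
      exact hc
    have h2 : (c : GL (Fin n) L) ^ p = 1 := by
      have := congrArg Subtype.val hcp
      simpa using this
    exact Subtype.ext (center_no_ptorsion p _ h1 h2)
  · rw [hrange]

end Cfsg.Agent.Lib.Helper1.StLift
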