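import Mathlib
import Cfsg.Agent.Lib.Helper9.StUniD
import Cfsg.Agent.Lib.Helper5.ChevPerfect
import Cfsg.Agent.Lib.Helper1.StLiftA
import Cfsg.Agent.Lib.Helper1.StLiftGL
import Cfsg.Agent.Lib.Helper1.StLiftChev

set_option autoImplicit false

/-!
# S2399: projective representations in the natural characteristic lift to the Steinberg cover

Over a field with more than four elements this is helper9's universality theorem (S2398); over the
fields with at most four elements the Chevalley group is finite and perfect and the lift is built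
through a finite central extension with `p'`-kernel.
-/

namespace Cfsg.Agent.Lib.Helper1.StLift

open Cfsg Cfsg.Lie Cfsg.Agent.Lib.Helper5.ChevStruct Cfsg.Agent.Lib.Helper5.ChevSym
open scoped MatrixGroups

variable {K : Type*} [Field K]

theorem scGen_mul (D : ChevalleyDatum) (r : ℕ) (hr : r < D.nroots) (t₁ t₂ : K) :
    D.scGen K r t₁ * D.scGen K r t₂ = D.scGen K r (t₁ + t₂) := by
  have h : (PresentedGroup.mk (D.steinbergRelsAB K)
      (D.stX r t₁ * D.stX r t₂ * (D.stX r (t₁ + t₂))⁻¹) : D.SteinbergCover K) = 1 :=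
    PresentedGroup.one_of_mem (Or.inl ⟨r, t₁, t₂, hr, rfl⟩)
  rw [map_mul, map_inv, mul_inv_eq_one, map_mul] at h
  exact h

theorem scGen_zero (D : ChevalleyDatum) (r : ℕ) (hr : r < D.nroots) :
    D.scGen K r 0 = 1 := by
  have h := scGen_mul (K := K) D r hr 0 0
  rw [add_zero] at h
  exact mul_eq_left.1 h

theorem scGen_pow (D : ChevalleyDatum) (r : ℕ) (hr : r < D.nroots) (t : K) (m : ℕ) :
    (D.scGen K r t) ^ m = D.scGen K r (m • t) := by
  induction m with
  | zero => rw [pow_zero, zero_smul, scGen_zero D r hr]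
  | succ m ih => rw [pow_succ, ih, scGen_mul D r hr, succ_nsmul]

theorem scGen_pow_char (p : ℕ) [CharP K p] (D : ChevalleyDatum) (r : ℕ) (hr : r < D.nroots)
    (t : K) : (D.scGen K r t) ^ p = 1 := by
  rw [scGen_pow D r hr, nsmul_eq_mul, CharP.cast_eq_zero, zero_mul, scGen_zero D r hr]

/-- **S2399** -/
theorem steinberg_cover_projective_lift (D : ChevalleyDatum)
    (hD : D ∈ [chevG2, chevB2, chevD4, chevF4, chevE6, chevE7, chevE8])
    (hK : D ∈ [chevB2, chevG2] → ∃ x : K, x ≠ 0 ∧ x ≠ 1)
    (θ : D.SteinbergCover K →* ↥(D.group K))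
    (hθ : ∀ (r : ℕ) (t : K), r < D.nroots →
      ((θ (D.scGen K r t) : GL D.Idx K) : Matrix D.Idx D.Idx K) = D.x K r t)
    {L : Type*} [Field L] (hL : ringChar L = ringChar K) {n : ℕ}
    (φ : ↥(D.group K) →* GL (Fin n) L ⧸ Subgroup.center (GL (Fin n) L)) :
    ∃! ψ : D.SteinbergCover K →* GL (Fin n) L,
      (QuotientGroup.mk' (Subgroup.center (GL (Fin n) L))).comp ψ = φ.comp θ := by
  classical
  by_cases hK5 : ∃ s : Finset K, 4 < s.card
  · exact Cfsg.Agent.Lib.Helper9.StUni.steinberg_cover_lift_unique hK5 D hD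
      (QuotientGroup.mk' (Subgroup.center (GL (Fin n) L)))
      (QuotientGroup.mk'_surjective _) (by rw [QuotientGroup.ker_mk']) (φ.comp θ)
  · have hfin : Finite K := by
      by_contra hinf
      rw [not_finite_iff_infinite] at hinf
      obtain ⟨s, hs⟩ := Infinite.exists_subset_card_eq K 5
      exact hK5 ⟨s, by omega⟩
    haveI := Fintype.ofFinite K
    have hcK : CharP K (ringChar K) := ringChar.charP K
    have hpp : Fact (ringChar K).Prime := ⟨CharP.char_is_prime K (ringChar K)⟩
    have hcL : CharP L (ringChar K) := ringChar.of_eq hL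
    have hperf : commutator ↥(D.group K) = ⊤ := by
      apply group_perfect D hD
      intro h
      apply hK
      rcases h with rfl | rfl <;> simp
    obtain ⟨E1, hE1fin, hker, htor, hrange⟩ := exists_finite_cover (ringChar K) hperf φ
    have := hE1fin
    obtain ⟨hgen, hrel⟩ := chev_hyps (ringChar K) D hD θ hθ
    obtain ⟨ψ₁, hψ₁⟩ := exists_presented_lift
      ((QuotientGroup.mk' (Subgroup.center (GL (Fin n) L))).comp E1.subtype) φ hker htor hrange
      (D.steinbergRelsAB K) θ hgen hrel
    refine ⟨E1.subtype.comp ψ₁, ?_, ?_⟩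
    · exact MonoidHom.ext fun d => hψ₁ d
    · intro ψ₂ hψ₂
      apply PresentedGroup.ext
      rintro ⟨⟨r, hr⟩, t⟩
      have e1 : (PresentedGroup.of (⟨⟨r, hr⟩, t⟩ : Fin D.nroots × K) : D.SteinbergCover K)
          = D.scGen K r t := of_eq_scGen D _
      set g := (PresentedGroup.of (⟨⟨r, hr⟩, t⟩ : Fin D.nroots × K) : D.SteinbergCover K) with hg
      have hgp : g ^ (ringChar K) = 1 := by
        rw [e1]
        exact scGen_pow_char (ringChar K) D r hr t
      set y := (E1.subtype.comp ψ₁) g with hy
      set y₂ := ψ₂ g with hy₂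
      have h1 : (QuotientGroup.mk' (Subgroup.center (GL (Fin n) L))) y₂
          = (QuotientGroup.mk' (Subgroup.center (GL (Fin n) L))) y := by
        have ha := DFunLike.congr_fun hψ₂ g
        have hb : (QuotientGroup.mk' (Subgroup.center (GL (Fin n) L))) y = φ (θ g) := hψ₁ g
        rw [hb]
        exact ha
      have hc : y⁻¹ * y₂ ∈ Subgroup.center (GL (Fin n) L) := by
        rw [← QuotientGroup.eq]
        exact h1.symm
      have hyp : y ^ (ringChar K) = 1 := by
        rw [hy, ← map_pow, hgp, map_one]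
      have hy₂p : y₂ ^ (ringChar K) = 1 := by
        rw [hy₂, ← map_pow, hgp, map_one]
      have hcomm : Commute y (y⁻¹ * y₂) := (Subgroup.mem_center_iff.1 hc y)
      have e2 : y₂ = y * (y⁻¹ * y₂) := by group
      have hcp : (y⁻¹ * y₂) ^ (ringChar K) = 1 := by
        have h3 := hy₂p
        rw [e2, hcomm.mul_pow, hyp, one_mul] at h3
        exact h3
      have h4 := center_no_ptorsion (ringChar K) _ hc hcp
      rw [e2, h4, mul_one]

end Cfsg.Agent.Lib.Helper1.StLift
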