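import Mathlib

set_option autoImplicit false

/-!
S2401 farm (the Steinberg presentation of `SL_n` over a finite field, `n ≥ 3`): the common
definitions.  `St n K` is the presented group of the frozen statement, `x i j t` its generators
(`1` if `i = j`), `w i j t = x_ij(t) x_ji(-t⁻¹) x_ij(t)`, `h i j t = w_ij(t) w_ij(-1)`, and
`phi : St n K →* SL_n(K)` sends `x i j t` to the transvection `1 + t E_ij`.
-/

namespace Cfsg.Agent.Lib.Helper1.StSL

open Matrix

/-- the pairs `(i, j)` with `i ≠ j` -/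
abbrev Idx (n : ℕ) := {ij : Fin n × Fin n // ij.1 ≠ ij.2}

/-- the relators of the frozen statement S2401 -/
def rels (n : ℕ) (K : Type*) [Field K] : Set (FreeGroup (Idx n × K)) :=
  {g : FreeGroup ({ij : Fin n × Fin n // ij.1 ≠ ij.2} × K) |
      ∃ (a : {ij : Fin n × Fin n // ij.1 ≠ ij.2}) (t u : K),
        g = FreeGroup.of (a, t) * FreeGroup.of (a, u) * (FreeGroup.of (a, t + u))⁻¹} ∪
    {g | ∃ (a b : {ij : Fin n × Fin n // ij.1 ≠ ij.2}) (t u : K),
        a.1.1 ≠ b.1.2 ∧ a.1.2 ≠ b.1.1 ∧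
        g = FreeGroup.of (a, t) * FreeGroup.of (b, u) * (FreeGroup.of (a, t))⁻¹ *
          (FreeGroup.of (b, u))⁻¹} ∪
    {g | ∃ (a b : {ij : Fin n × Fin n // ij.1 ≠ ij.2}) (h : a.1.1 ≠ b.1.2) (t u : K),
        a.1.2 = b.1.1 ∧
        g = FreeGroup.of (a, t) * FreeGroup.of (b, u) * (FreeGroup.of (a, t))⁻¹ *
          (FreeGroup.of (b, u))⁻¹ * (FreeGroup.of (⟨(a.1.1, b.1.2), h⟩, t * u))⁻¹}

/-- the Steinberg group `St_n(K)` -/
abbrev St (n : ℕ) (K : Type*) [Field K] := PresentedGroup (rels n K)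

variable {n : ℕ} {K : Type*} [Field K]

/-- the generator `x_ij(t)` (`1` if `i = j`) -/
def x (i j : Fin n) (t : K) : St n K :=
  if h : i ≠ j then PresentedGroup.of (⟨(i, j), h⟩, t) else 1

theorem x_def {i j : Fin n} (h : i ≠ j) (t : K) :
    x i j t = (PresentedGroup.of (⟨(i, j), h⟩, t) : St n K) := by
  unfold x
  rw [dif_pos h]

theorem x_of (a : Idx n) (t : K) :
    (PresentedGroup.of (a, t) : St n K) = x a.1.1 a.1.2 t := by
  rw [x_def a.2]

/-- (R1) -/
theorem x_add {i j : Fin n} (h : i ≠ j) (t u : K) : x i j t * x i j u = x i j (t + u) := by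
  rw [x_def h, x_def h, x_def h]
  have hr : FreeGroup.of ((⟨(i, j), h⟩ : Idx n), t) * FreeGroup.of ((⟨(i, j), h⟩ : Idx n), u)
      * (FreeGroup.of ((⟨(i, j), h⟩ : Idx n), t + u))⁻¹ ∈ rels n K :=
    Or.inl (Or.inl ⟨⟨(i, j), h⟩, t, u, rfl⟩)
  have := PresentedGroup.one_of_mem hr
  rw [map_mul, map_mul, map_inv, mul_inv_eq_one] at this
  exact this

theorem x_zero (i j : Fin n) : x i j (0 : K) = 1 := by
  by_cases h : i ≠ j
  · have := x_add h (0 : K) 0
    rw [add_zero] at this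
    exact mul_eq_left.mp this
  · unfold x
    rw [dif_neg h]

theorem x_inv (i j : Fin n) (t : K) : (x i j t)⁻¹ = x i j (-t) := by
  by_cases h : i ≠ j
  · rw [inv_eq_iff_mul_eq_one, x_add h, add_neg_cancel, x_zero]
  · unfold x
    rw [dif_neg h, dif_neg h, inv_one]

/-- (R2), commuting case -/
theorem x_comm {i j k l : Fin n} (hij : i ≠ j) (hkl : k ≠ l) (hil : i ≠ l) (hjk : j ≠ k)
    (t u : K) : x i j t * x k l u = x k l u * x i j t := by
  rw [x_def hij, x_def hkl]
  have hr : FreeGroup.of ((⟨(i, j), hij⟩ : Idx n), t) * FreeGroup.of ((⟨(k, l), hkl⟩ : Idx n), u)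
      * (FreeGroup.of ((⟨(i, j), hij⟩ : Idx n), t))⁻¹
      * (FreeGroup.of ((⟨(k, l), hkl⟩ : Idx n), u))⁻¹ ∈ rels n K :=
    Or.inl (Or.inr ⟨⟨(i, j), hij⟩, ⟨(k, l), hkl⟩, t, u, hil, hjk, rfl⟩)
  have := PresentedGroup.one_of_mem hr
  rw [map_mul, map_mul, map_mul, map_inv, map_inv, mul_inv_eq_one, mul_inv_eq_iff_eq_mul] at this
  exact this

/-- (R2), the commutator `[x_ij(t), x_jl(u)] = x_il(tu)` -/
theorem x_comm_mid {i j l : Fin n} (hij : i ≠ j) (hjl : j ≠ l) (hil : i ≠ l) (t u : K) :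
    x i j t * x j l u * (x i j t)⁻¹ * (x j l u)⁻¹ = x i l (t * u) := by
  rw [x_def hij, x_def hjl, x_def hil]
  have hr : FreeGroup.of ((⟨(i, j), hij⟩ : Idx n), t) * FreeGroup.of ((⟨(j, l), hjl⟩ : Idx n), u)
      * (FreeGroup.of ((⟨(i, j), hij⟩ : Idx n), t))⁻¹
      * (FreeGroup.of ((⟨(j, l), hjl⟩ : Idx n), u))⁻¹
      * (FreeGroup.of ((⟨(i, l), hil⟩ : Idx n), t * u))⁻¹ ∈ rels n K :=
    Or.inr ⟨⟨(i, j), hij⟩, ⟨(j, l), hjl⟩, hil, t, u, rfl, rfl⟩
  have := PresentedGroup.one_of_mem hr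
  rw [map_mul, map_mul, map_mul, map_mul, map_inv, map_inv, map_inv, mul_inv_eq_one] at this
  exact this

/-- the generators generate -/
theorem closure_x_eq_top :
    Subgroup.closure {g : St n K | ∃ (i j : Fin n) (_ : i ≠ j) (t : K), g = x i j t} = ⊤ := by
  rw [eq_top_iff, ← PresentedGroup.closure_range_of]
  apply Subgroup.closure_mono
  rintro g ⟨⟨a, t⟩, rfl⟩
  exact ⟨a.1.1, a.1.2, a.2, t, x_of a t⟩

/-- `w_ij(t) = x_ij(t) x_ji(-t⁻¹) x_ij(t)` -/
def w (i j : Fin n) (t : K) : St n K := x i j t * x j i (-t⁻¹) * x i j t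

/-- `h_ij(t) = w_ij(t) w_ij(-1)` -/
def h (i j : Fin n) (t : K) : St n K := w i j t * w i j (-1)

/-- the transvection as an element of `SL_n` -/
def tv (i j : Fin n) (t : K) : SpecialLinearGroup (Fin n) K :=
  if hij : i ≠ j then
    (⟨transvection i j t, det_transvection_of_ne i j hij t⟩ : SpecialLinearGroup (Fin n) K)
  else 1

theorem sl_ext {A B : SpecialLinearGroup (Fin n) K} (h : A.val = B.val) : A = B := Subtype.ext h

theorem tv_val {i j : Fin n} (hij : i ≠ j) (t : K) : (tv i j t).val = transvection i j t := by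
  simp [tv, hij]

theorem tv_add {i j : Fin n} (hij : i ≠ j) (t u : K) : tv i j t * tv i j u = tv i j (t + u) := by
  apply sl_ext
  show (tv i j t).val * (tv i j u).val = _
  rw [tv_val hij, tv_val hij, tv_val hij, transvection_mul_transvection_same i j hij]

theorem tv_zero (i j : Fin n) : tv i j (0 : K) = 1 := by
  by_cases hij : i ≠ j
  · apply sl_ext
    rw [tv_val hij, transvection_zero]
    rfl
  · simp [tv, hij]

theorem tv_inv {i j : Fin n} (hij : i ≠ j) (t : K) : (tv i j t)⁻¹ = tv i j (-t) := by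
  rw [inv_eq_iff_mul_eq_one, tv_add hij, add_neg_cancel, tv_zero]

theorem tv_comm {i j k l : Fin n} (hij : i ≠ j) (hkl : k ≠ l) (hil : i ≠ l) (hjk : j ≠ k)
    (t u : K) : tv i j t * tv k l u = tv k l u * tv i j t := by
  apply sl_ext
  show (tv i j t).val * (tv k l u).val = (tv k l u).val * (tv i j t).val
  rw [tv_val hij, tv_val hkl]
  unfold transvection
  rw [Matrix.add_mul, Matrix.mul_add, Matrix.mul_add, Matrix.add_mul, Matrix.mul_add,
    Matrix.mul_add, single_mul_single_of_ne _ _ _ _ hjk, single_mul_single_of_ne _ _ _ _ hil.symm]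
  simp only [Matrix.one_mul, Matrix.mul_one]
  abel

theorem tv_comm_mid {i j l : Fin n} (hij : i ≠ j) (hjl : j ≠ l) (hil : i ≠ l) (t u : K) :
    tv i j t * tv j l u * (tv i j t)⁻¹ * (tv j l u)⁻¹ = tv i l (t * u) := by
  rw [tv_inv hij, tv_inv hjl]
  apply sl_ext
  show (tv i j t).val * (tv j l u).val * (tv i j (-t)).val * (tv j l (-u)).val = _
  rw [tv_val hij, tv_val hjl, tv_val hij, tv_val hjl, tv_val hil]
  unfold transvection
  simp only [Matrix.add_mul, Matrix.mul_add, Matrix.one_mul, Matrix.mul_one,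
    single_mul_single_same, single_mul_single_of_ne _ _ _ _ hij.symm,
    single_mul_single_of_ne _ _ _ _ hjl.symm, single_mul_single_of_ne _ _ _ _ hil.symm,
    add_zero]
  simp only [mul_neg, neg_mul, neg_neg, ← Matrix.single_neg]
  abel

/-- the homomorphism `St_n(K) → SL_n(K)` -/
def phi (n : ℕ) (K : Type*) [Field K] : St n K →* SpecialLinearGroup (Fin n) K :=
  PresentedGroup.toGroup (f := fun p : Idx n × K => tv p.1.1.1 p.1.1.2 p.2) (by
    intro r hr
    rcases hr with (⟨a, t, u, rfl⟩ | ⟨a, b, t, u, h1, h2, rfl⟩) | ⟨a, b, h1, t, u, h2, rfl⟩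
    · simp only [map_mul, map_inv, FreeGroup.lift_apply_of]
      rw [tv_add a.2, mul_inv_cancel]
    · simp only [map_mul, map_inv, FreeGroup.lift_apply_of]
      rw [tv_comm a.2 b.2 h1 h2, mul_inv_cancel_right, mul_inv_cancel]
    · simp only [map_mul, map_inv, FreeGroup.lift_apply_of]
      have hb := b.2
      rw [← h2] at hb
      have := tv_comm_mid (K := K) a.2 hb h1 t u
      rw [mul_inv_eq_one]
      convert this using 3
      all_goals first | rfl | (rw [h2]))

theorem phi_x {i j : Fin n} (hij : i ≠ j) (t : K) : phi n K (x i j t) = tv i j t := by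
  rw [x_def hij]
  unfold phi
  rw [PresentedGroup.toGroup.of]

theorem phi_x_val {i j : Fin n} (hij : i ≠ j) (t : K) :
    (phi n K (x i j t)).val = transvection i j t := by
  rw [phi_x hij, tv_val hij]

end Cfsg.Agent.Lib.Helper1.StSL
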