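import Mathlib
import Cfsg.Agent.Lib.Helper6.StSLDefs
import Cfsg.Agent.Lib.Helper2.StSLW

set_option autoImplicit false

/-!
Farm STSL (statement S2401), unit H1: the torus elements `h_ij(t)` of a group with Steinberg
generators of type `A`: conjugation of the generators, `h_ij(1) = 1`, `w_ij(t) = h_ij(t) w_ij(1)`,
and the matrix of `h_ij(t)`.
-/

namespace Cfsg.Agent.Lib.Helper1.StSL

open Matrix Cfsg.Agent.Lib.Helper6.StSL

set_option linter.unusedSectionVars false

variable {I : Type*} [DecidableEq I] [Fintype I] {K : Type*} [Field K] {Γ : Type*} [Group Γ]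
  (S : StA I K Γ)

/-- the constants of `w_ij(t) w_ij(-1)` -/
theorem wc_mul_wc_eq_chi {i j : I} (hij : i ≠ j) {t : K} (ht : t ≠ 0) (k : I) :
    wc i j t (Equiv.swap i j k) * wc i j (-1 : K) k = chi i j t k := by
  by_cases hki : k = i
  · subst hki
    rw [Equiv.swap_apply_left]
    simp only [wc, chi, if_true, hij, hij.symm, if_false]
    field_simp
  · by_cases hkj : k = j
    · subst hkj
      rw [Equiv.swap_apply_right]
      simp only [wc, chi, if_true, hij, hij.symm, if_false]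
      field_simp
    · rw [Equiv.swap_apply_of_ne_of_ne hki hkj]
      simp only [wc, chi, if_false, hki, hkj]
      simp

theorem wcA_ne_zero (i j : I) {t : K} (ht : t ≠ 0) (k : I) : wc i j t k ≠ 0 := by
  unfold wc
  split_ifs <;> simp [ht]

theorem chiA_ne_zero (i j : I) {t : K} (ht : t ≠ 0) (k : I) : chi i j t k ≠ 0 := by
  unfold chi
  split_ifs <;> simp [ht]

theorem h_conj (h3 : 3 ≤ Fintype.card I) {i j : I} (hij : i ≠ j) {t : K} (ht : t ≠ 0)
    {k l : I} (hkl : k ≠ l) (u : K) :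
    S.h i j t * S.x k l u * (S.h i j t)⁻¹ = S.x k l (chi i j t k * (chi i j t l)⁻¹ * u) := by
  have h1 : (-1 : K) ≠ 0 := neg_ne_zero.2 one_ne_zero
  have hkl' : Equiv.swap i j k ≠ Equiv.swap i j l := fun h => hkl ((Equiv.swap i j).injective h)
  unfold StA.h
  have e : S.w i j t * S.w i j (-1) * S.x k l u * (S.w i j t * S.w i j (-1))⁻¹
      = S.w i j t * (S.w i j (-1) * S.x k l u * (S.w i j (-1))⁻¹) * (S.w i j t)⁻¹ := by group
  rw [e, Cfsg.Agent.Lib.Helper2.StSL.w_conj S h3 hij h1 hkl,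
    Cfsg.Agent.Lib.Helper2.StSL.w_conj S h3 hij ht hkl', Equiv.swap_apply_self,
    Equiv.swap_apply_self]
  congr 1
  rw [← wc_mul_wc_eq_chi hij ht k, ← wc_mul_wc_eq_chi hij ht l]
  have a1 := wcA_ne_zero i j ht (Equiv.swap i j l)
  have a2 := wcA_ne_zero i j h1 l
  field_simp

theorem h_one {i j : I} (hij : i ≠ j) : S.h i j 1 = 1 := by
  unfold StA.h
  rw [← Cfsg.Agent.Lib.Helper2.StSL.w_inv S hij, mul_inv_cancel]

theorem w_eq_h_mul {i j : I} (hij : i ≠ j) (t : K) : S.w i j t = S.h i j t * S.w i j 1 := by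
  unfold StA.h
  rw [← Cfsg.Agent.Lib.Helper2.StSL.w_inv S hij, inv_mul_cancel_right]

theorem π_h {i j : I} (hij : i ≠ j) {t : K} (ht : t ≠ 0) :
    ((S.π (S.h i j t) : Matrix.SpecialLinearGroup I K) : Matrix I I K) =
      Matrix.diagonal (chi i j t) := by
  have h1 : (-1 : K) ≠ 0 := neg_ne_zero.2 one_ne_zero
  have key : ∀ k : I,
      ((S.π (S.h i j t) : Matrix.SpecialLinearGroup I K) : Matrix I I K) *ᵥ (Pi.single k 1) =
        Pi.single k (chi i j t k) := by
    intro k
    unfold StA.h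
    rw [map_mul, Matrix.SpecialLinearGroup.coe_mul, ← Matrix.mulVec_mulVec,
      Cfsg.Agent.Lib.Helper2.StSL.π_w S hij h1 k]
    have e : (Pi.single (Equiv.swap i j k) (wc i j (-1 : K) k) : I → K)
        = wc i j (-1 : K) k • Pi.single (Equiv.swap i j k) 1 := by
      rw [← Pi.single_smul, smul_eq_mul, mul_one]
    rw [e, Matrix.mulVec_smul, Cfsg.Agent.Lib.Helper2.StSL.π_w S hij ht, Equiv.swap_apply_self,
      ← Pi.single_smul, smul_eq_mul, mul_comm, wc_mul_wc_eq_chi hij ht k]
  ext a b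
  have := congrFun (key b) a
  rw [Matrix.mulVec_single_one] at this
  rw [Matrix.diagonal_apply]
  simp only [Matrix.col_apply] at this
  rw [this, Pi.single_apply]
  by_cases hab : a = b
  · subst hab; simp
  · simp [hab]

end Cfsg.Agent.Lib.Helper1.StSL
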