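import Mathlib
import Cfsg.Agent.Lib.Helper6.StSLD2b
import Cfsg.Agent.Lib.Helper2.StSLW
import Cfsg.Agent.Lib.Helper1.StSLH1

set_option autoImplicit false
set_option linter.unusedSectionVars false
set_option linter.unusedVariables false

/-!
Farm STSL (statement S2401), unit K1a: ingredients of the kernel half of D2.
The column group `C` and the row group `R` are detected by the `a`-th column, resp. row, of the
matrix; `Sg` fixes `e_a`; `T` is diagonal; the translated cells `w_ak(1) Z₀` miss the kernel.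
-/

namespace Cfsg.Agent.Lib.Helper1.StSL

open Matrix Cfsg.Agent.Lib.Helper6.StSL

/-! ### an abstract injectivity lemma for a commutative group with coordinates -/

section abstract

variable {G : Type*} [Group G] {I : Type*} [DecidableEq I] {K : Type*} [Field K]
  (gen : I → K → G) (a : I) (ev : G → I → K)

/-- the subgroup generated by the `gen m u`, `m ∈ F` -/
def CF (F : Finset I) : Subgroup G := Subgroup.closure {g | ∃ (m : I) (u : K), m ∈ F ∧ g = gen m u}

variable (F0 : Finset I)
  (hadd : ∀ m ∈ F0, ∀ t u, gen m t * gen m u = gen m (t + u))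
  (hcomm : ∀ m ∈ F0, ∀ m' ∈ F0, ∀ t u, gen m t * gen m' u = gen m' u * gen m t)

include hadd in
theorem gen_zero (m : I) (hm : m ∈ F0) : gen m 0 = 1 := by
  have := hadd m hm 0 0
  rw [add_zero] at this
  exact mul_eq_left.1 this

include hadd in
theorem gen_inv (m : I) (hm : m ∈ F0) (t : K) : (gen m t)⁻¹ = gen m (-t) := by
  rw [inv_eq_iff_mul_eq_one, hadd m hm, add_neg_cancel, gen_zero gen F0 hadd m hm]

include hadd in
theorem CF_gens_inv (F : Finset I) (hF : F ⊆ F0) :
    ∀ x ∈ {g : G | ∃ (m : I) (u : K), m ∈ F ∧ g = gen m u},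
      x⁻¹ ∈ {g : G | ∃ (m : I) (u : K), m ∈ F ∧ g = gen m u} := by
  rintro x ⟨m, u, hm, rfl⟩
  exact ⟨m, -u, hm, gen_inv gen F0 hadd m (hF hm) u⟩

theorem CF_mono {F F' : Finset I} (h : F ⊆ F') : CF gen F ≤ CF gen F' := by
  apply Subgroup.closure_mono
  rintro g ⟨m, u, hm, rfl⟩
  exact ⟨m, u, h hm, rfl⟩

include hadd hcomm in
theorem CF_split (F : Finset I) (j : I) (hF : insert j F ⊆ F0) :
    ∀ c ∈ CF gen (insert j F), ∃ u : K, ∃ c' ∈ CF gen F, c = gen j u * c' := by
  have hj0 : j ∈ F0 := hF (Finset.mem_insert_self j F)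
  apply closure_induction_left' _ (CF_gens_inv gen F0 hadd _ hF)
  · exact ⟨0, 1, one_mem _, by rw [gen_zero gen F0 hadd j hj0, one_mul]⟩
  · rintro x ⟨m, s, hm, rfl⟩ y ⟨u, c', hc', rfl⟩
    rcases Finset.mem_insert.1 hm with rfl | hm
    · exact ⟨s + u, c', hc', by rw [← mul_assoc, hadd m hj0]⟩
    · refine ⟨u, gen m s * c', mul_mem (Subgroup.subset_closure ⟨m, s, hm, rfl⟩) hc', ?_⟩
      rw [← mul_assoc, ← mul_assoc, hcomm m (hF (Finset.mem_insert_of_mem hm)) j hj0]

variable (hev1 : ev 1 = Pi.single a 1)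
  (hev : ∀ m ∈ F0, ∀ (s : K) (y : G), y ∈ CF gen F0 → ∀ k,
    ev (gen m s * y) k = ev y k + if k = m then s * ev y a else 0)

include hadd hev1 hev in
theorem CF_coords (F : Finset I) (hF : F ⊆ F0) :
    ∀ c ∈ CF gen F, ∀ k, k ∉ F → ev c k = (Pi.single a 1 : I → K) k := by
  have key : ∀ c ∈ CF gen F, c ∈ CF gen F ∧ ∀ k, k ∉ F → ev c k = (Pi.single a 1 : I → K) k := by
    apply closure_induction_left' _ (CF_gens_inv gen F0 hadd _ hF)
    · exact ⟨one_mem _, fun k _ => by rw [hev1]⟩
    · rintro x ⟨m, s, hm, rfl⟩ y ⟨hy, ih⟩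
      refine ⟨mul_mem (Subgroup.subset_closure ⟨m, s, hm, rfl⟩) hy, fun k hk => ?_⟩
      rw [hev m (hF hm) s y (CF_mono gen hF hy) k, ih k hk]
      have : k ≠ m := fun h => hk (h ▸ hm)
      rw [if_neg this, add_zero]
  exact fun c hc => (key c hc).2

include hadd hcomm hev1 hev in
theorem CF_inj_aux (ha : a ∉ F0) (F : Finset I) (hF : F ⊆ F0) :
    ∀ c ∈ CF gen F, (∀ m ∈ F, ev c m = 0) → c = 1 := by
  induction F using Finset.induction_on with
  | empty =>
    intro c hc _
    have : CF gen (∅ : Finset I) = (⊥ : Subgroup G) := by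
      unfold CF
      rw [Subgroup.closure_eq_bot_iff]
      rintro g ⟨m, u, hm, rfl⟩
      exact absurd hm (Finset.notMem_empty m)
    rw [this] at hc
    exact Subgroup.mem_bot.1 hc
  | insert j F hj ih =>
    intro c hc h0
    have hF' : F ⊆ F0 := fun m hm => hF (Finset.mem_insert_of_mem hm)
    have hj0 : j ∈ F0 := hF (Finset.mem_insert_self j F)
    have hja : j ≠ a := fun h => ha (h ▸ hj0)
    obtain ⟨u, c', hc', rfl⟩ := CF_split gen F0 hadd hcomm F j hF c hc
    have hcoord := CF_coords gen a ev F0 hadd hev1 hev F hF' c' hc'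
    have e1 := hev j hj0 u c' (CF_mono gen hF' hc') j
    rw [if_pos rfl, hcoord j hj, hcoord a (fun h => ha (hF' h)), Pi.single_eq_same,
      Pi.single_eq_of_ne hja, zero_add, mul_one, h0 j (Finset.mem_insert_self j F)] at e1
    rw [← e1, gen_zero gen F0 hadd j hj0, one_mul]
    apply ih hF' c' hc'
    intro m hm
    have e2 := hev j hj0 u c' (CF_mono gen hF' hc') m
    have hmj : m ≠ j := fun h => hj (h ▸ hm)
    rw [if_neg hmj, add_zero, h0 m (Finset.mem_insert_of_mem hm)] at e2
    exact e2.symm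

include hadd hcomm hev1 hev in
theorem CF_inj (ha : a ∉ F0) (c : G) (hc : c ∈ CF gen F0) (h1 : ev c = Pi.single a 1) : c = 1 := by
  apply CF_inj_aux gen a ev F0 hadd hcomm hev1 hev ha F0 (Finset.Subset.refl _) c hc
  intro m hm
  rw [h1]
  exact Pi.single_eq_of_ne (fun h => ha (by rw [← h]; exact hm)) _

end abstract

variable {I : Type*} [DecidableEq I] [Fintype I] {K : Type*} [Field K] {Γ : Type*} [Group Γ]
  (S : StA I K Γ) (J : Finset I) (a : I)

/-! ### transvections on a column / a row -/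

theorem transvection_mulVec_apply (m a : I) (s : K) (v : I → K) (k : I) :
    (Matrix.transvection m a s *ᵥ v) k = v k + if k = m then s * v a else 0 := by
  unfold Matrix.transvection
  rw [Matrix.add_mulVec, Matrix.one_mulVec, Pi.add_apply]
  congr 1
  by_cases hk : k = m
  · subst hk
    rw [if_pos rfl]
    simp [Matrix.mulVec, dotProduct, Matrix.single_apply]
  · rw [if_neg hk]
    simp [Matrix.mulVec, dotProduct, Ne.symm hk]

theorem vecMul_transvection_apply (a m : I) (s : K) (v : I → K) (k : I) :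
    (v ᵥ* Matrix.transvection a m s) k = v k + if k = m then s * v a else 0 := by
  unfold Matrix.transvection
  rw [Matrix.vecMul_add, Matrix.vecMul_one, Pi.add_apply]
  congr 1
  by_cases hk : k = m
  · subst hk
    rw [if_pos rfl]
    simp [Matrix.vecMul, dotProduct, Matrix.single_apply, mul_comm]
  · rw [if_neg hk]
    simp [Matrix.vecMul, dotProduct, Ne.symm hk]

theorem Csub_eq_CF : Csub S J a = CF (fun m u => S.x m a u) (J.erase a) := rfl

theorem Rsub_eq_CF : Rsub S J a = CF (fun m u => S.x a m u) (J.erase a) := rfl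

theorem π_mul_mulVec (g g' : Γ) (v : I → K) :
    ((S.π (g * g') : Matrix.SpecialLinearGroup I K) : Matrix I I K) *ᵥ v =
      ((S.π g : Matrix.SpecialLinearGroup I K) : Matrix I I K) *ᵥ
        (((S.π g' : Matrix.SpecialLinearGroup I K) : Matrix I I K) *ᵥ v) := by
  rw [map_mul, Matrix.SpecialLinearGroup.coe_mul, Matrix.mulVec_mulVec]

theorem vecMul_π_mul (g g' : Γ) (v : I → K) :
    v ᵥ* ((S.π (g * g') : Matrix.SpecialLinearGroup I K) : Matrix I I K) =
      (v ᵥ* ((S.π g : Matrix.SpecialLinearGroup I K) : Matrix I I K)) ᵥ*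
        ((S.π g' : Matrix.SpecialLinearGroup I K) : Matrix I I K) := by
  rw [map_mul, Matrix.SpecialLinearGroup.coe_mul, Matrix.vecMul_vecMul]

theorem π_one_mulVec (v : I → K) :
    ((S.π 1 : Matrix.SpecialLinearGroup I K) : Matrix I I K) *ᵥ v = v := by
  rw [map_one, Matrix.SpecialLinearGroup.coe_one, Matrix.one_mulVec]

theorem vecMul_π_one (v : I → K) :
    v ᵥ* ((S.π 1 : Matrix.SpecialLinearGroup I K) : Matrix I I K) = v := by
  rw [map_one, Matrix.SpecialLinearGroup.coe_one, Matrix.vecMul_one]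

theorem C_hadd : ∀ m ∈ J.erase a, ∀ t u : K, S.x m a t * S.x m a u = S.x m a (t + u) :=
  fun m hm t u => S.x_add m a (Finset.ne_of_mem_erase hm) t u

theorem C_hcomm : ∀ m ∈ J.erase a, ∀ m' ∈ J.erase a, ∀ t u : K,
    S.x m a t * S.x m' a u = S.x m' a u * S.x m a t :=
  fun m hm m' hm' t u => S.comm_ne m a m' a (Finset.ne_of_mem_erase hm)
    (Finset.ne_of_mem_erase hm') (Finset.ne_of_mem_erase hm) (Finset.ne_of_mem_erase hm').symm t u

theorem R_hadd : ∀ m ∈ J.erase a, ∀ t u : K, S.x a m t * S.x a m u = S.x a m (t + u) :=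
  fun m hm t u => S.x_add a m (Finset.ne_of_mem_erase hm).symm t u

theorem R_hcomm : ∀ m ∈ J.erase a, ∀ m' ∈ J.erase a, ∀ t u : K,
    S.x a m t * S.x a m' u = S.x a m' u * S.x a m t :=
  fun m hm m' hm' t u => S.comm_ne a m a m' (Finset.ne_of_mem_erase hm).symm
    (Finset.ne_of_mem_erase hm').symm (Finset.ne_of_mem_erase hm').symm
    (Finset.ne_of_mem_erase hm) t u

theorem C_hev : ∀ m ∈ J.erase a, ∀ (s : K) (y : Γ), y ∈ CF (fun m u => S.x m a u) (J.erase a) →
    ∀ k, (((S.π (S.x m a s * y) : Matrix.SpecialLinearGroup I K) : Matrix I I K) *ᵥ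
        (Pi.single a 1)) k =
      (((S.π y : Matrix.SpecialLinearGroup I K) : Matrix I I K) *ᵥ (Pi.single a 1)) k +
        if k = m then s * (((S.π y : Matrix.SpecialLinearGroup I K) : Matrix I I K) *ᵥ
          (Pi.single a 1)) a else 0 := by
  intro m hm s y _ k
  rw [π_mul_mulVec, S.π_x m a (Finset.ne_of_mem_erase hm), transvection_mulVec_apply]

theorem R_hev : ∀ m ∈ J.erase a, ∀ (s : K) (y : Γ), y ∈ CF (fun m u => S.x a m u) (J.erase a) →
    ∀ k, ((Pi.single a 1) ᵥ*
        ((S.π (S.x a m s * y) : Matrix.SpecialLinearGroup I K) : Matrix I I K)) k =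
      ((Pi.single a 1) ᵥ* ((S.π y : Matrix.SpecialLinearGroup I K) : Matrix I I K)) k +
        if k = m then s * ((Pi.single a 1) ᵥ*
          ((S.π y : Matrix.SpecialLinearGroup I K) : Matrix I I K)) a else 0 := by
  intro m hm s y hy k
  have hc : S.x a m s * y = y * S.x a m s := by
    have := closure_commute {g | ∃ (m : I) (u : K), m ∈ J.erase a ∧ g = S.x a m u}
      {g | ∃ (m : I) (u : K), m ∈ J.erase a ∧ g = S.x a m u} ?_ (S.x a m s)
      (Subgroup.subset_closure ⟨m, s, hm, rfl⟩) y hy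
    · exact this
    · rintro x ⟨m1, u1, hm1, rfl⟩ g ⟨m2, u2, hm2, rfl⟩
      exact R_hcomm S J a m1 hm1 m2 hm2 u1 u2
  rw [hc, vecMul_π_mul, S.π_x a m (Finset.ne_of_mem_erase hm).symm, vecMul_transvection_apply]

/-- the `a`-th column of an element of `C` determines it -/
theorem C_inj (c : Γ) (hc : c ∈ Csub S J a)
    (h1 : ((S.π c : Matrix.SpecialLinearGroup I K) : Matrix I I K) *ᵥ (Pi.single a 1) =
      Pi.single a 1) : c = 1 := by
  rw [Csub_eq_CF] at hc
  exact CF_inj (fun m u => S.x m a u) a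
    (fun g => ((S.π g : Matrix.SpecialLinearGroup I K) : Matrix I I K) *ᵥ (Pi.single a 1))
    (J.erase a) (C_hadd S J a) (C_hcomm S J a) (π_one_mulVec S _) (C_hev S J a)
    (Finset.notMem_erase a J) c hc h1

/-- the `a`-th entry of the `a`-th column of an element of `C` is `1` -/
theorem C_col_a (c : Γ) (hc : c ∈ Csub S J a) :
    (((S.π c : Matrix.SpecialLinearGroup I K) : Matrix I I K) *ᵥ (Pi.single a 1)) a = 1 := by
  rw [Csub_eq_CF] at hc
  have := CF_coords (fun m u => S.x m a u) a
    (fun g => ((S.π g : Matrix.SpecialLinearGroup I K) : Matrix I I K) *ᵥ (Pi.single a 1))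
    (J.erase a) (C_hadd S J a) (π_one_mulVec S _) (C_hev S J a) (J.erase a)
    (Finset.Subset.refl _) c hc a (Finset.notMem_erase a J)
  rw [Pi.single_eq_same] at this
  exact this

/-- the `a`-th row of an element of `R` determines it -/
theorem R_inj (r : Γ) (hr : r ∈ Rsub S J a)
    (h1 : (Pi.single a 1) ᵥ* ((S.π r : Matrix.SpecialLinearGroup I K) : Matrix I I K) =
      Pi.single a 1) : r = 1 := by
  rw [Rsub_eq_CF] at hr
  exact CF_inj (fun m u => S.x a m u) a
    (fun g => (Pi.single a 1) ᵥ* ((S.π g : Matrix.SpecialLinearGroup I K) : Matrix I I K))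
    (J.erase a) (R_hadd S J a) (R_hcomm S J a) (vecMul_π_one S _) (R_hev S J a)
    (Finset.notMem_erase a J) r hr h1

/-- `Sg` fixes `e_a` -/
theorem S_fix (s : Γ) (hs : s ∈ Ssub S J a) :
    ((S.π s : Matrix.SpecialLinearGroup I K) : Matrix I I K) *ᵥ (Pi.single a 1) =
      Pi.single a 1 := by
  unfold Ssub at hs
  induction hs using Subgroup.closure_induction with
  | mem g hg =>
    obtain ⟨i, j, u, hi, hj, hij, rfl⟩ := hg
    have hja : j ≠ a := Finset.ne_of_mem_erase hj
    funext k
    rw [S.π_x i j hij, transvection_mulVec_apply, Pi.single_eq_of_ne hja, mul_zero, ite_self,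
      add_zero]
  | one => exact π_one_mulVec S _
  | mul g g' _ _ ih ih' => rw [π_mul_mulVec, ih', ih]
  | inv g _ ih =>
    have := π_mul_mulVec S g⁻¹ g (Pi.single a 1)
    rw [inv_mul_cancel, π_one_mulVec, ih] at this
    exact this.symm

/-- the elements of `T` are diagonal -/
theorem T_diag (t : Γ) (ht : t ∈ Tsub S J a) :
    ∃ d : I → K, (∀ k, d k ≠ 0) ∧
      ((S.π t : Matrix.SpecialLinearGroup I K) : Matrix I I K) = Matrix.diagonal d := by
  unfold Tsub at ht
  induction ht using Subgroup.closure_induction with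
  | mem g hg =>
    obtain ⟨m, u, hm, hu, rfl⟩ := hg
    exact ⟨chi a m u, chiA_ne_zero a m hu, π_h S (Finset.ne_of_mem_erase hm).symm hu⟩
  | one => exact ⟨fun _ => 1, fun _ => one_ne_zero, by
      rw [map_one, Matrix.SpecialLinearGroup.coe_one]; exact Matrix.diagonal_one.symm⟩
  | mul g g' _ _ ih ih' =>
    obtain ⟨d, hd, e⟩ := ih
    obtain ⟨d', hd', e'⟩ := ih'
    refine ⟨fun k => d k * d' k, fun k => mul_ne_zero (hd k) (hd' k), ?_⟩
    rw [map_mul, Matrix.SpecialLinearGroup.coe_mul, e, e', Matrix.diagonal_mul_diagonal]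
  | inv g _ ih =>
    obtain ⟨d, hd, e⟩ := ih
    refine ⟨fun k => (d k)⁻¹, fun k => inv_ne_zero (hd k), ?_⟩
    have h1 : ((S.π g⁻¹ : Matrix.SpecialLinearGroup I K) : Matrix I I K) * Matrix.diagonal d
        = 1 := by
      rw [← e, ← Matrix.SpecialLinearGroup.coe_mul, ← map_mul, inv_mul_cancel, map_one,
        Matrix.SpecialLinearGroup.coe_one]
    have h2 : Matrix.diagonal d * Matrix.diagonal (fun k => (d k)⁻¹) = (1 : Matrix I I K) := by
      rw [Matrix.diagonal_mul_diagonal, ← Matrix.diagonal_one]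
      congr 1
      funext k
      exact mul_inv_cancel₀ (hd k)
    calc ((S.π g⁻¹ : Matrix.SpecialLinearGroup I K) : Matrix I I K)
        = ((S.π g⁻¹ : Matrix.SpecialLinearGroup I K) : Matrix I I K) *
            (Matrix.diagonal d * Matrix.diagonal (fun k => (d k)⁻¹)) := by rw [h2, mul_one]
      _ = Matrix.diagonal (fun k => (d k)⁻¹) := by rw [← mul_assoc, h1, one_mul]

/-- the translated cells `w_ak(1) Z₀` do not meet the kernel -/
theorem kernel_Zk (h3 : 3 ≤ Fintype.card I) {k : I} (hk : k ∈ J.erase a) (g : Γ)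
    (hg : InZk S J a k g) : S.π g ≠ 1 := by
  intro h1
  obtain ⟨z, ⟨c, hc, t, ht, s, hs, rfl⟩, rfl⟩ := hg
  have hka : k ≠ a := Finset.ne_of_mem_erase hk
  obtain ⟨d, hd, e⟩ := T_diag S J a t ht
  have key := π_mul_mulVec S (S.w a k 1) (c * t * s) (Pi.single a 1)
  rw [h1, Matrix.SpecialLinearGroup.coe_one, Matrix.one_mulVec, π_mul_mulVec, S_fix S J a s hs,
    π_mul_mulVec, e] at key
  have e2 : Matrix.diagonal d *ᵥ (Pi.single a 1 : I → K) = d a • (Pi.single a 1 : I → K) := by
    rw [Matrix.mulVec_single_one]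
    funext m
    simp only [Matrix.col_apply, Matrix.diagonal_apply, Pi.smul_apply, smul_eq_mul,
      Pi.single_apply]
    by_cases hma : m = a
    · subst hma; simp
    · simp [hma]
  rw [e2, Matrix.mulVec_smul, Matrix.mulVec_smul] at key
  have key2 := congrFun key k
  rw [Pi.single_eq_of_ne hka, Pi.smul_apply, smul_eq_mul] at key2
  -- the `k`-th coordinate of `w (π c e_a)` is `wc a * (π c e_a) a = -1`
  have hw : ∀ v : I → K,
      (((S.π (S.w a k 1) : Matrix.SpecialLinearGroup I K) : Matrix I I K) *ᵥ v) k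
        = wc a k (1 : K) a * v a := by
    intro v
    have hcol : ∀ m, ((S.π (S.w a k 1) : Matrix.SpecialLinearGroup I K) : Matrix I I K) k m =
        (Pi.single (Equiv.swap a k m) (wc a k (1 : K) m) : I → K) k := by
      intro m
      have := congrFun (Cfsg.Agent.Lib.Helper2.StSL.π_w S hka.symm (one_ne_zero : (1 : K) ≠ 0) m) k
      rw [Matrix.mulVec_single_one] at this
      exact this
    rw [Matrix.mulVec, dotProduct, Finset.sum_eq_single a]
    · rw [hcol a, Equiv.swap_apply_left, Pi.single_eq_same]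
    · intro m _ hma
      rw [hcol m]
      have : k ≠ Equiv.swap a k m := by
        intro h
        have := congrArg (Equiv.swap a k) h
        rw [Equiv.swap_apply_right, Equiv.swap_apply_self] at this
        exact hma this.symm
      rw [Pi.single_eq_of_ne this, zero_mul]
    · intro h; exact absurd (Finset.mem_univ a) h
  rw [hw, C_col_a S J a c hc] at key2
  have hwc : wc a k (1 : K) a = -1 := by
    simp [wc]
  rw [hwc] at key2
  have : d a = 0 := by
    have := key2
    simp at this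
    exact this
  exact hd a this

end Cfsg.Agent.Lib.Helper1.StSL
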