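import Mathlib
import Cfsg.Agent.Lib.Helper1.StSLK1a

set_option autoImplicit false
set_option linter.unusedSectionVars false
set_option linter.unusedVariables false

/-!
Farm STSL (statement S2401), unit K1b: the stabiliser `Sg` of `e_a` is `R · L`, and the kernel
of `π` on the big cell `Z₀ = C T Sg` is trivial.
-/

namespace Cfsg.Agent.Lib.Helper1.StSL

open Matrix Cfsg.Agent.Lib.Helper6.StSL

variable {I : Type*} [DecidableEq I] [Fintype I] {K : Type*} [Field K] {Γ : Type*} [Group Γ]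
  (S : StA I K Γ) (J : Finset I) (a : I)

theorem genS_inv : ∀ x ∈ genS S J a, x⁻¹ ∈ genS S J a := by
  rintro x ⟨i, j, u, hi, hj, hij, rfl⟩
  exact ⟨i, j, -u, hi, hj, hij, S.x_inv hij u⟩

/-- `Sg = R · L` -/
theorem S_eq_RL : ∀ s ∈ Ssub S J a, ∃ r ∈ Rsub S J a, ∃ l ∈ S.sub (J.erase a), s = r * l := by
  apply closure_induction_left' _ (genS_inv S J a)
  · exact ⟨1, one_mem _, 1, one_mem _, (one_mul 1).symm⟩
  · rintro x ⟨i, j, u, hi, hj, hij, rfl⟩ y ⟨r, hr, l, hl, rfl⟩
    by_cases hia : i = a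
    · subst hia
      exact ⟨S.x i j u * r, mul_mem (x_mem_Rsub S J i hj u) hr, l, hl, by rw [mul_assoc]⟩
    · have hxL : S.x i j u ∈ S.sub (J.erase a) :=
        S.x_mem_sub (Finset.mem_erase.2 ⟨hia, hi⟩) hj hij u
      refine ⟨S.x i j u * r * (S.x i j u)⁻¹, (L_norm_R S J a _ hxL r hr).1, S.x i j u * l,
        mul_mem hxL hl, ?_⟩
      group

/-- the elements of `L` have `a`-th row `e_a` -/
theorem L_row (l : Γ) (hl : l ∈ S.sub (J.erase a)) :
    (Pi.single a 1) ᵥ* ((S.π l : Matrix.SpecialLinearGroup I K) : Matrix I I K) =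
      Pi.single a 1 := by
  unfold StA.sub at hl
  induction hl using Subgroup.closure_induction with
  | mem g hg =>
    obtain ⟨i, j, u, hi, hj, hij, rfl⟩ := hg
    have hia : i ≠ a := Finset.ne_of_mem_erase hi
    funext k
    rw [S.π_x i j hij, vecMul_transvection_apply, Pi.single_eq_of_ne hia, mul_zero, ite_self,
      add_zero]
  | one => exact vecMul_π_one S _
  | mul g g' _ _ ih ih' => rw [vecMul_π_mul, ih, ih']
  | inv g _ ih =>
    have := vecMul_π_mul S g g⁻¹ (Pi.single a 1)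
    rw [mul_inv_cancel, vecMul_π_one, ih] at this
    exact this.symm

/-- the kernel of `π` on `Sg` is trivial, by induction -/
theorem kernel_S (IH : ∀ g ∈ S.sub (J.erase a), S.π g = 1 → g = 1) (s : Γ)
    (hs : s ∈ Ssub S J a) (h1 : S.π s = 1) : s = 1 := by
  obtain ⟨r, hr, l, hl, rfl⟩ := S_eq_RL S J a s hs
  have hrow := vecMul_π_mul S r l (Pi.single a 1)
  rw [h1, Matrix.SpecialLinearGroup.coe_one, Matrix.vecMul_one] at hrow
  -- row `a` of `π r` is row `a` of `π l⁻¹`, which is `e_a`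
  have hr1 : (Pi.single a 1) ᵥ* ((S.π r : Matrix.SpecialLinearGroup I K) : Matrix I I K) =
      Pi.single a 1 := by
    have h2 := L_row S J a l⁻¹ (inv_mem hl)
    have h3 := vecMul_π_mul S l l⁻¹
      ((Pi.single a 1) ᵥ* ((S.π r : Matrix.SpecialLinearGroup I K) : Matrix I I K))
    rw [mul_inv_cancel, vecMul_π_one, ← hrow, h2] at h3
    exact h3
  have hr2 := R_inj S J a r hr hr1
  subst hr2
  rw [one_mul] at h1 ⊢
  exact IH l hl h1

/-- the kernel of `π` on the big cell is trivial -/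
theorem kernel_Z0 (IH : ∀ g ∈ S.sub (J.erase a), S.π g = 1 → g = 1)
    (hT : ∀ t ∈ Tsub S J a, ((S.π t : Matrix.SpecialLinearGroup I K) : Matrix I I K) *ᵥ
      (Pi.single a 1) = Pi.single a 1 → t ∈ S.sub (J.erase a))
    (g : Γ) (hg : InZ0 S J a g) (h1 : S.π g = 1) : g = 1 := by
  obtain ⟨c, hc, t, ht, s, hs, rfl⟩ := hg
  obtain ⟨d, hd, e⟩ := T_diag S J a t ht
  have key := π_mul_mulVec S (c * t) s (Pi.single a 1)
  rw [h1, Matrix.SpecialLinearGroup.coe_one, Matrix.one_mulVec, S_fix S J a s hs,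
    π_mul_mulVec, e] at key
  have e2 : Matrix.diagonal d *ᵥ (Pi.single a 1 : I → K) = d a • (Pi.single a 1 : I → K) := by
    rw [Matrix.mulVec_single_one]
    funext m
    simp only [Matrix.col_apply, Matrix.diagonal_apply, Pi.smul_apply, smul_eq_mul,
      Pi.single_apply]
    by_cases hma : m = a
    · subst hma; simp
    · simp [hma]
  rw [e2, Matrix.mulVec_smul] at key
  have ka := congrFun key a
  rw [Pi.single_eq_same, Pi.smul_apply, smul_eq_mul, C_col_a S J a c hc, mul_one] at ka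
  rw [← ka, one_smul] at key
  have hc1 := C_inj S J a c hc key.symm
  subst hc1
  have ht1 : ((S.π t : Matrix.SpecialLinearGroup I K) : Matrix I I K) *ᵥ (Pi.single a 1) =
      Pi.single a 1 := by
    rw [e, e2, ← ka, one_smul]
  have htL := hT t ht ht1
  rw [one_mul] at h1 ⊢
  exact kernel_S S J a IH (t * s) (mul_mem (L_le_S S J a htL) hs) h1

end Cfsg.Agent.Lib.Helper1.StSL
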