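import Mathlib
import Cfsg.Agent.Lib.Helper1.StSLDefs

set_option autoImplicit false

/-!
S2401 farm, unit U1: the conjugation formulas of `w_ij(t)` and `h_ij(t)` in the Steinberg group
`St_n(K)`, `n ≥ 3`.
-/

namespace Cfsg.Agent.Lib.Helper1.StSL

variable {n : ℕ} {K : Type*} [Field K]

/-- conjugation of commuting generators -/
theorem x_conj_comm {i j k l : Fin n} (hij : i ≠ j) (hkl : k ≠ l) (hil : i ≠ l) (hjk : j ≠ k)
    (t u : K) : x i j t * x k l u * (x i j t)⁻¹ = x k l u := by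
  rw [x_comm hij hkl hil hjk, mul_inv_cancel_right]

/-- `x_ab(s) x_bc(r) x_ab(s)⁻¹ = x_ac(sr) x_bc(r)` -/
theorem x_conj_left {a b c : Fin n} (hab : a ≠ b) (hbc : b ≠ c) (hac : a ≠ c) (s r : K) :
    x a b s * x b c r * (x a b s)⁻¹ = x a c (s * r) * x b c r := by
  rw [← x_comm_mid hab hbc hac s r, inv_mul_cancel_right]

/-- `x_bc(r) x_ab(s) x_bc(r)⁻¹ = x_ac(-(sr)) x_ab(s)` -/
theorem x_conj_right {a b c : Fin n} (hab : a ≠ b) (hbc : b ≠ c) (hac : a ≠ c) (s r : K) :
    x b c r * x a b s * (x b c r)⁻¹ = x a c (-(s * r)) * x a b s := by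
  have h1 := x_comm_mid hab hbc hac s r
  have h2 : x a c (-(s * r)) = (x a c (s * r))⁻¹ := (x_inv a c (s * r)).symm
  rw [h2, ← h1]
  group

theorem conj_mul {G : Type*} [Group G] (g a b : G) :
    g * (a * b) * g⁻¹ = (g * a * g⁻¹) * (g * b * g⁻¹) := by group

theorem conj_inv' {G : Type*} [Group G] (g a : G) : g * a⁻¹ * g⁻¹ = (g * a * g⁻¹)⁻¹ := by group

theorem conj_conj {G : Type*} [Group G] (g k a : G) :
    (g * k) * a * (g * k)⁻¹ = g * (k * a * k⁻¹) * g⁻¹ := by group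

theorem w_inv (i j : Fin n) (t : K) : (w i j t)⁻¹ = w i j (-t) := by
  unfold w
  rw [mul_inv_rev, mul_inv_rev, x_inv, x_inv, neg_neg, ← mul_assoc, inv_neg, neg_neg]

/-- the three-step conjugation by `w_ij(t)` -/
theorem w_conj_eq (i j : Fin n) (t : K) (g : St n K) :
    w i j t * g * (w i j t)⁻¹
      = x i j t * (x j i (-t⁻¹) * (x i j t * g * (x i j t)⁻¹) * (x j i (-t⁻¹))⁻¹) * (x i j t)⁻¹ := by
  unfold w
  group

/-- conjugation -/
def cj {G : Type*} [Group G] (g a : G) : G := g * a * g⁻¹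

theorem cj_mul {G : Type*} [Group G] (g a b : G) : cj g (a * b) = cj g a * cj g b := by
  unfold cj; group

theorem cj_inv {G : Type*} [Group G] (g a : G) : cj g a⁻¹ = (cj g a)⁻¹ := by
  unfold cj; group

theorem w_cj (i j : Fin n) (t : K) (g : St n K) :
    w i j t * g * (w i j t)⁻¹ = cj (x i j t) (cj (x j i (-t⁻¹)) (cj (x i j t) g)) := by
  unfold w cj
  group

theorem cj_comm {i j k l : Fin n} (hij : i ≠ j) (hkl : k ≠ l) (hil : i ≠ l) (hjk : j ≠ k)
    (t u : K) : cj (x i j t) (x k l u) = x k l u := x_conj_comm hij hkl hil hjk t u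

theorem cj_left {a b c : Fin n} (hab : a ≠ b) (hbc : b ≠ c) (hac : a ≠ c) (s r : K) :
    cj (x a b s) (x b c r) = x a c (s * r) * x b c r := x_conj_left hab hbc hac s r

theorem cj_right {a b c : Fin n} (hab : a ≠ b) (hbc : b ≠ c) (hac : a ≠ c) (s r : K) :
    cj (x b c r) (x a b s) = x a c (-(s * r)) * x a b s := x_conj_right hab hbc hac s r

/-- two commuting generators with cancelling outer terms -/
theorem sandwich {a b c d : Fin n} (hab : a ≠ b) (hcd : c ≠ d) (had : a ≠ d) (hbc : b ≠ c)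
    (s r : K) : x a b (-s) * x c d r * x a b s = x c d r := by
  rw [x_comm hab hcd had hbc, mul_assoc, x_add hab, neg_add_cancel, x_zero, mul_one]

/-- (c) `w_ij(t) x_jm(u) w_ij(t)⁻¹ = x_im(tu)` -/
theorem w_conj_c {i j m : Fin n} (hij : i ≠ j) (hmi : m ≠ i) (hmj : m ≠ j) (t : K) (ht : t ≠ 0)
    (u : K) : w i j t * x j m u * (w i j t)⁻¹ = x i m (t * u) := by
  have him := hmi.symm
  have hjm := hmj.symm
  have hji := hij.symm
  rw [w_cj, cj_left hij hjm him, cj_mul, cj_left hji him hjm, cj_comm hji hjm hjm hij]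
  have e : -t⁻¹ * (t * u) = -u := by field_simp
  rw [e, sandwich hjm him hjm hmi u (t * u), cj_comm hij him him hji]

/-- (b) `w_ij(t) x_im(u) w_ij(t)⁻¹ = x_jm(-t⁻¹u)` -/
theorem w_conj_b {i j m : Fin n} (hij : i ≠ j) (hmi : m ≠ i) (hmj : m ≠ j) (t : K) (ht : t ≠ 0)
    (u : K) : w i j t * x i m u * (w i j t)⁻¹ = x j m (-t⁻¹ * u) := by
  have him := hmi.symm
  have hjm := hmj.symm
  have hji := hij.symm
  rw [w_cj, cj_comm hij him him hji, cj_left hji him hjm, cj_mul, cj_left hij hjm him,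
    cj_comm hij him him hji]
  have e : t * (-t⁻¹ * u) = -u := by field_simp
  rw [e]
  exact sandwich him hjm him hmj u (-t⁻¹ * u)

/-- (d) `w_ij(t) x_mi(u) w_ij(t)⁻¹ = x_mj(-tu)` -/
theorem w_conj_d {i j m : Fin n} (hij : i ≠ j) (hmi : m ≠ i) (hmj : m ≠ j) (t : K) (ht : t ≠ 0)
    (u : K) : w i j t * x m i u * (w i j t)⁻¹ = x m j (-t * u) := by
  have hji := hij.symm
  rw [w_cj, cj_right hmi hij hmj, cj_mul, cj_right hmj hji hmi, cj_comm hji hmi hji hmi.symm]
  have e : -(-(u * t) * -t⁻¹) = -u := by field_simp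
  rw [e, sandwich hmi hmj hmj hmi.symm u (-(u * t)), cj_comm hij hmj hij hmj.symm]
  congr 1
  ring

/-- (e) `w_ij(t) x_mj(u) w_ij(t)⁻¹ = x_mi(t⁻¹u)` -/
theorem w_conj_e {i j m : Fin n} (hij : i ≠ j) (hmi : m ≠ i) (hmj : m ≠ j) (t : K) (ht : t ≠ 0)
    (u : K) : w i j t * x m j u * (w i j t)⁻¹ = x m i (t⁻¹ * u) := by
  have hji := hij.symm
  rw [w_cj, cj_comm hij hmj hij hmj.symm, cj_right hmj hji hmi, cj_mul, cj_right hmi hij hmj,
    cj_comm hij hmj hij hmj.symm]
  have e1 : -(u * -t⁻¹) = t⁻¹ * u := by ring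
  have e2 : -(t⁻¹ * u * t) = -u := by field_simp
  rw [e1, e2]
  exact sandwich hmj hmi hmi hmj.symm u (t⁻¹ * u)

theorem exists_third (hn : 3 ≤ n) (i j : Fin n) : ∃ m : Fin n, m ≠ i ∧ m ≠ j := by
  by_contra hcon
  push Not at hcon
  have hsub : (Finset.univ : Finset (Fin n)) ⊆ {i, j} := by
    intro m _
    by_cases hm : m = i
    · rw [hm]; exact Finset.mem_insert_self _ _
    · rw [hcon m hm]
      exact Finset.mem_insert_of_mem (Finset.mem_singleton_self _)
  have h1 := Finset.card_le_card hsub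
  rw [Finset.card_univ, Fintype.card_fin] at h1
  have h2 : ({i, j} : Finset (Fin n)).card ≤ 2 := Finset.card_insert_le _ _ |>.trans (by simp)
  omega

theorem w_conj_commutator (i j : Fin n) (t : K) (a b : St n K) :
    w i j t * (a * b * a⁻¹ * b⁻¹) * (w i j t)⁻¹
      = (w i j t * a * (w i j t)⁻¹) * (w i j t * b * (w i j t)⁻¹)
        * (w i j t * a * (w i j t)⁻¹)⁻¹ * (w i j t * b * (w i j t)⁻¹)⁻¹ := by
  group

/-- (f) `w_ij(t) x_ij(u) w_ij(t)⁻¹ = x_ji(-t⁻²u)` -/
theorem w_conj_f (hn : 3 ≤ n) {i j : Fin n} (hij : i ≠ j) (t : K) (ht : t ≠ 0) (u : K) :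
    w i j t * x i j u * (w i j t)⁻¹ = x j i (-(t⁻¹) ^ 2 * u) := by
  obtain ⟨m, hmi, hmj⟩ := exists_third hn i j
  have e0 : x i j u = x i m u * x m j 1 * (x i m u)⁻¹ * (x m j 1)⁻¹ := by
    rw [x_comm_mid hmi.symm hmj hij, mul_one]
  rw [e0, w_conj_commutator, w_conj_b hij hmi hmj t ht, w_conj_e hij hmi hmj t ht,
    x_comm_mid hmj.symm hmi hij.symm]
  congr 1
  ring

/-- (g) `w_ij(t) x_ji(u) w_ij(t)⁻¹ = x_ij(-t²u)` -/
theorem w_conj_g (hn : 3 ≤ n) {i j : Fin n} (hij : i ≠ j) (t : K) (ht : t ≠ 0) (u : K) :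
    w i j t * x j i u * (w i j t)⁻¹ = x i j (-t ^ 2 * u) := by
  obtain ⟨m, hmi, hmj⟩ := exists_third hn i j
  have e0 : x j i u = x j m u * x m i 1 * (x j m u)⁻¹ * (x m i 1)⁻¹ := by
    rw [x_comm_mid hmj.symm hmi hij.symm, mul_one]
  rw [e0, w_conj_commutator, w_conj_c hij hmi hmj t ht, w_conj_d hij hmi hmj t ht,
    x_comm_mid hmi.symm hmj hij]
  congr 1
  ring

/-- (a) `w_ij(t)` commutes with `x_kl(u)` for `k, l ∉ {i, j}` -/
theorem w_conj_a {i j k l : Fin n} (hij : i ≠ j) (hkl : k ≠ l) (hki : k ≠ i) (hkj : k ≠ j)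
    (hli : l ≠ i) (hlj : l ≠ j) (t u : K) : w i j t * x k l u * (w i j t)⁻¹ = x k l u := by
  rw [w_cj, cj_comm hij hkl hli.symm hkj.symm, cj_comm hij.symm hkl hlj.symm hki.symm,
    cj_comm hij hkl hli.symm hkj.symm]

/-- `w_ji(t) = w_ij(-t⁻¹)` -/
theorem w_symm (hn : 3 ≤ n) {i j : Fin n} (hij : i ≠ j) (t : K) (ht : t ≠ 0) :
    w j i t = w i j (-t⁻¹) := by
  have hs : (-t⁻¹ : K) ≠ 0 := neg_ne_zero.2 (inv_ne_zero ht)
  have e1 : w i j (-t⁻¹) = w i j (-t⁻¹) * w i j (-t⁻¹) * (w i j (-t⁻¹))⁻¹ := by group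
  have e2 : w i j (-t⁻¹) * w i j (-t⁻¹) * (w i j (-t⁻¹))⁻¹
      = (w i j (-t⁻¹) * x i j (-t⁻¹) * (w i j (-t⁻¹))⁻¹)
        * (w i j (-t⁻¹) * x j i (-(-t⁻¹)⁻¹) * (w i j (-t⁻¹))⁻¹)
        * (w i j (-t⁻¹) * x i j (-t⁻¹) * (w i j (-t⁻¹))⁻¹) := by
    nth_rewrite 2 [w]
    group
  rw [e1, e2, w_conj_f hn hij _ hs, w_conj_g hn hij _ hs]
  unfold w
  have a1 : -(-t⁻¹)⁻¹ ^ 2 * -t⁻¹ = t := by field_simp
  have a2 : -(-t⁻¹) ^ 2 * -(-t⁻¹)⁻¹ = -t⁻¹ := by field_simp
  rw [a1, a2]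

/-- the scalar of the conjugation by `w_ij(t)` on `x_kl` -/
noncomputable def wc (i j : Fin n) (t : K) (k l : Fin n) : K :=
  if k = i then (if l = j then -(t⁻¹) ^ 2 else -t⁻¹)
  else if k = j then (if l = i then -t ^ 2 else t)
  else if l = i then -t
  else if l = j then t⁻¹
  else 1

theorem wc_ne_zero (i j : Fin n) (t : K) (ht : t ≠ 0) (k l : Fin n) : wc i j t k l ≠ 0 := by
  unfold wc
  split_ifs <;> simp [ht]

/-- **the conjugation of `x_kl(u)` by `w_ij(t)`**, uniform form -/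
theorem w_conj_x (hn : 3 ≤ n) {i j : Fin n} (hij : i ≠ j) (t : K) (ht : t ≠ 0) {k l : Fin n}
    (hkl : k ≠ l) (u : K) :
    w i j t * x k l u * (w i j t)⁻¹
      = x (Equiv.swap i j k) (Equiv.swap i j l) (wc i j t k l * u) := by
  unfold wc
  by_cases hki : k = i
  · subst hki
    rw [if_pos rfl, Equiv.swap_apply_left]
    by_cases hlj : l = j
    · subst hlj
      rw [if_pos rfl, Equiv.swap_apply_right]
      exact w_conj_f hn hij t ht u
    · rw [if_neg hlj, Equiv.swap_apply_of_ne_of_ne (Ne.symm hkl) hlj]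
      exact w_conj_b hij (Ne.symm hkl) hlj t ht u
  · rw [if_neg hki]
    by_cases hkj : k = j
    · subst hkj
      rw [if_pos rfl, Equiv.swap_apply_right]
      by_cases hli : l = i
      · subst hli
        rw [if_pos rfl, Equiv.swap_apply_left]
        exact w_conj_g hn hij t ht u
      · rw [if_neg hli, Equiv.swap_apply_of_ne_of_ne hli (Ne.symm hkl)]
        exact w_conj_c hij hli (Ne.symm hkl) t ht u
    · rw [if_neg hkj, Equiv.swap_apply_of_ne_of_ne hki hkj]
      by_cases hli : l = i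
      · subst hli
        rw [if_pos rfl, Equiv.swap_apply_left]
        exact w_conj_d hij hki hkj t ht u
      · rw [if_neg hli]
        by_cases hlj : l = j
        · subst hlj
          rw [if_pos rfl, Equiv.swap_apply_right]
          exact w_conj_e hij hki hkj t ht u
        · rw [if_neg hlj, Equiv.swap_apply_of_ne_of_ne hli hlj, one_mul]
          exact w_conj_a hij hkl hki hkj hli hlj t u

theorem wc_symm (i j : Fin n) (hij : i ≠ j) (t : K) (ht : t ≠ 0) (k l : Fin n) (hkl : k ≠ l) :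
    wc i j t l k = (wc i j t k l)⁻¹ := by
  unfold wc
  by_cases hki : k = i <;> by_cases hkj : k = j <;> by_cases hli : l = i <;> by_cases hlj : l = j
  all_goals first
    | (exfalso; subst_vars; first | exact hkl rfl | exact hij rfl | exact hij.symm rfl)
    | (simp only [hki, hkj, hli, hlj, if_true, if_false, hij, hij.symm]
       try field_simp)

theorem conj3 {G : Type*} [Group G] (g a b c : G) :
    g * (a * b * c) * g⁻¹ = (g * a * g⁻¹) * (g * b * g⁻¹) * (g * c * g⁻¹) := by group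

/-- **the conjugation of `w_kl(u)` by `w_ij(t)`** -/
theorem w_conj_w (hn : 3 ≤ n) {i j : Fin n} (hij : i ≠ j) (t : K) (ht : t ≠ 0) {k l : Fin n}
    (hkl : k ≠ l) (u : K) (hu : u ≠ 0) :
    w i j t * w k l u * (w i j t)⁻¹
      = w (Equiv.swap i j k) (Equiv.swap i j l) (wc i j t k l * u) := by
  have hc := wc_ne_zero i j t ht k l
  nth_rewrite 2 [w]
  rw [conj3, w_conj_x hn hij t ht hkl, w_conj_x hn hij t ht hkl.symm, wc_symm i j hij t ht k l hkl]
  unfold w
  have e : (wc i j t k l)⁻¹ * -u⁻¹ = -(wc i j t k l * u)⁻¹ := by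
    field_simp
  rw [e]

/-- the diagonal entries of `h_ij(t)` -/
noncomputable def dg (i j : Fin n) (t : K) (m : Fin n) : K :=
  if m = i then t else if m = j then t⁻¹ else 1

theorem dg_ne_zero (i j : Fin n) (t : K) (ht : t ≠ 0) (m : Fin n) : dg i j t m ≠ 0 := by
  unfold dg
  split_ifs <;> simp [ht]

theorem wc_h (i j : Fin n) (hij : i ≠ j) (t : K) (ht : t ≠ 0) (k l : Fin n) (hkl : k ≠ l) :
    wc i j t (Equiv.swap i j k) (Equiv.swap i j l) * wc i j (-1) k l
      = dg i j t k * (dg i j t l)⁻¹ := by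
  by_cases hki : k = i
  · subst hki
    rw [Equiv.swap_apply_left]
    by_cases hlj : l = j
    · subst hlj
      rw [Equiv.swap_apply_right]
      simp only [wc, dg, if_true, hij, hij.symm, if_false]
      field_simp
    · rw [Equiv.swap_apply_of_ne_of_ne (Ne.symm hkl) hlj]
      simp only [wc, dg, if_true, hij, hij.symm, if_false, hlj, Ne.symm hkl]
      field_simp
  · by_cases hkj : k = j
    · subst hkj
      rw [Equiv.swap_apply_right]
      by_cases hli : l = i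
      · subst hli
        rw [Equiv.swap_apply_left]
        simp only [wc, dg, if_true, hij, hij.symm, if_false]
        field_simp
      · rw [Equiv.swap_apply_of_ne_of_ne hli (Ne.symm hkl)]
        simp only [wc, dg, if_true, hij, hij.symm, if_false, hli, Ne.symm hkl]
        field_simp
    · rw [Equiv.swap_apply_of_ne_of_ne hki hkj]
      by_cases hli : l = i
      · subst hli
        rw [Equiv.swap_apply_left]
        simp only [wc, dg, if_true, hij, hij.symm, if_false, hki, hkj]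
        field_simp
      · by_cases hlj : l = j
        · subst hlj
          rw [Equiv.swap_apply_right]
          simp only [wc, dg, if_true, hij, hij.symm, if_false, hki, hkj]
          field_simp
        · rw [Equiv.swap_apply_of_ne_of_ne hli hlj]
          simp only [wc, dg, if_false, hki, hkj, hli, hlj]
          simp

theorem swap_ne {i j k l : Fin n} (hkl : k ≠ l) : Equiv.swap i j k ≠ Equiv.swap i j l :=
  fun h => hkl ((Equiv.swap i j).injective h)

/-- **the conjugation of `x_kl(u)` by `h_ij(t)`** -/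
theorem h_conj_x (hn : 3 ≤ n) {i j : Fin n} (hij : i ≠ j) (t : K) (ht : t ≠ 0) {k l : Fin n}
    (hkl : k ≠ l) (u : K) :
    h i j t * x k l u * (h i j t)⁻¹ = x k l (dg i j t k * (dg i j t l)⁻¹ * u) := by
  have h1 : (-1 : K) ≠ 0 := neg_ne_zero.2 one_ne_zero
  unfold h
  have e : w i j t * w i j (-1) * x k l u * (w i j t * w i j (-1))⁻¹
      = w i j t * (w i j (-1) * x k l u * (w i j (-1))⁻¹) * (w i j t)⁻¹ := by group
  rw [e, w_conj_x hn hij (-1) h1 hkl, w_conj_x hn hij t ht (swap_ne hkl), Equiv.swap_apply_self,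
    Equiv.swap_apply_self, ← mul_assoc, wc_h i j hij t ht k l hkl]

/-- **the conjugation of `w_kl(u)` by `h_ij(t)`** -/
theorem h_conj_w (hn : 3 ≤ n) {i j : Fin n} (hij : i ≠ j) (t : K) (ht : t ≠ 0) {k l : Fin n}
    (hkl : k ≠ l) (u : K) (hu : u ≠ 0) :
    h i j t * w k l u * (h i j t)⁻¹ = w k l (dg i j t k * (dg i j t l)⁻¹ * u) := by
  have hk := dg_ne_zero i j t ht k
  have hl := dg_ne_zero i j t ht l
  nth_rewrite 1 [w]
  rw [conj3, h_conj_x hn hij t ht hkl, h_conj_x hn hij t ht hkl.symm]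
  unfold w
  have e : dg i j t l * (dg i j t k)⁻¹ * -u⁻¹ = -(dg i j t k * (dg i j t l)⁻¹ * u)⁻¹ := by
    field_simp
  rw [e]

end Cfsg.Agent.Lib.Helper1.StSL
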