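import Mathlib
import Cfsg.Agent.Lib.Helper5.Herm

/-!
# Field-theoretic core for the automorphisms of the unitary Suzuki 2-group

`F` finite of order `q^2`, `q` even. `K = {t | t^q = t}`, `Nq x = x * x^q`, `Trq x = x + x^q`.
An additive bijection `α` of `F` which preserves the relation `Trq (a^q * c) = 0` and is
compatible with `Nq` is of the form `μ σ` with `σ` a field automorphism.
-/

set_option autoImplicit false
set_option maxHeartbeats 4000000
set_option linter.unusedSimpArgs false
set_option linter.unusedVariables false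

namespace Cfsg.Agent.Lib.Helper1.SuA

open Cfsg.Agent.Lib.Helper5.Herm

variable {F : Type*} [Field F] [Fintype F] {q : ℕ}

/-- membership in the fixed field of `x ↦ x^q` -/
def IsK (q : ℕ) (t : F) : Prop := t ^ q = t

/-- the norm -/
def Nq (q : ℕ) (x : F) : F := x * x ^ q

/-- the trace -/
def Trq (q : ℕ) (x : F) : F := x + x ^ q

section char2

variable (h2 : (2 : F) = 0)
include h2

theorem add_self2 (a : F) : a + a = 0 := by rw [← two_mul, h2, zero_mul]

theorem eq_of_add_eq_zero2 {a b : F} (h : a + b = 0) : a = b := by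
  have : a + b + b = b := by rw [h, zero_add]
  rw [add_assoc, add_self2 h2, add_zero] at this
  exact this

theorem add_eq_zero_of_eq2 {a b : F} (h : a = b) : a + b = 0 := by rw [h]; exact add_self2 h2 b

theorem hua {a b : F} (ha : a ≠ 0) (hb : b ≠ 0) (hab : a * b ≠ 1) :
    a + (a⁻¹ + (b⁻¹ + a)⁻¹)⁻¹ = a ^ 2 * b := by
  have h1 : 1 + a * b ≠ 0 := by
    intro h
    apply hab
    exact (eq_of_add_eq_zero2 h2 h).symm
  have e1 : b⁻¹ + a = (1 + a * b) / b := by field_simp
  have e2 : (b⁻¹ + a)⁻¹ = b / (1 + a * b) := by rw [e1, inv_div]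
  have e3 : a⁻¹ + (b⁻¹ + a)⁻¹ = (a * (1 + a * b))⁻¹ := by
    rw [e2]
    field_simp
    have : a * b + a * b = 0 := add_self2 h2 _
    linear_combination this
  rw [e3, inv_inv]
  have : a + a = 0 := add_self2 h2 _
  linear_combination this

/-- Hua's theorem in characteristic 2: an injective additive map preserving inverses satisfies
`f (a² b) = f(a)² f(b)`. -/
theorem hua_map (f : F →+ F) (hinj : Function.Injective f) (hinv : ∀ x, f x⁻¹ = (f x)⁻¹) (a b : F) :
    f (a ^ 2 * b) = (f a) ^ 2 * f b := by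
  have hne : ∀ x, x ≠ 0 → f x ≠ 0 := by
    intro x hx h0
    apply hx
    apply hinj
    rw [h0, map_zero]
  by_cases ha : a = 0
  · subst ha; simp
  by_cases hb : b = 0
  · subst hb; simp
  by_cases hab : a * b = 1
  · have hb' : b = a⁻¹ := eq_inv_of_mul_eq_one_right hab
    rw [hb', hinv]
    have : a ^ 2 * a⁻¹ = a := by field_simp
    rw [this]
    have := hne a ha
    field_simp
  · have hab' : f a * f b ≠ 1 := by
      intro h1
      apply hab
      have h3 : f a = (f b)⁻¹ := eq_inv_of_mul_eq_one_left h1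
      rw [← hinv] at h3
      have := hinj h3
      rw [this, inv_mul_cancel₀ hb]
    rw [← hua h2 ha hb hab, ← hua h2 (hne a ha) (hne b hb) hab', map_add, hinv, map_add, hinv, hinv,
      map_add, hinv]

end char2

section basic

variable (hF : Fintype.card F = q ^ 2)
include hF

theorem isK_add {s t : F} (hs : IsK q s) (ht : IsK q t) : IsK q (s + t) := by
  unfold IsK at *; rw [pow_q_add hF, hs, ht]

theorem isK_zero : IsK q (0 : F) := zero_pow (q_ne_zero hF)

theorem isK_Nq (x : F) : IsK q (Nq q x) := by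
  unfold IsK Nq; rw [mul_pow, pow_q_pow_q hF]; ring

theorem isK_Trq (x : F) : IsK q (Trq q x) := by
  unfold IsK Trq; rw [pow_q_add hF, pow_q_pow_q hF]; ring

theorem Nq_add (a c : F) : Nq q (a + c) = Nq q a + Nq q c + Trq q (a ^ q * c) := by
  unfold Nq Trq; rw [pow_q_add hF, mul_pow, pow_q_pow_q hF]; ring

theorem Nq_eq_zero {x : F} (h : Nq q x = 0) : x = 0 := by
  rcases mul_eq_zero.mp h with h | h
  · exact h
  · exact (pow_eq_zero_iff (q_ne_zero hF)).mp h

theorem Nq_ne_zero {x : F} (h : x ≠ 0) : Nq q x ≠ 0 := fun h0 => h (Nq_eq_zero hF h0)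

end basic

omit [Fintype F] in
theorem isK_mul {s t : F} (hs : IsK q s) (ht : IsK q t) : IsK q (s * t) := by
  unfold IsK at *; rw [mul_pow, hs, ht]

omit [Fintype F] in
theorem isK_inv {s : F} (hs : IsK q s) : IsK q s⁻¹ := by
  unfold IsK at *; rw [inv_pow, hs]

omit [Fintype F] in
theorem isK_div {s t : F} (hs : IsK q s) (ht : IsK q t) : IsK q (s / t) := by
  rw [div_eq_mul_inv]; exact isK_mul hs (isK_inv ht)

omit [Fintype F] in
theorem isK_one : IsK q (1 : F) := one_pow q

omit [Fintype F] in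
theorem Nq_mul (x y : F) : Nq q (x * y) = Nq q x * Nq q y := by
  unfold Nq; rw [mul_pow]; ring

omit [Fintype F] in
theorem Nq_one : Nq q (1 : F) = 1 := by unfold Nq; rw [one_pow, one_mul]

omit [Fintype F] in
theorem Nq_of_isK {t : F} (ht : IsK q t) : Nq q t = t ^ 2 := by
  unfold Nq; rw [ht]; ring

omit [Fintype F] in
theorem Nq_div (x y : F) : Nq q (x / y) = Nq q x / Nq q y := by
  unfold Nq; rw [div_pow]; field_simp

omit [Fintype F] in
theorem Trq_mul_of_isK {t : F} (ht : IsK q t) (x : F) : Trq q (t * x) = t * Trq q x := by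
  unfold Trq; rw [mul_pow, ht]; ring

theorem line_iff (hF : Fintype.card F = q ^ 2) (h2 : (2 : F) = 0) {a c : F} (ha : a ≠ 0) :
    Trq q (a ^ q * c) = 0 ↔ IsK q (c / a) := by
  have haq : a ^ q ≠ 0 := pow_ne_zero _ ha
  unfold Trq IsK
  rw [div_pow, div_eq_div_iff haq ha, mul_pow, pow_q_pow_q hF]
  constructor
  · intro h
    have h3 := eq_of_add_eq_zero2 h2 h
    linear_combination -h3
  · intro h
    apply add_eq_zero_of_eq2 h2
    linear_combination -h

section core

variable (hF : Fintype.card F = q ^ 2) (h2 : (2 : F) = 0) (α : F ≃+ F)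

omit [Fintype F] in
theorem alpha_ne_zero {x : F} (hx : x ≠ 0) : α x ≠ 0 :=
  fun h => hx ((AddEquiv.map_eq_zero_iff α).mp h)

include hF h2 in
theorem tau_indep (hL : ∀ a c : F, a ≠ 0 → (IsK q (c / a) ↔ IsK q (α c / α a)))
    {v w : F} (hv : v ≠ 0) (hw : w ≠ 0) (hvw : ¬ IsK q (w / v)) {t : F} (ht : IsK q t) :
    α (t * v) / α v = α (t * w) / α w := by
  have hαv := alpha_ne_zero α hv
  have hαw := alpha_ne_zero α hw
  have hvw' : ¬ IsK q (α w / α v) := fun h => hvw ((hL v w hv).mpr h)
  have hsum : v + w ≠ 0 := by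
    intro h
    have : v = w := eq_of_add_eq_zero2 h2 h
    apply hvw; rw [this, div_self hw]; exact isK_one
  have hαs := alpha_ne_zero α hsum
  have hx : IsK q (α (t * v) / α v) :=
    (hL v (t * v) hv).mp (by rw [mul_div_assoc, div_self hv, mul_one]; exact ht)
  have hy : IsK q (α (t * w) / α w) :=
    (hL w (t * w) hw).mp (by rw [mul_div_assoc, div_self hw, mul_one]; exact ht)
  have hz : IsK q (α (t * (v + w)) / α (v + w)) :=
    (hL (v + w) (t * (v + w)) hsum).mp (by rw [mul_div_assoc, div_self hsum, mul_one]; exact ht)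
  have ex : α (t * v) = α (t * v) / α v * α v := by rw [div_mul_cancel₀ _ hαv]
  have ey : α (t * w) = α (t * w) / α w * α w := by rw [div_mul_cancel₀ _ hαw]
  have ez : α (t * (v + w)) = α (t * (v + w)) / α (v + w) * α (v + w) := by
    rw [div_mul_cancel₀ _ hαs]
  generalize α (t * v) / α v = x at hx ex ⊢
  generalize α (t * w) / α w = y at hy ey ⊢
  generalize α (t * (v + w)) / α (v + w) = z at hz ez
  have e : z * (α v + α w) = x * α v + y * α w := by
    rw [← map_add, ← ez, mul_add, map_add, ex, ey]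
  have e' : (z + x) * α v = (y + z) * α w := by
    linear_combination e + (x * α v - z * α w) * h2
  by_contra hne
  by_cases hyz : y + z = 0
  · rw [hyz, zero_mul] at e'
    have hzx : z + x = 0 := (mul_eq_zero.mp e').resolve_right hαv
    have h3 := eq_of_add_eq_zero2 h2 hzx
    have h4 := eq_of_add_eq_zero2 h2 hyz
    exact hne (by rw [← h3, ← h4])
  · apply hvw'
    have : α w / α v = (z + x) / (y + z) := by
      field_simp
      linear_combination -e'
    rw [this]
    exact isK_div (isK_add hF hz hx) (isK_add hF hy hz)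

include hF h2 in
theorem semilin (hL : ∀ a c : F, a ≠ 0 → (IsK q (c / a) ↔ IsK q (α c / α a)))
    (hnf : ∃ u : F, ¬ IsK q u) {t : F} (ht : IsK q t) (v : F) :
    α (t * v) = (α t / α 1) * α v := by
  by_cases hv : v = 0
  · subst hv; simp
  have hαv := alpha_ne_zero α hv
  have key : α (t * v) / α v = α (t * 1) / α 1 := by
    by_cases hvK : IsK q v
    · obtain ⟨u, hu⟩ := hnf
      have hu0 : u ≠ 0 := by
        rintro rfl; exact hu (isK_zero hF)
      have h1 := tau_indep hF h2 α hL hv hu0 (by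
        intro h; apply hu
        have := isK_mul h hvK
        rwa [div_mul_cancel₀ _ hv] at this) ht
      have h3 := tau_indep hF h2 α hL one_ne_zero hu0 (by rw [div_one]; exact hu) ht
      rw [h1, ← h3]
    · exact (tau_indep hF h2 α hL one_ne_zero hv (by rw [div_one]; exact hvK) ht).symm
  rw [mul_one] at key
  rw [← key, div_mul_cancel₀ _ hαv]

include hF h2 in
/-- The main theorem of this file. -/
theorem core_unitary (hq2 : ∃ r, q = 2 * r) (hnf : ∃ u : F, ¬ IsK q u) (β : F → F)
    (hcomm : ∀ a c, Trq q (a ^ q * c) = 0 ↔ Trq q ((α a) ^ q * α c) = 0)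
    (hN : ∀ a, β (Nq q a) = Nq q (α a))
    (hβ : ∀ s t, IsK q s → IsK q t → β (s + t) = β s + β t) :
    ∃ (μ : F) (σ : F ≃+* F), μ ≠ 0 ∧ ∀ a, α a = μ * σ a := by
  have hL : ∀ a c : F, a ≠ 0 → (IsK q (c / a) ↔ IsK q (α c / α a)) := by
    intro a c ha
    rw [← line_iff hF h2 ha, ← line_iff hF h2 (alpha_ne_zero α ha)]
    exact hcomm a c
  have ha10 : α 1 ≠ 0 := alpha_ne_zero α one_ne_zero
  let f : F →+ F := AddMonoidHom.mk' (fun x => α x / α 1) (fun x y => by rw [map_add, add_div])
  have hf : ∀ x, f x = α x / α 1 := fun x => rfl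
  have hαf : ∀ x, α x = α 1 * f x := by
    intro x; rw [hf]; field_simp
  have hfK : ∀ t, IsK q t → IsK q (f t) := by
    intro t ht
    exact (hL 1 t one_ne_zero).mp (by rw [div_one]; exact ht)
  have hfmul : ∀ t, IsK q t → ∀ v, f (t * v) = f t * f v := by
    intro t ht v
    rw [hf, semilin hF h2 α hL hnf ht v, hf, hf]
    field_simp
  have hf1 : f 1 = 1 := by rw [hf]; exact div_self ha10
  have hfinj : Function.Injective f := by
    intro x y hxy
    rw [hf, hf] at hxy
    apply α.injective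
    field_simp at hxy
    exact hxy
  have hlam' : β 1 = Nq q (α 1) := by
    have := hN 1
    rwa [Nq_one] at this
  have hlam0 : β 1 ≠ 0 := by rw [hlam']; exact Nq_ne_zero hF ha10
  have hlamK : IsK q (β 1) := by rw [hlam']; exact isK_Nq hF _
  have hβsq : ∀ t, IsK q t → β (t ^ 2) = β 1 * f (t ^ 2) := by
    intro t ht
    have h1 := hN t
    rw [Nq_of_isK ht, hαf t, Nq_mul, ← hlam', Nq_of_isK (hfK t ht)] at h1
    rw [h1, sq t, hfmul t ht, sq]
  have hβK : ∀ s, IsK q s → β s = β 1 * f s := by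
    intro s hs
    obtain ⟨r, hr⟩ := hq2
    have htK : IsK q (s ^ r) := by
      unfold IsK at *
      rw [← pow_mul, mul_comm, pow_mul, hs]
    have ht2 : (s ^ r) ^ 2 = s := by
      rw [← pow_mul, mul_comm, ← hr]; exact hs
    have := hβsq (s ^ r) htK
    rwa [ht2] at this
  have hNf : ∀ v, Nq q (f v) = f (Nq q v) := by
    intro v
    have h1 := hN v
    rw [hβK _ (isK_Nq hF v), hαf v, Nq_mul, ← hlam'] at h1
    exact (mul_left_cancel₀ hlam0 h1).symm
  have hβTr : ∀ a c, β (Trq q (a ^ q * c)) = Trq q ((α a) ^ q * α c) := by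
    intro a c
    have h1 := hN (a + c)
    rw [map_add, Nq_add hF, Nq_add hF,
      hβ _ _ (isK_add hF (isK_Nq hF a) (isK_Nq hF c)) (isK_Trq hF _),
      hβ _ _ (isK_Nq hF a) (isK_Nq hF c), hN a, hN c] at h1
    exact add_left_cancel h1
  have hTf : ∀ v, Trq q (f v) = f (Trq q v) := by
    intro v
    have h1 := hβTr 1 v
    rw [one_pow, one_mul] at h1
    rw [hβK _ (isK_Trq hF v), hαf v] at h1
    have e : (α 1) ^ q * (α 1 * f v) = β 1 * f v := by
      rw [hlam']; unfold Nq; ring
    rw [e, Trq_mul_of_isK hlamK] at h1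
    exact (mul_left_cancel₀ hlam0 h1).symm
  have hfinvK : ∀ t, IsK q t → f t⁻¹ = (f t)⁻¹ := by
    intro t ht
    by_cases ht0 : t = 0
    · subst ht0; simp
    · have : f t * f t⁻¹ = 1 := by rw [← hfmul t ht, mul_inv_cancel₀ ht0, hf1]
      exact eq_inv_of_mul_eq_one_right this
  have hinvNT : ∀ w : F, w ≠ 0 → w⁻¹ = (Nq q w)⁻¹ * (Trq q w + w) := by
    intro w hw
    unfold Nq Trq
    have e : w + w ^ q + w = w ^ q := by
      have := add_self2 h2 w
      linear_combination this
    rw [e]
    have hwq : w ^ q ≠ 0 := pow_ne_zero _ hw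
    field_simp
  have hfinv : ∀ w, f w⁻¹ = (f w)⁻¹ := by
    intro w
    by_cases hw : w = 0
    · subst hw; simp
    have hfw : f w ≠ 0 := by
      intro h0; apply hw; apply hfinj; rw [h0, map_zero]
    rw [hinvNT w hw, hfmul _ (isK_inv (isK_Nq hF w)), hfinvK _ (isK_Nq hF w), map_add, ← hNf,
      ← hTf, ← hinvNT (f w) hfw]
  have hmul2 : ∀ a b, f (a ^ 2 * b) = (f a) ^ 2 * f b := hua_map h2 f hfinj hfinv
  have hsq : ∀ x : F, ∃ a, a ^ 2 = x := by
    intro x
    obtain ⟨r, hr⟩ := hq2
    refine ⟨x ^ (r * q), ?_⟩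
    rw [← pow_mul, mul_assoc, mul_comm q 2, ← mul_assoc, mul_comm r 2, ← hr, pow_mul,
      pow_q_pow_q hF]
  let g : F →+* F :=
    { toFun := f
      map_one' := hf1
      map_zero' := map_zero f
      map_add' := map_add f
      map_mul' := fun x y => by
        obtain ⟨a, rfl⟩ := hsq x
        have e1 := hmul2 a y
        have e2 := hmul2 a 1
        rw [mul_one, hf1, mul_one] at e2
        rw [e1, e2] }
  have hgi : Function.Injective g := RingHom.injective g
  let σ : F ≃+* F := RingEquiv.ofBijective g ⟨hgi, Finite.injective_iff_surjective.mp hgi⟩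
  refine ⟨α 1, σ, ha10, ?_⟩
  intro a
  exact hαf a

end core

end Cfsg.Agent.Lib.Helper1.SuA
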