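import Mathlib
import Cfsg.Agent.Lib.Helper5.SuzukiModel
import Cfsg.Agent.Lib.Helper1.SuA1

/-!
# Automorphisms of the unitary Suzuki 2-group `M F q` (`q` even): shape
-/

set_option autoImplicit false
set_option maxHeartbeats 4000000
set_option linter.unusedSimpArgs false
set_option linter.unusedVariables false

namespace Cfsg.Agent.Lib.Helper1.SuA

open Cfsg.Agent.Lib.Helper5.Herm Cfsg.Agent.Lib.Helper5.SuzukiModel
open scoped commutatorElement

variable {F : Type*} [Field F] [Fintype F] {q : ℕ} [hF : Fact (Fintype.card F = q ^ 2)]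

section base

variable (h2 : (2 : F) = 0)

include h2 in
theorem sq_a (g : M F q) : (g * g).a = 0 := by rw [mul_a]; exact add_self2 h2 _

include h2 in
theorem sq_b (g : M F q) : (g * g).b = Nq q g.a := by
  rw [mul_b]; unfold Nq
  linear_combination (add_self2 h2 g.b) - (g.a * g.a ^ q) * h2

/-- a chosen element with prescribed first coordinate -/
noncomputable def lift (a : F) : M F q := Classical.choose (exists_with_a a)

theorem lift_a (a : F) : (lift (q := q) a).a = a := Classical.choose_spec (exists_with_a a)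

theorem a_eq_zero_of (φ : MulAut (M F q)) {g : M F q} (hg : g.a = 0) : (φ g).a = 0 := by
  rw [← mem_center_iff] at hg ⊢
  rw [Subgroup.mem_center_iff] at hg ⊢
  intro y
  obtain ⟨y', rfl⟩ := φ.surjective y
  rw [← map_mul, ← map_mul, hg y']

/-- the induced map on first coordinates -/
noncomputable def alf (φ : MulAut (M F q)) (a : F) : F := (φ (lift a)).a

theorem apply_a (φ : MulAut (M F q)) (g : M F q) : (φ g).a = alf φ g.a := by
  have h0 : (g⁻¹ * lift g.a).a = 0 := by rw [mul_a, inv_a, lift_a]; ring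
  have h1 := a_eq_zero_of φ h0
  rw [map_mul, map_inv, mul_a, inv_a] at h1
  unfold alf
  linear_combination -h1

theorem alf_add (φ : MulAut (M F q)) (a c : F) : alf φ (a + c) = alf φ a + alf φ c := by
  have h1 : (lift (q := q) a * lift c).a = a + c := by rw [mul_a, lift_a, lift_a]
  have h3 := apply_a φ (lift (q := q) a * lift c)
  rw [h1, map_mul, mul_a, apply_a, apply_a, lift_a, lift_a] at h3
  exact h3.symm

theorem alf_mul (φ ψ : MulAut (M F q)) (a : F) : alf (φ * ψ) a = alf φ (alf ψ a) := by
  have : alf (φ * ψ) a = (φ (ψ (lift a))).a := rfl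
  rw [this, apply_a φ, apply_a ψ, lift_a]

theorem alf_one (a : F) : alf (1 : MulAut (M F q)) a = a := by
  unfold alf
  rw [MulAut.one_apply, lift_a]

/-- `alf` as an additive equivalence. -/
noncomputable def alfEquiv (φ : MulAut (M F q)) : F ≃+ F where
  toFun := alf φ
  invFun := alf φ⁻¹
  left_inv a := by rw [← alf_mul, inv_mul_cancel, alf_one]
  right_inv a := by rw [← alf_mul, mul_inv_cancel, alf_one]
  map_add' := alf_add φ

theorem alfEquiv_apply (φ : MulAut (M F q)) (a : F) : alfEquiv φ a = alf φ a := rfl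

/-- The action on first coordinates as a homomorphism. -/
noncomputable def Psi : MulAut (M F q) →* Equiv.Perm F where
  toFun φ := (alfEquiv φ).toEquiv
  map_one' := by
    ext a
    exact alf_one a
  map_mul' φ ψ := by
    ext a
    exact alf_mul φ ψ a

theorem Psi_apply (φ : MulAut (M F q)) (a : F) : Psi φ a = alf φ a := rfl

include h2 in
theorem comm_eq_one_iff (g k : M F q) : ⁅g, k⁆ = 1 ↔ Trq q (g.a ^ q * k.a) = 0 := by
  have ha : (⁅g, k⁆).a = 0 := (mem_center_iff _).mp (commutator_mem_center g k)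
  have hb := commutator_b g k
  have e : Trq q (g.a ^ q * k.a) = (⁅g, k⁆).b := by
    rw [hb]; unfold Trq
    rw [mul_pow, pow_q_pow_q hF.out]
    linear_combination (k.a * g.a ^ q) * h2
  rw [e]
  constructor
  · intro h; rw [h]; rfl
  · intro h
    apply M.ext
    · rw [ha]; rfl
    · rw [h]; rfl

include h2 in
theorem comm_iff (φ : MulAut (M F q)) (a c : F) :
    Trq q (a ^ q * c) = 0 ↔ Trq q ((alf φ a) ^ q * alf φ c) = 0 := by
  have h1 := comm_eq_one_iff h2 (lift (q := q) a) (lift c)
  have h3 := comm_eq_one_iff h2 (φ (lift (q := q) a)) (φ (lift c))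
  rw [lift_a, lift_a] at h1
  rw [apply_a, apply_a, lift_a, lift_a] at h3
  rw [← h1, ← h3, ← map_commutatorElement]
  constructor
  · intro h; rw [h, map_one]
  · intro h
    apply φ.injective
    rw [h, map_one]

include h2 in
theorem Nq_alf_congr (φ : MulAut (M F q)) {a a' : F} (h : Nq q a = Nq q a') :
    Nq q (alf φ a) = Nq q (alf φ a') := by
  have e : lift (q := q) a * lift a = lift a' * lift a' := by
    apply M.ext
    · rw [sq_a h2, sq_a h2]
    · rw [sq_b h2, sq_b h2, lift_a, lift_a, h]
  have e2 := congrArg (fun x => (φ x).b) e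
  simp only [map_mul] at e2
  rw [sq_b h2, sq_b h2, apply_a, apply_a, lift_a, lift_a] at e2
  exact e2

include h2 in
theorem Nq_alf_add (φ : MulAut (M F q)) {a c e : F} (h : Nq q e = Nq q a + Nq q c) :
    Nq q (alf φ e) = Nq q (alf φ a) + Nq q (alf φ c) := by
  have e1 : lift (q := q) e * lift e = (lift a * lift a) * (lift c * lift c) := by
    apply M.ext
    · rw [mul_a (lift a * lift a), sq_a h2, sq_a h2, sq_a h2, add_zero]
    · rw [mul_b (lift a * lift a), sq_b h2, sq_b h2, sq_b h2, sq_a h2, lift_a, lift_a, lift_a, h]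
      ring
  have e2 := congrArg (fun x => (φ x).b) e1
  simp only [map_mul] at e2
  rw [mul_b (φ (lift a) * φ (lift a)), sq_b h2, sq_b h2, sq_b h2, sq_a h2, apply_a, apply_a,
    apply_a, lift_a, lift_a, lift_a] at e2
  rw [e2]; ring

open Classical in
/-- a section of the norm -/
noncomputable def nu (q : ℕ) (s : F) : F :=
  if h : ∃ a : F, Nq q a = s then Classical.choose h else 0

theorem Nq_nu {s : F} (hs : IsK q s) : Nq q (nu q s) = s := by
  have hex : ∃ a : F, Nq q a = s := by
    by_cases h0 : s = 0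
    · exact ⟨0, by rw [h0]; unfold Nq; rw [zero_mul]⟩
    · obtain ⟨l, hl⟩ := Cfsg.Agent.Lib.Helper5.HermCount.exists_norm_eq hF.out s h0 hs
      exact ⟨l, by unfold Nq; rw [← pow_succ', hl]⟩
  unfold nu
  rw [dif_pos hex]
  exact Classical.choose_spec hex

/-- the induced map on the centre, through the norm -/
noncomputable def bet (φ : MulAut (M F q)) (s : F) : F := Nq q (alf φ (nu q s))

include h2 in
theorem bet_Nq (φ : MulAut (M F q)) (a : F) : bet φ (Nq q a) = Nq q (alf φ a) := by
  unfold bet
  exact Nq_alf_congr h2 φ (Nq_nu (isK_Nq hF.out a))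

include h2 in
theorem bet_add (φ : MulAut (M F q)) (s t : F) (hs : IsK q s) (ht : IsK q t) :
    bet φ (s + t) = bet φ s + bet φ t := by
  unfold bet
  apply Nq_alf_add h2
  rw [Nq_nu hs, Nq_nu ht, Nq_nu (isK_add hF.out hs ht)]

include h2 in
/-- The shape of an arbitrary automorphism. -/
theorem shape (hq2 : ∃ r, q = 2 * r) (φ : MulAut (M F q)) :
    ∃ (μ : F) (σ : F ≃+* F), μ ≠ 0 ∧ ∀ a, alf φ a = μ * σ a :=
  core_unitary hF.out h2 (alfEquiv φ) hq2 exists_not_fixed (bet φ) (comm_iff h2 φ)
    (bet_Nq h2 φ) (bet_add h2 φ)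

end base

end Cfsg.Agent.Lib.Helper1.SuA
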