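import Mathlib

/-!
# Counting additive endomorphisms and ring automorphisms of a finite field of order `2^n`
-/

set_option autoImplicit false
set_option maxHeartbeats 4000000
set_option linter.unusedSimpArgs false
set_option linter.unusedVariables false

namespace Cfsg.Agent.Lib.Helper1.SzA

variable {F : Type*} [Field F] [Fintype F]

theorem charP_two_of_card {n : ℕ} (hn : n ≠ 0) (hF : Fintype.card F = 2 ^ n) : CharP F 2 := by
  obtain ⟨p, hp⟩ := CharP.exists F
  haveI := hp
  haveI : Fact p.Prime := ⟨CharP.char_is_prime F p⟩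
  obtain ⟨k, hpk, hk⟩ := FiniteField.card F p
  have h1 : p ∣ 2 ^ n := by
    rw [← hF, hk]; exact dvd_pow_self p k.ne_zero
  have h2 : p ∣ 2 := hpk.dvd_of_dvd_pow h1
  have h3 : p = 2 := (Nat.prime_dvd_prime_iff_eq hpk Nat.prime_two).mp h2
  subst h3; exact hp

theorem finrank_zmod_two {n : ℕ} (hn : n ≠ 0) (hF : Fintype.card F = 2 ^ n) [CharP F 2]
    [Algebra (ZMod 2) F] : Module.finrank (ZMod 2) F = n := by
  have h := Module.card_eq_pow_finrank (K := ZMod 2) (V := F)
  rw [hF, ZMod.card] at h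
  exact (Nat.pow_right_injective (le_refl 2) h).symm

theorem card_addHom {n : ℕ} (hn : n ≠ 0) (hF : Fintype.card F = 2 ^ n) :
    Nat.card (F →+ F) = 2 ^ (n ^ 2) := by
  haveI := charP_two_of_card hn hF
  letI := ZMod.algebra F 2
  have hr := finrank_zmod_two hn hF
  rw [Nat.card_congr (AddMonoidHom.toZModLinearMapEquiv 2 (M := F) (M₁ := F)).toEquiv]
  haveI : Finite (F →ₗ[ZMod 2] F) :=
    Finite.of_injective (fun f => (f : F → F)) DFunLike.coe_injective
  letI : Fintype (F →ₗ[ZMod 2] F) := Fintype.ofFinite _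
  have h := Module.card_eq_pow_finrank (K := ZMod 2) (V := F →ₗ[ZMod 2] F)
  rw [Nat.card_eq_fintype_card, h, ZMod.card, Module.finrank_linearMap, hr, sq]

theorem card_ringAut {n : ℕ} (hn : n ≠ 0) (hF : Fintype.card F = 2 ^ n) :
    Nat.card (F ≃+* F) = n := by
  haveI := charP_two_of_card hn hF
  letI := ZMod.algebra F 2
  have hr := finrank_zmod_two hn hF
  have h := IsGalois.card_aut_eq_finrank (ZMod 2) F
  rw [hr] at h
  rw [← h]
  apply Nat.card_congr
  refine ⟨fun σ => AlgEquiv.ofRingEquiv (f := σ) (fun x => ?_), fun σ => σ.toRingEquiv, fun σ => ?_,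
    fun σ => ?_⟩
  · obtain ⟨k, rfl⟩ := ZMod.natCast_zmod_surjective x
    simp
  · ext x; rfl
  · ext x; rfl

end Cfsg.Agent.Lib.Helper1.SzA
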