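import Mathlib
import Cfsg.Agent.Lib.Helper1.SzA0
import Cfsg.Agent.Lib.Helper1.SuA2

/-!
# Automorphisms of the unitary Suzuki 2-group `M F q` (`q` even): construction and counting
-/

set_option autoImplicit false
set_option maxHeartbeats 4000000
set_option linter.unusedSimpArgs false
set_option linter.unusedVariables false

namespace Cfsg.Agent.Lib.Helper1.SuA

open Cfsg.Agent.Lib.Helper5.Herm Cfsg.Agent.Lib.Helper5.SuzukiModel
open Cfsg.Agent.Lib.Helper1.SzA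

variable {F : Type*} [Field F] [Fintype F] {q : ℕ} [hF : Fact (Fintype.card F = q ^ 2)]

section mk

/-- The endomorphism with prescribed data. -/
def mkHom (f gg : F ≃+ F) (κ : F →+ F)
    (c1 : ∀ a c, gg (c * a ^ q) = f c * (f a) ^ q)
    (c2 : ∀ a b : F, b + b ^ q + a ^ (q + 1) = 0 →
      (κ a + gg b) + (κ a + gg b) ^ q + (f a) ^ (q + 1) = 0) :
    M F q →* M F q where
  toFun g := ⟨f g.a, κ g.a + gg g.b, c2 _ _ g.h⟩
  map_one' := by
    apply M.ext
    · show f (1 : M F q).a = (1 : M F q).a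
      rw [one_a, map_zero]
    · show κ (1 : M F q).a + gg (1 : M F q).b = (1 : M F q).b
      rw [one_a, one_b, map_zero, map_zero, add_zero]
  map_mul' g k := by
    apply M.ext
    · show f (g * k).a = f g.a + f k.a
      rw [mul_a, map_add]
    · show κ (g * k).a + gg (g * k).b = (κ g.a + gg g.b) + (κ k.a + gg k.b) - f k.a * (f g.a) ^ q
      rw [mul_a, mul_b, map_add, map_sub, map_add, c1]
      ring

theorem mkHom_a (f gg : F ≃+ F) (κ : F →+ F)
    (c1 : ∀ a c, gg (c * a ^ q) = f c * (f a) ^ q)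
    (c2 : ∀ a b : F, b + b ^ q + a ^ (q + 1) = 0 →
      (κ a + gg b) + (κ a + gg b) ^ q + (f a) ^ (q + 1) = 0) (g : M F q) :
    (mkHom f gg κ c1 c2 g).a = f g.a := rfl

theorem mkHom_b (f gg : F ≃+ F) (κ : F →+ F)
    (c1 : ∀ a c, gg (c * a ^ q) = f c * (f a) ^ q)
    (c2 : ∀ a b : F, b + b ^ q + a ^ (q + 1) = 0 →
      (κ a + gg b) + (κ a + gg b) ^ q + (f a) ^ (q + 1) = 0) (g : M F q) :
    (mkHom f gg κ c1 c2 g).b = κ g.a + gg g.b := rfl

theorem mkHom_injective (f gg : F ≃+ F) (κ : F →+ F)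
    (c1 : ∀ a c, gg (c * a ^ q) = f c * (f a) ^ q)
    (c2 : ∀ a b : F, b + b ^ q + a ^ (q + 1) = 0 →
      (κ a + gg b) + (κ a + gg b) ^ q + (f a) ^ (q + 1) = 0) :
    Function.Injective (mkHom f gg κ c1 c2) := by
  intro x y hxy
  have h1 := congrArg M.a hxy
  have h3 := congrArg M.b hxy
  rw [mkHom_a, mkHom_a] at h1
  rw [mkHom_b, mkHom_b] at h3
  have h1' : x.a = y.a := f.injective h1
  rw [h1'] at h3
  have h3' : x.b = y.b := gg.injective (add_left_cancel h3)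
  exact M.ext h1' h3'

/-- The automorphism with prescribed data. -/
noncomputable def mkAut (f gg : F ≃+ F) (κ : F →+ F)
    (c1 : ∀ a c, gg (c * a ^ q) = f c * (f a) ^ q)
    (c2 : ∀ a b : F, b + b ^ q + a ^ (q + 1) = 0 →
      (κ a + gg b) + (κ a + gg b) ^ q + (f a) ^ (q + 1) = 0) : MulAut (M F q) :=
  MulEquiv.ofBijective (mkHom f gg κ c1 c2)
    ⟨mkHom_injective f gg κ c1 c2,
      Finite.injective_iff_surjective.mp (mkHom_injective f gg κ c1 c2)⟩

theorem mkAut_a (f gg : F ≃+ F) (κ : F →+ F)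
    (c1 : ∀ a c, gg (c * a ^ q) = f c * (f a) ^ q)
    (c2 : ∀ a b : F, b + b ^ q + a ^ (q + 1) = 0 →
      (κ a + gg b) + (κ a + gg b) ^ q + (f a) ^ (q + 1) = 0) (g : M F q) :
    (mkAut f gg κ c1 c2 g).a = f g.a := rfl

theorem mkAut_b (f gg : F ≃+ F) (κ : F →+ F)
    (c1 : ∀ a c, gg (c * a ^ q) = f c * (f a) ^ q)
    (c2 : ∀ a b : F, b + b ^ q + a ^ (q + 1) = 0 →
      (κ a + gg b) + (κ a + gg b) ^ q + (f a) ^ (q + 1) = 0) (g : M F q) :
    (mkAut f gg κ c1 c2 g).b = κ g.a + gg g.b := rfl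

theorem alf_mkAut (f gg : F ≃+ F) (κ : F →+ F)
    (c1 : ∀ a c, gg (c * a ^ q) = f c * (f a) ^ q)
    (c2 : ∀ a b : F, b + b ^ q + a ^ (q + 1) = 0 →
      (κ a + gg b) + (κ a + gg b) ^ q + (f a) ^ (q + 1) = 0) (a : F) :
    alf (mkAut f gg κ c1 c2) a = f a := by
  unfold alf
  rw [mkAut_a, lift_a]

end mk

section diag

omit [Fintype F] in
/-- `a ↦ μ * σ a`. -/
def scaleEq (μ : F) (hμ : μ ≠ 0) (σ : F ≃+* F) : F ≃+ F where
  toFun a := μ * σ a
  invFun a := σ.symm (μ⁻¹ * a)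
  left_inv a := by
    show σ.symm (μ⁻¹ * (μ * σ a)) = a
    rw [inv_mul_cancel_left₀ hμ, RingEquiv.symm_apply_apply]
  right_inv a := by
    show μ * σ (σ.symm (μ⁻¹ * a)) = a
    rw [RingEquiv.apply_symm_apply, mul_inv_cancel_left₀ hμ]
  map_add' a b := by rw [map_add, mul_add]

omit [Fintype F] in
theorem scaleEq_apply (μ : F) (hμ : μ ≠ 0) (σ : F ≃+* F) (a : F) :
    scaleEq μ hμ σ a = μ * σ a := rfl

omit [Fintype F] in
theorem sigma_pow (σ : F ≃+* F) (x : F) (k : ℕ) : σ (x ^ k) = (σ x) ^ k := map_pow σ x k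

include hF in
theorem diag_c1 (μ : F) (hμ : μ ≠ 0) (σ : F ≃+* F) (a c : F) :
    scaleEq (Nq q μ) (Nq_ne_zero hF.out hμ) σ (c * a ^ q) =
      scaleEq μ hμ σ c * (scaleEq μ hμ σ a) ^ q := by
  rw [scaleEq_apply, scaleEq_apply, scaleEq_apply, map_mul, map_pow]
  unfold Nq
  ring

include hF in
theorem diag_c2 (μ : F) (hμ : μ ≠ 0) (σ : F ≃+* F) (a b : F)
    (h : b + b ^ q + a ^ (q + 1) = 0) :
    ((0 : F →+ F) a + scaleEq (Nq q μ) (Nq_ne_zero hF.out hμ) σ b) +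
      ((0 : F →+ F) a + scaleEq (Nq q μ) (Nq_ne_zero hF.out hμ) σ b) ^ q +
      (scaleEq μ hμ σ a) ^ (q + 1) = 0 := by
  rw [AddMonoidHom.zero_apply, zero_add, scaleEq_apply, scaleEq_apply, mul_pow, mul_pow]
  have hK : (Nq q μ) ^ q = Nq q μ := isK_Nq hF.out μ
  have hN : μ ^ (q + 1) = Nq q μ := by unfold Nq; rw [pow_succ']
  have h1 := congrArg σ h
  rw [map_add, map_add, map_pow, map_pow, map_zero] at h1
  rw [hK, hN]
  linear_combination (Nq q μ) * h1

/-- The diagonal automorphism attached to `(μ, σ)`. -/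
noncomputable def diagAut (p : Fˣ × (F ≃+* F)) : MulAut (M F q) :=
  mkAut (scaleEq (p.1 : F) p.1.ne_zero p.2)
    (scaleEq (Nq q (p.1 : F)) (Nq_ne_zero hF.out p.1.ne_zero) p.2) 0
    (diag_c1 (p.1 : F) p.1.ne_zero p.2) (diag_c2 (p.1 : F) p.1.ne_zero p.2)

theorem alf_diagAut (p : Fˣ × (F ≃+* F)) (a : F) :
    alf (diagAut (q := q) p) a = (p.1 : F) * p.2 a := by
  unfold diagAut
  rw [alf_mkAut]
  rfl

theorem Psi_diagAut_injective :
    Function.Injective (fun p : Fˣ × (F ≃+* F) => Psi (diagAut (q := q) p)) := by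
  rintro ⟨μ, σ⟩ ⟨μ', σ'⟩ h
  have h1 : ∀ a, (μ : F) * σ a = (μ' : F) * σ' a := by
    intro a
    have := congrArg (fun e : Equiv.Perm F => e a) h
    simp only [Psi_apply, alf_diagAut] at this
    exact this
  have hμ : (μ : F) = μ' := by
    have := h1 1
    rwa [map_one, map_one, mul_one, mul_one] at this
  have hμ' : μ = μ' := Units.ext hμ
  subst hμ'
  have hσ : σ = σ' := by
    ext a
    exact mul_left_cancel₀ μ.ne_zero (h1 a)
  rw [hσ]

theorem range_Psi (h2 : (2 : F) = 0) (hq2 : ∃ r, q = 2 * r) :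
    (Set.range (Psi (F := F) (q := q)) : Set (Equiv.Perm F)) =
      Set.range (fun p : Fˣ × (F ≃+* F) => Psi (diagAut (q := q) p)) := by
  ext e
  constructor
  · rintro ⟨φ, rfl⟩
    obtain ⟨μ, σ, hμ, h1⟩ := shape h2 hq2 φ
    refine ⟨(Units.mk0 μ hμ, σ), ?_⟩
    ext a
    rw [Psi_apply, Psi_apply, alf_diagAut, h1]
    rfl
  · rintro ⟨p, rfl⟩
    exact ⟨_, rfl⟩

theorem card_range_Psi (h2 : (2 : F) = 0) {n : ℕ} (hn : 1 ≤ n) (hq : q = 2 ^ n) :
    Nat.card (Psi (F := F) (q := q)).range = (q ^ 2 - 1) * (2 * n) := by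
  have hq2 : ∃ r, q = 2 * r := ⟨2 ^ (n - 1), by
    rw [hq]; obtain ⟨k, rfl⟩ : ∃ k, n = k + 1 := ⟨n - 1, by omega⟩
    rw [Nat.add_sub_cancel, pow_succ]; ring⟩
  have hcard : Fintype.card F = 2 ^ (2 * n) := by
    rw [hF.out, hq, ← pow_mul, mul_comm]
  have h1 : ((Psi (F := F) (q := q)).range : Set (Equiv.Perm F)) = Set.range Psi :=
    MonoidHom.coe_range _
  have h3 : Nat.card (Psi (F := F) (q := q)).range = Nat.card (Set.range (Psi (F := F) (q := q))) := by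
    rw [← h1]; rfl
  rw [h3, range_Psi h2 hq2, Nat.card_range_of_injective Psi_diagAut_injective, Nat.card_prod,
    card_ringAut (by omega) hcard, Nat.card_units, Nat.card_eq_fintype_card, hF.out]

end diag

end Cfsg.Agent.Lib.Helper1.SuA
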