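import Mathlib
import Cfsg.Prelude.Def_Transfer
import Cfsg.Prelude.Def_Solvable
import Cfsg.Agent.Lib.Helper1.PCore
import Cfsg.Agent.Lib.Helper1.SuA3

/-!
# Automorphisms of the unitary Suzuki 2-group `M F q` (`q` even): kernel and `O_2`
-/

set_option autoImplicit false
set_option maxHeartbeats 4000000
set_option linter.unusedSimpArgs false
set_option linter.unusedVariables false

namespace Cfsg.Agent.Lib.Helper1.SuA

open Cfsg.Agent.Lib.Helper5.Herm Cfsg.Agent.Lib.Helper5.SuzukiModel
open Cfsg.Agent.Lib.Helper1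

theorem card_addHom_gen {A B : Type*} [AddCommGroup A] [AddCommGroup B] [Finite A] [Finite B]
    (hA2 : ∀ x : A, 2 • x = 0) (hB2 : ∀ x : B, 2 • x = 0) {a b : ℕ}
    (hA : Nat.card A = 2 ^ a) (hB : Nat.card B = 2 ^ b) : Nat.card (A →+ B) = 2 ^ (a * b) := by
  letI := AddCommGroup.zmodModule hA2
  letI := AddCommGroup.zmodModule hB2
  letI : Fintype A := Fintype.ofFinite A
  letI : Fintype B := Fintype.ofFinite B
  have hfa : Module.finrank (ZMod 2) A = a := by
    have h := Module.card_eq_pow_finrank (K := ZMod 2) (V := A)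
    rw [← Nat.card_eq_fintype_card, hA, ZMod.card] at h
    exact (Nat.pow_right_injective (le_refl 2) h).symm
  have hfb : Module.finrank (ZMod 2) B = b := by
    have h := Module.card_eq_pow_finrank (K := ZMod 2) (V := B)
    rw [← Nat.card_eq_fintype_card, hB, ZMod.card] at h
    exact (Nat.pow_right_injective (le_refl 2) h).symm
  rw [Nat.card_congr (AddMonoidHom.toZModLinearMapEquiv 2 (M := A) (M₁ := B)).toEquiv]
  haveI : Finite (A →ₗ[ZMod 2] B) :=
    Finite.of_injective (fun f => (f : A → B)) DFunLike.coe_injective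
  letI : Fintype (A →ₗ[ZMod 2] B) := Fintype.ofFinite _
  have h := Module.card_eq_pow_finrank (K := ZMod 2) (V := A →ₗ[ZMod 2] B)
  rw [Nat.card_eq_fintype_card, h, ZMod.card, Module.finrank_linearMap, hfa, hfb]

variable {F : Type*} [Field F] [Fintype F] {q : ℕ} [hF : Fact (Fintype.card F = q ^ 2)]

section kernel

variable (h2 : (2 : F) = 0)

/-- additive maps with values in the fixed field -/
abbrev KHom (F : Type*) [Field F] (q : ℕ) : Type _ := {κ : F →+ F // ∀ a, IsK q (κ a)}

include h2 in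
theorem cen_c2 (κ : F →+ F) (hκ : ∀ a, IsK q (κ a)) (a b : F)
    (h : b + b ^ q + a ^ (q + 1) = 0) :
    (κ a + (AddEquiv.refl F) b) + (κ a + (AddEquiv.refl F) b) ^ q +
      ((AddEquiv.refl F) a) ^ (q + 1) = 0 := by
  rw [AddEquiv.refl_apply, AddEquiv.refl_apply, pow_q_add hF.out]
  have := hκ a
  unfold IsK at this
  rw [this]
  linear_combination h + (κ a) * h2

/-- The central automorphism attached to `κ`. -/
noncomputable def cenAut (κ : KHom F q) : MulAut (M F q) :=
  mkAut (AddEquiv.refl F) (AddEquiv.refl F) κ.1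
    (show ∀ a c : F, (AddEquiv.refl F) (c * a ^ q) =
      (AddEquiv.refl F) c * ((AddEquiv.refl F) a) ^ q from fun a c => rfl)
    (cen_c2 h2 κ.1 κ.2)

theorem cenAut_a (κ : KHom F q) (g : M F q) : (cenAut h2 κ g).a = g.a := rfl

theorem cenAut_b (κ : KHom F q) (g : M F q) : (cenAut h2 κ g).b = κ.1 g.a + g.b := rfl

theorem cenAut_injective : Function.Injective (cenAut (q := q) h2) := by
  intro κ κ' h
  apply Subtype.ext
  ext a
  have := congrArg (fun e : MulAut (M F q) => (e (lift a)).b) h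
  simp only [cenAut_b, lift_a] at this
  exact add_right_cancel this

theorem mem_ker_iff (φ : MulAut (M F q)) : φ ∈ (Psi (F := F) (q := q)).ker ↔ ∀ a, alf φ a = a := by
  rw [MonoidHom.mem_ker]
  constructor
  · intro h a
    have := congrArg (fun e : Equiv.Perm F => e a) h
    exact this
  · intro h
    ext a
    exact h a

theorem ker_a {φ : MulAut (M F q)} (hφ : ∀ a, alf φ a = a) (g : M F q) : (φ g).a = g.a := by
  rw [apply_a, hφ]

include h2 in
theorem fix_center {φ : MulAut (M F q)} (hφ : ∀ a, alf φ a = a) {z : M F q} (hz : z.a = 0) :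
    φ z = z := by
  have hzK : IsK q z.b := by
    have := z.h
    rw [hz, zero_pow (by omega), add_zero] at this
    unfold IsK
    exact (eq_of_add_eq_zero2 h2 this).symm
  have e : lift (q := q) (nu q z.b) * lift (nu q z.b) = z := by
    apply M.ext
    · rw [sq_a h2, hz]
    · rw [sq_b h2, lift_a, Nq_nu hzK]
  rw [← e, map_mul]
  apply M.ext
  · rw [sq_a h2, sq_a h2]
  · rw [sq_b h2, sq_b h2, ker_a hφ]

/-- the off-diagonal part -/
noncomputable def kap (φ : MulAut (M F q)) (a : F) : F := (φ (lift a)).b + (lift (q := q) a).b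

include h2 in
theorem ker_b {φ : MulAut (M F q)} (hφ : ∀ a, alf φ a = a) (g : M F q) :
    (φ g).b = g.b + kap φ g.a := by
  set k := lift (q := q) g.a with hk
  have hka : k.a = g.a := lift_a _
  have hz : (k⁻¹ * g).a = 0 := by rw [mul_a, inv_a, hka]; ring
  have hg : g = k * (k⁻¹ * g) := by group
  have h1 := fix_center h2 hφ hz
  have h3 : φ g = φ k * (k⁻¹ * g) := by
    conv_lhs => rw [hg]
    rw [map_mul, h1]
  have h4 : (φ g).b = (φ k).b + (k⁻¹ * g).b := by
    rw [h3, mul_b, hz, zero_mul, sub_zero]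
  have h5 : g.b = k.b + (k⁻¹ * g).b := by
    conv_lhs => rw [hg]
    rw [mul_b, hz, zero_mul, sub_zero]
  unfold kap
  rw [← hk, h4]
  linear_combination -h5 - k.b * h2

include h2 in
theorem kap_add {φ : MulAut (M F q)} (hφ : ∀ a, alf φ a = a) (a c : F) :
    kap φ (a + c) = kap φ a + kap φ c := by
  have h1 := ker_b h2 hφ (lift (q := q) a * lift c)
  rw [map_mul, mul_b, mul_b, mul_a, ker_a hφ, ker_a hφ, ker_b h2 hφ, ker_b h2 hφ, lift_a,
    lift_a] at h1
  linear_combination -h1

include h2 in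
theorem kap_K {φ : MulAut (M F q)} (hφ : ∀ a, alf φ a = a) (a : F) : IsK q (kap φ a) := by
  have h1 := (φ (lift (q := q) a)).h
  have h3 := (lift (q := q) a).h
  rw [ker_a hφ, ker_b h2 hφ, lift_a, pow_q_add hF.out] at h1
  rw [lift_a] at h3
  unfold IsK
  have : kap φ a + (kap φ a) ^ q = 0 := by linear_combination h1 - h3
  exact (eq_of_add_eq_zero2 h2 this).symm

include h2 in
theorem ker_eq_range :
    ((Psi (F := F) (q := q)).ker : Set (MulAut (M F q))) = Set.range (cenAut (q := q) h2) := by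
  ext φ
  constructor
  · intro hφ
    have hφ' : ∀ a, alf φ a = a := (mem_ker_iff φ).mp hφ
    let κ0 : F →+ F := AddMonoidHom.mk' (kap φ) (kap_add h2 hφ')
    have hκ0 : ∀ a, IsK q (κ0 a) := fun a => by
      show IsK q (kap φ a)
      exact kap_K h2 hφ' a
    refine ⟨⟨κ0, hκ0⟩, ?_⟩
    apply MulEquiv.ext
    intro g
    apply M.ext
    · rw [cenAut_a, ker_a hφ']
    · rw [cenAut_b, ker_b h2 hφ', add_comm]
      rfl
  · rintro ⟨κ, rfl⟩
    show cenAut h2 κ ∈ (Psi (F := F) (q := q)).ker
    rw [mem_ker_iff]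
    intro a
    unfold alf
    rw [cenAut_a, lift_a]

/-- the fixed field as an additive subgroup -/
def Kadd (F : Type*) [Field F] [Fintype F] (q : ℕ) [hF : Fact (Fintype.card F = q ^ 2)] :
    AddSubgroup F where
  carrier := {t | IsK q t}
  zero_mem' := isK_zero hF.out
  add_mem' := fun hs ht => isK_add hF.out hs ht
  neg_mem' := fun {x} hx => by
    show IsK q (-x)
    unfold IsK at *
    rw [pow_q_neg hF.out, hx]

theorem card_Kadd : Nat.card (Kadd F q) = q := by
  exact (Nat.card_congr (Equiv.subtypeEquivRight (fun t => Iff.rfl))).trans (card_fix hF.out)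

/-- `KHom ≃ (F →+ K)` -/
def khomEquiv : KHom F q ≃ (F →+ Kadd F q) where
  toFun κ := AddMonoidHom.codRestrict κ.1 (Kadd F q) κ.2
  invFun ρ := ⟨(Kadd F q).subtype.comp ρ, fun a => (ρ a).2⟩
  left_inv κ := by
    apply Subtype.ext
    ext a
    rfl
  right_inv ρ := by
    ext a
    rfl

include h2 in
theorem card_KHom {n : ℕ} (hq : q = 2 ^ n) : Nat.card (KHom F q) = 2 ^ (2 * n ^ 2) := by
  rw [Nat.card_congr khomEquiv]
  have hA : Nat.card F = 2 ^ (2 * n) := by
    rw [Nat.card_eq_fintype_card, hF.out, hq, ← pow_mul, mul_comm]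
  have hB : Nat.card (Kadd F q) = 2 ^ n := by rw [card_Kadd, hq]
  have e := card_addHom_gen (A := F) (B := Kadd F q)
    (fun x => by rw [two_nsmul]; exact add_self2 h2 x)
    (fun x => by
      apply Subtype.ext
      rw [two_nsmul]
      exact add_self2 h2 x.1) hA hB
  rw [e]
  congr 1
  ring

include h2 in
theorem card_ker_Psi {n : ℕ} (hq : q = 2 ^ n) :
    Nat.card (Psi (F := F) (q := q)).ker = 2 ^ (2 * n ^ 2) := by
  have h3 : Nat.card (Psi (F := F) (q := q)).ker = Nat.card (Set.range (cenAut (q := q) h2)) := by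
    rw [← ker_eq_range]; rfl
  rw [h3, Nat.card_range_of_injective (cenAut_injective h2), card_KHom h2 hq]

include h2 in
theorem ker_comm {φ ψ : MulAut (M F q)} (hφ : φ ∈ (Psi (F := F) (q := q)).ker)
    (hψ : ψ ∈ (Psi (F := F) (q := q)).ker) : φ * ψ = ψ * φ := by
  have hφ' := (mem_ker_iff φ).mp hφ
  have hψ' := (mem_ker_iff ψ).mp hψ
  apply MulEquiv.ext
  intro g
  apply M.ext
  · rw [MulAut.mul_apply, MulAut.mul_apply, ker_a hφ', ker_a hψ', ker_a hψ', ker_a hφ']
  · rw [MulAut.mul_apply, MulAut.mul_apply, ker_b h2 hφ', ker_b h2 hψ', ker_b h2 hψ',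
      ker_b h2 hφ', ker_a hψ', ker_a hφ']
    ring

include h2 in
theorem ker_sq {φ : MulAut (M F q)} (hφ : φ ∈ (Psi (F := F) (q := q)).ker) : φ ^ 2 = 1 := by
  have hφ' := (mem_ker_iff φ).mp hφ
  apply MulEquiv.ext
  intro g
  apply M.ext
  · rw [sq, MulAut.mul_apply, ker_a hφ', ker_a hφ', MulAut.one_apply]
  · rw [sq, MulAut.mul_apply, ker_b h2 hφ', ker_b h2 hφ', ker_a hφ', MulAut.one_apply]
    linear_combination (kap φ g.a) * h2

end kernel

end Cfsg.Agent.Lib.Helper1.SuA
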