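import Mathlib
import Cfsg.Agent.Lib.Helper5.SU3Sylow
import Cfsg.Agent.Lib.Helper1.SuA4

/-!
# The automorphism group of a Sylow 2-subgroup of `SU(3, 2^n)`
-/

set_option autoImplicit false
set_option maxHeartbeats 4000000
set_option linter.unusedSimpArgs false
set_option linter.unusedVariables false

namespace Cfsg.Agent.Lib.Helper1.SuA

open Cfsg.Agent.Lib.Helper5.Herm Cfsg.Agent.Lib.Helper5.SuzukiModel
open Cfsg.Agent.Lib.Helper1

section general

variable {G H : Type*} [Group G] [Group H]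

theorem pCore_map_le [Finite G] (E : G ≃* H) (p : ℕ) [Fact p.Prime] :
    (Cfsg.pCore p G).map E.toMonoidHom ≤ Cfsg.pCore p H := by
  apply le_pCore
  · exact Subgroup.Normal.map (pCore_normal p) _ E.surjective
  · exact (pCore_isPGroup p).map _

theorem pCore_eq_map [Finite G] [Finite H] (E : G ≃* H) (p : ℕ) [Fact p.Prime] :
    Cfsg.pCore p H = (Cfsg.pCore p G).map E.toMonoidHom := by
  apply le_antisymm
  · intro x hx
    have h1 : E.symm x ∈ Cfsg.pCore p G :=
      pCore_map_le E.symm p (Subgroup.mem_map_of_mem _ hx)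
    exact ⟨E.symm x, h1, E.apply_symm_apply x⟩
  · exact pCore_map_le E p

theorem elemAb_map {p : ℕ} {A : Subgroup G} (hA : Cfsg.IsElementaryAbelian p A) (E : G ≃* H) :
    Cfsg.IsElementaryAbelian p (A.map E.toMonoidHom) := by
  obtain ⟨h1, h2⟩ := hA
  refine ⟨⟨⟨?_⟩⟩, ?_⟩
  · rintro ⟨x, a, ha, rfl⟩ ⟨y, b, hb, rfl⟩
    apply Subtype.ext
    have := congrArg Subtype.val (h1.is_comm.comm ⟨a, ha⟩ ⟨b, hb⟩)
    show E.toMonoidHom a * E.toMonoidHom b = E.toMonoidHom b * E.toMonoidHom a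
    rw [← map_mul, ← map_mul]
    exact congrArg _ this
  · rintro x ⟨a, ha, rfl⟩
    rw [← map_pow, h2 a ha, map_one]

end general

variable {F : Type*} [Field F] [Fintype F] {q : ℕ} [hF : Fact (Fintype.card F = q ^ 2)]

theorem alf_pow_of_scalar {y : MulAut (M F q)} {ρ : F} (h : ∀ z, alf y z = ρ * z) (j : ℕ) (z : F) :
    alf (y ^ j) z = ρ ^ j * z := by
  induction j generalizing z with
  | zero => rw [pow_zero, pow_zero, one_mul, alf_one]
  | succ j ih => rw [pow_succ, alf_mul, h, ih, pow_succ]; ring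

theorem scalar_trivial {n : ℕ} (hn : 1 ≤ n) (hq : q = 2 ^ n) {y : MulAut (M F q)} {ρ : F}
    (hρ : ρ ≠ 0) (h : ∀ z, alf y z = ρ * z) {k : ℕ} (hk : y ^ (2 ^ k) = 1) : ρ = 1 := by
  have h1 := alf_pow_of_scalar h (2 ^ k) 1
  rw [hk, alf_one, mul_one] at h1
  have h3 : ρ ^ (Fintype.card F - 1) = 1 := FiniteField.pow_card_sub_one_eq_one ρ hρ
  have h4 : ρ ^ Nat.gcd (2 ^ k) (Fintype.card F - 1) = 1 := pow_gcd_eq_one.mpr ⟨h1.symm, h3⟩
  have hodd : Odd (Fintype.card F - 1) := by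
    rw [hF.out, hq, ← pow_mul]
    have : 1 ≤ 2 ^ (n * 2) := Nat.one_le_two_pow
    apply Nat.Even.sub_odd this
    · exact ⟨2 ^ (n * 2 - 1), by
        obtain ⟨j, hj⟩ : ∃ j, n * 2 = j + 1 := ⟨n * 2 - 1, by omega⟩
        rw [hj, Nat.add_sub_cancel, pow_succ]; ring⟩
    · exact odd_one
  have hc : Nat.Coprime (2 ^ k) (Fintype.card F - 1) :=
    Nat.Coprime.pow_left k (Nat.coprime_two_left.mpr hodd)
  rw [hc, pow_one] at h4
  exact h4

theorem card_aut_M (h2 : (2 : F) = 0) {n : ℕ} (hn : 1 ≤ n) (hq : q = 2 ^ n) :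
    Nat.card (MulAut (M F q)) = 2 ^ (2 * n ^ 2) * (2 * n * ((2 ^ n) ^ 2 - 1)) := by
  have h1 := Subgroup.card_mul_index (Psi (F := F) (q := q)).ker
  rw [Subgroup.index_ker, card_ker_Psi h2 hq, card_range_Psi h2 hn hq] at h1
  rw [← h1, hq]; ring

theorem pCore_aut_M (h2 : (2 : F) = 0) {n : ℕ} (hn : 1 ≤ n) (hq : q = 2 ^ n) :
    Cfsg.pCore 2 (MulAut (M F q)) = (Psi (F := F) (q := q)).ker := by
  haveI : Fact (Nat.Prime 2) := ⟨Nat.prime_two⟩
  have hq2 : ∃ r, q = 2 * r := ⟨2 ^ (n - 1), by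
    rw [hq]; obtain ⟨k, rfl⟩ : ∃ k, n = k + 1 := ⟨n - 1, by omega⟩
    rw [Nat.add_sub_cancel, pow_succ]; ring⟩
  apply le_antisymm
  · intro x hx
    rw [mem_ker_iff]
    have hO := pCore_isPGroup (G := MulAut (M F q)) 2
    have hnorm := pCore_normal (G := MulAut (M F q)) 2
    obtain ⟨μ, σ, hμ, hx1⟩ := shape h2 hq2 x
    -- σ is trivial
    have hσ : ∀ ν : F, ν ≠ 0 → σ ν = ν := by
      intro ν hν
      set D : MulAut (M F q) := diagAut (Units.mk0 ν hν, RingEquiv.refl F) with hD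
      have hDa : ∀ a, alf D a = ν * a := by
        intro a; rw [hD, alf_diagAut]; rfl
      set c : MulAut (M F q) := D * x * D⁻¹ * x⁻¹ with hc
      have hcO : c ∈ Cfsg.pCore 2 (MulAut (M F q)) :=
        mul_mem (hnorm.conj_mem x hx D) (inv_mem hx)
      have hrel : c * x * D = D * x := by rw [hc]; group
      have hσν : σ ν ≠ 0 := by
        intro h0; exact hν ((map_eq_zero_iff σ σ.injective).mp h0)
      have hca : ∀ z, alf c z = (ν / σ ν) * z := by
        intro z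
        have h5 := congrArg (fun y : MulAut (M F q) => alf y (σ.symm (z / (μ * σ ν)))) hrel
        simp only [alf_mul, hDa, hx1, map_mul, RingEquiv.apply_symm_apply] at h5
        have e : μ * (σ ν * (z / (μ * σ ν))) = z := by field_simp
        rw [e] at h5
        rw [h5]; field_simp
      obtain ⟨k, hk⟩ := hO ⟨c, hcO⟩
      have hk' : c ^ (2 ^ k) = 1 := by
        have := congrArg Subtype.val hk
        simpa using this
      have := scalar_trivial hn hq (div_ne_zero hν hσν) hca hk'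
      rw [div_eq_one_iff_eq hσν] at this
      exact this.symm
    have hx2 : ∀ z, alf x z = μ * z := by
      intro z
      rw [hx1]
      by_cases hz : z = 0
      · subst hz; rw [map_zero]
      · rw [hσ z hz]
    obtain ⟨k, hk⟩ := hO ⟨x, hx⟩
    have hk' : x ^ (2 ^ k) = 1 := by
      have := congrArg Subtype.val hk
      simpa using this
    have hμ1 := scalar_trivial hn hq hμ hx2 hk'
    intro a
    rw [hx2, hμ1, one_mul]
  · apply le_pCore (MonoidHom.normal_ker _)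
    exact IsPGroup.of_card (card_ker_Psi h2 hq)

theorem elemAb_ker (h2 : (2 : F) = 0) :
    Cfsg.IsElementaryAbelian 2 (Psi (F := F) (q := q)).ker :=
  ⟨⟨⟨fun a b => Subtype.ext (ker_comm h2 a.2 b.2)⟩⟩, fun a ha => ker_sq h2 ha⟩

theorem main_transfer (h2 : (2 : F) = 0) {n : ℕ} (hn : 1 ≤ n) (hq : q = 2 ^ n)
    {S : Type*} [Group S] [Finite S] (e : S ≃* M F q) :
    Cfsg.IsElementaryAbelian 2 (Cfsg.pCore 2 (MulAut S)) ∧
      Nat.card ↥(Cfsg.pCore 2 (MulAut S)) = 2 ^ (2 * n ^ 2) ∧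
      Nat.card (MulAut S) = 2 ^ (2 * n ^ 2) * (2 * n * ((2 ^ n) ^ 2 - 1)) := by
  haveI : Fact (Nat.Prime 2) := ⟨Nat.prime_two⟩
  have E : MulAut (M F q) ≃* MulAut S := (MulAut.congr e).symm
  have h1 : Cfsg.pCore 2 (MulAut S) = ((Psi (F := F) (q := q)).ker).map E.toMonoidHom := by
    rw [pCore_eq_map E 2, pCore_aut_M h2 hn hq]
  refine ⟨?_, ?_, ?_⟩
  · rw [h1]; exact elemAb_map (elemAb_ker h2) E
  · rw [h1, Subgroup.card_map_of_injective E.injective, card_ker_Psi h2 hq]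
  · rw [← Nat.card_congr E.toEquiv, card_aut_M h2 hn hq]

end Cfsg.Agent.Lib.Helper1.SuA
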