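import Mathlib
import Cfsg.Agent.Lib.Helper5.SU3Sylow
import Cfsg.Agent.Lib.Helper1.SuA5

/-!
# Sylow 2-subgroups of `SU(3, 2^n)` are isomorphic to the model group; statement S3162
-/

set_option autoImplicit false
set_option maxHeartbeats 4000000
set_option linter.unusedSimpArgs false
set_option linter.unusedVariables false

namespace Cfsg.Agent.Lib.Helper1.SuA

open Cfsg.Agent.Lib.Helper5.Herm Cfsg.Agent.Lib.Helper5.SuzukiModel
open Cfsg.Agent.Lib.Helper5.SU3Sylow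

variable {F : Type*} [Field F] [Fintype F] {q : ℕ} [hF : Fact (Fintype.card F = q ^ 2)]

theorem card_SU3 : Nat.card ↥(Cfsg.SU 3 F q) = q ^ 3 * ((q ^ 2 - 1) * (q ^ 3 + 1)) := by
  have h1 := Cfsg.Agent.Lib.Helper5.HermCard.card_GU hF.out 3
  have h2 := Cfsg.Agent.Lib.Helper5.HermCard.card_SU hF.out 3 (by norm_num)
  have hprod : ∏ i ∈ Finset.range 3, (if Even i then q ^ (i + 1) + 1 else q ^ (i + 1) - 1) =
      (q + 1) * ((q ^ 2 - 1) * (q ^ 3 + 1)) := by
    rw [Finset.prod_range_succ, Finset.prod_range_succ, Finset.prod_range_succ,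
      Finset.prod_range_zero]
    have e0 : Even 0 := by decide
    have e1 : ¬ Even 1 := by decide
    have e2 : Even 2 := by decide
    simp only [e0, e1, e2, if_true, if_false]
    ring
  rw [hprod] at h1
  rw [h1] at h2
  have e : 3 * (3 - 1) / 2 = 3 := by norm_num
  rw [e] at h2
  have hq1 : 0 < q + 1 := by omega
  have : (q + 1) * Nat.card ↥(Cfsg.SU 3 F q) = (q + 1) * (q ^ 3 * ((q ^ 2 - 1) * (q ^ 3 + 1))) := by
    rw [h2]; ring
  exact Nat.eq_of_mul_eq_mul_left hq1 this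

theorem exists_equiv_SU [CharP F 2] {n : ℕ} (hn : 1 ≤ n) (hq : q = 2 ^ n) (S : Sylow 2 ↥(Cfsg.SU 3 F q)) :
    Nonempty (↥(S : Subgroup ↥(Cfsg.SU 3 F q)) ≃* M F q) := by
  haveI : Fact (Nat.Prime 2) := ⟨Nat.prime_two⟩
  have hinj := embSU_injective (F := F) (q := q)
  have hq3 : q ^ 3 = 2 ^ (3 * n) := by rw [hq, ← pow_mul, mul_comm]
  have hcard : Nat.card (embSU (F := F) (q := q)).range = 2 ^ (3 * n) := by
    rw [← Nat.card_congr (MonoidHom.ofInjective hinj).toEquiv, card_M, hq3]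
  have hp : IsPGroup 2 (embSU (F := F) (q := q)).range := IsPGroup.of_card hcard
  have hidx : ¬ 2 ∣ (embSU (F := F) (q := q)).range.index := by
    intro hdvd
    have h1 := Subgroup.card_mul_index (embSU (F := F) (q := q)).range
    have h2 := card_SU3 (F := F) (q := q)
    have hcard' : Nat.card (embSU (F := F) (q := q)).range = q ^ 3 := by rw [hcard, hq3]
    rw [← h1, hcard'] at h2
    have hq0 : 0 < q ^ 3 := by rw [hq3]; positivity
    have h3 : (embSU (F := F) (q := q)).range.index = (q ^ 2 - 1) * (q ^ 3 + 1) :=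
      Nat.eq_of_mul_eq_mul_left hq0 h2
    have h4 : 2 ∣ (q ^ 2 - 1) * (q ^ 3 + 1) := by rw [← h3]; exact hdvd
    have hqe : 2 ∣ q := by rw [hq]; exact dvd_pow_self 2 (by omega)
    have hq1 : 1 ≤ q := by rw [hq]; exact Nat.one_le_two_pow
    have h5 : ¬ 2 ∣ (q ^ 2 - 1) := by
      obtain ⟨c, hc⟩ := hqe
      have hc1 : 1 ≤ c := by omega
      have : q ^ 2 - 1 = 2 * (2 * c * c - 1) + 1 := by
        rw [hc]
        have : 1 ≤ 2 * c * c := by nlinarith
        have e : (2 * c) ^ 2 = 2 * (2 * c * c) := by ring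
        rw [e]; omega
      omega
    have h6 : ¬ 2 ∣ (q ^ 3 + 1) := by
      obtain ⟨c, hc⟩ := hqe
      have : q ^ 3 + 1 = 2 * (4 * c * c * c) + 1 := by rw [hc]; ring
      omega
    rcases (Nat.Prime.dvd_mul Nat.prime_two).mp h4 with h | h
    · exact h5 h
    · exact h6 h
  have hfin : Finite ↥(Cfsg.SU 3 F q) := by
    apply Nat.finite_of_card_ne_zero
    rw [card_SU3]
    have hq1 : 2 ≤ q := two_le_q hF.out
    have : 0 < q ^ 3 * ((q ^ 2 - 1) * (q ^ 3 + 1)) := by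
      apply Nat.mul_pos (by positivity)
      apply Nat.mul_pos _ (by positivity)
      have : 4 ≤ q ^ 2 := by nlinarith
      omega
    omega
  have e₁ : ↥(S : Subgroup ↥(Cfsg.SU 3 F q)) ≃* ↥((hp.toSylow hidx : Sylow 2 ↥(Cfsg.SU 3 F q)) :
      Subgroup ↥(Cfsg.SU 3 F q)) := Sylow.equiv S (hp.toSylow hidx)
  exact ⟨e₁.trans (MonoidHom.ofInjective hinj).symm⟩

theorem main_S3162 {S : Type*} [Group S] [Finite S] (n : ℕ) (hn : 2 ≤ n)
    {F : Type*} [Field F] [Fintype F] (hF : Fintype.card F = 4 ^ n)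
    (P : Sylow 2 ↥(Cfsg.SU 3 F (2 ^ n)))
    (hS : Nonempty (S ≃* ↥(P : Subgroup ↥(Cfsg.SU 3 F (2 ^ n))))) :
    Cfsg.IsElementaryAbelian 2 (Cfsg.pCore 2 (MulAut S)) ∧
      Nat.card ↥(Cfsg.pCore 2 (MulAut S)) = 2 ^ (2 * n ^ 2) ∧
      Nat.card (MulAut S) = 2 ^ (2 * n ^ 2) * (2 * n * ((2 ^ n) ^ 2 - 1)) := by
  have hF' : Fintype.card F = (2 ^ n) ^ 2 := by
    rw [hF, ← pow_mul, show (4 : ℕ) = 2 ^ 2 by norm_num, ← pow_mul, mul_comm]
  haveI : Fact (Fintype.card F = (2 ^ n) ^ 2) := ⟨hF'⟩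
  have hcard2 : Fintype.card F = 2 ^ (2 * n) := by rw [hF', ← pow_mul, mul_comm]
  haveI := Cfsg.Agent.Lib.Helper1.SzA.charP_two_of_card (F := F) (n := 2 * n) (by omega) hcard2
  have h2 : (2 : F) = 0 := by
    have := CharP.cast_eq_zero F 2
    exact_mod_cast this
  obtain ⟨e⟩ := hS
  obtain ⟨e2⟩ := exists_equiv_SU (F := F) (q := 2 ^ n) (n := n) (by omega) rfl P
  exact main_transfer h2 (by omega) rfl (e.trans e2)

end Cfsg.Agent.Lib.Helper1.SuA
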