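import Mathlib
import Cfsg.Agent.Lib.Helper1.WielandtJoin
import Cfsg.Agent.Lib.Helper1.CoprimeSylow
open Pointwise

set_option autoImplicit false

namespace Cfsg.Agent.Lib.Helper1

universe u

variable {G : Type u} [Group G]

theorem iterate_commutator_mono {H K : Subgroup G} (hHK : H ≤ K) (m : ℕ) :
    (fun L : Subgroup G => ⁅L, H⁆)^[m] ⊤ ≤ (fun L : Subgroup G => ⁅L, K⁆)^[m] ⊤ := by
  induction m with
  | zero => exact le_rfl
  | succ m ih =>
    rw [Function.iterate_succ_apply', Function.iterate_succ_apply']
    exact Subgroup.commutator_mono ih hHK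

theorem iterate_commutator_antitone (H : Subgroup G) (m : ℕ) :
    (fun L : Subgroup G => ⁅L, H⁆)^[m + 1] ⊤ ≤ (fun L : Subgroup G => ⁅L, H⁆)^[m] ⊤ := by
  induction m with
  | zero => exact le_top
  | succ m ih =>
    rw [Function.iterate_succ_apply', Function.iterate_succ_apply' (n := m)]
    rw [Function.iterate_succ_apply'] at ih
    exact Subgroup.commutator_mono ih le_rfl

theorem le_normalizer_iterate_commutator (H : Subgroup G) (m : ℕ) :
    H ≤ Subgroup.normalizer (((fun L : Subgroup G => ⁅L, H⁆)^[m] ⊤ : Subgroup G) : Set G) := by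
  cases m with
  | zero =>
    intro x _
    rw [Function.iterate_zero, id, Subgroup.mem_normalizer_iff]
    intro y; simp
  | succ m =>
    rw [Function.iterate_succ_apply']
    exact Subgroup.normalizer_commutator_ge_right _ _

open scoped commutatorElement in
theorem isSubnormal_iff_iterate_commutator_le (H : Subgroup G) :
    H.IsSubnormal ↔ ∃ m : ℕ, (fun K : Subgroup G => ⁅K, H⁆)^[m] ⊤ ≤ H := by
  constructor
  · intro h
    induction h with
    | top => exact ⟨0, le_rfl⟩
    | step H K hHK hKsn hHn ih =>
      obtain ⟨m, hm⟩ := ih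
      refine ⟨m + 1, ?_⟩
      rw [Function.iterate_succ_apply']
      have h1 : (fun L : Subgroup G => ⁅L, H⁆)^[m] ⊤ ≤ K := (iterate_commutator_mono hHK m).trans hm
      have h2 : K ≤ Subgroup.normalizer (H : Set G) :=
        (Subgroup.normal_subgroupOf_iff_le_normalizer hHK).mp hHn
      calc ⁅(fun L : Subgroup G => ⁅L, H⁆)^[m] ⊤, H⁆ ≤ ⁅K, H⁆ := Subgroup.commutator_mono h1 le_rfl
        _ = ⁅H, K⁆ := Subgroup.commutator_comm _ _
        _ ≤ H := Subgroup.le_normalizer_iff_commutator_le_left.mp h2
  · rintro ⟨m, hm⟩
    set L : ℕ → Subgroup G := fun i => (fun K : Subgroup G => ⁅K, H⁆)^[i] ⊤ with hL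
    have hall : ∀ i, (H ⊔ L i).IsSubnormal := by
      intro i
      induction i with
      | zero =>
        have : H ⊔ L 0 = ⊤ := by simp [hL]
        rw [this]; exact Subgroup.IsSubnormal.top
      | succ i ih =>
        have hle : H ⊔ L (i + 1) ≤ H ⊔ L i := sup_le_sup_left (iterate_commutator_antitone H i) H
        refine Subgroup.IsSubnormal.step _ _ hle ih ?_
        apply Subgroup.normal_subgroupOf_of_le_normalizer
        have hLsucc : L (i + 1) = ⁅L i, H⁆ := Function.iterate_succ_apply' _ _ _
        apply sup_le
        · exact le_normalizer_sup Subgroup.le_normalizer (le_normalizer_iterate_commutator H (i + 1))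
        · apply le_normalizer_of_conj_mem
          intro g hg y hy
          have hgN : g ∈ Subgroup.normalizer ((L (i + 1) : Subgroup G) : Set G) := by
            rw [hLsucc]
            exact Subgroup.normalizer_commutator_ge_left _ _ hg
          have h1 : MulAut.conj g • (H ⊔ L (i + 1)) ≤ H ⊔ L (i + 1) := by
            rw [Subgroup.smul_sup, conj_smul_eq_of_mem_normalizer hgN]
            apply sup_le _ le_sup_right
            intro z hz
            rw [mem_conj_smul_iff] at hz
            have e : z = ⁅g, g⁻¹ * z * g⁆ * (g⁻¹ * z * g) := by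
              rw [commutatorElement_def]; group
            rw [e]
            refine Subgroup.mul_mem _ (le_sup_right (a := H) ?_) (le_sup_left (b := L (i + 1)) hz)
            rw [hLsucc]
            exact Subgroup.commutator_mem_commutator hg hz
          apply h1
          rw [mem_conj_smul_iff]
          have e : g⁻¹ * (g * y * g⁻¹) * g = y := by group
          rw [e]; exact hy
    have := hall m
    rwa [sup_of_le_left hm] at this

end Cfsg.Agent.Lib.Helper1
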