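import Mathlib
import Cfsg.Prelude.Def_SolvableStructure
import Cfsg.Agent.Lib.Helper1.SupersolvablePrime
import Cfsg.Agent.Lib.Helper1.Hall
import Cfsg.Agent.Lib.Helper1.FrattiniAction

/-! Supersolvable groups: a normal subgroup of order the largest prime divisor. -/
set_option autoImplicit false
universe u v
open Cfsg
namespace Cfsg.Agent.Lib.Helper1
variable {G : Type u} [Group G]

/-- A normal subgroup of order `q * p` with primes `q < p` contains a normal (in `G`) subgroup of order `p`. -/
theorem exists_normal_card_prime_of_card_mul [Finite G] (M : Subgroup G) [hM : M.Normal] (p q : ℕ)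
    [hp : Fact p.Prime] (hq : q.Prime) (hqp : q < p) (hcard : Nat.card M = q * p) :
    ∃ N : Subgroup G, N.Normal ∧ Nat.card N = p := by
  let P : Sylow p M := default
  have hPcard : Nat.card P = p := by
    rw [Sylow.card_eq_multiplicity, hcard]
    have hpq : ¬ p ∣ q := by
      intro h
      have := (Nat.prime_dvd_prime_iff_eq hp.out hq).mp h
      omega
    rw [Nat.factorization_mul hq.ne_zero hp.out.ne_zero, Finsupp.add_apply,
      Nat.factorization_eq_zero_of_not_dvd hpq, hp.out.factorization_self, zero_add, pow_one]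
  have hidx : (P : Subgroup M).index = q := by
    have h1 := (P : Subgroup M).card_mul_index
    rw [hPcard, hcard, mul_comm] at h1
    exact Nat.eq_of_mul_eq_mul_right hp.out.pos h1
  have hn1 : Nat.card (Sylow p M) = 1 := by
    have h1 : Nat.card (Sylow p M) ∣ q := hidx ▸ Sylow.card_dvd_index P
    have h2 : Nat.card (Sylow p M) ≡ 1 [MOD p] := card_sylow_modEq_one p M
    rcases (Nat.dvd_prime hq).mp h1 with h | h
    · exact h
    · exfalso
      rw [h] at h2
      have h3 : q % p = 1 % p := h2
      rw [Nat.mod_eq_of_lt hqp, Nat.mod_eq_of_lt hp.out.one_lt] at h3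
      exact hq.ne_one h3
  have hPn : (P : Subgroup M).Normal := by
    have hsub : Subsingleton (Sylow p M) := (Nat.card_eq_one_iff_unique.mp hn1).1
    exact Sylow.normal_of_subsingleton P
  have hPchar : (P : Subgroup M).Characteristic := Sylow.characteristic_of_normal P hPn
  refine ⟨(P : Subgroup M).map M.subtype, ?_, ?_⟩
  · have h1 := normalizer_le_normalizer_map_characteristic M (P : Subgroup M)
    rw [Subgroup.normalizer_eq_top] at h1
    exact Subgroup.normalizer_eq_top_iff.mp (top_le_iff.mp h1)
  · rw [Subgroup.card_map_of_injective M.subtype_injective]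
    exact hPcard

theorem exists_normal_card_eq_largest_prime (G : Type u) [Group G] [Finite G]
    (hG : IsSupersolvable G) (p : ℕ) (hp : p.Prime) (hpd : p ∣ Nat.card G)
    (hmax : ∀ q : ℕ, q.Prime → q ∣ Nat.card G → q ≤ p) :
    ∃ N : Subgroup G, N.Normal ∧ Nat.card N = p := by
  have := supersolvable_induction_prime
    (fun G _ => Finite G → ∀ p : ℕ, p.Prime → p ∣ Nat.card G →
      (∀ q : ℕ, q.Prime → q ∣ Nat.card G → q ≤ p) → ∃ N : Subgroup G, N.Normal ∧ Nat.card N = p)
    ?_ ?_ G hG
  · exact this inferInstance p hp hpd hmax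
  · intro G _ _ _ p hp hpd _
    rw [Nat.card_unique] at hpd
    exact absurd (Nat.dvd_one.mp hpd) hp.ne_one
  · intro G _ _ N₀ hN₀n hN₀p _ _ ih _ p hp hpd hmax
    have hGcard : Nat.card G = Nat.card N₀ * Nat.card (G ⧸ N₀) := by
      rw [← Subgroup.index_eq_card, Subgroup.card_mul_index]
    by_cases hqp : Nat.card N₀ = p
    · exact ⟨N₀, hN₀n, hqp⟩
    · have hq_le : Nat.card N₀ ≤ p := hmax _ hN₀p (Subgroup.card_subgroup_dvd_card N₀)
      have hlt : Nat.card N₀ < p := lt_of_le_of_ne hq_le hqp
      have hpd' : p ∣ Nat.card (G ⧸ N₀) := by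
        rw [hGcard] at hpd
        rcases (Nat.Prime.dvd_mul hp).mp hpd with h | h
        · exact absurd ((Nat.prime_dvd_prime_iff_eq hp hN₀p).mp h).symm hqp
        · exact h
      have hmax' : ∀ q : ℕ, q.Prime → q ∣ Nat.card (G ⧸ N₀) → q ≤ p := by
        intro q hq hqd
        apply hmax q hq
        rw [hGcard]
        exact hqd.mul_left _
      obtain ⟨Mq, hMqn, hMqcard⟩ := ih inferInstance p hp hpd' hmax'
      have : Fact p.Prime := ⟨hp⟩
      have : (Mq.comap (QuotientGroup.mk' N₀)).Normal := hMqn.comap _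
      exact exists_normal_card_prime_of_card_mul (Mq.comap (QuotientGroup.mk' N₀)) p (Nat.card N₀)
        hN₀p hlt (by rw [card_comap_mk', hMqcard])

end Cfsg.Agent.Lib.Helper1
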