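import Mathlib
import Cfsg.Prelude.Def_SolvableStructure
import Cfsg.Agent.Lib.Helper1.SupersolvableLargestPrime

/-! Supersolvable groups: chief series with non-increasing primes. -/
set_option autoImplicit false
universe u v
open Cfsg
namespace Cfsg.Agent.Lib.Helper1
variable {G : Type u} [Group G]

theorem supersolvable_chain_decreasing_primes_aux : ∀ (n : ℕ) (G : Type u) [Group G] [Finite G],
    Nat.card G = n → IsSupersolvable G →
    ∃ (k : ℕ) (H : Fin (k + 1) → Subgroup G), H 0 = ⊥ ∧ H (Fin.last k) = ⊤ ∧ (∀ i, (H i).Normal) ∧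
      (∀ i : Fin k, H i.castSucc ≤ H i.succ ∧ ((H i.castSucc).relIndex (H i.succ)).Prime) ∧
      ∀ i j : Fin k, i ≤ j →
        (H j.castSucc).relIndex (H j.succ) ≤ (H i.castSucc).relIndex (H i.succ) := by
  intro n
  induction n using Nat.strong_induction_on with
  | _ n ih =>
  intro G _ _ hn hG
  by_cases htriv : Subsingleton G
  · refine ⟨0, fun _ => ⊥, rfl, Subsingleton.elim _ _, fun _ => inferInstance,
      fun i => i.elim0, fun i => i.elim0⟩
  rw [not_subsingleton_iff_nontrivial] at htriv
  have hcard1 : 1 < Nat.card G := Finite.one_lt_card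
  have hne : (Nat.card G).primeFactors.Nonempty := by
    rw [Nat.nonempty_primeFactors]; exact hcard1
  obtain ⟨p, hpdef⟩ : ∃ p, p = (Nat.card G).primeFactors.max' hne := ⟨_, rfl⟩
  have hpmem : p ∈ (Nat.card G).primeFactors := hpdef ▸ Finset.max'_mem _ hne
  have hp : p.Prime := Nat.prime_of_mem_primeFactors hpmem
  have hpd : p ∣ Nat.card G := Nat.dvd_of_mem_primeFactors hpmem
  have hmax : ∀ q : ℕ, q.Prime → q ∣ Nat.card G → q ≤ p := by
    intro q hq hqd
    rw [hpdef]
    apply Finset.le_max'
    exact Nat.mem_primeFactors.mpr ⟨hq, hqd, Nat.card_pos.ne'⟩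
  obtain ⟨N, hNn, hNcard⟩ := exists_normal_card_eq_largest_prime G hG p hp hpd hmax
  have hNne : N ≠ ⊥ := by
    intro h
    rw [h, Subgroup.card_bot] at hNcard
    exact hp.ne_one hNcard.symm
  have hQ : IsSupersolvable (G ⧸ N) := isSupersolvable_quotient hG N
  obtain ⟨k, Hq, hq0, hql, hqn, hqstep, hqmono⟩ :=
    ih _ (hn ▸ card_quotient_lt_of_ne_bot N hNne) (G ⧸ N) rfl hQ
  have hsurj := QuotientGroup.mk'_surjective N
  have hGcard : Nat.card G = Nat.card N * Nat.card (G ⧸ N) := by
    rw [← Subgroup.index_eq_card, Subgroup.card_mul_index]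
  refine ⟨k + 1, Fin.cons ⊥ (fun i => (Hq i).comap (QuotientGroup.mk' N)), ?_, ?_, ?_, ?_, ?_⟩
  · rw [Fin.cons_zero]
  · rw [← Fin.succ_last, Fin.cons_succ, hql, Subgroup.comap_top]
  · intro i
    induction i using Fin.cases with
    | zero => rw [Fin.cons_zero]; infer_instance
    | succ j => rw [Fin.cons_succ]; exact (hqn j).comap _
  · intro i
    induction i using Fin.cases with
    | zero =>
      rw [Fin.castSucc_zero, Fin.cons_zero, Fin.cons_succ, hq0]
      refine ⟨bot_le, ?_⟩
      rw [Subgroup.relIndex_bot_left]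
      have : (⊥ : Subgroup (G ⧸ N)).comap (QuotientGroup.mk' N) = N := QuotientGroup.ker_mk' N
      rw [this, hNcard]; exact hp
    | succ j =>
      rw [← Fin.succ_castSucc, Fin.cons_succ, Fin.cons_succ]
      refine ⟨Subgroup.comap_mono (hqstep j).1, ?_⟩
      rw [Subgroup.relIndex_comap, Subgroup.map_comap_eq_self_of_surjective hsurj]
      exact (hqstep j).2
  · have hR0 : ((Fin.cons ⊥ (fun i => (Hq i).comap (QuotientGroup.mk' N)) :
        Fin (k + 2) → Subgroup G) (Fin.castSucc (0 : Fin (k + 1)))).relIndex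
        ((Fin.cons ⊥ (fun i => (Hq i).comap (QuotientGroup.mk' N)) :
        Fin (k + 2) → Subgroup G) (Fin.succ (0 : Fin (k + 1)))) = p := by
      rw [Fin.castSucc_zero, Fin.cons_zero, Fin.cons_succ, hq0, Subgroup.relIndex_bot_left]
      have : (⊥ : Subgroup (G ⧸ N)).comap (QuotientGroup.mk' N) = N := QuotientGroup.ker_mk' N
      rw [this, hNcard]
    have hRs : ∀ j : Fin k, ((Fin.cons ⊥ (fun i => (Hq i).comap (QuotientGroup.mk' N)) :
        Fin (k + 2) → Subgroup G) (Fin.castSucc (Fin.succ j))).relIndex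
        ((Fin.cons ⊥ (fun i => (Hq i).comap (QuotientGroup.mk' N)) :
        Fin (k + 2) → Subgroup G) (Fin.succ (Fin.succ j))) =
        (Hq j.castSucc).relIndex (Hq j.succ) := by
      intro j
      rw [← Fin.succ_castSucc, Fin.cons_succ, Fin.cons_succ, Subgroup.relIndex_comap,
        Subgroup.map_comap_eq_self_of_surjective hsurj]
    intro i j hij
    induction i using Fin.cases with
    | zero =>
      induction j using Fin.cases with
      | zero => exact le_rfl
      | succ j' =>
        rw [hR0, hRs]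
        apply hmax _ (hqstep j').2
        rw [hGcard]
        exact (Subgroup.relIndex_dvd_card _ _).trans
          ((Subgroup.card_subgroup_dvd_card _).trans (Nat.dvd_mul_left _ _))
    | succ i' =>
      induction j using Fin.cases with
      | zero => exact absurd hij (by simp [Fin.succ_ne_zero])
      | succ j' =>
        rw [hRs, hRs]
        exact hqmono i' j' (Fin.succ_le_succ_iff.mp hij)

end Cfsg.Agent.Lib.Helper1
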