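import Mathlib
import Cfsg.Prelude.Def_SolvableStructure
import Cfsg.Agent.Lib.Helper1.Supersolvable

/-! Supersolvable groups: direct products. -/
set_option autoImplicit false
universe u v
open Cfsg
namespace Cfsg.Agent.Lib.Helper1
variable {G : Type u} [Group G]

theorem map_inl_eq_prod_bot {H : Type v} [Group H] (A : Subgroup G) :
    A.map (MonoidHom.inl G H) = A.prod ⊥ := by
  ext ⟨x, y⟩
  rw [Subgroup.mem_prod, Subgroup.mem_bot]
  constructor
  · rintro ⟨a, ha, hxy⟩
    rw [MonoidHom.inl_apply, Prod.mk.injEq] at hxy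
    exact ⟨hxy.1 ▸ ha, hxy.2.symm⟩
  · rintro ⟨hx, hy⟩
    exact ⟨x, hx, by rw [MonoidHom.inl_apply]; exact Prod.ext rfl hy.symm⟩

theorem SSStep.map_inl {H : Type v} [Group H] {A B : Subgroup G} (h : SSStep A B) :
    SSStep (A.map (MonoidHom.inl G H)) (B.map (MonoidHom.inl G H)) := by
  obtain ⟨hA, hB, g, hg⟩ := h
  refine ⟨?_, ?_, MonoidHom.inl G H g, ?_⟩
  · rw [map_inl_eq_prod_bot]; infer_instance
  · rw [map_inl_eq_prod_bot]; infer_instance
  · rw [hg, Subgroup.map_sup, MonoidHom.map_zpowers]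

theorem reflTransGen_map_inl {H : Type v} [Group H] {A B : Subgroup G}
    (h : Relation.ReflTransGen SSStep A B) :
    Relation.ReflTransGen SSStep (A.map (MonoidHom.inl G H)) (B.map (MonoidHom.inl G H)) := by
  induction h with
  | refl => exact Relation.ReflTransGen.refl
  | tail _ hbc ih => exact Relation.ReflTransGen.tail ih hbc.map_inl

theorem isSupersolvable_prod {H : Type v} [Group H] (hG : IsSupersolvable G)
    (hH : IsSupersolvable H) : IsSupersolvable (G × H) := by
  rw [isSupersolvable_iff_reflTransGen] at hG hH ⊢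
  have h1 := reflTransGen_map_inl (H := H) hG
  have h2 := reflTransGen_comap (MonoidHom.snd G H) (fun h => ⟨(1, h), rfl⟩) hH
  rw [Subgroup.map_bot] at h1
  rw [Subgroup.comap_top] at h2
  have e : (⊤ : Subgroup G).map (MonoidHom.inl G H) = (⊥ : Subgroup H).comap (MonoidHom.snd G H) := by
    rw [map_inl_eq_prod_bot, ← Subgroup.top_prod]
  rw [e] at h1
  exact h1.trans h2

end Cfsg.Agent.Lib.Helper1
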