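import Mathlib
import Cfsg.Agent.Lib.Helper1.MaxSubgroupSolvable
set_option autoImplicit false
universe u v
open scoped Pointwise
namespace Cfsg.Agent.Lib.Helper1
variable {G : Type u} [Group G]

theorem list_prod_mul_normal (N : Subgroup G) [hN : N.Normal] : ∀ (t : ℕ) (s : Fin t → G)
    (j : Fin t) (n : G), n ∈ N →
    ∃ n' ∈ N, (List.ofFn s).prod * n = (List.ofFn (Function.update s j (s j * n'))).prod := by
  intro t
  induction t with
  | zero => intro s j; exact j.elim0
  | succ t ih =>
    intro s j n hn
    rw [List.ofFn_succ, List.prod_cons]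
    refine Fin.cases ?_ ?_ j
    · obtain ⟨R, hR⟩ : ∃ R, R = (List.ofFn fun i : Fin t => s i.succ).prod := ⟨_, rfl⟩
      rw [← hR]
      refine ⟨R * n * R⁻¹, hN.conj_mem n hn _, ?_⟩
      rw [List.ofFn_succ, List.prod_cons, Function.update_self]
      have : (fun i : Fin t => Function.update s 0 (s 0 * (R * n * R⁻¹)) i.succ) =
          fun i => s i.succ := by
        funext i; exact Function.update_of_ne (Fin.succ_ne_zero i) _ _
      rw [this, ← hR]; group
    · intro j'
      obtain ⟨n', hn', h⟩ := ih (fun i => s i.succ) j' n hn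
      refine ⟨n', hn', ?_⟩
      rw [List.ofFn_succ, List.prod_cons, Function.update_of_ne (Fin.succ_ne_zero j').symm,
        mul_assoc, h]
      congr 3
      funext i
      by_cases hi : i = j'
      · subst hi; simp
      · rw [Function.update_of_ne hi, Function.update_of_ne (fun h => hi (Fin.succ_injective _ h))]


theorem sylow_product_aux : ∀ (n : ℕ) (G : Type u) [Group G] [Finite G] [Group.IsSolvable G],
    Nat.card G = n →
    ∀ (t : ℕ) (p : Fin t → ℕ) (_hp : ∀ i, (p i).Prime)
      (_hall : ∀ q : ℕ, q.Prime → q ∣ Nat.card G → ∃ i, p i = q)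
      (S : (i : Fin t) → Sylow (p i) G) (g : G),
      ∃ s : Fin t → G, (∀ i, s i ∈ (S i : Subgroup G)) ∧ g = (List.ofFn s).prod := by
  intro n
  induction n using Nat.strong_induction_on with
  | _ n ih =>
    intro G _ _ _ hn t p hp hall S g
    rcases subsingleton_or_nontrivial G with hsub | hnt
    · refine ⟨fun _ => 1, fun i => Subgroup.one_mem _, ?_⟩
      exact Subsingleton.elim _ _
    obtain ⟨N, hNn, hNbot, hNmin⟩ := exists_minimal_normal (G := G)
    obtain ⟨-, q, hq, hNq⟩ := minimal_normal_of_solvable N hNbot hNmin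
    have : Fact q.Prime := ⟨hq⟩
    have hNp : IsPGroup q N := by
      intro x
      refine ⟨1, ?_⟩
      rw [pow_one]
      apply Subtype.ext
      rw [Subgroup.coe_pow]
      exact hNq x x.2
    have hNcard : Nat.card N ≠ 1 := fun h => hNbot (Subgroup.card_eq_one.mp h)
    have hqdvd : q ∣ Nat.card G := by
      obtain ⟨k, hk⟩ := IsPGroup.iff_card.mp hNp
      have hk0 : k ≠ 0 := by
        rintro rfl
        rw [pow_zero] at hk
        exact hNcard hk
      exact dvd_trans (hk ▸ dvd_pow_self q hk0) (Subgroup.card_subgroup_dvd_card N)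
    obtain ⟨j, hj⟩ := hall q hq hqdvd
    have hNS : N ≤ (S j : Subgroup G) := by
      subst hj
      exact hNp.le_sylow_of_normal (S j)
    have hcard : Nat.card (G ⧸ N) < n := by
      rw [← hn, ← N.card_mul_index, ← Subgroup.index_eq_card]
      have h1 : 0 < N.index := Nat.pos_of_ne_zero Subgroup.index_ne_zero_of_finite
      have h2 : 2 ≤ Nat.card N := by
        have : 0 < Nat.card N := Nat.card_pos
        omega
      nlinarith
    have : ∀ i, Fact (p i).Prime := fun i => ⟨hp i⟩
    have hsurj : Function.Surjective (QuotientGroup.mk' N) := QuotientGroup.mk'_surjective N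
    obtain ⟨sb, hsb, hg⟩ := ih _ hcard (G ⧸ N) rfl t p hp (by
        intro r hr hrd
        apply hall r hr
        refine dvd_trans hrd ?_
        rw [← Subgroup.index_eq_card]
        exact Subgroup.index_dvd_card N)
      (fun i => (S i).mapSurjective hsurj) (QuotientGroup.mk' N g)
    have hlift : ∀ i, ∃ x ∈ (S i : Subgroup G), QuotientGroup.mk' N x = sb i := by
      intro i
      have := hsb i
      rw [Sylow.coe_mapSurjective] at this
      exact Subgroup.mem_map.mp this
    choose s hs1 hs2 using hlift
    have hprod : QuotientGroup.mk' N g = QuotientGroup.mk' N (List.ofFn s).prod := by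
      rw [hg, map_list_prod, List.map_ofFn]
      congr 2
      funext i
      exact (hs2 i).symm
    have hmem : ((List.ofFn s).prod)⁻¹ * g ∈ N := by
      rw [← QuotientGroup.eq]
      exact hprod.symm
    obtain ⟨n', hn', h⟩ := list_prod_mul_normal N t s j _ hmem
    refine ⟨Function.update s j (s j * n'), ?_, ?_⟩
    · intro i
      by_cases hi : i = j
      · subst hi
        rw [Function.update_self]
        exact Subgroup.mul_mem _ (hs1 i) (hNS hn')
      · rw [Function.update_of_ne hi]
        exact hs1 i
    · rw [← h]; group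

end Cfsg.Agent.Lib.Helper1
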