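import Mathlib
import Cfsg.Agent.Lib.Helper4.Suz8

/-!
# Field-theoretic core for the automorphisms of the Suzuki 2-group

`F` finite of order `2^(2m+1)`, `th` the Tits endomorphism, `Nm a = a * th a`.
If `α β` are additive bijections of `F` with `β (Nm a) = Nm (α a)`, then
`α = μ σ`, `β = Nm μ σ` for a field automorphism `σ` and `μ ≠ 0`.
-/

set_option autoImplicit false
set_option maxHeartbeats 4000000
set_option linter.unusedSimpArgs false
set_option linter.unusedVariables false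

namespace Cfsg.Agent.Lib.Helper1.SzA

open Cfsg.Agent.Lib.Helper4.Suz

variable {F : Type*} [Field F] [Fintype F] {m : ℕ}

/-- `Nm a = a * th a`. -/
def Nm (m : ℕ) (a : F) : F := a * th m a

/-- The polarisation of `Nm`. -/
def Bf (m : ℕ) (a c : F) : F := th m a * c + th m c * a

theorem Nm_mul (a b : F) : Nm m (a * b) = Nm m a * Nm m b := by
  unfold Nm; rw [th_mul]; ring

theorem Nm_zero : Nm m (0 : F) = 0 := by unfold Nm; rw [zero_mul]

theorem Nm_one : Nm m (1 : F) = 1 := by unfold Nm; rw [th_one, one_mul]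

theorem Nm_eq_zero {a : F} (h : Nm m a = 0) : a = 0 := by
  rcases mul_eq_zero.mp h with h | h
  · exact h
  · exact th_eq_zero h

theorem Nm_ne_zero {a : F} (h : a ≠ 0) : Nm m a ≠ 0 := fun h0 => h (Nm_eq_zero h0)

theorem Nm_injective (hF : Fintype.card F = 2 ^ (2 * m + 1)) :
    Function.Injective (Nm m : F → F) := mul_th_injective hF

theorem Nm_surjective (hF : Fintype.card F = 2 ^ (2 * m + 1)) :
    Function.Surjective (Nm m : F → F) := mul_th_surjective hF

theorem Nm_add (hF : Fintype.card F = 2 ^ (2 * m + 1)) (a c : F) :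
    Nm m (a + c) = Nm m a + Nm m c + Bf m a c := by
  unfold Nm Bf; rw [th_add hF]; ring

theorem Bf_mul (a x : F) : Bf m a (a * x) = Nm m a * (x + th m x) := by
  unfold Bf Nm; rw [th_mul]; ring

theorem sq_surj (hF : Fintype.card F = 2 ^ (2 * m + 1)) (x : F) : ∃ a : F, a ^ 2 = x := by
  obtain ⟨y, rfl⟩ := th_surjective hF x
  obtain ⟨z, rfl⟩ := th_surjective hF y
  exact ⟨z, (th_th hF z).symm⟩

/-- `x ↦ x + th x` as an additive map. -/
def tmap (hF : Fintype.card F = 2 ^ (2 * m + 1)) : F →+ F :=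
  AddMonoidHom.mk' (fun x => x + th m x) (fun x y => by rw [th_add hF]; ring)

/-- The image of `x ↦ x + th x`. -/
def T0 (hF : Fintype.card F = 2 ^ (2 * m + 1)) : AddSubgroup F := (tmap hF).range

theorem mem_T0 (hF : Fintype.card F = 2 ^ (2 * m + 1)) {y : F} :
    y ∈ T0 hF ↔ ∃ x, x + th m x = y := Iff.rfl

theorem T0_index (hF : Fintype.card F = 2 ^ (2 * m + 1)) : (T0 hF).index = 2 := by
  have h2 := two_eq_zero hF
  have hk : Nat.card (tmap hF).ker = 2 := by
    rw [Nat.card_eq_two_iff]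
    refine ⟨⟨0, by rw [AddMonoidHom.mem_ker, map_zero]⟩, ⟨1, ?_⟩, ?_, ?_⟩
    · rw [AddMonoidHom.mem_ker]
      show (1 : F) + th m 1 = 0
      rw [th_one]; exact add_self' h2 1
    · intro h
      have := congrArg Subtype.val h
      exact zero_ne_one this
    · ext ⟨x, hx⟩
      simp only [Set.mem_insert_iff, Set.mem_singleton_iff, Set.mem_univ, iff_true, Subtype.mk.injEq]
      rw [AddMonoidHom.mem_ker] at hx
      have hx' : x + th m x = 0 := hx
      have : th m x = x := ((add_eq_zero_iff' h2).mp hx').symm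
      exact th_eq_self hF this
  have h1 := AddSubgroup.card_mul_index (tmap hF).ker
  have h3 := AddSubgroup.card_mul_index (T0 hF)
  have h4 : (tmap hF).ker.index = Nat.card (T0 hF) := AddSubgroup.index_ker _
  rw [hk, h4] at h1
  have hpos : 0 < Nat.card (T0 hF) := Nat.card_pos
  rw [← h1] at h3
  have : Nat.card (T0 hF) * (T0 hF).index = Nat.card (T0 hF) * 2 := by rw [h3]; ring
  exact Nat.eq_of_mul_eq_mul_left hpos this

theorem T0_add_iff (hF : Fintype.card F = 2 ^ (2 * m + 1)) {x y : F} :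
    x + y ∈ T0 hF ↔ (x ∈ T0 hF ↔ y ∈ T0 hF) :=
  AddSubgroup.add_mem_iff_of_index_two (T0_index hF)

theorem exists_not_mem_T0 (hF : Fintype.card F = 2 ^ (2 * m + 1)) : ∃ w : F, w ∉ T0 hF := by
  by_contra hcon
  push_neg at hcon
  have : T0 hF = ⊤ := by
    ext x; simp [hcon x]
  have h1 := T0_index hF
  rw [this, AddSubgroup.index_top] at h1
  omega

theorem hua (h2 : (2 : F) = 0) {a b : F} (ha : a ≠ 0) (hb : b ≠ 0) (hab : a * b ≠ 1) :
    a + (a⁻¹ + (b⁻¹ + a)⁻¹)⁻¹ = a ^ 2 * b := by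
  have h1 : 1 + a * b ≠ 0 := by
    intro h
    apply hab
    exact ((add_eq_zero_iff' h2).mp h).symm
  have e1 : b⁻¹ + a = (1 + a * b) / b := by field_simp
  have e2 : (b⁻¹ + a)⁻¹ = b / (1 + a * b) := by rw [e1, inv_div]
  have e3 : a⁻¹ + (b⁻¹ + a)⁻¹ = (a * (1 + a * b))⁻¹ := by
    rw [e2]
    field_simp
    have : a * b + a * b = 0 := add_self' h2 _
    linear_combination this
  rw [e3, inv_inv]
  have : a + a = 0 := add_self' h2 _
  linear_combination this

section core

variable (α β : F ≃+ F)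

theorem beta_Bf (hF : Fintype.card F = 2 ^ (2 * m + 1)) (h : ∀ a, β (Nm m a) = Nm m (α a)) (a c : F) :
    β (Bf m a c) = Bf m (α a) (α c) := by
  have h1 : β (Nm m (a + c)) = Nm m (α (a + c)) := h _
  rw [map_add α, Nm_add hF, Nm_add hF, map_add β, map_add β, h a, h c] at h1
  exact add_left_cancel h1

theorem symm_cond (h : ∀ a, β (Nm m a) = Nm m (α a)) (a : F) :
    β.symm (Nm m a) = Nm m (α.symm a) := by
  have := h (α.symm a)
  rw [AddEquiv.apply_symm_apply] at this
  rw [← this, AddEquiv.symm_apply_apply]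

theorem imp1 (hF : Fintype.card F = 2 ^ (2 * m + 1)) (h : ∀ a, β (Nm m a) = Nm m (α a)) {b y : F} (hb : b ≠ 0)
    (hy : b⁻¹ * y ∈ T0 hF) : (β b)⁻¹ * β y ∈ T0 hF := by
  obtain ⟨a, rfl⟩ := Nm_surjective hF b
  have ha : a ≠ 0 := by
    rintro rfl; exact hb Nm_zero
  obtain ⟨x, hx⟩ := (mem_T0 hF).mp hy
  have hy2 : y = Bf m a (a * x) := by
    rw [Bf_mul, hx, mul_inv_cancel_left₀ hb]
  have hαa : α a ≠ 0 := by
    intro h0; apply ha; exact (AddEquiv.map_eq_zero_iff α).mp h0
  have hN : Nm m (α a) ≠ 0 := Nm_ne_zero hαa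
  have e1 : α (a * x) = α a * ((α a)⁻¹ * α (a * x)) := by rw [mul_inv_cancel_left₀ hαa]
  have e2 : β y = Nm m (α a) * ((α a)⁻¹ * α (a * x) + th m ((α a)⁻¹ * α (a * x))) := by
    rw [hy2, beta_Bf α β hF h, e1, Bf_mul, ← e1]
  rw [h a, e2, inv_mul_cancel_left₀ hN]
  exact (mem_T0 hF).mpr ⟨_, rfl⟩

theorem iff1 (hF : Fintype.card F = 2 ^ (2 * m + 1)) (h : ∀ a, β (Nm m a) = Nm m (α a)) {b : F} (hb : b ≠ 0) (y : F) :
    b⁻¹ * y ∈ T0 hF ↔ (β b)⁻¹ * β y ∈ T0 hF := by
  constructor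
  · exact imp1 α β hF h hb
  · intro hy
    have hβb : β b ≠ 0 := by
      intro h0; apply hb; exact (AddEquiv.map_eq_zero_iff β).mp h0
    have := imp1 α.symm β.symm hF (symm_cond α β h) hβb hy
    rwa [AddEquiv.symm_apply_apply, AddEquiv.symm_apply_apply] at this

/-- `γ c = (β c⁻¹)⁻¹`. -/
def gam (c : F) : F := (β c⁻¹)⁻¹

theorem gam_zero : gam β (0 : F) = 0 := by
  unfold gam; rw [inv_zero, map_zero, inv_zero]

theorem gam_inv (x : F) : gam β x⁻¹ = (β x)⁻¹ := by unfold gam; rw [inv_inv]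

theorem beta_inv (x : F) : β x⁻¹ = (gam β x)⁻¹ := by unfold gam; rw [inv_inv]

theorem gam_ne_zero {x : F} (hx : x ≠ 0) : gam β x ≠ 0 := by
  unfold gam
  apply inv_ne_zero
  intro h0
  exact inv_ne_zero hx ((AddEquiv.map_eq_zero_iff β).mp h0)

theorem iff2 (hF : Fintype.card F = 2 ^ (2 * m + 1)) (h : ∀ a, β (Nm m a) = Nm m (α a)) (c y : F) :
    c * y ∈ T0 hF ↔ gam β c * β y ∈ T0 hF := by
  by_cases hc : c = 0
  · subst hc
    rw [gam_zero, zero_mul, zero_mul]
  · have := iff1 α β hF h (inv_ne_zero hc) y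
    rw [inv_inv] at this
    exact this

theorem gam_add (hF : Fintype.card F = 2 ^ (2 * m + 1)) (h : ∀ a, β (Nm m a) = Nm m (α a)) (c c' : F) :
    gam β (c + c') = gam β c + gam β c' := by
  have h2 := two_eq_zero hF
  set d := gam β (c + c') + (gam β c + gam β c') with hd
  have hall : ∀ z, d * z ∈ T0 hF := by
    intro z
    obtain ⟨y, rfl⟩ := β.surjective z
    rw [hd, add_mul, add_mul, T0_add_iff hF, T0_add_iff hF, ← iff2 α β hF h, ← iff2 α β hF h,
      ← iff2 α β hF h, add_mul, T0_add_iff hF]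
  have hd0 : d = 0 := by
    by_contra hne
    obtain ⟨w, hw⟩ := exists_not_mem_T0 hF
    apply hw
    have := hall (d⁻¹ * w)
    rwa [mul_inv_cancel_left₀ hne] at this
  exact (add_eq_zero_iff' h2).mp hd0

theorem beta_sq_mul (hF : Fintype.card F = 2 ^ (2 * m + 1)) (h : ∀ a, β (Nm m a) = Nm m (α a)) (a b : F) :
    β (a ^ 2 * b) = (β a) ^ 2 * gam β b := by
  have h2 := two_eq_zero hF
  by_cases ha : a = 0
  · subst ha; simp
  by_cases hb : b = 0
  · subst hb; rw [gam_zero, mul_zero, mul_zero, map_zero]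
  have hβa : β a ≠ 0 := fun h0 => ha ((AddEquiv.map_eq_zero_iff β).mp h0)
  by_cases hab : a * b = 1
  · have hb' : b = a⁻¹ := eq_inv_of_mul_eq_one_right hab
    rw [hb', gam_inv]
    have : a ^ 2 * a⁻¹ = a := by field_simp
    rw [this]
    field_simp
  · have hgb : gam β b ≠ 0 := gam_ne_zero β hb
    have hab' : β a * gam β b ≠ 1 := by
      intro h1
      apply hab
      have : β a = (gam β b)⁻¹ := eq_inv_of_mul_eq_one_left h1
      rw [← beta_inv] at this
      have := β.injective this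
      rw [this, inv_mul_cancel₀ hb]
    rw [← hua h2 ha hb hab, ← hua h2 hβa hgb hab', map_add, beta_inv, gam_add α β hF h, gam_inv,
      gam_inv, map_add, beta_inv]

end core

/-- The main theorem of this file. -/
theorem core_thm (hF : Fintype.card F = 2 ^ (2 * m + 1)) (α β : F ≃+ F)
    (h : ∀ a, β (Nm m a) = Nm m (α a)) :
    ∃ (μ : F) (σ : F ≃+* F), μ ≠ 0 ∧ (∀ a, α a = μ * σ a) ∧ (∀ b, β b = Nm m μ * σ b) := by
  have h2 := two_eq_zero hF
  set lam := β 1 with hlam
  have hl0 : lam ≠ 0 := fun h0 => one_ne_zero ((AddEquiv.map_eq_zero_iff β).mp h0)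
  have hg : ∀ b, gam β b = (lam ^ 2)⁻¹ * β b := by
    intro b
    have := beta_sq_mul α β hF h 1 b
    rw [one_pow, one_mul] at this
    rw [this, ← hlam, inv_mul_cancel_left₀ (pow_ne_zero 2 hl0)]
  have hmul : ∀ a b, β (a ^ 2 * b) = (β a) ^ 2 * ((lam ^ 2)⁻¹ * β b) := by
    intro a b
    rw [beta_sq_mul α β hF h, hg]
  let f : F →+* F :=
    { toFun := fun x => lam⁻¹ * β x
      map_one' := inv_mul_cancel₀ hl0
      map_zero' := by rw [map_zero, mul_zero]
      map_add' := fun x y => by rw [map_add, mul_add]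
      map_mul' := fun x y => by
        obtain ⟨a, rfl⟩ := sq_surj hF x
        have e1 := hmul a y
        have e2 := hmul a 1
        rw [mul_one] at e2
        rw [e1, e2, ← hlam]
        field_simp }
  have hfi : Function.Injective f := RingHom.injective f
  let σ : F ≃+* F := RingEquiv.ofBijective f ⟨hfi, Finite.injective_iff_surjective.mp hfi⟩
  have hσ : ∀ x, σ x = lam⁻¹ * β x := fun x => rfl
  have hβ : ∀ x, β x = lam * σ x := by
    intro x; rw [hσ, mul_inv_cancel_left₀ hl0]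
  obtain ⟨μ, hμ⟩ := Nm_surjective hF lam
  have hμ0 : μ ≠ 0 := by
    rintro rfl; exact hl0 (by rw [← hμ, Nm_zero])
  have hσN : ∀ a, σ (Nm m a) = Nm m (σ a) := by
    intro a
    unfold Nm th
    rw [map_mul, map_pow]
  refine ⟨μ, σ, hμ0, ?_, ?_⟩
  · intro a
    apply Nm_injective hF
    rw [← h a, hβ, hσN, Nm_mul, hμ]
  · intro b
    rw [hμ, hβ]

end Cfsg.Agent.Lib.Helper1.SzA
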