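import Mathlib
import Cfsg.Agent.Lib.Helper4.Suz8
import Cfsg.Agent.Lib.Helper1.SzA0
import Cfsg.Agent.Lib.Helper1.SzA1

/-!
# Automorphisms of the Suzuki 2-group `USub`
-/

set_option autoImplicit false
set_option maxHeartbeats 4000000
set_option linter.unusedSimpArgs false
set_option linter.unusedVariables false

namespace Cfsg.Agent.Lib.Helper1.SzA

open Cfsg.Agent.Lib.Helper4.Suz

variable {F : Type*} [Field F] [Fintype F] {m : ℕ}

section coords

variable (hF : Fintype.card F = 2 ^ (2 * m + 1))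

/-- First coordinate. -/
noncomputable def cA (g : USub hF) : F := ((uEquiv hF).symm g).1

/-- Second coordinate. -/
noncomputable def cB (g : USub hF) : F := ((uEquiv hF).symm g).2

theorem uU_cA_cB (g : USub hF) : uU hF (cA hF g) (cB hF g) = g :=
  (uEquiv hF).apply_symm_apply g

theorem cA_uU (a b : F) : cA hF (uU hF a b) = a :=
  (uU_inj hF (uU_cA_cB hF (uU hF a b))).1

theorem cB_uU (a b : F) : cB hF (uU hF a b) = b :=
  (uU_inj hF (uU_cA_cB hF (uU hF a b))).2

theorem uU_split (a b : F) : uU hF a b = uU hF a 0 * uU hF 0 b := by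
  rw [uU_mul, mul_zero, add_zero, add_zero, zero_add]

theorem uU_ext {x y : USub hF} (h1 : cA hF x = cA hF y) (h2 : cB hF x = cB hF y) : x = y := by
  rw [← uU_cA_cB hF x, ← uU_cA_cB hF y, h1, h2]

end coords

section auts

variable (hF : Fintype.card F = 2 ^ (2 * m + 1)) (φ ψ : MulAut (USub hF))

/-- Action on `T/Z`. -/
noncomputable def alf (a : F) : F := cA hF (φ (uU hF a 0))

/-- The off-diagonal part. -/
noncomputable def kap (a : F) : F := cB hF (φ (uU hF a 0))

/-- Action on `Z`. -/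
noncomputable def bet (b : F) : F := cB hF (φ (uU hF 0 b))

theorem apply_a0 (a : F) : φ (uU hF a 0) = uU hF (alf hF φ a) (kap hF φ a) :=
  (uU_cA_cB hF _).symm

theorem apply_sq (a : F) : φ (uU hF 0 (Nm m a)) = uU hF 0 (Nm m (alf hF φ a)) := by
  have h1 : uU hF 0 (Nm m a) = (uU hF a 0) ^ 2 := by
    rw [uU_sq]; unfold Nm; rw [mul_comm]
  rw [h1, map_pow, apply_a0, uU_sq]
  unfold Nm; rw [mul_comm]

theorem apply_central (b : F) : φ (uU hF 0 b) = uU hF 0 (bet hF φ b) := by
  obtain ⟨a, rfl⟩ := Nm_surjective hF b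
  have h := apply_sq hF φ a
  unfold bet
  rw [h, cB_uU]

theorem bet_Nm (a : F) : bet hF φ (Nm m a) = Nm m (alf hF φ a) := by
  unfold bet
  rw [apply_sq, cB_uU]

theorem apply_uU (a b : F) :
    φ (uU hF a b) = uU hF (alf hF φ a) (kap hF φ a + bet hF φ b) := by
  rw [uU_split hF a b, map_mul, apply_a0, apply_central, uU_mul, mul_zero, add_zero, add_zero]

theorem alf_add (a c : F) : alf hF φ (a + c) = alf hF φ a + alf hF φ c := by
  have h1 : uU hF a 0 * uU hF c 0 = uU hF (a + c) (th m a * c) := by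
    rw [uU_mul, add_zero, zero_add]
  have h2 := congrArg φ h1
  rw [map_mul, apply_a0, apply_a0, uU_mul, apply_uU] at h2
  exact ((uU_inj hF h2).1).symm

theorem bet_add (b d : F) : bet hF φ (b + d) = bet hF φ b + bet hF φ d := by
  have h1 : uU hF 0 b * uU hF 0 d = uU hF 0 (b + d) := by
    rw [uU_mul, th_zero, zero_mul, add_zero, add_zero]
  have h2 := congrArg φ h1
  rw [map_mul, apply_central, apply_central, apply_central, uU_mul, th_zero, zero_mul, add_zero,
    add_zero] at h2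
  exact ((uU_inj hF h2).2).symm

theorem alf_mul (a : F) : alf hF (φ * ψ) a = alf hF φ (alf hF ψ a) := by
  unfold alf
  rw [MulAut.mul_apply, apply_a0 hF ψ, apply_uU hF φ, cA_uU, cA_uU]
  rfl

theorem bet_mul (b : F) : bet hF (φ * ψ) b = bet hF φ (bet hF ψ b) := by
  unfold bet
  rw [MulAut.mul_apply, apply_central hF ψ, apply_central hF φ, cB_uU, cB_uU]
  rfl

theorem alf_one (a : F) : alf hF (1 : MulAut (USub hF)) a = a := by
  unfold alf
  rw [MulAut.one_apply, cA_uU]

theorem bet_one (b : F) : bet hF (1 : MulAut (USub hF)) b = b := by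
  unfold bet
  rw [MulAut.one_apply, cB_uU]

/-- `alf` as an additive equivalence. -/
noncomputable def alfEquiv : F ≃+ F where
  toFun := alf hF φ
  invFun := alf hF φ⁻¹
  left_inv a := by rw [← alf_mul, inv_mul_cancel, alf_one]
  right_inv a := by rw [← alf_mul, mul_inv_cancel, alf_one]
  map_add' := alf_add hF φ

/-- `bet` as an additive equivalence. -/
noncomputable def betEquiv : F ≃+ F where
  toFun := bet hF φ
  invFun := bet hF φ⁻¹
  left_inv a := by rw [← bet_mul, inv_mul_cancel, bet_one]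
  right_inv a := by rw [← bet_mul, mul_inv_cancel, bet_one]
  map_add' := bet_add hF φ

theorem alfEquiv_apply (a : F) : alfEquiv hF φ a = alf hF φ a := rfl

theorem betEquiv_apply (a : F) : betEquiv hF φ a = bet hF φ a := rfl

/-- The action on `T/Z` as a homomorphism. -/
noncomputable def Psi : MulAut (USub hF) →* Equiv.Perm F where
  toFun φ := (alfEquiv hF φ).toEquiv
  map_one' := by
    ext a
    exact alf_one hF a
  map_mul' φ ψ := by
    ext a
    exact alf_mul hF φ ψ a

theorem Psi_apply (a : F) : Psi hF φ a = alf hF φ a := rfl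

/-- The shape of an arbitrary automorphism. -/
theorem shape : ∃ (μ : F) (σ : F ≃+* F), μ ≠ 0 ∧ (∀ a, alf hF φ a = μ * σ a) ∧
    (∀ b, bet hF φ b = Nm m μ * σ b) :=
  core_thm hF (alfEquiv hF φ) (betEquiv hF φ) (fun a => bet_Nm hF φ a)

end auts

section mk

variable (hF : Fintype.card F = 2 ^ (2 * m + 1))

/-- The endomorphism with prescribed data. -/
noncomputable def mkHom (f g : F ≃+ F) (κ : F →+ F)
    (hfg : ∀ a c, g (th m a * c) = th m (f a) * f c) :
    USub hF →* USub hF where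
  toFun x := uU hF (f (cA hF x)) (κ (cA hF x) + g (cB hF x))
  map_one' := by
    rw [← uU_zero hF, cA_uU, cB_uU, map_zero, map_zero, map_zero, add_zero]
  map_mul' x y := by
    obtain ⟨a, b, rfl⟩ := exists_uU hF x
    obtain ⟨c, d, rfl⟩ := exists_uU hF y
    rw [uU_mul]
    simp only [cA_uU, cB_uU]
    rw [uU_mul, map_add, map_add, map_add, map_add, hfg]
    congr 1
    ring

theorem mkHom_apply (f g : F ≃+ F) (κ : F →+ F)
    (hfg : ∀ a c, g (th m a * c) = th m (f a) * f c) (a b : F) :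
    mkHom hF f g κ hfg (uU hF a b) = uU hF (f a) (κ a + g b) := by
  show uU hF (f (cA hF (uU hF a b))) (κ (cA hF (uU hF a b)) + g (cB hF (uU hF a b))) = _
  rw [cA_uU, cB_uU]

theorem mkHom_injective (f g : F ≃+ F) (κ : F →+ F)
    (hfg : ∀ a c, g (th m a * c) = th m (f a) * f c) :
    Function.Injective (mkHom hF f g κ hfg) := by
  intro x y hxy
  obtain ⟨a, b, rfl⟩ := exists_uU hF x
  obtain ⟨c, d, rfl⟩ := exists_uU hF y
  rw [mkHom_apply, mkHom_apply] at hxy
  obtain ⟨h1, h2⟩ := uU_inj hF hxy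
  have h1' : a = c := f.injective h1
  subst h1'
  have h2' : b = d := g.injective (add_left_cancel h2)
  rw [h2']

/-- The automorphism with prescribed data. -/
noncomputable def mkAut (f g : F ≃+ F) (κ : F →+ F)
    (hfg : ∀ a c, g (th m a * c) = th m (f a) * f c) : MulAut (USub hF) :=
  MulEquiv.ofBijective (mkHom hF f g κ hfg)
    ⟨mkHom_injective hF f g κ hfg,
      Finite.injective_iff_surjective.mp (mkHom_injective hF f g κ hfg)⟩

theorem mkAut_apply (f g : F ≃+ F) (κ : F →+ F)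
    (hfg : ∀ a c, g (th m a * c) = th m (f a) * f c) (a b : F) :
    mkAut hF f g κ hfg (uU hF a b) = uU hF (f a) (κ a + g b) :=
  mkHom_apply hF f g κ hfg a b

theorem alf_mkAut (f g : F ≃+ F) (κ : F →+ F)
    (hfg : ∀ a c, g (th m a * c) = th m (f a) * f c) (a : F) :
    alf hF (mkAut hF f g κ hfg) a = f a := by
  unfold alf
  rw [mkAut_apply, cA_uU]

/-- `a ↦ μ * σ a`. -/
def scaleEquiv (μ : F) (hμ : μ ≠ 0) (σ : F ≃+* F) : F ≃+ F where
  toFun a := μ * σ a
  invFun a := σ.symm (μ⁻¹ * a)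
  left_inv a := by
    show σ.symm (μ⁻¹ * (μ * σ a)) = a
    rw [inv_mul_cancel_left₀ hμ, RingEquiv.symm_apply_apply]
  right_inv a := by
    show μ * σ (σ.symm (μ⁻¹ * a)) = a
    rw [RingEquiv.apply_symm_apply, mul_inv_cancel_left₀ hμ]
  map_add' a b := by rw [map_add, mul_add]

theorem scaleEquiv_apply (μ : F) (hμ : μ ≠ 0) (σ : F ≃+* F) (a : F) :
    scaleEquiv μ hμ σ a = μ * σ a := rfl

theorem scale_cond (μ : F) (hμ : μ ≠ 0) (σ : F ≃+* F) (a c : F) :
    scaleEquiv (Nm m μ) (Nm_ne_zero hμ) σ (th m a * c) =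
      th m (scaleEquiv μ hμ σ a) * scaleEquiv μ hμ σ c := by
  rw [scaleEquiv_apply, scaleEquiv_apply, scaleEquiv_apply, th_mul, map_mul]
  have : σ (th m a) = th m (σ a) := by unfold th; rw [map_pow]
  rw [this]
  unfold Nm
  ring

/-- The diagonal automorphism attached to `(μ, σ)`. -/
noncomputable def diagAut (p : Fˣ × (F ≃+* F)) : MulAut (USub hF) :=
  mkAut hF (scaleEquiv (p.1 : F) p.1.ne_zero p.2)
    (scaleEquiv (Nm m (p.1 : F)) (Nm_ne_zero p.1.ne_zero) p.2) 0
    (scale_cond (p.1 : F) p.1.ne_zero p.2)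

theorem alf_diagAut (p : Fˣ × (F ≃+* F)) (a : F) :
    alf hF (diagAut hF p) a = (p.1 : F) * p.2 a := by
  unfold diagAut
  rw [alf_mkAut]
  rfl

theorem Psi_diagAut_injective :
    Function.Injective (fun p : Fˣ × (F ≃+* F) => Psi hF (diagAut hF p)) := by
  rintro ⟨μ, σ⟩ ⟨μ', σ'⟩ h
  have h1 : ∀ a, (μ : F) * σ a = (μ' : F) * σ' a := by
    intro a
    have := congrArg (fun e : Equiv.Perm F => e a) h
    simp only [Psi_apply, alf_diagAut] at this
    exact this
  have hμ : (μ : F) = μ' := by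
    have := h1 1
    rwa [map_one, map_one, mul_one, mul_one] at this
  have hμ' : μ = μ' := Units.ext hμ
  subst hμ'
  have hσ : σ = σ' := by
    ext a
    exact mul_left_cancel₀ μ.ne_zero (h1 a)
  rw [hσ]

theorem range_Psi :
    (Set.range (Psi hF) : Set (Equiv.Perm F)) =
      Set.range (fun p : Fˣ × (F ≃+* F) => Psi hF (diagAut hF p)) := by
  ext e
  constructor
  · rintro ⟨φ, rfl⟩
    obtain ⟨μ, σ, hμ, h1, h2⟩ := shape hF φ
    refine ⟨(Units.mk0 μ hμ, σ), ?_⟩
    ext a
    rw [Psi_apply, Psi_apply, alf_diagAut, h1]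
    rfl
  · rintro ⟨p, rfl⟩
    exact ⟨_, rfl⟩

theorem card_range_Psi (hm : 1 ≤ m) :
    Nat.card (Psi hF).range = (2 ^ (2 * m + 1) - 1) * (2 * m + 1) := by
  have h1 : ((Psi hF).range : Set (Equiv.Perm F)) = Set.range (Psi hF) := MonoidHom.coe_range _
  have h2 : Nat.card (Psi hF).range = Nat.card (Set.range (Psi hF)) := by
    rw [← h1]; rfl
  rw [h2, range_Psi, Nat.card_range_of_injective (Psi_diagAut_injective hF), Nat.card_prod,
    card_ringAut (by omega) hF, Nat.card_units, Nat.card_eq_fintype_card, hF]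

end mk

section kernel

variable (hF : Fintype.card F = 2 ^ (2 * m + 1))

/-- The central automorphism attached to `κ`. -/
noncomputable def cenAut (κ : F →+ F) : MulAut (USub hF) :=
  mkAut hF (AddEquiv.refl F) (AddEquiv.refl F) κ
    (show ∀ a c : F, (AddEquiv.refl F) (th m a * c) =
      th m ((AddEquiv.refl F) a) * (AddEquiv.refl F) c from fun a c => rfl)

theorem cenAut_apply (κ : F →+ F) (a b : F) :
    cenAut hF κ (uU hF a b) = uU hF a (κ a + b) := by
  unfold cenAut
  rw [mkAut_apply]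
  rfl

theorem cenAut_injective : Function.Injective (cenAut hF : (F →+ F) → MulAut (USub hF)) := by
  intro κ κ' h
  ext a
  have := congrArg (fun e : MulAut (USub hF) => e (uU hF a 0)) h
  simp only [cenAut_apply, add_zero] at this
  exact (uU_inj hF this).2

theorem mem_ker_iff (φ : MulAut (USub hF)) : φ ∈ (Psi hF).ker ↔ ∀ a, alf hF φ a = a := by
  rw [MonoidHom.mem_ker]
  constructor
  · intro h a
    have := congrArg (fun e : Equiv.Perm F => e a) h
    exact this
  · intro h
    ext a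
    exact h a

theorem ker_apply {φ : MulAut (USub hF)} (hφ : φ ∈ (Psi hF).ker) (a b : F) :
    φ (uU hF a b) = uU hF a (kap hF φ a + b) := by
  have h1 := (mem_ker_iff hF φ).mp hφ
  have h2 : bet hF φ b = b := by
    obtain ⟨c, rfl⟩ := Nm_surjective hF b
    rw [bet_Nm, h1]
  rw [apply_uU, h1, h2]

theorem kap_add_of_ker {φ : MulAut (USub hF)} (hφ : φ ∈ (Psi hF).ker) (a c : F) :
    kap hF φ (a + c) = kap hF φ a + kap hF φ c := by
  have h1 : uU hF a 0 * uU hF c 0 = uU hF (a + c) (th m a * c) := by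
    rw [uU_mul, add_zero, zero_add]
  have h2 := congrArg φ h1
  rw [map_mul, ker_apply hF hφ, ker_apply hF hφ, ker_apply hF hφ, uU_mul, add_zero, add_zero] at h2
  exact (add_right_cancel ((uU_inj hF h2).2)).symm

theorem ker_eq_range :
    ((Psi hF).ker : Set (MulAut (USub hF))) = Set.range (cenAut hF) := by
  ext φ
  constructor
  · intro hφ
    have hφ' : φ ∈ (Psi hF).ker := hφ
    refine ⟨AddMonoidHom.mk' (kap hF φ) (kap_add_of_ker hF hφ'), ?_⟩
    ext x
    obtain ⟨a, b, rfl⟩ := exists_uU hF x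
    rw [cenAut_apply, ker_apply hF hφ']
    rfl
  · rintro ⟨κ, rfl⟩
    show cenAut hF κ ∈ (Psi hF).ker
    rw [mem_ker_iff]
    intro a
    unfold alf
    rw [cenAut_apply, cA_uU]

theorem card_ker_Psi : Nat.card (Psi hF).ker = 2 ^ ((2 * m + 1) ^ 2) := by
  have h2 : Nat.card (Psi hF).ker = Nat.card (Set.range (cenAut hF)) := by
    rw [← ker_eq_range]; rfl
  rw [h2, Nat.card_range_of_injective (cenAut_injective hF), card_addHom (by omega) hF]

theorem ker_comm {φ ψ : MulAut (USub hF)} (hφ : φ ∈ (Psi hF).ker) (hψ : ψ ∈ (Psi hF).ker) :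
    φ * ψ = ψ * φ := by
  ext x
  obtain ⟨a, b, rfl⟩ := exists_uU hF x
  rw [MulAut.mul_apply, MulAut.mul_apply, ker_apply hF hψ, ker_apply hF hφ, ker_apply hF hφ,
    ker_apply hF hψ, add_left_comm]

theorem ker_sq {φ : MulAut (USub hF)} (hφ : φ ∈ (Psi hF).ker) : φ ^ 2 = 1 := by
  have h2 := two_eq_zero hF
  ext x
  obtain ⟨a, b, rfl⟩ := exists_uU hF x
  rw [sq, MulAut.mul_apply, ker_apply hF hφ, ker_apply hF hφ, MulAut.one_apply, ← add_assoc,
    add_self' h2, zero_add]

end kernel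

end Cfsg.Agent.Lib.Helper1.SzA
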