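import Mathlib
import Cfsg.Prelude.Def_Transfer
import Cfsg.Prelude.Def_Solvable
import Cfsg.Agent.Lib.Helper4.SzB4
import Cfsg.Agent.Lib.Helper1.PCore
import Cfsg.Agent.Lib.Helper1.SzA2

/-!
# The automorphism group of a Sylow 2-subgroup of `Sz(q)`
-/

set_option autoImplicit false
set_option maxHeartbeats 4000000
set_option linter.unusedSimpArgs false
set_option linter.unusedVariables false

namespace Cfsg.Agent.Lib.Helper1.SzA

open Cfsg.Agent.Lib.Helper4.Suz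
open Cfsg.Agent.Lib.Helper1
open scoped Pointwise

section general

variable {G H : Type*} [Group G] [Group H]

theorem pCore_map_le [Finite G] (E : G ≃* H) (p : ℕ) [Fact p.Prime] :
    (Cfsg.pCore p G).map E.toMonoidHom ≤ Cfsg.pCore p H := by
  apply le_pCore
  · exact Subgroup.Normal.map (pCore_normal p) _ E.surjective
  · exact (pCore_isPGroup p).map _

theorem pCore_eq_map [Finite G] [Finite H] (E : G ≃* H) (p : ℕ) [Fact p.Prime] :
    Cfsg.pCore p H = (Cfsg.pCore p G).map E.toMonoidHom := by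
  apply le_antisymm
  · intro x hx
    have h1 : E.symm x ∈ Cfsg.pCore p G :=
      pCore_map_le E.symm p (Subgroup.mem_map_of_mem _ hx)
    exact ⟨E.symm x, h1, E.apply_symm_apply x⟩
  · exact pCore_map_le E p

theorem elemAb_map {p : ℕ} {A : Subgroup G} (hA : Cfsg.IsElementaryAbelian p A) (E : G ≃* H) :
    Cfsg.IsElementaryAbelian p (A.map E.toMonoidHom) := by
  obtain ⟨h1, h2⟩ := hA
  refine ⟨⟨⟨?_⟩⟩, ?_⟩
  · rintro ⟨x, a, ha, rfl⟩ ⟨y, b, hb, rfl⟩
    apply Subtype.ext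
    have := congrArg Subtype.val (h1.is_comm.comm ⟨a, ha⟩ ⟨b, hb⟩)
    show E.toMonoidHom a * E.toMonoidHom b = E.toMonoidHom b * E.toMonoidHom a
    rw [← map_mul, ← map_mul]
    exact congrArg _ this
  · rintro x ⟨a, ha, rfl⟩
    rw [← map_pow, h2 a ha, map_one]

end general

variable {F : Type*} [Field F] [Fintype F] {m : ℕ}

theorem card_aut_USub (hF : Fintype.card F = 2 ^ (2 * m + 1)) (hm : 1 ≤ m) :
    Nat.card (MulAut (USub hF)) =
      2 ^ ((2 * m + 1) ^ 2) * ((2 * m + 1) * (2 ^ (2 * m + 1) - 1)) := by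
  have h1 := Subgroup.card_mul_index (Psi hF).ker
  rw [Subgroup.index_ker, card_ker_Psi, card_range_Psi hF hm] at h1
  rw [← h1]; ring

theorem pCore_aut_USub (hF : Fintype.card F = 2 ^ (2 * m + 1)) (hm : 1 ≤ m) :
    Cfsg.pCore 2 (MulAut (USub hF)) = (Psi hF).ker := by
  haveI : Fact (Nat.Prime 2) := ⟨Nat.prime_two⟩
  apply le_antisymm
  · intro x hx
    rw [MonoidHom.mem_ker]
    obtain ⟨k, hk⟩ := (pCore_isPGroup (G := MulAut (USub hF)) 2) ⟨x, hx⟩
    have hk' : x ^ (2 ^ k) = 1 := by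
      have := congrArg Subtype.val hk
      simpa using this
    have h1 : (Psi hF x) ^ (2 ^ k) = 1 := by rw [← map_pow, hk', map_one]
    have h2 : (Psi hF x) ^ ((2 ^ (2 * m + 1) - 1) * (2 * m + 1)) = 1 := by
      have := pow_card_eq_one' (G := (Psi hF).range) (x := ⟨Psi hF x, ⟨x, rfl⟩⟩)
      rw [card_range_Psi hF hm] at this
      have := congrArg Subtype.val this
      simpa using this
    have d1 := orderOf_dvd_of_pow_eq_one h1
    have d2 := orderOf_dvd_of_pow_eq_one h2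
    have hodd : Odd ((2 ^ (2 * m + 1) - 1) * (2 * m + 1)) := by
      apply Odd.mul
      · have : 1 ≤ 2 ^ (2 * m + 1) := Nat.one_le_two_pow
        apply Nat.Even.sub_odd this
        · exact ⟨2 ^ (2 * m), by rw [pow_succ]; ring⟩
        · exact odd_one
      · exact ⟨m, rfl⟩
    have hc : Nat.Coprime (2 ^ k) ((2 ^ (2 * m + 1) - 1) * (2 * m + 1)) :=
      Nat.Coprime.pow_left k (Nat.coprime_two_left.mpr hodd)
    have d3 : orderOf (Psi hF x) ∣ 1 := by
      have := Nat.dvd_gcd d1 d2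
      rwa [hc] at this
    exact orderOf_eq_one_iff.mp (Nat.dvd_one.mp d3)
  · apply le_pCore (MonoidHom.normal_ker _)
    exact IsPGroup.of_card (card_ker_Psi hF)

theorem elemAb_ker (hF : Fintype.card F = 2 ^ (2 * m + 1)) :
    Cfsg.IsElementaryAbelian 2 (Psi hF).ker :=
  ⟨⟨⟨fun a b => Subtype.ext (ker_comm hF a.2 b.2)⟩⟩, fun a ha => ker_sq hF ha⟩

theorem main_transfer (hF : Fintype.card F = 2 ^ (2 * m + 1)) (hm : 1 ≤ m)
    {S : Type*} [Group S] [Finite S] (e : S ≃* USub hF) :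
    Cfsg.IsElementaryAbelian 2 (Cfsg.pCore 2 (MulAut S)) ∧
      Nat.card ↥(Cfsg.pCore 2 (MulAut S)) = 2 ^ ((2 * m + 1) ^ 2) ∧
      Nat.card (MulAut S) = 2 ^ ((2 * m + 1) ^ 2) * ((2 * m + 1) * (2 ^ (2 * m + 1) - 1)) := by
  haveI : Fact (Nat.Prime 2) := ⟨Nat.prime_two⟩
  have E : MulAut (USub hF) ≃* MulAut S := (MulAut.congr e).symm
  have h1 : Cfsg.pCore 2 (MulAut S) = ((Psi hF).ker).map E.toMonoidHom := by
    rw [pCore_eq_map E 2, pCore_aut_USub hF hm]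
  refine ⟨?_, ?_, ?_⟩
  · rw [h1]; exact elemAb_map (elemAb_ker hF) E
  · rw [h1, Subgroup.card_map_of_injective E.injective, card_ker_Psi]
  · rw [← Nat.card_congr E.toEquiv, card_aut_USub hF hm]

theorem exists_equiv_USub (hF : Fintype.card F = 2 ^ (2 * m + 1)) (hm : 1 ≤ m)
    (P : Sylow 2 ↥(Cfsg.Lie.Sz F (2 ^ (m + 1)))) :
    Nonempty (↥(P : Subgroup ↥(Cfsg.Lie.Sz F (2 ^ (m + 1)))) ≃* USub hF) := by
  haveI : Fact (Nat.Prime 2) := ⟨Nat.prime_two⟩
  let e0 := szEquiv (F := F) hF hm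
  haveI : Finite ↥(Cfsg.Lie.Sz F (2 ^ (m + 1))) := Finite.of_equiv _ e0.toEquiv
  let P' : Subgroup (Cfsg.Sz F m) := (P : Subgroup _).map e0.symm.toMonoidHom
  have e1 : ↥(P : Subgroup ↥(Cfsg.Lie.Sz F (2 ^ (m + 1)))) ≃* P' := e0.symm.subgroupMap _
  have hcard : Nat.card P' = 2 ^ (Nat.card (Cfsg.Sz F m)).factorization 2 := by
    rw [← Nat.card_congr e1.toEquiv, P.card_eq_multiplicity, Nat.card_congr e0.toEquiv]
  let Q : Sylow 2 (Cfsg.Sz F m) := Sylow.ofCard P' hcard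
  obtain ⟨g, hg⟩ := exists_conj_USylow hF hm Q
  have e2 : ↥(Q : Subgroup (Cfsg.Sz F m)) ≃* ↥((g • Q : Sylow 2 (Cfsg.Sz F m)) : Subgroup (Cfsg.Sz F m)) :=
    Sylow.equivSMul Q g
  have h3 : ((g • Q : Sylow 2 (Cfsg.Sz F m)) : Subgroup (Cfsg.Sz F m)) = USub hF := by
    rw [hg, coe_USylow]
  have e3 : ↥((g • Q : Sylow 2 (Cfsg.Sz F m)) : Subgroup (Cfsg.Sz F m)) ≃* USub hF :=
    MulEquiv.subgroupCongr h3
  have e4 : P' ≃* ↥(Q : Subgroup (Cfsg.Sz F m)) := MulEquiv.refl _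
  exact ⟨e1.trans (e4.trans (e2.trans e3))⟩

end Cfsg.Agent.Lib.Helper1.SzA
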