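import Mathlib
import Cfsg.Prelude.Def_Balance
import Cfsg.Prelude.Def_ClassificationStages

/-!
# Farm TCL (S1775): unit STUBS (statements only; each unit is proved in its own file
`Cfsg/Agent/Lib/<HelperN>/TCLUk.lean`, namespace `Cfsg.Agent.Lib.<HelperN>.TCL`, same binder
list, so that `example : @stub = @mine := rfl`-style checking works up to the name).
This file is never imported by a proved row.
-/

set_option autoImplicit false

namespace Cfsg.Agent.Lib.Helper1.TCLStubs

open Cfsg

/-- U1: an involution of a group with simple non-abelian `F*` is not central. -/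
theorem U1 {G : Type*} [Group G] [Finite G]
    (hF : IsSimpleGroup ↥(Cfsg.generalizedFittingSubgroup G))
    (hF' : ¬ IsMulCommutative ↥(Cfsg.generalizedFittingSubgroup G))
    (y : G) (hy : orderOf y = 2) : Subgroup.centralizer ({y} : Set G) ≠ ⊤ := by
  sorry

/-- U2: the B-property is invariant under isomorphism. -/
theorem U2 {X Y : Type*} [Group X] [Group Y] [Finite X] (e : X ≃* Y)
    (h : Cfsg.HasBProperty X) : Cfsg.HasBProperty Y := by
  sorry

/-- U3: the B-property, for one 2-component `K` of `C_X(t)` (all inside `X`). -/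
theorem U3 {X : Type*} [Group X] [Finite X] (t : X) (ht : orderOf t = 2)
    (hB : Cfsg.HasBProperty X) (K : Subgroup X)
    (hK : Cfsg.IsPComponentOf 2 K (Subgroup.centralizer ({t} : Set X))) :
    ⁅K, (Cfsg.oddCore ↥(Subgroup.centralizer ({t} : Set X))).map
        (Subgroup.centralizer ({t} : Set X)).subtype⁆ ≤ Cfsg.oddCore X := by
  sorry

/-- U4: the 2-component `J` of `L_{2'}(C_x) ∩ C_y`, read inside `X = C_y`, is a 2-component of
`C_X(x)`. -/
theorem U4 {G : Type*} [Group G] [Finite G] (x y : G) (hxy : x * y = y * x)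
    (J : Subgroup ↥((Cfsg.pLayer 2 ↥(Subgroup.centralizer ({x} : Set G))).map
      (Subgroup.centralizer ({x} : Set G)).subtype ⊓ Subgroup.centralizer ({y} : Set G)))
    (hJ : Cfsg.IsPComponent 2 J) :
    Cfsg.IsPComponentOf 2
      ((J.map (Subgroup.subtype _)).subgroupOf (Subgroup.centralizer ({y} : Set G)))
      (Subgroup.centralizer
        ({(⟨x, Subgroup.mem_centralizer_singleton_iff.mpr hxy⟩ :
          ↥(Subgroup.centralizer ({y} : Set G)))} : Set ↥(Subgroup.centralizer ({y} : Set G)))) := by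
  sorry

/-- U5: a 2-component centralizes, modulo the core, every odd-order subgroup it normalizes. -/
theorem U5 {X : Type*} [Group X] [Finite X] (K E : Subgroup X) (hK : Cfsg.IsPComponent 2 K)
    (hE : Odd (Nat.card ↥E)) (hKE : K ≤ Subgroup.normalizer (E : Set X)) :
    ⁅K, E⁆ ≤ Cfsg.oddCore X := by
  sorry

/-- U6: three subgroups lemma modulo `N`, for a perfect `J`. -/
theorem U6 {X : Type*} [Group X] (J E R N : Subgroup X) (hperf : ⁅J, J⁆ = J)
    (h1 : ⁅J, E⁆ ≤ R) (h2 : ⁅J, R⁆ ≤ N) (hJN : J ≤ Subgroup.normalizer (N : Set X))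
    (hEN : E ≤ Subgroup.normalizer (N : Set X)) : ⁅J, E⁆ ≤ N := by
  sorry

/-- U7: centralizers of involutions lift through odd-order normal subgroups. -/
theorem U7 {X : Type*} [Group X] [Finite X] (N : Subgroup X) [N.Normal]
    (hN : Odd (Nat.card ↥N)) (x : X) (hx : x ^ 2 = 1) :
    (Subgroup.centralizer ({x} : Set X)).map (QuotientGroup.mk' N) =
      Subgroup.centralizer ({QuotientGroup.mk' N x} : Set (X ⧸ N)) := by
  sorry

/-- U8: the image modulo `O(X)` of a 2-component `K` of a subgroup `C` with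
`[K, O(C)] ≤ O(X)` is quasisimple. -/
theorem U8 {X : Type*} [Group X] [Finite X] (C K : Subgroup X)
    (hK : Cfsg.IsPComponentOf 2 K C)
    (hKM : ⁅K, (Cfsg.oddCore ↥C).map C.subtype⁆ ≤ Cfsg.oddCore X) :
    Cfsg.IsQuasisimple ↥(K.map (QuotientGroup.mk' (Cfsg.oddCore X))) := by
  sorry

/-- U9: the image modulo `O(X)` of a subnormal subgroup of `C_X(t)` is subnormal in the
centralizer of the image of `t`. -/
theorem U9 {X : Type*} [Group X] [Finite X] (t : X) (ht : orderOf t = 2) (K : Subgroup X)
    (hKC : K ≤ Subgroup.centralizer ({t} : Set X))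
    (hK : (K.subgroupOf (Subgroup.centralizer ({t} : Set X))).IsSubnormal) :
    ((K.map (QuotientGroup.mk' (Cfsg.oddCore X))).subgroupOf
      (Subgroup.centralizer ({QuotientGroup.mk' (Cfsg.oddCore X) t} :
        Set (X ⧸ Cfsg.oddCore X)))).IsSubnormal := by
  sorry

/-- U10: conclusion 2 inside `X`. -/
theorem U10 {X : Type*} [Group X] [Finite X] (t : X) (ht : orderOf t = 2)
    (hB : Cfsg.HasBProperty X) (K E : Subgroup X)
    (hK : Cfsg.IsPComponentOf 2 K (Subgroup.centralizer ({t} : Set X)))
    (hEC : E ≤ Subgroup.centralizer ({t} : Set X)) (hE : Odd (Nat.card ↥E))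
    (hKE : K ≤ Subgroup.normalizer (E : Set X)) : ⁅K, E⁆ ≤ Cfsg.oddCore X := by
  sorry

end Cfsg.Agent.Lib.Helper1.TCLStubs
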