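import Mathlib
import Cfsg.Prelude.Def_Balance
import Cfsg.Prelude.Def_ClassificationStages
import Cfsg.Agent.Lib.Helper1.PLengthOne
import Cfsg.Agent.Lib.Helper7.BB1

/-! Farm TCL (S1775), units U7 and U9. -/

set_option autoImplicit false
set_option linter.style.haveILetI false

namespace Cfsg.Agent.Lib.Helper1.TCL

open Cfsg

/-- An involution acting on a finite set of odd cardinality has a fixed point (here: conjugation
by `x` on the coset `g N`). -/
theorem exists_mul_commute_of_odd {X : Type*} [Group X] [Finite X] (N : Subgroup X) [N.Normal]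
    (hN : Odd (Nat.card ↥N)) (x : X) (hx : x ^ 2 = 1) (g : X)
    (hg : x * g * x⁻¹ * g⁻¹ ∈ N) : ∃ n ∈ N, (g * n) * x = x * (g * n) := by
  classical
  letI : Fintype ↥N := Fintype.ofFinite _
  have hxinv : x⁻¹ = x := by
    have : x * x = 1 := by rw [← pow_two]; exact hx
    exact inv_eq_of_mul_eq_one_right this
  -- the involution `σ n = g⁻¹ x g n x⁻¹` on `N`
  have hmem : ∀ n : ↥N, g⁻¹ * (x * (g * (n : X)) * x⁻¹) ∈ N := by
    intro n
    have h1 : g⁻¹ * (x * (g * (n : X)) * x⁻¹) =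
        (g⁻¹ * (x * g * x⁻¹ * g⁻¹) * g⁻¹⁻¹) * (x * n * x⁻¹) := by
      group
    rw [h1]
    refine N.mul_mem ?_ ?_
    · exact (inferInstance : N.Normal).conj_mem _ hg g⁻¹
    · exact (inferInstance : N.Normal).conj_mem _ n.2 x
  let σ : ↥N → ↥N := fun n => ⟨g⁻¹ * (x * (g * (n : X)) * x⁻¹), hmem n⟩
  have hσ : ∀ n, σ (σ n) = n := by
    intro n
    apply Subtype.ext
    show g⁻¹ * (x * (g * (g⁻¹ * (x * (g * (n : X)) * x⁻¹))) * x⁻¹) = n
    have hxx : x * x = 1 := by rw [← pow_two]; exact hx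
    rw [hxinv]
    calc g⁻¹ * (x * (g * (g⁻¹ * (x * (g * (n : X)) * x))) * x)
        = g⁻¹ * ((x * x) * (g * (n : X)) * (x * x)) := by group
      _ = n := by rw [hxx]; group
  have hinv : Function.Involutive σ := hσ
  have hnd : ¬ 2 ∣ Fintype.card ↥N := by
    rw [← Nat.card_eq_fintype_card]
    exact fun h => (Nat.not_even_iff_odd.mpr hN) (even_iff_two_dvd.mpr h)
  have hpow : (hinv.toPerm σ) ^ 2 ^ 1 = 1 := by
    ext n
    simp [pow_two, hσ n]
  haveI : Fact (Nat.Prime 2) := ⟨Nat.prime_two⟩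
  obtain ⟨n, hn⟩ := Equiv.Perm.exists_fixed_point_of_prime (p := 2) (n := 1) hnd hpow
  have hn : σ n = n := hn
  refine ⟨n, n.2, ?_⟩
  have h3 : g⁻¹ * (x * (g * (n : X)) * x⁻¹) = n := congrArg Subtype.val hn
  have h4 : x * (g * (n : X)) * x⁻¹ = g * n := by
    calc x * (g * (n : X)) * x⁻¹ = g * (g⁻¹ * (x * (g * (n : X)) * x⁻¹)) := by group
      _ = g * n := by rw [h3]
  calc g * (n : X) * x = (x * (g * (n : X)) * x⁻¹) * x := by rw [h4]
    _ = x * (g * n) := by group

/-- U7: centralizers of involutions lift through odd-order normal subgroups. -/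
theorem U7 {X : Type*} [Group X] [Finite X] (N : Subgroup X) [N.Normal]
    (hN : Odd (Nat.card ↥N)) (x : X) (hx : x ^ 2 = 1) :
    (Subgroup.centralizer ({x} : Set X)).map (QuotientGroup.mk' N) =
      Subgroup.centralizer ({QuotientGroup.mk' N x} : Set (X ⧸ N)) := by
  apply le_antisymm
  · rintro _ ⟨c, hc, rfl⟩
    rw [Subgroup.mem_centralizer_singleton_iff]
    have hc' : c * x = x * c := Subgroup.mem_centralizer_singleton_iff.mp hc
    rw [← map_mul, ← map_mul, hc']
  · intro q hq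
    obtain ⟨g, rfl⟩ := QuotientGroup.mk'_surjective N q
    have hq' := Subgroup.mem_centralizer_singleton_iff.mp hq
    have hg : x * g * x⁻¹ * g⁻¹ ∈ N := by
      rw [← QuotientGroup.eq_one_iff]
      have h1 : ((x * g * x⁻¹ * g⁻¹ : X) : X ⧸ N) =
          QuotientGroup.mk' N x * QuotientGroup.mk' N g * (QuotientGroup.mk' N x)⁻¹ *
            (QuotientGroup.mk' N g)⁻¹ := by
        simp
      rw [h1, ← hq']
      group
    obtain ⟨n, hn, hcomm⟩ := exists_mul_commute_of_odd N hN x hx g hg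
    refine ⟨g * n, Subgroup.mem_centralizer_singleton_iff.mpr hcomm, ?_⟩
    rw [map_mul]
    have : QuotientGroup.mk' N n = 1 := (QuotientGroup.eq_one_iff n).mpr hn
    rw [this, mul_one]

/-- U9: the image modulo `O(X)` of a subnormal subgroup of `C_X(t)` is subnormal in the
centralizer of the image of `t`. -/
theorem U9 {X : Type*} [Group X] [Finite X] (t : X) (ht : orderOf t = 2) (K : Subgroup X)
    (hKC : K ≤ Subgroup.centralizer ({t} : Set X))
    (hK : (K.subgroupOf (Subgroup.centralizer ({t} : Set X))).IsSubnormal) :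
    ((K.map (QuotientGroup.mk' (Cfsg.oddCore X))).subgroupOf
      (Subgroup.centralizer ({QuotientGroup.mk' (Cfsg.oddCore X) t} :
        Set (X ⧸ Cfsg.oddCore X)))).IsSubnormal := by
  have hodd : Odd (Nat.card ↥(Cfsg.oddCore X)) :=
    Nat.coprime_two_right.mp (Cfsg.Agent.Lib.Helper1.pPrimeCore_card_coprime 2)
  have ht2 : t ^ 2 = 1 := by rw [← ht]; exact pow_orderOf_eq_one t
  rw [← U7 (Cfsg.oddCore X) hodd t ht2]
  exact Cfsg.Agent.Lib.Helper7.BB.subn_map _ hKC hK

end Cfsg.Agent.Lib.Helper1.TCL
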