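import Mathlib
import Cfsg.Agent.Lib.Helper8.CSGDefs
import Cfsg.Agent.Lib.Helper1.PSGDefs

/-!
# S4284 (class sizes exactly `{1, m, m n}`, `(m, n) = 1`, no abelian direct factor): definitions

`idx g` (class size of `g`) is from `Cfsg.Agent.Lib.Helper8.CSG`, `PElt p g` (`g` is a `p`-element) from
`Cfsg.Agent.Lib.Helper1.PSG`.
-/

set_option autoImplicit false
set_option linter.unusedVariables false
set_option linter.unusedSectionVars false
set_option linter.style.longLine false

namespace Cfsg.Agent.Lib.Helper1.TCS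

open Cfsg.Agent.Lib.Helper8.CSG Cfsg.Agent.Lib.Helper1.PSG

/-- the centralizer of an element -/
abbrev Cz {G : Type*} [Group G] (g : G) : Subgroup G := Subgroup.centralizer ({g} : Set G)

/-- the class sizes of `G` are exactly `1, m, m * n` with `m, n > 1` coprime -/
structure H3 (G : Type*) [Group G] (m n : ℕ) : Prop where
  hm : 1 < m
  hn : 1 < n
  cop : m.Coprime n
  mem : ∀ g : G, idx g = 1 ∨ idx g = m ∨ idx g = m * n
  ex1 : ∃ g : G, idx g = m
  ex2 : ∃ g : G, idx g = m * n

/-- no nontrivial abelian direct factor -/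
def NDF (G : Type*) [Group G] : Prop :=
  ∀ A B : Subgroup G, A.Normal → B.Normal → A ⊓ B = ⊥ → A ⊔ B = ⊤ → IsMulCommutative A → A = ⊥

/-- the subgroup generated by the elements of `C_G(v)` of order prime to `p` (under `H3`, for a noncentral `p`-element `v`
with `p ∣ m`, this is the set of all `p'`-elements of `C_G(v)`, a normal Hall `p'`-subgroup of `C_G(v)`) -/
def Hc {G : Type*} [Group G] (p : ℕ) (v : G) : Subgroup G :=
  Subgroup.closure {u : G | u * v = v * u ∧ (orderOf u).Coprime p}

/-- the subgroup generated by the `p`-elements of `C_G(v)` -/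
def Sc {G : Type*} [Group G] (p : ℕ) (v : G) : Subgroup G :=
  Subgroup.closure {u : G | u * v = v * u ∧ PElt p u}

/-- the data of Part B after the first reductions: `K` an abelian normal `p`-complement with `K ∩ Z(G) = 1`,
`x ∈ P` of index `p ^ a` centralizing `K` -/
structure BSetup (G : Type*) [Group G] (p a n : ℕ) (K : Subgroup G) (P : Sylow p G) (x : G) : Prop where
  h : H3 G (p ^ a) n
  normal : K.Normal
  cop : (Nat.card K).Coprime p
  idxK : ∃ e : ℕ, K.index = p ^ e
  comm : ∀ k ∈ K, ∀ k' ∈ K, k * k' = k' * k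
  triv : K ⊓ Subgroup.center G = ⊥
  xP : x ∈ (P : Subgroup G)
  xi : idx x = p ^ a
  Kx : K ≤ Cz x

/-- the data of Part C (cover step): `O` a normal `p'`-subgroup containing the `p'`-elements of index `1` or `p`,
`y` a `p'`-element of index `p`, `P` a Sylow `p`-subgroup with `|P : C_P(y)| = p`, `u ∈ C_P(y)` noncentral with
`[u, P] ≤ Z(G)`, and `C_P(y) ≤ C_G(u)` -/
structure CSetup (G : Type*) [Group G] (p n : ℕ) (O : Subgroup G) (P : Sylow p G) (y u : G) : Prop where
  h : H3 G p n
  hβ : ∀ t : G, PElt p t → idx t ≠ 1 → idx t = p * n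
  normal : O.Normal
  cop : (Nat.card O).Coprime p
  memO : ∀ k : G, (orderOf k).Coprime p → (idx k = 1 ∨ idx k = p) → k ∈ O
  hy : (orderOf y).Coprime p
  hyi : idx y = p
  uP : u ∈ (P : Subgroup G)
  un : idx u ≠ 1
  uy : u * y = y * u
  ucomm : ∀ s ∈ (P : Subgroup G), u * s * u⁻¹ * s⁻¹ ∈ Subgroup.center G
  rel : (Cz y).relIndex (P : Subgroup G) = p
  Sle : (P : Subgroup G) ⊓ Cz y ≤ Cz u

end Cfsg.Agent.Lib.Helper1.TCS
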