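import Mathlib
import Cfsg.Agent.Lib.Helper1.TCSDefs
import Cfsg.Agent.Lib.Helper1.NMStraightHall
import Cfsg.Agent.Lib.Helper9.PSGBasicB

/-!
# S4284 piece X0a (helper1): API for `Cz`, `Hc`, `Sc`.
-/

set_option autoImplicit false
set_option maxHeartbeats 4000000
set_option linter.unusedVariables false
set_option linter.unusedSectionVars false
set_option linter.style.longLine false

namespace Cfsg.Agent.Lib.Helper1.TCS

open Cfsg.Agent.Lib.Helper8.CSG Cfsg.Agent.Lib.Helper1.PSG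

variable {G : Type*} [Group G] [Finite G] {m n : ℕ}

theorem mem_Cz {g x : G} : x ∈ Cz g ↔ x * g = g * x := Subgroup.mem_centralizer_singleton_iff

theorem Hc_le (p : ℕ) (v : G) : Hc p v ≤ Cz v := by
  unfold Hc
  rw [Subgroup.closure_le]
  intro u hu
  exact mem_Cz.2 hu.1

theorem mem_Hc {p : ℕ} {v u : G} (h1 : u * v = v * u) (h2 : (orderOf u).Coprime p) : u ∈ Hc p v :=
  Subgroup.subset_closure ⟨h1, h2⟩

theorem Sc_le (p : ℕ) (v : G) : Sc p v ≤ Cz v := by
  unfold Sc
  rw [Subgroup.closure_le]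
  intro u hu
  exact mem_Cz.2 hu.1

theorem mem_Sc {p : ℕ} {v u : G} (h1 : u * v = v * u) (h2 : PElt p u) : u ∈ Sc p v :=
  Subgroup.subset_closure ⟨h1, h2⟩

theorem Cz_conj (g v : G) {x : G} (hx : x ∈ Cz v) : g * x * g⁻¹ ∈ Cz (g * v * g⁻¹) := by
  rw [mem_Cz] at hx ⊢
  calc g * x * g⁻¹ * (g * v * g⁻¹) = g * (x * v) * g⁻¹ := by group
    _ = g * (v * x) * g⁻¹ := by rw [hx]
    _ = g * v * g⁻¹ * (g * x * g⁻¹) := by group

theorem h1tcs_conj_comm_aux (g v : G) {x : G} (hx : x * v = v * x) :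
    g * x * g⁻¹ * (g * v * g⁻¹) = g * v * g⁻¹ * (g * x * g⁻¹) :=
  mem_Cz.1 (Cz_conj g v (mem_Cz.2 hx))

theorem h1tcs_orderOf_conj_aux (g x : G) : orderOf (g * x * g⁻¹) = orderOf x := by
  have := orderOf_injective (MulAut.conj g).toMonoidHom (MulAut.conj g).injective x
  simpa [MulAut.conj_apply] using this

theorem Hc_conj (p : ℕ) (g v : G) {x : G} (hx : x ∈ Hc p v) : g * x * g⁻¹ ∈ Hc p (g * v * g⁻¹) := by
  unfold Hc at hx
  induction hx using Subgroup.closure_induction with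
  | mem u hu =>
    refine mem_Hc (h1tcs_conj_comm_aux g v hu.1) ?_
    rw [h1tcs_orderOf_conj_aux]; exact hu.2
  | one => simp
  | mul a b _ _ iha ihb =>
    have : g * (a * b) * g⁻¹ = (g * a * g⁻¹) * (g * b * g⁻¹) := by group
    rw [this]; exact Subgroup.mul_mem _ iha ihb
  | inv a _ iha =>
    have : g * a⁻¹ * g⁻¹ = (g * a * g⁻¹)⁻¹ := by group
    rw [this]; exact Subgroup.inv_mem _ iha

theorem Sc_conj (p : ℕ) (g v : G) {x : G} (hx : x ∈ Sc p v) : g * x * g⁻¹ ∈ Sc p (g * v * g⁻¹) := by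
  unfold Sc at hx
  induction hx using Subgroup.closure_induction with
  | mem u hu =>
    exact mem_Sc (h1tcs_conj_comm_aux g v hu.1) (pelt_conj hu.2 g)
  | one => simp
  | mul a b _ _ iha ihb =>
    have : g * (a * b) * g⁻¹ = (g * a * g⁻¹) * (g * b * g⁻¹) := by group
    rw [this]; exact Subgroup.mul_mem _ iha ihb
  | inv a _ iha =>
    have : g * a⁻¹ * g⁻¹ = (g * a * g⁻¹)⁻¹ := by group
    rw [this]; exact Subgroup.inv_mem _ iha

theorem h1tcs_comm_central_iff (v : G) {z : G} (hz : z ∈ Subgroup.center G) (u : G) :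
    u * (z * v) = z * v * u ↔ u * v = v * u := by
  have hzu : u * z = z * u := ((Subgroup.mem_center_iff.1 hz) u)
  constructor
  · intro h
    have h1 : z * (u * v) = z * (v * u) := by
      calc z * (u * v) = u * (z * v) := by rw [← mul_assoc, ← hzu, mul_assoc]
        _ = z * v * u := h
        _ = z * (v * u) := by rw [mul_assoc]
    exact mul_left_cancel h1
  · intro h
    calc u * (z * v) = z * (u * v) := by rw [← mul_assoc, hzu, mul_assoc]
      _ = z * (v * u) := by rw [h]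
      _ = z * v * u := by rw [mul_assoc]

theorem Cz_mul_central (v : G) {z : G} (hz : z ∈ Subgroup.center G) : Cz (z * v) = Cz v := by
  ext u
  rw [mem_Cz, mem_Cz]
  exact h1tcs_comm_central_iff v hz u

theorem Hc_mul_central (p : ℕ) (v : G) {z : G} (hz : z ∈ Subgroup.center G) : Hc p (z * v) = Hc p v := by
  unfold Hc
  congr 1
  ext u
  simp only [Set.mem_ofPred_eq]
  rw [h1tcs_comm_central_iff v hz u]

theorem Sc_mul_central (p : ℕ) (v : G) {z : G} (hz : z ∈ Subgroup.center G) : Sc p (z * v) = Sc p v := by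
  unfold Sc
  congr 1
  ext u
  simp only [Set.mem_ofPred_eq]
  rw [h1tcs_comm_central_iff v hz u]

/-- if `Cz a ≤ Cz b` and the indices agree then `Cz a = Cz b` -/
theorem Cz_eq_of_le {a b : G} (hle : Cz a ≤ Cz b) (hidx : idx a = idx b) : Cz a = Cz b := by
  have h1 : (Cz a).relIndex (Cz b) * (Cz b).index = (Cz a).index := Subgroup.relIndex_mul_index hle
  have hb : (Cz b).index ≠ 0 := Subgroup.index_ne_zero_of_finite
  have h2 : (Cz a).relIndex (Cz b) = 1 := by
    have h3 : (Cz a).relIndex (Cz b) * (Cz b).index = 1 * (Cz b).index := by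
      rw [h1, one_mul]; exact hidx
    exact Nat.eq_of_mul_eq_mul_right (Nat.pos_of_ne_zero hb) h3
  exact le_antisymm hle (Subgroup.relIndex_eq_one.1 h2)

/-- `C(uw) = C(u) ∩ C(w)` for commuting elements of coprime orders -/
theorem Cz_mul_of_coprime {u w : G} (hc : u * w = w * u) (hco : (orderOf u).Coprime (orderOf w)) :
    Cz (u * w) = Cz u ⊓ Cz w :=
  Cfsg.Agent.Lib.Helper3.NM.h1_centralizer_mul_of_coprime hc hco

end Cfsg.Agent.Lib.Helper1.TCS
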