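import Mathlib
import Cfsg.Agent.Lib.Helper1.TCSApi

/-!
# S4284 piece X0b (helper1): arithmetic of `H3`.
-/

set_option autoImplicit false
set_option maxHeartbeats 4000000
set_option linter.unusedVariables false
set_option linter.unusedSectionVars false
set_option linter.style.longLine false

namespace Cfsg.Agent.Lib.Helper1.TCS

open Cfsg.Agent.Lib.Helper8.CSG Cfsg.Agent.Lib.Helper1.PSG

variable {G : Type*} [Group G] [Finite G] {m n : ℕ}

theorem dvd_idx (h : H3 G m n) {g : G} (hg : idx g ≠ 1) : m ∣ idx g := by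
  rcases h.mem g with h1 | h1 | h1
  · exact absurd h1 hg
  · rw [h1]
  · rw [h1]; exact dvd_mul_right m n

theorem idx_eq_one_of_not_dvd (h : H3 G m n) {g : G} (hg : ¬ m ∣ idx g) : idx g = 1 := by
  by_contra h1
  exact hg (dvd_idx h h1)

theorem idx_dvd_mul (h : H3 G m n) (g : G) : idx g ∣ m * n := by
  rcases h.mem g with h1 | h1 | h1
  · rw [h1]; exact one_dvd _
  · rw [h1]; exact dvd_mul_right m n
  · rw [h1]

theorem h1tcs_idx_mul_eq {u w : G} (hc : u * w = w * u) (hco : (orderOf u).Coprime (orderOf w)) :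
    (Cz w).relIndex (Cz u) * idx u = idx (u * w) := by
  have h1 : Cz (u * w) = Cz u ⊓ Cz w := Cz_mul_of_coprime hc hco
  have h2 : (Cz u ⊓ Cz w).relIndex (Cz u) * (Cz u).index = (Cz u ⊓ Cz w).index :=
    Subgroup.relIndex_mul_index inf_le_left
  have h3 : (Cz u ⊓ Cz w).relIndex (Cz u) = (Cz w).relIndex (Cz u) := by
    rw [inf_comm]; exact Subgroup.inf_relIndex_right _ _
  show (Cz w).relIndex (Cz u) * (Cz u).index = (Cz (u * w)).index
  rw [h1, ← h3, h2]

theorem cent_le_of_max (h : H3 G m n) {t k : G} (htk : t * k = k * t) (hco : (orderOf t).Coprime (orderOf k))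
    (ht : idx t = m * n) : Cz t ≤ Cz k := by
  have h1 := h1tcs_idx_mul_eq htk hco
  have h2 : idx (t * k) ∣ m * n := idx_dvd_mul h _
  have hpos : 0 < m * n := Nat.mul_pos (by have := h.hm; omega) (by have := h.hn; omega)
  rw [ht] at h1
  have h3 : (Cz k).relIndex (Cz t) * (m * n) ≤ m * n := by
    rw [h1]; exact Nat.le_of_dvd hpos h2
  have h4 : (Cz k).relIndex (Cz t) ≠ 0 := by
    have := Subgroup.relIndex_dvd_card (Cz k) (Cz t)
    intro h0; rw [h0] at this
    exact Nat.card_pos.ne' (Nat.eq_zero_of_zero_dvd this)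
  have h5 : (Cz k).relIndex (Cz t) = 1 := by
    have : (Cz k).relIndex (Cz t) ≤ 1 := by
      by_contra hgt
      rw [not_le] at hgt
      have : 2 * (m * n) ≤ (Cz k).relIndex (Cz t) * (m * n) := Nat.mul_le_mul_right _ hgt
      omega
    omega
  exact Subgroup.relIndex_eq_one.1 h5

theorem relIndex_cases (h : H3 G m n) {v y : G} (hvy : v * y = y * v) (hco : (orderOf v).Coprime (orderOf y))
    (hv : idx v ≠ 1) :
    ((Cz y).relIndex (Cz v) = 1 ∨ (Cz y).relIndex (Cz v) = n) ∧ (idx v = m * n → (Cz y).relIndex (Cz v) = 1) := by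
  have h1 := h1tcs_idx_mul_eq hvy hco
  have hm0 : 0 < m := by have := h.hm; omega
  have hn1 := h.hn
  have hr0 : (Cz y).relIndex (Cz v) ≠ 0 := by
    have := Subgroup.relIndex_dvd_card (Cz y) (Cz v)
    intro h0; rw [h0] at this
    exact Nat.card_pos.ne' (Nat.eq_zero_of_zero_dvd this)
  set r := (Cz y).relIndex (Cz v) with hr
  have hvy1 : idx (v * y) ≠ 1 := by
    intro h0
    rw [h0] at h1
    have := Nat.eq_one_of_mul_eq_one_left h1
    exact hv this
  rcases h.mem v with hv1 | hv1 | hv1
  · exact absurd hv1 hv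
  · rcases h.mem (v * y) with hw | hw | hw
    · exact absurd hw hvy1
    · rw [hv1, hw] at h1
      have : r = 1 := by
        have : r * m = 1 * m := by rw [h1, one_mul]
        exact Nat.eq_of_mul_eq_mul_right hm0 this
      refine ⟨Or.inl this, fun _ => this⟩
    · rw [hv1, hw] at h1
      have : r = n := by
        have : r * m = n * m := by rw [h1, mul_comm]
        exact Nat.eq_of_mul_eq_mul_right hm0 this
      refine ⟨Or.inr this, fun h' => ?_⟩
      exfalso
      rw [hv1] at h'
      have : m * 1 = m * n := by rw [mul_one]; exact h'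
      have := Nat.eq_of_mul_eq_mul_left hm0 this
      omega
  · rcases h.mem (v * y) with hw | hw | hw
    · exact absurd hw hvy1
    · exfalso
      rw [hv1, hw] at h1
      have h2 : m * (r * n) = m * 1 := by
        rw [mul_one]; nth_rewrite 2 [← h1]; ring
      have h3 := Nat.eq_of_mul_eq_mul_left hm0 h2
      have := Nat.eq_one_of_mul_eq_one_left h3
      omega
    · rw [hv1, hw] at h1
      have hpos : 0 < m * n := Nat.mul_pos hm0 (by omega)
      have : r = 1 := by
        have : r * (m * n) = 1 * (m * n) := by rw [h1, one_mul]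
        exact Nat.eq_of_mul_eq_mul_right hpos this
      exact ⟨Or.inl this, fun _ => this⟩

end Cfsg.Agent.Lib.Helper1.TCS
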