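import Mathlib
import Cfsg.Agent.Lib.Helper1.TCSBasic
import Cfsg.Agent.Lib.Helper8.CSGAsym

/-!
# S4284 piece X0c (helper1): `center_sylow`, `sylow_not_comm`, `exists_noncentral_pelt`.
-/

set_option autoImplicit false
set_option maxHeartbeats 4000000
set_option linter.unusedVariables false
set_option linter.unusedSectionVars false
set_option linter.style.longLine false

namespace Cfsg.Agent.Lib.Helper1.TCS

open Cfsg.Agent.Lib.Helper8.CSG Cfsg.Agent.Lib.Helper1.PSG

variable {G : Type*} [Group G] [Finite G] {m n : ℕ}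

theorem center_sylow (h : H3 G m n) {p : ℕ} [Fact p.Prime] (hpm : p ∣ m) (P : Sylow p G) {z : G}
    (hz : z ∈ (P : Subgroup G)) (hzc : ∀ x ∈ (P : Subgroup G), z * x = x * z) : z ∈ Subgroup.center G := by
  apply h8_mem_center_of_idx_eq_one
  apply idx_eq_one_of_not_dvd h
  intro hm
  have hle : (P : Subgroup G) ≤ Cz z := by
    intro x hx
    rw [mem_Cz]
    exact (hzc x hx).symm
  have h1 : (Cz z).index ∣ (P : Subgroup G).index := Subgroup.index_dvd_of_le hle
  have h2 : p ∣ (P : Subgroup G).index := dvd_trans (dvd_trans hpm hm) h1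
  exact P.not_dvd_index h2

theorem sylow_not_comm (h : H3 G m n) {p : ℕ} [Fact p.Prime] (hpm : p ∣ m) (P : Sylow p G) :
    ∃ a ∈ (P : Subgroup G), ∃ x ∈ (P : Subgroup G), a * x ≠ x * a := by
  by_contra hcon
  have hall : ∀ a ∈ (P : Subgroup G), ∀ x ∈ (P : Subgroup G), a * x = x * a := by
    intro a ha x hx
    by_contra hne
    exact hcon ⟨a, ha, x, hx, hne⟩
  obtain ⟨g, hg⟩ := h.ex1
  have hle : (P : Subgroup G) ≤ Cz g := by
    intro x hx
    have hxc : x ∈ Subgroup.center G := center_sylow h hpm P hx (hall x hx)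
    rw [mem_Cz]
    exact ((Subgroup.mem_center_iff.1 hxc) g).symm
  have h1 : (Cz g).index ∣ (P : Subgroup G).index := Subgroup.index_dvd_of_le hle
  have h2 : p ∣ (P : Subgroup G).index := by
    refine dvd_trans ?_ h1
    show p ∣ idx g
    rw [hg]; exact hpm
  exact P.not_dvd_index h2

theorem h1tcs_pelt_of_isPGroup {p : ℕ} [Fact p.Prime] {H : Subgroup G} (hH : IsPGroup p H) {x : G} (hx : x ∈ H) :
    PElt p x := by
  obtain ⟨k, hk⟩ := hH ⟨x, hx⟩
  refine ⟨k, ?_⟩
  have := congrArg Subtype.val hk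
  simpa using this

/-- a `p`-subgroup of `G` whose order is the `p`-part of `|H|`, inside `H` -/
theorem h1tcs_exists_sylow_in (p : ℕ) [Fact p.Prime] (H : Subgroup G) :
    ∃ S : Subgroup G, S ≤ H ∧ IsPGroup p S ∧ Nat.card S = p ^ (Nat.card H).factorization p := by
  obtain ⟨P0⟩ : Nonempty (Sylow p H) := inferInstance
  refine ⟨(P0 : Subgroup H).map H.subtype, Subgroup.map_subtype_le _, ?_, ?_⟩
  · exact P0.isPGroup'.map H.subtype
  · rw [Subgroup.card_map_of_injective (Subgroup.subtype_injective H)]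
    exact P0.card_eq_multiplicity

theorem exists_noncentral_pelt (h : H3 G m n) {p : ℕ} (hp : p.Prime) (hpm : p ∣ m) {g : G} (hg : idx g ≠ 1) :
    ∃ x : G, PElt p x ∧ x * g = g * x ∧ idx x ≠ 1 := by
  haveI : Fact p.Prime := ⟨hp⟩
  by_contra hcon
  have hall : ∀ x : G, PElt p x → x * g = g * x → idx x = 1 := by
    intro x hx hxg
    by_contra hne
    exact hcon ⟨x, hx, hxg, hne⟩
  have hpn : ¬ p ∣ n := by
    intro hpn
    have := Nat.dvd_gcd hpm hpn
    rw [Nat.Coprime.gcd_eq_one h.cop] at this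
    exact hp.one_lt.ne' (Nat.dvd_one.1 this)
  have hm0 : m ≠ 0 := by have := h.hm; omega
  have hn0 : n ≠ 0 := by have := h.hn; omega
  -- the `p`-part of `|C(x)|` is the same for all noncentral `x`
  have hfac : ∀ x : G, idx x ≠ 1 →
      (Nat.card (Cz x)).factorization p + m.factorization p = (Nat.card G).factorization p := by
    intro x hx
    have h1 : Nat.card (Cz x) * idx x = Nat.card G := Subgroup.card_mul_index (Cz x)
    have hc0 : Nat.card (Cz x) ≠ 0 := Nat.card_pos.ne'
    have hi0 : idx x ≠ 0 := Subgroup.index_ne_zero_of_finite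
    have h2 : (idx x).factorization p = m.factorization p := by
      rcases h.mem x with h3 | h3 | h3
      · exact absurd h3 hx
      · rw [h3]
      · rw [h3, Nat.factorization_mul hm0 hn0]
        simp [Nat.factorization_eq_zero_of_not_dvd hpn]
    rw [← h1, Nat.factorization_mul hc0 hi0]
    simp [h2]
  -- a noncentral `p`-element `x₀`
  obtain ⟨P⟩ : Nonempty (Sylow p G) := inferInstance
  obtain ⟨x0, hx0P, y0, hy0P, hxy0⟩ := sylow_not_comm h hpm P
  have hx0p : PElt p x0 := pelt_of_mem_sylow P hx0P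
  have hx0n : idx x0 ≠ 1 := by
    intro h1
    have := h8_mem_center_of_idx_eq_one h1
    exact hxy0 ((Subgroup.mem_center_iff.1 this) y0).symm
  -- Sylow of the center
  obtain ⟨Zp, hZle, hZp, hZcard⟩ := h1tcs_exists_sylow_in p (Subgroup.center G)
  -- T = Zp ⊔ ⟨x₀⟩
  have hZn : Zp.Normal := by
    constructor
    intro a ha b
    have : b * a * b⁻¹ = a := by
      have hc := (Subgroup.mem_center_iff.1 (hZle ha)) b
      rw [hc]; group
    rw [this]; exact ha
  have hxz : IsPGroup p (Subgroup.zpowers x0) := h9_psg_isPGroup_zpowers hx0p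
  have hT : IsPGroup p (Zp ⊔ Subgroup.zpowers x0 : Subgroup G) := IsPGroup.to_sup_of_normal_left hZp hxz
  have hTle : Zp ⊔ Subgroup.zpowers x0 ≤ Cz x0 := by
    apply sup_le
    · intro a ha
      rw [mem_Cz]
      exact ((Subgroup.mem_center_iff.1 (hZle ha)) x0).symm
    · rw [Subgroup.zpowers_le]
      rw [mem_Cz]
  obtain ⟨t, ht⟩ := hT.exists_card_eq
  have hZlt : Zp < Zp ⊔ Subgroup.zpowers x0 := by
    refine lt_of_le_of_ne le_sup_left ?_
    intro heq
    have hx0Z : x0 ∈ Zp := by
      rw [heq]; exact Subgroup.mem_sup_right (Subgroup.mem_zpowers x0)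
    exact hx0n (h8_idx_eq_one_of_mem_center (hZle hx0Z))
  have hcardlt : Nat.card Zp < Nat.card (Zp ⊔ Subgroup.zpowers x0 : Subgroup G) := by
    have hsub : (Zp : Set G) ⊂ ((Zp ⊔ Subgroup.zpowers x0 : Subgroup G) : Set G) := hZlt
    exact Set.ncard_lt_ncard hsub (Set.toFinite _)
  have hzt : (Nat.card (Subgroup.center G)).factorization p < t := by
    rw [hZcard, ht] at hcardlt
    exact (Nat.pow_lt_pow_iff_right hp.one_lt).1 hcardlt
  have htc : t ≤ (Nat.card (Cz x0)).factorization p := by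
    have h1 : Nat.card (Zp ⊔ Subgroup.zpowers x0 : Subgroup G) ∣ Nat.card (Cz x0) :=
      Subgroup.card_dvd_of_le hTle
    rw [ht] at h1
    exact (hp.pow_dvd_iff_le_factorization Nat.card_pos.ne').1 h1
  -- Sylow of `C(g)` is central
  obtain ⟨S, hSle, hSp, hScard⟩ := h1tcs_exists_sylow_in p (Cz g)
  have hScen : S ≤ Subgroup.center G := by
    intro s hs
    apply h8_mem_center_of_idx_eq_one
    exact hall s (h1tcs_pelt_of_isPGroup hSp hs) (mem_Cz.1 (hSle hs))
  have hgz : (Nat.card (Cz g)).factorization p ≤ (Nat.card (Subgroup.center G)).factorization p := by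
    have h1 : Nat.card S ∣ Nat.card (Subgroup.center G) := Subgroup.card_dvd_of_le hScen
    rw [hScard] at h1
    exact (hp.pow_dvd_iff_le_factorization Nat.card_pos.ne').1 h1
  have e1 := hfac g hg
  have e2 := hfac x0 hx0n
  omega

end Cfsg.Agent.Lib.Helper1.TCS
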