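import Mathlib
import Cfsg.Agent.Lib.Helper1.TCSBasicC
import Cfsg.Agent.Lib.Helper8.K6b
import Cfsg.Agent.Lib.Helper9.CSGPow

/-!
# S4284 piece B1 (helper1): `partB_npc`.
-/

set_option autoImplicit false
set_option maxHeartbeats 4000000
set_option linter.unusedVariables false
set_option linter.unusedSectionVars false
set_option linter.style.longLine false

namespace Cfsg.Agent.Lib.Helper1.TCS

open Cfsg.Agent.Lib.Helper8.CSG Cfsg.Agent.Lib.Helper1.PSG

variable {G : Type*} [Group G] [Finite G] {p a n : ℕ}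

/-- `H3 G (p^a) n`: `a ≠ 0` and `p ∤ n` -/
theorem h1tcs_pow_facts (hp : p.Prime) (h : H3 G (p ^ a) n) : a ≠ 0 ∧ ¬ p ∣ n := by
  have ha : a ≠ 0 := by
    intro h0
    have := h.hm
    rw [h0, pow_zero] at this
    exact lt_irrefl _ this
  refine ⟨ha, ?_⟩
  intro hpn
  have hcop : p.Coprime n := Nat.Coprime.coprime_dvd_left (dvd_pow_self p ha) h.cop
  have := Nat.dvd_gcd (dvd_refl p) hpn
  rw [Nat.Coprime.gcd_eq_one hcop] at this
  exact hp.one_lt.ne' (Nat.dvd_one.1 this)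

/-- a `p`-element has order a power of `p` -/
theorem h1tcs_orderOf_pelt (hp : p.Prime) {x : G} (hx : PElt p x) : ∃ k : ℕ, orderOf x = p ^ k := by
  obtain ⟨k, hk⟩ := hx
  have : orderOf x ∣ p ^ k := orderOf_dvd_of_pow_eq_one hk
  obtain ⟨j, _, hj⟩ := (Nat.dvd_prime_pow hp).1 this
  exact ⟨j, hj⟩

/-- the `p'`-parts of `p^f * r₁ = r₂ * p^g` agree -/
theorem h1tcs_coprime_part_eq (hp : p.Prime) {f g r1 r2 : ℕ} (h1 : r1.Coprime p) (h2 : r2.Coprime p)
    (he : p ^ f * r1 = r2 * p ^ g) : r1 = r2 := by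
  apply Nat.dvd_antisymm
  · have : r1 ∣ r2 * p ^ g := ⟨p ^ f, by rw [← he]; ring⟩
    exact (Nat.Coprime.dvd_of_dvd_mul_right (Nat.Coprime.pow_right g h1) this)
  · have : r2 ∣ p ^ f * r1 := ⟨p ^ g, he⟩
    exact (Nat.Coprime.dvd_of_dvd_mul_left (Nat.Coprime.pow_right f h2) this)

/-- `K ⊴ G` of `p`-power index, `K ≤ C`, and `|C : C ∩ D|` and `|K : K ∩ D|` prime to `p`: they are equal. -/
theorem h1tcs_relIndex_eq_of_normal (hp : p.Prime) (K C D : Subgroup G) [K.Normal] (hKC : K ≤ C)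
    (hKi : ∃ e : ℕ, K.index = p ^ e) (h1 : (D.relIndex K).Coprime p) (h2 : (D.relIndex C).Coprime p) :
    D.relIndex K = D.relIndex C := by
  -- |C : K ⊓ D| two ways
  have e1 : (K ⊓ D).relIndex K * K.relIndex C = (K ⊓ D).relIndex C :=
    Subgroup.relIndex_mul_relIndex _ _ _ inf_le_left hKC
  have hle : K ⊓ D ≤ C ⊓ D := inf_le_inf_right D hKC
  have e2 : (K ⊓ D).relIndex (C ⊓ D) * (C ⊓ D).relIndex C = (K ⊓ D).relIndex C :=
    Subgroup.relIndex_mul_relIndex _ _ _ hle inf_le_left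
  have e3 : (K ⊓ D).relIndex K = D.relIndex K := by
    rw [inf_comm]; exact Subgroup.inf_relIndex_right _ _
  have e4 : (C ⊓ D).relIndex C = D.relIndex C := by
    rw [inf_comm]; exact Subgroup.inf_relIndex_right _ _
  have e5 : (K ⊓ D).relIndex (C ⊓ D) = K.relIndex (C ⊓ D) := by
    have : K ⊓ D ⊓ (C ⊓ D) = K ⊓ (C ⊓ D) := by
      apply le_antisymm
      · exact le_inf (inf_le_left.trans inf_le_left) inf_le_right
      · exact le_inf (le_inf inf_le_left (inf_le_right.trans inf_le_right)) inf_le_right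
    rw [← Subgroup.inf_relIndex_right (K ⊓ D) (C ⊓ D), this, Subgroup.inf_relIndex_right]
  obtain ⟨e, he⟩ := hKi
  have d1 : K.relIndex C ∣ p ^ e := by
    rw [← he]; exact Subgroup.relIndex_dvd_index_of_normal K C
  have d2 : K.relIndex (C ⊓ D) ∣ p ^ e := by
    rw [← he]; exact Subgroup.relIndex_dvd_index_of_normal K (C ⊓ D)
  obtain ⟨f, _, hf⟩ := (Nat.dvd_prime_pow hp).1 d1
  obtain ⟨g, _, hg⟩ := (Nat.dvd_prime_pow hp).1 d2
  rw [e3, hf] at e1
  rw [e5, e4, hg] at e2
  apply h1tcs_coprime_part_eq hp h1 h2 (f := f) (g := g)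
  rw [mul_comm, e1, ← e2, mul_comm]

theorem partB_npc [Fact p.Prime] (h : H3 G (p ^ a) n) {x : G} (hx : PElt p x) (hxi : idx x = p ^ a) :
    ∃ K : Subgroup G, K.Normal ∧ (Nat.card K).Coprime p ∧ (∃ e : ℕ, K.index = p ^ e) ∧ K ≤ Cz x ∧
      ∀ k ∈ K, (Cz k).relIndex K = 1 ∨ (Cz k).relIndex K = n := by
  have hp : p.Prime := Fact.out
  obtain ⟨ha, hpn⟩ := h1tcs_pow_facts hp h
  have hmax : ∀ y : G, ¬ p ^ (a + 1) ∣ (Subgroup.centralizer ({y} : Set G)).index := by
    intro y hdvd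
    rcases h.mem y with h1 | h1 | h1
    · rw [show (Subgroup.centralizer ({y} : Set G)).index = 1 from h1] at hdvd
      have := Nat.dvd_one.1 hdvd
      have h2 : 1 < p ^ (a + 1) := Nat.one_lt_pow (by omega) hp.one_lt
      omega
    · rw [show (Subgroup.centralizer ({y} : Set G)).index = p ^ a from h1] at hdvd
      have := (Nat.pow_dvd_pow_iff_le_right hp.one_lt).1 hdvd
      omega
    · rw [show (Subgroup.centralizer ({y} : Set G)).index = p ^ a * n from h1, pow_succ] at hdvd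
      exact hpn (Nat.dvd_of_mul_dvd_mul_left (pow_pos hp.pos a) hdvd)
  obtain ⟨k, hk⟩ := h1tcs_orderOf_pelt hp hx
  obtain ⟨P, K, hKn, hKP⟩ := Cfsg.Agent.Lib.Helper8.K6.npc_of_max_ppart p a hmax x k hk hxi
  haveI := hKn
  have hKcard : Nat.card K = (P : Subgroup G).index := (hKP.index_eq_card).symm
  have hKcop : (Nat.card K).Coprime p := by
    rw [hKcard]
    exact (Nat.Coprime.symm ((Nat.Prime.coprime_iff_not_dvd hp).2 P.not_dvd_index))
  have hKidx : ∃ e : ℕ, K.index = p ^ e := by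
    have h1 : K.index = Nat.card (P : Subgroup G) := hKP.symm.index_eq_card
    obtain ⟨e, he⟩ := P.isPGroup'.exists_card_eq
    exact ⟨e, by rw [h1, he]⟩
  have hKx : K ≤ Cz x := by
    have d1 : (Cz x).relIndex K ∣ p ^ a := by
      have := h9_csg_relIndex_dvd_index (Cz x) K
      rwa [show (Cz x).index = p ^ a from hxi] at this
    have d2 : (Cz x).relIndex K ∣ Nat.card K := Subgroup.relIndex_dvd_card _ _
    have : (Cz x).relIndex K = 1 := by
      have hc : (Nat.card K).Coprime (p ^ a) := Nat.Coprime.pow_right a hKcop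
      exact Nat.eq_one_of_dvd_coprimes hc d2 d1
    exact Subgroup.relIndex_eq_one.1 this
  refine ⟨K, hKn, hKcop, hKidx, hKx, ?_⟩
  intro k' hk'
  have hxn : idx x ≠ 1 := by
    rw [hxi]
    exact (Nat.one_lt_pow ha hp.one_lt).ne'
  have hcomm : x * k' = k' * x := (mem_Cz.1 (hKx hk')).symm
  have hordk : (orderOf k').Coprime p := by
    have : orderOf k' ∣ Nat.card K := by
      have := orderOf_dvd_natCard (⟨k', hk'⟩ : K)
      rwa [Subgroup.orderOf_mk] at this
    exact Nat.Coprime.coprime_dvd_left this hKcop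
  have hco : (orderOf x).Coprime (orderOf k') := by
    rw [hk]
    exact (Nat.Coprime.pow_right k hordk).symm
  have hcases := (relIndex_cases h hcomm hco hxn).1
  have hn1 := h.hn
  have hncop : n.Coprime p := (Nat.Coprime.symm ((Nat.Prime.coprime_iff_not_dvd hp).2 hpn))
  have h2 : ((Cz k').relIndex (Cz x)).Coprime p := by
    rcases hcases with h3 | h3 <;> rw [h3]
    · exact Nat.coprime_one_left p
    · exact hncop
  have h1 : ((Cz k').relIndex K).Coprime p :=
    Nat.Coprime.coprime_dvd_left (Subgroup.relIndex_dvd_card _ _) hKcop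
  rw [h1tcs_relIndex_eq_of_normal hp K (Cz x) (Cz k') hKx hKidx h1 h2]
  exact hcases

end Cfsg.Agent.Lib.Helper1.TCS
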