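import Mathlib
import Cfsg.Agent.Lib.Helper1.TCSB1
import Cfsg.Agent.Lib.Helper9.TCSG6
import Cfsg.Agent.Lib.Helper9.TCSG5

/-!
# S4284 piece B3 (helper1): `partB_out`.
-/

set_option autoImplicit false
set_option maxHeartbeats 4000000
set_option linter.unusedVariables false
set_option linter.unusedSectionVars false
set_option linter.style.longLine false
set_option linter.style.haveILetI false

namespace Cfsg.Agent.Lib.Helper1.TCS

open Cfsg.Agent.Lib.Helper8.CSG Cfsg.Agent.Lib.Helper1.PSG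

variable {G : Type*} [Group G] [Finite G] {p a n : ℕ}

/-- a `p`-element is conjugate into any given Sylow `p`-subgroup -/
theorem h1tcs_exists_conj_mem_sylow [Fact p.Prime] (P : Sylow p G) {x : G} (hx : PElt p x) :
    ∃ c : G, c * x * c⁻¹ ∈ (P : Subgroup G) := by
  obtain ⟨Q, hQ⟩ := (h9_psg_isPGroup_zpowers hx).exists_le_sylow
  obtain ⟨c, hc⟩ := MulAction.exists_smul_eq G Q P
  refine ⟨c, ?_⟩
  have hxQ : x ∈ (Q : Subgroup G) := hQ (Subgroup.mem_zpowers x)
  have h1 : c * x * c⁻¹ ∈ ((c • Q : Sylow p G) : Subgroup G) := by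
    rw [Sylow.coe_subgroup_smul]
    have := Subgroup.smul_mem_pointwise_smul x (MulAut.conj c) (Q : Subgroup G) hxQ
    simpa [MulAut.smul_def] using this
  rwa [hc] at h1

/-- an element of `P` of which `K` lies in the centralizer is in `centralizer K` -/
theorem h1tcs_mem_centralizer_of_le (K : Subgroup G) {t : G} (h : K ≤ Cz t) :
    t ∈ Subgroup.centralizer (K : Set G) := by
  rw [Subgroup.mem_centralizer_iff]
  intro k hk
  exact (mem_Cz.1 (h hk))

theorem h1tcs_le_of_mem_centralizer (K : Subgroup G) {t : G} (h : t ∈ Subgroup.centralizer (K : Set G)) :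
    K ≤ Cz t := by
  intro k hk
  rw [mem_Cz]
  exact (Subgroup.mem_centralizer_iff.1 h) k hk

theorem partB_out [Fact p.Prime] (h : H3 G (p ^ a) n) (K : Subgroup G) [K.Normal] (hK : (Nat.card K).Coprime p)
    (hKi : ∃ e : ℕ, K.index = p ^ e) (P : Sylow p G) :
    (∀ t ∈ (P : Subgroup G), t ∉ Subgroup.centralizer (K : Set G) →
        idx t = p ^ a * n ∧ (Cz t).relIndex K = n ∧ (Cz t).relIndex (P : Subgroup G) = p ^ a) ∧
    ∃ t ∈ (P : Subgroup G), t ∉ Subgroup.centralizer (K : Set G) := by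
  have hp : p.Prime := Fact.out
  obtain ⟨ha, hpn⟩ := h1tcs_pow_facts hp h
  have hn1 := h.hn
  have hncop : n.Coprime p := (Nat.Coprime.symm ((Nat.Prime.coprime_iff_not_dvd hp).2 hpn))
  -- the two factors
  have hfac : ∀ t ∈ (P : Subgroup G), ((Cz t).relIndex K).Coprime p ∧
      ∃ f : ℕ, (Cz t).relIndex (P : Subgroup G) = p ^ f := by
    intro t ht
    refine ⟨Nat.Coprime.coprime_dvd_left (Subgroup.relIndex_dvd_card _ _) hK, ?_⟩
    obtain ⟨c, hc⟩ := P.isPGroup'.exists_card_eq
    have : (Cz t).relIndex (P : Subgroup G) ∣ p ^ c := by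
      rw [← hc]; exact Subgroup.relIndex_dvd_card _ _
    obtain ⟨f, _, hf⟩ := (Nat.dvd_prime_pow hp).1 this
    exact ⟨f, hf⟩
  have hpart1 : ∀ t ∈ (P : Subgroup G), t ∉ Subgroup.centralizer (K : Set G) →
        idx t = p ^ a * n ∧ (Cz t).relIndex K = n ∧ (Cz t).relIndex (P : Subgroup G) = p ^ a := by
    intro t ht htK
    have hidx := idx_semidirect K hK hKi P ht
    obtain ⟨hr1, f, hf⟩ := hfac t ht
    have hr1ne : (Cz t).relIndex K ≠ 1 := by
      intro h1
      exact htK (h1tcs_mem_centralizer_of_le K (Subgroup.relIndex_eq_one.1 h1))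
    rw [hf] at hidx
    rcases h.mem t with h1 | h1 | h1
    · exfalso
      rw [h1] at hidx
      exact hr1ne (Nat.eq_one_of_mul_eq_one_right hidx.symm)
    · exfalso
      rw [h1] at hidx
      have hd : (Cz t).relIndex K ∣ p ^ a := ⟨p ^ f, hidx⟩
      have hc : ((Cz t).relIndex K).Coprime (p ^ a) := Nat.Coprime.pow_right a hr1
      exact hr1ne (Nat.eq_one_of_dvd_coprimes hc (dvd_refl _) hd)
    · rw [h1] at hidx
      have e1 : p ^ f * (Cz t).relIndex K = n * p ^ a := by
        rw [mul_comm, ← hidx, mul_comm]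
      have e2 : (Cz t).relIndex K = n := h1tcs_coprime_part_eq hp hr1 hncop e1
      refine ⟨h1, e2, ?_⟩
      rw [hf]
      rw [e2] at hidx
      have hn0 : 0 < n := by omega
      have : n * p ^ f = n * p ^ a := by rw [← hidx, mul_comm]
      exact Nat.eq_of_mul_eq_mul_left hn0 this
  refine ⟨hpart1, ?_⟩
  by_contra hcon
  have hall : ∀ t ∈ (P : Subgroup G), t ∈ Subgroup.centralizer (K : Set G) := by
    intro t ht
    by_contra hne
    exact hcon ⟨t, ht, hne⟩
  obtain ⟨hmemK, _, _, _⟩ := npc_basic K hK hKi P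
  -- `K` is central
  have hKcen : K ≤ Subgroup.center G := by
    intro k hk
    apply h8_mem_center_of_idx_eq_one
    apply idx_eq_one_of_not_dvd h
    intro hm
    have hle : (P : Subgroup G) ≤ Cz k := by
      intro t ht
      rw [mem_Cz]
      exact ((Subgroup.mem_centralizer_iff.1 (hall t ht)) k hk).symm
    have h1 : (Cz k).index ∣ (P : Subgroup G).index := Subgroup.index_dvd_of_le hle
    exact P.not_dvd_index (dvd_trans (dvd_trans (dvd_pow_self p ha) hm) h1)
  obtain ⟨g, hg⟩ := h.ex2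
  obtain ⟨u, w, hguw, huw, hpu, hpw, huz, hwz, _⟩ := exists_decomp p g
  have hwK : w ∈ K := hmemK w (Nat.Coprime.symm ((Nat.Prime.coprime_iff_not_dvd hp).2 hpw))
  have hwc : w ∈ Subgroup.center G := hKcen hwK
  have hidx_u : idx u = idx g := by
    have : Cz g = Cz u := by
      rw [hguw, show u * w = w * u from huw]
      exact Cz_mul_central u hwc
    show (Cz u).index = (Cz g).index
    rw [this]
  obtain ⟨c, hc⟩ := h1tcs_exists_conj_mem_sylow P hpu
  have hidx_t : idx (c * u * c⁻¹) = p ^ a * n := by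
    rw [Cfsg.Agent.Lib.Helper1.PSG.idx_conj, hidx_u, hg]
  have hsd := idx_semidirect K hK hKi P hc
  obtain ⟨_, f, hf⟩ := hfac _ hc
  have hr1 : (Cz (c * u * c⁻¹)).relIndex K = 1 := by
    rw [Subgroup.relIndex_eq_one]
    exact h1tcs_le_of_mem_centralizer K (hall _ hc)
  rw [hr1, hf, one_mul, hidx_t] at hsd
  have hnd : n ∣ p ^ f := ⟨p ^ a, by rw [← hsd, mul_comm]⟩
  have : n = 1 := Nat.eq_one_of_dvd_coprimes (Nat.Coprime.pow_right f hncop) (dvd_refl _) hnd
  omega

end Cfsg.Agent.Lib.Helper1.TCS
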