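import Mathlib
import Cfsg.Agent.Lib.Helper1.TCSB3
import Cfsg.Agent.Lib.Helper2.TCSB6
import Cfsg.Agent.Lib.Helper2.TCSB5
import Cfsg.Agent.Lib.Helper4.SqfG
import Cfsg.Agent.Lib.Helper8.NMP1

/-!
# S4284 piece B8 (helper1, backup copy): `partB_comm`, via `Helper4.SqF.card_commutator_dvd_of_index_dvd`.
-/

set_option autoImplicit false
set_option maxHeartbeats 4000000
set_option linter.unusedVariables false
set_option linter.unusedSectionVars false
set_option linter.style.longLine false
set_option linter.style.haveILetI false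

namespace Cfsg.Agent.Lib.Helper1.TCS

open Cfsg.Agent.Lib.Helper8.CSG Cfsg.Agent.Lib.Helper1.PSG
open scoped commutatorElement

variable {G : Type*} [Group G] [Finite G] {p a n : ℕ}

theorem partB_comm [Fact p.Prime] {K : Subgroup G} {P : Sylow p G} {x : G} (hs : BSetup G p 1 n K P x) :
    Nat.card (commutator (P : Subgroup G)) = p := by
  have hp : p.Prime := Fact.out
  haveI := hs.normal
  obtain ⟨hout, _⟩ := partB_out hs.h K hs.cop hs.idxK P
  obtain ⟨hrelA, _, _⟩ := partB_counts hs
  obtain ⟨hAab, hA2, _⟩ := partB_A hs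
  rw [pow_one] at hrelA
  have hcs : ∀ t : (P : Subgroup G), (Subgroup.centralizer ({t} : Set (P : Subgroup G))).index ∣ p := by
    intro t
    rw [← Cfsg.Agent.Lib.Helper3.NM.h8_nm_relIndex_centralizer]
    by_cases htK : (t : G) ∈ Subgroup.centralizer (K : Set G)
    · by_cases htc : (t : G) ∈ Subgroup.center G
      · have : (Subgroup.centralizer ({(t : G)} : Set G)).relIndex (P : Subgroup G) = 1 := by
          rw [Subgroup.relIndex_eq_one]
          intro s _
          rw [Subgroup.mem_centralizer_singleton_iff]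
          exact (Subgroup.mem_center_iff.1 htc) s
        rw [this]; exact one_dvd p
      · have htA : (t : G) ∈ (P : Subgroup G) ⊓ Subgroup.centralizer (K : Set G) := ⟨t.2, htK⟩
        have heq : (P : Subgroup G) ⊓ Cz (t : G) = (P : Subgroup G) ⊓ Subgroup.centralizer (K : Set G) := by
          apply le_antisymm
          · intro s hs'
            exact ⟨hs'.1, hA2 _ htA htc s hs'.1 (mem_Cz.1 hs'.2)⟩
          · intro s hs'
            exact ⟨hs'.1, mem_Cz.2 (hAab s hs' _ htA)⟩
        have e3 : ((P : Subgroup G) ⊓ Cz (t : G)).relIndex (P : Subgroup G) = (Cz (t : G)).relIndex (P : Subgroup G) := by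
          rw [inf_comm]; exact Subgroup.inf_relIndex_right _ _
        show (Cz (t : G)).relIndex (P : Subgroup G) ∣ p
        rw [← e3, heq, hrelA]
    · have := (hout t t.2 htK).2.2
      rw [pow_one] at this
      show (Cz (t : G)).relIndex (P : Subgroup G) ∣ p
      rw [this]
  have h1 := Cfsg.Agent.Lib.Helper4.SqF.card_commutator_dvd_of_index_dvd P.isPGroup' hcs
  rcases (Nat.dvd_prime hp).1 h1 with h2 | h2
  · exfalso
    have hbot : commutator (P : Subgroup G) = ⊥ := Subgroup.card_eq_one.1 h2
    have hpm : p ∣ p ^ 1 := by rw [pow_one]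
    obtain ⟨a0, ha0, x0, hx0, hax⟩ := sylow_not_comm hs.h hpm P
    have hmem : ⁅(⟨a0, ha0⟩ : (P : Subgroup G)), ⟨x0, hx0⟩⁆ ∈ commutator (P : Subgroup G) := by
      rw [commutator_def]
      exact Subgroup.commutator_mem_commutator (Subgroup.mem_top _) (Subgroup.mem_top _)
    rw [hbot, Subgroup.mem_bot, commutatorElement_eq_one_iff_mul_comm] at hmem
    exact hax (congrArg Subtype.val hmem)
  · exact h2

end Cfsg.Agent.Lib.Helper1.TCS
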