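import Mathlib
import Cfsg.Agent.Lib.Helper1.TCSB3
import Cfsg.Agent.Lib.Helper2.TCSB6
import Cfsg.Agent.Lib.Helper2.TCSB5
import Cfsg.Agent.Lib.Helper1.NMStraightStep

/-!
# S4284 piece B9 (helper1, backup copy): `partB_M`.
-/

set_option autoImplicit false
set_option maxHeartbeats 4000000
set_option linter.unusedVariables false
set_option linter.unusedSectionVars false
set_option linter.style.longLine false
set_option linter.style.haveILetI false

namespace Cfsg.Agent.Lib.Helper1.TCS

open Cfsg.Agent.Lib.Helper8.CSG Cfsg.Agent.Lib.Helper1.PSG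

variable {G : Type*} [Group G] [Finite G] {p a n : ℕ}

theorem partB_M [Fact p.Prime] {K : Subgroup G} {P : Sylow p G} {x : G} (hs : BSetup G p 1 n K P x) :
    ∃ M : Subgroup G, M.Normal ∧ (∀ g : G, g ∈ M ↔ idx g = 1 ∨ idx g = p) ∧ M.index = p ∧
      ∀ g ∈ M, ∀ g' ∈ M, g * g' = g' * g := by
  have hp : p.Prime := Fact.out
  haveI := hs.normal
  have h := hs.h
  obtain ⟨hmemK, hKP, hKPtop, _⟩ := npc_basic K hs.cop hs.idxK P
  obtain ⟨hout, _⟩ := partB_out h K hs.cop hs.idxK P
  obtain ⟨hrelA, _, _⟩ := partB_counts hs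
  obtain ⟨hAab, _, _⟩ := partB_A hs
  rw [pow_one] at hrelA
  have hKM : K ≤ Subgroup.centralizer (K : Set G) := by
    intro k hk
    rw [Subgroup.mem_centralizer_iff]
    intro k' hk'
    exact hs.comm k' hk' k hk
  -- decomposition of elements of `M`
  have hdec : ∀ g ∈ Subgroup.centralizer (K : Set G), ∃ k ∈ K, ∃ s ∈ (P : Subgroup G) ⊓ Subgroup.centralizer (K : Set G),
      g = k * s := by
    intro g hg
    have hgtop : g ∈ (K ⊔ (P : Subgroup G) : Subgroup G) := by rw [hKPtop]; exact Subgroup.mem_top g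
    have : g ∈ ((K ⊔ (P : Subgroup G) : Subgroup G) : Set G) := hgtop
    rw [Subgroup.normal_mul] at this
    obtain ⟨k, hk, s, hsP, hks⟩ := Set.mem_mul.1 this
    refine ⟨k, hk, s, ⟨hsP, ?_⟩, hks.symm⟩
    have : s = k⁻¹ * g := by rw [← hks]; group
    rw [this]
    exact Subgroup.mul_mem _ (Subgroup.inv_mem _ (hKM hk)) hg
  have hMab : ∀ g ∈ Subgroup.centralizer (K : Set G), ∀ g' ∈ Subgroup.centralizer (K : Set G), g * g' = g' * g := by
    intro g hg g' hg'
    obtain ⟨k, hk, s, hsA, rfl⟩ := hdec g hg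
    obtain ⟨k', hk', s', hsA', rfl⟩ := hdec g' hg'
    have c1 : k * k' = k' * k := hs.comm k hk k' hk'
    have c2 : s * s' = s' * s := hAab s hsA s' hsA'
    have c3 : k' * s = s * k' := (Subgroup.mem_centralizer_iff.1 hsA.2) k' hk'
    have c4 : k * s' = s' * k := (Subgroup.mem_centralizer_iff.1 hsA'.2) k hk
    calc k * s * (k' * s') = k * (s * k') * s' := by group
      _ = k * (k' * s) * s' := by rw [c3]
      _ = (k * k') * (s * s') := by group
      _ = (k' * k) * (s' * s) := by rw [c1, c2]
      _ = k' * (k * s') * s := by group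
      _ = k' * (s' * k) * s := by rw [c4]
      _ = k' * s' * (k * s) := by group
  have hMidx : (Subgroup.centralizer (K : Set G)).index = p := by
    have e1 : (Subgroup.centralizer (K : Set G)).relIndex ((P : Subgroup G) ⊔ Subgroup.centralizer (K : Set G)) =
        (Subgroup.centralizer (K : Set G)).relIndex (P : Subgroup G) := Subgroup.relIndex_sup_right _ _
    have e2 : (P : Subgroup G) ⊔ Subgroup.centralizer (K : Set G) = ⊤ := by
      apply top_le_iff.1
      rw [← hKPtop]
      exact sup_le (le_trans hKM le_sup_right) le_sup_left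
    rw [e2, Subgroup.relIndex_top_right] at e1
    rw [e1]
    have e3 : ((P : Subgroup G) ⊓ Subgroup.centralizer (K : Set G)).relIndex (P : Subgroup G) =
        (Subgroup.centralizer (K : Set G)).relIndex (P : Subgroup G) := by
      rw [inf_comm]; exact Subgroup.inf_relIndex_right _ _
    rw [← e3]; exact hrelA
  refine ⟨Subgroup.centralizer (K : Set G), inferInstance, ?_, hMidx, hMab⟩
  intro g
  constructor
  · intro hg
    have hle : Subgroup.centralizer (K : Set G) ≤ Cz g := by
      intro z hz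
      rw [mem_Cz]; exact hMab z hz g hg
    have hd : idx g ∣ p := by
      rw [← hMidx]; exact Subgroup.index_dvd_of_le hle
    rcases (Nat.dvd_prime hp).1 hd with h1 | h1
    · exact Or.inl h1
    · exact Or.inr h1
  · intro hg
    by_contra hgM
    obtain ⟨v, w, hgvw, hvw, hpv, hpw, hvz, hwz, _⟩ := exists_decomp p g
    have hwK : w ∈ K := hmemK w (Nat.Coprime.symm ((Nat.Prime.coprime_iff_not_dvd hp).2 hpw))
    have hvM : v ∉ Subgroup.centralizer (K : Set G) := by
      intro hv
      apply hgM
      rw [hgvw]; exact Subgroup.mul_mem _ hv (hKM hwK)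
    obtain ⟨c, hc⟩ := h1tcs_exists_conj_mem_sylow P hpv
    have hcM : c * v * c⁻¹ ∉ Subgroup.centralizer (K : Set G) := by
      intro hcv
      apply hvM
      have hn : (Subgroup.centralizer (K : Set G)).Normal := inferInstance
      have := hn.conj_mem _ hcv c⁻¹
      have e : c⁻¹ * (c * v * c⁻¹) * c⁻¹⁻¹ = v := by group
      rwa [e] at this
    obtain ⟨hvi, _, _⟩ := hout _ hc hcM
    rw [Cfsg.Agent.Lib.Helper1.PSG.idx_conj, pow_one] at hvi
    have hd : idx v ∣ idx g := Cfsg.Agent.Lib.Helper3.NM.h1_idx_dvd_of_mem_zpowers hvz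
    rw [hvi] at hd
    have hn1 := h.hn
    rcases hg with h1 | h1
    · rw [h1] at hd
      have := Nat.dvd_one.1 hd
      have := Nat.eq_one_of_mul_eq_one_left this
      omega
    · rw [h1] at hd
      have : p * n ∣ p * 1 := by rwa [mul_one]
      have := Nat.dvd_of_mul_dvd_mul_left hp.pos this
      have := Nat.dvd_one.1 this
      omega

end Cfsg.Agent.Lib.Helper1.TCS
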