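import Mathlib
import Cfsg.Agent.Lib.Helper1.TCSB1
import Cfsg.Agent.Lib.Helper4.TCSX1a
import Cfsg.Agent.Lib.Helper1.NMStraightStep

/-!
# S4284 piece C1 (helper1): `partC_basic`.
-/

set_option autoImplicit false
set_option maxHeartbeats 4000000
set_option linter.unusedVariables false
set_option linter.unusedSectionVars false
set_option linter.style.longLine false
set_option linter.style.haveILetI false

namespace Cfsg.Agent.Lib.Helper1.TCS

open Cfsg.Agent.Lib.Helper8.CSG Cfsg.Agent.Lib.Helper1.PSG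

variable {G : Type*} [Group G] [Finite G] {p a n : ℕ}

theorem h1tcs_card_mul_relIndex {H K : Subgroup G} (hle : H ≤ K) : Nat.card H * H.relIndex K = Nat.card K := by
  have h1 : H.relIndex K * K.index = H.index := Subgroup.relIndex_mul_index hle
  have h2 : Nat.card H * H.index = Nat.card G := Subgroup.card_mul_index H
  have h3 : Nat.card K * K.index = Nat.card G := Subgroup.card_mul_index K
  have hK : 0 < K.index := Nat.pos_of_ne_zero Subgroup.index_ne_zero_of_finite
  apply Nat.eq_of_mul_eq_mul_right hK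
  rw [h3, mul_assoc, h1, h2]

/-- order of an element of a subgroup of order prime to `p` -/
theorem h1tcs_orderOf_coprime_of_mem {H : Subgroup G} (hH : (Nat.card H).Coprime p) {k : G} (hk : k ∈ H) :
    (orderOf k).Coprime p := by
  have : orderOf k ∣ Nat.card H := by
    have := orderOf_dvd_natCard (⟨k, hk⟩ : H)
    rwa [Subgroup.orderOf_mk] at this
  exact Nat.Coprime.coprime_dvd_left this hH

theorem h1tcs_coprime_orders (hp : p.Prime) {t k : G} (ht : PElt p t) (hk : (orderOf k).Coprime p) :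
    (orderOf t).Coprime (orderOf k) := by
  obtain ⟨j, hj⟩ := h1tcs_orderOf_pelt hp ht
  rw [hj]
  exact (Nat.Coprime.pow_right j hk).symm

theorem partC_basic [Fact p.Prime] (h : H3 G (p ^ a) n)
    (hβ : ∀ t : G, PElt p t → idx t ≠ 1 → idx t = p ^ a * n) :
    (∀ k t : G, (orderOf k).Coprime p → PElt p t → idx t ≠ 1 → k * t = t * k → Cz t ≤ Cz k) ∧
    (∀ k : G, (orderOf k).Coprime p → idx k = p ^ a * n → ∃ t : G, PElt p t ∧ idx t ≠ 1 ∧ Cz k = Cz t) ∧
    (∃ y : G, (orderOf y).Coprime p ∧ idx y = p ^ a) ∧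
    (∀ t : G, PElt p t → idx t ≠ 1 →
      Nat.card (Hc p t) * n * p ^ (Nat.card G).factorization p = Nat.card G) ∧
    (∀ t : G, PElt p t → idx t ≠ 1 → ∃ k ∈ Hc p t, idx k ≠ 1) := by
  have hp : p.Prime := Fact.out
  obtain ⟨ha, hpn⟩ := h1tcs_pow_facts hp h
  have hn1 := h.hn
  have hpm : p ∣ p ^ a := dvd_pow_self p ha
  have hpa1 : p ^ a ≠ 1 := (Nat.one_lt_pow ha hp.one_lt).ne'
  have hpan1 : p ^ a * n ≠ 1 := by
    intro h1
    exact hpa1 (Nat.eq_one_of_mul_eq_one_right h1)
  have h1 : ∀ k t : G, (orderOf k).Coprime p → PElt p t → idx t ≠ 1 → k * t = t * k → Cz t ≤ Cz k := by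
    intro k t hk ht htn hkt
    exact cent_le_of_max h hkt.symm (h1tcs_coprime_orders hp ht hk) (hβ t ht htn)
  have h2 : ∀ k : G, (orderOf k).Coprime p → idx k = p ^ a * n →
      ∃ t : G, PElt p t ∧ idx t ≠ 1 ∧ Cz k = Cz t := by
    intro k hk hki
    have hkn : idx k ≠ 1 := by rw [hki]; exact hpan1
    obtain ⟨x, hx, hxk, hxn⟩ := exists_noncentral_pelt h hp hpm hkn
    refine ⟨x, hx, hxn, ?_⟩
    have hle : Cz x ≤ Cz k := h1 k x hk hx hxn hxk.symm
    exact (Cz_eq_of_le hle (by rw [hβ x hx hxn, hki])).symm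
  have h3 : ∃ y : G, (orderOf y).Coprime p ∧ idx y = p ^ a := by
    obtain ⟨y0, hy0⟩ := h.ex1
    obtain ⟨u, w, hyuw, huw, hpu, hpw, huz, hwz, _⟩ := exists_decomp p y0
    have hun : idx u = 1 := by
      by_contra hne
      have h4 := hβ u hpu hne
      have h5 : idx u ∣ idx y0 := Cfsg.Agent.Lib.Helper3.NM.h1_idx_dvd_of_mem_zpowers huz
      rw [h4, hy0] at h5
      have : p ^ a * n ∣ p ^ a * 1 := by rwa [mul_one]
      have := Nat.dvd_of_mul_dvd_mul_left (pow_pos hp.pos a) this
      have := Nat.dvd_one.1 this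
      omega
    have huc : u ∈ Subgroup.center G := h8_mem_center_of_idx_eq_one hun
    refine ⟨w, Nat.Coprime.symm ((Nat.Prime.coprime_iff_not_dvd hp).2 hpw), ?_⟩
    have : Cz y0 = Cz w := by
      rw [hyuw]; exact Cz_mul_central w huc
    show (Cz w).index = p ^ a
    rw [← this]; exact hy0
  have h4 : ∀ t : G, PElt p t → idx t ≠ 1 →
      Nat.card (Hc p t) * n * p ^ (Nat.card G).factorization p = Nat.card G := by
    intro t ht htn
    obtain ⟨hcop, ⟨k, hk⟩, _, _, _, _⟩ := hc_struct h hp hpm ht htn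
    have e1 : Nat.card (Hc p t) * p ^ k = Nat.card (Cz t) := by
      rw [← hk]; exact h1tcs_card_mul_relIndex (Hc_le p t)
    have e2 : Nat.card (Cz t) * (p ^ a * n) = Nat.card G := by
      rw [← hβ t ht htn]; exact Subgroup.card_mul_index (Cz t)
    have e3 : Nat.card (Hc p t) * n * p ^ (k + a) = Nat.card G := by
      rw [← e2, ← e1, pow_add]; ring
    have hH0 : Nat.card (Hc p t) * n ≠ 0 := by
      have : Nat.card (Hc p t) ≠ 0 := Nat.card_pos.ne'
      have : n ≠ 0 := by omega
      positivity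
    have hHp : ¬ p ∣ Nat.card (Hc p t) * n := by
      intro hd
      rcases (Nat.Prime.dvd_mul hp).1 hd with hd | hd
      · exact (Nat.Prime.coprime_iff_not_dvd hp).1 hcop.symm hd
      · exact hpn hd
    have e4 : (Nat.card G).factorization p = k + a := by
      rw [← e3, Nat.factorization_mul hH0 (pow_ne_zero _ hp.ne_zero)]
      simp only [Finsupp.coe_add, Pi.add_apply]
      rw [Nat.factorization_eq_zero_of_not_dvd hHp, hp.factorization_pow]
      simp
    rw [e4]; exact e3
  refine ⟨h1, h2, h3, h4, ?_⟩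
  obtain ⟨y, hyp, hyi⟩ := h3
  have hyn : idx y ≠ 1 := by rw [hyi]; exact hpa1
  obtain ⟨t0, ht0, ht0y, ht0n⟩ := exists_noncentral_pelt h hp hpm hyn
  have hy0 : y ∈ Hc p t0 := mem_Hc ht0y.symm hyp
  intro t ht htn
  by_contra hcon
  have hall : ∀ k ∈ Hc p t, idx k = 1 := by
    intro k hk
    by_contra hne
    exact hcon ⟨k, hk, hne⟩
  obtain ⟨hcop, _, _, _, _, _⟩ := hc_struct h hp hpm ht htn
  have hle : Hc p t ≤ Hc p t0 := by
    intro k hk
    have hkc : k ∈ Subgroup.center G := h8_mem_center_of_idx_eq_one (hall k hk)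
    exact mem_Hc ((Subgroup.mem_center_iff.1 hkc) t0).symm (h1tcs_orderOf_coprime_of_mem hcop hk)
  have hcard : Nat.card (Hc p t0) ≤ Nat.card (Hc p t) := by
    have e1 := h4 t ht htn
    have e2 := h4 t0 ht0 ht0n
    have hpos : 0 < n * p ^ (Nat.card G).factorization p := by
      have : 0 < n := by omega
      have := pow_pos hp.pos ((Nat.card G).factorization p)
      positivity
    have : Nat.card (Hc p t0) * (n * p ^ (Nat.card G).factorization p) =
        Nat.card (Hc p t) * (n * p ^ (Nat.card G).factorization p) := by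
      rw [← mul_assoc, ← mul_assoc, e1, e2]
    exact (Nat.eq_of_mul_eq_mul_right hpos this).le
  have heq : Hc p t = Hc p t0 := Subgroup.eq_of_le_of_card_ge hle hcard
  have : idx y = 1 := hall y (by rw [heq]; exact hy0)
  exact hyn this

end Cfsg.Agent.Lib.Helper1.TCS
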