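import Mathlib
import Cfsg.Agent.Lib.Helper1.TCSC1
import Cfsg.Agent.Lib.Helper1.TCSB3
import Cfsg.Agent.Lib.Helper1.BHM4

/-!
# S4284 piece C5 (helper1): `partC_cover`.
-/

set_option autoImplicit false
set_option maxHeartbeats 4000000
set_option linter.unusedVariables false
set_option linter.unusedSectionVars false
set_option linter.style.longLine false
set_option linter.style.haveILetI false

namespace Cfsg.Agent.Lib.Helper1.TCS

open Cfsg.Agent.Lib.Helper8.CSG Cfsg.Agent.Lib.Helper1.PSG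

variable {G : Type*} [Group G] [Finite G] {p a n : ℕ}

/-- Sylow conjugation inside a subgroup `C`: if `S ≤ C` has order the `p`-part of `|C|`, every `p`-element of `C` is
`C`-conjugate into `S`. -/
theorem h1tcs_conj_into_sylow_of [Fact p.Prime] (C S : Subgroup G) (hSC : S ≤ C)
    (hcard : Nat.card S = p ^ (Nat.card C).factorization p) {t : G} (htC : t ∈ C) (ht : PElt p t) :
    ∃ c ∈ C, c * t * c⁻¹ ∈ S := by
  have hcard' : Nat.card (S.subgroupOf C) = p ^ (Nat.card C).factorization p := by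
    rw [← hcard]
    exact Nat.card_congr (Subgroup.subgroupOfEquivOfLe hSC).toEquiv
  let Q : Sylow p C := Sylow.ofCard (S.subgroupOf C) hcard'
  have ht' : PElt p (⟨t, htC⟩ : C) := by
    obtain ⟨k, hk⟩ := ht
    exact ⟨k, Subtype.ext (by simpa using hk)⟩
  obtain ⟨c, hc⟩ := h1tcs_exists_conj_mem_sylow Q ht'
  refine ⟨c.1, c.2, ?_⟩
  have h1 : c * ⟨t, htC⟩ * c⁻¹ ∈ S.subgroupOf C := hc
  rw [Subgroup.mem_subgroupOf] at h1
  simpa using h1

/-- the situation of `CSetup`: `P ⊓ C(y)` has the order of a Sylow `p`-subgroup of `C(y)` -/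
theorem h1tcs_card_S [Fact p.Prime] {O : Subgroup G} {P : Sylow p G} {y u : G} (hs : CSetup G p n O P y u) :
    Nat.card ((P : Subgroup G) ⊓ Cz y : Subgroup G) = p ^ (Nat.card (Cz y)).factorization p := by
  have hp : p.Prime := Fact.out
  have e1 : Nat.card ((P : Subgroup G) ⊓ Cz y : Subgroup G) * p = Nat.card (P : Subgroup G) := by
    have := h1tcs_card_mul_relIndex (inf_le_left : (P : Subgroup G) ⊓ Cz y ≤ (P : Subgroup G))
    rw [Subgroup.inf_relIndex_left] at this
    have hrel := hs.rel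
    rw [hrel] at this; exact this
  have e2 : Nat.card (Cz y) * p = Nat.card G := by
    have := Subgroup.card_mul_index (Cz y)
    rw [show (Cz y).index = p from hs.hyi] at this
    exact this
  have e3 : Nat.card (P : Subgroup G) = p ^ (Nat.card G).factorization p := P.card_eq_multiplicity
  have hC0 : Nat.card (Cz y) ≠ 0 := Nat.card_pos.ne'
  have e4 : (Nat.card G).factorization p = (Nat.card (Cz y)).factorization p + 1 := by
    rw [← e2, Nat.factorization_mul hC0 hp.ne_zero]
    simp [hp.factorization_self]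
  rw [e3, e4, pow_succ] at e1
  exact Nat.eq_of_mul_eq_mul_right hp.pos e1

theorem partC_cover [Fact p.Prime] {O : Subgroup G} {P : Sylow p G} {y u : G} (hs : CSetup G p n O P y u) :
    Cz y ≤ Subgroup.centralizer (Hc p u : Set G) ⊔ (O ⊓ Cz y) := by
  have hp : p.Prime := Fact.out
  have h := hs.h
  have hβ := hs.hβ
  have hpm : p ∣ p := dvd_refl p
  have h1 : H3 G (p ^ 1) n := by rw [pow_one]; exact h
  have hβ1 : ∀ t : G, PElt p t → idx t ≠ 1 → idx t = p ^ 1 * n := by rw [pow_one]; exact hβ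
  obtain ⟨hb1, hb2, _, hb4, _⟩ := partC_basic h1 hβ1
  rw [pow_one] at hb2
  have hup : PElt p u := pelt_of_mem_sylow P hs.uP
  obtain ⟨hucop, _, hu3, _, _, _⟩ := hc_struct h hp hpm hup hs.un
  have hcardS := h1tcs_card_S hs
  -- KEY
  have key : ∀ t : G, PElt p t → idx t ≠ 1 → t ∈ Cz y → ∀ g ∈ Cz t,
      ∃ c ∈ Cz y, c * g * c⁻¹ ∈ Subgroup.centralizer (Hc p u : Set G) := by
    intro t ht htn hty g hg
    obtain ⟨c, hcy, hcS⟩ := h1tcs_conj_into_sylow_of (Cz y) ((P : Subgroup G) ⊓ Cz y) inf_le_right hcardS hty ht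
    refine ⟨c, hcy, ?_⟩
    have ht'' : PElt p (c * t * c⁻¹) := pelt_conj ht c
    have ht''n : idx (c * t * c⁻¹) ≠ 1 := by rw [Cfsg.Agent.Lib.Helper1.PSG.idx_conj]; exact htn
    have ht''u : c * t * c⁻¹ ∈ Cz u := hs.Sle hcS
    have hle : Hc p u ≤ Hc p (c * t * c⁻¹) := by
      intro b hb
      exact mem_Hc (hu3 b hb _ ht''u ht'') (h1tcs_orderOf_coprime_of_mem hucop hb)
    have hcard : Nat.card (Hc p (c * t * c⁻¹)) ≤ Nat.card (Hc p u) := by
      have e1 := hb4 u hup hs.un
      have e2 := hb4 _ ht'' ht''n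
      have hpos : 0 < n * p ^ (Nat.card G).factorization p := by
        have : 0 < n := by have := h.hn; omega
        have := pow_pos hp.pos ((Nat.card G).factorization p)
        positivity
      have : Nat.card (Hc p (c * t * c⁻¹)) * (n * p ^ (Nat.card G).factorization p) =
          Nat.card (Hc p u) * (n * p ^ (Nat.card G).factorization p) := by
        rw [← mul_assoc, ← mul_assoc, e1, e2]
      exact (Nat.eq_of_mul_eq_mul_right hpos this).le
    have heq : Hc p u = Hc p (c * t * c⁻¹) := Subgroup.eq_of_le_of_card_ge hle hcard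
    obtain ⟨_, _, _, _, ht5, _⟩ := hc_struct h hp hpm ht'' ht''n
    have hcg : c * g * c⁻¹ ∈ Cz (c * t * c⁻¹) := Cz_conj c t hg
    rw [Subgroup.mem_centralizer_iff]
    intro b hb
    have hb' : b ∈ Hc p (c * t * c⁻¹) := by rw [← heq]; exact hb
    exact (ht5 (hβ _ ht'' ht''n) _ hcg b hb').symm
  apply Cfsg.Agent.Lib.Helper1.BHM.le_of_conj_cover
  intro g hg
  obtain ⟨v, w, hgvw, hvw, hpv, hpw, hvz, hwz, _⟩ := exists_decomp p g
  have hzle : Subgroup.zpowers g ≤ Cz y := by
    rw [Subgroup.zpowers_le]; exact hg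
  have hvy : v ∈ Cz y := hzle hvz
  have hwy : w ∈ Cz y := hzle hwz
  have hwcop : (orderOf w).Coprime p := Nat.Coprime.symm ((Nat.Prime.coprime_iff_not_dvd hp).2 hpw)
  have hcomm_pow : ∀ z ∈ Subgroup.zpowers g, g ∈ Cz z := by
    intro z hz
    obtain ⟨i, hi⟩ := hz
    rw [mem_Cz, ← hi]
    exact ((Commute.refl g).zpow_right i).eq
  by_cases hvn : idx v = 1
  · have hvc : v ∈ Subgroup.center G := h8_mem_center_of_idx_eq_one hvn
    have hvcen : v ∈ Subgroup.centralizer (Hc p u : Set G) := by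
      rw [Subgroup.mem_centralizer_iff]
      intro b _
      exact (Subgroup.mem_center_iff.1 hvc) b
    rcases h.mem w with hw1 | hw1 | hw1
    · -- `g` central
      refine ⟨1, Subgroup.one_mem _, ?_⟩
      have hwc : w ∈ Subgroup.center G := h8_mem_center_of_idx_eq_one hw1
      have hgc : g ∈ Subgroup.center G := by rw [hgvw]; exact Subgroup.mul_mem _ hvc hwc
      apply Subgroup.mem_sup_left
      rw [Subgroup.mem_centralizer_iff]
      intro b _
      simp only [one_mul, inv_one, mul_one]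
      exact (Subgroup.mem_center_iff.1 hgc) b
    · refine ⟨1, Subgroup.one_mem _, ?_⟩
      have hwO : w ∈ O ⊓ Cz y := ⟨hs.memO w hwcop (Or.inr hw1), hwy⟩
      simp only [one_mul, inv_one, mul_one]
      rw [hgvw]
      exact Subgroup.mul_mem_sup hvcen hwO
    · obtain ⟨t, ht, htn, hwt⟩ := hb2 w hwcop hw1
      have hyw : y ∈ Cz w := by
        rw [mem_Cz]; exact (mem_Cz.1 hwy).symm
      have hty : t ∈ Cz y := by
        rw [hwt] at hyw
        rw [mem_Cz]; exact (mem_Cz.1 hyw).symm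
      have hgt : g ∈ Cz t := by rw [← hwt]; exact hcomm_pow w hwz
      obtain ⟨c, hc, hcg⟩ := key t ht htn hty g hgt
      exact ⟨c, hc, Subgroup.mem_sup_left hcg⟩
  · obtain ⟨c, hc, hcg⟩ := key v hpv hvn hvy g (hcomm_pow v hvz)
    exact ⟨c, hc, Subgroup.mem_sup_left hcg⟩

end Cfsg.Agent.Lib.Helper1.TCS
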