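import Mathlib
import Cfsg.Agent.Lib.Helper1.TCSC5
import Cfsg.Agent.Lib.Helper4.TCSX1c

/-!
# S4284 piece C6 (helper1): `partC_npc`.
-/

set_option autoImplicit false
set_option maxHeartbeats 4000000
set_option linter.unusedVariables false
set_option linter.unusedSectionVars false
set_option linter.style.longLine false
set_option linter.style.haveILetI false

namespace Cfsg.Agent.Lib.Helper1.TCS

open Cfsg.Agent.Lib.Helper8.CSG Cfsg.Agent.Lib.Helper1.PSG

variable {G : Type*} [Group G] [Finite G] {p a n : ℕ}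

theorem h1tcs_card_sup_normal (H N : Subgroup G) [N.Normal] :
    Nat.card (H ⊔ N : Subgroup G) = Nat.card N * N.relIndex H := by
  have := h1tcs_card_mul_relIndex (le_sup_right : N ≤ H ⊔ N)
  rw [Subgroup.relIndex_sup_right] at this
  exact this.symm

theorem h1tcs_dvd_mul_pow_fact (hp : p.Prime) {N K j : ℕ} (hN : N ≠ 0) (h : N ∣ K * p ^ j) :
    N ∣ K * p ^ N.factorization p := by
  have h1 : ordCompl[p] N ∣ K := by
    have h2 : ordCompl[p] N ∣ K * p ^ j := dvd_trans (Nat.ordCompl_dvd N p) h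
    have h3 : (ordCompl[p] N).Coprime (p ^ j) :=
      Nat.Coprime.pow_right j (Nat.coprime_ordCompl hp hN).symm
    exact Nat.Coprime.dvd_of_dvd_mul_right h3 h2
  have h4 := Nat.ordProj_mul_ordCompl_eq_self N p
  calc N = p ^ N.factorization p * ordCompl[p] N := h4.symm
    _ ∣ p ^ N.factorization p * K := Nat.mul_dvd_mul_left _ h1
    _ = K * p ^ N.factorization p := mul_comm _ _

/-- a `p'`-subgroup `K` normalized by a Sylow `p`-subgroup `P` with `|G| ∣ |K| p^j` is a normal `p`-complement -/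
theorem h1tcs_npc_of_card [Fact p.Prime] (K : Subgroup G) (P : Sylow p G) (hK : (Nat.card K).Coprime p)
    (hPK : ∀ s ∈ (P : Subgroup G), ∀ g ∈ K, s * g * s⁻¹ ∈ K) {j : ℕ} (hcard : Nat.card G ∣ Nat.card K * p ^ j) :
    K.Normal ∧ ∃ e : ℕ, K.index = p ^ e := by
  have hp : p.Prime := Fact.out
  have hG0 : Nat.card G ≠ 0 := Nat.card_pos.ne'
  have h1 := h1tcs_dvd_mul_pow_fact hp hG0 hcard
  have hP : Nat.card (P : Subgroup G) = p ^ (Nat.card G).factorization p := P.card_eq_multiplicity
  rw [← hP] at h1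
  have hcop : (Nat.card K).Coprime (Nat.card (P : Subgroup G)) := by
    rw [hP]; exact Nat.Coprime.pow_right _ hK
  -- normalizer
  have hKN : K ≤ Subgroup.normalizer (K : Set G) := Subgroup.le_normalizer
  have hPN : (P : Subgroup G) ≤ Subgroup.normalizer (K : Set G) := by
    intro s hs
    rw [Subgroup.mem_normalizer_iff]
    intro g
    constructor
    · intro hg; exact hPK s hs g hg
    · intro hg
      have := hPK s⁻¹ (Subgroup.inv_mem _ hs) _ hg
      have e : s⁻¹ * (s * g * s⁻¹) * s⁻¹⁻¹ = g := by group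
      rwa [e] at this
  have d1 : Nat.card K ∣ Nat.card (Subgroup.normalizer (K : Set G)) := Subgroup.card_dvd_of_le hKN
  have d2 : Nat.card (P : Subgroup G) ∣ Nat.card (Subgroup.normalizer (K : Set G)) := Subgroup.card_dvd_of_le hPN
  have d3 : Nat.card K * Nat.card (P : Subgroup G) ∣ Nat.card (Subgroup.normalizer (K : Set G)) :=
    Nat.Coprime.mul_dvd_of_dvd_of_dvd hcop d1 d2
  have d4 : Nat.card G ∣ Nat.card (Subgroup.normalizer (K : Set G)) := dvd_trans h1 d3
  have htop : Subgroup.normalizer (K : Set G) = ⊤ := by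
    apply (Subgroup.card_eq_iff_eq_top _).1
    exact Nat.dvd_antisymm (Subgroup.card_subgroup_dvd_card _) d4
  have hKn : K.Normal := Subgroup.normalizer_eq_top_iff.1 htop
  refine ⟨hKn, (Nat.card G).factorization p, ?_⟩
  have e1 : Nat.card K * K.index = Nat.card G := Subgroup.card_mul_index K
  have d5 : Nat.card K * Nat.card (P : Subgroup G) ∣ Nat.card G :=
    Nat.Coprime.mul_dvd_of_dvd_of_dvd hcop (Subgroup.card_subgroup_dvd_card _) (Subgroup.card_subgroup_dvd_card _)
  have e2 : Nat.card K * Nat.card (P : Subgroup G) = Nat.card G := Nat.dvd_antisymm d5 h1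
  have hK0 : 0 < Nat.card K := Nat.card_pos
  rw [← hP]
  apply Nat.eq_of_mul_eq_mul_left hK0
  rw [e1, e2]

theorem partC_npc [Fact p.Prime] {O : Subgroup G} {P : Sylow p G} {y u : G} (hs : CSetup G p n O P y u) :
    ∃ K : Subgroup G, K.Normal ∧ (Nat.card K).Coprime p ∧ ∃ e : ℕ, K.index = p ^ e := by
  have hp : p.Prime := Fact.out
  have h := hs.h
  have hβ := hs.hβ
  haveI := hs.normal
  have hpm : p ∣ p := dvd_refl p
  have h1 : H3 G (p ^ 1) n := by rw [pow_one]; exact h
  have hβ1 : ∀ t : G, PElt p t → idx t ≠ 1 → idx t = p ^ 1 * n := by rw [pow_one]; exact hβ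
  obtain ⟨hb1, hb2, _, hb4, _⟩ := partC_basic h1 hβ1
  rw [pow_one] at hb2
  have hup : PElt p u := pelt_of_mem_sylow P hs.uP
  obtain ⟨hucop, ⟨k0, hk0⟩, hu3, _, hu5, _⟩ := hc_struct h hp hpm hup hs.un
  obtain ⟨_, hPHc, _, _, _⟩ := sylow_second h hpm P hs.uP hs.un hs.ucomm
  have hui : idx u = p * n := hβ u hup hs.un
  have hcardS := h1tcs_card_S hs
  -- `K`
  have hKcop : (Nat.card (Hc p u ⊔ O : Subgroup G)).Coprime p := by
    rw [h1tcs_card_sup_normal]
    exact Nat.Coprime.mul_left hs.cop (Nat.Coprime.coprime_dvd_left (Subgroup.relIndex_dvd_card _ _) hucop)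
  have hPK : ∀ s ∈ (P : Subgroup G), ∀ g ∈ (Hc p u ⊔ O : Subgroup G), s * g * s⁻¹ ∈ (Hc p u ⊔ O : Subgroup G) := by
    intro s hsP g hg
    have hle : Hc p u ⊔ O ≤ (Hc p u ⊔ O : Subgroup G).comap (MulAut.conj s).toMonoidHom := by
      apply sup_le
      · intro b hb
        rw [Subgroup.mem_comap]
        exact Subgroup.mem_sup_left (hPHc s hsP b hb)
      · intro b hb
        rw [Subgroup.mem_comap]
        exact Subgroup.mem_sup_right (hs.normal.conj_mem b hb s)
    exact hle hg
  have hyHc : y ∈ Hc p u := mem_Hc hs.uy.symm hs.hy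
  have hCuy : Cz u ≤ Cz y := by
    intro g hg
    rw [mem_Cz]
    exact hu5 hui g hg y hyHc
  have e2 : Nat.card (Cz y) * p = Nat.card G := by
    have := Subgroup.card_mul_index (Cz y)
    rw [show (Cz y).index = p from hs.hyi] at this
    exact this
  -- key conjugation
  have key : ∀ t : G, PElt p t → idx t ≠ 1 → t ∈ Cz y →
      ∃ c ∈ Cz y, Hc p (c * t * c⁻¹) = Hc p u := by
    intro t ht htn hty
    obtain ⟨c, hcy, hcS⟩ := h1tcs_conj_into_sylow_of (Cz y) ((P : Subgroup G) ⊓ Cz y) inf_le_right hcardS hty ht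
    refine ⟨c, hcy, ?_⟩
    have ht'' : PElt p (c * t * c⁻¹) := pelt_conj ht c
    have ht''n : idx (c * t * c⁻¹) ≠ 1 := by rw [Cfsg.Agent.Lib.Helper1.PSG.idx_conj]; exact htn
    have ht''u : c * t * c⁻¹ ∈ Cz u := hs.Sle hcS
    have hle : Hc p u ≤ Hc p (c * t * c⁻¹) := by
      intro b hb
      exact mem_Hc (hu3 b hb _ ht''u ht'') (h1tcs_orderOf_coprime_of_mem hucop hb)
    have hcard : Nat.card (Hc p (c * t * c⁻¹)) ≤ Nat.card (Hc p u) := by
      have e1 := hb4 u hup hs.un
      have e2 := hb4 _ ht'' ht''n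
      have hpos : 0 < n * p ^ (Nat.card G).factorization p := by
        have : 0 < n := by have := h.hn; omega
        have := pow_pos hp.pos ((Nat.card G).factorization p)
        positivity
      have : Nat.card (Hc p (c * t * c⁻¹)) * (n * p ^ (Nat.card G).factorization p) =
          Nat.card (Hc p u) * (n * p ^ (Nat.card G).factorization p) := by
        rw [← mul_assoc, ← mul_assoc, e1, e2]
      exact (Nat.eq_of_mul_eq_mul_right hpos this).le
    exact (Subgroup.eq_of_le_of_card_ge hle hcard).symm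
  -- the count
  have hcount : ∃ j : ℕ, Nat.card G ∣ Nat.card (Hc p u ⊔ O : Subgroup G) * p ^ j := by
    by_cases hI : ∃ k ∈ Hc p u, idx k = p * n
    · -- Case I
      obtain ⟨k, hkH, hki⟩ := hI
      have hkcop : (orderOf k).Coprime p := h1tcs_orderOf_coprime_of_mem hucop hkH
      have hku : k * u = u * k := mem_Cz.1 (Hc_le p u hkH)
      have hCk : Cz u = Cz k := Cz_eq_of_le (hb1 k u hkcop hup hs.un hku) (by rw [hui, hki])
      have hcen : Subgroup.centralizer (Hc p u : Set G) ≤ Cz u := by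
        intro g hg
        rw [hCk, mem_Cz]
        exact ((Subgroup.mem_centralizer_iff.1 hg) k hkH).symm
      have hcov : Cz y ≤ Cz u ⊔ O :=
        le_trans (partC_cover hs) (sup_le_sup hcen inf_le_left)
      have hD : O ⊓ Cz u = O ⊓ Hc p u := by
        apply le_antisymm
        · intro g hg
          refine ⟨hg.1, mem_Hc (mem_Cz.1 hg.2) (h1tcs_orderOf_coprime_of_mem hs.cop hg.1)⟩
        · exact inf_le_inf_left O (Hc_le p u)
      have e3 : O.relIndex (Cz u) = O.relIndex (Hc p u) * p ^ k0 := by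
        have r1 : (O ⊓ Hc p u).relIndex (Hc p u) * (Hc p u).relIndex (Cz u) = (O ⊓ Hc p u).relIndex (Cz u) :=
          Subgroup.relIndex_mul_relIndex _ _ _ inf_le_right (Hc_le p u)
        rw [Subgroup.inf_relIndex_right, ← hD, Subgroup.inf_relIndex_right, hk0] at r1
        exact r1.symm
      have e4 : Nat.card (Cz u ⊔ O : Subgroup G) = Nat.card (Hc p u ⊔ O : Subgroup G) * p ^ k0 := by
        rw [h1tcs_card_sup_normal, h1tcs_card_sup_normal, e3, mul_assoc]
      refine ⟨k0 + 1, ?_⟩
      have d1 : Nat.card (Cz y) ∣ Nat.card (Cz u ⊔ O : Subgroup G) := Subgroup.card_dvd_of_le hcov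
      rw [← e2, pow_succ, ← mul_assoc, ← e4]
      exact Nat.mul_dvd_mul_right d1 p
    · -- Case II
      have hall : ∀ k ∈ Hc p u, idx k = 1 ∨ idx k = p := by
        intro k hk
        rcases h.mem k with h3 | h3 | h3
        · exact Or.inl h3
        · exact Or.inr h3
        · exact absurd ⟨k, hk, h3⟩ hI
      have hHO : Hc p u ≤ O := by
        intro k hk
        exact hs.memO k (h1tcs_orderOf_coprime_of_mem hucop hk) (hall k hk)
      -- every `p'`-element of `C(y)` is in `O`
      have hmem : ∀ k ∈ Cz y, (orderOf k).Coprime p → k ∈ O := by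
        intro k hky hkcop
        rcases h.mem k with h3 | h3 | h3
        · exact hs.memO k hkcop (Or.inl h3)
        · exact hs.memO k hkcop (Or.inr h3)
        · obtain ⟨t, ht, htn, hkt⟩ := hb2 k hkcop h3
          have hyk : y ∈ Cz k := by rw [mem_Cz]; exact (mem_Cz.1 hky).symm
          have hty : t ∈ Cz y := by
            rw [hkt] at hyk
            rw [mem_Cz]; exact (mem_Cz.1 hyk).symm
          obtain ⟨c, hcy, hceq⟩ := key t ht htn hty
          have hkt' : k * t = t * k := by
            have : k ∈ Cz t := by rw [← hkt, mem_Cz]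
            exact mem_Cz.1 this
          have hck : c * k * c⁻¹ ∈ Hc p (c * t * c⁻¹) := Hc_conj p c t (mem_Hc hkt' hkcop)
          rw [hceq] at hck
          have hcO : c * k * c⁻¹ ∈ O := hHO hck
          have := hs.normal.conj_mem _ hcO c⁻¹
          have e : c⁻¹ * (c * k * c⁻¹) * c⁻¹⁻¹ = k := by group
          rwa [e] at this
      -- the quotient `C(y) / (O ∩ C(y))` is a `p`-group
      haveI : (O.subgroupOf (Cz y)).Normal := Subgroup.normal_subgroupOf
      have hq : IsPGroup p (↥(Cz y) ⧸ O.subgroupOf (Cz y)) := by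
        intro q
        induction q using QuotientGroup.induction_on with
        | H g =>
          obtain ⟨v, w, hgvw, hvw, ⟨kk, hkk⟩, hpw, hvz, hwz, _⟩ := exists_decomp p (g : G)
          refine ⟨kk, ?_⟩
          rw [← QuotientGroup.mk_pow, QuotientGroup.eq_one_iff, Subgroup.mem_subgroupOf]
          have hzle : Subgroup.zpowers (g : G) ≤ Cz y := by
            rw [Subgroup.zpowers_le]; exact g.2
          have hwO : w ∈ O := hmem w (hzle hwz) (Nat.Coprime.symm ((Nat.Prime.coprime_iff_not_dvd hp).2 hpw))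
          have : ((g ^ p ^ kk : Cz y) : G) = w ^ p ^ kk := by
            rw [Subgroup.coe_pow, hgvw, hvw.mul_pow, hkk, one_mul]
          rw [this]
          exact Subgroup.pow_mem _ hwO _
      obtain ⟨j, hj⟩ := hq.exists_card_eq
      have hrel : O.relIndex (Cz y) = p ^ j := hj
      have e5 : Nat.card (O ⊓ Cz y : Subgroup G) * p ^ j = Nat.card (Cz y) := by
        have := h1tcs_card_mul_relIndex (inf_le_right : O ⊓ Cz y ≤ Cz y)
        rw [Subgroup.inf_relIndex_right, hrel] at this
        exact this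
      have hKO : (Hc p u ⊔ O : Subgroup G) = O := sup_eq_right.2 hHO
      refine ⟨j + 1, ?_⟩
      rw [hKO, ← e2, ← e5, pow_succ, ← mul_assoc]
      apply Nat.mul_dvd_mul_right
      apply Nat.mul_dvd_mul_right
      exact Subgroup.card_dvd_of_le inf_le_left
  obtain ⟨j, hj⟩ := hcount
  obtain ⟨hKn, hKi⟩ := h1tcs_npc_of_card (Hc p u ⊔ O) P hKcop hPK hj
  exact ⟨Hc p u ⊔ O, hKn, hKcop, hKi⟩

end Cfsg.Agent.Lib.Helper1.TCS
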