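import Mathlib
import Cfsg.Agent.Lib.Helper1.TCSB1
import Cfsg.Agent.Lib.Helper1.TCSB3
import Cfsg.Agent.Lib.Helper8.TCSB2
import Cfsg.Agent.Lib.Helper9.TCSG8
import Cfsg.Agent.Lib.Helper2.TCSB5
import Cfsg.Agent.Lib.Helper2.TCSB7
import Cfsg.Agent.Lib.Helper1.TCSB8
import Cfsg.Agent.Lib.Helper1.TCSB9

/-!
# S4284 (helper1): assembly of Part B.
-/

set_option autoImplicit false
set_option maxHeartbeats 4000000
set_option linter.unusedVariables false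
set_option linter.unusedSectionVars false
set_option linter.style.longLine false
set_option linter.style.haveILetI false

namespace Cfsg.Agent.Lib.Helper1.TCS

open Cfsg.Agent.Lib.Helper8.CSG Cfsg.Agent.Lib.Helper1.PSG

variable {G : Type*} [Group G] [Finite G] {p a n : ℕ}

theorem partB [Fact p.Prime] (hndf : NDF G) (h : H3 G (p ^ a) n) (hα : ∃ x : G, PElt p x ∧ idx x = p ^ a) :
    a = 1 ∧ p ∣ n - 1 ∧
    (∃ M : Subgroup G, M.Normal ∧ (∀ g : G, g ∈ M ↔ idx g = 1 ∨ idx g = p) ∧ M.index = p ∧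
      ∀ g ∈ M, ∀ g' ∈ M, g * g' = g' * g) ∧
    (∃ N : Subgroup G, N.Normal ∧ (Nat.card N).Coprime p ∧ ∃ e : ℕ, N.index = p ^ e) ∧
    ∀ P : Sylow p G, Nat.card (commutator (P : Subgroup G)) = p := by
  obtain ⟨x, hx, hxi⟩ := hα
  obtain ⟨K, hKn, hKcop, hKi, hKx, hcs⟩ := partB_npc h hx hxi
  haveI := hKn
  have hsetup : ∀ P : Sylow p G, ∃ x' : G, BSetup G p a n K P x' := by
    intro P
    obtain ⟨c, hc⟩ := h1tcs_exists_conj_mem_sylow P hx
    obtain ⟨hout, t, htP, htK⟩ := partB_out h K hKcop hKi P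
    obtain ⟨hti, htrK, _⟩ := hout t htP htK
    have hKc := K_abelian h K hKcop hcs (pelt_of_mem_sylow P htP) hti htrK
    have htriv := ndf_center_inf hndf K hKcop hKi hKc
    refine ⟨c * x * c⁻¹, ⟨h, hKn, hKcop, hKi, hKc, htriv, hc, ?_, ?_⟩⟩
    · rw [Cfsg.Agent.Lib.Helper1.PSG.idx_conj]; exact hxi
    · intro k hk
      have h1 : c⁻¹ * k * c⁻¹⁻¹ ∈ K := hKn.conj_mem k hk c⁻¹
      have h2 := Cz_conj c x (hKx h1)
      have h3 : c * (c⁻¹ * k * c⁻¹⁻¹) * c⁻¹ = k := by group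
      rwa [h3] at h2
  obtain ⟨P0⟩ : Nonempty (Sylow p G) := inferInstance
  obtain ⟨x0, hs0⟩ := hsetup P0
  have ha := partB_a_one hs0
  subst ha
  obtain ⟨_, _, hdiv⟩ := partB_counts hs0
  rw [pow_one] at hdiv
  refine ⟨rfl, hdiv, partB_M hs0, ⟨K, hKn, hKcop, hKi⟩, ?_⟩
  intro P
  obtain ⟨x', hs⟩ := hsetup P
  exact partB_comm hs

end Cfsg.Agent.Lib.Helper1.TCS
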