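import Mathlib
import Cfsg.Agent.Lib.Helper1.TCSC1
import Cfsg.Agent.Lib.Helper6.TCSC2
import Cfsg.Agent.Lib.Helper6.TCSC3
import Cfsg.Agent.Lib.Helper6.TCSC4
import Cfsg.Agent.Lib.Helper1.TCSC6
import Cfsg.Agent.Lib.Helper9.TCSC7
import Cfsg.Agent.Lib.Helper9.TCSC8

/-!
# S4284 (helper1): assembly of Part C.
-/

set_option autoImplicit false
set_option maxHeartbeats 4000000
set_option linter.unusedVariables false
set_option linter.unusedSectionVars false
set_option linter.style.longLine false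
set_option linter.style.haveILetI false

namespace Cfsg.Agent.Lib.Helper1.TCS

open Cfsg.Agent.Lib.Helper8.CSG Cfsg.Agent.Lib.Helper1.PSG

variable {G : Type*} [Group G] [Finite G] {p a n : ℕ}

theorem partC [Fact p.Prime] (h : H3 G (p ^ a) n)
    (hβ : ∀ t : G, PElt p t → idx t ≠ 1 → idx t = p ^ a * n) : False := by
  have ha := partC_a_one h hβ
  subst ha
  obtain ⟨_, _, ⟨y, hy, hyi⟩, _, _⟩ := partC_basic h hβ
  have e : p ^ 1 = p := pow_one p
  rw [e] at hyi h hβ
  obtain ⟨O, hOn, hOcop, hOmem⟩ := partC_core h hβ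
  obtain ⟨P, u, huP, hun, huy, hucomm, hrel, hSle⟩ := partC_setup h hβ hy hyi
  have hs : CSetup G p n O P y u :=
    ⟨h, hβ, hOn, hOcop, hOmem, hy, hyi, huP, hun, huy, hucomm, hrel, hSle⟩
  obtain ⟨K, hKn, hKcop, hKi⟩ := partC_npc hs
  haveI := hKn
  exact partC_false h hβ K hKcop hKi (partC_K_abelian h hβ K hKcop hKi)

end Cfsg.Agent.Lib.Helper1.TCS
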