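import Mathlib
import Cfsg.Agent.Lib.Helper3.TCSA5
import Cfsg.Agent.Lib.Helper1.TCSPartB
import Cfsg.Agent.Lib.Helper1.TCSPartC

/-!
# S4284 (helper1): main theorem from Parts A, B, C.
-/

set_option autoImplicit false
set_option maxHeartbeats 4000000
set_option linter.unusedVariables false
set_option linter.unusedSectionVars false
set_option linter.style.longLine false

namespace Cfsg.Agent.Lib.Helper1.TCS

open Cfsg.Agent.Lib.Helper8.CSG Cfsg.Agent.Lib.Helper1.PSG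

variable {G : Type*} [Group G] [Finite G] {n : ℕ}

theorem main {m : ℕ} (hndf : NDF G) (h : H3 G m n) :
    m.Prime ∧ m ∣ n - 1 ∧
    (∃ M : Subgroup G, M.Normal ∧ (∀ g : G, g ∈ M ↔ idx g = 1 ∨ idx g = m) ∧ M.index = m ∧
      ∀ g ∈ M, ∀ g' ∈ M, g * g' = g' * g) ∧
    (∃ N : Subgroup G, N.Normal ∧ (Nat.card N).Coprime m ∧ ∃ e : ℕ, N.index = m ^ e) ∧
    ∀ P : Sylow m G, Nat.card (commutator (P : Subgroup G)) = m := by
  have hm1 : m ≠ 1 := by have := h.hm; omega
  have hm0 : m ≠ 0 := by have := h.hm; omega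
  obtain ⟨p, hp, hpm⟩ := Nat.exists_prime_and_dvd hm1
  haveI : Fact p.Prime := ⟨hp⟩
  obtain ⟨a, hma⟩ : ∃ a : ℕ, m = p ^ a := by
    refine ⟨_, Nat.eq_prime_pow_of_unique_prime_dvd hm0 ?_⟩
    intro d hd hdm
    by_contra hne
    exact partA h hp hd (fun e => hne e.symm) hpm hdm
  have h' : H3 G (p ^ a) n := hma ▸ h
  by_cases hα : ∃ x : G, PElt p x ∧ idx x = p ^ a
  · obtain ⟨ha, hdiv, hM, hN, hP⟩ := partB hndf h' hα
    have hmp : m = p := by rw [hma, ha, pow_one]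
    subst hmp
    exact ⟨hp, hdiv, hM, hN, hP⟩
  · exfalso
    apply partC h'
    intro t ht htn
    rcases h'.mem t with h1 | h1 | h1
    · exact absurd h1 htn
    · exact absurd ⟨t, ht, h1⟩ hα
    · exact h1

end Cfsg.Agent.Lib.Helper1.TCS
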