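import Mathlib
import Cfsg.Agent.Lib.Helper3.TDMDefs
import Cfsg.Agent.Lib.Helper3.TDMQL
import Cfsg.Agent.Lib.Helper4.TDMORTH

/-! Farm TDM (S2342), unit H2: invariance of the multiplicities `aM` under `X_α`, `X_{α+β}` and the
torus, and of `fZ` under the Weyl element `nA`. -/

set_option autoImplicit false
set_option linter.unusedSectionVars false
set_option linter.unusedVariables false
set_option linter.unusedDecidableInType false
set_option linter.unusedFintypeInType false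

namespace Cfsg.Agent.Lib.Helper1.TDM

open Cfsg.Agent.Lib.Helper3.TDM

section main

variable {K : Type*} [Field K] [Fintype K] [DecidableEq K] {Fr : Frob3 K} [Fintype ↥(Fx Fr.φ)]
  {G : Type*} [Group G] (D : Data Fr G) (hD : Rel D) (hG : Fr.Good)
  (ψ : AddChar ↥(Fx Fr.φ) ℂ) (hψ : ψ ≠ 1)

theorem sum3_comm {A B C : Type*} [Fintype A] [Fintype B] [Fintype C] (g : A → B → C → ℂ) :
    ∑ r : A, ∑ v : B, ∑ w : C, g r v w = ∑ v : B, ∑ w : C, ∑ r : A, g r v w := by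
  rw [Finset.sum_comm]
  apply Finset.sum_congr rfl
  intro v _
  rw [Finset.sum_comm]

include hD in
theorem aM_move (χ : G → ℂ) (hχ : ∀ x y, χ (x * y * x⁻¹) = χ y)
    (l : ↥(Fx Fr.φ)) (hl : l ≠ 0) (n : K) (l' : ↥(Fx Fr.φ)) :
    aM D ψ χ l n l' = aM D ψ χ l 0 0 := by
  unfold aM
  congr 1
  rw [sum3_comm]
  conv_rhs => rw [sum3_comm]
  apply Finset.sum_congr rfl
  intro v _
  apply Finset.sum_congr rfl
  intro w _
  -- the shift
  set S : ↥(Fx Fr.φ) := l' * l⁻¹ with hS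
  set U : K := Fr.φ n * ((l⁻¹ : ↥(Fx Fr.φ)) : K) with hU
  set c0 : ↥(Fx Fr.φ) := S * w + Fr.tr3 (U * Fr.φ v) with hc0
  have htr : Fr.tr3 (U * Fr.φ v) = l⁻¹ * Fr.tr3 (n * v) := by
    have h1 : U * Fr.φ v = ((l⁻¹ : ↥(Fx Fr.φ)) : K) * Fr.φ (n * v) := by
      rw [hU, map_mul]; ring
    rw [h1, Cfsg.Agent.Lib.Helper4.TDM.tr3_smul, Cfsg.Agent.Lib.Helper4.TDM.tr3_frob]
  have hlc0 : l * c0 = l' * w + Fr.tr3 (n * v) := by
    rw [hc0, htr, hS]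
    field_simp
  have hinv : ∀ r, χ (Phi D (r + c0) 0 0 v w) = χ (Phi D r 0 0 v w) := by
    intro r
    have h1 := hχ (D.xa S) (Phi D r 0 0 v w)
    rw [xa_conj D hD] at h1
    have h2 := hχ (D.xab U) (Phi D (r + S * w) 0 0 v w)
    rw [xab_conj D hD] at h2
    rw [hc0, ← add_assoc, h2, h1]
  rw [← Equiv.sum_comp (Equiv.addRight c0)
    (fun r => ψ (-(l * r)) * ψ (-Fr.tr3 (0 * v)) * ψ (-(0 * w)) * χ (Phi D r 0 0 v w))]
  apply Finset.sum_congr rfl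
  intro r _
  show _ = ψ (-(l * (r + c0))) * ψ (-Fr.tr3 (0 * v)) * ψ (-(0 * w)) * χ (Phi D (r + c0) 0 0 v w)
  rw [hinv, zero_mul, zero_mul, Frob3.tr3_zero', neg_zero, AddChar.map_zero_eq_one, mul_one,
    mul_one, mul_add, hlc0]
  have : -(l * r + (l' * w + Fr.tr3 (n * v))) = -(l * r) + -Fr.tr3 (n * v) + -(l' * w) := by
    ring
  rw [this, AddChar.map_add_eq_mul, AddChar.map_add_eq_mul]

include hD in
theorem aM_torus (χ : G → ℂ) (hχ : ∀ x y, χ (x * y * x⁻¹) = χ y)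
    (l : ↥(Fx Fr.φ)) (hl : l ≠ 0) : aM D ψ χ l 0 0 = aM D ψ χ 1 0 0 := by
  unfold aM
  congr 1
  have hli : l⁻¹ ≠ 0 := inv_ne_zero hl
  have hinv : ∀ r v w, χ (Phi D (l * r) 0 0 v (l⁻¹ * w)) = χ (Phi D r 0 0 v w) := by
    intro r v w
    have h1 := hχ (D.hs (Units.mk0 l hl)) (Phi D r 0 0 v w)
    rw [hs_conj D hD] at h1
    rw [← h1]
    congr 2
  symm
  rw [← Equiv.sum_comp (Equiv.mulLeft₀ l hl)
    (fun r => ∑ v : K, ∑ w : ↥(Fx Fr.φ),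
      ψ (-(1 * r)) * ψ (-Fr.tr3 (0 * v)) * ψ (-(0 * w)) * χ (Phi D r 0 0 v w))]
  apply Finset.sum_congr rfl
  intro r _
  apply Finset.sum_congr rfl
  intro v _
  rw [← Equiv.sum_comp (Equiv.mulLeft₀ l⁻¹ hli)
    (fun w => ψ (-(1 * (Equiv.mulLeft₀ l hl) r)) * ψ (-Fr.tr3 (0 * v)) * ψ (-(0 * w)) *
      χ (Phi D ((Equiv.mulLeft₀ l hl) r) 0 0 v w))]
  apply Finset.sum_congr rfl
  intro w _
  show ψ (-(1 * (l * r))) * ψ (-Fr.tr3 (0 * v)) * ψ (-(0 * (l⁻¹ * w))) *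
    χ (Phi D (l * r) 0 0 v (l⁻¹ * w)) = _
  rw [hinv, one_mul, zero_mul, zero_mul, zero_mul]

include hD in
theorem fZ_conj (χ : G → ℂ) (hχ : ∀ x y, χ (x * y * x⁻¹) = χ y) :
    (Fintype.card ↥(Fx Fr.φ) : ℂ)⁻¹ * ∑ w : ↥(Fx Fr.φ), χ (D.xa3b w) = fZ D χ := by
  unfold fZ
  congr 1
  rw [← Equiv.sum_comp (Equiv.neg ↥(Fx Fr.φ)) (fun w => χ (D.xa3b w))]
  apply Finset.sum_congr rfl
  intro r _
  show χ (D.xa3b (-r)) = χ (D.z r)
  rw [← hD.nA_z, hχ]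

end main

end Cfsg.Agent.Lib.Helper1.TDM
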