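import Mathlib

/-! Farm TDM (S2342), unit MULT: the multiplicity of a linear character of a group of the shape
`{P r x}` (a central extension of `M` by `R`, on which the character is trivial on the cocycle) in a
complex representation is a natural number. -/

set_option autoImplicit false
set_option linter.unusedSectionVars false
set_option linter.unusedVariables false

namespace Cfsg.Agent.Lib.Helper1.TDM

open Module

theorem mult_nat {G : Type*} [Group G] {V : Type*} [AddCommGroup V] [Module ℂ V]
    [FiniteDimensional ℂ V] (ρ : Representation ℂ G V)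
    {R M : Type*} [AddCommGroup R] [Fintype R] [AddCommGroup M] [Fintype M]
    (P : R → M → G) (δ : M → M → R)
    (hP : ∀ r x r' x', P r x * P r' x' = P (r + r' + δ x x') (x + x'))
    (lam : R → ℂ) (mu : M → ℂ) (hlam : ∀ r r', lam (r + r') = lam r * lam r')
    (hmu : ∀ x x', mu (x + x') = mu x * mu x') (hlam0 : lam 0 = 1) (hmu0 : mu 0 = 1)
    (hδ : ∀ x x', lam (δ x x') = 1) :
    ∃ n : ℕ, ((Fintype.card R : ℂ) * Fintype.card M)⁻¹ *
      ∑ r : R, ∑ x : M, lam (-r) * mu (-x) * ρ.character (P r x) = n := by
  classical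
  -- notation on the product
  set m : R × M → ℂ := fun a => lam (-a.1) * mu (-a.2) with hm
  set f : R × M → G := fun a => P a.1 a.2 with hf
  set w : R × M → ℂ := fun y => lam y.1 * mu y.2 with hw
  have hlamneg : ∀ r, lam (-r) * lam r = 1 := by
    intro r; rw [← hlam, neg_add_cancel, hlam0]
  have hmuneg : ∀ x, mu (-x) * mu x = 1 := by
    intro x; rw [← hmu, neg_add_cancel, hmu0]
  have hmw : ∀ y, m y * w y = 1 := by
    intro y
    show lam (-y.1) * mu (-y.2) * (lam y.1 * mu y.2) = 1
    calc lam (-y.1) * mu (-y.2) * (lam y.1 * mu y.2)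
        = (lam (-y.1) * lam y.1) * (mu (-y.2) * mu y.2) := by ring
      _ = 1 := by rw [hlamneg, hmuneg, one_mul]
  -- the twisted translations
  let σ : R × M → (R × M ≃ R × M) := fun y =>
    { toFun := fun a => (y.1 + a.1 + δ y.2 a.2, y.2 + a.2)
      invFun := fun b => (b.1 - y.1 - δ y.2 (b.2 - y.2), b.2 - y.2)
      left_inv := by
        intro a
        apply Prod.ext
        · simp only [add_sub_cancel_left]
          abel
        · simp only [add_sub_cancel_left]
      right_inv := by
        intro b
        apply Prod.ext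
        · simp only
          abel
        · simp only [add_sub_cancel] }
  have hfσ : ∀ y a, f y * f a = f (σ y a) := by
    intro y a
    show P y.1 y.2 * P a.1 a.2 = P (y.1 + a.1 + δ y.2 a.2) (y.2 + a.2)
    exact hP _ _ _ _
  have hmσ : ∀ y a, m a = w y * m (σ y a) := by
    intro y a
    show lam (-a.1) * mu (-a.2) =
      lam y.1 * mu y.2 * (lam (-(y.1 + a.1 + δ y.2 a.2)) * mu (-(y.2 + a.2)))
    have h1 : lam (-(y.1 + a.1 + δ y.2 a.2)) = lam (-y.1) * lam (-a.1) * lam (-(δ y.2 a.2)) := by
      rw [← hlam, ← hlam]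
      congr 1
      abel
    have h2 : lam (-(δ y.2 a.2)) = 1 := by
      have := hlamneg (δ y.2 a.2)
      rw [hδ, mul_one] at this
      exact this
    have h3 : mu (-(y.2 + a.2)) = mu (-y.2) * mu (-a.2) := by
      rw [← hmu]
      congr 1
      abel
    rw [h1, h2, h3, mul_one]
    calc lam (-a.1) * mu (-a.2)
        = ((lam (-y.1) * lam y.1) * (mu (-y.2) * mu y.2)) * (lam (-a.1) * mu (-a.2)) := by
          rw [hlamneg, hmuneg, one_mul, one_mul]
      _ = _ := by ring
  -- the sum and the projector
  set S : Module.End ℂ V := ∑ a : R × M, m a • ρ (f a) with hS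
  have hmulS : ∀ y, ρ (f y) * S = w y • S := by
    intro y
    rw [hS, Finset.mul_sum, Finset.smul_sum, ← Equiv.sum_comp (σ y) (fun a => w y • m a • ρ (f a))]
    apply Finset.sum_congr rfl
    intro a _
    rw [mul_smul_comm, ← map_mul, hfσ, smul_smul, ← hmσ]
  set c : ℂ := (Fintype.card (R × M) : ℂ) with hc
  have hc0 : c ≠ 0 := Nat.cast_ne_zero.2 Fintype.card_ne_zero
  set E : Module.End ℂ V := c⁻¹ • S with hE
  have hidem : IsIdempotentElem E := by
    unfold IsIdempotentElem
    have h1 : S * E = c • E := by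
      rw [hE, mul_smul_comm, hS, Finset.sum_mul, smul_smul, mul_inv_cancel₀ hc0, one_smul]
      have : ∀ y : R × M, m y • ρ (f y) * ∑ a : R × M, m a • ρ (f a) =
          ∑ a : R × M, m a • ρ (f a) := by
        intro y
        rw [smul_mul_assoc]
        have := hmulS y
        rw [hS] at this
        rw [this, smul_smul, hmw, one_smul]
      rw [Finset.sum_congr rfl (fun y _ => this y), Finset.sum_const, Finset.card_univ,
        ← Nat.cast_smul_eq_nsmul ℂ, ← hc, smul_smul, inv_mul_cancel₀ hc0, one_smul]
    calc E * E = c⁻¹ • (S * E) := by rw [hE, smul_mul_assoc]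
      _ = E := by rw [h1, smul_smul, inv_mul_cancel₀ hc0, one_smul]
  refine ⟨finrank ℂ (LinearMap.range E), ?_⟩
  have htr : ((finrank ℂ (LinearMap.range E) : ℕ) : ℂ) = LinearMap.trace ℂ V E :=
    ((LinearMap.IsIdempotentElem.isProj_range _ hidem).trace).symm
  rw [htr, hE, hS, map_smul, map_sum, smul_eq_mul, hc, Fintype.card_prod, Nat.cast_mul,
    Fintype.sum_prod_type]
  congr 1
  apply Finset.sum_congr rfl
  intro r _
  apply Finset.sum_congr rfl
  intro x _
  rw [map_smul, smul_eq_mul]
  rfl

end Cfsg.Agent.Lib.Helper1.TDM
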