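import Mathlib
import Cfsg.Agent.Lib.Helper3.TDMDefs
import Cfsg.Agent.Lib.Helper3.TDMQL
import Cfsg.Agent.Lib.Helper4.TDMH1
import Cfsg.Agent.Lib.Helper1.TDMMULT
import Cfsg.Agent.Lib.Helper1.TDMH2

/-! Farm TDM (S2342), unit H3: the Landazuri–Seitz part. -/

set_option autoImplicit false
set_option linter.unusedSectionVars false
set_option linter.unusedVariables false
set_option linter.unusedDecidableInType false
set_option linter.unusedFintypeInType false

namespace Cfsg.Agent.Lib.Helper1.TDM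

open Cfsg.Agent.Lib.Helper3.TDM

section main

variable {K : Type*} [Field K] [Fintype K] [DecidableEq K] {Fr : Frob3 K} [Fintype ↥(Fx Fr.φ)]
  {G : Type*} [Group G] (D : Data Fr G) (hD : Rel D) (hG : Fr.Good)
  (ψ : AddChar ↥(Fx Fr.φ) ℂ) (hψ : ψ ≠ 1)

include hD in
theorem aM_one_nat {V : Type*} [AddCommGroup V] [Module ℂ V] [FiniteDimensional ℂ V]
    (ρ : Representation ℂ G V) : ∃ a : ℕ, aM D ψ ρ.character 1 0 0 = a := by
  obtain ⟨a, ha⟩ := mult_nat ρ (R := ↥(Fx Fr.φ)) (M := K × ↥(Fx Fr.φ))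
    (fun r x => Phi D r 0 0 x.1 x.2) (fun _ _ => 0)
    (by
      intro r x r' x'
      rw [Phi_abel D hD, add_zero]
      rfl)
    (fun r => ψ r) (fun _ => 1) (fun r r' => AddChar.map_add_eq_mul ψ r r')
    (fun _ _ => (one_mul 1).symm) (AddChar.map_zero_eq_one ψ) rfl
    (fun _ _ => AddChar.map_zero_eq_one ψ)
  refine ⟨a, ?_⟩
  rw [← ha]
  unfold aM
  rw [Fintype.card_prod, Nat.cast_mul, mul_assoc]
  congr 1
  apply Finset.sum_congr rfl
  intro r _
  rw [Fintype.sum_prod_type]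
  apply Finset.sum_congr rfl
  intro v _
  apply Finset.sum_congr rfl
  intro w _
  rw [one_mul, zero_mul, zero_mul, Frob3.tr3_zero', neg_zero, AddChar.map_zero_eq_one, mul_one,
    mul_one]

theorem sum_split {A : Type*} [Fintype A] [DecidableEq A] [Zero A] (f : A → ℂ) (c : ℂ)
    (h : ∀ l, l ≠ 0 → f l = c) :
    ∑ l : A, f l = f 0 + ((Fintype.card A : ℂ) - 1) * c := by
  rw [← Finset.add_sum_erase Finset.univ f (Finset.mem_univ 0)]
  congr 1
  rw [Finset.sum_congr rfl (fun l hl => h l (Finset.ne_of_mem_erase hl)), Finset.sum_const,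
    Finset.card_erase_of_mem (Finset.mem_univ 0), Finset.card_univ, nsmul_eq_mul,
    Nat.cast_pred Fintype.card_pos]

include hD hG hψ in
theorem heis {V : Type*} [AddCommGroup V] [Module ℂ V] [FiniteDimensional ℂ V]
    (ρ : Representation ℂ G V) :
    ∃ a : ℕ, (Module.finrank ℂ V : ℂ) = fZ D ρ.character +
        ((Fintype.card ↥(Fx Fr.φ) : ℂ) - 1) * (Fintype.card ↥(Fx Fr.φ) : ℂ) ^ 4 * a ∧
      fZ D ρ.character - a00 D ρ.character =
        ((Fintype.card ↥(Fx Fr.φ) : ℂ) - 1) * (Fintype.card ↥(Fx Fr.φ) : ℂ) ^ 3 * a := by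
  classical
  obtain ⟨a, ha⟩ := aM_one_nat D hD ψ ρ
  have hχ : ∀ x y, ρ.character (x * y * x⁻¹) = ρ.character y := fun x y => ρ.char_conj y x
  have hmove : ∀ l, l ≠ 0 → ∀ n l', aM D ψ ρ.character l n l' = a := by
    intro l hl n l'
    rw [aM_move D hD ψ _ hχ l hl, aM_torus D hD ψ _ hχ l hl, ha]
  have hK : (Fintype.card K : ℂ) = (Fintype.card ↥(Fx Fr.φ) : ℂ) ^ 3 := by
    rw [hG.card_K, Nat.cast_pow]
  refine ⟨a, ?_, ?_⟩
  · have h1 := Cfsg.Agent.Lib.Helper4.TDM.sum_aM_all D hD hG ψ hψ ρ.character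
    have h0 := Cfsg.Agent.Lib.Helper4.TDM.sum_aM_zero D hD hG ψ hψ ρ.character
    rw [sum_split (fun l => ∑ n : K, ∑ l' : ↥(Fx Fr.φ), aM D ψ ρ.character l n l')
      ((Fintype.card K : ℂ) * ((Fintype.card ↥(Fx Fr.φ) : ℂ) * a)) ?_, h0, ρ.char_one] at h1
    · rw [← h1, hK]
      ring
    · intro l hl
      rw [Finset.sum_congr rfl (fun n _ => Finset.sum_congr rfl (fun l' _ => hmove l hl n l'))]
      simp only [Finset.sum_const, Finset.card_univ, nsmul_eq_mul]
  · have h1 := Cfsg.Agent.Lib.Helper4.TDM.sum_aM_right D hD hG ψ hψ ρ.character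
    have h0 := Cfsg.Agent.Lib.Helper4.TDM.sum_aM_zero_zero D hD hG ψ hψ ρ.character
    rw [fZ_conj D hD _ hχ, sum_split (fun l => ∑ n : K, aM D ψ ρ.character l n 0)
      ((Fintype.card K : ℂ) * a) ?_, h0] at h1
    · rw [← h1, hK]
      ring
    · intro l hl
      rw [Finset.sum_congr rfl (fun n _ => hmove l hl n 0)]
      simp only [Finset.sum_const, Finset.card_univ, nsmul_eq_mul]

end main

end Cfsg.Agent.Lib.Helper1.TDM
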