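import Mathlib
import Cfsg.Agent.Lib.Helper1.TF3
import Cfsg.Agent.Lib.Helper1.MaxAbelianInter
import Cfsg.Agent.Lib.Helper1.PCore
import Cfsg.Agent.Lib.Helper2.Commutator
import Cfsg.Agent.Lib.Helper2.Cores

/-! `[Ω₁(Z(J(C_G(V)))), J(G)] ≤ V` in `p`-solvable groups. -/
set_option autoImplicit false
universe u v
open Cfsg
open scoped commutatorElement Pointwise

namespace Cfsg.Agent.Lib.Helper1.TF
open Cfsg.Agent.Lib.Helper1.FF

variable {G : Type u} [Group G] (V : Subgroup G) [V.Normal]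

/-- quotient form of `O_p(G/C) = 1` to subgroup form -/
theorem hOp_of_quotient [Finite G] {p : ℕ} [hp : Fact p.Prime]
    (hO : Cfsg.pCore p (G ⧸ Subgroup.centralizer (V : Set G)) = ⊥) :
    ∀ D : Subgroup G, D.Normal → Subgroup.centralizer (V : Set G) ≤ D →
      (∃ k : ℕ, (Subgroup.centralizer (V : Set G)).relIndex D = p ^ k) →
      D = Subgroup.centralizer (V : Set G) := by
  intro D hDn hCD ⟨k, hk⟩
  apply le_antisymm _ hCD
  have hn : (D.map (QuotientGroup.mk' (Subgroup.centralizer (V : Set G)))).Normal :=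
    Subgroup.Normal.map hDn _ (QuotientGroup.mk'_surjective _)
  have hpg : IsPGroup p (D.map (QuotientGroup.mk' (Subgroup.centralizer (V : Set G)))) := by
    rintro ⟨_, d, hd, rfl⟩
    refine ⟨k, ?_⟩
    apply Subtype.ext
    rw [Subgroup.coe_pow, Subgroup.coe_one]
    change (QuotientGroup.mk' _ d) ^ (p ^ k) = 1
    rw [← map_pow, QuotientGroup.mk'_apply, QuotientGroup.eq_one_iff]
    have hcard : Nat.card (↥D ⧸ (Subgroup.centralizer (V : Set G)).subgroupOf D) = p ^ k := by
      rw [← Subgroup.index_eq_card]; exact hk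
    have h1 : ((⟨d, hd⟩ : ↥D) : ↥D ⧸ (Subgroup.centralizer (V : Set G)).subgroupOf D) ^ (p ^ k) = 1 := by
      rw [← hcard]; exact pow_card_eq_one'
    rw [← QuotientGroup.mk_pow, QuotientGroup.eq_one_iff, Subgroup.mem_subgroupOf] at h1
    exact h1
  have h2 := Cfsg.Agent.Lib.Helper1.le_pCore hn hpg
  rw [hO, le_bot_iff] at h2
  intro d hd
  have h3 : (QuotientGroup.mk' (Subgroup.centralizer (V : Set G)) d) ∈
      D.map (QuotientGroup.mk' (Subgroup.centralizer (V : Set G))) := ⟨d, hd, rfl⟩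
  rw [h2, Subgroup.mem_bot, QuotientGroup.mk'_apply, QuotientGroup.eq_one_iff] at h3
  exact h3

/-- the key step: each `A ∈ 𝒜(G)` moves `Ω₁(Z(J(C)))` inside `V` -/
theorem commutator_omega_le_of_mem_max [Finite G] {p : ℕ} [hp : Fact p.Prime]
    (hsep : Cfsg.IsPSolvable p G) (hV : Cfsg.IsElementaryAbelian p V)
    (hOp : ∀ D : Subgroup G, D.Normal → Subgroup.centralizer (V : Set G) ≤ D →
      (∃ k : ℕ, (Subgroup.centralizer (V : Set G)).relIndex D = p ^ k) →
      D = Subgroup.centralizer (V : Set G))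
    {A : Subgroup G} (hA : A ∈ Cfsg.maxElementaryAbelianSubgroups p G) :
    Cfsg.omegaOne p (Cfsg.centerThompsonOf p (Subgroup.centralizer (V : Set G))) ≤
      (A ⊓ Subgroup.centralizer (V : Set G)) ⊔ V := by
  have hJchar := Cfsg.Agent.Lib.Helper1.thompsonSubgroup_characteristic p G
  have hJn : (Cfsg.thompsonSubgroup p G).Normal := inferInstance
  have s := setup_tr V hV hsep (Cfsg.thompsonSubgroup p G) hOp
  have hbo := Cfsg.Agent.Lib.Helper1.isBestOffenderOn_of_mem_max V hV A hA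
  have hAJ : A ≤ Cfsg.thompsonSubgroup p G := Cfsg.Agent.Lib.Helper1.le_thompsonSubgroup hA
  have hval := s.offVal_eq_card (Subgroup.map_mono hAJ : tr V A ≤ tr V (Cfsg.thompsonSubgroup p G))
    (isBestOffenderOn_tr V hbo)
  unfold Cfsg.Agent.Lib.Helper1.offVal at hval
  rw [card_VV_inf_centralizer_tr, card_VV] at hval
  have hcard := card_tr V A
  -- V ∩ C_G(A) = V ∩ A
  have hVC : V ≤ Subgroup.centralizer (V : Set G) := by
    intro x hx
    rw [Subgroup.mem_centralizer_iff]
    intro y hy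
    exact Cfsg.Agent.Lib.Helper1.isElementaryAbelian_comm hV hy hx
  have hAA : A ≤ Subgroup.centralizer (A : Set G) := by
    intro x hx
    rw [Subgroup.mem_centralizer_iff]
    intro y hy
    exact Cfsg.Agent.Lib.Helper1.isElementaryAbelian_comm hA.1 hy hx
  have hVA : V ⊓ Subgroup.centralizer (A : Set G) = A ⊓ Subgroup.centralizer (V : Set G) ⊓ V := by
    apply le_antisymm
    · intro x hx
      have hxV := (Subgroup.mem_inf.mp hx).1
      have hxA : x ∈ A := Cfsg.Agent.Lib.Helper1.mem_of_mem_max_of_centralizes hA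
        (Subgroup.mem_inf.mp hx).2 (hV.2 x hxV)
      exact Subgroup.mem_inf.mpr ⟨Subgroup.mem_inf.mpr ⟨hxA, hVC hxV⟩, hxV⟩
    · intro x hx
      have h1 := Subgroup.mem_inf.mp hx
      exact Subgroup.mem_inf.mpr ⟨h1.2, hAA (Subgroup.mem_inf.mp h1.1).1⟩
  -- B = (A ∩ C) V is in 𝒜(G)
  have hBel : Cfsg.IsElementaryAbelian p ((A ⊓ Subgroup.centralizer (V : Set G)) ⊔ V) := by
    apply Cfsg.Agent.Lib.Helper1.isElementaryAbelian_sup_of_le_centralizer
      (Cfsg.Agent.Lib.Helper1.isElementaryAbelian_mono hA.1 inf_le_left) hV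
    intro v hv
    rw [Subgroup.mem_centralizer_iff]
    intro x hx
    have := Subgroup.mem_centralizer_iff.mp (Subgroup.mem_inf.mp hx).2 v hv
    exact this.symm
  have hBcard : Nat.card ↥((A ⊓ Subgroup.centralizer (V : Set G)) ⊔ V : Subgroup G) = Nat.card A := by
    have h1 := Cfsg.Agent.Lib.Helper2.card_sup_mul_card_inf (A ⊓ Subgroup.centralizer (V : Set G)) V
    rw [← hVA] at h1
    have hpos : 0 < Nat.card ↥(V ⊓ Subgroup.centralizer (A : Set G)) := Nat.card_pos
    apply Nat.eq_of_mul_eq_mul_right hpos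
    rw [h1, ← hval, ← hcard]
    ring
  have hB : ((A ⊓ Subgroup.centralizer (V : Set G)) ⊔ V) ∈ Cfsg.maxElementaryAbelianSubgroups p G := by
    refine ⟨hBel, ?_⟩
    intro B' hB'
    rw [hBcard]
    exact hA.2 B' hB'
  have hBC : (A ⊓ Subgroup.centralizer (V : Set G)) ⊔ V ≤ Subgroup.centralizer (V : Set G) :=
    sup_le inf_le_right hVC
  have hBJ := Cfsg.Agent.Lib.Helper1.le_thompsonSubgroupOf hB hBC
  unfold Cfsg.omegaOne
  rw [Subgroup.closure_le]
  rintro x ⟨hx, hxp⟩
  unfold Cfsg.centerThompsonOf at hx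
  apply Cfsg.Agent.Lib.Helper1.mem_of_mem_max_of_centralizes hB _ hxp
  exact Subgroup.centralizer_le hBJ (Subgroup.mem_inf.mp hx).2

/-- S0619 -/
theorem s0619 [Finite G] {p : ℕ} [hp : Fact p.Prime]
    (hsep : Cfsg.IsPSolvable p G) (hV : Cfsg.IsElementaryAbelian p V)
    (hO : Cfsg.pCore p (G ⧸ Subgroup.centralizer (V : Set G)) = ⊥) :
    ⁅Cfsg.omegaOne p (Cfsg.centerThompsonOf p (Subgroup.centralizer (V : Set G))),
      Cfsg.thompsonSubgroup p G⁆ ≤ V := by
  have hOp := hOp_of_quotient V hO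
  rw [Subgroup.commutator_comm]
  unfold Cfsg.thompsonSubgroup
  apply Cfsg.Agent.Lib.Helper2.commutator_sSup_le
  intro A hA
  have h1 := commutator_omega_le_of_mem_max V hsep hV hOp hA
  rw [Subgroup.commutator_comm]
  refine (Subgroup.commutator_mono h1 le_rfl).trans ?_
  apply Cfsg.Agent.Lib.Helper2.commutator_sup_le
  · have : ⁅A ⊓ Subgroup.centralizer (V : Set G), A⁆ = ⊥ := by
      rw [Subgroup.commutator_eq_bot_iff_le_centralizer]
      intro x hx
      rw [Subgroup.mem_centralizer_iff]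
      intro y hy
      exact Cfsg.Agent.Lib.Helper1.isElementaryAbelian_comm hA.1 hy (Subgroup.mem_inf.mp hx).1
    rw [this]; exact bot_le
  · exact Subgroup.commutator_le_left V A

end Cfsg.Agent.Lib.Helper1.TF
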