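import Mathlib
import Cfsg.Agent.Lib.Helper1.TF6
import Cfsg.Agent.Lib.Helper1.CX3
import Cfsg.Agent.Lib.Helper1.ThompsonRelative
import Cfsg.Agent.Lib.Helper1.SubnormalSylow

/-! Generation of a `p`-solvable group by `N(J(S))`, `C(Ω₁Z(S))` and the fixed points of a
coprime operator group. -/
set_option autoImplicit false
universe u v
open Cfsg
open scoped commutatorElement Pointwise

namespace Cfsg.Agent.Lib.Helper1.TF
open Cfsg.Agent.Lib.Helper1.FF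

variable {G : Type u} [Group G]

/-- Frattini: `J(G)` is generated by the `J(G)`-conjugates of `J(S)` -/
theorem thompsonSubgroup_le_iSup_conj [Finite G] {p : ℕ} [hp : Fact p.Prime] (S : Sylow p G) :
    Cfsg.thompsonSubgroup p G ≤ ⨆ j : ↥(Cfsg.thompsonSubgroup p G),
      (Cfsg.thompsonSubgroupOf p (S : Subgroup G)).map (MulAut.conj (j : G)).toMonoidHom := by
  have hJchar := Cfsg.Agent.Lib.Helper1.thompsonSubgroup_characteristic p G
  have hJn : (Cfsg.thompsonSubgroup p G).Normal := inferInstance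
  obtain ⟨J, hJ⟩ : ∃ J : Subgroup G, J = Cfsg.thompsonSubgroup p G := ⟨_, rfl⟩
  rw [← hJ] at hJn
  obtain ⟨Q, hQ⟩ := Cfsg.Agent.Lib.Helper1.subnormal_inf_sylow p J hJn.isSubnormal S
  have hfr := Sylow.normalizer_sup_eq_top Q
  have hQmap : (Q : Subgroup J).map J.subtype = (S : Subgroup G) ⊓ J := by
    rw [hQ, Subgroup.subgroupOf_map_subtype]
  rw [hQmap] at hfr
  have hJT : Cfsg.thompsonSubgroupOf p (S : Subgroup G) ≤ (S : Subgroup G) ⊓ J :=
    le_inf (Cfsg.Agent.Lib.Helper1.thompsonSubgroupOf_le_self p _)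
      (hJ ▸ Cfsg.Agent.Lib.Helper1.thompsonSubgroupOf_sylow_le S)
  have hNN := Cfsg.Agent.Lib.Helper1.normalizer_le_normalizer_thompsonSubgroupOf hJT inf_le_left
  unfold Cfsg.thompsonSubgroup
  apply sSup_le
  intro A hA
  obtain ⟨S', hS'⟩ := (Cfsg.Agent.Lib.Helper1.isElementaryAbelian_isPGroup hA.1).exists_le_sylow
  obtain ⟨g, hg⟩ := MulAction.exists_smul_eq G S' S
  have h1 := Cfsg.Agent.Lib.Helper1.mem_maxElementaryAbelianSubgroups_map_equiv (MulAut.conj g) hA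
  have h2 : A.map (MulAut.conj g).toMonoidHom ≤ (S : Subgroup G) := by
    rw [← hg, Sylow.coe_subgroup_smul]
    rintro _ ⟨a, ha, rfl⟩
    exact Subgroup.smul_mem_pointwise_smul _ _ _ (hS' ha)
  have h3 := Cfsg.Agent.Lib.Helper1.le_thompsonSubgroupOf h1 h2
  have hginv : g⁻¹ ∈ J ⊔ Subgroup.normalizer (((S : Subgroup G) ⊓ J : Subgroup G) : Set G) := by
    rw [sup_comm, hfr]; exact Subgroup.mem_top _
  rw [Subgroup.mem_sup_of_normal_left] at hginv
  obtain ⟨j, hj, n, hn, hjn⟩ := hginv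
  have hn' := hNN hn
  intro a ha
  have ha1 : g * a * g⁻¹ ∈ Cfsg.thompsonSubgroupOf p (S : Subgroup G) := h3 ⟨a, ha, rfl⟩
  have ha2 : n * (g * a * g⁻¹) * n⁻¹ ∈ Cfsg.thompsonSubgroupOf p (S : Subgroup G) :=
    (Subgroup.mem_normalizer_iff.mp hn' _).mp ha1
  have hjJ : j ∈ Cfsg.thompsonSubgroup p G := hJ ▸ hj
  have hmem : a ∈ (Cfsg.thompsonSubgroupOf p (S : Subgroup G)).map
      (MulAut.conj ((⟨j, hjJ⟩ : ↥(Cfsg.thompsonSubgroup p G)) : G)).toMonoidHom := by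
    refine ⟨n * (g * a * g⁻¹) * n⁻¹, ha2, ?_⟩
    change j * (n * (g * a * g⁻¹) * n⁻¹) * j⁻¹ = a
    have : j * n = g⁻¹ := hjn
    calc j * (n * (g * a * g⁻¹) * n⁻¹) * j⁻¹ = (j * n) * g * a * g⁻¹ * (j * n)⁻¹ := by group
      _ = a := by rw [this]; group
  exact (le_iSup (fun j : ↥(Cfsg.thompsonSubgroup p G) =>
    (Cfsg.thompsonSubgroupOf p (S : Subgroup G)).map (MulAut.conj (j : G)).toMonoidHom)
    ⟨j, hjJ⟩) hmem

section main

variable (K X : Subgroup G)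

/-- fixed points of the operators in the image of `tau` lift to fixed points in `K` -/
theorem exists_fixed_lift [Finite G] {q : ℕ} [hq : Fact q.Prime]
    (hXK : X ≤ Subgroup.normalizer (K : Set G)) (hXq : IsPGroup q X)
    (hqK : ¬ q ∣ Nat.card K) (V : Subgroup ↥K) [hVc : V.Characteristic] {d' : Amb V}
    (hr : d' ∈ (tau V).range)
    (hc : d' ∈ Subgroup.centralizer (opS K X V hXK : Set (Amb V))) :
    ∃ c : ↥K, (c : G) ∈ Subgroup.centralizer (X : Set G) ∧ tau V c = d' := by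
  have hop : ∀ x : ↥X, xi V (zeta K X hXK x) ∈ opS K X V hXK := fun x => ⟨x, rfl⟩
  obtain ⟨N, hNdef⟩ : ∃ N : Subgroup G, N = ((tau V).ker).map K.subtype := ⟨_, rfl⟩
  have hNK : N ≤ K := by rw [hNdef]; exact Subgroup.map_subtype_le _
  have hNn : K ≤ Subgroup.normalizer (N : Set G) := by
    apply Cfsg.Agent.Lib.Helper1.le_normalizer_of_conj_mem
    intro k hk n hn
    rw [hNdef] at hn ⊢
    obtain ⟨n', hn', rfl⟩ := hn
    refine ⟨⟨k, hk⟩ * n' * ⟨k, hk⟩⁻¹, ?_, rfl⟩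
    exact (MonoidHom.normal_ker (tau V)).conj_mem n' hn' ⟨k, hk⟩
  have hNX : X ≤ Subgroup.normalizer (N : Set G) := by
    apply Cfsg.Agent.Lib.Helper1.le_normalizer_of_conj_mem
    intro x hx n hn
    rw [hNdef] at hn ⊢
    obtain ⟨n', hn', rfl⟩ := hn
    refine ⟨zeta K X hXK ⟨x, hx⟩ n', ?_, rfl⟩
    rw [SetLike.mem_coe, MonoidHom.mem_ker] at hn' ⊢
    rw [← xi_conj_tau, hn', mul_one, mul_inv_cancel]
  have hcop : (Nat.card X).Coprime (Nat.card K) := by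
    obtain ⟨n, hn⟩ := hXq.exists_card_eq
    rw [hn]
    apply Nat.Coprime.pow_left
    exact (Nat.Prime.coprime_iff_not_dvd hq.out).mpr hqK
  have hsolv : Group.IsSolvable X := by
    have := hXq.isNilpotent
    infer_instance
  obtain ⟨k, rfl⟩ := hr
  have hfix : ∀ a ∈ X, a * (k : G) * a⁻¹ * (k : G)⁻¹ ∈ N := by
    intro a ha
    rw [hNdef]
    refine ⟨zeta K X hXK ⟨a, ha⟩ k * k⁻¹, ?_, rfl⟩
    rw [SetLike.mem_coe, MonoidHom.mem_ker, map_mul, ← xi_conj_tau, map_inv]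
    have h1 := Subgroup.mem_centralizer_iff.mp hc _ (hop ⟨a, ha⟩)
    rw [h1]; group
  obtain ⟨c, hc', hkc⟩ := Cfsg.Agent.Lib.Helper1.coprime_fixed_points_quotient X K hXK hcop
    (Or.inl hsolv) N hNK hNn hNX (k : G) k.2 hfix
  have hcK : c ∈ K := (Subgroup.mem_inf.mp hc').1
  refine ⟨⟨c, hcK⟩, (Subgroup.mem_inf.mp hc').2, ?_⟩
  rw [hNdef] at hkc
  obtain ⟨n', hn', hn'e⟩ := hkc
  have : (⟨c, hcK⟩ : ↥K) = k * n' := by
    apply Subtype.ext
    rw [Subgroup.coe_mul]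
    have : ((n' : ↥K) : G) = (k : G)⁻¹ * c := hn'e
    rw [this]; group
  rw [this, map_mul, MonoidHom.mem_ker.mp hn', mul_one]

/-- S0620 -/
theorem s0620 [Finite G] {p q : ℕ} [hp : Fact p.Prime] [hq : Fact q.Prime]
    (hXK : X ≤ Subgroup.normalizer (K : Set G)) (hX : IsElementaryAbelian q X)
    (hqK : ¬ q ∣ Nat.card K) (hsep : Cfsg.IsPSolvable p ↥K) (hO : Cfsg.pPrimeCore p ↥K = ⊥)
    (S : Sylow p ↥K) :
    (Subgroup.normalizer (Cfsg.thompsonSubgroupOf p (S : Subgroup ↥K) : Set ↥K) ⊔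
      Subgroup.centralizer (Cfsg.omegaOne p ((S : Subgroup ↥K) ⊓
        Subgroup.centralizer ((S : Subgroup ↥K) : Set ↥K)) : Set ↥K) ⊔
      (Subgroup.centralizer (X : Set G)).subgroupOf K) = ⊤ := by
  obtain ⟨M, hM⟩ : ∃ M : Subgroup ↥K, M =
    Subgroup.normalizer (Cfsg.thompsonSubgroupOf p (S : Subgroup ↥K) : Set ↥K) ⊔
      Subgroup.centralizer (Cfsg.omegaOne p ((S : Subgroup ↥K) ⊓
        Subgroup.centralizer ((S : Subgroup ↥K) : Set ↥K)) : Set ↥K) ⊔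
      (Subgroup.centralizer (X : Set G)).subgroupOf K := ⟨_, rfl⟩
  rw [← hM]
  have hNM : Subgroup.normalizer (Cfsg.thompsonSubgroupOf p (S : Subgroup ↥K) : Set ↥K) ≤ M := by
    rw [hM]; exact le_sup_left.trans le_sup_left
  have hCM : Subgroup.centralizer (Cfsg.omegaOne p ((S : Subgroup ↥K) ⊓
        Subgroup.centralizer ((S : Subgroup ↥K) : Set ↥K)) : Set ↥K) ≤ M := by
    rw [hM]; exact le_sup_right.trans le_sup_left
  have hXM : (Subgroup.centralizer (X : Set G)).subgroupOf K ≤ M := by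
    rw [hM]; exact le_sup_right
  by_cases hnf : Cfsg.IsThompsonFactorizable p ↥K
  · rw [eq_top_iff]
    intro g _
    obtain ⟨x, hx, c, hc, n, hn, rfl⟩ := hnf S g
    rw [hO, Subgroup.mem_bot] at hx
    rw [hx, one_mul]
    exact M.mul_mem (hCM hc) (hNM hn)
  have hc : Subgroup.centralizer (Cfsg.pCore p ↥K : Set ↥K) ≤ Cfsg.pCore p ↥K :=
    Cfsg.Agent.Lib.Helper1.centralizer_pCore_le_of_isPSolvable hO
      (Cfsg.Agent.Lib.Helper1.PSolvSub.isPSolvable_subgroup hsep _)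
  obtain ⟨-, hV, hOp⟩ := Cfsg.Agent.Lib.Helper1.S0601_aux (p := p) hc
  have hWchar := iSup_omegaOne_center_sylow_characteristic (G := ↥K) p
  obtain ⟨W₀, hW₀⟩ : ∃ W₀ : Subgroup ↥K, W₀ = ⨆ S : Sylow p ↥K, Cfsg.omegaOne p
    ((S : Subgroup ↥K) ⊓ Subgroup.centralizer ((S : Subgroup ↥K) : Set ↥K)) := ⟨_, rfl⟩
  rw [← hW₀] at hV hOp hWchar
  have hJC : ¬ Cfsg.thompsonSubgroup p ↥K ≤ Subgroup.centralizer (W₀ : Set ↥K) := by
    intro h
    apply hnf
    rw [Cfsg.Agent.Lib.Helper1.thompsonFactorizable_iff hO, ← hW₀]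
    exact h
  have hJchar := Cfsg.Agent.Lib.Helper1.thompsonSubgroup_characteristic p ↥K
  have s := setup_tr W₀ hV hsep (Cfsg.thompsonSubgroup p ↥K) hOp
  have hS3 := tr_generated W₀ (Cfsg.maxElementaryAbelianSubgroups p ↥K)
    (fun A hA => Cfsg.Agent.Lib.Helper1.isBestOffenderOn_of_mem_max W₀ hV A hA)
  have hH1 : tr W₀ (Cfsg.thompsonSubgroup p ↥K) ≠ ⊥ := by
    intro h0
    apply hJC
    intro j hj
    rw [← mem_ker_tau, MonoidHom.mem_ker]
    have : tau W₀ j ∈ tr W₀ (Cfsg.thompsonSubgroup p ↥K) := ⟨j, hj, rfl⟩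
    rw [h0, Subgroup.mem_bot] at this
    exact this
  have hex : ∃ B, s.IsTrH B := by
    by_contra hcon
    push Not at hcon
    apply hH1
    rw [eq_bot_iff]
    exact s.le_of_forall_isTrH hS3 (fun B hB => absurd hB (hcon B))
  obtain ⟨A, hA⟩ := hex
  -- the operator group
  have hXq : IsPGroup q X := isPGroup_of_isElementaryAbelian hX
  have hYq : IsPGroup q (opS K X W₀ hXK) :=
    hXq.of_surjective ((xi W₀).comp (zeta K X hXK)).rangeRestrict
      (MonoidHom.rangeRestrict_surjective _)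
  have hYc : ∀ a ∈ opS K X W₀ hXK, ∀ b ∈ opS K X W₀ hXK, a * b = b * a := by
    rintro _ ⟨x, rfl⟩ _ ⟨y, rfl⟩
    rw [← map_mul, ← map_mul]
    congr 1
    apply Subtype.ext
    exact Cfsg.Agent.Lib.Helper1.isElementaryAbelian_comm hX x.2 y.2
  have hYV : opS K X W₀ hXK ≤ Subgroup.normalizer (VV W₀ : Set (Amb W₀)) := by
    rintro _ ⟨x, rfl⟩
    exact xi_mem_normalizer_VV W₀ _
  have hYH : opS K X W₀ hXK ≤
      Subgroup.normalizer (tr W₀ (Cfsg.thompsonSubgroup p ↥K) : Set (Amb W₀)) := by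
    rintro _ ⟨x, rfl⟩
    exact xi_mem_normalizer_tr W₀ _ _
  have hYQ : opS K X W₀ hXK ≤ Subgroup.normalizer
      (((Cfsg.pPrimeCore p ↥(tr W₀ (Cfsg.thompsonSubgroup p ↥K))).map
        (tr W₀ (Cfsg.thompsonSubgroup p ↥K)).subtype : Subgroup (Amb W₀)) : Set (Amb W₀)) := by
    intro y hy
    have hch : (Cfsg.pPrimeCore p ↥(tr W₀ (Cfsg.thompsonSubgroup p ↥K))).Characteristic :=
      Cfsg.Agent.Lib.Helper2.pPrimeCore_characteristic p
    exact Cfsg.Agent.Lib.Helper1.normalizer_le_normalizer_map_characteristic _ _ (hYH hy)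
  -- arithmetic
  have hdvd : p * (p ^ 2 - 1) ∣ Nat.card K := by
    obtain ⟨φ⟩ := hA.sl2
    have h1 : Nat.card ↥(⁅(Cfsg.pPrimeCore p ↥(tr W₀ (Cfsg.thompsonSubgroup p ↥K))).map
        (tr W₀ (Cfsg.thompsonSubgroup p ↥K)).subtype, A⁆ ⊔ A : Subgroup (Amb W₀)) =
        p * (p ^ 2 - 1) := by
      rw [Nat.card_congr φ.toEquiv, Cfsg.Agent.Lib.Helper4.card_SL2, ZMod.card]
    rw [← h1]
    refine (Subgroup.card_dvd_of_le hA.E_le_H).trans ?_
    have h2 := card_tr W₀ (Cfsg.thompsonSubgroup p ↥K)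
    refine (Dvd.intro _ h2).trans ?_
    exact Subgroup.card_subgroup_dvd_card _
  have h1 : ¬ q ∣ p ^ 2 - 1 := fun h => hqK ((h.mul_left p).trans hdvd)
  have h2 : ¬ q ∣ p ^ 2 - p := by
    intro h
    apply hqK
    refine (h.trans ?_).trans hdvd
    have hp1 : 1 ≤ p := hp.out.one_lt.le
    have e1 : p ^ 2 - p = p * (p - 1) := by
      rw [Nat.mul_sub, mul_one, sq]
    have e2 : p ^ 2 - 1 = (p - 1) * (p + 1) := by
      zify [hp1, Nat.one_le_pow 2 p hp.out.pos]; ring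
    rw [e1, e2]
    exact ⟨p + 1, by ring⟩
  -- the image of M
  have hkerM : (tau W₀).ker ≤ M := by
    rw [ker_tau]
    refine le_trans ?_ hCM
    apply Subgroup.centralizer_le
    rw [hW₀]
    exact le_iSup (fun S : Sylow p ↥K => Cfsg.omegaOne p ((S : Subgroup ↥K) ⊓
      Subgroup.centralizer ((S : Subgroup ↥K) : Set ↥K))) S
  have hSM : (S : Subgroup ↥K) ≤ M := by
    refine le_trans ?_ hNM
    refine le_trans Subgroup.le_normalizer ?_
    exact Cfsg.Agent.Lib.Helper1.normalizer_le_normalizer_thompsonSubgroupOf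
      (Cfsg.Agent.Lib.Helper1.thompsonSubgroupOf_le_self p _) le_rfl
  have hfixM : tr W₀ (Cfsg.thompsonSubgroup p ↥K) ⊓
      Subgroup.centralizer (opS K X W₀ hXK : Set (Amb W₀)) ≤ M.map (tau W₀) := by
    intro d' hd'
    obtain ⟨c, hcX, hcd⟩ := exists_fixed_lift K X hXK hXq hqK W₀
      ((Subgroup.map_le_range _ _) (Subgroup.mem_inf.mp hd').1) (Subgroup.mem_inf.mp hd').2
    refine ⟨c, hXM ?_, hcd⟩
    rw [Subgroup.mem_subgroupOf]
    exact hcX
  -- best offenders inside tau(S) generate tau(J(S))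
  obtain ⟨A₀, hA₀, hA₀S⟩ : ∃ A₀ ∈ Cfsg.maxElementaryAbelianSubgroups p ↥K,
      A₀ ≤ (S : Subgroup ↥K) := by
    obtain ⟨A₁, hA₁⟩ := Cfsg.Agent.Lib.Helper1.exists_mem_maxElementaryAbelianSubgroups (G := ↥K) p
    obtain ⟨S', hS'⟩ := (Cfsg.Agent.Lib.Helper1.isElementaryAbelian_isPGroup hA₁.1).exists_le_sylow
    obtain ⟨g, hg⟩ := MulAction.exists_smul_eq ↥K S' S
    refine ⟨_, Cfsg.Agent.Lib.Helper1.mem_maxElementaryAbelianSubgroups_map_equiv
      (MulAut.conj g) hA₁, ?_⟩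
    rw [← hg, Sylow.coe_subgroup_smul]
    rintro _ ⟨a, ha, rfl⟩
    exact Subgroup.smul_mem_pointwise_smul _ _ _ (hS' ha)
  have hP₀ : tr W₀ (Cfsg.thompsonSubgroupOf p (S : Subgroup ↥K)) ≤
      ⨆ A : {A : Subgroup (Amb W₀) // A ≤ tr W₀ (Cfsg.thompsonSubgroup p ↥K) ∧
        A ≤ tr W₀ (S : Subgroup ↥K) ∧ IsBestOffenderOn p (VV W₀) A}, (A : Subgroup (Amb W₀)) := by
    rw [Cfsg.Agent.Lib.Helper1.thompsonSubgroupOf_eq_sSup, sSup_eq_iSup']
    change Subgroup.map (tau W₀) _ ≤ _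
    rw [Subgroup.map_iSup]
    apply iSup_le
    rintro ⟨B, hB⟩
    have hBK : B ∈ Cfsg.maxElementaryAbelianSubgroups p ↥K := by
      have h1 := Cfsg.Agent.Lib.Helper1.mem_maxElementaryAbelianSubgroups_map_subtype hA₀ hA₀S
        (Cfsg.Agent.Lib.Helper1.subgroupOf_mem_of_mem_maxElAbIn hB)
      rw [Subgroup.map_subgroupOf_eq_of_le hB.1] at h1
      exact h1
    have hbo := isBestOffenderOn_tr W₀
      (Cfsg.Agent.Lib.Helper1.isBestOffenderOn_of_mem_max W₀ hV B hBK)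
    exact le_iSup (fun A : {A : Subgroup (Amb W₀) // A ≤ tr W₀ (Cfsg.thompsonSubgroup p ↥K) ∧
        A ≤ tr W₀ (S : Subgroup ↥K) ∧ IsBestOffenderOn p (VV W₀) A} => (A : Subgroup (Amb W₀)))
      ⟨tr W₀ B, Subgroup.map_mono (Cfsg.Agent.Lib.Helper1.le_thompsonSubgroup hBK),
        Subgroup.map_mono hB.1, hbo⟩
  have hgen : tr W₀ (Cfsg.thompsonSubgroup p ↥K) ≤
      ⨆ h : ↥(tr W₀ (Cfsg.thompsonSubgroup p ↥K)),
        (tr W₀ (Cfsg.thompsonSubgroupOf p (S : Subgroup ↥K))).map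
          (MulAut.conj (h : Amb W₀)).toMonoidHom := by
    refine (Subgroup.map_mono (thompsonSubgroup_le_iSup_conj S)).trans ?_
    change Subgroup.map (tau W₀) _ ≤ _
    rw [Subgroup.map_iSup]
    apply iSup_le
    intro j
    refine le_trans ?_ (le_iSup (fun h : ↥(tr W₀ (Cfsg.thompsonSubgroup p ↥K)) =>
      (tr W₀ (Cfsg.thompsonSubgroupOf p (S : Subgroup ↥K))).map
        (MulAut.conj (h : Amb W₀)).toMonoidHom) ⟨tau W₀ j, ⟨j, j.2, rfl⟩⟩)
    rintro _ ⟨_, ⟨x, hx, rfl⟩, rfl⟩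
    refine ⟨tau W₀ x, ⟨x, hx, rfl⟩, ?_⟩
    change tau W₀ j * tau W₀ x * (tau W₀ j)⁻¹ = tau W₀ ((j : ↥K) * x * (j : ↥K)⁻¹)
    rw [map_mul, map_mul, map_inv]
  have hHM := Cfsg.Agent.Lib.Helper1.CX.Ops.H_le_of_generation s hS3 (opS K X W₀ hXK) hYq hYc
    hYV hYH hYQ h1 h2 (Subgroup.map_mono hSM : tr W₀ (S : Subgroup ↥K) ≤ M.map (tau W₀))
    hfixM hP₀ hgen
  -- back to K
  have hJM : Cfsg.thompsonSubgroup p ↥K ≤ M := by
    intro j hj
    obtain ⟨m, hm, hmj⟩ := hHM ⟨j, hj, rfl⟩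
    have h3 : m⁻¹ * j ∈ (tau W₀).ker := by
      rw [MonoidHom.mem_ker, map_mul, map_inv, hmj, inv_mul_cancel]
    have : j = m * (m⁻¹ * j) := by group
    rw [this]
    exact M.mul_mem hm (hkerM h3)
  -- Frattini
  have hJn : (Cfsg.thompsonSubgroup p ↥K).Normal := inferInstance
  obtain ⟨Q, hQ⟩ := Cfsg.Agent.Lib.Helper1.subnormal_inf_sylow p (Cfsg.thompsonSubgroup p ↥K)
    hJn.isSubnormal S
  have hfr := Sylow.normalizer_sup_eq_top Q
  have hQmap : (Q : Subgroup ↥(Cfsg.thompsonSubgroup p ↥K)).map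
      (Cfsg.thompsonSubgroup p ↥K).subtype = (S : Subgroup ↥K) ⊓ Cfsg.thompsonSubgroup p ↥K := by
    rw [hQ, Subgroup.subgroupOf_map_subtype]
  rw [hQmap] at hfr
  have hJT : Cfsg.thompsonSubgroupOf p (S : Subgroup ↥K) ≤
      (S : Subgroup ↥K) ⊓ Cfsg.thompsonSubgroup p ↥K :=
    le_inf (Cfsg.Agent.Lib.Helper1.thompsonSubgroupOf_le_self p _)
      (Cfsg.Agent.Lib.Helper1.thompsonSubgroupOf_sylow_le S)
  have hNN := Cfsg.Agent.Lib.Helper1.normalizer_le_normalizer_thompsonSubgroupOf hJT inf_le_left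
  rw [eq_top_iff, ← hfr]
  exact sup_le (hNN.trans hNM) hJM

end main

end Cfsg.Agent.Lib.Helper1.TF
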