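import Mathlib
import Cfsg.Prelude.Def_ChevStructure
import Cfsg.Agent.Lib.Helper5.ChevW0Def

set_option autoImplicit false

/-!
Two-generation of the Chevalley groups: certificates for the closure of a set of roots under a Weyl
word and the commutator formula (definitions only; everything here is computable).
-/

namespace Cfsg.Agent.Lib.Helper1.TG

open Cfsg Cfsg.Lie Cfsg.Agent.Lib.Helper5.ChevSym

/-- one step of a certificate: apply the Weyl word to a known root; use the commutator formula of
two known roots; use it for a virtual root and a known root -/
inductive Step
  | W (r : ℕ)
  | C (r s u : ℕ)
  | V (v s u : ℕ)

/-- in the list of the terms of a commutator formula the root `u` occurs exactly once, with constant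
`±1` and a usable pair of exponents, and all the other roots are known -/
def termsOK (known : List ℕ) (T : List (ℕ × ℤ × ℕ × ℕ)) (u : ℕ) (needJ : Bool) : Bool :=
  match T.filter (fun t => t.1 == u) with
  | [c] => (c.2.1 == 1 || c.2.1 == -1) && (if needJ then c.2.2.2 == 1 else (c.2.2.1 == 1 || c.2.2.2 == 1))
      && (T.filter (fun t => !(t.1 == u))).all (fun t => known.contains t.1)
  | _ => false

/-- the root produced by a step, if the step is valid -/
def stepNew (D : ChevalleyDatum) (w virt known : List ℕ) : Step → Option ℕ
  | .W r => if known.contains r then some (wAct D w r) else none
  | .C r s u =>
    if known.contains r && known.contains s && !(s == r) && !(s == D.neg r) && decide (u < D.nroots)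
        && termsOK known (D.commTerms r s) u false then some u else none
  | .V v s u =>
    if virt.contains v && known.contains s && !(s == v) && !(s == D.neg v) && decide (u < D.nroots)
        && (D.commTerms (D.neg v) s).isEmpty && termsOK known (D.commTerms v s) u true then some u
    else none

/-- run a certificate -/
def runCert (D : ChevalleyDatum) (w virt : List ℕ) : List ℕ → List Step → Option (List ℕ)
  | known, [] => some known
  | known, st :: rest =>
    match stepNew D w virt known st with
    | some u => runCert D w virt (u :: known) rest
    | none => none

/-- the certificate reaches all the roots -/
def certOK (D : ChevalleyDatum) (w virt seeds : List ℕ) (steps : List Step) : Bool :=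
  match runCert D w virt seeds steps with
  | some known => (List.range D.nroots).all (fun r => known.contains r)
  | none => false

end Cfsg.Agent.Lib.Helper1.TG
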