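import Mathlib
import Cfsg.Agent.Lib.Helper1.TGCertDef
import Cfsg.Agent.Lib.Helper5.ChevComm
import Cfsg.Agent.Lib.Helper5.ChevW0
import Cfsg.Agent.Lib.Helper5.ChevGenN
import Cfsg.Agent.Lib.Helper5.ChevNConj

set_option autoImplicit false

/-!
Soundness of the root-closure certificates: a subgroup containing `n_w`, the seed root groups and the
virtual elements `x_v(1) x_{-v}(1)` contains the whole Chevalley group as soon as a certificate reaches
every root.
-/

namespace Cfsg.Agent.Lib.Helper1.TG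

open Cfsg Cfsg.Lie Cfsg.Agent.Lib.Helper5.ChevStruct Cfsg.Agent.Lib.Helper5.ChevSym

variable {F : Type*} [Field F]

/-- the whole root group `X_r` lies in `K` -/
def InR (D : ChevalleyDatum) (hD : D ∈ Seven) (K : Subgroup (GL D.Idx F)) (r : ℕ) : Prop :=
  ∀ t : F, xGL D hD r t ∈ K

theorem filter_eq_singleton_split {α : Type*} (p : α → Bool) :
    ∀ (T : List α) (c : α), T.filter p = [c] →
      ∃ T1 T2, T = T1 ++ c :: T2 ∧ (∀ x ∈ T1, p x = false) ∧ (∀ x ∈ T2, p x = false)
  | [], c, h => by simp at h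
  | a :: T, c, h => by
    by_cases hp : p a = true
    · rw [List.filter_cons_of_pos hp] at h
      have h1 : a = c := by injection h
      have h2 : T.filter p = [] := by injection h
      refine ⟨[], T, by simp [h1], by simp, ?_⟩
      intro x hx
      rw [List.filter_eq_nil_iff] at h2
      simpa using h2 x hx
    · have hp' : p a = false := by simpa using hp
      rw [List.filter_cons_of_neg (by simpa using hp')] at h
      obtain ⟨T1, T2, e, h1, h2⟩ := filter_eq_singleton_split p T c h
      refine ⟨a :: T1, T2, by simp [e], ?_, h2⟩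
      intro x hx
      rcases List.mem_cons.1 hx with rfl | hx
      · exact hp'
      · exact h1 x hx

theorem termsOK_spec (known : List ℕ) (T : List (ℕ × ℤ × ℕ × ℕ)) (u : ℕ) (needJ : Bool)
    (h : termsOK known T u needJ = true) :
    ∃ (c : ℕ × ℤ × ℕ × ℕ) (T1 T2 : List (ℕ × ℤ × ℕ × ℕ)), T = T1 ++ c :: T2 ∧ c.1 = u ∧
      (c.2.1 = 1 ∨ c.2.1 = -1) ∧
      (if needJ = true then c.2.2.2 = 1 else (c.2.2.1 = 1 ∨ c.2.2.2 = 1)) ∧
      (∀ x ∈ T1, x.1 ∈ known) ∧ (∀ x ∈ T2, x.1 ∈ known) := by
  unfold termsOK at h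
  split at h
  · rename_i c hc
    obtain ⟨T1, T2, e, h1, h2⟩ := filter_eq_singleton_split _ T c hc
    have hcu : c.1 = u := by
      have : c ∈ T.filter (fun t => t.1 == u) := by rw [hc]; simp
      have := (List.mem_filter.1 this).2
      simpa using this
    simp only [Bool.and_eq_true, Bool.or_eq_true, beq_iff_eq, List.all_eq_true,
      List.mem_filter, Bool.not_eq_eq_eq_not, Bool.not_true, List.contains_eq_mem, decide_eq_true_eq,
      and_imp] at h
    obtain ⟨⟨hc1, hc2⟩, hall⟩ := h
    refine ⟨c, T1, T2, e, hcu, hc1, ?_, ?_, ?_⟩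
    · by_cases hJ : needJ = true
      · rw [if_pos hJ] at hc2 ⊢
        simpa using hc2
      · rw [if_neg hJ] at hc2 ⊢
        simpa using hc2
    · intro x hx
      apply hall x (by rw [e]; simp [hx])
      simpa using h1 x hx
    · intro x hx
      apply hall x (by rw [e]; simp [hx])
      simpa using h2 x hx
  · simp at h


theorem xGL_inv' (D : ChevalleyDatum) (hD : D ∈ Seven) (r : ℕ) (t : F) :
    (xGL D hD r t)⁻¹ = xGL D hD r (-t) := by
  apply Units.ext
  rfl

theorem wordGL_split (D : ChevalleyDatum) (hD : D ∈ Seven) (T1 T2 : List (ℕ × F)) (c : ℕ × F) :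
    wordGL D hD (T1 ++ c :: T2) = wordGL D hD T1 * xGL D hD c.1 c.2 * wordGL D hD T2 := by
  simp [wordGL, mul_assoc]

theorem wordGL_mem_of_known (D : ChevalleyDatum) (hD : D ∈ Seven) (K : Subgroup (GL D.Idx F))
    (T : List (ℕ × F)) (h : ∀ x ∈ T, InR D hD K x.1) : wordGL D hD T ∈ K := by
  unfold wordGL
  apply Subgroup.list_prod_mem
  intro g hg
  rw [List.mem_map] at hg
  obtain ⟨x, hx, rfl⟩ := hg
  exact h x hx x.2

/-- the `GL` form of the commutator formula -/
theorem comm_word_eq (D : ChevalleyDatum) (hD : D ∈ Seven) (r s : ℕ) (hr : r < D.nroots)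
    (hs : s < D.nroots) (hrs : s ≠ r) (hneg : s ≠ D.neg r) (t u : F) :
    xGL D hD s u * xGL D hD r t
      = xGL D hD r t * xGL D hD s u * wordGL D hD (D.commWord F r s t u) := by
  apply Units.ext
  simp only [Units.val_mul, xGL_val, wordGL_val]
  exact comm_formula D hD r s hr hs hrs hneg t u

/-- extracting the unknown term of a commutator word -/
theorem term_mem (D : ChevalleyDatum) (hD : D ∈ Seven) (K : Subgroup (GL D.Idx F))
    (known : List ℕ) (hknown : ∀ r ∈ known, InR D hD K r) (T1 T2 : List (ℕ × ℤ × ℕ × ℕ))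
    (c : ℕ × ℤ × ℕ × ℕ) (f : ℕ × ℤ × ℕ × ℕ → F)
    (h1 : ∀ x ∈ T1, x.1 ∈ known) (h2 : ∀ x ∈ T2, x.1 ∈ known)
    (hw : wordGL D hD ((T1 ++ c :: T2).map fun c => (c.1, f c)) ∈ K) :
    xGL D hD c.1 (f c) ∈ K := by
  rw [List.map_append, List.map_cons, wordGL_split] at hw
  have hA : wordGL D hD (T1.map fun c => (c.1, f c)) ∈ K := by
    apply wordGL_mem_of_known
    intro x hx
    rw [List.mem_map] at hx
    obtain ⟨y, hy, rfl⟩ := hx
    exact hknown _ (h1 y hy)
  have hB : wordGL D hD (T2.map fun c => (c.1, f c)) ∈ K := by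
    apply wordGL_mem_of_known
    intro x hx
    rw [List.mem_map] at hx
    obtain ⟨y, hy, rfl⟩ := hx
    exact hknown _ (h2 y hy)
  have e : xGL D hD c.1 (f c)
      = (wordGL D hD (T1.map fun c => (c.1, f c)))⁻¹
        * (wordGL D hD (T1.map fun c => (c.1, f c)) * xGL D hD c.1 (f c)
            * wordGL D hD (T2.map fun c => (c.1, f c)))
        * (wordGL D hD (T2.map fun c => (c.1, f c)))⁻¹ := by group
  rw [e]
  exact K.mul_mem (K.mul_mem (K.inv_mem hA) hw) (K.inv_mem hB)

theorem commWord_eq (D : ChevalleyDatum) (r s : ℕ) (t u : F) :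
    D.commWord F r s t u
      = (D.commTerms r s).map fun c => (c.1, (c.2.1 : F) * (-t) ^ c.2.2.1 * u ^ c.2.2.2) := rfl

theorem intCast_pm_one_mul_self (c : ℤ) (h : c = 1 ∨ c = -1) (v : F) : (c : F) * ((c : F) * v) = v := by
  rcases h with rfl | rfl <;> simp

/-- soundness of a `C` step -/
theorem stepC_sound (D : ChevalleyDatum) (hD : D ∈ Seven) (K : Subgroup (GL D.Idx F))
    (known : List ℕ) (hknown : ∀ r ∈ known, r < D.nroots ∧ InR D hD K r) (r s u : ℕ)
    (hr : r ∈ known) (hs : s ∈ known) (hrs : s ≠ r) (hneg : s ≠ D.neg r)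
    (hT : termsOK known (D.commTerms r s) u false = true) : InR D hD K u := by
  obtain ⟨c, T1, T2, e, hcu, hc, hij, h1, h2⟩ := termsOK_spec _ _ _ _ hT
  simp only [Bool.false_eq_true, if_false] at hij
  intro v
  have key : ∀ t u' : F, xGL D hD c.1 ((c.2.1 : F) * (-t) ^ c.2.2.1 * u' ^ c.2.2.2) ∈ K := by
    intro t u'
    apply term_mem D hD K known (fun r hr => (hknown r hr).2) T1 T2 c
      (fun c => (c.2.1 : F) * (-t) ^ c.2.2.1 * u' ^ c.2.2.2) h1 h2
    rw [← e, ← commWord_eq]
    have h := comm_word_eq D hD r s (hknown r hr).1 (hknown s hs).1 hrs hneg t u'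
    have : wordGL D hD (D.commWord F r s t u')
        = (xGL D hD r t * xGL D hD s u')⁻¹ * (xGL D hD s u' * xGL D hD r t) := by
      rw [h]; group
    rw [this]
    exact K.mul_mem (K.inv_mem (K.mul_mem ((hknown r hr).2 t) ((hknown s hs).2 u')))
      (K.mul_mem ((hknown s hs).2 u') ((hknown r hr).2 t))
  rw [← hcu]
  rcases hij with hi | hj
  · have := key (-((c.2.1 : F) * v)) 1
    rw [hi] at this
    simpa [intCast_pm_one_mul_self c.2.1 hc v] using this
  · have := key (-1) ((c.2.1 : F) * v)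
    rw [hj] at this
    simpa [intCast_pm_one_mul_self c.2.1 hc v] using this


/-- soundness of a `W` step -/
theorem stepW_sound (D : ChevalleyDatum) (hD : D ∈ Seven) (K : Subgroup (GL D.Idx F))
    (w : List ℕ) (hw : Wd D w) (hn : wGL D hD w ∈ K) (r : ℕ) (hr : r < D.nroots)
    (h : InR D hD K r) : wAct D w r < D.nroots ∧ InR D hD K (wAct D w r) := by
  refine ⟨wAct_lt D hD w hw r hr, ?_⟩
  obtain ⟨ε, hε, hc⟩ := wGL_conj (F := F) D hD w hw r hr
  intro v
  have h1 := hc (ε * v) (xGL D hD r (ε * v)) (xGL_val D hD r (ε * v))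
  have e : xGL D hD (wAct D w r) v = wGL D hD w * xGL D hD r (ε * v) * (wGL D hD w)⁻¹ := by
    apply Units.ext
    rw [h1, xGL_val]
    congr 1
    rcases hε with rfl | rfl <;> simp
  rw [e]
  exact K.mul_mem (K.mul_mem hn (h _)) (K.inv_mem hn)

/-- soundness of a `V` step -/
theorem stepV_sound (D : ChevalleyDatum) (hD : D ∈ Seven) (K : Subgroup (GL D.Idx F))
    (known : List ℕ) (hknown : ∀ r ∈ known, r < D.nroots ∧ InR D hD K r) (v s u : ℕ)
    (hv : v < D.nroots) (hy : xGL D hD v (1 : F) * xGL D hD (D.neg v) 1 ∈ K)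
    (hs : s ∈ known) (hsv : s ≠ v) (hneg : s ≠ D.neg v)
    (hempty : (D.commTerms (D.neg v) s).isEmpty = true)
    (hT : termsOK known (D.commTerms v s) u true = true) : InR D hD K u := by
  obtain ⟨c, T1, T2, e, hcu, hc, hij, h1, h2⟩ := termsOK_spec _ _ _ _ hT
  simp only [if_true] at hij
  obtain ⟨hnv, _, hnn⟩ := neg_lt D hD v hv
  have hslt := (hknown s hs).1
  -- `x_{-v}(1)` commutes with `x_s(u')`
  have hcomm : ∀ u' : F, xGL D hD s u' * xGL D hD (D.neg v) 1
      = xGL D hD (D.neg v) 1 * xGL D hD s u' := by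
    intro u'
    have h := comm_word_eq D hD (D.neg v) s hnv hslt hneg (by rw [hnn]; exact hsv) (1 : F) u'
    have hnil : D.commTerms (D.neg v) s = [] := List.isEmpty_iff.1 hempty
    rw [commWord_eq, hnil] at h
    simpa [wordGL] using h
  intro val
  have key : ∀ u' : F, xGL D hD c.1 ((c.2.1 : F) * (-(-1 : F)) ^ c.2.2.1 * u' ^ c.2.2.2) ∈ K := by
    intro u'
    apply term_mem D hD K known (fun r hr => (hknown r hr).2) T1 T2 c
      (fun c => (c.2.1 : F) * (-(-1 : F)) ^ c.2.2.1 * u' ^ c.2.2.2) h1 h2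
    rw [← e, ← commWord_eq]
    have h := comm_word_eq D hD v s hv hslt hsv hneg (-1 : F) u'
    have hxs := (hknown s hs).2 u'
    have hinv : xGL D hD v (-1 : F) = (xGL D hD v 1)⁻¹ := by rw [xGL_inv']
    -- the conjugate of `x_s(u')` by `y`
    have hconj : xGL D hD v 1 * xGL D hD s u' * (xGL D hD v 1)⁻¹ ∈ K := by
      have : xGL D hD v 1 * xGL D hD s u' * (xGL D hD v 1)⁻¹
          = (xGL D hD v (1 : F) * xGL D hD (D.neg v) 1) * xGL D hD s u'
            * (xGL D hD v (1 : F) * xGL D hD (D.neg v) 1)⁻¹ := by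
        have h3 : xGL D hD (D.neg v) 1 * xGL D hD s u' * (xGL D hD (D.neg v) (1 : F))⁻¹
            = xGL D hD s u' := by
          rw [← hcomm u']; group
        calc xGL D hD v 1 * xGL D hD s u' * (xGL D hD v 1)⁻¹
            = xGL D hD v 1 * (xGL D hD (D.neg v) 1 * xGL D hD s u' * (xGL D hD (D.neg v) (1 : F))⁻¹)
                * (xGL D hD v 1)⁻¹ := by rw [h3]
          _ = _ := by group
      rw [this]
      exact K.mul_mem (K.mul_mem hy hxs) (K.inv_mem hy)
    have : wordGL D hD (D.commWord F v s (-1) u')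
        = (xGL D hD s u')⁻¹ * (xGL D hD v 1 * xGL D hD s u' * (xGL D hD v 1)⁻¹) := by
      have h' : wordGL D hD (D.commWord F v s (-1) u')
          = (xGL D hD v (-1 : F) * xGL D hD s u')⁻¹ * (xGL D hD s u' * xGL D hD v (-1 : F)) := by
        rw [h]; group
      rw [h', hinv]; group
    rw [this]
    exact K.mul_mem (K.inv_mem hxs) hconj
  rw [← hcu]
  have := key ((c.2.1 : F) * val)
  rw [hij] at this
  simpa [intCast_pm_one_mul_self c.2.1 hc val] using this

theorem contains_iff (l : List ℕ) (a : ℕ) : l.contains a = true ↔ a ∈ l := by simp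

/-- soundness of one step -/
theorem stepNew_sound (D : ChevalleyDatum) (hD : D ∈ Seven) (K : Subgroup (GL D.Idx F))
    (w : List ℕ) (hw : Wd D w) (hn : wGL D hD w ∈ K) (virt : List ℕ)
    (hvirt : ∀ v ∈ virt, v < D.nroots ∧ xGL D hD v (1 : F) * xGL D hD (D.neg v) 1 ∈ K)
    (known : List ℕ) (hknown : ∀ r ∈ known, r < D.nroots ∧ InR D hD K r) (st : Step) (u : ℕ)
    (h : stepNew D w virt known st = some u) : u < D.nroots ∧ InR D hD K u := by
  cases st with
  | W r =>
    simp only [stepNew] at h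
    split at h
    · rename_i hr
      have hr' : r ∈ known := (contains_iff _ _).1 hr
      injection h with h
      rw [← h]
      exact stepW_sound D hD K w hw hn r (hknown r hr').1 (hknown r hr').2
    · simp at h
  | C r s u' =>
    simp only [stepNew] at h
    split at h
    · rename_i hc
      injection h with h
      subst h
      simp only [Bool.and_eq_true, Bool.not_eq_eq_eq_not, Bool.not_true, beq_eq_false_iff_ne, ne_eq,
        decide_eq_true_eq] at hc
      obtain ⟨⟨⟨⟨⟨hr, hs⟩, hrs⟩, hneg⟩, hlt⟩, hT⟩ := hc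
      exact ⟨hlt, stepC_sound D hD K known hknown r s u' ((contains_iff _ _).1 hr)
        ((contains_iff _ _).1 hs) hrs hneg hT⟩
    · simp at h
  | V v s u' =>
    simp only [stepNew] at h
    split at h
    · rename_i hc
      injection h with h
      subst h
      simp only [Bool.and_eq_true, Bool.not_eq_eq_eq_not, Bool.not_true, beq_eq_false_iff_ne, ne_eq,
        decide_eq_true_eq] at hc
      obtain ⟨⟨⟨⟨⟨⟨hv, hs⟩, hsv⟩, hneg⟩, hlt⟩, hempty⟩, hT⟩ := hc
      have hv' := hvirt v ((contains_iff _ _).1 hv)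
      exact ⟨hlt, stepV_sound D hD K known hknown v s u' hv'.1 hv'.2 ((contains_iff _ _).1 hs)
        hsv hneg hempty hT⟩
    · simp at h

theorem runCert_sound (D : ChevalleyDatum) (hD : D ∈ Seven) (K : Subgroup (GL D.Idx F))
    (w : List ℕ) (hw : Wd D w) (hn : wGL D hD w ∈ K) (virt : List ℕ)
    (hvirt : ∀ v ∈ virt, v < D.nroots ∧ xGL D hD v (1 : F) * xGL D hD (D.neg v) 1 ∈ K) :
    ∀ (steps : List Step) (known : List ℕ), (∀ r ∈ known, r < D.nroots ∧ InR D hD K r) →
      ∀ final, runCert D w virt known steps = some final →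
        ∀ r ∈ final, r < D.nroots ∧ InR D hD K r
  | [], known, hknown, final, h => by
    simp only [runCert] at h
    injection h with h
    rw [← h]
    exact hknown
  | st :: rest, known, hknown, final, h => by
    simp only [runCert] at h
    split at h
    · rename_i u hu
      have hu' := stepNew_sound D hD K w hw hn virt hvirt known hknown st u hu
      apply runCert_sound D hD K w hw hn virt hvirt rest (u :: known) _ final h
      intro r hr
      rcases List.mem_cons.1 hr with rfl | hr
      · exact hu'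
      · exact hknown r hr
    · simp at h

/-- a subgroup containing `n_w`, the seed root groups and the virtual elements contains the whole
group as soon as a certificate reaches every root -/
theorem group_le_of_cert (D : ChevalleyDatum) (hD : D ∈ Seven) (K : Subgroup (GL D.Idx F))
    (w : List ℕ) (hw : Wd D w) (hn : wGL D hD w ∈ K) (virt : List ℕ)
    (hvirt : ∀ v ∈ virt, v < D.nroots ∧ xGL D hD v (1 : F) * xGL D hD (D.neg v) 1 ∈ K)
    (seeds : List ℕ) (hseeds : ∀ r ∈ seeds, r < D.nroots ∧ InR D hD K r) (steps : List Step)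
    (h : certOK D w virt seeds steps = true) : D.group F ≤ K := by
  unfold certOK at h
  split at h
  · rename_i final hfinal
    have hall := runCert_sound D hD K w hw hn virt hvirt steps seeds hseeds final hfinal
    apply group_le_of_xGL D hD K
    intro r hr t
    rw [List.all_eq_true] at h
    have := h r (List.mem_range.2 hr)
    exact (hall r ((contains_iff _ _).1 this)).2 t
  · simp at h

end Cfsg.Agent.Lib.Helper1.TG
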