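import Mathlib
import Cfsg.Agent.Lib.Helper1.TGCert
import Cfsg.Agent.Lib.Helper7.Ch2G4

set_option autoImplicit false

/-!
S2405, assembly for fields with at least three elements: the two elements
`a = h_{p_i}(k) x_s(1)` and `b = x_{s'}(1) n_w` generate the Chevalley group, given decidable
conditions on the data and a root-closure certificate.
-/

namespace Cfsg.Agent.Lib.Helper1.TG

open Cfsg Cfsg.Lie Cfsg.Agent.Lib.Helper5.ChevStruct Cfsg.Agent.Lib.Helper5.ChevSym
open Cfsg.Agent.Lib.Helper7.Ch2G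

variable {F : Type*} [Field F]

/-- the `j`-fold repetition of a word -/
def wpow (w : List ℕ) : ℕ → List ℕ
  | 0 => []
  | j + 1 => w ++ wpow w j

theorem wGL_wpow (D : ChevalleyDatum) (hD : D ∈ Seven) (w : List ℕ) (j : ℕ) :
    (wGL D hD (wpow w j) : GL D.Idx F) = (wGL D hD w) ^ j := by
  induction j with
  | zero => simp [wpow, wGL_nil]
  | succ j ih => rw [wpow, wGL_append, ih, pow_succ']

theorem Wd_wpow (D : ChevalleyDatum) (w : List ℕ) (hw : Wd D w) (j : ℕ) : Wd D (wpow w j) := by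
  induction j with
  | zero => intro i hi; simp [wpow] at hi
  | succ j ih =>
    intro i hi
    rw [wpow, List.mem_append] at hi
    rcases hi with hi | hi
    · exact hw i hi
    · exact ih i hi

/-- the decidable conditions on the data -/
def dataOK (D : ChevalleyDatum) (w : List ℕ) (i0 s s' t r0 j : ℕ) : Bool :=
  w.all (fun i => decide (i < D.rank)) && decide (i0 < D.rank) && decide (s < D.nroots)
    && decide (s' < D.nroots) && decide (t < D.nroots) && decide (r0 < D.nroots)
    && decide (D.cartan i0 s = 0) && decide (wAct D w t = s')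
    && decide (D.cartan i0 s' = D.cartan i0 t) && decide ((D.cartan i0 t).natAbs = 1)
    && decide (wAct D (wpow w j) r0 = s)
    && (decide ((D.cartan i0 r0).natAbs = 1) || decide ((D.cartan i0 r0).natAbs = 2))

theorem coprime_card_sub_one [Fintype F] (p : ℕ) [hp : Fact p.Prime] [CharP F p] :
    Nat.Coprime p (Fintype.card F - 1) := by
  obtain ⟨n, hn⟩ := FiniteField.card F p
  rw [hn.2]
  have hpos : 0 < (n : ℕ) := n.pos
  have h1 : 1 ≤ p ^ (n : ℕ) := Nat.one_le_pow _ _ hp.out.pos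
  rw [Nat.coprime_comm, Nat.Coprime, ← Nat.sub_add_cancel h1]
  have : p ∣ p ^ (n : ℕ) - 1 + 1 := by
    rw [Nat.sub_add_cancel h1]
    exact dvd_pow_self p hpos.ne'
  rw [Nat.sub_add_cancel h1]
  have hcop : Nat.Coprime (p ^ (n : ℕ) - 1) (p ^ (n : ℕ)) := by
    have := Nat.coprime_self_add_right (m := p ^ (n : ℕ) - 1) (n := 1)
    rw [Nat.sub_add_cancel h1] at this
    exact this.2 (Nat.coprime_one_right _)
  exact Nat.Coprime.coprime_dvd_right (dvd_pow_self p hpos.ne') hcop

/-- the two-generation statement for `|F| ≥ 3` -/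
theorem twoGenT [Fintype F] (D : ChevalleyDatum) (hD : D ∈ Seven) (p : ℕ) [Fact p.Prime]
    [CharP F p] (k : F) (hk0 : k ≠ 0) (hk1 : k ≠ 1) (hgen : ∀ x : F, x ≠ 0 → ∃ m : ℕ, x = k ^ m)
    (w : List ℕ) (i0 s s' t r0 j : ℕ) (hdata : dataOK D w i0 s s' t r0 j = true)
    (steps : List Step) (hcert : certOK D w [] [s, s'] steps = true) :
    D.group F ≤ Subgroup.closure
      {hGL D hD (D.simple i0) k * xGL D hD s 1, xGL D hD s' 1 * wGL D hD w} := by
  classical
  simp only [dataOK, Bool.and_eq_true, Bool.or_eq_true, List.all_eq_true, decide_eq_true_eq]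
    at hdata
  obtain ⟨⟨⟨⟨⟨⟨⟨⟨⟨⟨⟨hw, hi0⟩, hs⟩, hs'⟩, ht⟩, hr0⟩, hcs⟩, hwt⟩, hcc⟩, hct⟩, hwj⟩, hcr0⟩ := hdata
  have hw' : Wd D w := hw
  set K : Subgroup (GL D.Idx F) := Subgroup.closure
    {hGL D hD (D.simple i0) k * xGL D hD s 1, xGL D hD s' 1 * wGL D hD w} with hK
  have ha : hGL D hD (D.simple i0) k * xGL D hD s 1 ∈ K :=
    Subgroup.subset_closure (by simp)
  have hb : xGL D hD s' 1 * wGL D hD w ∈ K := Subgroup.subset_closure (by simp)
  -- step 1: the torus element and `x_s(1)` lie in `K`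
  have hcomm : Commute (hGL D hD (D.simple i0) k) (xGL D hD s (1 : F)) := by
    have h := hGL_conj_x D hD i0 hi0 k hk0 s (1 : F)
    rw [hcs, zpow_zero, one_mul] at h
    have : hGL D hD (D.simple i0) k * xGL D hD s (1 : F)
        = xGL D hD s 1 * hGL D hD (D.simple i0) k := by
      calc hGL D hD (D.simple i0) k * xGL D hD s (1 : F)
          = (hGL D hD (D.simple i0) k * xGL D hD s (1 : F) * (hGL D hD (D.simple i0) k)⁻¹)
              * hGL D hD (D.simple i0) k := by group
        _ = xGL D hD s 1 * hGL D hD (D.simple i0) k := by rw [h]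
    exact this
  obtain ⟨hh, hx⟩ := mem_zpowers_of_coprime (hGL D hD (D.simple i0) k) (xGL D hD s (1 : F)) hcomm
    (Fintype.card F - 1) p
    (diag_pow_card D hD _ (hGL_simple_mem_diagonal D hD i0 hi0 k hk0))
    (xGL_pow_char D hD p s 1) (coprime_card_sub_one p).symm
  have hzp : Subgroup.zpowers (hGL D hD (D.simple i0) k * xGL D hD s 1) ≤ K :=
    Subgroup.zpowers_le.2 ha
  have hhK := hzp hh
  have hxK := hzp hx
  -- steps 2-4
  obtain ⟨hS', hn⟩ := step_T D hD p K w hw' i0 hi0 k hk0 hk1 hgen s' t ht hwt hcc hct hhK hb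
  -- step 5: the root group of `s`
  have hnj : wGL D hD (wpow w j) ∈ K := by
    rw [wGL_wpow]; exact K.pow_mem hn j
  have hwj' := Wd_wpow D w hw' j
  obtain ⟨ε, hε, hc⟩ := wGL_conj (F := F) D hD (wpow w j) hwj' r0 hr0
  have hr0K : xGL D hD r0 ε ∈ K := by
    have h1 := hc ε (xGL D hD r0 ε) (xGL_val D hD r0 ε)
    rw [hwj] at h1
    have e : xGL D hD s (1 : F) = wGL D hD (wpow w j) * xGL D hD r0 ε * (wGL D hD (wpow w j))⁻¹ := by
      apply Units.ext
      rw [h1, xGL_val]
      congr 1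
      rcases hε with rfl | rfl <;> simp
    have : xGL D hD r0 ε = (wGL D hD (wpow w j))⁻¹ * xGL D hD s (1 : F) * wGL D hD (wpow w j) := by
      rw [e]; group
    rw [this]
    exact K.mul_mem (K.mul_mem (K.inv_mem hnj) hxK) hnj
  have hε0 : ε ≠ 0 := by rcases hε with rfl | rfl <;> simp
  have hR0 : InR D hD K r0 := scale_root D hD K i0 hi0 k hk0 hgen hhK r0 hcr0 ε hε0 hr0K
  have hS : InR D hD K s := by
    have := (stepW_sound D hD K (wpow w j) hwj' hnj r0 hr0 hR0).2
    rwa [hwj] at this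
  -- step 6: the certificate
  apply group_le_of_cert D hD K w hw' hn [] (by simp) [s, s'] _ steps hcert
  intro r hr
  simp only [List.mem_cons, List.not_mem_nil, or_false] at hr
  rcases hr with rfl | rfl
  · exact ⟨hs, hS⟩
  · exact ⟨hs', hS'⟩

end Cfsg.Agent.Lib.Helper1.TG
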