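import Mathlib
import Cfsg.Agent.Lib.Helper1.TGCertDef
import Cfsg.Prelude.Def_ChevB2

set_option autoImplicit false
set_option maxRecDepth 1000000
set_option maxHeartbeats 4000000

/-!
S2405: root-closure certificates for type B2 (machine generated, checked by the kernel).
-/

namespace Cfsg.Agent.Lib.Helper1.TG

open Cfsg Cfsg.Lie

/-- Weyl word, seeds and steps of the certificate for `|F| ≥ 3` -/
def wordT_B2 : List ℕ := [0, 1]

def seedsT_B2 : List ℕ := [7, 5]

def stepsT_B2 : List Step :=
  [.W 7, .W 5, .W 4, .W 6, .W 0, .W 2]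

theorem certT_B2 : certOK chevB2 wordT_B2 [] seedsT_B2 stepsT_B2 = true := by decide

end Cfsg.Agent.Lib.Helper1.TG
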