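import Mathlib
import Cfsg.Agent.Lib.Helper1.TGCertDef
import Cfsg.Prelude.Def_ChevD4

set_option autoImplicit false
set_option maxRecDepth 1000000
set_option maxHeartbeats 4000000

/-!
S2405: root-closure certificates for type D4 (machine generated, checked by the kernel).
-/

namespace Cfsg.Agent.Lib.Helper1.TG

open Cfsg Cfsg.Lie

/-- Weyl word, seeds and steps of the certificate for `|F| ≥ 3` -/
def wordT_D4 : List ℕ := [0, 2, 3, 1]

def seedsT_D4 : List ℕ := [2, 13]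

def stepsT_D4 : List Step :=
  [.W 2, .W 13, .C 2 13 4, .C 2 8 0, .C 13 20 22, .C 8 20 18, .W 8, .W 20, .W 0, .W 22, .W 18, .C 2 18 7, .C 2 16 5, .C 2 23 15, .C 8 23 21, .C 0 16 3, .W 16, .W 23, .W 17, .W 5, .W 15, .C 2 11 1]

theorem certT_D4 : certOK chevD4 wordT_D4 [] seedsT_D4 stepsT_D4 = true := by decide

/-- Coxeter word, seed, virtual roots and steps of the certificate for `|F| = 2` -/
def wordY_D4 : List ℕ := [0, 1, 2, 3]

def seedY_D4 : ℕ := 12

def rootY_D4 : ℕ := 13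

def virtY_D4 : List ℕ := [13, 10, 2, 21, 8, 15]

def stepsY_D4 : List Step :=
  [.W 12, .C 12 3 4, .V 10 3 1, .V 21 12 22, .V 8 12 9, .V 15 3 5, .W 3, .W 4, .W 1, .C 12 1 2, .C 3 22 13, .C 3 18 8, .C 1 18 6, .C 22 5 17, .V 10 22 20, .V 21 1 11, .V 21 5 16, .W 18, .W 8, .W 6, .C 12 14 15, .C 22 11 21, .C 22 14 23]

theorem certY_D4 : certOK chevD4 wordY_D4 virtY_D4 [seedY_D4] stepsY_D4 = true := by decide

end Cfsg.Agent.Lib.Helper1.TG
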