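import Mathlib
import Cfsg.Agent.Lib.Helper1.TGCertDef
import Cfsg.Prelude.Def_ChevE6

set_option autoImplicit false
set_option maxRecDepth 1000000
set_option maxHeartbeats 4000000

/-!
S2405: root-closure certificates for type E6 (machine generated, checked by the kernel).
-/

namespace Cfsg.Agent.Lib.Helper1.TG

open Cfsg Cfsg.Lie

/-- Weyl word, seeds and steps of the certificate for `|F| ≥ 3` -/
def wordT_E6 : List ℕ := [0, 1, 2, 3, 4, 5]

def seedsT_E6 : List ℕ := [36, 40]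

def stepsT_E6 : List Step :=
  [.W 36, .W 40, .C 36 40 41, .C 36 8 9, .C 8 38 10, .W 8, .W 9, .W 10, .W 28, .W 3, .W 4, .C 40 23 25, .C 40 18 21, .W 23, .W 18, .W 0, .W 25, .W 21, .C 36 11 12, .C 41 11 14, .W 11, .W 5, .W 1, .W 13, .W 7, .W 12, .C 36 26 27, .C 41 26 29, .W 56, .W 26, .W 16, .W 20, .W 2, .W 19, .W 27, .W 29, .C 36 30 31, .C 40 42 44, .C 40 57 59, .C 40 30 35, .C 40 32 37, .C 41 42 45, .C 41 57 60, .C 14 42 15, .W 42, .W 57, .W 30, .W 32, .W 22, .W 31, .W 44, .W 59, .W 35, .C 40 50 53, .C 40 61 64, .C 40 34 39, .C 40 46 48, .C 40 52 55, .C 40 63 66, .C 41 50 54, .C 41 61 65, .C 25 50 43, .C 25 61 58, .C 44 61 67, .C 44 46 51, .C 44 63 69, .C 59 46 62, .C 45 61 68, .W 67, .C 40 68 70]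

theorem certT_E6 : certOK chevE6 wordT_E6 [] seedsT_E6 stepsT_E6 = true := by decide

/-- Coxeter word, seed, virtual roots and steps of the certificate for `|F| = 2` -/
def wordY_E6 : List ℕ := [0, 1, 2, 3, 4, 5]

def seedY_E6 : ℕ := 36

def rootY_E6 : ℕ := 39

def virtY_E6 : List ℕ := [39, 32, 37, 34, 36, 35, 8, 63, 28, 43, 23, 48, 11, 60, 56, 15, 42, 29, 47, 24, 59, 12, 52, 19]

def stepsY_E6 : List Step :=
  [.W 36, .C 36 8 9, .V 32 8 6, .V 37 36 38, .V 28 8 3, .V 48 36 49, .V 11 36 12, .V 60 8 25, .V 56 8 19, .V 59 36 60, .V 52 8 15, .C 19 36 20, .W 8, .W 6, .W 3, .W 25, .W 19, .W 15, .C 36 6 7, .C 36 3 4, .C 8 38 10, .C 8 49 14, .C 8 27 2, .C 8 18 0, .C 6 60 24, .C 6 27 1, .C 38 19 21, .C 49 25 41, .C 19 32 17, .C 60 15 45, .V 34 6 5, .V 34 32 31, .V 35 38 37, .V 35 49 48, .V 35 12 11, .V 35 60 59, .V 35 27 26, .V 63 19 56, .V 63 15 52, .V 43 49 54, .V 43 27 34, .V 43 18 23, .V 43 32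 42, .V 43 29 39, .C 48 25 40, .C 48 60 66, .C 42 19 22, .V 47 60 65, .V 47 32 46, .C 59 15 44, .W 1, .W 31, .W 26, .W 34, .W 42, .W 46, .C 49 44 55, .C 49 57 63, .C 15 58 43, .C 32 33 30, .C 48 42 51, .C 48 57 62, .C 48 58 64, .C 59 52 69, .C 59 54 70, .C 52 33 50, .C 52 58 68, .C 54 35 53, .C 46 58 61, .W 61, .C 49 67 71]

theorem certY_E6 : certOK chevE6 wordY_E6 virtY_E6 [seedY_E6] stepsY_E6 = true := by decide

end Cfsg.Agent.Lib.Helper1.TG
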