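import Mathlib
import Cfsg.Agent.Lib.Helper1.TGCertDef
import Cfsg.Prelude.Def_ChevE7

set_option autoImplicit false
set_option maxRecDepth 1000000
set_option maxHeartbeats 4000000

/-!
S2405: root-closure certificates for type E7 (machine generated, checked by the kernel).
-/

namespace Cfsg.Agent.Lib.Helper1.TG

open Cfsg Cfsg.Lie

/-- Weyl word, seeds and steps of the certificate for `|F| ≥ 3` -/
def wordT_E7 : List ℕ := [0, 1, 2, 3, 4, 5, 6]

def seedsT_E7 : List ℕ := [63, 67]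

def stepsT_E7 : List Step :=
  [.W 63, .W 67, .C 63 67 68, .C 63 23 24, .C 23 65 25, .W 23, .W 24, .W 25, .C 67 24 26, .C 65 14 16, .W 51, .W 14, .W 15, .W 16, .W 45, .W 38, .W 5, .W 6, .C 67 28 30, .C 67 19 22, .W 28, .W 19, .W 10, .W 0, .W 30, .W 22, .C 63 39 40, .C 68 39 42, .W 39, .W 11, .W 3, .W 1, .W 41, .W 13, .W 40, .C 63 36 37, .W 56, .W 36, .W 8, .W 2, .W 21, .W 4, .W 20, .W 37, .C 63 34 35, .C 67 59 64, .C 30 59 29, .W 59, .W 55, .W 34, .W 7, .W 50, .W 18, .W 35, .C 67 61 66, .C 67 44 46, .W 61, .W 58, .W 54, .W 33, .W 44, .W 49, .W 17, .W 62, .W 60, .W 57, .W 53, .W 27, .W 43, .W 48, .W 102, .W 101, .W 100, .W 99, .W 93, .W 78, .W 94, .C 67 74 76, .C 67 111 114, .C 67 109 112, .C 67 95 97, .C 67 83 85, .C 68 74 77, .C 68 109 113, .C 68 95 98, .C 68 83 86, .C 26 109 75, .C 26 95 47, .C 26 83 32, .C 30 109 84, .C 42 109 96, .W 74, .W 111, .W 110, .W 109, .W 73, .W 83, .W 76, .W 114, .W 112, .W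 85, .W 77, .W 113, .W 86, .W 75, .W 32, .W 84, .C 67 87 90, .C 67 120 122, .C 67 103 106, .C 67 89 92, .C 67 105 108, .C 67 69 71, .C 68 87 91, .C 68 103 107, .C 68 69 72, .C 26 103 70, .C 76 120 124, .C 76 103 115, .C 76 105 117, .C 114 103 125, .C 77 103 116, .W 124, .C 67 116 118]

theorem certT_E7 : certOK chevE7 wordT_E7 [] seedsT_E7 stepsT_E7 = true := by decide

/-- Coxeter word, seed, virtual roots and steps of the certificate for `|F| = 2` -/
def wordY_E7 : List ℕ := [0, 1, 2, 3, 4, 5, 6]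

def seedY_E7 : ℕ := 63

def rootY_E7 : ℕ := 66

def virtY_E7 : List ℕ := [66, 59, 64, 61, 63, 62, 23, 102, 51, 74, 45, 80, 28, 97, 39, 86, 56, 69]

def stepsY_E7 : List Step :=
  [.W 63, .C 63 23 24, .V 64 63 65, .V 51 23 14, .V 97 63 98, .V 39 63 40, .V 86 23 32, .V 56 23 20, .W 23, .W 14, .W 32, .W 20, .C 63 14 15, .C 63 20 21, .C 23 65 25, .C 23 98 47, .C 23 38 5, .C 23 50 12, .C 24 38 6, .C 24 50 13, .C 65 14 16, .C 65 20 22, .C 14 98 42, .C 98 32 77, .C 98 20 46, .C 40 20 4, .C 32 51 30, .C 32 52 31, .C 32 50 29, .C 20 50 9, .V 66 65 68, .V 59 20 18, .V 64 40 41, .V 61 38 37, .V 61 50 49, .V 62 65 64, .V 62 98 97, .V 62 40 39, .V 102 32 86, .V 102 20 56, .V 74 38 45, .V 74 52 69, .V 74 50 59, .V 80 65 82, .V 80 98 107, .V 28 38 10, .C 97 32 76, .W 38, .W 50, .W 6, .W 9, .W 49, .W 45, .W 69, .W 59, .W 10, .C 23 68 26, .C 23 49 11, .C 23 107 70, .C 14 35 1, .C 98 31 72, .C 32 107 91, .C 20 49 8, .C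 20 35 2, .C 51 76 67, .C 51 43 36, .C 52 76 71, .C 50 43 34, .C 18 49 7, .C 18 61 17, .C 49 97 93, .C 49 43 33, .C 64 107 108, .C 97 86 114, .C 97 61 96, .C 86 69 89, .C 86 43 73, .C 56 59 55, .C 59 107 105, .C 59 61 58, .C 82 76 92, .C 107 76 118, .C 76 61 75, .V 62 49 48, .V 62 86 85, .V 62 82 81, .V 62 107 106, .V 62 28 27, .V 62 61 60, .V 102 43 94, .V 74 107 116, .V 80 59 79, .V 80 76 90, .W 43, .W 61, .W 34, .W 33, .W 60, .W 94, .C 63 101 102, .C 98 83 111, .C 47 83 74, .C 49 90 80, .C 64 116 117, .C 97 58 95, .C 97 79 104, .C 97 83 110, .C 39 83 57, .C 86 96 113, .C 86 106 122, .C 86 60 84, .C 69 85 88, .C 107 53 100, .C 107 83 120, .C 70 83 87, .C 93 83 99, .C 108 83 121, .C 114 60 112, .C 96 79 103, .C 96 83 109, .C 89 106 123, .C 118 83 124, .C 106 83 119, .C 116 62 115, .C 116 101 125]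

theorem certY_E7 : certOK chevE7 wordY_E7 virtY_E7 [seedY_E7] stepsY_E7 = true := by decide

end Cfsg.Agent.Lib.Helper1.TG
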