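import Mathlib
import Cfsg.Agent.Lib.Helper1.TGCertDef
import Cfsg.Prelude.Def_ChevF4

set_option autoImplicit false
set_option maxRecDepth 1000000
set_option maxHeartbeats 4000000

/-!
S2405: root-closure certificates for type F4 (machine generated, checked by the kernel).
-/

namespace Cfsg.Agent.Lib.Helper1.TG

open Cfsg Cfsg.Lie

/-- Weyl word, seeds and steps of the certificate for `|F| ≥ 3` -/
def wordT_F4 : List ℕ := [0, 1, 2, 3]

def seedsT_F4 : List ℕ := [27, 41]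

def stepsT_F4 : List Step :=
  [.W 27, .W 41, .C 27 35 37, .W 35, .W 45, .W 37, .W 38, .W 46, .W 44, .W 28, .W 47, .W 40, .W 36, .W 32, .W 39, .C 27 26 31, .C 41 14 30, .C 41 26 43, .W 14, .W 26, .W 29, .W 31, .W 20, .W 6, .W 13, .W 25, .C 41 2 16, .C 41 24 42, .C 30 2 5, .W 12, .W 2, .W 10, .W 16, .W 5, .C 27 2 4, .C 27 9 11, .C 27 17 19, .C 41 12 34, .C 41 10 33, .C 41 5 23, .C 41 1 15, .C 35 1 7, .W 1, .W 15, .W 7, .C 27 16 18]

theorem certT_F4 : certOK chevF4 wordT_F4 [] seedsT_F4 stepsT_F4 = true := by decide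

/-- Coxeter word, seed, virtual roots and steps of the certificate for `|F| = 2` -/
def wordY_F4 : List ℕ := [0, 1, 2, 3]

def seedY_F4 : ℕ := 24

def rootY_F4 : ℕ := 27

def virtY_F4 : List ℕ := [27, 20, 35, 12, 38, 9, 28, 19, 36, 11, 14, 33]

def stepsY_F4 : List Step :=
  [.W 24, .C 24 5 6, .W 5, .W 6, .V 38 2 10, .W 17, .W 2, .W 10, .V 27 10 12, .V 35 10 20, .V 35 3 9, .V 28 17 25, .V 28 10 13, .V 36 5 26, .V 33 5 16, .V 33 3 7, .W 1, .W 9, .W 16, .W 7, .C 16 22 15, .V 27 9 11, .V 27 13 14, .V 35 4 23, .V 35 19 33, .V 35 8 18, .V 38 5 31, .V 38 20 36, .V 38 13 29, .V 38 16 42, .V 28 24 32, .W 15, .W 33, .W 18, .W 42, .C 20 30 28, .C 25 42 43, .C 14 42 38, .C 23 36 35, .C 23 42 41, .C 33 32 39, .C 33 30 37, .C 42 32 47, .C 42 30 45, .C 32 34 40, .C 35 31 46, .C 28 42 44]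

theorem certY_F4 : certOK chevF4 wordY_F4 virtY_F4 [seedY_F4] stepsY_F4 = true := by decide

end Cfsg.Agent.Lib.Helper1.TG
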