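import Mathlib
import Cfsg.Agent.Lib.Helper1.TGAsmT
import Cfsg.Agent.Lib.Helper1.TGDataB2
import Cfsg.Agent.Lib.Helper1.TGDataG2
import Cfsg.Agent.Lib.Helper1.TGDataD4
import Cfsg.Agent.Lib.Helper1.TGDataF4
import Cfsg.Agent.Lib.Helper1.TGDataE6
import Cfsg.Agent.Lib.Helper1.TGDataE7
import Cfsg.Agent.Lib.Helper1.TGDataE8
import Cfsg.Agent.Lib.Helper5.ChevGen

set_option autoImplicit false
set_option maxRecDepth 1000000
set_option maxHeartbeats 4000000

/-!
S2405 for fields with at least three elements: every Chevalley group of the seven types is generated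
by two elements.
-/

namespace Cfsg.Agent.Lib.Helper1.TG

open Cfsg Cfsg.Lie Cfsg.Agent.Lib.Helper5.ChevStruct Cfsg.Agent.Lib.Helper5.ChevSym
open Cfsg.Agent.Lib.Helper7.Ch2G

variable {F : Type*} [Field F]

/-- a generator of the multiplicative group of a finite field -/
theorem exists_field_gen [Fintype F] :
    ∃ k : F, k ≠ 0 ∧ ∀ x : F, x ≠ 0 → ∃ m : ℕ, x = k ^ m := by
  classical
  obtain ⟨g, hg⟩ := IsCyclic.exists_generator (α := Fˣ)
  refine ⟨(g : F), Units.ne_zero g, fun x hx => ?_⟩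
  have h1 : Units.mk0 x hx ∈ Subgroup.zpowers g := hg _
  rw [← mem_powers_iff_mem_zpowers] at h1
  obtain ⟨m, hm⟩ := h1
  refine ⟨m, ?_⟩
  have := congrArg (fun u : Fˣ => (u : F)) hm
  simpa using this.symm

theorem field_gen_ne_one [Fintype F] (hcard : 2 < Fintype.card F) (k : F)
    (hgen : ∀ x : F, x ≠ 0 → ∃ m : ℕ, x = k ^ m) : k ≠ 1 := by
  classical
  intro hk
  subst hk
  have hall : ∀ x : F, x = 0 ∨ x = 1 := by
    intro x
    by_cases hx : x = 0
    · exact Or.inl hx
    · obtain ⟨m, hm⟩ := hgen x hx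
      right; simpa using hm
  have : Fintype.card F ≤ 2 := by
    have hsub : (Finset.univ : Finset F) ⊆ {0, 1} := by
      intro x _
      rcases hall x with rfl | rfl <;> simp
    calc Fintype.card F = (Finset.univ : Finset F).card := rfl
      _ ≤ ({0, 1} : Finset F).card := Finset.card_le_card hsub
      _ ≤ 2 := Finset.card_le_two
  omega

theorem wGL_mem_group' (D : ChevalleyDatum) (hD : D ∈ Seven) (w : List ℕ) (hw : ∀ i ∈ w, i < D.rank) :
    (wGL D hD w : GL D.Idx F) ∈ D.group F :=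
  monomial_le_group D hD (wGL_mem D hD w hw)

/-- packaging one type -/
theorem twoGenT_pack [Fintype F] (D : ChevalleyDatum) (hD : D ∈ Seven) (hcard : 2 < Fintype.card F)
    (w : List ℕ) (i0 s s' t r0 j : ℕ) (hdata : dataOK D w i0 s s' t r0 j = true)
    (steps : List Step) (hcert : certOK D w [] [s, s'] steps = true) :
    ∃ a b : GL D.Idx F, a ∈ D.group F ∧ b ∈ D.group F ∧ D.group F ≤ Subgroup.closure {a, b} := by
  classical
  obtain ⟨p, hp⟩ := CharP.exists F
  have := hp
  have : Fact p.Prime := ⟨CharP.char_is_prime F p⟩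
  obtain ⟨k, hk0, hgen⟩ := exists_field_gen (F := F)
  have hk1 := field_gen_ne_one hcard k hgen
  have hw : ∀ i ∈ w, i < D.rank := by
    simp only [dataOK, Bool.and_eq_true, List.all_eq_true, decide_eq_true_eq] at hdata
    exact hdata.1.1.1.1.1.1.1.1.1.1.1
  refine ⟨hGL D hD (D.simple i0) k * xGL D hD s 1, xGL D hD s' 1 * wGL D hD w, ?_, ?_,
    twoGenT D hD p k hk0 hk1 hgen w i0 s s' t r0 j hdata steps hcert⟩
  · exact (D.group F).mul_mem (wordGL_mem_group D hD _) (xGL_mem_group D hD s 1)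
  · exact (D.group F).mul_mem (xGL_mem_group D hD s' 1) (wGL_mem_group' D hD w hw)

theorem dataT_B2 : dataOK chevB2 wordT_B2 1 7 5 1 4 3 = true := by decide
theorem dataT_G2 : dataOK chevG2 wordT_G2 1 9 10 0 4 2 = true := by decide
theorem dataT_D4 : dataOK chevD4 wordT_D4 1 2 13 7 8 5 = true := by decide
theorem dataT_F4 : dataOK chevF4 wordT_F4 3 27 41 21 35 11 = true := by decide
theorem dataT_E6 : dataOK chevE6 wordT_E6 3 36 40 54 8 11 = true := by decide
theorem dataT_E7 : dataOK chevE7 wordT_E7 4 63 67 70 51 16 = true := by decide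
theorem dataT_E8 : dataOK chevE8 wordT_E8 5 120 124 127 96 27 = true := by decide

/-- two-generation over fields with more than two elements -/
theorem twoGenT_all [Fintype F] (D : ChevalleyDatum) (hD : D ∈ Seven) (hcard : 2 < Fintype.card F) :
    ∃ a b : GL D.Idx F, a ∈ D.group F ∧ b ∈ D.group F ∧ D.group F ≤ Subgroup.closure {a, b} := by
  have hD' := hD
  simp only [Seven, List.mem_cons, List.not_mem_nil, or_false] at hD
  rcases hD with rfl | rfl | rfl | rfl | rfl | rfl | rfl
  · exact twoGenT_pack chevG2 hD' hcard wordT_G2 1 9 10 0 4 2 dataT_G2 stepsT_G2 certT_G2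
  · exact twoGenT_pack chevB2 hD' hcard wordT_B2 1 7 5 1 4 3 dataT_B2 stepsT_B2 certT_B2
  · exact twoGenT_pack chevD4 hD' hcard wordT_D4 1 2 13 7 8 5 dataT_D4 stepsT_D4 certT_D4
  · exact twoGenT_pack chevF4 hD' hcard wordT_F4 3 27 41 21 35 11 dataT_F4 stepsT_F4 certT_F4
  · exact twoGenT_pack chevE6 hD' hcard wordT_E6 3 36 40 54 8 11 dataT_E6 stepsT_E6 certT_E6
  · exact twoGenT_pack chevE7 hD' hcard wordT_E7 4 63 67 70 51 16 dataT_E7 stepsT_E7 certT_E7
  · exact twoGenT_pack chevE8 hD' hcard wordT_E8 5 120 124 127 96 27 dataT_E8 stepsT_E8 certT_E8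

end Cfsg.Agent.Lib.Helper1.TG
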