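import Mathlib

set_option autoImplicit false

/-!
# Farm TGS (S3161), (S3): additive and bi-additive maps of a finite field of characteristic 2 that are
equivariant for a generator of the multiplicative group.  Also `frob_basis`: the additive maps of a field with
`2 ^ n` elements are exactly the linearized polynomials `∑ i < n, c i * x ^ 2 ^ i`, uniquely.
-/

namespace Cfsg.Agent.Lib.Helper1.TGSU2

open Module

theorem charP_two_of_card {F : Type*} [Field F] [Fintype F] (n : ℕ)
    (hq : Fintype.card F = 2 ^ n) : CharP F 2 := by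
  obtain ⟨p, hp⟩ := CharP.exists F
  obtain ⟨k, hprime, hk⟩ := FiniteField.card F p
  have h1 : p ∣ 2 ^ n := by
    rw [← hq, hk]
    exact dvd_pow_self p k.ne_zero
  have h2 : p ∣ 2 := hprime.dvd_of_dvd_pow h1
  have h3 : p = 2 := (Nat.prime_dvd_prime_iff_eq hprime Nat.prime_two).mp h2
  rw [← h3]; exact hp

section
variable {F : Type*} [Field F] [Fintype F]

/-- Linear independence of the Frobenius powers `x ↦ x ^ 2 ^ i`, `i < n`, and spanning. -/
theorem frob_basis (n : ℕ) (hq : Fintype.card F = 2 ^ n) :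
    (∀ c : Fin n → F, (∀ x : F, ∑ i, c i * x ^ 2 ^ (i : ℕ) = 0) → ∀ i, c i = 0) ∧
    (∀ f : F → F, (∀ x y, f (x + y) = f x + f y) →
      ∃ c : Fin n → F, ∀ x : F, f x = ∑ i, c i * x ^ 2 ^ (i : ℕ)) := by
  classical
  have : CharP F 2 := charP_two_of_card n hq
  let _ : Algebra (ZMod 2) F := ZMod.algebra F 2
  have hd : finrank (ZMod 2) F = n := by
    have h1 : Fintype.card F = Fintype.card (ZMod 2) ^ finrank (ZMod 2) F :=
      Module.card_eq_pow_finrank
    rw [ZMod.card, hq] at h1
    exact (Nat.pow_right_injective (le_refl 2) h1).symm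
  -- the family of linear maps
  let φ : Fin n → (F →ₐ[ZMod 2] F) := fun i => (FiniteField.frobeniusAlgHom (ZMod 2) F) ^ (i : ℕ)
  have hφapply : ∀ (i : Fin n) (x : F), φ i x = x ^ 2 ^ (i : ℕ) := by
    intro i x
    show ((FiniteField.frobeniusAlgHom (ZMod 2) F) ^ (i : ℕ)) x = _
    rw [AlgHom.coe_pow, FiniteField.coe_frobeniusAlgHom, pow_iterate, ZMod.card]
  have hφinj : Function.Injective φ := by
    have hb := (FiniteField.bijective_frobeniusAlgHom_pow (ZMod 2) F).1
    intro i j hij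
    have := @hb (Fin.cast hd.symm i) (Fin.cast hd.symm j) (by simpa using hij)
    exact Fin.cast_injective _ this
  let v : Fin n → (F →ₗ[ZMod 2] F) := fun i => (φ i).toLinearMap
  have hvli : LinearIndependent F v :=
    (linearIndependent_toLinearMap (ZMod 2) F F).comp φ hφinj
  have hcard : Fintype.card (Fin n) = finrank F (F →ₗ[ZMod 2] F) := by
    rw [Fintype.card_fin, Module.finrank_linearMap_self, hd]
  have hspan : Submodule.span F (Set.range v) = ⊤ :=
    hvli.span_eq_top_of_card_eq_finrank' hcard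
  constructor
  · intro c hc
    have h0 : ∑ i, c i • v i = 0 := by
      apply LinearMap.ext
      intro x
      rw [LinearMap.sum_apply, LinearMap.zero_apply, ← hc x]
      apply Finset.sum_congr rfl
      intro i _
      rw [LinearMap.smul_apply, smul_eq_mul]
      congr 1
      exact hφapply i x
    exact Fintype.linearIndependent_iff.mp hvli c h0
  · intro f hadd
    let g : F →ₗ[ZMod 2] F := (AddMonoidHom.mk' f hadd).toZModLinearMap 2
    have hg : g ∈ Submodule.span F (Set.range v) := by rw [hspan]; trivial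
    obtain ⟨c, hc⟩ := (Submodule.mem_span_range_iff_exists_fun F).mp hg
    refine ⟨c, fun x => ?_⟩
    have : g x = (∑ i, c i • v i) x := by rw [hc]
    rw [LinearMap.sum_apply] at this
    have hgx : g x = f x := rfl
    rw [← hgx, this]
    apply Finset.sum_congr rfl
    intro i _
    rw [LinearMap.smul_apply, smul_eq_mul]
    congr 1
    exact hφapply i x

end

/-- (S3a) additive equivariant maps of the line are scalar. -/
theorem additive_equivariant {F : Type*} [Field F] (lam : F)
    (hgen : ∀ x : F, x ≠ 0 → ∃ k : ℕ, x = lam ^ k) (f : F → F)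
    (hadd : ∀ x y, f (x + y) = f x + f y) (heq : ∀ x, f (lam * x) = lam * f x) :
    ∀ x, f x = f 1 * x := by
  have h0 : f 0 = 0 := by
    have := hadd 0 0
    rw [add_zero] at this
    exact left_eq_add.mp this
  have hpow : ∀ k : ℕ, f (lam ^ k) = f 1 * lam ^ k := by
    intro k
    induction k with
    | zero => rw [pow_zero, mul_one]
    | succ k ih => rw [pow_succ', heq, ih]; ring
  intro x
  by_cases hx : x = 0
  · rw [hx, h0, mul_zero]
  · obtain ⟨k, rfl⟩ := hgen x hx
    exact hpow k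

section
variable {F : Type*} [Field F] [Fintype F]

theorem exponent_eq (n i j : ℕ) (hi : i < n) (hj : j < n) (h : 2 ^ n - 1 ∣ 2 ^ i + 2 ^ j - 1) :
    i = n - 1 ∧ j = n - 1 := by
  have hn : 1 ≤ n := by omega
  have h2n : 2 ^ n = 2 * 2 ^ (n - 1) := by
    rw [← pow_succ']; congr 1; omega
  have hi' : 2 ^ i ≤ 2 ^ (n - 1) := Nat.pow_le_pow_right (by norm_num) (by omega)
  have hj' : 2 ^ j ≤ 2 ^ (n - 1) := Nat.pow_le_pow_right (by norm_num) (by omega)
  have hi1 : 1 ≤ 2 ^ i := Nat.one_le_two_pow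
  have hj1 : 1 ≤ 2 ^ j := Nat.one_le_two_pow
  have hpos : 0 < 2 ^ i + 2 ^ j - 1 := by omega
  have hle := Nat.le_of_dvd hpos h
  have hi2 : 2 ^ i = 2 ^ (n - 1) := by omega
  have hj2 : 2 ^ j = 2 ^ (n - 1) := by omega
  exact ⟨Nat.pow_right_injective (le_refl 2) hi2, Nat.pow_right_injective (le_refl 2) hj2⟩

/-- (S3b) bi-additive equivariant maps of the line. -/
theorem biadditive_equivariant (n : ℕ) (hq : Fintype.card F = 2 ^ n) (lam : F)
    (hgen : ∀ x : F, x ≠ 0 → ∃ k : ℕ, x = lam ^ k) (b : F → F → F)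
    (hl : ∀ x x2 y, b (x + x2) y = b x y + b x2 y) (hr : ∀ x y y2, b x (y + y2) = b x y + b x y2)
    (heq : ∀ x y, b (lam * x) (lam * y) = lam * b x y) :
    ∃ c : F, ∀ x y, b (x ^ 2) (y ^ 2) = c * x * y := by
  classical
  have hb0l : ∀ y, b 0 y = 0 := by
    intro y
    have := hl 0 0 y
    rw [add_zero] at this
    exact left_eq_add.mp this
  have hb0r : ∀ x, b x 0 = 0 := by
    intro x
    have := hr x 0 0
    rw [add_zero] at this
    exact left_eq_add.mp this
  by_cases hlam : lam = 0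
  · -- then every nonzero element is `1`
    have h1 : ∀ x : F, x ≠ 0 → x = 1 := by
      intro x hx
      obtain ⟨k, rfl⟩ := hgen x hx
      rcases Nat.eq_zero_or_pos k with hk | hk
      · rw [hk, pow_zero]
      · exfalso; apply hx; rw [hlam, zero_pow hk.ne']
    refine ⟨b 1 1, fun x y => ?_⟩
    by_cases hx : x = 0
    · rw [hx]; simp [hb0l]
    by_cases hy : y = 0
    · rw [hy]; simp [hb0r]
    rw [h1 x hx, h1 y hy]; simp
  obtain ⟨hLI, hSpan⟩ := frob_basis (F := F) n hq
  have hn : 1 ≤ n := by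
    rcases Nat.eq_zero_or_pos n with h0 | h0
    · exfalso
      rw [h0, pow_zero] at hq
      have := Fintype.one_lt_card (α := F)
      omega
    · exact h0
  -- Step 1
  have h1 : ∀ y, ∃ c : Fin n → F, ∀ x, b x y = ∑ i, c i * x ^ 2 ^ (i : ℕ) :=
    fun y => hSpan (fun x => b x y) (fun x x2 => hl x x2 y)
  choose cf hcf using h1
  -- Step 2
  have h2 : ∀ y y2 i, cf (y + y2) i = cf y i + cf y2 i := by
    intro y y2
    have := hLI (fun i => cf (y + y2) i - cf y i - cf y2 i) (by
      intro x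
      have e1 : ∑ i, (cf (y + y2) i - cf y i - cf y2 i) * x ^ 2 ^ (i : ℕ)
          = ∑ i, cf (y + y2) i * x ^ 2 ^ (i : ℕ) - ∑ i, cf y i * x ^ 2 ^ (i : ℕ)
            - ∑ i, cf y2 i * x ^ 2 ^ (i : ℕ) := by
        rw [← Finset.sum_sub_distrib, ← Finset.sum_sub_distrib]
        apply Finset.sum_congr rfl
        intro i _; ring
      rw [e1, ← hcf, ← hcf, ← hcf, hr]; ring)
    intro i
    have := this i
    rw [sub_sub, sub_eq_zero] at this
    exact this
  -- Step 3
  have h3 : ∀ i, ∃ C : Fin n → F, ∀ y, cf y i = ∑ j, C j * y ^ 2 ^ (j : ℕ) :=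
    fun i => hSpan (fun y => cf y i) (fun y y2 => h2 y y2 i)
  choose C hC using h3
  -- Step 4
  have h4 : ∀ i j, C i j * (lam ^ (2 ^ (i : ℕ) + 2 ^ (j : ℕ)) - lam) = 0 := by
    intro i
    have key : ∀ y, ∑ j, (C i j * (lam ^ (2 ^ (i : ℕ) + 2 ^ (j : ℕ)) - lam)) * y ^ 2 ^ (j : ℕ) = 0 := by
      intro y
      have := hLI (fun i => cf (lam * y) i * lam ^ 2 ^ (i : ℕ) - lam * cf y i) (by
        intro x
        have e1 : ∑ i, (cf (lam * y) i * lam ^ 2 ^ (i : ℕ) - lam * cf y i) * x ^ 2 ^ (i : ℕ)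
            = ∑ i, cf (lam * y) i * (lam * x) ^ 2 ^ (i : ℕ) - lam * ∑ i, cf y i * x ^ 2 ^ (i : ℕ) := by
          rw [Finset.mul_sum, ← Finset.sum_sub_distrib]
          apply Finset.sum_congr rfl
          intro i _; rw [mul_pow]; ring
        rw [e1, ← hcf, ← hcf, heq]; ring)
      have hi : cf (lam * y) i * lam ^ 2 ^ (i : ℕ) - lam * cf y i = 0 := this i
      rw [hC, hC] at hi
      rw [← hi]
      rw [Finset.sum_mul, Finset.mul_sum, ← Finset.sum_sub_distrib]
      apply Finset.sum_congr rfl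
      intro j _
      rw [mul_pow, pow_add]; ring
    exact fun j => hLI _ key j
  -- Step 5
  have hcardU : ∀ m : ℕ, lam ^ m = 1 → Fintype.card F - 1 ∣ m := by
    intro m hm
    rw [← FiniteField.forall_pow_eq_one_iff F m]
    intro u
    obtain ⟨k, hk⟩ := hgen (u : F) u.ne_zero
    apply Units.ext
    rw [Units.val_pow_eq_pow_val, hk, ← pow_mul, mul_comm, pow_mul, hm, one_pow, Units.val_one]
  have h5 : ∀ i j : Fin n, C i j ≠ 0 → (i : ℕ) = n - 1 ∧ (j : ℕ) = n - 1 := by
    intro i j hCij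
    have e1 : lam ^ (2 ^ (i : ℕ) + 2 ^ (j : ℕ)) = lam := by
      rcases mul_eq_zero.mp (h4 i j) with h | h
      · exact absurd h hCij
      · exact sub_eq_zero.mp h
    have hpos : 1 ≤ 2 ^ (i : ℕ) + 2 ^ (j : ℕ) := by
      have h1 : 1 ≤ 2 ^ (i : ℕ) := Nat.one_le_two_pow
      exact le_trans h1 (Nat.le_add_right _ _)
    have e2 : lam ^ (2 ^ (i : ℕ) + 2 ^ (j : ℕ) - 1) = 1 := by
      have : lam ^ (2 ^ (i : ℕ) + 2 ^ (j : ℕ) - 1) * lam = 1 * lam := by
        rw [← pow_succ, Nat.sub_add_cancel hpos, e1, one_mul]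
      exact mul_right_cancel₀ hlam this
    have e3 := hcardU _ e2
    rw [hq] at e3
    exact exponent_eq n i j i.2 j.2 e3
  -- Step 6
  let k : Fin n := ⟨n - 1, by omega⟩
  refine ⟨C k k, fun x y => ?_⟩
  have hx : ∀ z : F, z ^ 2 ^ n = z := by
    intro z
    rw [← hq]; exact FiniteField.pow_card z
  have e1 : ∀ x y : F, b x y = C k k * y ^ 2 ^ (n - 1) * x ^ 2 ^ (n - 1) := by
    intro x y
    rw [hcf]
    rw [Finset.sum_eq_single k]
    · rw [hC, Finset.sum_eq_single k]
      · intro j _ hj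
        by_cases hCkj : C k j = 0
        · rw [hCkj, zero_mul]
        · exfalso
          apply hj
          exact Fin.ext (h5 k j hCkj).2
      · intro h; exact absurd (Finset.mem_univ k) h
    · intro i _ hi
      rw [hC]
      have : ∀ j, C i j = 0 := by
        intro j
        by_contra hCij
        apply hi
        exact Fin.ext (h5 i j hCij).1
      simp [this]
    · intro h; exact absurd (Finset.mem_univ k) h
  rw [e1]
  have e2 : ∀ z : F, (z ^ 2) ^ 2 ^ (n - 1) = z := by
    intro z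
    rw [← pow_mul, ← pow_succ', Nat.sub_add_cancel hn]
    exact hx z
  rw [e2, e2]; ring


/-- (S3c) alternating bi-additive equivariant maps of the line vanish. -/
theorem alternating_equivariant_zero (n : ℕ) (hq : Fintype.card F = 2 ^ n) (lam : F)
    (hgen : ∀ x : F, x ≠ 0 → ∃ k : ℕ, x = lam ^ k) (b : F → F → F)
    (hl : ∀ x x2 y, b (x + x2) y = b x y + b x2 y) (hr : ∀ x y y2, b x (y + y2) = b x y + b x y2)
    (heq : ∀ x y, b (lam * x) (lam * y) = lam * b x y) (halt : ∀ x, b x x = 0) :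
    ∀ x y, b x y = 0 := by
  obtain ⟨c, hc⟩ := biadditive_equivariant n hq lam hgen b hl hr heq
  have hc0 : c = 0 := by
    have := hc 1 1
    rw [one_pow, halt, mul_one, mul_one] at this
    exact this.symm
  have hn : 1 ≤ n := by
    rcases Nat.eq_zero_or_pos n with h0 | h0
    · exfalso
      rw [h0, pow_zero] at hq
      have := Fintype.one_lt_card (α := F)
      omega
    · exact h0
  have hsq : ∀ z : F, ∃ w : F, w ^ 2 = z := by
    intro z
    refine ⟨z ^ 2 ^ (n - 1), ?_⟩
    rw [← pow_mul, ← pow_succ, Nat.sub_add_cancel hn, ← hq]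
    exact FiniteField.pow_card z
  intro x y
  obtain ⟨u, rfl⟩ := hsq x
  obtain ⟨w, rfl⟩ := hsq y
  rw [hc, hc0, zero_mul, zero_mul]

end

end Cfsg.Agent.Lib.Helper1.TGSU2
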