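import Mathlib

/-!
# Farm TGS (S3161), (S3) in the `mu ^ 2`-form: additive and bi-additive maps `F → F` of a finite field of
characteristic 2 with `f (mu * x) = mu ^ 2 * f x`, resp. `b (mu * x) (mu * y) = mu ^ 2 * b x y`, for a generator
`mu` of the multiplicative group.
-/

set_option autoImplicit false

namespace Cfsg.Agent.Lib.Helper1.TGSU2b

variable {F : Type*} [Field F]

/-- (a') -/
theorem additive_sq_equivariant (mu : F)
    (hgen : ∀ x : F, x ≠ 0 → ∃ k : ℕ, x = mu ^ k) (f : F → F)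
    (hadd : ∀ x y, f (x + y) = f x + f y) (heq : ∀ x, f (mu * x) = mu ^ 2 * f x) :
    ∀ x, f x = f 1 * x ^ 2 := by
  have h0 : f 0 = 0 := by
    have := hadd 0 0
    rw [add_zero] at this
    exact left_eq_add.mp this
  have hpow : ∀ k : ℕ, f (mu ^ k) = f 1 * (mu ^ k) ^ 2 := by
    intro k
    induction k with
    | zero => rw [pow_zero, one_pow, mul_one]
    | succ k ih => rw [pow_succ', heq, ih]; ring
  intro x
  by_cases hx : x = 0
  · rw [hx, h0]; ring
  · obtain ⟨k, rfl⟩ := hgen x hx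
    exact hpow k

/-- all scalars act by their square -/
theorem scale_all (mu : F) (hgen : ∀ x : F, x ≠ 0 → ∃ k : ℕ, x = mu ^ k) (b : F → F → F)
    (hl : ∀ x x2 y, b (x + x2) y = b x y + b x2 y)
    (heq : ∀ x y, b (mu * x) (mu * y) = mu ^ 2 * b x y) :
    ∀ nu x y : F, b (nu * x) (nu * y) = nu ^ 2 * b x y := by
  have hb0l : ∀ y, b 0 y = 0 := by
    intro y
    have := hl 0 0 y
    rw [add_zero] at this
    exact left_eq_add.mp this
  have hpow : ∀ (k : ℕ) (x y : F), b (mu ^ k * x) (mu ^ k * y) = (mu ^ k) ^ 2 * b x y := by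
    intro k
    induction k with
    | zero => intro x y; simp
    | succ k ih =>
      intro x y
      rw [pow_succ', mul_assoc, mul_assoc, heq, ih]; ring
  intro nu x y
  by_cases hnu : nu = 0
  · rw [hnu, zero_mul, hb0l]; ring
  · obtain ⟨k, rfl⟩ := hgen nu hnu
    exact hpow k x y

section
variable [Finite F] [CharP F 2]

/-- (b') -/
theorem biadditive_sq_equivariant (mu : F) (hgen : ∀ x : F, x ≠ 0 → ∃ k : ℕ, x = mu ^ k)
    (b : F → F → F)
    (hl : ∀ x x2 y, b (x + x2) y = b x y + b x2 y) (hr : ∀ x y y2, b x (y + y2) = b x y + b x y2)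
    (heq : ∀ x y, b (mu * x) (mu * y) = mu ^ 2 * b x y) :
    ∀ x y, b x y = b 1 1 * x * y := by
  have hall := scale_all mu hgen b hl heq
  have h2 : (2 : F) = 0 := CharP.ofNat_eq_zero F 2
  have hneg : ∀ a : F, a + a = 0 := by
    intro a
    have : a + a = 2 * a := by ring
    rw [this, h2, zero_mul]
  -- balanced
  have hbal : ∀ nu x y : F, b (nu * x) y = b x (nu * y) := by
    intro nu x y
    have e1 := hall (nu + 1) x y
    have e2 : b ((nu + 1) * x) ((nu + 1) * y)
        = b (nu * x) (nu * y) + b (nu * x) y + (b x (nu * y) + b x y) := by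
      rw [add_mul, add_mul, one_mul, one_mul, hl, hr, hr]
    rw [e2, hall nu x y] at e1
    have e3 : (nu + 1) ^ 2 = nu ^ 2 + 1 := by
      have : (nu + 1) ^ 2 = nu ^ 2 + 2 * nu + 1 := by ring
      rw [this, h2, zero_mul, add_zero]
    rw [e3] at e1
    have e4 : b (nu * x) y + b x (nu * y) = 0 := by
      have : nu ^ 2 * b x y + b (nu * x) y + (b x (nu * y) + b x y)
          = (b (nu * x) y + b x (nu * y)) + (nu ^ 2 + 1) * b x y := by ring
      rw [this] at e1
      exact add_eq_right.mp e1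
    have e5 : b (nu * x) y = b (nu * x) y + (b x (nu * y) + b x (nu * y)) := by
      rw [hneg, add_zero]
    rw [e5, ← add_assoc, e4, zero_add]
  intro x y
  -- b x y = b 1 (x*y)
  have e1 : b x y = b 1 (x * y) := by
    have := hbal x 1 y
    rw [mul_one] at this
    exact this
  -- squares
  obtain ⟨w, hw⟩ := FiniteField.isSquare_of_char_two (ringChar.eq F 2) (x * y)
  have e2 : b 1 (w * w) = w ^ 2 * b 1 1 := by
    have h1 := hbal w 1 w
    rw [mul_one] at h1
    rw [← h1]
    have h3 := hall w 1 1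
    rw [mul_one] at h3
    exact h3
  rw [e1, hw, e2, mul_assoc (b 1 1) x y, hw]; ring

/-- (c') -/
theorem alternating_sq_equivariant_zero (mu : F) (hgen : ∀ x : F, x ≠ 0 → ∃ k : ℕ, x = mu ^ k)
    (b : F → F → F)
    (hl : ∀ x x2 y, b (x + x2) y = b x y + b x2 y) (hr : ∀ x y y2, b x (y + y2) = b x y + b x y2)
    (heq : ∀ x y, b (mu * x) (mu * y) = mu ^ 2 * b x y) (halt : ∀ x, b x x = 0) :
    ∀ x y, b x y = 0 := by
  intro x y
  rw [biadditive_sq_equivariant mu hgen b hl hr heq x y, halt 1, zero_mul, zero_mul]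

end

end Cfsg.Agent.Lib.Helper1.TGSU2b
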