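import Mathlib
import Cfsg.Agent.Lib.Helper3.TGSDefs
import Cfsg.Agent.Lib.Helper1.TGSU2

/-!
# Farm TGS (S3161), unit U6b2: the squaring map in square-root coordinates.
-/

set_option autoImplicit false

namespace Cfsg.Agent.Lib.Helper1.TGSU6b2

open Cfsg.Agent.Lib.Helper3.TGSDefs

variable {F : Type} [Field F] [Fintype F] [CharP F 2] {mu : F}

/-- U6b2 -/
theorem U6b2_form (hmu : ∀ x : F, x ≠ 0 → ∃ k : ℕ, x = mu ^ k) (S : F → F → F)
    (polar : ∀ x w x₁ w₁ x₂ w₂ : F,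
      S (x + x₁ + x₂) (w + w₁ + w₂) + S (x + x₁) (w + w₁) + S x₂ w₂ =
        (S (x + x₂) (w + w₂) + S x w + S x₂ w₂) + (S (x₁ + x₂) (w₁ + w₂) + S x₁ w₁ + S x₂ w₂))
    (equiv : ∀ x w, S (mu ^ 2 * x) (mu ^ 2 * w) = mu ^ 2 * S x w)
    (alpha : ∀ x w, S (x + w) w = S x w) :
    ∃ c a₃ : F, ∀ s t : F, S (s ^ 2) (t ^ 2) = c * s ^ 2 + c * s * t + a₃ * t ^ 2 := by
  obtain ⟨n, -, hq⟩ := FiniteField.card F 2
  have hgen := gen_sq hmu
  have hself : ∀ a : F, a + a = 0 := fun a => CharTwo.add_self_eq_zero a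
  -- S 0 0 = 0
  have hS0 : S 0 0 = 0 := by
    have := polar 0 0 0 0 0 0
    simp only [add_zero] at this
    -- S0 + S0 + S0 = (S0+S0+S0) + (S0+S0+S0)
    have e : S 0 0 + S 0 0 + S 0 0 = S 0 0 := by rw [hself, zero_add]
    rw [e, hself] at this
    exact this
  -- the polar form
  let Pf : F → F → F → F → F := fun x w x' w' => S (x + x') (w + w') + S x w + S x' w'
  have hP1 : ∀ x w x₁ w₁ x₂ w₂, Pf (x + x₁) (w + w₁) x₂ w₂ = Pf x w x₂ w₂ + Pf x₁ w₁ x₂ w₂ :=
    fun x w x₁ w₁ x₂ w₂ => polar x w x₁ w₁ x₂ w₂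
  have hPsymm : ∀ x w x' w', Pf x w x' w' = Pf x' w' x w := by
    intro x w x' w'
    show S (x + x') (w + w') + S x w + S x' w' = S (x' + x) (w' + w) + S x' w' + S x w
    rw [add_comm x x', add_comm w w']; ring
  have hP2 : ∀ x w x₁ w₁ x₂ w₂, Pf x₂ w₂ (x + x₁) (w + w₁) = Pf x₂ w₂ x w + Pf x₂ w₂ x₁ w₁ := by
    intro x w x₁ w₁ x₂ w₂
    rw [hPsymm, hP1, hPsymm x w, hPsymm x₁ w₁]
  have hPalt : ∀ x w, Pf x w x w = 0 := by
    intro x w
    show S (x + x) (w + w) + S x w + S x w = 0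
    rw [hself, hself, hS0, zero_add, hself]
  have hPeq : ∀ x w x' w', Pf (mu ^ 2 * x) (mu ^ 2 * w) (mu ^ 2 * x') (mu ^ 2 * w')
      = mu ^ 2 * Pf x w x' w' := by
    intro x w x' w'
    show S (mu ^ 2 * x + mu ^ 2 * x') (mu ^ 2 * w + mu ^ 2 * w') + S (mu ^ 2 * x) (mu ^ 2 * w)
      + S (mu ^ 2 * x') (mu ^ 2 * w') = mu ^ 2 * (S (x + x') (w + w') + S x w + S x' w')
    rw [← mul_add, ← mul_add, equiv, equiv, equiv]; ring
  -- f₁ x = S x 0 is additive
  have hb1 : ∀ x x', Pf x 0 x' 0 = 0 := by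
    apply Cfsg.Agent.Lib.Helper1.TGSU2.alternating_equivariant_zero (n : ℕ) hq (mu ^ 2) hgen
      (fun x x' => Pf x 0 x' 0)
    · intro x x2 y
      have := hP1 x 0 x2 0 y 0
      rw [add_zero] at this
      exact this
    · intro x y y2
      have := hP2 y 0 y2 0 x 0
      rw [add_zero] at this
      exact this
    · intro x y
      have := hPeq x 0 y 0
      rw [mul_zero] at this
      exact this
    · intro x; exact hPalt x 0
  have hf1add : ∀ x x', S (x + x') 0 = S x 0 + S x' 0 := by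
    intro x x'
    have h := hb1 x x'
    have h' : S (x + x') (0 + 0) + S x 0 + S x' 0 = 0 := h
    rw [add_zero, add_assoc] at h'
    have : S (x + x') 0 = S (x + x') 0 + ((S x 0 + S x' 0) + (S x 0 + S x' 0)) := by
      rw [hself, add_zero]
    rw [this, ← add_assoc, h', zero_add]
  have hf1 : ∀ x, S x 0 = S 1 0 * x := by
    apply Cfsg.Agent.Lib.Helper1.TGSU2.additive_equivariant (mu ^ 2) hgen (fun x => S x 0) hf1add
    intro x
    have := equiv x 0
    rw [mul_zero] at this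
    exact this
  -- f₂ w = S 0 w
  have hb2 : ∀ w w', Pf 0 w 0 w' = 0 := by
    apply Cfsg.Agent.Lib.Helper1.TGSU2.alternating_equivariant_zero (n : ℕ) hq (mu ^ 2) hgen
      (fun w w' => Pf 0 w 0 w')
    · intro x x2 y
      have := hP1 0 x 0 x2 0 y
      rw [add_zero] at this
      exact this
    · intro x y y2
      have := hP2 0 y 0 y2 0 x
      rw [add_zero] at this
      exact this
    · intro x y
      have := hPeq 0 x 0 y
      rw [mul_zero] at this
      exact this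
    · intro x; exact hPalt 0 x
  have hf2add : ∀ w w', S 0 (w + w') = S 0 w + S 0 w' := by
    intro w w'
    have h := hb2 w w'
    have h' : S (0 + 0) (w + w') + S 0 w + S 0 w' = 0 := h
    rw [add_zero, add_assoc] at h'
    have : S 0 (w + w') = S 0 (w + w') + ((S 0 w + S 0 w') + (S 0 w + S 0 w')) := by
      rw [hself, add_zero]
    rw [this, ← add_assoc, h', zero_add]
  have hf2 : ∀ w, S 0 w = S 0 1 * w := by
    apply Cfsg.Agent.Lib.Helper1.TGSU2.additive_equivariant (mu ^ 2) hgen (fun w => S 0 w) hf2add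
    intro w
    have := equiv 0 w
    rw [mul_zero] at this
    exact this
  -- the cross term
  obtain ⟨c, hc⟩ := Cfsg.Agent.Lib.Helper1.TGSU2.biadditive_equivariant (n : ℕ) hq (mu ^ 2) hgen
    (fun x w => Pf x 0 0 w)
    (by
      intro x x2 y
      have := hP1 x 0 x2 0 0 y
      rw [add_zero] at this
      exact this)
    (by
      intro x y y2
      have := hP2 0 y 0 y2 x 0
      rw [add_zero] at this
      exact this)
    (by
      intro x y
      have := hPeq x 0 0 y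
      rw [mul_zero] at this
      exact this)
  have hS : ∀ s t : F, S (s ^ 2) (t ^ 2) = c * s * t + S 1 0 * s ^ 2 + S 0 1 * t ^ 2 := by
    intro s t
    have h := hc s t
    have h' : S (s ^ 2 + 0) (0 + t ^ 2) + S (s ^ 2) 0 + S 0 (t ^ 2) = c * s * t := h
    rw [add_zero, zero_add, hf1, hf2] at h'
    have : S (s ^ 2) (t ^ 2) = (S (s ^ 2) (t ^ 2) + S 1 0 * s ^ 2 + S 0 1 * t ^ 2)
        + (S 1 0 * s ^ 2 + S 0 1 * t ^ 2) := by
      have e : S (s ^ 2) (t ^ 2) + S 1 0 * s ^ 2 + S 0 1 * t ^ 2 + (S 1 0 * s ^ 2 + S 0 1 * t ^ 2)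
          = S (s ^ 2) (t ^ 2) + ((S 1 0 * s ^ 2 + S 0 1 * t ^ 2) + (S 1 0 * s ^ 2 + S 0 1 * t ^ 2)) := by
        ring
      rw [e, hself, add_zero]
    rw [this, h']; ring
  -- alpha-invariance gives `S 1 0 = c`
  have hca : S 1 0 = c := by
    have h1 := alpha 0 1
    rw [zero_add] at h1
    -- S 1 1 = S 0 1
    have h2 := hS 1 1
    have h3 := hS 0 1
    rw [one_pow] at h2
    rw [one_pow] at h3
    have h0 : (0 : F) ^ 2 = 0 := by ring
    rw [h0] at h3
    rw [h1, h3] at h2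
    -- c*0*1 + S10*0 + S01*1 = c*1*1 + S10*1 + S01*1
    have h4 : c + S 1 0 = 0 := by
      have e : c * 0 * 1 + S 1 0 * 0 + S 0 1 * 1 = S 0 1 := by ring
      have e2 : c * 1 * 1 + S 1 0 * 1 + S 0 1 * 1 = (c + S 1 0) + S 0 1 := by ring
      rw [e, e2] at h2
      exact (add_eq_right.mp h2.symm)
    have : S 1 0 = S 1 0 + (c + c) := by rw [hself, add_zero]
    rw [this, ← add_assoc, add_comm (S 1 0) c, h4, zero_add]
  refine ⟨c, S 0 1, fun s t => ?_⟩
  rw [hS, hca]; ring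

end Cfsg.Agent.Lib.Helper1.TGSU6b2
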