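import Mathlib
import Cfsg.Agent.Lib.Helper3.TGSDefs

/-!
# Farm TGS (S3161): unit U6b3, conclusion of (S6)
-/

set_option autoImplicit false

namespace Cfsg.Agent.Lib.Helper1.TGSU6b3

open Cfsg.Agent.Lib.Helper3.TGSDefs

variable {F : Type} [Field F] [Fintype F] [CharP F 2] {mu : F}

/-- U6b3: conclusion of (S6). -/
theorem U6b3_struct (hmu : ∀ x : F, x ≠ 0 → ∃ k : ℕ, x = mu ^ k)
    {G : Type*} {B : Type*} [Group G] [Group B]
    {α ρ : MulAut G} {ι : F → G} (h : Hyp mu α ρ ι) (hcen : ∀ a g, ι a * g = g * ι a)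
    {α' ρ' : MulAut B} {p : G →* B} (hq : Quo α ρ α' ρ' p)
    {ι' : F → B} {X W : B → F} (hc : Coord2Data mu α' ρ' ι' X W)
    {S : F → F → F} (hS : SqData mu ι p X W S) (c a₃ : F)
    (hform : ∀ s t : F, S (s ^ 2) (t ^ 2) = c * s ^ 2 + c * s * t + a₃ * t ^ 2) :
    (∀ x y : G, x * y = y * x) ∨ Struct3 mu α ρ ι := by
  have hι0 : ι 0 = 1 := by
    have h0 := h.iota_add 0 0
    rw [add_zero] at h0
    exact left_eq_mul.mp h0
  have hSall : ∀ x w : F, S x w = c * x + c * sqrtF x * sqrtF w + a₃ * w := by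
    intro x w
    have h0 := hform (sqrtF x) (sqrtF w)
    rw [sqrtF_sq, sqrtF_sq] at h0
    exact h0
  by_cases hc0 : c = 0
  · left
    intro x y
    have h1 := hS.comm x y
    have h2 : S (X (p x) + X (p y)) (W (p x) + W (p y)) + S (X (p x)) (W (p x))
        + S (X (p y)) (W (p y)) = 0 := by
      simp only [hSall, hc0]
      have h2 : (2 : F) = 0 := CharTwo.two_eq_zero
      linear_combination (a₃ * W (p x) + a₃ * W (p y)) * h2
    rw [h2, hι0] at h1
    have h3 := mul_inv_eq_one.mp h1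
    exact mul_inv_eq_iff_eq_mul.mp h3
  · right
    have hr : sqrtF c ≠ 0 := fun h0 => hc0 (sqrtF_eq_zero h0)
    have hr2 : sqrtF c ^ 2 = c := sqrtF_sq c
    have hX1 : X 1 = 0 := by
      have h0 := hc.X_mul 1 1
      rw [mul_one] at h0
      exact left_eq_add.mp h0
    have hW1 : W 1 = 0 := by
      have h0 := hc.W_mul 1 1
      rw [mul_one] at h0
      exact left_eq_add.mp h0
    refine ⟨fun g => sqrtF c * sqrtF (X (p g)), fun g => sqrtF c * sqrtF (W (p g)), a₃ / c,
      ?_, ?_, ?_, ?_, ?_⟩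
    · refine ⟨h.iota_add, h.iota_inj, hcen, ?_, ?_, ?_, ?_, ?_⟩
      · intro g k
        show sqrtF c * sqrtF (X (p (g * k))) =
          sqrtF c * sqrtF (X (p g)) + sqrtF c * sqrtF (X (p k))
        rw [map_mul, hc.X_mul, sqrtF_add, mul_add]
      · intro g k
        show sqrtF c * sqrtF (W (p (g * k))) =
          sqrtF c * sqrtF (W (p g)) + sqrtF c * sqrtF (W (p k))
        rw [map_mul, hc.W_mul, sqrtF_add, mul_add]
      · intro a b
        obtain ⟨b', hb1, hb2⟩ := hc.surj ((a / sqrtF c) ^ 2) ((b / sqrtF c) ^ 2)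
        obtain ⟨g, rfl⟩ := hq.surj b'
        refine ⟨g, ?_, ?_⟩
        · show sqrtF c * sqrtF (X (p g)) = a
          rw [hb1, sqrtF_of_sq, mul_div_cancel₀ _ hr]
        · show sqrtF c * sqrtF (W (p g)) = b
          rw [hb2, sqrtF_of_sq, mul_div_cancel₀ _ hr]
      · intro g
        constructor
        · rintro ⟨h1, h2⟩
          have h1' : X (p g) = 0 := sqrtF_eq_zero ((mul_eq_zero.mp h1).resolve_left hr)
          have h2' : W (p g) = 0 := sqrtF_eq_zero ((mul_eq_zero.mp h2).resolve_left hr)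
          exact (h.iota_fix g).mp ((hq.ker g).mp (hc.inj _ h1' h2'))
        · rintro ⟨a, rfl⟩
          have h0 : p (ι a) = 1 := (hq.ker _).mpr ((h.iota_fix _).mpr ⟨a, rfl⟩)
          show sqrtF c * sqrtF (X (p (ι a))) = 0 ∧ sqrtF c * sqrtF (W (p (ι a))) = 0
          rw [h0, hX1, hW1, sqrtF_zero, mul_zero]
          exact ⟨rfl, rfl⟩
      · intro g
        rw [hS.sq g, hSall]
        congr 1
        show c * X (p g) + c * sqrtF (X (p g)) * sqrtF (W (p g)) + a₃ * W (p g) =
          sig (a₃ / c) (sqrtF c * sqrtF (X (p g))) (sqrtF c * sqrtF (W (p g)))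
        unfold sig
        have e1 := sqrtF_sq (X (p g))
        have e2 := sqrtF_sq (W (p g))
        rw [mul_pow, mul_pow, hr2, e1, e2]
        have e3 : sqrtF c * sqrtF (X (p g)) * (sqrtF c * sqrtF (W (p g))) =
            c * sqrtF (X (p g)) * sqrtF (W (p g)) := by
          linear_combination (sqrtF (X (p g)) * sqrtF (W (p g))) * hr2
        have e4 : a₃ / c * (c * W (p g)) = a₃ * W (p g) := by
          field_simp
        rw [e3, e4]
    · intro g
      show sqrtF c * sqrtF (X (p (ρ g))) = mu * (sqrtF c * sqrtF (X (p g)))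
      rw [← hq.rho, hc.X_rho, sqrtF_mul, sqrtF_of_sq]; ring
    · intro g
      show sqrtF c * sqrtF (W (p (ρ g))) = mu * (sqrtF c * sqrtF (W (p g)))
      rw [← hq.rho, hc.W_rho, sqrtF_mul, sqrtF_of_sq]; ring
    · intro g
      show sqrtF c * sqrtF (X (p (α g))) = sqrtF c * sqrtF (X (p g)) + sqrtF c * sqrtF (W (p g))
      rw [← hq.alpha, hc.X_alpha, sqrtF_add, mul_add]
    · intro g
      show sqrtF c * sqrtF (W (p (α g))) = sqrtF c * sqrtF (W (p g))
      rw [← hq.alpha, hc.W_alpha]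

end Cfsg.Agent.Lib.Helper1.TGSU6b3
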