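import Mathlib
import Cfsg.Agent.Lib.Helper3.TGSDefs

/-!
# Farm TGS (S3161): unit U7c, the final contradiction in (S7)
-/

set_option autoImplicit false

namespace Cfsg.Agent.Lib.Helper1.TGSU7c

open Cfsg.Agent.Lib.Helper3.TGSDefs

variable {F : Type} [Field F] [Fintype F] [CharP F 2] {mu : F}

/-- the commutator word `g u g⁻¹ u⁻¹` -/
def kk {G : Type*} [Group G] (g u : G) : G := g * u * g⁻¹ * u⁻¹

theorem comm4 {G : Type*} [Group G] (X Y' z Y : G) (h1 : Y' * z = z * Y') (h2 : Y * z = z * Y)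
    (h3 : Y' * Y = Y * Y') : X * Y' * z * Y = X * Y * z * Y' := by
  calc X * Y' * z * Y = X * (Y' * z) * Y := by group
    _ = X * (z * Y') * Y := by rw [h1]
    _ = X * z * (Y' * Y) := by group
    _ = X * z * (Y * Y') := by rw [h3]
    _ = X * (z * Y) * Y' := by group
    _ = X * (Y * z) * Y' := by rw [← h2]
    _ = X * Y * z * Y' := by group

section ext

variable {B : Type*} [Group B] {ι' : F → B} {β₁ β₂ : B → F} {τ : F}

theorem ext_iota_zero (hE : Ext3 (sig τ) ι' β₁ β₂) : ι' 0 = 1 := by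
  have h0 := hE.iota_add 0 0
  rw [add_zero] at h0
  exact left_eq_mul.mp h0

theorem ext_iota_inv (hE : Ext3 (sig τ) ι' β₁ β₂) (x : F) : (ι' x)⁻¹ = ι' x := by
  have h0 := hE.iota_add x x
  rw [CharTwo.add_self_eq_zero, ext_iota_zero hE] at h0
  exact inv_eq_of_mul_eq_one_right h0.symm

theorem b1_one (hE : Ext3 (sig τ) ι' β₁ β₂) : β₁ 1 = 0 := by
  have h0 := hE.b1_mul 1 1
  rw [mul_one] at h0
  exact left_eq_add.mp h0

theorem b2_one (hE : Ext3 (sig τ) ι' β₁ β₂) : β₂ 1 = 0 := by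
  have h0 := hE.b2_mul 1 1
  rw [mul_one] at h0
  exact left_eq_add.mp h0

theorem b1_inv (hE : Ext3 (sig τ) ι' β₁ β₂) (b : B) : β₁ b⁻¹ = β₁ b := by
  have h0 := hE.b1_mul b b⁻¹
  rw [mul_inv_cancel, b1_one hE] at h0
  exact (CharTwo.add_eq_zero.mp h0.symm).symm

theorem b2_inv (hE : Ext3 (sig τ) ι' β₁ β₂) (b : B) : β₂ b⁻¹ = β₂ b := by
  have h0 := hE.b2_mul b b⁻¹
  rw [mul_inv_cancel, b2_one hE] at h0
  exact (CharTwo.add_eq_zero.mp h0.symm).symm

theorem ext_comm (hE : Ext3 (sig τ) ι' β₁ β₂) (b c : B) :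
    b * c * b⁻¹ * c⁻¹ = ι' (β₁ b * β₂ c + β₁ c * β₂ b) := by
  have hcen : b * b * c = c * (b * b) := by
    have h0 := hE.sq b
    rw [pow_two] at h0
    rw [h0]; exact hE.central _ _
  have key : b * c * b⁻¹ * c⁻¹ * (c * c * (b * b)) = (b * c) * (b * c) := by
    calc b * c * b⁻¹ * c⁻¹ * (c * c * (b * b)) = b * c * b⁻¹ * (c * (b * b)) := by group
      _ = b * c * b⁻¹ * (b * b * c) := by rw [hcen]
      _ = (b * c) * (b * c) := by group
  have hb := hE.sq b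
  have hc := hE.sq c
  have hbc := hE.sq (b * c)
  rw [pow_two] at hb hc hbc
  rw [hb, hc, hbc, ← hE.iota_add, hE.b1_mul, hE.b2_mul] at key
  have h1 := eq_mul_inv_of_mul_eq key
  rw [h1, ext_iota_inv hE, ← hE.iota_add]
  congr 1
  unfold sig
  have h2 : (2 : F) = 0 := CharTwo.two_eq_zero
  linear_combination ((β₁ b) ^ 2 + (β₁ c) ^ 2 + β₁ b * β₁ c + β₁ b * β₂ b + β₁ c * β₂ c
    + τ * (β₂ b) ^ 2 + τ * (β₂ c) ^ 2 + τ * β₂ b * β₂ c) * h2

end ext

/-- U7c: in (S7), the final contradiction. -/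
theorem U7c_false (hq4 : ∃ x : F, x ≠ 0 ∧ x ≠ 1)
    {G : Type*} {B : Type*} [Group G] [Group B]
    {α ρ : MulAut G} {ι : F → G} (h : Hyp mu α ρ ι) (hcen : ∀ a g, ι a * g = g * ι a)
    {α' ρ' : MulAut B} {p : G →* B} (hq : Quo α ρ α' ρ' p)
    {ι' : F → B} (h' : Hyp mu α' ρ' ι')
    {β₁ β₂ : B → F} {τ : F} (hE : Ext3 (sig τ) ι' β₁ β₂)
    (hab : ∀ z z' : G, β₂ (p z) = 0 → β₂ (p z') = 0 → z * z' = z' * z)
    (κ : F) (hκ : κ ≠ 0) (hsq : ∀ (y : G) (t : F), p y = ι' t → y ^ 2 = ι (t / κ)) :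
    False := by
  have h2 : (2 : F) = 0 := CharTwo.two_eq_zero
  have hpι : ∀ c, p (ι c) = 1 := fun c => (hq.ker _).mpr ((h.iota_fix _).mpr ⟨c, rfl⟩)
  have hker : ∀ x : G, p x = 1 → ∃ c, ι c = x := fun x hx =>
    (h.iota_fix _).mp ((hq.ker _).mp hx)
  have φK : ∀ g u : G, β₂ (p (kk g u)) = 0 := by
    intro g u
    unfold kk
    simp only [map_mul, map_inv, hE.b2_mul, b2_inv hE]
    linear_combination (β₂ (p g) + β₂ (p u)) * h2
  have pK : ∀ g u : G, β₂ (p u) = 0 → p (kk g u) = ι' (β₁ (p u) * β₂ (p g)) := by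
    intro g u hu
    unfold kk
    rw [map_mul, map_mul, map_mul, map_inv, map_inv, ext_comm hE]
    congr 1
    rw [hu]; ring
  have Kmul : ∀ g u v : G, β₂ (p u) = 0 → β₂ (p v) = 0 → kk g (u * v) = kk g u * kk g v := by
    intro g u v hu hv
    have hu' : β₂ (p u⁻¹) = 0 := by rw [map_inv, b2_inv hE, hu]
    have hc : kk g v * u⁻¹ = u⁻¹ * kk g v := hab _ _ (φK g v) hu'
    calc kk g (u * v) = g * u * g⁻¹ * (kk g v * u⁻¹) := by unfold kk; group
      _ = g * u * g⁻¹ * (u⁻¹ * kk g v) := by rw [hc]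
      _ = kk g u * kk g v := by unfold kk; group
  have Kι : ∀ (g : G) (c : F), kk g (ι c) = 1 := by
    intro g c
    unfold kk
    rw [← hcen c g]; group
  have L4 : ∀ g g' z : G, β₂ (p z) = 0 →
      kk g' (kk g z) = ι (sqrtF (β₁ (p z) * β₂ (p g)) * β₂ (p g') / κ) := by
    intro g g' z hz
    obtain ⟨b', hb1, hb2⟩ := hE.surj (sqrtF (β₁ (p z) * β₂ (p g))) 0
    obtain ⟨z', rfl⟩ := hq.surj b'
    have hpz2 : p (z' * z') = ι' (β₁ (p z) * β₂ (p g)) := by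
      have h0 := hE.sq (p z')
      rw [pow_two] at h0
      rw [map_mul, h0, hb1, hb2]
      congr 1
      unfold sig
      rw [sqrtF_sq]; ring
    have h1 : p (kk g z * (z' * z')⁻¹) = 1 := by
      rw [map_mul, map_inv, pK g z hz, hpz2, mul_inv_cancel]
    obtain ⟨c, hc⟩ := hker _ h1
    have hKz : kk g z = ι c * z' * z' := by
      rw [hc]; group
    have hφι : β₂ (p (ι c)) = 0 := by rw [hpι, b2_one hE]
    have hφιz : β₂ (p (ι c * z')) = 0 := by rw [map_mul, hE.b2_mul, hφι, hb2, add_zero]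
    rw [hKz, Kmul g' _ _ hφιz hb2, Kmul g' _ _ hφι hb2, Kι, one_mul]
    have h3 := hsq (kk g' z') _ (pK g' z' hb2)
    rw [pow_two] at h3
    rw [h3, hb1]
  have L5 : ∀ g g' z : G, β₂ (p z) = 0 → kk g' (kk g z) = kk g (kk g' z) := by
    intro g g' z hz
    have hconj : ∀ x : G, β₂ (p (x * z⁻¹ * x⁻¹)) = 0 := by
      intro x
      simp only [map_mul, map_inv, hE.b2_mul, b2_inv hE, hz, add_zero]
      exact CharTwo.add_self_eq_zero _
    have hw : β₂ (p ((g * g')⁻¹ * (g' * g))) = 0 := by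
      simp only [map_mul, map_inv, hE.b2_mul, b2_inv hE]
      linear_combination (β₂ (p g) + β₂ (p g')) * h2
    have hX : g' * g * z * (g' * g)⁻¹ = g * g' * z * (g * g')⁻¹ := by
      have hc := hab _ _ hw hz
      calc g' * g * z * (g' * g)⁻¹
          = g * g' * ((g * g')⁻¹ * (g' * g) * z) * (g' * g)⁻¹ := by group
        _ = g * g' * (z * ((g * g')⁻¹ * (g' * g))) * (g' * g)⁻¹ := by rw [hc]
        _ = g * g' * z * (g * g')⁻¹ := by group
    have hY1 := hab _ _ (hconj g') hz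
    have hY2 := hab _ _ (hconj g) hz
    have hY3 := hab _ _ (hconj g') (hconj g)
    have e1 : kk g' (kk g z) =
        (g' * g * z * (g' * g)⁻¹) * (g' * z⁻¹ * g'⁻¹) * z * (g * z⁻¹ * g⁻¹) := by
      unfold kk; group
    have e2 : kk g (kk g' z) =
        (g * g' * z * (g * g')⁻¹) * (g * z⁻¹ * g⁻¹) * z * (g' * z⁻¹ * g'⁻¹) := by
      unfold kk; group
    rw [e1, e2, hX]
    exact comm4 _ _ _ _ hY1 hY2 hY3
  obtain ⟨x, hx0, hx1⟩ := hq4
  obtain ⟨bz, hbz1, hbz2⟩ := hE.surj 1 0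
  obtain ⟨z, rfl⟩ := hq.surj bz
  obtain ⟨bg, hbg1, hbg2⟩ := hE.surj 0 1
  obtain ⟨g, rfl⟩ := hq.surj bg
  obtain ⟨bg', hbg'1, hbg'2⟩ := hE.surj 0 x
  obtain ⟨g', rfl⟩ := hq.surj bg'
  have e := L5 g g' z hbz2
  rw [L4 g g' z hbz2, L4 g' g z hbz2] at e
  simp only [hbz1, hbg2, hbg'2, one_mul, mul_one] at e
  have e' := h.iota_inj e
  have hs1 : sqrtF (1 : F) = 1 := by
    have h0 := sqrtF_of_sq (1 : F)
    rwa [one_pow] at h0
  rw [hs1, one_mul, div_left_inj' hκ] at e'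
  have hxx : x ^ 2 = x := by
    have h0 := sqrtF_sq x
    rw [← e'] at h0
    exact h0
  have h0 : x * (x - 1) = 0 := by linear_combination hxx
  rcases mul_eq_zero.mp h0 with h3 | h3
  · exact hx0 h3
  · exact hx1 (sub_eq_zero.mp h3)

end Cfsg.Agent.Lib.Helper1.TGSU7c
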