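import Mathlib
import Cfsg.Prelude.Def_OddOrderLocal
import Cfsg.Prelude.Def_Solvable

set_option autoImplicit false

/-!
# S4064: groups in which every element centralizer is a TI-subset. Basic definitions.
-/

namespace Cfsg.Agent.Lib.Helper1.TIC

universe u

/-- every element centralizer is a TI-subset -/
def TI (G : Type u) [Group G] : Prop :=
  ∀ x : G, Cfsg.IsTISubset (Subgroup.centralizer ({x} : Set G) : Set G)

/-- second alternative of S4064 -/
def FrobConcl (G : Type u) [Group G] : Prop :=
  ∃ H : Subgroup G, Cfsg.IsFrobeniusComplement H ∧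
    (IsCyclic H ∨ ∃ m : ℕ, Odd m ∧ Nonempty (H ≃* Multiplicative (ZMod m) × QuaternionGroup 2))

/-- third alternative of S4064 -/
def PslConcl (G : Type u) [Group G] : Prop :=
  ∃ n : ℕ, 2 ≤ n ∧ Nonempty (G ≃* Matrix.ProjectiveSpecialLinearGroup (Fin 2) (GaloisField 2 n))

/-- the conclusion of S4064 -/
def Concl (G : Type u) [Group G] : Prop :=
  Group.IsNilpotent G ∨ FrobConcl G ∨ PslConcl G

/-- the induction hypothesis: the theorem for all groups (in the same universe) of order `< n` -/
def IH (n : ℕ) : Prop :=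
  ∀ (X : Type u) [Group X] [Finite X], Nat.card X < n → TI X → Concl X

theorem ti_iff {G : Type u} [Group G] :
    TI G ↔ ∀ x : G, Cfsg.IsTISubset (Subgroup.centralizer ({x} : Set G) : Set G) := Iff.rfl

theorem concl_iff {G : Type u} [Group G] :
    Concl G ↔ (Group.IsNilpotent G ∨
      (∃ H : Subgroup G, Cfsg.IsFrobeniusComplement H ∧
        (IsCyclic H ∨ ∃ m : ℕ, Odd m ∧
          Nonempty (H ≃* Multiplicative (ZMod m) × QuaternionGroup 2))) ∨
      (∃ n : ℕ, 2 ≤ n ∧
        Nonempty (G ≃* Matrix.ProjectiveSpecialLinearGroup (Fin 2) (GaloisField 2 n)))) := Iff.rfl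

end Cfsg.Agent.Lib.Helper1.TIC
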