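import Mathlib
import Cfsg.Agent.Lib.Helper1.BG7e
import Cfsg.Agent.Lib.Helper1.InvPPrime2
import Cfsg.Agent.Lib.Helper1.CoprimeAbelian
import Cfsg.Agent.S1324

set_option autoImplicit false
universe u
open scoped commutatorElement Pointwise

namespace Cfsg.Agent.Lib.Helper1.BG7

open Cfsg Subgroup

variable {G : Type u} [Group G] [Finite G]

omit [Finite G] in
theorem le_normalizer_sup' {A X Y : Subgroup G} (hX : A ≤ Subgroup.normalizer (X : Set G))
    (hY : A ≤ Subgroup.normalizer (Y : Set G)) :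
    A ≤ Subgroup.normalizer ((X ⊔ Y : Subgroup G) : Set G) := by
  intro a ha
  have h1 := Subgroup.mem_normalizer_iff_map_conj_eq.mp (hX ha)
  have h2 := Subgroup.mem_normalizer_iff_map_conj_eq.mp (hY ha)
  rw [Subgroup.mem_normalizer_iff_map_conj_eq, Subgroup.map_sup, h1, h2]

omit [Finite G] in
theorem centralizer_singleton_le_normalizer_zpowers (b : G) :
    Subgroup.centralizer ({b} : Set G) ≤ Subgroup.normalizer ((Subgroup.zpowers b : Subgroup G) : Set G) := by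
  apply le_normalizer_of_conj_mem
  intro g hg x hx
  obtain ⟨k, rfl⟩ := Subgroup.mem_zpowers_iff.mp hx
  have hgb : b * g = g * b := Subgroup.mem_centralizer_iff.mp hg b (Set.mem_singleton b)
  have : g * b ^ k * g⁻¹ = b ^ k := by
    have hc : Commute g b := hgb.symm
    have := (hc.zpow_right k).eq
    rw [this, mul_inv_cancel_right]
  rw [this]
  exact Subgroup.zpow_mem_zpowers b k

omit [Finite G] in
theorem le_centralizer_singleton_of_comm {E : Subgroup G} (hEc : IsMulCommutative E) {b : G}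
    (hb : b ∈ E) : E ≤ Subgroup.centralizer ({b} : Set G) := by
  intro e he
  rw [Subgroup.mem_centralizer_iff]
  intro x hx
  rw [Set.mem_singleton_iff] at hx
  subst hx
  have := hEc.is_comm.comm ⟨x, hb⟩ ⟨e, he⟩
  exact congrArg Subtype.val this

omit [Finite G] in
/-- the image in `G` of a normal subgroup of `↥N` is normalised by `N` -/
theorem le_normalizer_map_subtype (N : Subgroup G) (M : Subgroup ↥N) [hM : M.Normal] :
    N ≤ Subgroup.normalizer ((M.map N.subtype : Subgroup G) : Set G) := by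
  apply le_normalizer_of_conj_mem
  rintro g hg _ ⟨m, hm, rfl⟩
  exact ⟨⟨g, hg⟩ * m * ⟨g, hg⟩⁻¹, hM.conj_mem m hm ⟨g, hg⟩, rfl⟩

theorem exists_elementary_of_not_pRankLE {Z : Subgroup G} {p k : ℕ} [hp : Fact p.Prime]
    (h : ¬ PRankLE p k ↥Z) :
    ∃ E : Subgroup G, E ≤ Z ∧ IsElementaryAbelian p E ∧ p ^ (k + 1) ≤ Nat.card E := by
  unfold PRankLE at h
  push Not at h
  obtain ⟨E₀, hc, hexp, hcard⟩ := h
  refine ⟨E₀.map Z.subtype, Subgroup.map_subtype_le _, ⟨?_, ?_⟩, ?_⟩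
  · refine ⟨⟨?_⟩⟩
    rintro ⟨_, a, ha, rfl⟩ ⟨_, b, hb, rfl⟩
    apply Subtype.ext
    show Z.subtype a * Z.subtype b = Z.subtype b * Z.subtype a
    rw [← map_mul, ← map_mul]
    have := hc.is_comm.comm ⟨a, ha⟩ ⟨b, hb⟩
    exact congrArg (fun t : E₀ => Z.subtype (t : ↥Z)) this
  · rintro _ ⟨a, ha, rfl⟩
    rw [← map_pow, hexp a ha, map_one]
  · rw [Subgroup.card_map_of_injective Z.subtype_injective]
    have hE₀p : IsPGroup p E₀ := by
      intro x
      refine ⟨1, ?_⟩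
      apply Subtype.ext
      rw [pow_one, Subgroup.coe_pow]
      exact hexp x x.2
    obtain ⟨j, hj⟩ := IsPGroup.iff_card.mp hE₀p
    rw [hj] at hcard ⊢
    apply Nat.pow_le_pow_right hp.out.pos
    by_contra hcon
    push Not at hcon
    have : p ^ j ≤ p ^ k := Nat.pow_le_pow_right hp.out.pos (by omega)
    omega

omit [Finite G] in
theorem class_two_of_sylow {p : ℕ} [Fact p.Prime]
    (h2 : ∀ S : Sylow p G, Group.IsNilpotent (S : Subgroup G) ∧
      Group.nilpotencyClass (S : Subgroup G) ≤ 2)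
    (P : Subgroup G) (hP : IsPGroup p P) :
    ∀ x ∈ P, ∀ y ∈ P, ∀ z ∈ P, ⁅⁅x, y⁆, z⁆ = 1 := by
  intro x hx y hy z hz
  obtain ⟨S, hS⟩ := hP.exists_le_sylow
  obtain ⟨hnil, hcl⟩ := h2 S
  have h3 := (Subgroup.lowerCentralSeries_eq_bot_iff_nilpotencyClass_le (G := ↥(S : Subgroup G))).mpr hcl
  obtain ⟨x', hx'⟩ : ∃ x' : ↥(S : Subgroup G), x' = ⟨x, hS hx⟩ := ⟨_, rfl⟩
  obtain ⟨y', hy'⟩ : ∃ y' : ↥(S : Subgroup G), y' = ⟨y, hS hy⟩ := ⟨_, rfl⟩
  obtain ⟨z', hz'⟩ : ∃ z' : ↥(S : Subgroup G), z' = ⟨z, hS hz⟩ := ⟨_, rfl⟩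
  have h4 : ⁅⁅x', y'⁆, z'⁆ ∈
      (⊤ : Subgroup ↥(S : Subgroup G)).lowerCentralSeries 2 := by
    rw [Subgroup.lowerCentralSeries_succ, Subgroup.lowerCentralSeries_succ,
      Subgroup.lowerCentralSeries_zero]
    exact Subgroup.commutator_mem_commutator
      (Subgroup.commutator_mem_commutator (Subgroup.mem_top _) (Subgroup.mem_top _))
      (Subgroup.mem_top _)
  rw [h3, Subgroup.mem_bot] at h4
  have h5 : (S : Subgroup G).subtype ⁅⁅x', y'⁆, z'⁆ = 1 := by rw [h4, map_one]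
  rw [map_commutatorElement, map_commutatorElement, hx', hy', hz'] at h5
  exact h5

/-- local control: `E`-invariant `p'`-subgroups of `N_G(⟨b⟩)` lie in `O_{p'}(N_G(⟨b⟩))` -/
theorem tt_local (p : ℕ) [hp : Fact p.Prime]
    (hloc : ∀ T : Subgroup G, IsPGroup p T → T ≠ ⊥ →
      Cfsg.IsPConstrained p ↥(Subgroup.normalizer (T : Set G)))
    (h2 : p = 2 → ∀ S : Sylow p G, Group.IsNilpotent (S : Subgroup G) ∧
      Group.nilpotencyClass (S : Subgroup G) ≤ 2)
    (E : Subgroup G) (hEp : IsPGroup p E) (hEc : IsMulCommutative E)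
    (hEfull : ∀ x ∈ Subgroup.centralizer (E : Set G), IsPGroup p (Subgroup.zpowers x) → x ∈ E)
    {b : G} (hbE : b ∈ E) (hb1 : b ≠ 1) {Y : Subgroup G}
    (hYN : Y ≤ Subgroup.normalizer ((Subgroup.zpowers b : Subgroup G) : Set G))
    (hYp : (Nat.card Y).Coprime p) (hEY : E ≤ Subgroup.normalizer (Y : Set G)) :
    Y ≤ (Cfsg.pPrimeCore p ↥(Subgroup.normalizer ((Subgroup.zpowers b : Subgroup G) : Set G))).map
      (Subgroup.normalizer ((Subgroup.zpowers b : Subgroup G) : Set G)).subtype := by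
  obtain ⟨Nb, hNb⟩ : ∃ Nb : Subgroup G,
      Nb = Subgroup.normalizer ((Subgroup.zpowers b : Subgroup G) : Set G) := ⟨_, rfl⟩
  rw [← hNb] at hYN ⊢
  have hZp : IsPGroup p (Subgroup.zpowers b) := by
    rintro ⟨g, hg⟩
    obtain ⟨k, rfl⟩ := Subgroup.mem_zpowers_iff.mp hg
    obtain ⟨j, hj⟩ := hEp ⟨b, hbE⟩
    have hj' : b ^ p ^ j = 1 := by simpa using congrArg Subtype.val hj
    refine ⟨j, Subtype.ext ?_⟩
    rw [Subgroup.coe_pow, Subgroup.coe_one, ← zpow_natCast, ← zpow_mul, mul_comm, zpow_mul,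
      zpow_natCast, hj', one_zpow]
  have hZne : (Subgroup.zpowers b) ≠ ⊥ := by
    intro h
    apply hb1
    have : b ∈ (⊥ : Subgroup G) := by rw [← h]; exact Subgroup.mem_zpowers b
    exact Subgroup.mem_bot.mp this
  have hcon : Cfsg.IsPConstrained p ↥Nb := by rw [hNb]; exact hloc _ hZp hZne
  have hENb : E ≤ Nb := by
    rw [hNb]
    exact (le_centralizer_singleton_of_comm hEc hbE).trans
      (centralizer_singleton_le_normalizer_zpowers b)
  have key := invariant_p'_le_pPrimeCore_of_constrained (X := ↥Nb) hcon (E.subgroupOf Nb)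
    (Y.subgroupOf Nb) hEp.comap_subtype (by
      rintro x hx ⟨k, hxk⟩
      rw [Subgroup.mem_subgroupOf]
      apply hEfull
      · rw [Subgroup.mem_centralizer_iff]
        intro a ha
        have h3 := Subgroup.mem_centralizer_iff.mp hx ⟨a, hENb ha⟩ (Subgroup.mem_subgroupOf.mpr ha)
        exact congrArg Subtype.val h3
      · have hxk' : (x : G) ^ p ^ k = 1 := by simpa using congrArg Subtype.val hxk
        rintro ⟨g, hg⟩
        obtain ⟨m, rfl⟩ := Subgroup.mem_zpowers_iff.mp hg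
        refine ⟨k, Subtype.ext ?_⟩
        rw [Subgroup.coe_pow, Subgroup.coe_one, ← zpow_natCast, ← zpow_mul, mul_comm, zpow_mul,
          zpow_natCast, hxk', one_zpow])
    (by rw [card_subgroupOf_of_le hYN]; exact hYp)
    (by
      intro a ha
      rw [Subgroup.mem_normalizer_iff]
      intro y
      rw [Subgroup.mem_subgroupOf, Subgroup.mem_subgroupOf]
      have h3 := Subgroup.mem_normalizer_iff.mp (hEY (Subgroup.mem_subgroupOf.mp ha)) (y : G)
      simpa using h3)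
    (by
      by_cases hp2 : p = 2
      · right
        intro P hP x hx y hy z hz
        have h3 := class_two_of_sylow (h2 hp2) (P.map Nb.subtype) (hP.map _)
          (x : G) ⟨x, hx, rfl⟩ (y : G) ⟨y, hy, rfl⟩ (z : G) ⟨z, hz, rfl⟩
        have h4 : Nb.subtype ⁅⁅x, y⁆, z⁆ = 1 := by
          rw [map_commutatorElement, map_commutatorElement]; exact h3
        exact Subtype.ext h4
      · exact Or.inl hp2)
  intro y hy
  exact ⟨⟨y, hYN hy⟩, key (Subgroup.mem_subgroupOf.mpr hy), rfl⟩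

/-- **Thompson transitivity theorem**, induction on the size of the intersection. -/
theorem tt_main (p : ℕ) [hp : Fact p.Prime]
    (hloc : ∀ T : Subgroup G, IsPGroup p T → T ≠ ⊥ →
      Cfsg.IsPConstrained p ↥(Subgroup.normalizer (T : Set G)))
    (h2 : p = 2 → ∀ S : Sylow p G, Group.IsNilpotent (S : Subgroup G) ∧
      Group.nilpotencyClass (S : Subgroup G) ≤ 2)
    (E : Subgroup G) (hEp : IsPGroup p E) (hEc : IsMulCommutative E)
    (hE3 : ¬ Cfsg.PRankLE p 2 E)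
    (hEfull : ∀ x ∈ Subgroup.centralizer (E : Set G), IsPGroup p (Subgroup.zpowers x) → x ∈ E)
    (q : ℕ) [hq : Fact q.Prime] (hqp : q ≠ p) :
    ∀ n : ℕ, ∀ Q₁ Q₂ : Subgroup G, Q₁ ∈ maxInvSubgroups ⊤ E {q} → Q₂ ∈ maxInvSubgroups ⊤ E {q} →
      Nat.card G - Nat.card (Q₁ ⊓ Q₂ : Subgroup G) = n →
      ∃ k ∈ piCoreOf (primesNotDvd p) (Subgroup.centralizer (E : Set G)), Q₂ = cj k Q₁ := by
  classical
  obtain ⟨K, hK⟩ : ∃ K : Subgroup G,
      K = piCoreOf (primesNotDvd p) (Subgroup.centralizer (E : Set G)) := ⟨_, rfl⟩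
  rw [← hK]
  have hKE : K ≤ Subgroup.centralizer (E : Set G) := by rw [hK]; exact piCoreOf_le _ _
  obtain ⟨E₀, hE₀E, hE₀e, hE₀card⟩ := exists_elementary_of_not_pRankLE hE3
  have hE₀2 : p ^ 2 ≤ Nat.card E₀ :=
    le_trans (Nat.pow_le_pow_right hp.out.pos (by norm_num)) hE₀card
  have hEsolv : Group.IsSolvable E := isSolvable_of_isMulCommutative E
  have hqcop : ∀ Q : Subgroup G, IsPGroup q Q → (Nat.card Q).Coprime p := by
    intro Q hQ
    obtain ⟨k, hk⟩ := IsPGroup.iff_card.mp hQ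
    rw [hk]
    exact Nat.Coprime.pow_left k ((Nat.coprime_primes hq.out hp.out).mpr hqp)
  have hqnd : ∀ Q : Subgroup G, IsPGroup q Q → ¬ p ∣ Nat.card Q := by
    intro Q hQ hd
    have h1 := hqcop Q hQ
    have h3 : p ∣ Nat.gcd (Nat.card Q) p := Nat.dvd_gcd hd dvd_rfl
    have h4 : Nat.gcd (Nat.card Q) p = 1 := h1
    rw [h4] at h3
    exact hp.out.one_lt.ne' (Nat.dvd_one.mp h3)
  intro n
  induction n using Nat.strong_induction_on with
  | _ n ih =>
    intro Q₁ Q₂ h₁ h₂ hn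
    by_cases heq : Q₁ = Q₂
    · exact ⟨1, K.one_mem, by rw [cj_one, heq]⟩
    obtain ⟨D, hD⟩ : ∃ D : Subgroup G, D = Q₁ ⊓ Q₂ := ⟨_, rfl⟩
    rw [← hD] at hn
    have hq₁ : IsPGroup q Q₁ := isPGroup_of_mem_invSubgroups hq.out h₁.1
    have hq₂ : IsPGroup q Q₂ := isPGroup_of_mem_invSubgroups hq.out h₂.1
    have hDQ₁ : D ≤ Q₁ := by rw [hD]; exact inf_le_left
    have hDQ₂ : D ≤ Q₂ := by rw [hD]; exact inf_le_right
    have hDq : IsPGroup q D := hq₁.to_le hDQ₁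
    have hD₁ : D < Q₁ := by
      refine lt_of_le_of_ne hDQ₁ ?_
      intro h
      have hle : Q₁ ≤ Q₂ := by rw [← h]; exact hDQ₂
      exact heq (h₁.2 Q₂ h₂.1 hle).symm
    have hD₂ : D < Q₂ := by
      refine lt_of_le_of_ne hDQ₂ ?_
      intro h
      have hle : Q₂ ≤ Q₁ := by rw [← h]; exact hDQ₁
      exact heq (h₂.2 Q₁ h₁.1 hle)
    obtain ⟨N, hN⟩ : ∃ N : Subgroup G, N = Subgroup.normalizer (D : Set G) := ⟨_, rfl⟩
    have hED : E ≤ N := by rw [hN, hD]; exact le_normalizer_inf h₁.1.2.2 h₂.1.2.2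
    have hEN : E ≤ Subgroup.normalizer (N : Set G) := hED.trans Subgroup.le_normalizer
    have hlt₁ : D < Q₁ ⊓ N := by rw [hN]; exact ZJ.lt_inf_normalizer_of_lt hq₁ hD₁
    have hlt₂ : D < Q₂ ⊓ N := by rw [hN]; exact ZJ.lt_inf_normalizer_of_lt hq₂ hD₂
    have hR₁q : IsPGroup q (Q₁ ⊓ N : Subgroup G) := hq₁.to_le inf_le_left
    have hR₂q : IsPGroup q (Q₂ ⊓ N : Subgroup G) := hq₂.to_le inf_le_left
    have hER₁ : E ≤ Subgroup.normalizer ((Q₁ ⊓ N : Subgroup G) : Set G) :=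
      le_normalizer_inf h₁.1.2.2 hEN
    have hER₂ : E ≤ Subgroup.normalizer ((Q₂ ⊓ N : Subgroup G) : Set G) :=
      le_normalizer_inf h₂.1.2.2 hEN
    -- hyperplanes
    have hyp : ∀ R : Subgroup G, IsPGroup q R → E ≤ Subgroup.normalizer (R : Set G) → D < R →
        ∃ B : Subgroup G, B ≤ E₀ ∧ B.relIndex E₀ ≤ p ∧
          ¬ (R ⊓ Subgroup.centralizer (B : Set G) ≤ D) := by
      intro R hRq hER hDR
      have h1 := Cfsg.Agent.S1324.result p E₀ R hE₀e hE₀2 (hqnd R hRq) (hE₀E.trans hER)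
      by_contra hcon
      push Not at hcon
      apply not_le_of_gt hDR
      rw [h1]
      apply iSup_le
      rintro ⟨B, hBE, hBi⟩
      exact hcon B hBE hBi
    obtain ⟨B₁, hB₁E, hB₁i, hB₁c⟩ := hyp _ hR₁q hER₁ hlt₁
    obtain ⟨B₂, hB₂E, hB₂i, hB₂c⟩ := hyp _ hR₂q hER₂ hlt₂
    have hB : B₁ ⊓ B₂ ≠ ⊥ := by
      intro hbot
      have h1 : (B₁ ⊓ B₂).relIndex E₀ ≤ p * p :=
        le_trans Subgroup.relIndex_inf_le (Nat.mul_le_mul hB₁i hB₂i)
      have h2 := Subgroup.relIndex_mul_relIndex ⊥ (B₁ ⊓ B₂) E₀ bot_le (inf_le_left.trans hB₁E)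
      rw [Subgroup.relIndex_bot_left, Subgroup.relIndex_bot_left, hbot, Subgroup.card_bot,
        one_mul] at h2
      rw [hbot, h2] at h1
      have h3 : p ^ 3 = p * p * p := by ring
      have h4 : p * p < p * p * p := by
        have := hp.out.one_lt
        have h5 : 0 < p * p := Nat.mul_pos hp.out.pos hp.out.pos
        nlinarith
      simp only [Nat.reduceAdd] at hE₀card
      omega
    obtain ⟨b', hb1⟩ := (Subgroup.ne_bot_iff_exists_ne_one (H := B₁ ⊓ B₂)).mp hB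
    obtain ⟨b, hb⟩ : ∃ b : G, b = (b' : G) := ⟨_, rfl⟩
    have hb1' : b ≠ 1 := by rw [hb]; exact fun h => hb1 (Subtype.ext h)
    have hbB₁ : b ∈ B₁ := by rw [hb]; exact (Subgroup.mem_inf.mp b'.2).1
    have hbB₂ : b ∈ B₂ := by rw [hb]; exact (Subgroup.mem_inf.mp b'.2).2
    have hbE : b ∈ E := hE₀E (hB₁E hbB₁)
    obtain ⟨Cb, hCb⟩ : ∃ Cb : Subgroup G, Cb = Subgroup.centralizer ({b} : Set G) := ⟨_, rfl⟩
    have hECb : E ≤ Cb := by rw [hCb]; exact le_centralizer_singleton_of_comm hEc hbE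
    have hECbn : E ≤ Subgroup.normalizer (Cb : Set G) := hECb.trans Subgroup.le_normalizer
    have hcentB : ∀ B : Subgroup G, b ∈ B → Subgroup.centralizer (B : Set G) ≤ Cb := by
      intro B hbB
      rw [hCb]
      apply Subgroup.centralizer_le
      intro x hx
      rw [Set.mem_singleton_iff] at hx
      rw [hx]; exact hbB
    obtain ⟨Nb, hNb⟩ : ∃ Nb : Subgroup G,
        Nb = Subgroup.normalizer ((Subgroup.zpowers b : Subgroup G) : Set G) := ⟨_, rfl⟩
    have hCbNb : Cb ≤ Nb := by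
      rw [hCb, hNb]; exact centralizer_singleton_le_normalizer_zpowers b
    obtain ⟨Lb, hLb⟩ : ∃ Lb : Subgroup G, Lb = (Cfsg.pPrimeCore p ↥Nb).map Nb.subtype := ⟨_, rfl⟩
    have hLbcop : (Nat.card Lb).Coprime p := by
      rw [hLb, Subgroup.card_map_of_injective Nb.subtype_injective]
      exact Helper1.pPrimeCore_card_coprime p
    have hLbn : Nb ≤ Subgroup.normalizer (Lb : Set G) := by
      rw [hLb]
      have : (Cfsg.pPrimeCore p ↥Nb).Normal := Helper1.pPrimeCore_normal p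
      exact le_normalizer_map_subtype Nb _
    -- the subgroups V_i
    obtain ⟨V₁, hV₁⟩ : ∃ V₁ : Subgroup G, V₁ = (Q₁ ⊓ N) ⊓ Cb := ⟨_, rfl⟩
    obtain ⟨V₂, hV₂⟩ : ∃ V₂ : Subgroup G, V₂ = (Q₂ ⊓ N) ⊓ Cb := ⟨_, rfl⟩
    have hV₁D : ¬ V₁ ≤ D := fun h => hB₁c ((inf_le_inf_left _ (hcentB B₁ hbB₁)).trans (hV₁ ▸ h))
    have hV₂D : ¬ V₂ ≤ D := fun h => hB₂c ((inf_le_inf_left _ (hcentB B₂ hbB₂)).trans (hV₂ ▸ h))
    have hV₁q : IsPGroup q V₁ := by rw [hV₁]; exact hR₁q.to_le inf_le_left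
    have hV₂q : IsPGroup q V₂ := by rw [hV₂]; exact hR₂q.to_le inf_le_left
    have hEV₁ : E ≤ Subgroup.normalizer (V₁ : Set G) := by
      rw [hV₁]; exact le_normalizer_inf hER₁ hECbn
    have hEV₂ : E ≤ Subgroup.normalizer (V₂ : Set G) := by
      rw [hV₂]; exact le_normalizer_inf hER₂ hECbn
    have hV₁Nb : V₁ ≤ Nb := by rw [hV₁]; exact inf_le_right.trans hCbNb
    have hV₂Nb : V₂ ≤ Nb := by rw [hV₂]; exact inf_le_right.trans hCbNb
    have hV₁N : V₁ ≤ N := by rw [hV₁]; exact inf_le_left.trans inf_le_right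
    have hV₂N : V₂ ≤ N := by rw [hV₂]; exact inf_le_left.trans inf_le_right
    have hV₁Q : V₁ ≤ Q₁ := by rw [hV₁]; exact inf_le_left.trans inf_le_left
    have hV₂Q : V₂ ≤ Q₂ := by rw [hV₂]; exact inf_le_left.trans inf_le_left
    have hV₁Lb : V₁ ≤ Lb := by
      rw [hLb, hNb]
      exact tt_local p hloc h2 E hEp hEc hEfull hbE hb1' (hNb ▸ hV₁Nb) (hqcop V₁ hV₁q) hEV₁
    have hV₂Lb : V₂ ≤ Lb := by
      rw [hLb, hNb]
      exact tt_local p hloc h2 E hEp hEc hEfull hbE hb1' (hNb ▸ hV₂Nb) (hqcop V₂ hV₂q) hEV₂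
    obtain ⟨L, hL⟩ : ∃ L : Subgroup G, L = Lb ⊓ N := ⟨_, rfl⟩
    have hEL : E ≤ Subgroup.normalizer (L : Set G) := by
      rw [hL]
      exact le_normalizer_inf ((hECb.trans hCbNb).trans hLbn) hEN
    have hcopL : (Nat.card E).Coprime (Nat.card L) := by
      obtain ⟨k, hk⟩ := IsPGroup.iff_card.mp hEp
      rw [hk]
      apply Nat.Coprime.pow_left
      apply Nat.Coprime.symm
      exact Nat.Coprime.coprime_dvd_left (Subgroup.card_dvd_of_le (by rw [hL]; exact inf_le_left))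
        hLbcop
    obtain ⟨S, c, hcL, hcE, hSq, hES, hV₁S, hV₂S⟩ :=
      coprime_sylow_pair E L hEL hcopL (Or.inl hEsolv) q V₁ V₂
        (by rw [hL]; exact le_inf hV₁Lb hV₁N) (by rw [hL]; exact le_inf hV₂Lb hV₂N)
        hV₁q hV₂q hEV₁ hEV₂
    have hcLb : c ∈ Lb := by rw [hL] at hcL; exact (Subgroup.mem_inf.mp hcL).1
    have hcN : c ∈ N := by rw [hL] at hcL; exact (Subgroup.mem_inf.mp hcL).2
    -- c ∈ K
    have hcK : c ∈ K := by
      have hCE : Subgroup.centralizer (E : Set G) ≤ Cb := hcentB E hbE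
      have hle : Lb ⊓ Subgroup.centralizer (E : Set G) ≤ K := by
        rw [hK]
        apply le_piCoreOf inf_le_right
        · exact le_normalizer_inf ((hCE.trans hCbNb).trans hLbn) Subgroup.le_normalizer
        · intro r hr hd
          refine ⟨hr, ?_⟩
          intro hrp
          have hrp' : r = p := (Nat.prime_dvd_prime_iff_eq hr hp.out).mp hrp
          rw [hrp'] at hd
          have h3 : p ∣ Nat.card Lb := hd.trans (Subgroup.card_dvd_of_le inf_le_left)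
          have h4 : p ∣ Nat.gcd (Nat.card Lb) p := Nat.dvd_gcd h3 dvd_rfl
          have h5 : Nat.gcd (Nat.card Lb) p = 1 := hLbcop
          rw [h5] at h4
          exact hp.out.one_lt.ne' (Nat.dvd_one.mp h4)
      exact hle (Subgroup.mem_inf.mpr ⟨hcLb, hcE⟩)
    -- S₁
    obtain ⟨S₁, hS₁⟩ : ∃ S₁ : Subgroup G, S₁ = (S ⊓ N) ⊔ D := ⟨_, rfl⟩
    have hS₁q : IsPGroup q S₁ := by
      rw [hS₁]
      exact (hSq.to_le inf_le_left).to_sup_of_normal_right' hDq (by rw [← hN]; exact inf_le_right)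
    have hEDn : E ≤ Subgroup.normalizer (D : Set G) := by rw [← hN]; exact hED
    have hES₁ : E ≤ Subgroup.normalizer (S₁ : Set G) := by
      rw [hS₁]; exact le_normalizer_sup' (le_normalizer_inf hES hEN) hEDn
    obtain ⟨Q₃, hQ₃, hS₁Q₃⟩ := exists_max_above
      (mem_invSubgroups_top_of_isPGroup hq.out hS₁q hES₁)
    have hDS₁ : D ≤ S₁ := by rw [hS₁]; exact le_sup_right
    have hV₁S₁ : V₁ ≤ S₁ := by rw [hS₁]; exact (le_inf hV₁S hV₁N).trans le_sup_left
    have hcardG : ∀ T : Subgroup G, Nat.card T ≤ Nat.card G :=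
      fun T => Subgroup.card_le_card_group T
    -- first link
    have hrel₁ : ∃ k ∈ K, Q₃ = cj k Q₁ := by
      have hle : D ≤ Q₁ ⊓ Q₃ := le_inf hDQ₁ (hDS₁.trans hS₁Q₃)
      have hlt : D < Q₁ ⊓ Q₃ := by
        refine lt_of_le_of_ne hle ?_
        intro h
        apply hV₁D
        rw [h]
        exact le_inf hV₁Q (hV₁S₁.trans hS₁Q₃)
      have h3 := card_lt_of_lt' hlt
      have h4 := hcardG (Q₁ ⊓ Q₃)
      exact ih (Nat.card G - Nat.card (Q₁ ⊓ Q₃ : Subgroup G)) (by omega) Q₁ Q₃ h₁ hQ₃ rfl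
    -- second link
    have hcQ₃ : cj c Q₃ ∈ maxInvSubgroups ⊤ E {q} := cj_mem_maxInvSubgroups hcE hQ₃
    have hcD : cj c D = D := cj_eq_of_mem_normalizer (by rw [← hN]; exact hcN)
    have hcNN : cj c N = N := cj_eq_of_mem_normalizer (Subgroup.le_normalizer hcN)
    have hrel₂ : ∃ k ∈ K, Q₂ = cj k (cj c Q₃) := by
      have hDle : D ≤ cj c Q₃ := by
        rw [← hcD]; exact cj_mono (hDS₁.trans hS₁Q₃)
      have hV₂le : V₂ ≤ cj c Q₃ := by
        have h5 : V₂ ≤ cj c (S ⊓ N) := by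
          rw [cj_inf, hcNN]; exact le_inf hV₂S hV₂N
        exact h5.trans (cj_mono ((by rw [hS₁]; exact le_sup_left : S ⊓ N ≤ S₁).trans hS₁Q₃))
      have hle : D ≤ cj c Q₃ ⊓ Q₂ := le_inf hDle hDQ₂
      have hlt : D < cj c Q₃ ⊓ Q₂ := by
        refine lt_of_le_of_ne hle ?_
        intro h
        apply hV₂D
        rw [h]
        exact le_inf hV₂le hV₂Q
      have h3 := card_lt_of_lt' hlt
      have h4 := hcardG (cj c Q₃ ⊓ Q₂)
      exact ih (Nat.card G - Nat.card (cj c Q₃ ⊓ Q₂ : Subgroup G)) (by omega) _ Q₂ hcQ₃ h₂ rfl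
    obtain ⟨k₁, hk₁, hk₁Q⟩ := hrel₁
    obtain ⟨k₂, hk₂, hk₂Q⟩ := hrel₂
    refine ⟨k₂ * c * k₁, K.mul_mem (K.mul_mem hk₂ hcK) hk₁, ?_⟩
    rw [hk₂Q, hk₁Q, cj_mul, cj_mul]

end Cfsg.Agent.Lib.Helper1.BG7
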