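import Mathlib
import Cfsg.Agent.Lib.Helper1.BG7g
import Cfsg.Agent.Lib.Helper1.InvPPrime3
import Cfsg.Agent.Lib.Helper3.PSolvable
import Cfsg.Agent.S1480

set_option autoImplicit false
universe u
open scoped commutatorElement Pointwise

namespace Cfsg.Agent.Lib.Helper1.BG7

open Cfsg Subgroup

variable {G : Type u} [Group G] [Finite G]

/-- If `A` is a self-centralizing normal subgroup of a Sylow `p`-subgroup `P` of `G`, every
`p`-element of `C_G(A)` lies in `A`. -/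
theorem mem_of_mem_centralizer_of_isSCN' {p : ℕ} [hp : Fact p.Prime]
    (P : Sylow p G) {A : Subgroup G} (hSCN : Cfsg.IsSCN (P : Subgroup G) A) {x : G}
    (hx : x ∈ Subgroup.centralizer (A : Set G)) (hxp : IsPGroup p (Subgroup.zpowers x)) : x ∈ A := by
  obtain ⟨hAP, hPN, hPC⟩ := hSCN
  obtain ⟨N, hN⟩ : ∃ N : Subgroup G, N = Subgroup.normalizer (A : Set G) := ⟨_, rfl⟩
  rw [← hN] at hPN
  have hxN : x ∈ N := by rw [hN]; exact Subgroup.centralizer_le_normalizer _ hx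
  obtain ⟨x', hx'⟩ : ∃ x' : ↥N, x' = ⟨x, hxN⟩ := ⟨_, rfl⟩
  obtain ⟨j, hj⟩ := hxp ⟨x, Subgroup.mem_zpowers x⟩
  have hxj : x ^ p ^ j = 1 := by simpa using congrArg Subtype.val hj
  have hx'p : x' ^ p ^ j = 1 := by
    rw [hx']; exact Subtype.ext (by simpa using hxj)
  have hZ : IsPGroup p (Subgroup.zpowers x') := by
    rintro ⟨g, hg⟩
    obtain ⟨k, rfl⟩ := Subgroup.mem_zpowers_iff.mp hg
    refine ⟨j, Subtype.ext ?_⟩
    rw [Subgroup.coe_pow, Subgroup.coe_one, ← zpow_natCast, ← zpow_mul, mul_comm,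
      zpow_mul, zpow_natCast, hx'p, one_zpow]
  obtain ⟨Q, hQ⟩ := hZ.exists_le_sylow
  obtain ⟨n, hn⟩ := MulAction.exists_smul_eq ↥N Q (P.subtype hPN)
  have h1 : n * x' * n⁻¹ ∈ ((P.subtype hPN : Sylow p ↥N) : Subgroup ↥N) := by
    rw [← hn, Sylow.coe_subgroup_smul]
    have h2 : x' ∈ (Q : Subgroup ↥N) := hQ (Subgroup.mem_zpowers x')
    have h3 := Subgroup.smul_mem_pointwise_smul x' (MulAut.conj n) _ h2
    rwa [MulAut.smul_def, MulAut.conj_apply] at h3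
  rw [Sylow.coe_subtype, Subgroup.mem_subgroupOf] at h1
  have h2 : (n : G) * x * (n : G)⁻¹ ∈ (P : Subgroup G) := by
    rw [hx'] at h1; simpa using h1
  have hnN : (n : G) ∈ Subgroup.normalizer (A : Set G) := by rw [← hN]; exact n.2
  have h3 : (n : G) * x * (n : G)⁻¹ ∈ Subgroup.centralizer (A : Set G) :=
    (Subgroup.mem_normalizer_iff.mp (normalizer_le_normalizer_centralizer_self A hnN) x).mp hx
  have h4 : (n : G) * x * (n : G)⁻¹ ∈ A := by
    rw [← hPC]; exact Subgroup.mem_inf.mpr ⟨h2, h3⟩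
  have hnN' : (n : G)⁻¹ ∈ Subgroup.normalizer (A : Set G) := Subgroup.inv_mem _ hnN
  have h5 := (Subgroup.mem_normalizer_iff.mp hnN' _).mp h4
  have e : (n : G)⁻¹ * ((n : G) * x * (n : G)⁻¹) * (n : G)⁻¹⁻¹ = x := by group
  rwa [e] at h5

theorem s0522 {X : Type u} [Group X] [Finite X] (hX : Odd (Nat.card X)) (p : ℕ)
    [hp : Fact p.Prime] (hloc : ∀ T : Subgroup X, IsPGroup p T → T ≠ ⊥ →
      Group.IsSolvable (Subgroup.normalizer (T : Set X)))
    (P : Sylow p X) (B : Subgroup X) (hBP : B ≤ (P : Subgroup X))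
    (hBn : ∀ x ∈ (P : Subgroup X), ∀ b ∈ B, x * b * x⁻¹ ∈ B) (hBa : IsMulCommutative B)
    (hBc : (P : Subgroup X) ⊓ Subgroup.centralizer (B : Set X) = B)
    (hB3 : ∃ E : Subgroup X, E ≤ B ∧ (∀ e ∈ E, e ^ p = 1) ∧ p ^ 3 ≤ Nat.card E)
    (q : ℕ) [hq : Fact q.Prime] (hqp : q ≠ p) (Q₁ Q₂ : Subgroup X)
    (h₁ : IsPGroup q Q₁ ∧ B ≤ Subgroup.normalizer (Q₁ : Set X) ∧
      ∀ R : Subgroup X, IsPGroup q R → B ≤ Subgroup.normalizer (R : Set X) → Q₁ ≤ R → R = Q₁)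
    (h₂ : IsPGroup q Q₂ ∧ B ≤ Subgroup.normalizer (Q₂ : Set X) ∧
      ∀ R : Subgroup X, IsPGroup q R → B ≤ Subgroup.normalizer (R : Set X) → Q₂ ≤ R → R = Q₂) :
    ∃ c ∈ Subgroup.centralizer (B : Set X), Q₂ = Q₁.map (MulAut.conj c).toMonoidHom := by
  obtain ⟨E₀, hE₀B, hE₀e, hE₀c⟩ := hB3
  have hBp : IsPGroup p B := P.2.to_le hBP
  have hp2 : p ≠ 2 := by
    intro h
    have hd : p ∣ Nat.card E₀ := by
      have : p ∣ p ^ 3 := dvd_pow_self p (by norm_num)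
      obtain ⟨k, hk⟩ := IsPGroup.iff_card.mp (hBp.to_le hE₀B)
      rw [hk] at hE₀c ⊢
      rcases k with _ | k
      · exfalso
        have : 2 ^ 3 ≤ 1 := by rw [h] at hE₀c; simpa using hE₀c
        omega
      · exact dvd_pow_self p (by omega)
    have hd2 : p ∣ Nat.card X := hd.trans (Subgroup.card_subgroup_dvd_card E₀)
    rw [h] at hd2
    exact (Nat.not_even_iff_odd.mpr hX) (even_iff_two_dvd.mpr hd2)
  have hloc' : ∀ T : Subgroup X, IsPGroup p T → T ≠ ⊥ →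
      Cfsg.IsPConstrained p ↥(Subgroup.normalizer (T : Set X)) := fun T hT hT1 =>
    isPConstrained_of_isPSolvable
      (Cfsg.Agent.Lib.Helper3.isPSolvable_of_isSolvable p (hloc T hT hT1))
  have h2 : p = 2 → ∀ S : Sylow p X, Group.IsNilpotent (S : Subgroup X) ∧
      Group.nilpotencyClass (S : Subgroup X) ≤ 2 := fun h => absurd h hp2
  have hB3' : ¬ Cfsg.PRankLE p 2 B := by
    intro h
    have h1 := h (E₀.subgroupOf B)
      ⟨⟨fun a b => Subtype.ext (Subtype.ext (by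
        have := hBa.is_comm.comm (a : ↥B) (b : ↥B)
        simpa using congrArg Subtype.val this))⟩⟩
      (by
        intro a ha
        apply Subtype.ext
        rw [Subgroup.coe_pow, Subgroup.coe_one]
        exact hE₀e _ (Subgroup.mem_subgroupOf.mp ha))
    rw [Nat.card_congr (Subgroup.subgroupOfEquivOfLe hE₀B).toEquiv] at h1
    have h3 : p ^ 2 < p ^ 3 := Nat.pow_lt_pow_right hp.out.one_lt (by norm_num)
    omega
  have hSCN : Cfsg.IsSCN (P : Subgroup X) B := by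
    refine ⟨hBP, ?_, hBc⟩
    intro x hx
    rw [Subgroup.mem_normalizer_iff]
    intro b
    constructor
    · exact hBn x hx b
    · intro hb
      have := hBn x⁻¹ ((P : Subgroup X).inv_mem hx) _ hb
      simpa [mul_assoc] using this
  have hEfull : ∀ x ∈ Subgroup.centralizer (B : Set X), IsPGroup p (Subgroup.zpowers x) → x ∈ B :=
    fun x hx hxp => mem_of_mem_centralizer_of_isSCN' P hSCN hx hxp
  have hm : ∀ Q : Subgroup X, (IsPGroup q Q ∧ B ≤ Subgroup.normalizer (Q : Set X) ∧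
      ∀ R : Subgroup X, IsPGroup q R → B ≤ Subgroup.normalizer (R : Set X) → Q ≤ R → R = Q) →
      Q ∈ Cfsg.maxInvSubgroups ⊤ B {q} := by
    rintro Q ⟨hQq, hQB, hQmax⟩
    refine ⟨mem_invSubgroups_top_of_isPGroup hq.out hQq hQB, ?_⟩
    intro R hR hQR
    exact hQmax R (isPGroup_of_mem_invSubgroups hq.out hR) hR.2.2 hQR
  obtain ⟨k, hk, hkQ⟩ := Cfsg.Agent.S1480.result p hloc' h2 B hBp hBa hB3' hEfull q hqp
    Q₁ (hm Q₁ h₁) Q₂ (hm Q₂ h₂)
  refine ⟨k, ?_, hkQ⟩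
  exact (piCoreOf_le _ _) hk

end Cfsg.Agent.Lib.Helper1.BG7
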