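import Mathlib
set_option autoImplicit false
set_option linter.unusedSectionVars false
namespace Cfsg.Agent.Lib.Helper1.TV5


section General
variable {n : Type*} [Fintype n] [DecidableEq n] {R : Type*} [CommRing R]

/-- `N` raises the `b`-level by at least `k`. -/
def Shift (N : Matrix n n R) (b : n → ℕ) (k : ℕ) : Prop := ∀ i j, b j < b i + k → N i j = 0

theorem Shift.mul {M N : Matrix n n R} {b : n → ℕ} {k l : ℕ} (hM : Shift M b k)
    (hN : Shift N b l) : Shift (M * N) b (k + l) := by
  intro i j hij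
  rw [Matrix.mul_apply]
  apply Finset.sum_eq_zero
  intro m _
  by_cases h1 : b m < b i + k
  · rw [hM i m h1, zero_mul]
  · rw [hN m j (by omega), mul_zero]

theorem Shift.add {M N : Matrix n n R} {b : n → ℕ} {k : ℕ} (hM : Shift M b k)
    (hN : Shift N b k) : Shift (M + N) b k := by
  intro i j hij
  rw [Matrix.add_apply, hM i j hij, hN i j hij, add_zero]

theorem Shift.mono {N : Matrix n n R} {b : n → ℕ} {k l : ℕ} (hN : Shift N b k) (h : l ≤ k) :
    Shift N b l := fun i j hij => hN i j (by omega)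

theorem Shift.eq_zero {N : Matrix n n R} {b : n → ℕ} {k : ℕ} (hN : Shift N b k)
    (hb : ∀ i, b i < k) : N = 0 := by
  ext i j
  have := hb j
  exact hN i j (by omega)

theorem shift_one (b : n → ℕ) : Shift (1 : Matrix n n R) b 0 := by
  intro i j hij
  have : i ≠ j := by rintro rfl; omega
  exact Matrix.one_apply_ne this

theorem shift_single {b : n → ℕ} {i j : n} {k : ℕ} (h : b i + k ≤ b j) (c : R) :
    Shift (Matrix.single i j c) b k := by
  intro a d had
  rw [Matrix.single_apply]
  split_ifs with h1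
  · obtain ⟨rfl, rfl⟩ := h1
    omega
  · rfl

/-- Entries of a matrix commuting with a transvection. -/
theorem comm_transvection {i j : n} (hij : i ≠ j) (g : Matrix n n R)
    (h : g * Matrix.transvection i j 1 = Matrix.transvection i j 1 * g) :
    (∀ a, a ≠ i → g a i = 0) ∧ (∀ d, d ≠ j → g j d = 0) ∧ g i i = g j j := by
  refine ⟨?_, ?_, ?_⟩
  · intro a ha
    have h1 := congrFun (congrFun h a) j
    rw [Matrix.mul_transvection_apply_same, Matrix.transvection_mul_apply_of_ne i j a j ha] at h1
    simpa using h1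
  · intro d hd
    have h1 := congrFun (congrFun h i) d
    rw [Matrix.transvection_mul_apply_same, Matrix.mul_transvection_apply_of_ne i j i d hd] at h1
    simpa using h1.symm
  · have h1 := congrFun (congrFun h i) j
    rw [Matrix.transvection_mul_apply_same, Matrix.mul_transvection_apply_same] at h1
    rw [one_mul, one_mul] at h1
    exact add_left_cancel h1

end General

local notation "M5" => Matrix (Fin 5) (Fin 5) (ZMod 2)
local notation "SL5" => Matrix.SpecialLinearGroup (Fin 5) (ZMod 2)

/-- the level function of the flag of the Matrix.transvection `1 + E₀₁`. -/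
def lev : Fin 5 → ℕ := ![0, 2, 1, 1, 1]

theorem lev_lt (i : Fin 5) : lev i < 3 := by fin_cases i <;> simp [lev]

/-- the Matrix.transvection `1 + E_{ij}` in `SL₅(2)`. -/
def tv (i j : Fin 5) (h : i ≠ j) : SL5 := ⟨Matrix.transvection i j 1, Matrix.det_transvection_of_ne i j h 1⟩

theorem add_self_m5 (N : M5) : N + N = 0 := by
  ext i j
  rw [Matrix.add_apply]
  exact CharTwo.add_self_eq_zero _

theorem cube_zero {N : M5} (hN : Shift N lev 1) : N * N * N = 0 :=
  ((hN.mul hN).mul hN).eq_zero lev_lt

theorem pow_four_of_shift {g : M5} (hg : Shift (g - 1) lev 1) : g * g * (g * g) = 1 := by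
  obtain ⟨N, hN⟩ : ∃ N : M5, N = g - 1 := ⟨_, rfl⟩
  have hg' : g = 1 + N := by rw [hN]; abel
  rw [← hN] at hg
  have h3 := cube_zero hg
  have h2 : g * g = 1 + N * N := by
    rw [hg']
    have : (1 + N) * (1 + N) = 1 + (N + N) + N * N := by noncomm_ring
    rw [this, add_self_m5, add_zero]
  rw [h2]
  have : (1 + N * N) * (1 + N * N) = 1 + (N * N + N * N) + N * N * N * N := by noncomm_ring
  rw [this, add_self_m5, add_zero, h3, Matrix.zero_mul, add_zero]

/-- The unipotent radical. -/
def Q : Subgroup SL5 where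
  carrier := {g | Shift ((g : M5) - 1) lev 1}
  one_mem' := by
    show Shift (((1 : SL5) : M5) - 1) lev 1
    rw [Matrix.SpecialLinearGroup.coe_one, sub_self]
    intro i j _; rfl
  mul_mem' := by
    intro g h hg hh
    show Shift (((g * h : SL5) : M5) - 1) lev 1
    have e : ((g * h : SL5) : M5) - 1
        = ((g : M5) - 1) + ((h : M5) - 1) + ((g : M5) - 1) * ((h : M5) - 1) := by
      rw [Matrix.SpecialLinearGroup.coe_mul]; noncomm_ring
    rw [e]
    exact (Shift.add hg hh).add ((hg.mul hh).mono (by norm_num))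
  inv_mem' := by
    intro g hg
    have hmul : ∀ a b : SL5, Shift ((a : M5) - 1) lev 1 → Shift ((b : M5) - 1) lev 1 →
        Shift (((a * b : SL5) : M5) - 1) lev 1 := by
      intro a b ha hb
      have e : ((a * b : SL5) : M5) - 1
          = ((a : M5) - 1) + ((b : M5) - 1) + ((a : M5) - 1) * ((b : M5) - 1) := by
        rw [Matrix.SpecialLinearGroup.coe_mul]; noncomm_ring
      rw [e]
      exact (Shift.add ha hb).add ((ha.mul hb).mono (by norm_num))
    have h4 : g * g * (g * g) = 1 := by
      apply Subtype.ext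
      simp only [Matrix.SpecialLinearGroup.coe_mul, Matrix.SpecialLinearGroup.coe_one]
      exact pow_four_of_shift hg
    have hinv : g⁻¹ = g * (g * g) := by
      apply inv_eq_of_mul_eq_one_right
      rw [← mul_assoc]; exact h4
    show Shift (((g⁻¹ : SL5) : M5) - 1) lev 1
    rw [hinv]
    exact hmul _ _ hg (hmul _ _ hg hg)

theorem mem_Q {g : SL5} : g ∈ Q ↔ Shift ((g : M5) - 1) lev 1 := Iff.rfl

theorem tv_mem_Q (i j : Fin 5) (h : i ≠ j) (hl : lev i + 1 ≤ lev j) : tv i j h ∈ Q := by
  rw [mem_Q]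
  have : ((tv i j h : SL5) : M5) - 1 = Matrix.single i j 1 := by
    show Matrix.transvection i j 1 - 1 = _
    rw [Matrix.transvection]; abel
  rw [this]
  exact shift_single hl 1

theorem pow_four_Q {g : SL5} (hg : g ∈ Q) : g ^ 4 = 1 := by
  have h4 : g * g * (g * g) = 1 := by
    apply Subtype.ext
    simp only [Matrix.SpecialLinearGroup.coe_mul, Matrix.SpecialLinearGroup.coe_one]
    exact pow_four_of_shift hg
  rw [← h4]; simp only [pow_succ, pow_zero, one_mul, mul_assoc]

theorem isPGroup_Q : IsPGroup 2 Q := by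
  intro g
  refine ⟨2, ?_⟩
  apply Subtype.ext
  have := pow_four_Q g.2
  simpa using this

/-- matrices commuting with `1 + E₀₁` are block triangular -/
theorem shift_of_comm (g : M5) (h : g * Matrix.transvection 0 1 1 = Matrix.transvection 0 1 1 * g) :
    Shift g lev 0 := by
  obtain ⟨h1, h2, -⟩ := comm_transvection (by decide : (0 : Fin 5) ≠ 1) g h
  intro i j hij
  fin_cases i <;> fin_cases j <;> simp [lev] at hij ⊢
  all_goals first
    | exact h1 _ (by decide)
    | exact h2 _ (by decide)


/-- `Q` centralizes the transvection `1 + E₀₁`. -/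
theorem Q_comm {g : SL5} (hg : g ∈ Q) :
    (g : M5) * Matrix.transvection 0 1 1 = Matrix.transvection 0 1 1 * (g : M5) := by
  obtain ⟨N, hN⟩ : ∃ N : M5, N = (g : M5) - 1 := ⟨_, rfl⟩
  have hg' : (g : M5) = 1 + N := by rw [hN]; abel
  have hNs : Shift N lev 1 := by rw [hN]; exact hg
  have hE : Shift (Matrix.single (0 : Fin 5) (1 : Fin 5) (1 : ZMod 2)) lev 2 :=
    shift_single (by simp [lev]) 1
  have h1 : N * Matrix.single (0 : Fin 5) (1 : Fin 5) (1 : ZMod 2) = 0 :=
    (hNs.mul hE).eq_zero lev_lt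
  have h2 : Matrix.single (0 : Fin 5) (1 : Fin 5) (1 : ZMod 2) * N = 0 :=
    (hE.mul hNs).eq_zero lev_lt
  rw [hg', Matrix.transvection]
  rw [add_mul, mul_add, mul_add, mul_add, add_mul, add_mul, h1, h2]
  simp

/-- conjugation by elements commuting with `1 + E₀₁` preserves `Q`. -/
theorem Q_conj {c g : SL5} (hg : g ∈ Q)
    (hc : (c : M5) * Matrix.transvection 0 1 1 = Matrix.transvection 0 1 1 * (c : M5)) :
    c * g * c⁻¹ ∈ Q := by
  rw [mem_Q]
  have hcc : (c : M5) * ((c⁻¹ : SL5) : M5) = 1 := by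
    rw [← Matrix.SpecialLinearGroup.coe_mul, mul_inv_cancel, Matrix.SpecialLinearGroup.coe_one]
  have hcc' : ((c⁻¹ : SL5) : M5) * (c : M5) = 1 := by
    rw [← Matrix.SpecialLinearGroup.coe_mul, inv_mul_cancel, Matrix.SpecialLinearGroup.coe_one]
  have hci : ((c⁻¹ : SL5) : M5) * Matrix.transvection 0 1 1
      = Matrix.transvection 0 1 1 * ((c⁻¹ : SL5) : M5) := by
    have : ((c⁻¹ : SL5) : M5) * ((c : M5) * Matrix.transvection 0 1 1) * ((c⁻¹ : SL5) : M5)
        = ((c⁻¹ : SL5) : M5) * (Matrix.transvection 0 1 1 * (c : M5)) * ((c⁻¹ : SL5) : M5) := by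
      rw [hc]
    rw [← mul_assoc, hcc', one_mul, mul_assoc, mul_assoc, hcc, mul_one] at this
    exact this.symm
  have e : ((c * g * c⁻¹ : SL5) : M5) - 1 = (c : M5) * ((g : M5) - 1) * ((c⁻¹ : SL5) : M5) := by
    rw [Matrix.SpecialLinearGroup.coe_mul, Matrix.SpecialLinearGroup.coe_mul, mul_sub, sub_mul,
      mul_one, hcc]
  rw [e]
  exact ((shift_of_comm _ hc).mul hg).mul (shift_of_comm _ hci)

theorem zmod2_cases (x : ZMod 2) : x = 0 ∨ x = 1 := by
  revert x; decide

/-- an element commuting with the seven transvections generating `Q` is `1` or `1 + E₀₁`. -/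
theorem eq_one_or_of_comm (g : SL5)
    (h1 : ∀ j : Fin 5, ∀ hj : (0 : Fin 5) ≠ j, g * tv 0 j hj = tv 0 j hj * g)
    (h2 : ∀ i : Fin 5, ∀ hi : i ≠ (1 : Fin 5), i ≠ 0 → g * tv i 1 hi = tv i 1 hi * g) :
    (g : M5) = 1 ∨ (g : M5) = Matrix.transvection 0 1 1 := by
  have k1 : ∀ j : Fin 5, ∀ hj : (0 : Fin 5) ≠ j,
      (g : M5) * Matrix.transvection 0 j 1 = Matrix.transvection 0 j 1 * (g : M5) := by
    intro j hj
    have := congrArg (fun x : SL5 => (x : M5)) (h1 j hj)
    simp only [Matrix.SpecialLinearGroup.coe_mul] at this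
    exact this
  have k2 : ∀ i : Fin 5, ∀ hi : i ≠ (1 : Fin 5), i ≠ 0 →
      (g : M5) * Matrix.transvection i 1 1 = Matrix.transvection i 1 1 * (g : M5) := by
    intro i hi hi0
    have := congrArg (fun x : SL5 => (x : M5)) (h2 i hi hi0)
    simp only [Matrix.SpecialLinearGroup.coe_mul] at this
    exact this
  -- rows 1..4 are diagonal
  have r : ∀ j : Fin 5, j ≠ 0 → ∀ d, d ≠ j → (g : M5) j d = 0 := by
    intro j hj d hd
    exact (comm_transvection hj.symm _ (k1 j hj.symm)).2.1 d hd
  have dg : ∀ j : Fin 5, (g : M5) j j = (g : M5) 0 0 := by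
    intro j
    by_cases hj : j = 0
    · rw [hj]
    · exact ((comm_transvection (Ne.symm hj) _ (k1 j (Ne.symm hj))).2.2).symm
  have r0 : ∀ i : Fin 5, i ≠ 1 → i ≠ 0 → (g : M5) 0 i = 0 := by
    intro i hi hi0
    exact (comm_transvection hi _ (k2 i hi hi0)).1 0 (Ne.symm hi0)
  have hc : (g : M5) 0 0 = 1 := by
    rcases zmod2_cases ((g : M5) 0 0) with h | h
    · exfalso
      have hdet : (g : M5).det = 0 := by
        apply Matrix.det_eq_zero_of_row_eq_zero 1
        intro j
        by_cases hj : j = 1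
        · rw [hj, dg 1, h]
        · exact r 1 (by decide) j hj
      rw [g.2] at hdet
      exact one_ne_zero hdet
    · exact h
  rcases zmod2_cases ((g : M5) 0 1) with h | h
  · left
    ext a b
    by_cases ha : a = 0
    · subst ha
      by_cases hb : b = 0
      · subst hb; rw [hc]; rfl
      · by_cases hb1 : b = 1
        · subst hb1; rw [h]; rfl
        · rw [r0 b hb1 hb, Matrix.one_apply_ne (Ne.symm hb)]
    · by_cases hab : a = b
      · subst hab; rw [dg a, hc, Matrix.one_apply_eq]
      · rw [r a ha b (Ne.symm hab), Matrix.one_apply_ne hab]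
  · right
    ext a b
    rw [Matrix.transvection, Matrix.add_apply, Matrix.single_apply]
    by_cases ha : a = 0
    · subst ha
      by_cases hb : b = 0
      · subst hb; rw [hc]; simp
      · by_cases hb1 : b = 1
        · subst hb1; rw [h]; simp
        · rw [r0 b hb1 hb, Matrix.one_apply_ne (Ne.symm hb)]
          rw [if_neg (by rintro ⟨-, h'⟩; exact hb1 h'.symm)]; simp
    · rw [if_neg (by rintro ⟨h', -⟩; exact ha h'.symm), add_zero]
      by_cases hab : a = b
      · subst hab; rw [dg a, hc, Matrix.one_apply_eq]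
      · rw [r a ha b (Ne.symm hab), Matrix.one_apply_ne hab]

end Cfsg.Agent.Lib.Helper1.TV5
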