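import Mathlib
import Cfsg.Agent.Lib.Helper1.TV5
import Cfsg.Agent.Lib.Helper1.SylowNormalizerHall
set_option autoImplicit false
namespace Cfsg.Agent.Lib.Helper1.TV5

local notation "M5" => Matrix (Fin 5) (Fin 5) (ZMod 2)
local notation "SL5" => Matrix.SpecialLinearGroup (Fin 5) (ZMod 2)

theorem lev_zero_lt : ∀ j : Fin 5, (0 : Fin 5) ≠ j → lev 0 + 1 ≤ lev j := by decide
theorem lev_lt_one : ∀ i : Fin 5, i ≠ (1 : Fin 5) → lev i + 1 ≤ lev 1 := by decide

theorem sylow_core {G : Type*} [Group G] [Finite G] (s : SL5)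
    (hs : (s : M5) = Matrix.transvection 0 1 1) (z : G) (hz : orderOf z = 2)
    (C : Subgroup G) (hC : C = Subgroup.centralizer ({z} : Set G))
    (C' : Subgroup SL5) (hC' : C' = Subgroup.centralizer ({s} : Set SL5))
    (e : C ≃* C') (T : Sylow 2 C) :
    ¬ 2 ∣ ((T : Subgroup C).map C.subtype).index := by
  have : Fact (Nat.Prime 2) := ⟨Nat.prime_two⟩
  have memC : ∀ g : G, g ∈ C ↔ g * z = z * g := by
    intro g; rw [hC, Subgroup.mem_centralizer_singleton_iff]
  have memC' : ∀ g : SL5, g ∈ C' ↔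
      (g : M5) * Matrix.transvection 0 1 1 = Matrix.transvection 0 1 1 * (g : M5) := by
    intro g
    rw [hC', Subgroup.mem_centralizer_singleton_iff]
    constructor
    · intro h
      have := congrArg (fun x : SL5 => (x : M5)) h
      simp only [Matrix.SpecialLinearGroup.coe_mul, hs] at this
      exact this
    · intro h
      apply Subtype.ext
      rw [Matrix.SpecialLinearGroup.coe_mul, Matrix.SpecialLinearGroup.coe_mul, hs]; exact h
  have hQC' : Q ≤ C' := fun g hg => (memC' g).mpr (Q_comm hg)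
  obtain ⟨Q', hQ'⟩ : ∃ Q' : Subgroup C', Q' = Q.subgroupOf C' := ⟨_, rfl⟩
  have hQ'n : Q'.Normal := by
    constructor
    intro n hn c
    rw [hQ', Subgroup.mem_subgroupOf] at hn ⊢
    exact Q_conj hn ((memC' c.1).mp c.2)
  have hQ'p : IsPGroup 2 Q' := by rw [hQ']; exact isPGroup_Q.comap_subtype
  obtain ⟨Q'', hQ''⟩ : ∃ Q'' : Subgroup C, Q'' = Q'.comap e.toMonoidHom := ⟨_, rfl⟩
  have hQ''n : Q''.Normal := by rw [hQ'']; exact hQ'n.comap _
  have hQ''p : IsPGroup 2 Q'' := by rw [hQ'']; exact hQ'p.comap_of_injective _ e.injective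
  have hQT : Q'' ≤ T := hQ''p.le_sylow_of_normal T
  have memQ'' : ∀ c : C, c ∈ Q'' ↔ ((e c : C') : SL5) ∈ Q := by
    intro c
    rw [hQ'', Subgroup.mem_comap, hQ', Subgroup.mem_subgroupOf]; rfl
  have hs1 : s = tv 0 1 (by decide) := Subtype.ext hs
  have hsQ : s ∈ Q := by rw [hs1]; exact tv_mem_Q 0 1 _ (by decide)
  have key : ∀ c : C', (∀ q ∈ Q, (c : SL5) * q = q * (c : SL5)) →
      (c : SL5) = 1 ∨ (c : SL5) = s := by
    intro c hc
    rcases eq_one_or_of_comm (c : SL5)
      (fun j hj => hc _ (tv_mem_Q 0 j hj (lev_zero_lt j hj)))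
      (fun i hi _ => hc _ (tv_mem_Q i 1 hi (lev_lt_one i hi))) with h | h
    · left; exact Subtype.ext (by rw [h, Matrix.SpecialLinearGroup.coe_one])
    · right; exact Subtype.ext (by rw [h, hs])
  have hz1 : z ≠ 1 := by
    intro h
    rw [h, orderOf_one] at hz; norm_num at hz
  obtain ⟨zc, hzc⟩ : ∃ zc : C, (zc : G) = z := ⟨⟨z, (memC z).mpr rfl⟩, rfl⟩
  have hzc1 : zc ≠ 1 := by
    intro h
    apply hz1
    rw [← hzc, h]; rfl
  have hzcentral : ∀ c : C, c * zc = zc * c := by
    intro c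
    apply Subtype.ext
    rw [Subgroup.coe_mul, Subgroup.coe_mul, hzc]
    exact (memC c.1).mp c.2
  have hezc : ((e zc : C') : SL5) = s := by
    have hcomm : ∀ q ∈ Q, ((e zc : C') : SL5) * q = q * ((e zc : C') : SL5) := by
      intro q hq
      have hqC' := hQC' hq
      have h2 := congrArg e (hzcentral (e.symm ⟨q, hqC'⟩))
      rw [map_mul, map_mul, e.apply_symm_apply] at h2
      exact (congrArg Subtype.val h2).symm
    rcases key (e zc) hcomm with h | h
    · exfalso; apply hzc1
      have h1 : e zc = 1 := Subtype.ext h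
      exact e.injective (h1.trans (map_one e).symm)
    · exact h
  have hzcQ : zc ∈ Q'' := by rw [memQ'', hezc]; exact hsQ
  have hN : Subgroup.normalizer (((T : Subgroup C).map C.subtype : Subgroup G) : Set G) ≤ C := by
    intro g hg
    rw [memC]
    obtain ⟨T', hT'⟩ : ∃ T' : Subgroup G, T' = (T : Subgroup C).map C.subtype := ⟨_, rfl⟩
    rw [← hT'] at hg
    have hT'mem : ∀ c : C, c ∈ (T : Subgroup C) → (c : G) ∈ T' := by
      intro c hc; rw [hT']; exact ⟨c, hc, rfl⟩
    have hT'C : ∀ x ∈ T', ∃ c : C, c ∈ (T : Subgroup C) ∧ (c : G) = x := by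
      intro x hx; rw [hT'] at hx
      obtain ⟨c, hc, hcx⟩ := hx
      exact ⟨c, hc, hcx⟩
    have hzT : z ∈ T' := by rw [← hzc]; exact hT'mem zc (hQT hzcQ)
    have hgz : g * z * g⁻¹ ∈ T' := (Subgroup.mem_normalizer_iff.mp hg z).mp hzT
    obtain ⟨w, hwT, hw'⟩ := hT'C _ hgz
    have hcomm : ∀ q ∈ Q, ((e w : C') : SL5) * q = q * ((e w : C') : SL5) := by
      intro q hq
      have hqC' := hQC' hq
      obtain ⟨qc, hqc⟩ : ∃ qc : C, qc = e.symm ⟨q, hqC'⟩ := ⟨_, rfl⟩
      have hqcQ : qc ∈ Q'' := by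
        rw [memQ'', hqc, e.apply_symm_apply]; exact hq
      have hqcT : (qc : G) ∈ T' := hT'mem qc (hQT hqcQ)
      have hginv : g⁻¹ ∈ Subgroup.normalizer (T' : Set G) := inv_mem hg
      have h1 : g⁻¹ * (qc : G) * g⁻¹⁻¹ ∈ T' := (Subgroup.mem_normalizer_iff.mp hginv _).mp hqcT
      rw [inv_inv] at h1
      have h2 : g⁻¹ * (qc : G) * g ∈ C := by
        obtain ⟨y, -, hy⟩ := hT'C _ h1
        rw [← hy]; exact y.2
      rw [memC] at h2
      have h3 : (qc : G) * (w : G) = (w : G) * (qc : G) := by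
        rw [hw']
        have e1 : (qc : G) * (g * z * g⁻¹) = g * ((g⁻¹ * (qc : G) * g) * z) * g⁻¹ := by group
        rw [e1, h2]; group
      have h4 : qc * w = w * qc := Subtype.ext h3
      have h5 := congrArg e h4
      rw [map_mul, map_mul, hqc, e.apply_symm_apply] at h5
      exact (congrArg Subtype.val h5).symm
    have hw1 : w ≠ 1 := by
      intro h
      rw [h] at hw'
      apply hz1
      have h6 : g * z * g⁻¹ = 1 := hw'.symm
      have e1 : z = g⁻¹ * (g * z * g⁻¹) * g := by group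
      rw [e1, h6]; group
    have hew : ((e w : C') : SL5) = s := by
      rcases key (e w) hcomm with h | h
      · exfalso; apply hw1
        have h1 : e w = 1 := Subtype.ext h
        exact e.injective (h1.trans (map_one e).symm)
      · exact h
    have hwz : w = zc := e.injective (Subtype.ext (hew.trans hezc.symm))
    have h7 : g * z * g⁻¹ = z := by rw [← hw', hwz, hzc]
    calc g * z = g * z * g⁻¹ * g := by group
      _ = z * g := by rw [h7]
  obtain ⟨S, hS⟩ := sylow_of_normalizer_le C T hN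
  rw [← hS]
  exact S.not_dvd_index

theorem sylow_of_transvection_centralizer {G : Type*} [Group G] [Finite G] (s : SL5)
    (hs : (s : M5) = Matrix.transvection 0 1 1) (z : G) (hz : orderOf z = 2)
    (e : Subgroup.centralizer ({z} : Set G) ≃* Subgroup.centralizer ({s} : Set SL5))
    (T : Sylow 2 (Subgroup.centralizer ({z} : Set G))) :
    ¬ 2 ∣ ((T : Subgroup (Subgroup.centralizer ({z} : Set G))).map
      (Subgroup.subtype (Subgroup.centralizer ({z} : Set G)))).index :=
  sylow_core s hs z hz _ rfl _ rfl e T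

end Cfsg.Agent.Lib.Helper1.TV5
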