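import Mathlib

set_option autoImplicit false
set_option maxHeartbeats 4000000
set_option linter.unusedVariables false
set_option linter.unusedSectionVars false
set_option linter.style.longLine false
set_option linter.unusedSimpArgs false
set_option linter.deprecated false

/-! Commuting involutions in `M_n(F)`: common eigenvectors span; an elementary abelian subgroup of
order 8 of `GL_3(F)` (char ≠ 2) contains `-1` and has a commutative centralizer. -/

namespace Cfsg.Agent.Lib.Helper1.Tg

open Matrix

universe u v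

variable {F : Type u} [Field F] {n : Type v} [Fintype n] [DecidableEq n]

/-- common eigenvectors (eigenvalues `±1`) of the matrices `w i`, `i ∈ T` -/
def ceig {ι : Type*} (w : ι → Matrix n n F) (T : Set ι) : Set (n → F) :=
  {v | ∀ i ∈ T, w i *ᵥ v = v ∨ w i *ᵥ v = -v}

theorem span_ceig {ι : Type*} (h2 : (2 : F) ≠ 0) (w : ι → Matrix n n F)
    (hsq : ∀ i, w i * w i = 1) (hcomm : ∀ i j, w i * w j = w j * w i) (T : Finset ι) :
    Submodule.span F (ceig w (T : Set ι)) = ⊤ := by
  classical
  induction T using Finset.induction_on with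
  | empty =>
    have : ceig w ((∅ : Finset ι) : Set ι) = Set.univ := by
      ext v
      simp [ceig]
    rw [this, Submodule.span_univ]
  | insert i₀ T hi₀ ih =>
    rw [eq_top_iff, ← ih]
    apply Submodule.span_le.mpr
    intro v hv
    have e : v = (2 : F)⁻¹ • (v + w i₀ *ᵥ v) + (2 : F)⁻¹ • (v - w i₀ *ᵥ v) := by
      rw [← smul_add]
      have : v + w i₀ *ᵥ v + (v - w i₀ *ᵥ v) = (2 : F) • v := by
        rw [two_smul]; abel
      rw [this, smul_smul, inv_mul_cancel₀ h2, one_smul]
    rw [e]
    have hww : w i₀ *ᵥ (w i₀ *ᵥ v) = v := by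
      rw [mulVec_mulVec, hsq, one_mulVec]
    apply Submodule.add_mem <;> apply Submodule.smul_mem <;> apply Submodule.subset_span
    · intro i hi
      rw [Finset.coe_insert, Set.mem_insert_iff] at hi
      rcases hi with rfl | hi
      · left
        rw [mulVec_add, hww, add_comm]
      · have hcm : w i *ᵥ (w i₀ *ᵥ v) = w i₀ *ᵥ (w i *ᵥ v) := by
          rw [mulVec_mulVec, mulVec_mulVec, hcomm]
        rcases hv i hi with h | h
        · left; rw [mulVec_add, hcm, h]
        · right; rw [mulVec_add, hcm, h, mulVec_neg, neg_add]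
    · intro i hi
      rw [Finset.coe_insert, Set.mem_insert_iff] at hi
      rcases hi with rfl | hi
      · right
        rw [mulVec_sub, hww, neg_sub]
      · have hcm : w i *ᵥ (w i₀ *ᵥ v) = w i₀ *ᵥ (w i *ᵥ v) := by
          rw [mulVec_mulVec, mulVec_mulVec, hcomm]
        rcases hv i hi with h | h
        · left; rw [mulVec_sub, hcm, h]
        · right; rw [mulVec_sub, hcm, h, mulVec_neg]; abel

theorem exists_eigenbasis {ι : Type*} [Finite ι] (h2 : (2 : F) ≠ 0) (w : ι → Matrix n n F)
    (hsq : ∀ i, w i * w i = 1) (hcomm : ∀ i j, w i * w j = w j * w i) :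
    ∃ (b : Set (n → F)) (B : Module.Basis b F (n → F)), (∀ x : b, B x = (x : n → F)) ∧
      ∀ x : b, ∀ i, w i *ᵥ (x : n → F) = x ∨ w i *ᵥ (x : n → F) = -(x : n → F) := by
  classical
  haveI := Fintype.ofFinite ι
  have hs := span_ceig h2 w hsq hcomm (Finset.univ : Finset ι)
  obtain ⟨b, hbs, hbspan, hli⟩ :=
    exists_linearIndependent F (ceig w ((Finset.univ : Finset ι) : Set ι))
  have hsp : ⊤ ≤ Submodule.span F (Set.range ((↑) : b → (n → F))) := by
    rw [Subtype.range_coe, hbspan, hs]
  refine ⟨b, Module.Basis.mk hli hsp, fun x => Module.Basis.mk_apply hli hsp x, ?_⟩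
  intro x i
  exact hbs x.2 i (by simp)

theorem repr_mulVec_of_eig {b : Type*} (B : Module.Basis b F (n → F)) (M : Matrix n n F)
    (s : b → F) (hs : ∀ k, M *ᵥ B k = s k • B k) (u : n → F) (k : b) :
    B.repr (M *ᵥ u) k = s k * B.repr u k := by
  classical
  have key : (Finsupp.lapply k ∘ₗ B.repr.toLinearMap ∘ₗ Matrix.toLin' M) =
      s k • (Finsupp.lapply k ∘ₗ B.repr.toLinearMap) := by
    apply B.ext
    intro j
    simp only [LinearMap.comp_apply, LinearMap.smul_apply, Matrix.toLin'_apply,
      LinearEquiv.coe_coe, Finsupp.lapply_apply, hs j, map_smul, B.repr_self,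
      Finsupp.smul_apply, Finsupp.single_apply, smul_eq_mul]
    split_ifs with h
    · subst h; rfl
    · simp
  have := LinearMap.congr_fun key u
  simpa using this

theorem matrix_ext_basis {b : Type*} (B : Module.Basis b F (n → F)) (M N : Matrix n n F)
    (h : ∀ k, M *ᵥ B k = N *ᵥ B k) : M = N := by
  apply Matrix.toLin'.injective
  apply B.ext
  intro k
  rw [Matrix.toLin'_apply, Matrix.toLin'_apply, h k]

theorem e8_main {ι : Type*} [Fintype ι] (h2 : (2 : F) ≠ 0)
    (w : ι → Matrix (Fin 3) (Fin 3) F)
    (hsq : ∀ i, w i * w i = 1) (hcomm : ∀ i j, w i * w j = w j * w i)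
    (hinj : Function.Injective w) (hcard : Fintype.card ι = 8) :
    (∃ i, w i = -1) ∧
    (∀ x y : Matrix (Fin 3) (Fin 3) F, (∀ i, x * w i = w i * x) → (∀ i, y * w i = w i * y) →
      x * y = y * x) := by
  classical
  obtain ⟨b, B, hB, heig⟩ := exists_eigenbasis h2 w hsq hcomm
  haveI : Finite b := Module.Finite.finite_basis B
  haveI : Fintype b := Fintype.ofFinite b
  have hcardb : Fintype.card b = 3 := by
    have h1 := Module.finrank_eq_card_basis B
    rw [Module.finrank_fin_fun] at h1
    exact h1.symm
  have hne : ∀ x : b, (x : Fin 3 → F) ≠ 0 := by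
    intro x
    rw [← hB x]
    exact B.ne_zero x
  have hneg : ∀ x : b, (x : Fin 3 → F) ≠ -(x : Fin 3 → F) := by
    intro x hx
    apply hne x
    have h3 : (2 : F) • (x : Fin 3 → F) = 0 := by
      rw [two_smul]
      nth_rewrite 2 [hx]
      rw [add_neg_cancel]
    rcases smul_eq_zero.mp h3 with h | h
    · exact absurd h h2
    · exact h
  -- the sign pattern
  let χ : ι → (b → Bool) := fun i x => decide (w i *ᵥ (x : Fin 3 → F) = x)
  have hχt : ∀ i x, χ i x = true → w i *ᵥ (x : Fin 3 → F) = x := by
    intro i x h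
    exact of_decide_eq_true h
  have hχf : ∀ i x, χ i x = false → w i *ᵥ (x : Fin 3 → F) = -(x : Fin 3 → F) := by
    intro i x h
    have h1 : ¬ (w i *ᵥ (x : Fin 3 → F) = x) := of_decide_eq_false h
    rcases heig x i with h' | h'
    · exact absurd h' h1
    · exact h'
  have hχinj : Function.Injective χ := by
    intro i j hij
    apply hinj
    apply matrix_ext_basis B
    intro k
    rw [hB k]
    have hk : χ i k = χ j k := congrFun hij k
    cases hc : χ i k
    · rw [hχf i k hc, hχf j k (hk ▸ hc)]
    · rw [hχt i k hc, hχt j k (hk ▸ hc)]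
  have hχbij : Function.Bijective χ := by
    rw [Fintype.bijective_iff_injective_and_card]
    refine ⟨hχinj, ?_⟩
    rw [hcard, Fintype.card_fun, hcardb, Fintype.card_bool]
    norm_num
  -- eigenvalue function
  let s : ι → b → F := fun i x => if χ i x then 1 else -1
  have hs : ∀ i k, w i *ᵥ B k = s i k • B k := by
    intro i k
    rw [hB k]
    show _ = (if χ i k then (1 : F) else -1) • (k : Fin 3 → F)
    cases hc : χ i k
    · rw [hχf i k hc]; simp
    · rw [hχt i k hc]; simp
  -- diagonal lemma
  have hdiag : ∀ x : Matrix (Fin 3) (Fin 3) F, (∀ i, x * w i = w i * x) →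
      ∀ y : b, ∃ a : F, x *ᵥ B y = a • B y := by
    intro x hx y
    obtain ⟨i, hi⟩ := hχbij.2 (fun y' => decide (y' = y))
    set u := x *ᵥ B y with hu
    have hfix : w i *ᵥ u = u := by
      rw [hu, mulVec_mulVec, ← hx i, ← mulVec_mulVec, hs i y]
      have : s i y = 1 := by
        show (if χ i y then (1 : F) else -1) = 1
        rw [hi]; simp
      rw [this, one_smul]
    have hcoord : ∀ k : b, k ≠ y → B.repr u k = 0 := by
      intro k hk
      have h1 := repr_mulVec_of_eig B (w i) (s i) (hs i) u k
      rw [hfix] at h1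
      have hsk : s i k = -1 := by
        show (if χ i k then (1 : F) else -1) = -1
        rw [hi]; simp [hk]
      rw [hsk] at h1
      have h3 : (2 : F) * B.repr u k = 0 := by
        rw [two_mul]
        nth_rewrite 2 [h1]
        ring
      rcases mul_eq_zero.mp h3 with h | h
      · exact absurd h h2
      · exact h
    refine ⟨B.repr u y, ?_⟩
    have hsum := B.sum_repr u
    rw [Finset.sum_eq_single y] at hsum
    · exact hsum.symm
    · intro k _ hk
      rw [hcoord k hk, zero_smul]
    · intro h
      exact absurd (Finset.mem_univ y) h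
  refine ⟨?_, ?_⟩
  · obtain ⟨i, hi⟩ := hχbij.2 (fun _ => false)
    refine ⟨i, ?_⟩
    apply matrix_ext_basis B
    intro k
    rw [hB k, hχf i k (congrFun hi k), neg_mulVec, one_mulVec]
  · intro x y hx hy
    apply matrix_ext_basis B
    intro k
    obtain ⟨a, ha⟩ := hdiag x hx k
    obtain ⟨a', ha'⟩ := hdiag y hy k
    rw [← mulVec_mulVec, ← mulVec_mulVec, ha, ha', mulVec_smul, mulVec_smul, ha, ha',
      smul_comm]

end Cfsg.Agent.Lib.Helper1.Tg
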