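import Mathlib

set_option autoImplicit false
set_option maxHeartbeats 4000000
set_option linter.unusedVariables false
set_option linter.unusedSectionVars false
set_option linter.style.longLine false
set_option linter.unusedSimpArgs false
set_option linter.deprecated false

/-! Evaluation of the transfer `G → A` (from a 2-subgroup `H` of odd index) at an involution
`c` commuting with `H`. -/

namespace Cfsg.Agent.Lib.Helper1.Tg

open scoped Pointwise
open MulAction Subgroup

universe u

variable {G : Type u} [Group G] {A : Type*} [CommGroup A]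

open Classical in
/-- extension of `φ : H →* A` to a function on `G` by the value `1` outside `H` -/
noncomputable def ext1 {H : Subgroup G} (φ : H →* A) : G → A :=
  fun x => if h : x ∈ H then φ ⟨x, h⟩ else 1

theorem ext1_of_mem {H : Subgroup G} (φ : H →* A) {x : G} (h : x ∈ H) :
    ext1 φ x = φ ⟨x, h⟩ := by
  unfold ext1
  rw [dif_pos h]

theorem ext1_coe {H : Subgroup G} (φ : H →* A) (x : H) (b : G) (h : (x : G) = b) :
    φ x = ext1 φ b := by
  subst h
  rw [ext1_of_mem φ x.2]

theorem ext1_mul {H : Subgroup G} (φ : H →* A) {x y : G} (hx : x ∈ H) (hy : y ∈ H) :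
    ext1 φ (x * y) = ext1 φ x * ext1 φ y := by
  rw [ext1_of_mem φ hx, ext1_of_mem φ hy, ext1_of_mem φ (H.mul_mem hx hy), ← map_mul]
  rfl

theorem ext1_one {H : Subgroup G} (φ : H →* A) : ext1 φ 1 = 1 := by
  rw [ext1_of_mem φ H.one_mem]
  exact map_one φ

theorem ext1_conj {H : Subgroup G} (φ : H →* A) {x h : G} (hx : x ∈ H) (hh : h ∈ H) :
    ext1 φ (h⁻¹ * x * h) = ext1 φ x := by
  rw [ext1_mul φ (H.mul_mem (H.inv_mem hh) hx) hh, ext1_mul φ (H.inv_mem hh) hx,
    mul_comm (ext1 φ h⁻¹), mul_assoc, ← ext1_mul φ (H.inv_mem hh) hh, inv_mul_cancel, ext1_one,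
    mul_one]

theorem transfer_eq_prod_out {H : Subgroup G} [H.FiniteIndex] (φ : H →* A) (g : G) :
    MonoidHom.transfer φ g =
      @Finset.prod (G ⧸ H) A _ (@Finset.univ _ H.fintypeQuotientOfFiniteIndex)
        (fun q => ext1 φ ((q.out)⁻¹ * (g * (g⁻¹ • q).out))) := by
  letI := H.fintypeQuotientOfFiniteIndex
  rw [MonoidHom.transfer_def φ default g]
  unfold Subgroup.leftTransversals.diff
  apply Finset.prod_congr rfl
  intro q _
  apply ext1_coe
  have hα : ∀ q : G ⧸ H,
      (((default : H.LeftTransversal).2.leftQuotientEquiv q : _) : G) = q.out := by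
    intro q
    exact IsComplement.leftQuotientEquiv_apply Quotient.out_eq' q
  show ((default : H.LeftTransversal).2.leftQuotientEquiv q : G)⁻¹ *
    ((g • (default : H.LeftTransversal)).2.leftQuotientEquiv q : G) = _
  rw [smul_apply_eq_smul_apply_inv_smul, hα, hα, smul_eq_mul]

theorem mem_normalizer_of_conj_mem [Finite G] (H : Subgroup G) (g : G)
    (h : ∀ y ∈ H, g⁻¹ * y * g ∈ H) : g ∈ Subgroup.normalizer (H : Set G) := by
  have hinj : Function.Injective (fun y : H => (⟨g⁻¹ * y * g, h y y.2⟩ : H)) := by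
    intro a b hab
    have h1 : g⁻¹ * (a : G) * g = g⁻¹ * (b : G) * g := congrArg Subtype.val hab
    exact Subtype.ext (mul_left_cancel (mul_right_cancel h1))
  have hsurj := Finite.surjective_of_injective hinj
  have hinv : g⁻¹ ∈ Subgroup.normalizer (H : Set G) := by
    rw [Subgroup.mem_normalizer_iff]
    intro x
    rw [inv_inv]
    constructor
    · intro hx
      exact h x hx
    · intro hx
      obtain ⟨y, hy⟩ := hsurj ⟨g⁻¹ * x * g, hx⟩
      have h1 : g⁻¹ * (y : G) * g = g⁻¹ * x * g := congrArg Subtype.val hy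
      have h2 : (y : G) = x := mul_left_cancel (mul_right_cancel h1)
      rw [← h2]
      exact y.2
  have := (Subgroup.normalizer (H : Set G)).inv_mem hinv
  rwa [inv_inv] at this

theorem zmod2_one_add_one : (1 : ZMod 2) + 1 = 0 := by decide

theorem transfer_central_involution [Finite G] (H : Subgroup G) (hHp : IsPGroup 2 H)
    (hodd : ¬ 2 ∣ H.index) (φ : H →* A) (c : G) (hc2 : c * c = 1)
    (hcent : ∀ x ∈ H, x * c = c * x) (ε : A) (hε : ε * ε = 1) (hε1 : ε ≠ 1)
    (hval : ∀ g : G, g⁻¹ * c * g ∈ H →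
      ext1 φ (g⁻¹ * c * g) = 1 ∨ ext1 φ (g⁻¹ * c * g) = ε)
    (hnorm : ∀ g : G, g ∈ Subgroup.normalizer (H : Set G) → ext1 φ (g⁻¹ * c * g) = ε) :
    MonoidHom.transfer φ c = ε := by
  classical
  haveI : Fact (Nat.Prime 2) := ⟨Nat.prime_two⟩
  letI : Fintype (G ⧸ H) := H.fintypeQuotientOfFiniteIndex
  rw [transfer_eq_prod_out φ c]
  have hcinv : c⁻¹ = c := inv_eq_of_mul_eq_one_right hc2
  have hcc : ∀ q : G ⧸ H, c • c • q = q := by
    intro q
    rw [← mul_smul, hc2, one_smul]
  have hout : ∀ q : G ⧸ H, ((q.out : G) : G ⧸ H) = q := fun q => QuotientGroup.out_eq' q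
  have hfix_iff : ∀ g : G, c • (g : G ⧸ H) = (g : G ⧸ H) ↔ g⁻¹ * c * g ∈ H := by
    intro g
    rw [MulAction.Quotient.smul_mk, QuotientGroup.eq, smul_eq_mul, mul_inv_rev, hcinv, mul_assoc]
  -- split the product
  rw [← Finset.prod_filter_mul_prod_filter_not Finset.univ (fun q : G ⧸ H => c • q = q)]
  have hnonfix : ∏ q ∈ Finset.univ.filter (fun q : G ⧸ H => ¬ c • q = q),
      ext1 φ ((q.out)⁻¹ * (c * (c⁻¹ • q).out)) = 1 := by
    refine Finset.prod_involution (g := fun a _ => c • a) (hg₁ := ?_) (hg₃ := ?_) (g_mem := ?_)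
      (hg₄ := ?_)
    · intro a _
      rw [hcinv, hcc a]
      have hm1 : (a.out)⁻¹ * (c * (c • a).out) ∈ H := by
        apply QuotientGroup.eq.mp
        rw [hout a]
        have : ((c * (c • a).out : G) : G ⧸ H) = c • (((c • a).out : G) : G ⧸ H) := rfl
        rw [this, hout, hcc]
      have hm2 : ((c • a).out)⁻¹ * (c * a.out) ∈ H := by
        apply QuotientGroup.eq.mp
        rw [hout (c • a)]
        have : ((c * a.out : G) : G ⧸ H) = c • ((a.out : G) : G ⧸ H) := rfl
        rw [this, hout]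
      rw [← ext1_mul φ hm1 hm2]
      have : (a.out)⁻¹ * (c * (c • a).out) * (((c • a).out)⁻¹ * (c * a.out)) =
          (a.out)⁻¹ * (c * c) * a.out := by group
      rw [this, hc2, mul_one, inv_mul_cancel, ext1_one]
    · intro a ha _
      exact (Finset.mem_filter.mp ha).2
    · intro a ha
      rw [Finset.mem_filter]
      refine ⟨Finset.mem_univ _, ?_⟩
      rw [hcc a]
      intro h
      exact (Finset.mem_filter.mp ha).2 h.symm
    · intro a _
      exact hcc a
  rw [hnonfix, mul_one]
  -- the fixed part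
  set τ : G → A := fun g => ext1 φ (g⁻¹ * c * g) with hτ
  have hfixprod : ∏ q ∈ Finset.univ.filter (fun q : G ⧸ H => c • q = q),
      ext1 φ ((q.out)⁻¹ * (c * (c⁻¹ • q).out)) =
      ∏ q ∈ Finset.univ.filter (fun q : G ⧸ H => c • q = q), τ q.out := by
    apply Finset.prod_congr rfl
    intro q hq
    have hq' := (Finset.mem_filter.mp hq).2
    rw [hcinv, hq', ← mul_assoc]
  rw [hfixprod]
  let Sp : Set (G ⧸ H) := {q | ∃ g : G, (g : G ⧸ H) = q ∧ g⁻¹ * c * g ∈ H ∧ τ g = 1}
  have hR : ∀ g h : G, g⁻¹ * c * g ∈ H → h ∈ H → τ (g * h) = τ g := by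
    intro g h hg hh
    show ext1 φ ((g * h)⁻¹ * c * (g * h)) = ext1 φ (g⁻¹ * c * g)
    have : (g * h)⁻¹ * c * (g * h) = h⁻¹ * (g⁻¹ * c * g) * h := by group
    rw [this, ext1_conj φ hg hh]
  have hSpfix : ∀ q ∈ Sp, c • q = q := by
    rintro q ⟨g, hgq, hgH, _⟩
    rw [← hgq]
    exact (hfix_iff g).mpr hgH
  have hfixH : ∀ q : G ⧸ H, c • q = q → (q.out)⁻¹ * c * q.out ∈ H := by
    intro q hq
    apply (hfix_iff q.out).mp
    rw [hout q]
    exact hq
  have hSp_iff : ∀ q : G ⧸ H, c • q = q → (τ q.out = 1 ↔ q ∈ Sp) := by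
    intro q hq
    constructor
    · intro h
      exact ⟨q.out, hout q, hfixH q hq, h⟩
    · rintro ⟨g, hgq, hgH, hg1⟩
      have hh : g⁻¹ * q.out ∈ H := by
        apply QuotientGroup.eq.mp
        rw [hgq, hout q]
      have : q.out = g * (g⁻¹ * q.out) := by group
      rw [this, hR g _ hgH hh, hg1]
  have hprod2 : ∏ q ∈ Finset.univ.filter (fun q : G ⧸ H => c • q = q), τ q.out =
      ∏ q ∈ Finset.univ.filter (fun q : G ⧸ H => c • q = q), (if q ∈ Sp then (1 : A) else ε) := by
    apply Finset.prod_congr rfl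
    intro q hq
    have hq' := (Finset.mem_filter.mp hq).2
    by_cases hS : q ∈ Sp
    · rw [if_pos hS]
      exact (hSp_iff q hq').mpr hS
    · rw [if_neg hS]
      rcases hval q.out (hfixH q hq') with h | h
      · exact absurd ((hSp_iff q hq').mp h) hS
      · exact h
  rw [hprod2, Finset.prod_ite, Finset.prod_const_one, one_mul, Finset.prod_const]
  -- parity
  set Fix := Finset.univ.filter (fun q : G ⧸ H => c • q = q) with hFix
  set NonFix := Finset.univ.filter (fun q : G ⧸ H => ¬ c • q = q) with hNonFix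
  have hNF_even : Even NonFix.card := by
    rw [← ZMod.natCast_eq_zero_iff_even]
    have h1 : (∑ q ∈ NonFix, (1 : ZMod 2)) = 0 := by
      refine Finset.sum_involution (g := fun a _ => c • a) (hg₁ := ?_) (hg₃ := ?_) (g_mem := ?_)
        (hg₄ := ?_)
      · intro a _
        exact zmod2_one_add_one
      · intro a ha _
        exact (Finset.mem_filter.mp ha).2
      · intro a ha
        rw [hNonFix, Finset.mem_filter]
        refine ⟨Finset.mem_univ _, ?_⟩
        rw [hcc a]
        intro h
        exact (Finset.mem_filter.mp ha).2 h.symm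
      · intro a _
        exact hcc a
    rw [Finset.sum_const, nsmul_one] at h1
    exact h1
  have hcardsum : Fix.card + NonFix.card = H.index := by
    rw [hFix, hNonFix, Finset.card_filter_add_card_filter_not, Finset.card_univ,
      Subgroup.index_eq_card, Nat.card_eq_fintype_card]
  have hFix_odd : Odd Fix.card := by
    rw [← Nat.not_even_iff_odd]
    intro he
    apply hodd
    rw [← hcardsum]
    exact (he.add hNF_even).two_dvd
  -- Sp has even cardinality
  let Ssub : SubMulAction H (G ⧸ H) :=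
    { carrier := Sp
      smul_mem' := by
        rintro y q ⟨g, hgq, hgH, hg1⟩
        have hyc := hcent y y.2
        have e : ((y : G) * g)⁻¹ * c * ((y : G) * g) = g⁻¹ * c * g := by
          calc ((y : G) * g)⁻¹ * c * ((y : G) * g) = g⁻¹ * ((y : G)⁻¹ * (c * y)) * g := by group
            _ = g⁻¹ * ((y : G)⁻¹ * (y * c)) * g := by rw [hyc]
            _ = g⁻¹ * c * g := by group
        refine ⟨(y : G) * g, ?_, ?_, ?_⟩
        · rw [← hgq]
          rfl
        · rw [e]; exact hgH
        · show ext1 φ (((y : G) * g)⁻¹ * c * ((y : G) * g)) = 1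
          rw [e]; exact hg1 }
  have hmod := hHp.card_modEq_card_fixedPoints (↥Ssub)
  have hfp_empty : IsEmpty (fixedPoints H (↥Ssub)) := by
    constructor
    rintro ⟨⟨q, ⟨g, hgq, hgH, hg1⟩⟩, hfp⟩
    have hgn : g ∈ Subgroup.normalizer (H : Set G) := by
      apply mem_normalizer_of_conj_mem
      intro y hy
      have h1 := hfp ⟨y⁻¹, H.inv_mem hy⟩
      have h2 : (⟨y⁻¹, H.inv_mem hy⟩ : H) • q = q := congrArg Subtype.val h1
      rw [← hgq] at h2
      have h3 : ((y⁻¹ * g : G) : G ⧸ H) = (g : G ⧸ H) := h2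
      have h4 := QuotientGroup.eq.mp h3
      have : (y⁻¹ * g)⁻¹ * g = g⁻¹ * y * g := by group
      rw [this] at h4
      exact h4
    have := hnorm g hgn
    apply hε1
    rw [← this]
    exact hg1
  have hSpcard : Nat.card (↥Ssub) = (Finset.univ.filter (fun q : G ⧸ H => q ∈ Sp)).card := by
    apply Nat.subtype_card
    intro x
    rw [Finset.mem_filter]
    constructor
    · intro h; exact h.2
    · intro h; exact ⟨Finset.mem_univ _, h⟩
  have hSp_even : Even (Finset.univ.filter (fun q : G ⧸ H => q ∈ Sp)).card := by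
    rw [← hSpcard]
    have h0 : Nat.card (fixedPoints H (↥Ssub)) = 0 := Nat.card_of_isEmpty
    rw [h0] at hmod
    exact even_iff_two_dvd.mpr (Nat.modEq_zero_iff_dvd.mp hmod)
  have hFp : Fix.filter (fun q => q ∈ Sp) = Finset.univ.filter (fun q : G ⧸ H => q ∈ Sp) := by
    ext q
    simp only [Finset.mem_filter, Finset.mem_univ, true_and, hFix]
    constructor
    · intro h; exact h.2
    · intro h; exact ⟨hSpfix q h, h⟩
  have hsplit := Finset.card_filter_add_card_filter_not (s := Fix) (fun q => q ∈ Sp)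
  rw [hFp] at hsplit
  have hm_odd : Odd (Fix.filter (fun q => ¬ q ∈ Sp)).card := by
    rw [← Nat.not_even_iff_odd]
    intro he
    have : Even Fix.card := by
      rw [← hsplit]
      exact hSp_even.add he
    exact (Nat.not_even_iff_odd.mpr hFix_odd) this
  obtain ⟨k, hk⟩ := hm_odd
  rw [hk, pow_succ, pow_mul, pow_two, hε, one_pow, one_mul]

end Cfsg.Agent.Lib.Helper1.Tg
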