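import Mathlib
import Cfsg.Agent.Lib.Helper1.Tg1
import Cfsg.Agent.Lib.Helper1.Tg2
import Cfsg.Agent.Lib.Helper1.Nilpotent

set_option autoImplicit false
set_option maxHeartbeats 4000000
set_option linter.unusedVariables false
set_option linter.unusedSectionVars false
set_option linter.style.longLine false
set_option linter.unusedSimpArgs false
set_option linter.deprecated false

/-! A 2-subgroup `H` of odd index of a finite group `G` without subgroups of index 2, embedded in
`GL_3(F)` (`F` finite of odd order) and containing an elementary abelian subgroup of order 8, is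
abelian (Thompson, N-groups, Lemma 5.x). -/

namespace Cfsg.Agent.Lib.Helper1.Tg

open Matrix
open scoped commutatorElement

theorem two_ne_zero_of_odd_card {F : Type*} [Field F] [Fintype F] (hF : Odd (Fintype.card F)) :
    (2 : F) ≠ 0 := by
  intro h
  have h1 : ringChar F = 2 := CharP.ringChar_of_prime_eq_zero Nat.prime_two (by exact_mod_cast h)
  have h2 := FiniteField.even_card_of_char_two h1
  rw [Nat.odd_iff] at hF
  omega

theorem mul_mul_self_of_comm {M : Type*} [Monoid M] (x y z : M) (hxy : x * y = y * x)
    (hxz : x * z = z * x) (hyz : y * z = z * y) (hx : x * x = 1) (hy : y * y = 1) (hz : z * z = 1) :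
    (x * y * z) * (x * y * z) = 1 := by
  calc (x * y * z) * (x * y * z) = x * (y * (z * x) * (y * z)) := by simp only [mul_assoc]
    _ = x * (y * (x * z) * (z * y)) := by rw [hxz, hyz]
    _ = x * ((y * x) * (z * z) * y) := by simp only [mul_assoc]
    _ = x * ((x * y) * 1 * y) := by rw [hxy, hz]
    _ = (x * x) * (y * y) := by simp only [mul_assoc, mul_one]
    _ = 1 := by rw [hx, hy, mul_one]

/-- index two subgroup from a homomorphism to the units of a finite field taking the value -1 -/
theorem exists_index_two {G : Type*} [Group G] [Finite G] {F : Type*} [Field F] [Fintype F]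
    (h2 : (2 : F) ≠ 0) (V : G →* Fˣ) (c : G) (hV : V c = -1) : ∃ L : Subgroup G, L.index = 2 := by
  classical
  have hne : (-1 : Fˣ) ≠ 1 := by
    intro h
    have h1 : ((-1 : Fˣ) : F) = ((1 : Fˣ) : F) := congrArg Units.val h
    rw [Units.val_neg, Units.val_one] at h1
    apply h2
    have : (2 : F) = 1 - (-1) := by ring
    rw [this, h1]; ring
  let m : V.range := ⟨-1, ⟨c, hV⟩⟩
  have hm2 : m ^ 2 = 1 := by
    apply Subtype.ext
    show (-1 : Fˣ) ^ 2 = 1
    simp
  have hm1 : m ≠ 1 := by
    intro h
    exact hne (congrArg Subtype.val h)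
  have hord : orderOf m = 2 := orderOf_eq_prime hm2 hm1
  have hdvd : 2 ∣ Nat.card V.range := by
    rw [← hord]
    exact orderOf_dvd_natCard m
  have hK : (powMonoidHom 2 : V.range →* V.range).range.index = 2 := by
    rw [IsCyclic.index_powMonoidHom_range, Nat.gcd_eq_right hdvd]
  refine ⟨(powMonoidHom 2 : V.range →* V.range).range.comap V.rangeRestrict, ?_⟩
  exact (Subgroup.index_comap_of_surjective _ V.rangeRestrict_surjective).trans hK

theorem core {G : Type*} [Group G] [Finite G] (hG : ∀ L : Subgroup G, L.index ≠ 2)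
    (H : Subgroup G) (hHp : IsPGroup 2 H) (hodd : ¬ 2 ∣ H.index)
    {F : Type*} [Field F] [Fintype F] (hF : Odd (Fintype.card F))
    (f : H →* GL (Fin 3) F) (hf : Function.Injective f)
    (E : Subgroup G) (hE : E ≤ H) (hEc : ∀ a ∈ E, ∀ b ∈ E, a * b = b * a)
    (hE2 : ∀ a ∈ E, a * a = 1) (hE8 : Nat.card E = 8) :
    ∀ a b : H, a * b = b * a := by
  classical
  by_contra hnc
  push_neg at hnc
  have h2 : (2 : F) ≠ 0 := two_ne_zero_of_odd_card hF
  haveI : Fact (Nat.Prime 2) := ⟨Nat.prime_two⟩
  -- matrices of elements of H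
  let fm : H → Matrix (Fin 3) (Fin 3) F := fun x => ((f x : GL (Fin 3) F) : Matrix (Fin 3) (Fin 3) F)
  have hfm_mul : ∀ x y : H, fm (x * y) = fm x * fm y := by
    intro x y
    show ((f (x * y) : GL (Fin 3) F) : Matrix (Fin 3) (Fin 3) F) = _
    rw [map_mul, Units.val_mul]
  have hfm_one : fm 1 = 1 := by
    show ((f 1 : GL (Fin 3) F) : Matrix (Fin 3) (Fin 3) F) = _
    rw [map_one, Units.val_one]
  have hfm_inj : Function.Injective fm := by
    intro x y hxy
    exact hf (Units.ext hxy)
  -- determinant
  let δ : H →* Fˣ := (Matrix.GeneralLinearGroup.det).comp f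
  have hδ_val : ∀ x : H, ((δ x : Fˣ) : F) = (fm x).det := by
    intro x
    rfl
  -- the family of E
  haveI : Fintype E := Fintype.ofFinite E
  have hcardE : Fintype.card E = 8 := by rw [← Nat.card_eq_fintype_card]; exact hE8
  let emb : E → H := fun e => ⟨e, hE e.2⟩
  have hemb_mul : ∀ a b : E, emb (a * b) = emb a * emb b := fun a b => rfl
  let w : E → Matrix (Fin 3) (Fin 3) F := fun e => fm (emb e)
  have hw_sq : ∀ e, w e * w e = 1 := by
    intro e
    show fm (emb e) * fm (emb e) = 1
    rw [← hfm_mul, ← hfm_one]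
    congr 1
    apply Subtype.ext
    exact hE2 e e.2
  have hw_comm : ∀ e e', w e * w e' = w e' * w e := by
    intro e e'
    show fm (emb e) * fm (emb e') = fm (emb e') * fm (emb e)
    rw [← hfm_mul, ← hfm_mul]
    congr 1
    apply Subtype.ext
    exact hEc e e.2 e' e'.2
  have hw_inj : Function.Injective w := by
    intro e e' h
    have h1 := hfm_inj h
    apply Subtype.ext
    exact congrArg (fun x : H => (x : G)) h1
  obtain ⟨⟨e₀, he₀⟩, -⟩ := e8_main h2 w hw_sq hw_comm hw_inj hcardE
  -- the central involution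
  set cX : H := emb e₀ with hcX
  have hfc : fm cX = -1 := he₀
  have hc_cent : ∀ x : H, x * cX = cX * x := by
    intro x
    apply hfm_inj
    rw [hfm_mul, hfm_mul, hfc, mul_neg, neg_mul, mul_one, one_mul]
  have hc_sq : cX * cX = 1 := by
    apply hfm_inj
    rw [hfm_mul, hfc, hfm_one, neg_mul_neg, one_mul]
  have hδc : δ cX = -1 := by
    apply Units.ext
    rw [hδ_val, hfc, Units.val_neg, Units.val_one, Matrix.det_neg, Matrix.det_one, Fintype.card_fin]
    ring
  have hne1 : (-1 : Fˣ) ≠ 1 := by
    intro h
    have h1 : ((-1 : Fˣ) : F) = ((1 : Fˣ) : F) := congrArg Units.val h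
    rw [Units.val_neg, Units.val_one] at h1
    apply h2
    have : (2 : F) = 1 - (-1) := by ring
    rw [this, h1]; ring
  have hc_ne : cX ≠ 1 := by
    intro h
    rw [h, map_one] at hδc
    exact hne1 hδc.symm
  -- the involution z in the commutator subgroup and the centre
  haveI : Group.IsNilpotent H := hHp.isNilpotent
  have hcomm_ne : commutator H ≠ ⊥ := by
    intro hbot
    obtain ⟨a, b, hab⟩ := hnc
    apply hab
    have h1 : ⁅a, b⁆ ∈ commutator H := Subgroup.commutator_mem_commutator (Subgroup.mem_top a) (Subgroup.mem_top b)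
    rw [hbot, Subgroup.mem_bot] at h1
    exact (commutatorElement_eq_one_iff_commute.mp h1).eq
  have hK_ne := normal_inf_center_ne_bot (commutator H) hcomm_ne
  set K : Subgroup H := commutator H ⊓ Subgroup.center H with hK
  have hKp : IsPGroup 2 K := hHp.to_subgroup K
  have hK2 : 2 ∣ Nat.card K := by
    rcases hKp.card_eq_or_dvd with h | h
    · exact absurd (Subgroup.card_eq_one.mp h) hK_ne
    · exact h
  obtain ⟨zK, hzK⟩ := exists_prime_orderOf_dvd_card' 2 hK2
  set z : H := (zK : H) with hz
  have hz_ord : orderOf z = 2 := by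
    rw [hz, Subgroup.orderOf_coe]; exact hzK
  have hz_comm : z ∈ commutator H := (Subgroup.mem_inf.mp zK.2).1
  have hz_cent : ∀ x : H, x * z = z * x := by
    intro x
    exact (Subgroup.mem_center_iff.mp (Subgroup.mem_inf.mp zK.2).2 x)
  have hz_ne : z ≠ 1 := by
    intro h
    rw [h, orderOf_one] at hz_ord
    omega
  have hz_sq : z * z = 1 := by
    rw [← pow_two, ← hz_ord, pow_orderOf_eq_one]
  have hδz : δ z = 1 := Abelianization.commutator_subset_ker δ hz_comm
  -- F2 : two distinct central involutions of determinant one force commutativity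
  have hF2 : ∀ w₁ : H, (∀ x : H, x * w₁ = w₁ * x) → w₁ * w₁ = 1 → w₁ ≠ 1 → δ w₁ = 1 → w₁ ≠ z →
      False := by
    intro w₁ hw₁c hw₁sq hw₁ne hδw₁ hw₁z
    -- the 8-family
    let u₁ : Bool → H := fun a => if a then cX else 1
    let u₂ : Bool → H := fun a => if a then w₁ else 1
    let u₃ : Bool → H := fun a => if a then z else 1
    have hu₁c : ∀ a (x : H), x * u₁ a = u₁ a * x := by
      intro a x; cases a
      · show x * 1 = 1 * x; rw [mul_one, one_mul]
      · exact hc_cent x
    have hu₂c : ∀ a (x : H), x * u₂ a = u₂ a * x := by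
      intro a x; cases a
      · show x * 1 = 1 * x; rw [mul_one, one_mul]
      · exact hw₁c x
    have hu₃c : ∀ a (x : H), x * u₃ a = u₃ a * x := by
      intro a x; cases a
      · show x * 1 = 1 * x; rw [mul_one, one_mul]
      · exact hz_cent x
    have hu₁s : ∀ a, u₁ a * u₁ a = 1 := by
      intro a; cases a
      · show (1 : H) * 1 = 1; rw [mul_one]
      · exact hc_sq
    have hu₂s : ∀ a, u₂ a * u₂ a = 1 := by
      intro a; cases a
      · show (1 : H) * 1 = 1; rw [mul_one]
      · exact hw₁sq
    have hu₃s : ∀ a, u₃ a * u₃ a = 1 := by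
      intro a; cases a
      · show (1 : H) * 1 = 1; rw [mul_one]
      · exact hz_sq
    let e : Bool × Bool × Bool → H := fun t => u₁ t.1 * u₂ t.2.1 * u₃ t.2.2
    have he_cent : ∀ t (x : H), x * e t = e t * x := by
      intro t x
      show x * (u₁ t.1 * u₂ t.2.1 * u₃ t.2.2) = u₁ t.1 * u₂ t.2.1 * u₃ t.2.2 * x
      rw [← mul_assoc, ← mul_assoc, hu₁c, mul_assoc (u₁ t.1), hu₂c, ← mul_assoc, mul_assoc _ x,
        hu₃c, ← mul_assoc]
    have he_sq : ∀ t, e t * e t = 1 := by
      intro t
      exact mul_mul_self_of_comm _ _ _ (hu₂c _ _) (hu₃c _ _) (hu₃c _ _) (hu₁s _) (hu₂s _) (hu₃s _)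
    have hδe : ∀ t, δ (e t) = if t.1 then -1 else 1 := by
      rintro ⟨a, b, d⟩
      show δ (u₁ a * u₂ b * u₃ d) = _
      rw [map_mul, map_mul]
      have h₂ : δ (u₂ b) = 1 := by
        cases b
        · exact map_one δ
        · exact hδw₁
      have h₃ : δ (u₃ d) = 1 := by
        cases d
        · exact map_one δ
        · exact hδz
      rw [h₂, h₃, mul_one, mul_one]
      cases a
      · exact map_one δ
      · exact hδc
    have hwz : w₁ * z ≠ 1 := by
      intro h
      apply hw₁z
      have : w₁ = z⁻¹ := eq_inv_of_mul_eq_one_left h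
      rw [this]
      exact inv_eq_of_mul_eq_one_right hz_sq
    have he_inj : Function.Injective e := by
      rintro ⟨a, b, d⟩ ⟨a', b', d'⟩ h
      have ha : a = a' := by
        have h1 := congrArg δ h
        rw [hδe, hδe] at h1
        cases a <;> cases a'
        · rfl
        · exfalso; exact hne1 h1.symm
        · exfalso; exact hne1 h1
        · rfl
      subst ha
      have h1 : u₂ b * u₃ d = u₂ b' * u₃ d' := by
        have : u₁ a * (u₂ b * u₃ d) = u₁ a * (u₂ b' * u₃ d') := by
          rw [← mul_assoc, ← mul_assoc]; exact h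
        exact mul_left_cancel this
      have hbd : b = b' ∧ d = d' := by
        cases b <;> cases d <;> cases b' <;> cases d' <;>
          simp only [u₂, u₃, if_true, if_false, Bool.false_eq_true, mul_one, one_mul, and_self,
            Bool.true_eq_false, and_false, false_and] at h1 ⊢
        · exact hz_ne h1.symm
        · exact hw₁ne h1.symm
        · exact hwz h1.symm
        · exact hz_ne h1
        · exact hw₁z h1.symm
        · exact hw₁ne (mul_right_cancel (h1.symm.trans (one_mul z).symm))
        · exact hw₁ne h1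
        · exact hw₁z h1
        · exact hz_ne (mul_left_cancel (h1.symm.trans (mul_one w₁).symm))
        · exact hwz h1
        · exact hw₁ne (mul_right_cancel (h1.trans (one_mul z).symm))
        · exact hz_ne (mul_left_cancel (h1.trans (mul_one w₁).symm))
      rw [hbd.1, hbd.2]
    let M : Bool × Bool × Bool → Matrix (Fin 3) (Fin 3) F := fun t => fm (e t)
    have hM_sq : ∀ t, M t * M t = 1 := by
      intro t
      show fm (e t) * fm (e t) = 1
      rw [← hfm_mul, he_sq, hfm_one]
    have hM_comm : ∀ t t', M t * M t' = M t' * M t := by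
      intro t t'
      show fm (e t) * fm (e t') = fm (e t') * fm (e t)
      rw [← hfm_mul, ← hfm_mul, he_cent t' (e t)]
    have hM_inj : Function.Injective M := fun t t' h => he_inj (hfm_inj h)
    have hcard8 : Fintype.card (Bool × Bool × Bool) = 8 := by
      simp [Fintype.card_prod]
    obtain ⟨-, hcommC⟩ := e8_main h2 M hM_sq hM_comm hM_inj hcard8
    obtain ⟨a, b, hab⟩ := hnc
    apply hab
    apply hfm_inj
    rw [hfm_mul, hfm_mul]
    apply hcommC
    · intro t
      show fm a * fm (e t) = fm (e t) * fm a
      rw [← hfm_mul, ← hfm_mul, he_cent t a]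
    · intro t
      show fm b * fm (e t) = fm (e t) * fm b
      rw [← hfm_mul, ← hfm_mul, he_cent t b]
  -- transfer
  set c : G := (cX : G) with hc
  have hcH : c ∈ H := cX.2
  have hc2 : c * c = 1 := by
    have := congrArg (fun x : H => (x : G)) hc_sq
    exact this
  have hcent : ∀ x ∈ H, x * c = c * x := by
    intro x hx
    have := congrArg (fun y : H => (y : G)) (hc_cent ⟨x, hx⟩)
    exact this
  have hdich : ∀ u : H, u * u = 1 → δ u = 1 ∨ δ u = -1 := by
    intro u hu
    have h1 : δ u * δ u = 1 := by rw [← map_mul, hu, map_one]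
    have h3 : ((δ u : Fˣ) : F) * ((δ u : Fˣ) : F) = 1 := by
      rw [← Units.val_mul, h1, Units.val_one]
    rcases mul_self_eq_one_iff.mp h3 with h | h
    · left; exact Units.ext h
    · right; apply Units.ext; rw [h, Units.val_neg, Units.val_one]
  have hconj_sq : ∀ g : G, (g⁻¹ * c * g) * (g⁻¹ * c * g) = 1 := by
    intro g
    have : (g⁻¹ * c * g) * (g⁻¹ * c * g) = g⁻¹ * (c * c) * g := by group
    rw [this, hc2, mul_one, inv_mul_cancel]
  have hval : ∀ g : G, g⁻¹ * c * g ∈ H →
      ext1 δ (g⁻¹ * c * g) = 1 ∨ ext1 δ (g⁻¹ * c * g) = -1 := by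
    intro g hg
    rw [ext1_of_mem δ hg]
    apply hdich
    apply Subtype.ext
    exact hconj_sq g
  have hnorm : ∀ g : G, g ∈ Subgroup.normalizer (H : Set G) → ext1 δ (g⁻¹ * c * g) = -1 := by
    intro g hg
    have hgi : g⁻¹ ∈ Subgroup.normalizer (H : Set G) := Subgroup.inv_mem _ hg
    have hmem : g⁻¹ * c * g ∈ H := by
      have := (Subgroup.mem_normalizer_iff.mp hgi c).mp hcH
      rwa [inv_inv] at this
    have hconjH : ∀ x ∈ H, g * x * g⁻¹ ∈ H := fun x hx =>
      (Subgroup.mem_normalizer_iff.mp hg x).mp hx
    rcases hval g hmem with h | h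
    · exfalso
      rw [ext1_of_mem δ hmem] at h
      set w₁ : H := ⟨g⁻¹ * c * g, hmem⟩ with hw₁
      have hw₁sq : w₁ * w₁ = 1 := Subtype.ext (hconj_sq g)
      have hw₁ne : w₁ ≠ 1 := by
        intro h1
        have h2' : g⁻¹ * c * g = 1 := congrArg (fun y : H => (y : G)) h1
        apply hc_ne
        apply Subtype.ext
        show c = 1
        have : c = g * (g⁻¹ * c * g) * g⁻¹ := by group
        rw [this, h2']; group
      have hw₁c : ∀ x : H, x * w₁ = w₁ * x := by
        intro x
        apply Subtype.ext
        show (x : G) * (g⁻¹ * c * g) = g⁻¹ * c * g * (x : G)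
        have h1 := hcent (g * x * g⁻¹) (hconjH x x.2)
        calc (x : G) * (g⁻¹ * c * g) = g⁻¹ * ((g * x * g⁻¹) * c) * g := by group
          _ = g⁻¹ * (c * (g * x * g⁻¹)) * g := by rw [h1]
          _ = g⁻¹ * c * g * (x : G) := by group
      by_cases hwz : w₁ = z
      · -- then c is conjugate to z, which lies in the commutator subgroup
        let κ : H →* H :=
          { toFun := fun x => ⟨g * x * g⁻¹, hconjH x x.2⟩
            map_one' := by
              apply Subtype.ext
              show g * ((1 : H) : G) * g⁻¹ = 1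
              rw [Subgroup.coe_one, mul_one, mul_inv_cancel]
            map_mul' := by
              intro a b
              apply Subtype.ext
              show g * ((a * b : H) : G) * g⁻¹ = (g * a * g⁻¹) * (g * b * g⁻¹)
              rw [Subgroup.coe_mul]; group }
        have h1 : (δ.comp κ) z = 1 := Abelianization.commutator_subset_ker (δ.comp κ) hz_comm
        have h2' : κ z = cX := by
          apply Subtype.ext
          show g * (z : G) * g⁻¹ = c
          rw [← hwz]
          show g * (g⁻¹ * c * g) * g⁻¹ = c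
          group
        rw [MonoidHom.comp_apply, h2', hδc] at h1
        exact hne1 h1
      · exact hF2 w₁ hw₁c hw₁sq hw₁ne h hwz
    · exact h
  have htr := transfer_central_involution H hHp hodd δ c hc2 hcent (-1)
    (by rw [neg_mul_neg, one_mul]) hne1 hval hnorm
  obtain ⟨L, hL⟩ := exists_index_two h2 (MonoidHom.transfer δ) c htr
  exact hG L hL

end Cfsg.Agent.Lib.Helper1.Tg
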