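import Cfsg.Agent.Lib.Helper1.ThP2

/-! Thompson's normal `p`-complement argument for a pair of functors, relative to a class of groups
closed under subgroups and quotients. -/
set_option autoImplicit false

namespace Cfsg.Agent.Lib.Helper1.ThP

open Cfsg Cfsg.Agent.Lib.Helper7
open scoped Pointwise

universe u

/-- Thompson's normal `p`-complement theorem for a pair of functors. -/
theorem pn_top_of_maxSylowPair_of {W₁ W₂ : ∀ (Q : Type u) [Group Q], Subgroup Q} {p : ℕ}
    [Fact p.Prime] (hW₁ : IsCharPFunctor.{u} p W₁) (hW₂ : IsCharPFunctor.{u} p W₂)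
    (Pc : ∀ (Y : Type u) [Group Y], Prop)
    (hsubg : ∀ (X : Type u) [Group X] (M : Subgroup X), Pc X → Pc ↥M)
    (hquot : ∀ (X : Type u) [Group X] (N : Subgroup X) [N.Normal], Pc X → Pc (X ⧸ N))
    (hloc : ∀ (Y : Type u) [Group Y] [Finite Y], Pc Y → MaxSylowPair W₁ W₂ p Y) (n : ℕ) :
    ∀ (X : Type u) [Group X] [Finite X], Nat.card X = n → Pc X →
      (∀ S : Sylow p X, PN p (Subgroup.normalizer
        ((inducedFunctor (G := X) W₁ (S : Subgroup X) : Subgroup X) : Set X)) ∧
        PN p (Subgroup.centralizer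
        ((inducedFunctor (G := X) W₂ (S : Subgroup X) : Subgroup X) : Set X))) →
      PN p (⊤ : Subgroup X) := by
  induction n using Nat.strong_induction_on with
  | _ n ih =>
  intro X _ _ hcard hPc ha
  by_contra hnot
  have hp : p.Prime := Fact.out
  have hWc₁ : IsConjugacyFunctor p (inducedFunctor (G := X) W₁) :=
    isConjugacyFunctor_inducedFunctor hW₁
  have hWc₂ : IsConjugacyFunctor p (inducedFunctor (G := X) W₂) :=
    isConjugacyFunctor_inducedFunctor hW₂
  -- Step 1: proper subgroups
  have hsub : ∀ M : Subgroup X, M ≠ ⊤ →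
      (∀ T : Subgroup X, IsSylowIn p T M →
        PN p (M ⊓ Subgroup.normalizer ((inducedFunctor (G := X) W₁ T : Subgroup X) : Set X)) ∧
        PN p (M ⊓ Subgroup.centralizer ((inducedFunctor (G := X) W₂ T : Subgroup X) : Set X))) →
      PN p M := by
    intro M hM hT
    have hlt : Nat.card ↥M < n := by
      by_contra hcon
      push Not at hcon
      rw [← hcard] at hcon
      exact hM (Subgroup.eq_top_of_le_card M hcon)
    have h1 := ih _ hlt ↥M rfl (hsubg X M hPc) (fun T' =>
      ⟨pn_normalizer_subgroup hW₁ M (fun T hTs => (hT T hTs).1) T',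
        pn_centralizer_subgroup hW₂ M (fun T hTs => (hT T hTs).2) T'⟩)
    rw [← pn_map_of_injective M.subtype M.subtype_injective, ← MonoidHom.range_eq_map,
      Subgroup.range_subtype] at h1
    exact h1
  have hsub' : ∀ M : Subgroup X, M ≠ ⊤ → ¬ p ∣ M.index → PN p M := by
    intro M hM hidx
    apply hsub M hM
    intro T hT
    have hTidx : ¬ p ∣ T.index := by
      rw [← Subgroup.relIndex_mul_index hT.1]
      intro hd
      rcases (Nat.Prime.dvd_mul hp).mp hd with h | h
      · exact hT.2.2 h
      · exact hidx h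
    have h1 := ha (hT.2.1.toSylow hTidx)
    rw [IsPGroup.toSylow_coe] at h1
    exact ⟨h1.1.mono inf_le_right, h1.2.mono inf_le_right⟩
  -- Step 2: `O_{p'}(X) = 1`
  have hO : pPrimeCore p X = ⊥ := by
    by_contra hne
    apply hnot
    have hOc : (Nat.card ↥(pPrimeCore p X)).Coprime p :=
      Cfsg.Agent.Lib.Helper1.pPrimeCore_card_coprime p
    have hlt : Nat.card (X ⧸ pPrimeCore p X) < n := by
      have h1 := Subgroup.card_eq_card_quotient_mul_card_subgroup (pPrimeCore p X)
      have h2 : 1 < Nat.card ↥(pPrimeCore p X) :=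
        (Subgroup.one_lt_card_iff_ne_bot (H := pPrimeCore p X)).mpr hne
      have h3 : 0 < Nat.card (X ⧸ pPrimeCore p X) := Nat.card_pos
      rw [← hcard, h1]
      nlinarith
    have h4 := ih _ hlt (X ⧸ pPrimeCore p X) rfl (hquot X _ hPc) (fun Sb =>
      ⟨pn_normalizer_quotient_coprime hW₁ (pPrimeCore p X) hOc (fun S => (ha S).1) Sb,
        pn_centralizer_quotient_coprime hW₂ (pPrimeCore p X) hOc (fun S => (ha S).2) Sb⟩)
    apply pn_of_quotient_coprime (pPrimeCore p X) hOc
    rw [Subgroup.map_top_of_surjective _ (QuotientGroup.mk'_surjective _)]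
    exact h4
  -- Step 3': no Sylow subgroup is normal
  have hSnn : ∀ S : Sylow p X, ¬ (S : Subgroup X).Normal := by
    intro S hSn
    apply hnot
    refine (ha S).1.mono ?_
    refine le_trans ?_ (normalizer_le_normalizer_functor hWc₁ S.isPGroup')
    rw [Subgroup.normalizer_eq_top_iff.mpr hSn]
  -- Step 3: `O_p(X) ≠ 1`
  set P : Subgroup X := pCore p X with hP
  have hPn : P.Normal := Cfsg.Agent.Lib.Helper7.pCore_normal p X
  have hPp : IsPGroup p ↥P := Cfsg.Agent.Lib.Helper7.pCore_isPGroup p X
  have hPne : P ≠ ⊥ := by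
    set 𝓣 : Set (Subgroup X) := {T | ∃ H : Subgroup X, IsPGroup p ↥H ∧ H ≠ ⊥ ∧
      ¬ PN p (Subgroup.normalizer (H : Set X)) ∧
      IsSylowIn p T (Subgroup.normalizer (H : Set X))} with h𝓣
    have hne : 𝓣.Nonempty := by
      have h1 : ¬ HasNormalPComplement p X := fun h => hnot (pn_top_iff.mpr h)
      rw [Cfsg.Agent.Lib.Helper1.hasNormalPComplement_iff_local] at h1
      push Not at h1
      obtain ⟨Q, hQp, hQne, hQ⟩ := h1
      obtain ⟨T, _, hT⟩ := exists_isSylowIn_ge (Subgroup.le_normalizer (H := Q)) hQp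
      exact ⟨T, Q, hQp, hQne, fun h => hQ ((pn_iff _).mp h), hT⟩
    obtain ⟨T₀, ⟨H₀, hH₀p, hH₀ne, hH₀pn, hT₀syl⟩, hmax⟩ :=
      Set.exists_max_image 𝓣 (fun T => Nat.card ↥T) (Set.toFinite _) hne
    have hNtop : Subgroup.normalizer (H₀ : Set X) = ⊤ := by
      by_contra hNtop
      apply hH₀pn
      apply hsub _ hNtop
      intro T hT
      obtain ⟨k, hk, hkT⟩ := exists_mem_map_conj_eq hT₀syl hT
      have hTcard : Nat.card ↥T = Nat.card ↥T₀ := by
        rw [← hkT]
        exact Subgroup.card_map_of_injective (MulAut.conj k).injective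
      have hH₀T : H₀ ≤ T := hT.normal_le Subgroup.le_normalizer hH₀p le_rfl
      have hTne : T ≠ ⊥ := fun h => hH₀ne (le_bot_iff.mp (h ▸ hH₀T))
      have hTp : IsPGroup p ↥T := hT.2.1
      obtain ⟨R, hTR⟩ := hTp.exists_le_sylow
      by_cases hTeq : T = (R : Subgroup X)
      · rw [hTeq]
        exact ⟨(ha R).1.mono inf_le_right, (ha R).2.mono inf_le_right⟩
      -- `T` is not a Sylow subgroup of `X`: every normalizer of a nontrivial functor value is PN
      have key : ∀ U : Subgroup X, U ≠ ⊥ → IsPGroup p ↥U →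
          Subgroup.normalizer (T : Set X) ≤ Subgroup.normalizer (U : Set X) →
          PN p (Subgroup.normalizer (U : Set X)) := by
        intro U hUne hUp hNTU
        by_contra hUpn
        apply hTeq
        apply eq_of_inf_normalizer_eq T (R : Subgroup X) R.isPGroup' hTR
        have hle : (R : Subgroup X) ⊓ Subgroup.normalizer (T : Set X) ≤
            Subgroup.normalizer (U : Set X) := inf_le_right.trans hNTU
        have hpg : IsPGroup p ↥((R : Subgroup X) ⊓ Subgroup.normalizer (T : Set X)) :=
          R.isPGroup'.to_le inf_le_left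
        obtain ⟨T₂, hT₂le, hT₂syl⟩ := exists_isSylowIn_ge hle hpg
        have hT₂mem : T₂ ∈ 𝓣 := ⟨U, hUp, hUne, hUpn, hT₂syl⟩
        have h1 := hmax T₂ hT₂mem
        have h2 : T ≤ T₂ := (le_inf hTR Subgroup.le_normalizer).trans hT₂le
        have h3 : T = T₂ := Subgroup.eq_of_le_of_card_ge h2 (by
          show Nat.card ↥T₂ ≤ Nat.card ↥T
          rw [hTcard]; exact h1)
        exact hT₂le.trans h3.ge
      have k1 := key (inducedFunctor (G := X) W₁ T) ((hWc₁ T hTp).2.1 hTne)
        (hTp.to_le (hWc₁ T hTp).1) (normalizer_le_normalizer_functor hWc₁ hTp)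
      have k2 := key (inducedFunctor (G := X) W₂ T) ((hWc₂ T hTp).2.1 hTne)
        (hTp.to_le (hWc₂ T hTp).1) (normalizer_le_normalizer_functor hWc₂ hTp)
      exact ⟨k1.mono inf_le_right,
        k2.mono (inf_le_right.trans (Subgroup.centralizer_le_normalizer _))⟩
    have hH₀n : H₀.Normal := Subgroup.normalizer_eq_top_iff.mp hNtop
    intro hbot
    apply hH₀ne
    have : H₀ ≤ P := Cfsg.Agent.Lib.Helper7.le_pCore hH₀n hH₀p
    rw [hbot] at this
    exact le_bot_iff.mp this
  -- Step 4: `X / O_p(X)` is `p`-nilpotent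
  have hnil : HasNormalPComplement p (X ⧸ P) := by
    rw [← pn_top_iff]
    set π : X →* X ⧸ P := QuotientGroup.mk' P with hπ
    have hπs : Function.Surjective π := QuotientGroup.mk'_surjective P
    have hlt : Nat.card (X ⧸ P) < n := by
      have h1 := Subgroup.card_eq_card_quotient_mul_card_subgroup P
      have h2 : 1 < Nat.card ↥P := (Subgroup.one_lt_card_iff_ne_bot (H := P)).mpr hPne
      have h3 : 0 < Nat.card (X ⧸ P) := Nat.card_pos
      rw [← hcard, h1]
      nlinarith
    apply ih _ hlt (X ⧸ P) rfl (hquot X P hPc)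
    intro Sb
    obtain ⟨S, rfl⟩ := Sylow.mapSurjective_surjective hπs p Sb
    rw [Sylow.coe_mapSurjective]
    have hSp : IsPGroup p ↥(S : Subgroup X) := S.isPGroup'
    have hPS : P ≤ (S : Subgroup X) := Cfsg.Agent.Lib.Helper7.pCore_le_sylow S
    have hSP : ¬ (S : Subgroup X) ≤ P := by
      intro hle
      apply hSnn S
      rw [le_antisymm hle hPS]
      exact hPn
    have keyW : ∀ W : ∀ (Q : Type u) [Group Q], Subgroup Q, IsCharPFunctor.{u} p W →
        PN p (Subgroup.normalizer
          ((inducedFunctor (G := X ⧸ P) W ((S : Subgroup X).map π) : Subgroup (X ⧸ P)) :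
            Set (X ⧸ P))) := by
      intro W hW
      set L : Subgroup X := liftedFunctor W P (S : Subgroup X) with hL
      have hLN : Subgroup.normalizer
          ((inducedFunctor (G := X ⧸ P) W ((S : Subgroup X).map π) : Subgroup (X ⧸ P)) :
            Set (X ⧸ P)) = (Subgroup.normalizer (L : Set X)).map π := by
        rw [hL]
        unfold liftedFunctor
        rw [← Subgroup.comap_normalizer_eq_of_surjective _ hπs,
          Subgroup.map_comap_eq_self_of_surjective hπs]
      rw [hLN]
      apply PN.map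
      apply hsub'
      · intro htop
        have hLn : L.Normal := Subgroup.normalizer_eq_top_iff.mp htop
        have hLS : L ≤ (S : Subgroup X) := liftedFunctor_le W P hPS
        have hLP : L ≤ P := Cfsg.Agent.Lib.Helper7.le_pCore hLn (hSp.to_le hLS)
        exact liftedFunctor_ne hW P hSp hSP (le_antisymm hLP (le_liftedFunctor W P _))
      · intro hd
        exact S.not_dvd_index (hd.trans
          (Subgroup.index_dvd_of_le (le_normalizer_liftedFunctor hW P hSp)))
    exact ⟨keyW W₁ hW₁, (keyW W₂ hW₂).mono (Subgroup.centralizer_le_normalizer _)⟩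
  -- Step 5: `X` is constrained
  have hcon : Subgroup.centralizer ((P : Subgroup X) : Set X) ≤ P :=
    centralizer_pCore_le_of_quotient_pNilpotent hO hnil
  -- Step 6: Sylow subgroups are maximal subgroups
  obtain ⟨S⟩ : Nonempty (Sylow p X) := inferInstance
  have hPS : P ≤ (S : Subgroup X) := Cfsg.Agent.Lib.Helper7.pCore_le_sylow S
  have hco : IsCoatom (S : Subgroup X) := by
    constructor
    · intro htop
      apply hSnn S
      rw [htop]; infer_instance
    · intro M hSM
      by_contra hM
      have hMidx : ¬ p ∣ M.index := fun hd =>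
        S.not_dvd_index (hd.trans (Subgroup.index_dvd_of_le hSM.le))
      have hMpn := hsub' M hM hMidx
      have hMp : IsPGroup p ↥M := by
        rintro ⟨x, hx⟩
        obtain ⟨a, ha', b, hb, hxab, hac, k, hbk⟩ := exists_pPart_decomp p x
        have haM : a ∈ M := by
          have : Subgroup.zpowers x ≤ M := by rw [Subgroup.zpowers_le]; exact hx
          exact this ha'
        have haN : a ∈ Subgroup.normalizer ((P : Subgroup X) : Set X) := by
          rw [Subgroup.normalizer_eq_top_iff.mpr hPn]; exact Subgroup.mem_top a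
        have haC := hMpn.centralizes (hPS.trans hSM.le) hPp haM haN hac
        have haP : a ∈ P := hcon haC
        obtain ⟨j, hj⟩ := hPp ⟨a, haP⟩
        have hj' : a ^ (p ^ j) = 1 := by
          have := congrArg Subtype.val hj
          rwa [Subgroup.coe_pow, Subgroup.coe_one] at this
        have h1 : orderOf a ∣ p ^ j := orderOf_dvd_of_pow_eq_one hj'
        have h2 : orderOf a = 1 := Nat.Coprime.eq_one_of_dvd (hac.pow_right j) h1
        have h3 : a = 1 := orderOf_eq_one_iff.mp h2
        refine ⟨k, ?_⟩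
        apply Subtype.ext
        rw [Subgroup.coe_pow, Subgroup.coe_one]
        show x ^ p ^ k = 1
        rw [hxab, h3, one_mul, hbk]
      have := S.is_maximal' hMp hSM.le
      exact hSM.ne this.symm
  -- Step 7: apply the local statement to `X` itself
  rcases hloc X hPc hcon hnil (S : Subgroup X) S.isPGroup' S.not_dvd_index hco with hself | hself
  · apply hnot
    refine (ha S).1.mono ?_
    rw [Subgroup.normalizer_eq_top_iff.mpr hself]
  · apply hnot
    refine (ha S).2.mono ?_
    intro x _
    rw [Subgroup.mem_centralizer_iff]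
    intro u hu
    exact (Subgroup.mem_center_iff.mp (hself hu) x).symm ▸ rfl

end Cfsg.Agent.Lib.Helper1.ThP
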