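import Mathlib
import Cfsg.Prelude.Def_LocalEven
import Cfsg.Agent.Lib.Helper1.ThA2
import Cfsg.Agent.Lib.Helper2.Involves

/-! A group with a normal `2`-subgroup `Q`, `C(Q) ≤ Q`, and quotient `SL₂(2)` involves `S_4`. -/
set_option autoImplicit false
universe u

namespace Cfsg.Agent.Lib.Helper1.ThA

open Cfsg Cfsg.Agent.Lib.Helper1 Subgroup
open scoped commutatorElement MatrixGroups

theorem card_sl2_zmod2 : Nat.card (Matrix.SpecialLinearGroup (Fin 2) (ZMod 2)) = 6 := by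
  rw [Nat.card_eq_fintype_card]
  decide

theorem sl2_zmod2_fact2 : ∀ g h : Matrix.SpecialLinearGroup (Fin 2) (ZMod 2),
    h ≠ 1 → h ^ 3 = 1 → g ^ 2 = 1 ∨ g = h ∨ g = h⁻¹ := by
  decide

theorem sl2_zmod2_fact3 : ∀ g h : Matrix.SpecialLinearGroup (Fin 2) (ZMod 2),
    g ≠ 1 → g ^ 2 = 1 → h ^ 3 = 1 → g * h * g⁻¹ * h = 1 := by
  decide

theorem mk_mem_map_mk_iff {X : Type*} [Group X] (N Q : Subgroup X) [N.Normal] (hNQ : N ≤ Q)
    (g : X) : (QuotientGroup.mk' N g) ∈ Q.map (QuotientGroup.mk' N) ↔ g ∈ Q := by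
  constructor
  · rintro ⟨q, hq, hqg⟩
    have : q⁻¹ * g ∈ N := by
      rw [← QuotientGroup.eq]
      exact hqg
    have h2 : q * (q⁻¹ * g) ∈ Q := Q.mul_mem hq (hNQ this)
    simpa using h2
  · intro hg
    exact ⟨g, hg, rfl⟩

theorem involves_s4 {X : Type*} [Group X] [Finite X] (Q : Subgroup X) [hQn : Q.Normal]
    (hQ2 : IsPGroup 2 Q)
    (φ : X ⧸ Q ≃* Matrix.SpecialLinearGroup (Fin 2) (ZMod 2))
    (hcent : centralizer (Q : Set X) ≤ Q) :
    Cfsg.Involves (Equiv.Perm (Fin 4)) X := by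
  classical
  have : Fact (Nat.Prime 2) := ⟨Nat.prime_two⟩
  have : Fact (Nat.Prime 3) := ⟨Nat.prime_three⟩
  have hidx : Q.index = 6 := by
    rw [Subgroup.index_eq_card, Nat.card_congr φ.toEquiv, card_sl2_zmod2]
  -- the projection
  let π : X →* Matrix.SpecialLinearGroup (Fin 2) (ZMod 2) :=
    φ.toMonoidHom.comp (QuotientGroup.mk' Q)
  have hπ : ∀ g : X, π g = 1 ↔ g ∈ Q := by
    intro g
    show φ (QuotientGroup.mk' Q g) = 1 ↔ g ∈ Q
    rw [map_eq_one_iff φ φ.injective]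
    exact QuotientGroup.eq_one_iff g
  -- an element of order 3
  have h3dvd : 3 ∣ Nat.card X := by
    rw [← Subgroup.card_mul_index Q, hidx]
    exact Dvd.dvd.mul_left (by norm_num) _
  obtain ⟨x, hxo⟩ := exists_prime_orderOf_dvd_card' 3 h3dvd
  have hx3 : x ^ 3 = 1 := by rw [← hxo]; exact pow_orderOf_eq_one x
  have hxQ : x ∉ Q := by
    intro hx
    obtain ⟨k, hk⟩ := hQ2 ⟨x, hx⟩
    have h1 : x ^ 2 ^ k = 1 := by
      have := congrArg Subtype.val hk
      simpa using this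
    have h2 : orderOf x ∣ 2 ^ k := orderOf_dvd_of_pow_eq_one h1
    rw [hxo] at h2
    have : 3 ∣ 2 := Nat.Prime.dvd_of_dvd_pow Nat.prime_three h2
    omega
  have hπx1 : π x ≠ 1 := fun h => hxQ ((hπ x).mp h)
  have hπx3 : π x ^ 3 = 1 := by rw [← map_pow, hx3, map_one]
  have h2 : ∀ g : X, g ^ 2 ∈ Q ∨ g * x⁻¹ ∈ Q ∨ g * x ∈ Q := by
    intro g
    rcases sl2_zmod2_fact2 (π g) (π x) hπx1 hπx3 with h | h | h
    · left
      rw [← hπ, map_pow]; exact h
    · right; left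
      rw [← hπ, map_mul, map_inv, h, mul_inv_cancel]
    · right; right
      rw [← hπ, map_mul, h, inv_mul_cancel]
  have h3 : ∀ b : X, b ∉ Q → b ^ 2 ∈ Q → b * x * b⁻¹ * x ∈ Q := by
    intro b hb hb2
    have hb1 : π b ≠ 1 := fun h => hb ((hπ b).mp h)
    have hb2' : π b ^ 2 = 1 := by rw [← map_pow]; exact (hπ _).mpr hb2
    have := sl2_zmod2_fact3 (π b) (π x) hb1 hb2' hπx3
    rw [← hπ]
    simpa using this
  -- `x` does not centralize `Q`
  have hxnc : ∃ r ∈ Q, x * r * x⁻¹ * r⁻¹ ≠ 1 := by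
    by_contra hcon
    push Not at hcon
    apply hxQ
    apply hcent
    rw [Subgroup.mem_centralizer_iff]
    intro r hr
    have := hcon r hr
    -- r * x = x * r
    have h1 : x * r * x⁻¹ = r := by
      rw [mul_inv_eq_one] at this; exact this
    have h2 : x * r = r * x := by
      rw [← mul_inv_eq_iff_eq_mul]; exact h1
    exact h2.symm
  -- choose `N` maximal
  let 𝒩 : Set (Subgroup X) := {N | N.Normal ∧ N ≤ Q ∧ ∃ r ∈ Q, x * r * x⁻¹ * r⁻¹ ∉ N}
  have h𝒩ne : 𝒩.Nonempty := by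
    refine ⟨⊥, inferInstance, bot_le, ?_⟩
    obtain ⟨r, hr, hne⟩ := hxnc
    exact ⟨r, hr, fun h => hne (Subgroup.mem_bot.mp h)⟩
  obtain ⟨N, hN𝒩, hNmax⟩ := (Set.toFinite 𝒩).exists_maximal h𝒩ne
  obtain ⟨hNn, hNQ, r₀, hr₀, hr₀N⟩ := hN𝒩
  have := hNn
  -- the quotient
  let R : Subgroup (X ⧸ N) := Q.map (QuotientGroup.mk' N)
  have hRn : R.Normal := Subgroup.Normal.map hQn _ (QuotientGroup.mk'_surjective N)
  have hmem : ∀ g : X, (QuotientGroup.mk' N g) ∈ R ↔ g ∈ Q := mk_mem_map_mk_iff N Q hNQ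
  have hR2 : IsPGroup 2 R := hQ2.map _
  have hRidx : R.index = 6 := by
    rw [← hidx]
    show (Q.map (QuotientGroup.mk' N)).index = Q.index
    rw [Subgroup.index_map, QuotientGroup.ker_mk', sup_eq_left.mpr hNQ,
      MonoidHom.range_eq_top.mpr (QuotientGroup.mk'_surjective N), Subgroup.index_top, mul_one]
  have key : Nonempty ((X ⧸ N) ≃* Equiv.Perm (Fin 4)) := by
    apply s4_of_min R hR2 hRidx (QuotientGroup.mk' N x)
    · rw [← map_pow, hx3, map_one]
    · rw [hmem]; exact hxQ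
    · intro gb
      obtain ⟨g, rfl⟩ := QuotientGroup.mk'_surjective N gb
      rw [← map_pow, ← map_inv, ← map_mul, ← map_mul, hmem, hmem, hmem]
      exact h2 g
    · intro gb
      obtain ⟨b, rfl⟩ := QuotientGroup.mk'_surjective N gb
      rw [← map_pow, ← map_inv, ← map_mul, ← map_mul, ← map_mul, hmem, hmem, hmem]
      exact h3 b
    · refine ⟨QuotientGroup.mk' N r₀, (hmem r₀).mpr hr₀, ?_⟩
      intro heq
      apply hr₀N
      rw [← QuotientGroup.eq_one_iff]
      have : (QuotientGroup.mk' N) (x * r₀ * x⁻¹ * r₀⁻¹) = 1 := by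
        rw [map_mul, map_mul, map_mul, heq, map_inv, map_inv]
        group
      exact this
    · intro M hMn hMR hMbot rb hrb
      obtain ⟨r, rfl⟩ := QuotientGroup.mk'_surjective N rb
      have hrQ : r ∈ Q := (hmem r).mp hrb
      let M' : Subgroup X := M.comap (QuotientGroup.mk' N)
      have hM'n : M'.Normal := Subgroup.Normal.comap hMn _
      have hNM' : N ≤ M' := by
        intro n hn
        show QuotientGroup.mk' N n ∈ M
        have h1 : QuotientGroup.mk' N n = 1 := (QuotientGroup.eq_one_iff n).mpr hn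
        rw [h1]
        exact M.one_mem
      have hM'Q : M' ≤ Q := by
        intro g hg
        exact (hmem g).mp (hMR hg)
      by_contra hcon
      have hM'𝒩 : M' ∈ 𝒩 := by
        refine ⟨hM'n, hM'Q, r, hrQ, ?_⟩
        intro hin
        apply hcon
        have : QuotientGroup.mk' N (x * r * x⁻¹ * r⁻¹) ∈ M := hin
        simpa using this
      have hle : M' ≤ N := hNmax hM'𝒩 hNM'
      apply hMbot
      rw [eq_bot_iff]
      intro m hm
      obtain ⟨g, rfl⟩ := QuotientGroup.mk'_surjective N m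
      rw [Subgroup.mem_bot]
      exact (QuotientGroup.eq_one_iff g).mpr (hle hm)
  obtain ⟨e⟩ := key
  exact Cfsg.Agent.Lib.Helper2.Inv.involves_of_quotient N
    (Cfsg.Agent.Lib.Helper2.Inv.involves_congr e Cfsg.Agent.Lib.Helper2.Inv.involves_refl)

end Cfsg.Agent.Lib.Helper1.ThA
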