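import Cfsg.Agent.Lib.Helper1.ThP1
import Cfsg.Agent.Lib.Helper1.NPC3
import Cfsg.Agent.Lib.Helper1.QuadStable6
import Cfsg.Agent.Lib.Helper1.BestOffender
import Cfsg.Agent.Lib.Helper1.ThompsonRelative
import Cfsg.Agent.Lib.Helper1.StableNormalClosure
import Cfsg.Agent.Lib.Helper1.Puig2
import Cfsg.Agent.Lib.Lead.FixOmega
import Cfsg.Agent.Lib.Helper7.PRedIn
import Cfsg.Agent.S0599

/-! Thompson's normal `p`-complement theorem (`J` elementary abelian version, `C(Z(P))`). -/
set_option autoImplicit false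

namespace Cfsg.Agent.Lib.Helper1.ThP

open Cfsg
open scoped Pointwise commutatorElement

universe u

section loc
variable {Y : Type u} [Group Y] [Finite Y] {p : ℕ} [hp : Fact p.Prime]

/-- The elements of order dividing `p` in a commutative subgroup. -/
def omegaSub (p : ℕ) (V : Subgroup Y) (hV : ∀ x ∈ V, ∀ y ∈ V, x * y = y * x) : Subgroup Y where
  carrier := {x | x ∈ V ∧ x ^ p = 1}
  mul_mem' := by
    rintro a b ⟨ha, ha'⟩ ⟨hb, hb'⟩
    refine ⟨V.mul_mem ha hb, ?_⟩
    rw [(show Commute a b from hV a ha b hb).mul_pow, ha', hb', one_mul]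
  one_mem' := ⟨V.one_mem, one_pow _⟩
  inv_mem' := by
    rintro a ⟨ha, ha'⟩
    exact ⟨V.inv_mem ha, by rw [inv_pow, ha', inv_one]⟩

theorem thompson_local (hp2 : p ≠ 2)
    (hcon : Subgroup.centralizer ((pCore p Y : Subgroup Y) : Set Y) ≤ pCore p Y)
    (hnil : HasNormalPComplement p (Y ⧸ pCore p Y))
    (T : Subgroup Y) (hTp : IsPGroup p ↥T) (hTidx : ¬ p ∣ T.index) (hco : IsCoatom T) :
    (thompsonSubgroupOf p T).Normal ∨
      T ⊓ Subgroup.centralizer (T : Set Y) ≤ Subgroup.center Y := by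
  obtain ⟨TS, hTS⟩ : ∃ TS : Sylow p Y, (TS : Subgroup Y) = T :=
    ⟨hTp.toSylow hTidx, IsPGroup.toSylow_coe _ _⟩
  have hab := Cfsg.Agent.Lib.Helper1.NPC.comm_sylow_two_of_max_sylow hp2 hnil TS
    (by rw [hTS]; exact hco)
  obtain ⟨P₀, hP₀⟩ : ∃ P₀ : Subgroup Y, P₀ = pCore p Y := ⟨_, rfl⟩
  rw [← hP₀] at hcon
  have hP₀n : P₀.Normal := by rw [hP₀]; exact Cfsg.Agent.Lib.Helper7.pCore_normal p Y
  have hP₀p : IsPGroup p ↥P₀ := by rw [hP₀]; exact Cfsg.Agent.Lib.Helper7.pCore_isPGroup p Y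
  have hP₀T : P₀ ≤ T := by rw [hP₀, ← hTS]; exact Cfsg.Agent.Lib.Helper7.pCore_le_sylow TS
  have hle_P₀ : ∀ N : Subgroup Y, N.Normal → IsPGroup p ↥N → N ≤ P₀ := by
    intro N hN hNp
    rw [hP₀]; exact Cfsg.Agent.Lib.Helper7.le_pCore hN hNp
  obtain ⟨Z, hZ⟩ : ∃ Z : Subgroup Y, Z = T ⊓ Subgroup.centralizer (T : Set Y) := ⟨_, rfl⟩
  rw [← hZ]
  have hZcP : Z ≤ Subgroup.centralizer (P₀ : Set Y) := by
    rw [hZ]; exact inf_le_right.trans (Subgroup.centralizer_le hP₀T)
  obtain ⟨V, hV⟩ : ∃ V : Subgroup Y, V = Subgroup.normalClosure (Z : Set Y) := ⟨_, rfl⟩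
  have hVn : V.Normal := by rw [hV]; exact Subgroup.normalClosure_normal
  have hZV : Z ≤ V := by rw [hV]; exact Subgroup.subset_normalClosure
  have hVP : V ≤ P₀ := by
    rw [hV]; exact Subgroup.normalClosure_le_normal (hZcP.trans hcon)
  have hVc : V ≤ Subgroup.centralizer (P₀ : Set Y) := by
    rw [hV]; exact Subgroup.normalClosure_le_normal hZcP
  have hVp : IsPGroup p ↥V := hP₀p.to_le hVP
  have hVcomm : ∀ x ∈ V, ∀ y ∈ V, x * y = y * x := by
    intro x hx y hy
    exact (Subgroup.mem_centralizer_iff.mp (hVc hx) y (hVP hy)).symm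
  obtain ⟨W, hWdef⟩ : ∃ W : Subgroup Y, W = omegaSub p V hVcomm := ⟨_, rfl⟩
  have hWmem : ∀ x : Y, x ∈ W ↔ x ∈ V ∧ x ^ p = 1 := by
    intro x; rw [hWdef]; rfl
  have hWV : W ≤ V := fun x hx => ((hWmem x).mp hx).1
  have hWn : W.Normal := by
    constructor
    intro x hx g
    rw [hWmem] at hx ⊢
    exact ⟨hVn.conj_mem x hx.1 g, by rw [conj_pow, hx.2]; group⟩
  have hWel : IsElementaryAbelian p W := by
    refine ⟨⟨⟨fun a b => Subtype.ext (hVcomm a (hWV a.2) b (hWV b.2))⟩⟩, ?_⟩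
    intro a ha
    exact ((hWmem a).mp ha).2
  obtain ⟨D, hD⟩ : ∃ D : Subgroup Y, D = Subgroup.centralizer (V : Set Y) := ⟨_, rfl⟩
  by_cases hDT : D ≤ T
  swap
  · -- Case A
    right
    have hlt : T < T ⊔ D := by
      apply lt_of_le_of_ne le_sup_left
      intro h
      exact hDT (h ▸ le_sup_right)
    have htop := hco.2 _ hlt
    have hcen : T ⊔ D ≤ Subgroup.centralizer (Z : Set Y) := by
      apply sup_le
      · rw [Subgroup.le_centralizer_iff, hZ]
        exact inf_le_right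
      · rw [hD]
        exact Subgroup.centralizer_le hZV
    rw [htop] at hcen
    intro z hz
    rw [Subgroup.mem_center_iff]
    intro g
    exact (Subgroup.mem_centralizer_iff.mp (hcen (Subgroup.mem_top g)) z hz).symm
  -- Case B
  have hDn : D.Normal := by rw [hD]; infer_instance
  have hDP : D ≤ P₀ := hle_P₀ D hDn (hTp.to_le hDT)
  obtain ⟨C, hC⟩ : ∃ C : Subgroup Y, C = Subgroup.centralizer (W : Set Y) := ⟨_, rfl⟩
  have hCn : C.Normal := by rw [hC]; infer_instance
  have hCp : IsPGroup p ↥C := by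
    rintro ⟨x, hx⟩
    obtain ⟨a, ha', b, hb, hxab, hac, k, hbk⟩ := Cfsg.Agent.Lib.Helper7.exists_pPart_decomp p x
    have haC : a ∈ C := by
      have : Subgroup.zpowers x ≤ C := by rw [Subgroup.zpowers_le]; exact hx
      exact this ha'
    have haD : a ∈ D := by
      rw [hD, Subgroup.mem_centralizer_iff]
      intro v hv
      have := Cfsg.Agent.Lib.Lead.FixOmega.centralizes_of_centralizes_omega hp2 V hVp a
        (by rw [Subgroup.normalizer_eq_top_iff.mpr hVn]; exact Subgroup.mem_top a) hac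
        (fun w hw hwp => by
          have hwW : w ∈ W := (hWmem w).mpr ⟨hw, hwp⟩
          rw [hC] at haC
          exact (Subgroup.mem_centralizer_iff.mp haC w hwW).symm) v hv
      exact this.symm
    have haT : a ∈ T := hDT haD
    obtain ⟨j, hj⟩ := hTp ⟨a, haT⟩
    have hj' : a ^ (p ^ j) = 1 := by
      have := congrArg Subtype.val hj
      rwa [Subgroup.coe_pow, Subgroup.coe_one] at this
    have h1 : orderOf a ∣ p ^ j := orderOf_dvd_of_pow_eq_one hj'
    have h2 : orderOf a = 1 := Nat.Coprime.eq_one_of_dvd (hac.pow_right j) h1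
    have h3 : a = 1 := orderOf_eq_one_iff.mp h2
    refine ⟨k, ?_⟩
    apply Subtype.ext
    rw [Subgroup.coe_pow, Subgroup.coe_one]
    show x ^ p ^ k = 1
    rw [hxab, h3, one_mul, hbk]
  have hCP : C ≤ P₀ := hle_P₀ C hCn hCp
  have hPC : P₀ ≤ C := by
    rw [hC, Subgroup.le_centralizer_iff]
    exact (hWV.trans hVc)
  by_cases hJ : thompsonSubgroupOf p T ≤ P₀
  · left
    have := Cfsg.Agent.Lib.Helper1.normalizer_le_normalizer_thompsonSubgroupOf hJ hP₀T
    rw [Subgroup.normalizer_eq_top_iff.mpr hP₀n, top_le_iff] at this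
    exact Subgroup.normalizer_eq_top_iff.mp this
  exfalso
  -- some maximal elementary abelian subgroup of `T` is not contained in `P₀`
  obtain ⟨A, hAmem, hAP⟩ : ∃ A ∈ Cfsg.Agent.Lib.Helper1.maxElAbIn p T, ¬ A ≤ P₀ := by
    by_contra hno
    push Not at hno
    apply hJ
    rw [Cfsg.Agent.Lib.Helper1.thompsonSubgroupOf_eq_sSup]
    exact sSup_le hno
  obtain ⟨A₀, hA₀, hA₀S⟩ : ∃ A₀ ∈ Cfsg.maxElementaryAbelianSubgroups p Y,
      A₀ ≤ (TS : Subgroup Y) := by
    obtain ⟨A₁, hA₁⟩ := Cfsg.Agent.Lib.Helper1.exists_mem_maxElementaryAbelianSubgroups (G := Y) p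
    obtain ⟨S', hS'⟩ := (Cfsg.Agent.Lib.Helper1.isElementaryAbelian_isPGroup hA₁.1).exists_le_sylow
    obtain ⟨g, hg⟩ := MulAction.exists_smul_eq Y S' TS
    refine ⟨_, Cfsg.Agent.Lib.Helper1.mem_maxElementaryAbelianSubgroups_map_equiv
      (MulAut.conj g) hA₁, ?_⟩
    rw [← hg, Sylow.coe_subgroup_smul]
    rintro _ ⟨a, ha, rfl⟩
    exact Subgroup.smul_mem_pointwise_smul _ _ _ (hS' ha)
  rw [hTS] at hA₀S
  have hAK : A ∈ Cfsg.maxElementaryAbelianSubgroups p Y := by
    have h1 := Cfsg.Agent.Lib.Helper1.mem_maxElementaryAbelianSubgroups_map_subtype hA₀ hA₀S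
      (Cfsg.Agent.Lib.Helper1.subgroupOf_mem_of_mem_maxElAbIn hAmem)
    rw [Subgroup.map_subgroupOf_eq_of_le hAmem.1] at h1
    exact h1
  have hbo := Cfsg.Agent.Lib.Helper1.isBestOffenderOn_of_mem_max W hWel A hAK
  have hAN : A ≤ Subgroup.normalizer (W : Set Y) := by
    rw [Subgroup.normalizer_eq_top_iff.mpr hWn]; exact le_top
  obtain ⟨-, -, h3⟩ := Cfsg.Agent.S0599.result W A hWel hAN hbo W le_rfl
  have hWA : ⁅W, A⁆ ≠ ⊥ := by
    intro h
    apply hAP
    refine le_trans ?_ hCP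
    rw [hC]
    rw [Subgroup.commutator_comm, Subgroup.commutator_eq_bot_iff_le_centralizer] at h
    exact h
  have h4 := h3 hWA
  obtain ⟨Astar, hAstar⟩ : ∃ B : Subgroup Y, B = A ⊓ Subgroup.centralizer
    ((⁅W, A⁆ : Subgroup Y) : Set Y) := ⟨_, rfl⟩
  rw [← hAstar] at h4
  -- an element of `A*` not centralizing `W`
  have hex : ∃ a ∈ Astar, a ∉ C := by
    by_contra hno
    push Not at hno
    apply h4
    rw [Subgroup.commutator_comm, Subgroup.commutator_eq_bot_iff_le_centralizer, ← hC]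
    exact hno
  obtain ⟨a, haA, haC⟩ := hex
  have hquad : ⁅⁅W, Subgroup.zpowers a⁆, Subgroup.zpowers a⁆ = ⊥ := by
    rw [eq_bot_iff]
    have h5 : Subgroup.zpowers a ≤ Astar := by rw [Subgroup.zpowers_le]; exact haA
    have h6 : ⁅W, Subgroup.zpowers a⁆ ≤ ⁅W, A⁆ :=
      Subgroup.commutator_mono le_rfl (h5.trans (by rw [hAstar]; exact inf_le_left))
    have h7 : Subgroup.zpowers a ≤ Subgroup.centralizer ((⁅W, A⁆ : Subgroup Y) : Set Y) :=
      h5.trans (by rw [hAstar]; exact inf_le_right)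
    calc ⁅⁅W, Subgroup.zpowers a⁆, Subgroup.zpowers a⁆
        ≤ ⁅⁅W, A⁆, Subgroup.centralizer ((⁅W, A⁆ : Subgroup Y) : Set Y)⁆ :=
          Subgroup.commutator_mono h6 h7
      _ = ⊥ := by
          rw [Subgroup.commutator_eq_bot_iff_le_centralizer]
          exact Subgroup.le_centralizer_iff.mpr le_rfl
  have hst := Cfsg.Agent.Lib.Helper1.QuadSL2.isPStableOn_of_comm_sylow hp2 W hWel hab
  have h8 := hst a hquad
  have hbot : pCore p (Y ⧸ Subgroup.centralizer (W : Set Y)) = ⊥ := by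
    rw [Cfsg.Agent.Lib.Helper7.pCore_quotient_eq_bot_iff]
    intro D' hD'n hpow
    rw [← hC]
    refine le_trans ?_ hPC
    apply hle_P₀ D' hD'n
    rintro ⟨d, hd⟩
    obtain ⟨k, hk⟩ := hpow d hd
    rw [← hC] at hk
    obtain ⟨j, hj⟩ := hCp ⟨_, hk⟩
    have hj' : (d ^ p ^ k) ^ (p ^ j) = 1 := by
      have := congrArg Subtype.val hj
      rwa [Subgroup.coe_pow, Subgroup.coe_one] at this
    refine ⟨k + j, ?_⟩
    apply Subtype.ext
    rw [Subgroup.coe_pow, Subgroup.coe_one]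
    show d ^ p ^ (k + j) = 1
    rw [pow_add, pow_mul]
    exact hj'
  rw [hbot, Subgroup.mem_bot, QuotientGroup.eq_one_iff, ← hC] at h8
  exact haC h8

end loc

section main

theorem isCharPFunctor_thompsonSubgroup (p : ℕ) [hp : Fact p.Prime] :
    IsCharPFunctor.{u} p (fun (Q : Type u) [Group Q] => thompsonSubgroup p Q) := by
  refine ⟨?_, ?_⟩
  · intro Q _ _ hQ hnt
    apply Cfsg.Agent.Lib.Helper1.thompsonSubgroup_ne_bot
    obtain ⟨k, hk⟩ := IsPGroup.iff_card.mp hQ
    have hk0 : k ≠ 0 := by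
      rintro rfl
      rw [pow_zero] at hk
      have := Finite.one_lt_card_iff_nontrivial.mpr hnt
      omega
    rw [hk]
    exact dvd_pow_self p hk0
  · intro Q R _ _ _ _ φ
    exact Cfsg.Agent.Lib.Helper1.thompsonSubgroup_map_equiv φ

theorem isCharPFunctor_center (p : ℕ) [hp : Fact p.Prime] :
    IsCharPFunctor.{u} p (fun (Q : Type u) [Group Q] => Subgroup.center Q) := by
  refine ⟨?_, ?_⟩
  · intro Q _ _ hQ hnt
    have := hQ.center_nontrivial
    exact (Subgroup.nontrivial_iff_ne_bot _).mp this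
  · intro Q R _ _ _ _ φ
    exact Cfsg.Agent.Lib.Helper1.center_map_equiv φ

theorem maxSylowPair_thompson {p : ℕ} [hp : Fact p.Prime] (hp2 : p ≠ 2)
    (Y : Type u) [Group Y] [Finite Y] :
    MaxSylowPair (fun (Q : Type u) [Group Q] => thompsonSubgroup p Q)
      (fun (Q : Type u) [Group Q] => Subgroup.center Q) p Y := by
  intro hcon hnil T hTp hTidx hco
  have := thompson_local hp2 hcon hnil T hTp hTidx hco
  unfold inducedFunctor
  show (Subgroup.map T.subtype (thompsonSubgroup p ↥T)).Normal ∨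
    Subgroup.map T.subtype (Subgroup.center ↥T) ≤ Subgroup.center Y
  rw [Cfsg.Agent.Lib.Helper1.Puig.center_map_subtype]
  exact this

theorem centralizer_map_conj {G : Type*} [Group G] (U : Subgroup G) (g : G) :
    Subgroup.centralizer ((U.map (MulAut.conj g).toMonoidHom : Subgroup G) : Set G) =
      (Subgroup.centralizer (U : Set G)).map (MulAut.conj g).toMonoidHom := by
  ext x
  constructor
  · intro hx
    refine ⟨g⁻¹ * x * g, ?_, ?_⟩
    · rw [SetLike.mem_coe, Subgroup.mem_centralizer_iff]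
      intro u hu
      have h1 := Subgroup.mem_centralizer_iff.mp hx (g * u * g⁻¹) ⟨u, hu, rfl⟩
      calc u * (g⁻¹ * x * g) = g⁻¹ * ((g * u * g⁻¹) * x) * g := by group
        _ = g⁻¹ * (x * (g * u * g⁻¹)) * g := by rw [h1]
        _ = g⁻¹ * x * g * u := by group
    · show MulAut.conj g (g⁻¹ * x * g) = x
      rw [MulAut.conj_apply]; group
  · rintro ⟨y, hy, rfl⟩
    rw [Subgroup.mem_centralizer_iff]
    rintro _ ⟨u, hu, rfl⟩
    have h1 := Subgroup.mem_centralizer_iff.mp hy u hu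
    show MulAut.conj g u * MulAut.conj g y = MulAut.conj g y * MulAut.conj g u
    rw [← map_mul, ← map_mul, h1]

theorem s0108 {G : Type u} [Group G] [Finite G] {p : ℕ} [Fact p.Prime] (hp : p ≠ 2)
    (P : Sylow p G) :
    Cfsg.HasNormalPComplement p G ↔ (Cfsg.HasNormalPComplement p (Subgroup.normalizer (Cfsg.thompsonSubgroupOf p (P : Subgroup G) : Set G)) ∧ Cfsg.HasNormalPComplement p (Subgroup.centralizer (((P : Subgroup G) ⊓ Subgroup.centralizer (P : Set G)) : Set G))) := by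
  have hset : (((P : Subgroup G) ⊓ Subgroup.centralizer (P : Set G)) : Set G) =
      (((P : Subgroup G) ⊓ Subgroup.centralizer (P : Set G) : Subgroup G) : Set G) := by
    rw [Subgroup.coe_inf]; rfl
  rw [hset]
  open Cfsg.Agent.Lib.Helper7 in
  constructor
  · intro h
    rw [← pn_top_iff] at h
    exact ⟨(pn_iff _).mp (h.mono le_top), (pn_iff _).mp (h.mono le_top)⟩
  · rintro ⟨h1, h2⟩
    rw [← pn_iff] at h1 h2
    rw [← pn_top_iff]
    apply pn_top_of_maxSylowPair (isCharPFunctor_thompsonSubgroup p) (isCharPFunctor_center p)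
      (fun Y _ _ => maxSylowPair_thompson hp Y) (Nat.card G) G rfl
    intro S
    obtain ⟨g, rfl⟩ := MulAction.exists_smul_eq G P S
    have hWc₁ : IsConjugacyFunctor p (inducedFunctor (G := G)
        (fun (Q : Type u) [Group Q] => thompsonSubgroup p Q)) :=
      isConjugacyFunctor_inducedFunctor (isCharPFunctor_thompsonSubgroup p)
    have hWc₂ : IsConjugacyFunctor p (inducedFunctor (G := G)
        (fun (Q : Type u) [Group Q] => Subgroup.center Q)) :=
      isConjugacyFunctor_inducedFunctor (isCharPFunctor_center p)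
    have e1 : inducedFunctor (G := G) (fun (Q : Type u) [Group Q] => thompsonSubgroup p Q)
        (P : Subgroup G) = Cfsg.thompsonSubgroupOf p (P : Subgroup G) := rfl
    have e2 : inducedFunctor (G := G) (fun (Q : Type u) [Group Q] => Subgroup.center Q)
        (P : Subgroup G) = (P : Subgroup G) ⊓ Subgroup.centralizer (P : Set G) := by
      unfold inducedFunctor
      exact Cfsg.Agent.Lib.Helper1.Puig.center_map_subtype _
    rw [← e1] at h1
    rw [← e2] at h2
    constructor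
    · rw [sylow_smul_coe_eq_map, (hWc₁ _ P.isPGroup').2.2 g, ← Subgroup.map_equiv_normalizer_eq]
      exact (pn_map_of_injective _ (MulAut.conj g).injective _).mpr h1
    · rw [sylow_smul_coe_eq_map, (hWc₂ _ P.isPGroup').2.2 g, centralizer_map_conj]
      exact (pn_map_of_injective _ (MulAut.conj g).injective _).mpr h2

end main

end Cfsg.Agent.Lib.Helper1.ThP
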