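import Mathlib
import Cfsg.Prelude.Def_LocalEven
import Cfsg.Agent.Lib.Helper1.ThA4
import Cfsg.Agent.Lib.Helper1.ThP2
import Cfsg.Agent.Lib.Helper1.TF3

/-! Offenders and `SL₂(p)`-sections. -/
set_option autoImplicit false
universe u

namespace Cfsg.Agent.Lib.Helper1.ThA

open Cfsg Cfsg.Agent.Lib.Helper1 Cfsg.Agent.Lib.Helper1.ZJ Subgroup
open scoped commutatorElement

variable {G : Type u} [Group G]

theorem map_conj_eq_of_normal (W : Subgroup G) [hW : W.Normal] (g : G) :
    W.map (MulAut.conj g).toMonoidHom = W :=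
  FF.map_conj_eq_of_mem_normalizer' W (by
    rw [Subgroup.normalizer_eq_top_iff.mpr hW]; exact Subgroup.mem_top g)

theorem offVal_map_conj [Finite G] (W : Subgroup G) [hW : W.Normal] (X : Subgroup G) (g : G) :
    offVal W (X.map (MulAut.conj g).toMonoidHom) = offVal W X := by
  unfold offVal
  have h1 : W ⊓ centralizer ((X.map (MulAut.conj g).toMonoidHom : Subgroup G) : Set G) =
      (W ⊓ centralizer (X : Set G)).map (MulAut.conj g).toMonoidHom := by
    rw [Subgroup.map_inf _ _ _ (MulAut.conj g).injective, map_conj_eq_of_normal W g,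
      ThP.centralizer_map_conj]
  rw [h1, Subgroup.card_map_of_injective (MulAut.conj g).injective,
    Subgroup.card_map_of_injective (MulAut.conj g).injective]

theorem isBestOffenderOn_map_conj [Finite G] {p : ℕ} (W : Subgroup G) [hW : W.Normal]
    {A : Subgroup G} (hA : IsBestOffenderOn p W A) (g : G) :
    IsBestOffenderOn p W (A.map (MulAut.conj g).toMonoidHom) := by
  have hCn : (centralizer (W : Set G)).Normal := inferInstance
  have hC : (centralizer (W : Set G)).map (MulAut.conj g).toMonoidHom = centralizer (W : Set G) :=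
    map_conj_eq_of_normal _ g
  refine ⟨?_, ?_, ?_⟩
  · intro B' hB'
    obtain ⟨B, hB⟩ : ∃ B : Subgroup G, B = B'.comap (MulAut.conj g).toMonoidHom := ⟨_, rfl⟩
    have hBA : B ≤ A := by
      rw [hB]
      have := Subgroup.comap_mono (f := (MulAut.conj g).toMonoidHom) hB'
      rwa [Subgroup.comap_map_eq_self_of_injective (MulAut.conj g).injective] at this
    have hBB' : B.map (MulAut.conj g).toMonoidHom = B' := by
      rw [hB]
      exact Subgroup.map_comap_eq_self_of_surjective (MulAut.conj g).surjective B'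
    have h1 := hA.1 B hBA
    have h2 := offVal_map_conj W B g
    have h3 := offVal_map_conj W A g
    unfold offVal at h2 h3
    rw [hBB'] at h2
    rw [h2, h3]
    exact h1
  · rw [← Subgroup.map_commutator, ← hC]
    exact Subgroup.map_mono hA.2.1
  · rintro _ ⟨a, ha, rfl⟩
    rw [← map_pow, ← hC]
    exact ⟨a ^ p, hA.2.2 a ha, rfl⟩

/-- The Thompson replacement `A ⊓ C([W, A])` of an abelian `offVal`-maximal subgroup is a
best offender acting nontrivially. -/
theorem isBestOffenderOn_astar [Finite G] {p : ℕ} [hp : Fact p.Prime] (W A : Subgroup G)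
    (hWel : IsElementaryAbelian p W) (hAW : A ≤ normalizer (W : Set G))
    (hAc : ∀ x ∈ A, ∀ y ∈ A, x * y = y * x)
    (hmax : ∀ B : Subgroup G, B ≤ A → offVal W B ≤ offVal W A)
    (hApow : ∀ a ∈ A, ∃ k : ℕ, a ^ (p ^ k) ∈ centralizer (W : Set G))
    (hWA : ⁅W, A⁆ ≠ ⊥) :
    IsBestOffenderOn p W (A ⊓ centralizer ((⁅W, A⁆ : Subgroup G) : Set G)) ∧
    ⁅W, A ⊓ centralizer ((⁅W, A⁆ : Subgroup G) : Set G)⁆ ≠ ⊥ := by
  have hVc : ∀ x ∈ W, ∀ y ∈ W, x * y = y * x :=
    fun x hx y hy => isElementaryAbelian_comm hWel hx hy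
  have hab : ⁅A, A⁆ ≤ centralizer (W : Set G) := by
    have : ⁅A, A⁆ = ⊥ := by
      rw [Subgroup.commutator_eq_bot_iff_le_centralizer]
      intro x hx
      rw [Subgroup.mem_centralizer_iff]
      intro y hy
      exact hAc y hy x hx
    rw [this]; exact bot_le
  have h := thompson_replacement_dichotomy W A hVc hAW hab hmax W le_rfl
  obtain ⟨A₀, hA₀⟩ : ∃ A₀ : Subgroup G, A₀ = A ⊓ centralizer ((⁅W, A⁆ : Subgroup G) : Set G) :=
    ⟨_, rfl⟩
  rw [← hA₀] at h ⊢
  have hA₀A : A₀ ≤ A := by rw [hA₀]; exact inf_le_left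
  have hWAW : ⁅W, A⁆ ≤ W := commutator_le_of_le_normalizer W A hAW
  refine ⟨⟨?_, ?_, ?_⟩, ?_⟩
  · intro B hB
    have := hmax B (hB.trans hA₀A)
    rw [← h.1] at this
    exact this
  · exact (Subgroup.commutator_mono hA₀A hA₀A).trans hab
  · intro a ha
    rw [Subgroup.mem_centralizer_iff]
    intro w hw
    obtain ⟨z, hz⟩ : ∃ z, z = a * w * a⁻¹ * w⁻¹ := ⟨_, rfl⟩
    have hzWA : z ∈ ⁅W, A⁆ := by
      rw [hz, Subgroup.commutator_comm]
      exact Subgroup.commutator_mem_commutator (hA₀A ha) hw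
    have haz : a * z = z * a := by
      have : a ∈ centralizer ((⁅W, A⁆ : Subgroup G) : Set G) := by
        rw [hA₀] at ha; exact (Subgroup.mem_inf.mp ha).2
      exact (Subgroup.mem_centralizer_iff.mp this z hzWA).symm
    have h1 : a * w * a⁻¹ = z * w := by rw [hz]; group
    have h2 := FF.conj_pow_of_conj h1 haz p
    rw [hWel.2 z (hWAW hzWA), one_mul] at h2
    exact (mul_inv_eq_iff_eq_mul.mp h2).symm
  · intro hbot
    apply hWA
    have hVA₀ : W ≤ centralizer (A₀ : Set G) :=
      Subgroup.commutator_eq_bot_iff_le_centralizer.mp hbot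
    have hVeq : W = ⁅W, A⁆ ⊔ (W ⊓ centralizer (A : Set G)) := by
      rw [← h.2, inf_eq_left.mpr hVA₀]
    obtain ⟨Y, hY⟩ : ∃ Y : Subgroup G, Y = ⁅W, A⁆ := ⟨_, rfl⟩
    rw [← hY]
    have hYV : Y ≤ W := by rw [hY]; exact hWAW
    apply eq_bot_of_le_commutator_of_pgroup_action W A Y (isElementaryAbelian_isPGroup hWel) hAW
      hApow hYV
    have key : ∀ v ∈ Subgroup.closure (((⁅W, A⁆ : Subgroup G) : Set G) ∪
        ((W ⊓ centralizer (A : Set G) : Subgroup G) : Set G)),
        v ∈ W ∧ ∀ a ∈ A, ⁅a, v⁆ ∈ ⁅Y, A⁆ := by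
      intro v hv
      induction hv using Subgroup.closure_induction with
      | mem x hx =>
        rcases hx with hx | hx
        · refine ⟨hWAW hx, fun a ha => ?_⟩
          rw [← commutatorElement_inv]
          exact Subgroup.inv_mem _ (Subgroup.commutator_mem_commutator (hY ▸ hx) ha)
        · refine ⟨(Subgroup.mem_inf.mp hx).1, fun a ha => ?_⟩
          have : ⁅a, x⁆ = 1 := by
            rw [commutatorElement_eq_one_iff_mul_comm]
            exact (Subgroup.mem_centralizer_iff.mp (Subgroup.mem_inf.mp hx).2 a ha)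
          rw [this]
          exact Subgroup.one_mem _
      | one =>
        refine ⟨W.one_mem, fun a _ => ?_⟩
        rw [commutatorElement_one_right]
        exact Subgroup.one_mem _
      | mul x y _ _ ihx ihy =>
        refine ⟨W.mul_mem ihx.1 ihy.1, fun a ha => ?_⟩
        rw [commutatorElement_mul_right_of_comm hVc (hAW ha) ihx.1 ihy.1]
        exact Subgroup.mul_mem _ (ihx.2 a ha) (ihy.2 a ha)
      | inv x _ ih =>
        refine ⟨W.inv_mem ih.1, fun a ha => ?_⟩
        have h1 := commutatorElement_mul_right_of_comm hVc (hAW ha) ih.1 (W.inv_mem ih.1)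
        rw [mul_inv_cancel, commutatorElement_one_right] at h1
        have h2 : ⁅a, x⁻¹⁆ = ⁅a, x⁆⁻¹ := (eq_inv_of_mul_eq_one_right h1.symm)
        rw [h2]
        exact Subgroup.inv_mem _ (ih.2 a ha)
    rw [← Subgroup.sup_eq_closure, ← hVeq] at key
    nth_rewrite 1 [hY]
    rw [Subgroup.commutator_le]
    intro v hv a ha
    rw [← commutatorElement_inv]
    exact Subgroup.inv_mem _ ((key v hv).2 a ha)

/-- A best offender on a normal elementary abelian subgroup `W` not centralizing it, in a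
`p`-solvable group with `O_p(G/C_G(W)) = 1`, gives a section `SL₂(p)`. -/
theorem exists_sl2_section [Finite G] {p : ℕ} [hp : Fact p.Prime] (W : Subgroup G) [hWn : W.Normal]
    (hWel : IsElementaryAbelian p W) (hsep : IsPSolvable p G)
    (hOp : ∀ D : Subgroup G, D.Normal → centralizer (W : Set G) ≤ D →
      (∃ k : ℕ, (centralizer (W : Set G)).relIndex D = p ^ k) → D = centralizer (W : Set G))
    (A : Subgroup G) (hA : IsBestOffenderOn p W A) (hAC : ¬ A ≤ centralizer (W : Set G)) :
    (p = 2 ∨ p = 3) ∧ ∃ E : Subgroup G, centralizer (W : Set G) ≤ E ∧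
      ∃ _ : ((centralizer (W : Set G)).subgroupOf E).Normal,
        Nonempty ((↥E ⧸ (centralizer (W : Set G)).subgroupOf E) ≃*
          Matrix.SpecialLinearGroup (Fin 2) (ZMod p)) := by
  open Cfsg.Agent.Lib.Helper1.TF Cfsg.Agent.Lib.Helper1.FF in
  obtain ⟨Ac, hAc⟩ : ∃ Ac : Set (Subgroup G),
      Ac = {B | ∃ g : G, B = A.map (MulAut.conj g).toMonoidHom} := ⟨_, rfl⟩
  obtain ⟨J, hJ⟩ : ∃ J : Subgroup G, J = sSup Ac := ⟨_, rfl⟩
  have hAJ : A ≤ J := by
    rw [hJ]
    apply le_sSup
    rw [hAc]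
    refine ⟨1, ?_⟩
    ext x
    simp
  have hJn : J.Normal := by
    constructor
    intro x hx g
    have hmap : J.map (MulAut.conj g).toMonoidHom ≤ J := by
      rw [hJ, Subgroup.map_le_iff_le_comap]
      apply sSup_le
      intro B hB
      rw [← Subgroup.map_le_iff_le_comap]
      apply le_sSup
      rw [hAc] at hB ⊢
      obtain ⟨h, rfl⟩ := hB
      refine ⟨g * h, ?_⟩
      rw [Subgroup.map_map]
      congr 1
      ext y
      simp [MulAut.conj_apply, mul_assoc]
    exact hmap ⟨x, hx, rfl⟩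
  have s := setup_tr W hWel hsep J hOp
  have hS3 := tr_generated W Ac (p := p) (by
    intro B hB
    rw [hAc] at hB
    obtain ⟨g, rfl⟩ := hB
    exact isBestOffenderOn_map_conj W hA g)
  rw [← hJ] at hS3
  have hH1 : tr W J ≠ ⊥ := by
    intro h0
    apply hAC
    intro j hj
    rw [← mem_ker_tau, MonoidHom.mem_ker]
    have : tau W j ∈ tr W J := ⟨j, hAJ hj, rfl⟩
    rw [h0, Subgroup.mem_bot] at this
    exact this
  obtain ⟨hp23, hcomp, -, hsup, -, -⟩ := s.structure_theorem hS3 hH1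
  refine ⟨hp23, ?_⟩
  have hne : Nonempty (CompIdx p (VV W) (tr W J)
      ((Cfsg.pPrimeCore p ↥(tr W J)).map (tr W J).subtype)) := by
    by_contra hemp
    rw [not_nonempty_iff] at hemp
    apply hH1
    rw [← hsup, iSup_of_empty]
  obtain ⟨E₀⟩ := hne
  obtain ⟨hn, ⟨φ⟩, -⟩ := hcomp E₀
  have hE₀ : (E₀ : Subgroup (Amb W)) ≤ tr W J := by
    exact (le_iSup (fun E : CompIdx p (VV W) (tr W J)
      ((Cfsg.pPrimeCore p ↥(tr W J)).map (tr W J).subtype) => (E : Subgroup (Amb W))) E₀).trans
        hsup.le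
  obtain ⟨E, hCE, -, -, hn', hiso⟩ := pullback W hE₀ hn φ
  exact ⟨E, hCE, hn', hiso⟩

end Cfsg.Agent.Lib.Helper1.ThA
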