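import Mathlib
import Cfsg.Prelude.Def_LocalEven
import Cfsg.Agent.Lib.Helper1.ThA1
import Cfsg.Agent.Lib.Helper1.ThA3
import Cfsg.Agent.Lib.Helper1.ThA5

/-! The local lemma for Thompson's normal `p`-complement theorem, abelian `J`, `S₄`-free. -/
set_option autoImplicit false
universe u

namespace Cfsg.Agent.Lib.Helper1.ThA

open Cfsg Cfsg.Agent.Lib.Helper1 Cfsg.Agent.Lib.Helper1.ZJ Subgroup
open scoped commutatorElement

variable {Y : Type u} [Group Y] [Finite Y] {p : ℕ} [hp : Fact p.Prime]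

theorem thompsonA_local
    (hS4 : p ≠ 2 ∨ ¬ Cfsg.Involves (Equiv.Perm (Fin 4)) Y)
    (hcon : centralizer ((pCore p Y : Subgroup Y) : Set Y) ≤ pCore p Y)
    (hnil : HasNormalPComplement p (Y ⧸ pCore p Y))
    (T : Subgroup Y) (hTp : IsPGroup p ↥T) (hTidx : ¬ p ∣ T.index) (hco : IsCoatom T) :
    (thompsonSubgroupAOf T).Normal ∨ T ⊓ centralizer (T : Set Y) ≤ center Y := by
  obtain ⟨TS, hTS⟩ : ∃ TS : Sylow p Y, (TS : Subgroup Y) = T :=
    ⟨hTp.toSylow hTidx, IsPGroup.toSylow_coe _ _⟩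
  have hsep : IsPSolvable p Y := by
    have hcard : ∃ m : ℕ, Nat.card (pCore p Y) = p ^ m :=
      IsPGroup.iff_card.mp (Cfsg.Agent.Lib.Helper7.pCore_isPGroup p Y)
    exact Cfsg.Agent.Lib.Helper3.isPSolvable_of_quotient p (pCore p Y) (Or.inl hcard)
      (Cfsg.Agent.Lib.Helper7.isPSolvable_of_hasNormalPComplement hnil)
  obtain ⟨P₀, hP₀⟩ : ∃ P₀ : Subgroup Y, P₀ = pCore p Y := ⟨_, rfl⟩
  rw [← hP₀] at hcon
  have hP₀n : P₀.Normal := by rw [hP₀]; exact Cfsg.Agent.Lib.Helper7.pCore_normal p Y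
  have hP₀p : IsPGroup p ↥P₀ := by rw [hP₀]; exact Cfsg.Agent.Lib.Helper7.pCore_isPGroup p Y
  have hP₀T : P₀ ≤ T := by rw [hP₀, ← hTS]; exact Cfsg.Agent.Lib.Helper7.pCore_le_sylow TS
  have hle_P₀ : ∀ N : Subgroup Y, N.Normal → IsPGroup p ↥N → N ≤ P₀ := by
    intro N hN hNp
    rw [hP₀]; exact Cfsg.Agent.Lib.Helper7.le_pCore hN hNp
  obtain ⟨Z, hZ⟩ : ∃ Z : Subgroup Y, Z = T ⊓ centralizer (T : Set Y) := ⟨_, rfl⟩
  rw [← hZ]
  have hZcP : Z ≤ centralizer (P₀ : Set Y) := by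
    rw [hZ]; exact inf_le_right.trans (Subgroup.centralizer_le hP₀T)
  obtain ⟨V, hV⟩ : ∃ V : Subgroup Y, V = Subgroup.normalClosure (Z : Set Y) := ⟨_, rfl⟩
  have hVn : V.Normal := by rw [hV]; exact Subgroup.normalClosure_normal
  have hZV : Z ≤ V := by rw [hV]; exact Subgroup.subset_normalClosure
  have hVP : V ≤ P₀ := by
    rw [hV]; exact Subgroup.normalClosure_le_normal (hZcP.trans hcon)
  have hVc : V ≤ centralizer (P₀ : Set Y) := by
    rw [hV]; exact Subgroup.normalClosure_le_normal hZcP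
  have hVp : IsPGroup p ↥V := hP₀p.to_le hVP
  have hVcomm : ∀ x ∈ V, ∀ y ∈ V, x * y = y * x := by
    intro x hx y hy
    exact (Subgroup.mem_centralizer_iff.mp (hVc hx) y (hVP hy)).symm
  obtain ⟨W, hWdef⟩ : ∃ W : Subgroup Y, W = ThP.omegaSub p V hVcomm := ⟨_, rfl⟩
  have hWmem : ∀ x : Y, x ∈ W ↔ x ∈ V ∧ x ^ p = 1 := by
    intro x; rw [hWdef]; rfl
  have hWV : W ≤ V := fun x hx => ((hWmem x).mp hx).1
  have hWn : W.Normal := by
    constructor
    intro x hx g
    rw [hWmem] at hx ⊢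
    exact ⟨hVn.conj_mem x hx.1 g, by rw [conj_pow, hx.2]; group⟩
  have hWel : IsElementaryAbelian p W := by
    refine ⟨⟨⟨fun a b => Subtype.ext (hVcomm a (hWV a.2) b (hWV b.2))⟩⟩, ?_⟩
    intro a ha
    exact ((hWmem a).mp ha).2
  obtain ⟨D, hD⟩ : ∃ D : Subgroup Y, D = centralizer (V : Set Y) := ⟨_, rfl⟩
  by_cases hDT : D ≤ T
  swap
  · -- Case A
    right
    have hlt : T < T ⊔ D := by
      apply lt_of_le_of_ne le_sup_left
      intro h
      exact hDT (h ▸ le_sup_right)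
    have htop := hco.2 _ hlt
    have hcen : T ⊔ D ≤ centralizer (Z : Set Y) := by
      apply sup_le
      · rw [Subgroup.le_centralizer_iff, hZ]
        exact inf_le_right
      · rw [hD]
        exact Subgroup.centralizer_le hZV
    rw [htop] at hcen
    intro z hz
    rw [Subgroup.mem_center_iff]
    intro g
    exact (Subgroup.mem_centralizer_iff.mp (hcen (Subgroup.mem_top g)) z hz).symm
  -- Case B
  have hDn : D.Normal := by rw [hD]; infer_instance
  have hDP : D ≤ P₀ := hle_P₀ D hDn (hTp.to_le hDT)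
  obtain ⟨C, hC⟩ : ∃ C : Subgroup Y, C = centralizer (W : Set Y) := ⟨_, rfl⟩
  have hCn : C.Normal := by rw [hC]; infer_instance
  have hCp : IsPGroup p ↥C := by
    rintro ⟨x, hx⟩
    obtain ⟨a, ha', b, hb, hxab, hac, k, hbk⟩ := Cfsg.Agent.Lib.Helper7.exists_pPart_decomp p x
    have haC : a ∈ C := by
      have : Subgroup.zpowers x ≤ C := by rw [Subgroup.zpowers_le]; exact hx
      exact this ha'
    have haD : a ∈ D := by
      rw [hD, Subgroup.mem_centralizer_iff]
      intro v hv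
      have := centralizes_of_centralizes_omega_comm V hVcomm hVp a
        (by rw [Subgroup.normalizer_eq_top_iff.mpr hVn]; exact Subgroup.mem_top a) hac
        (fun w hw hwp => by
          have hwW : w ∈ W := (hWmem w).mpr ⟨hw, hwp⟩
          rw [hC] at haC
          exact (Subgroup.mem_centralizer_iff.mp haC w hwW).symm) v hv
      exact this.symm
    have haT : a ∈ T := hDT haD
    obtain ⟨j, hj⟩ := hTp ⟨a, haT⟩
    have hj' : a ^ (p ^ j) = 1 := by
      have := congrArg Subtype.val hj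
      rwa [Subgroup.coe_pow, Subgroup.coe_one] at this
    have h1 : orderOf a ∣ p ^ j := orderOf_dvd_of_pow_eq_one hj'
    have h2 : orderOf a = 1 := Nat.Coprime.eq_one_of_dvd (hac.pow_right j) h1
    have h3 : a = 1 := orderOf_eq_one_iff.mp h2
    refine ⟨k, ?_⟩
    apply Subtype.ext
    rw [Subgroup.coe_pow, Subgroup.coe_one]
    show x ^ p ^ k = 1
    rw [hxab, h3, one_mul, hbk]
  have hCP : C ≤ P₀ := hle_P₀ C hCn hCp
  have hPC : P₀ ≤ C := by
    rw [hC, Subgroup.le_centralizer_iff]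
    exact (hWV.trans hVc)
  by_cases hJ : thompsonSubgroupAOf T ≤ P₀
  · left
    exact thompsonSubgroupAOf_normal_of_le hP₀n hP₀T hJ
  exfalso
  obtain ⟨A, hAmem, hAP⟩ : ∃ A ∈ FPr (PrA (G := Y)) T, ¬ A ≤ P₀ := by
    by_contra hno
    push Not at hno
    apply hJ
    rw [thompsonSubgroupAOf_eq]
    exact sSup_le hno
  have hWT : W ≤ T := hWV.trans (hVP.trans hP₀T)
  have hmax := offVal_le_of_mem_FPr hAmem hWT
    (fun x hx y hy => hVcomm x (hWV hx) y (hWV hy))
  have hAN : A ≤ normalizer (W : Set Y) := by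
    rw [Subgroup.normalizer_eq_top_iff.mpr hWn]; exact le_top
  have hWA : ⁅W, A⁆ ≠ ⊥ := by
    intro h
    apply hAP
    refine le_trans ?_ hCP
    rw [hC]
    rw [Subgroup.commutator_comm, Subgroup.commutator_eq_bot_iff_le_centralizer] at h
    exact h
  have hApow : ∀ a ∈ A, ∃ k : ℕ, a ^ (p ^ k) ∈ centralizer (W : Set Y) := by
    intro a ha
    obtain ⟨j, hj⟩ := hTp ⟨a, hAmem.1 ha⟩
    have hj' : a ^ (p ^ j) = 1 := by
      have := congrArg Subtype.val hj
      rwa [Subgroup.coe_pow, Subgroup.coe_one] at this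
    exact ⟨j, by rw [hj']; exact Subgroup.one_mem _⟩
  obtain ⟨hbo, hne⟩ := isBestOffenderOn_astar W A hWel hAN hAmem.2.1 hmax hApow hWA
  obtain ⟨Astar, hAstar⟩ : ∃ B : Subgroup Y, B = A ⊓ centralizer
    ((⁅W, A⁆ : Subgroup Y) : Set Y) := ⟨_, rfl⟩
  rw [← hAstar] at hbo hne
  have hAsC : ¬ Astar ≤ C := by
    intro h
    apply hne
    rw [Subgroup.commutator_comm, Subgroup.commutator_eq_bot_iff_le_centralizer, ← hC]
    exact h
  have hOp : ∀ D' : Subgroup Y, D'.Normal → centralizer (W : Set Y) ≤ D' →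
      (∃ k : ℕ, (centralizer (W : Set Y)).relIndex D' = p ^ k) → D' = centralizer (W : Set Y) := by
    intro D' hD'n hCD' ⟨k, hk⟩
    rw [← hC] at hCD' hk ⊢
    apply le_antisymm _ hCD'
    refine le_trans ?_ hPC
    apply hle_P₀ D' hD'n
    obtain ⟨m, hm⟩ := IsPGroup.iff_card.mp hCp
    apply IsPGroup.of_card (n := m + k)
    have h2 := Subgroup.relIndex_mul_relIndex ⊥ C D' bot_le hCD'
    rw [Subgroup.relIndex_bot_left, Subgroup.relIndex_bot_left, hm, hk] at h2
    rw [← h2, pow_add]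
  rcases eq_or_ne p 2 with hp2 | hp2
  · -- `p = 2`
    have hS4' : ¬ Cfsg.Involves (Equiv.Perm (Fin 4)) Y := by
      rcases hS4 with h | h
      · exact absurd hp2 h
      · exact h
    apply hS4'
    obtain ⟨-, E, hCE, hn, ⟨φ⟩⟩ := exists_sl2_section W hWel hsep hOp Astar hbo
      (by rw [← hC]; exact hAsC)
    subst hp2
    apply Cfsg.Agent.Lib.Helper2.Inv.involves_of_subgroup E
    have hQ2 : IsPGroup 2 ↥((centralizer (W : Set Y)).subgroupOf E) := by
      rw [← hC]
      exact hCp.comap_of_injective E.subtype E.subtype_injective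
    refine @involves_s4 ↥E _ _ ((centralizer (W : Set Y)).subgroupOf E) hn hQ2 φ ?_
    intro x hx
    rw [Subgroup.mem_subgroupOf, Subgroup.mem_centralizer_iff]
    intro w hw
    have hwC : w ∈ centralizer (W : Set Y) := by
      rw [Subgroup.mem_centralizer_iff]
      intro w' hw'
      exact hVcomm w' (hWV hw') w (hWV hw)
    have h1 := Subgroup.mem_centralizer_iff.mp hx ⟨w, hCE hwC⟩
      (by rw [SetLike.mem_coe, Subgroup.mem_subgroupOf]; exact hwC)
    exact congrArg Subtype.val h1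
  · -- `p` odd
    have hab := Cfsg.Agent.Lib.Helper1.NPC.comm_sylow_two_of_max_sylow hp2 hnil TS
      (by rw [hTS]; exact hco)
    have hex : ∃ a ∈ Astar, a ∉ C := by
      by_contra hno
      push Not at hno
      exact hAsC hno
    obtain ⟨a, haA, haC⟩ := hex
    have hquad : ⁅⁅W, Subgroup.zpowers a⁆, Subgroup.zpowers a⁆ = ⊥ := by
      rw [eq_bot_iff]
      have h5 : Subgroup.zpowers a ≤ Astar := by rw [Subgroup.zpowers_le]; exact haA
      have h6 : ⁅W, Subgroup.zpowers a⁆ ≤ ⁅W, A⁆ :=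
        Subgroup.commutator_mono le_rfl (h5.trans (by rw [hAstar]; exact inf_le_left))
      have h7 : Subgroup.zpowers a ≤ centralizer ((⁅W, A⁆ : Subgroup Y) : Set Y) :=
        h5.trans (by rw [hAstar]; exact inf_le_right)
      calc ⁅⁅W, Subgroup.zpowers a⁆, Subgroup.zpowers a⁆
          ≤ ⁅⁅W, A⁆, centralizer ((⁅W, A⁆ : Subgroup Y) : Set Y)⁆ :=
            Subgroup.commutator_mono h6 h7
        _ = ⊥ := by
            rw [Subgroup.commutator_eq_bot_iff_le_centralizer]
            exact Subgroup.le_centralizer_iff.mpr le_rfl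
    have hst := Cfsg.Agent.Lib.Helper1.QuadSL2.isPStableOn_of_comm_sylow hp2 W hWel hab
    have h8 := hst a hquad
    have hbot : pCore p (Y ⧸ centralizer (W : Set Y)) = ⊥ := by
      rw [Cfsg.Agent.Lib.Helper7.pCore_quotient_eq_bot_iff]
      intro D' hD'n hpow
      rw [← hC]
      refine le_trans ?_ hPC
      apply hle_P₀ D' hD'n
      rintro ⟨d, hd⟩
      obtain ⟨k, hk⟩ := hpow d hd
      rw [← hC] at hk
      obtain ⟨j, hj⟩ := hCp ⟨_, hk⟩
      have hj' : (d ^ p ^ k) ^ (p ^ j) = 1 := by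
        have := congrArg Subtype.val hj
        rwa [Subgroup.coe_pow, Subgroup.coe_one] at this
      refine ⟨k + j, ?_⟩
      apply Subtype.ext
      rw [Subgroup.coe_pow, Subgroup.coe_one]
      show d ^ p ^ (k + j) = 1
      rw [pow_add, pow_mul]
      exact hj'
    rw [hbot, Subgroup.mem_bot, QuotientGroup.eq_one_iff, ← hC] at h8
    exact haC h8

end Cfsg.Agent.Lib.Helper1.ThA
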