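import Mathlib
import Cfsg.Prelude.Def_LocalEven
import Cfsg.Agent.Lib.Helper1.ThA6
import Cfsg.Agent.Lib.Helper1.NPC5

/-! Thompson's normal `p`-complement theorem, abelian `J`, `S₄`-free version. -/
set_option autoImplicit false
universe u

namespace Cfsg.Agent.Lib.Helper1.ThA

open Cfsg Cfsg.Agent.Lib.Helper1 Subgroup

theorem isCharPFunctor_thompsonSubgroupA (p : ℕ) [hp : Fact p.Prime] :
    IsCharPFunctor.{u} p (fun (Q : Type u) [Group Q] => thompsonSubgroupA Q) := by
  refine ⟨?_, ?_⟩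
  · intro Q _ _ hQ hnt h0
    have := Cfsg.Agent.Lib.Helper1.NPC.ZJA_ne_bot hQ
    apply this
    unfold Cfsg.Agent.Lib.Helper1.NPC.ZJA
    have h0' : thompsonSubgroupA Q = ⊥ := h0
    rw [h0', bot_inf_eq]
  · intro Q R _ _ _ _ φ
    exact Cfsg.Agent.Lib.Helper1.NPC.thompsonSubgroupA_map_equiv φ

theorem maxSylowPair_thompsonA {p : ℕ} [hp : Fact p.Prime]
    (Y : Type u) [Group Y] [Finite Y]
    (hS4 : p ≠ 2 ∨ ¬ Cfsg.Involves (Equiv.Perm (Fin 4)) Y) :
    ThP.MaxSylowPair (fun (Q : Type u) [Group Q] => thompsonSubgroupA Q)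
      (fun (Q : Type u) [Group Q] => Subgroup.center Q) p Y := by
  intro hcon hnil T hTp hTidx hco
  have := thompsonA_local hS4 hcon hnil T hTp hTidx hco
  unfold inducedFunctor
  show (Subgroup.map T.subtype (thompsonSubgroupA ↥T)).Normal ∨
    Subgroup.map T.subtype (Subgroup.center ↥T) ≤ Subgroup.center Y
  rw [Cfsg.Agent.Lib.Helper1.Puig.center_map_subtype]
  exact this

theorem s2800 {G : Type u} [Group G] [Finite G] {p : ℕ} [Fact p.Prime] (S : Sylow p G)
    (h : p ≠ 2 ∨ ¬ Cfsg.Involves (Equiv.Perm (Fin 4)) G)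
    (hC : Cfsg.HasNormalPComplement p ↥(Subgroup.centralizer (((S : Subgroup G) ⊓
      Subgroup.centralizer ((S : Subgroup G) : Set G) : Subgroup G) : Set G)))
    (hN : Cfsg.HasNormalPComplement p ↥(Subgroup.normalizer
      ((Cfsg.thompsonSubgroupAOf (S : Subgroup G)) : Set G))) :
    Cfsg.HasNormalPComplement p G := by
  open Cfsg.Agent.Lib.Helper7 Cfsg.Agent.Lib.Helper1.ThP in
  rw [← pn_iff] at hC hN
  rw [← pn_top_iff]
  apply pn_top_of_maxSylowPair_of (isCharPFunctor_thompsonSubgroupA p) (isCharPFunctor_center p)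
    (fun (Y : Type u) [Group Y] => p ≠ 2 ∨ ¬ Cfsg.Involves (Equiv.Perm (Fin 4)) Y)
    ?_ ?_ (fun Y _ _ hY => maxSylowPair_thompsonA Y hY) (Nat.card G) G rfl h
  · intro S'
    obtain ⟨g, rfl⟩ := MulAction.exists_smul_eq G S S'
    have hWc₁ : IsConjugacyFunctor p (inducedFunctor (G := G)
        (fun (Q : Type u) [Group Q] => thompsonSubgroupA Q)) :=
      isConjugacyFunctor_inducedFunctor (isCharPFunctor_thompsonSubgroupA p)
    have hWc₂ : IsConjugacyFunctor p (inducedFunctor (G := G)
        (fun (Q : Type u) [Group Q] => Subgroup.center Q)) :=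
      isConjugacyFunctor_inducedFunctor (isCharPFunctor_center p)
    have e1 : inducedFunctor (G := G) (fun (Q : Type u) [Group Q] => thompsonSubgroupA Q)
        (S : Subgroup G) = Cfsg.thompsonSubgroupAOf (S : Subgroup G) := rfl
    have e2 : inducedFunctor (G := G) (fun (Q : Type u) [Group Q] => Subgroup.center Q)
        (S : Subgroup G) = (S : Subgroup G) ⊓ Subgroup.centralizer ((S : Subgroup G) : Set G) := by
      unfold inducedFunctor
      exact Cfsg.Agent.Lib.Helper1.Puig.center_map_subtype _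
    rw [← e1] at hN
    rw [← e2] at hC
    constructor
    · rw [sylow_smul_coe_eq_map, (hWc₁ _ S.isPGroup').2.2 g, ← Subgroup.map_equiv_normalizer_eq]
      exact (pn_map_of_injective _ (MulAut.conj g).injective _).mpr hN
    · rw [sylow_smul_coe_eq_map, (hWc₂ _ S.isPGroup').2.2 g, centralizer_map_conj]
      exact (pn_map_of_injective _ (MulAut.conj g).injective _).mpr hC
  · intro X _ M hX
    rcases hX with hX | hX
    · exact Or.inl hX
    · exact Or.inr (fun hM => hX (Cfsg.Agent.Lib.Helper2.Inv.involves_of_subgroup M hM))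
  · intro X _ N _ hX
    rcases hX with hX | hX
    · exact Or.inl hX
    · exact Or.inr (fun hM => hX (Cfsg.Agent.Lib.Helper2.Inv.involves_of_quotient N hM))

end Cfsg.Agent.Lib.Helper1.ThA
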