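import Mathlib
import Cfsg.Agent.Lib.Helper1.PSolvStable2
import Cfsg.Agent.Lib.Helper1.StableQuad7
import Cfsg.Agent.Lib.Helper1.FittingCentralizer
import Cfsg.Agent.Lib.Helper3.PSolvable
set_option autoImplicit false
open scoped commutatorElement Pointwise
universe u v w
namespace Cfsg.Agent.Lib.Helper1.ThompsonFact

open Cfsg Cfsg.Agent.Lib.Helper1.StableQuad Cfsg.Agent.Lib.Helper1.QuadSL2 Cfsg.Agent.Lib.Helper2

variable {G : Type u} [Group G]

/-- `Ω₁(Z(P))` as a subgroup -/
def omegaZ (p : ℕ) (P : Subgroup G) : Subgroup G where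
  carrier := {x | x ∈ P ∧ (∀ y ∈ P, x * y = y * x) ∧ x ^ p = 1}
  one_mem' := ⟨P.one_mem, fun y _ => by rw [one_mul, mul_one], one_pow p⟩
  mul_mem' := by
    rintro a b ⟨ha, hac, hap⟩ ⟨hb, hbc, hbp⟩
    refine ⟨P.mul_mem ha hb, ?_, ?_⟩
    · intro y hy
      calc a * b * y = a * (b * y) := by group
        _ = a * (y * b) := by rw [hbc y hy]
        _ = (a * y) * b := by group
        _ = (y * a) * b := by rw [hac y hy]
        _ = y * (a * b) := by group
    · have hc : Commute a b := hac b hb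
      rw [hc.mul_pow, hap, hbp, one_mul]
  inv_mem' := by
    rintro a ⟨ha, hac, hap⟩
    refine ⟨P.inv_mem ha, ?_, ?_⟩
    · intro y hy
      calc a⁻¹ * y = a⁻¹ * (y * a) * a⁻¹ := by group
        _ = a⁻¹ * (a * y) * a⁻¹ := by rw [hac y hy]
        _ = y * a⁻¹ := by group
    · rw [inv_pow, hap, inv_one]

theorem mem_omegaZ_iff (p : ℕ) (P : Subgroup G) (x : G) :
    x ∈ omegaZ p P ↔ x ∈ P ∧ (∀ y ∈ P, x * y = y * x) ∧ x ^ p = 1 := Iff.rfl

theorem omegaZ_normal (p : ℕ) (P : Subgroup G) [hP : P.Normal] : (omegaZ p P).Normal := by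
  constructor
  intro x ⟨hx, hxc, hxp⟩ g
  refine ⟨hP.conj_mem x hx g, ?_, ?_⟩
  · intro y hy
    have hy' : g⁻¹ * y * g ∈ P := by
      have := hP.conj_mem y hy g⁻¹
      simpa using this
    have := hxc _ hy'
    calc g * x * g⁻¹ * y = g * (x * (g⁻¹ * y * g)) * g⁻¹ := by group
      _ = g * ((g⁻¹ * y * g) * x) * g⁻¹ := by rw [this]
      _ = y * (g * x * g⁻¹) := by group
  · rw [conj_pow, hxp]; group

theorem omegaZ_elementaryAbelian (p : ℕ) (P : Subgroup G) : IsElementaryAbelian p (omegaZ p P) := by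
  rw [isElementaryAbelian_iff]
  exact ⟨fun x hx y hy => hx.2.1 y hy.1, fun a ha => ha.2.2⟩

theorem thompson_factorization [Finite G] {p : ℕ} [hp : Fact p.Prime] (hp2 : p ≠ 2)
    (hs : Group.IsSolvable G) (h3 : p = 3 → ∀ T : Sylow 2 G, IsMulCommutative T)
    (hF : ∀ N : Subgroup G, N.Normal → Nat.Coprime (Nat.card N) p → N = ⊥) (P : Sylow p G) (g : G) :
    ∃ a ∈ Subgroup.normalizer (thompsonSubgroupOf p (P : Subgroup G) : Set G),
      ∃ c ∈ Subgroup.centralizer {x : G | x ∈ (P : Subgroup G) ∧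
        (∀ y ∈ (P : Subgroup G), x * y = y * x) ∧ x ^ p = 1}, g = a * c := by
  haveI := hs
  have hbot : pPrimeCore p G = ⊥ := by
    apply hF
    · haveI : (pPrimeCore p G).Characteristic := pPrimeCore_characteristic p
      infer_instance
    · exact pPrimeCore_card_coprime p
  have hc : Subgroup.centralizer (pCore p G : Set G) ≤ pCore p G := centralizer_pCore_le p hbot
  have hQS : pCore p G ≤ P := pCore_le_sylow p P
  haveI hQn : (pCore p G).Normal := pCore_normal p
  obtain ⟨X, hX⟩ : ∃ X : Subgroup G, X = omegaZ p (P : Subgroup G) := ⟨_, rfl⟩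
  obtain ⟨E, hE⟩ : ∃ E : Subgroup G, E = omegaZ p (pCore p G) := ⟨_, rfl⟩
  haveI hEn : E.Normal := by rw [hE]; exact omegaZ_normal p _
  have hEel : IsElementaryAbelian p E := by rw [hE]; exact omegaZ_elementaryAbelian p _
  have hXE : X ≤ E := by
    intro x hx
    rw [hX] at hx
    obtain ⟨hxP, hxc, hxp⟩ := hx
    have hxQ : x ∈ pCore p G := by
      apply hc
      rw [Subgroup.mem_centralizer_iff]
      intro y hy
      exact (hxc y (hQS hy)).symm
    rw [hE]
    exact ⟨hxQ, fun y hy => hxc y (hQS hy), hxp⟩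
  obtain ⟨V, hVdef⟩ : ∃ V : Subgroup G, V = Subgroup.normalClosure (X : Set G) := ⟨_, rfl⟩
  haveI hVn : V.Normal := hVdef ▸ Subgroup.normalClosure_normal
  have hVE : V ≤ E := by rw [hVdef]; exact Subgroup.normalClosure_le_normal hXE
  have hXV : X ≤ V := hVdef ▸ Subgroup.subset_normalClosure
  have hVel : IsElementaryAbelian p V := isElementaryAbelian_mono hEel hVE
  have hES : E ≤ P := by
    intro x hx
    rw [hE] at hx
    exact hQS hx.1
  have hVS : V ≤ P := hVE.trans hES
  have hstV : IsPStableOn p V := by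
    by_cases hp3 : p = 3
    · exact isPStableOn_of_comm_sylow hp2 V hVel (h3 hp3)
    · exact isPStableOn_of_pSolvable hp2 hp3 V hVel
        (Cfsg.Agent.Lib.Helper3.isPSolvable_of_isSolvable p hs)
  have key : ∀ a ∈ (P : Subgroup G), QuadE V a → CentE V a := by
    intro a _ hq
    have := centE_normalClosure_of_stable V hstV P X hXV (fun s hs _ => by
      intro v hv
      rw [hX] at hv
      exact (hv.2.1 s hs).symm) a hq
    rwa [← hVdef] at this
  obtain ⟨V', hV'def⟩ : ∃ V' : Subgroup (P : Subgroup G), V' = V.subgroupOf (P : Subgroup G) :=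
    ⟨_, rfl⟩
  haveI hV'n : V'.Normal := hV'def ▸ hVn.subgroupOf _
  have hV'el : IsElementaryAbelian p V' :=
    hV'def ▸ isElementaryAbelian_comap_of_injective hVel _ (P : Subgroup G).subtype_injective
  have hV'map : V'.map (P : Subgroup G).subtype = V := by
    rw [hV'def, Subgroup.subgroupOf_map_subtype, inf_eq_left.mpr hVS]
  have key' : ∀ a : (P : Subgroup G), QuadE V' a → CentE V' a := by
    intro a hq
    have h1 := quadE_map (P : Subgroup G).subtype hq
    rw [hV'map] at h1
    have h2 := key a a.2 h1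
    rw [← hV'map] at h2
    exact centE_of_map _ (P : Subgroup G).subtype_injective h2
  have hJ : thompsonSubgroupOf p (P : Subgroup G) ≤ Subgroup.centralizer (V : Set G) := by
    unfold thompsonSubgroupOf thompsonSubgroup
    rw [Subgroup.map_le_iff_le_comap]
    apply sSup_le
    intro A hA
    obtain ⟨_, hq, hne⟩ := thompson_replacement_max V' hV'el A hA
    obtain ⟨B, hB⟩ : ∃ B : Subgroup (P : Subgroup G),
      B = ⁅V', A⁆ ⊔ (A ⊓ Subgroup.centralizer ((⁅V', A⁆ : Subgroup (P : Subgroup G)) : Set _)) :=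
      ⟨_, rfl⟩
    rw [← hB] at hq hne
    have hcomm : ⁅V', A⁆ = ⊥ := by
      by_contra hcon
      apply hne hcon
      rw [Subgroup.commutator_eq_bot_iff_le_centralizer]
      intro v hv
      rw [Subgroup.mem_centralizer_iff]
      intro a ha
      have hqa : QuadE V' a := by
        rw [← quadE_iff, eq_bot_iff, ← hq]
        have h1 : Subgroup.zpowers a ≤ B := by rw [Subgroup.zpowers_le]; exact ha
        exact Subgroup.commutator_mono (Subgroup.commutator_mono le_rfl h1) h1
      exact key' a hqa v hv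
    rw [Subgroup.commutator_eq_bot_iff_le_centralizer] at hcomm
    intro a ha
    rw [Subgroup.mem_comap, Subgroup.mem_centralizer_iff]
    intro v hv
    have hv' : (⟨v, hVS hv⟩ : (P : Subgroup G)) ∈ V' := by
      rw [hV'def, Subgroup.mem_subgroupOf]; exact hv
    have h1 := hcomm hv'
    rw [Subgroup.mem_centralizer_iff] at h1
    have h2 := h1 a ha
    exact (congrArg Subtype.val h2).symm
  obtain ⟨C, hC⟩ : ∃ C : Subgroup G, C = Subgroup.centralizer (V : Set G) := ⟨_, rfl⟩
  rw [← hC] at hJ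
  haveI hCn : C.Normal := by rw [hC]; infer_instance
  obtain ⟨Q, hQ⟩ := subnormal_inf_sylow p C hCn.isSubnormal P
  have hfr := Sylow.normalizer_sup_eq_top Q
  have hQmap : (Q : Subgroup C).map C.subtype = (P : Subgroup G) ⊓ C := by
    rw [hQ, Subgroup.subgroupOf_map_subtype]
  rw [hQmap] at hfr
  have hJT : thompsonSubgroupOf p (P : Subgroup G) ≤ (P : Subgroup G) ⊓ C :=
    le_inf (thompsonSubgroupOf_le_self p _) hJ
  have h1 : Subgroup.normalizer (((P : Subgroup G) ⊓ C : Subgroup G) : Set G) ≤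
      Subgroup.normalizer (thompsonSubgroupOf p (P : Subgroup G) : Set G) :=
    normalizer_le_normalizer_thompsonSubgroupOf hJT inf_le_left
  have hg : g ∈ Subgroup.normalizer (thompsonSubgroupOf p (P : Subgroup G) : Set G) ⊔ C := by
    have : g ∈ (⊤ : Subgroup G) := Subgroup.mem_top g
    rw [← hfr] at this
    exact (sup_le_sup_right h1 C) this
  rw [Subgroup.mem_sup_of_normal_right] at hg
  obtain ⟨a, ha, c, hc', hac⟩ := hg
  refine ⟨a, ha, c, ?_, hac.symm⟩
  rw [Subgroup.mem_centralizer_iff]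
  intro x hx
  have hxX : x ∈ X := by rw [hX]; exact hx
  rw [hC, Subgroup.mem_centralizer_iff] at hc'
  exact hc' x (hXV hxX)

end Cfsg.Agent.Lib.Helper1.ThompsonFact
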