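import Mathlib
import Cfsg.Prelude.Def_ChevStructure
import Cfsg.Agent.Lib.Helper1.InvolN
import Cfsg.Agent.Lib.Helper5.ChevNormal

set_option autoImplicit false

/-!
The centraliser of a torus element `t ∈ H` in terms of the Bruhat normal form `g = b n v`:
`g` commutes with `t` iff `b`, `n`, `v` all do.
-/

namespace Cfsg.Agent.Lib.Helper1.TorusCent

open Cfsg Cfsg.Lie Cfsg.Agent.Lib.Helper5.ChevSym Cfsg.Agent.Lib.Helper5.ChevStruct
  Cfsg.Agent.Lib.Helper1.InvolN

variable {F : Type*} [Field F]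

/-- `H` is commutative -/
theorem diag_comm (D : ChevalleyDatum) (hD : D ∈ Seven) (h h' : GL D.Idx F)
    (hh : h ∈ D.diagonalSubgroup F) (hh' : h' ∈ D.diagonalSubgroup F) : h * h' = h' * h := by
  obtain ⟨c, -, e⟩ := exists_torusMat_of_mem D hD h hh
  obtain ⟨c', -, e'⟩ := exists_torusMat_of_mem D hD h' hh'
  apply Units.ext
  rw [Units.val_mul, Units.val_mul, e, e', torusMat_mul, torusMat_mul]
  congr 1
  funext i
  exact mul_comm _ _

/-- `H` normalises `U_n⁻` -/
theorem diag_conj_unegOf (D : ChevalleyDatum) (hD : D ∈ Seven) (n t v : GL D.Idx F)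
    (ht : t ∈ D.diagonalSubgroup F) (hv : v ∈ unegOf D F n) : t * v * t⁻¹ ∈ unegOf D F n := by
  obtain ⟨c, hc, hval⟩ := exists_torusMat_of_mem D hD t ht
  unfold unegOf at hv ⊢
  induction hv using Subgroup.closure_induction with
  | mem y hy =>
    obtain ⟨r, s, hr, hle, hy⟩ := hy
    apply Subgroup.subset_closure
    exact ⟨r, chi D c r * s, hr, hle, torus_conj_x D hD t y c hc hval r s hy⟩
  | one =>
    simp only [mul_one, mul_inv_cancel]
    exact one_mem _
  | mul a b _ _ ha hb =>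
    have e : t * (a * b) * t⁻¹ = (t * a * t⁻¹) * (t * b * t⁻¹) := by group
    rw [e]
    exact mul_mem ha hb
  | inv a _ ha =>
    have e : t * a⁻¹ * t⁻¹ = (t * a * t⁻¹)⁻¹ := by group
    rw [e]
    exact inv_mem ha

/-- `g = b n v` commutes with `t ∈ H` only if `b`, `n`, `v` do -/
theorem cent_bruhat (D : ChevalleyDatum) (hD : D ∈ Seven) (t b n v : GL D.Idx F)
    (ht : t ∈ D.diagonalSubgroup F) (hb : b ∈ D.borelSubgroup F)
    (hn : n ∈ D.monomialSubgroup F) (hv : v ∈ unegOf D F n)
    (hcomm : t * (b * n * v) = (b * n * v) * t) :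
    t * b = b * t ∧ t * n = n * t ∧ t * v = v * t := by
  -- `h₀ = t n t⁻¹ n⁻¹ ∈ H`
  have hh₀ : t * (n * t⁻¹ * n⁻¹) ∈ D.diagonalSubgroup F :=
    mul_mem ht (conj_monomial_diag_mem D hD n hn t⁻¹ (inv_mem ht)).1
  set h₀ := t * (n * t⁻¹ * n⁻¹) with hh₀def
  have htB : t ∈ D.borelSubgroup F := diagonal_le_borel D ht
  have hb' : t * b * t⁻¹ * h₀ ∈ D.borelSubgroup F :=
    mul_mem (mul_mem (mul_mem htB hb) (inv_mem htB)) (diagonal_le_borel D hh₀)
  have hv' := diag_conj_unegOf D hD n t v ht hv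
  have e : t * b * t⁻¹ * h₀ * n * (t * v * t⁻¹) = b * n * v := by
    have : t * b * t⁻¹ * h₀ * n * (t * v * t⁻¹) = t * (b * n * v) * t⁻¹ := by
      rw [hh₀def]; group
    rw [this, hcomm]; group
  obtain ⟨e1, e2⟩ := (bruhat_unique D hD _ _ _ _ _ _ hb' hb hn hn hv' hv e).2 rfl
  -- decompose `b = u h'`
  obtain ⟨u, hu, h', hh', rfl⟩ := borel_decomp D hD b hb
  have hN := diagonal_le_normalizer_pos D hD ht
  have hu' : t * u * t⁻¹ ∈ D.posUnipotent F := (Subgroup.mem_normalizer_iff.1 hN u).1 hu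
  have hth' : t * h' * t⁻¹ = h' := by
    rw [diag_comm D hD t h' ht hh']; group
  have e3 : t * (u * h') * t⁻¹ * h₀ = (t * u * t⁻¹) * (h' * h₀) := by
    calc t * (u * h') * t⁻¹ * h₀ = (t * u * t⁻¹) * ((t * h' * t⁻¹) * h₀) := by group
      _ = _ := by rw [hth']
  rw [e3] at e1
  have h4 : u⁻¹ * (t * u * t⁻¹) ∈ D.posUnipotent F ⊓ D.diagonalSubgroup F := by
    refine Subgroup.mem_inf.2 ⟨mul_mem (inv_mem hu) hu', ?_⟩
    have : u⁻¹ * (t * u * t⁻¹) = h' * (h' * h₀)⁻¹ := by
      have e5 : t * u * t⁻¹ = u * h' * (h' * h₀)⁻¹ := by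
        rw [← e1]; group
      rw [e5]; group
    rw [this]
    exact mul_mem hh' (inv_mem (mul_mem hh' hh₀))
  rw [pos_inf_diagonal D hD, Subgroup.mem_bot] at h4
  have hu_fix : t * u * t⁻¹ = u := by
    have := congrArg (fun x => u * x) h4
    simpa using this
  have hh₀1 : h₀ = 1 := by
    rw [hu_fix] at e1
    have h6 : h' * h₀ = h' := mul_left_cancel e1
    have h7 : h' * h₀ = h' * 1 := by rw [h6, mul_one]
    exact mul_left_cancel h7
  refine ⟨?_, ?_, ?_⟩
  · have : t * (u * h') * t⁻¹ = u * h' := by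
      calc t * (u * h') * t⁻¹ = (t * u * t⁻¹) * (t * h' * t⁻¹) := by group
        _ = _ := by rw [hu_fix, hth']
    calc t * (u * h') = (t * (u * h') * t⁻¹) * t := by group
      _ = _ := by rw [this]
  · have h5 : t * n * t⁻¹ * n⁻¹ = 1 := by
      rw [← hh₀1, hh₀def]; group
    calc t * n = (t * n * t⁻¹ * n⁻¹) * n * t := by group
      _ = n * t := by rw [h5, one_mul]
  · calc t * v = (t * v * t⁻¹) * t := by group
      _ = _ := by rw [e2]

/-- the converse -/
theorem cent_bruhat_conv {G : Type*} [Group G] (t b n v : G)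
    (h1 : t * b = b * t) (h2 : t * n = n * t) (h3 : t * v = v * t) :
    t * (b * n * v) = (b * n * v) * t := by
  calc t * (b * n * v) = (t * b) * n * v := by group
    _ = b * (t * n) * v := by rw [h1]; group
    _ = b * n * (t * v) := by rw [h2]; group
    _ = _ := by rw [h3]; group

/-- for `b = u h'`: `t` commutes with `b` iff with `u` -/
theorem cent_borel (D : ChevalleyDatum) (hD : D ∈ Seven) (t u h' : GL D.Idx F)
    (ht : t ∈ D.diagonalSubgroup F) (hh' : h' ∈ D.diagonalSubgroup F) :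
    t * (u * h') = (u * h') * t ↔ t * u = u * t := by
  have hc := diag_comm D hD t h' ht hh'
  constructor
  · intro h
    have : t * u * h' = u * t * h' := by
      calc t * u * h' = t * (u * h') := by group
        _ = u * h' * t := h
        _ = u * (h' * t) := by group
        _ = u * (t * h') := by rw [hc]
        _ = _ := by group
    exact mul_right_cancel this
  · intro h
    calc t * (u * h') = (t * u) * h' := by group
      _ = u * (t * h') := by rw [h]; group
      _ = u * (h' * t) := by rw [hc]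
      _ = _ := by group

end Cfsg.Agent.Lib.Helper1.TorusCent
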