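import Mathlib
import Cfsg.Agent.Lib.Helper5.AltWitt

/-!
# Symplectic toolkit: prescribed values, non-orthogonal pairs in perps, generation by transvections
-/

set_option autoImplicit false
set_option maxHeartbeats 4000000
set_option linter.unusedSimpArgs false
set_option linter.unusedVariables false
set_option linter.unusedSectionVars false

namespace Cfsg.Agent.Lib.Helper1.TsA

open Module
open Cfsg.Agent.Lib.Helper5.AltWitt

variable {F : Type*} [Field F] {V : Type*} [AddCommGroup V] [Module F V] [FiniteDimensional F V]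
  (B : LinearMap.BilinForm F V)

theorem alt_swap (hA : B.IsAlt) (x y : V) : B x y = - B y x := by
  rw [← hA.neg_eq y x]

/-- every functional is represented on the right -/
theorem exists_repr (hB : B.Nondegenerate) (φ : V →ₗ[F] F) : ∃ z, ∀ v, B v z = φ v := by
  refine ⟨(B.flip.toDual hB.flip).symm φ, fun v => ?_⟩
  have := LinearMap.BilinForm.apply_toDual_symm_apply (B := B.flip) (hB := hB.flip) φ v
  rw [LinearMap.BilinForm.flip_apply] at this
  exact this

/-- a vector with prescribed form values against an independent family -/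
theorem exists_prescribed (hB : B.Nondegenerate) {k : ℕ} (a : Fin k → V)
    (hind : LinearIndependent F a) (c : Fin k → F) : ∃ v, ∀ i, B (a i) v = c i := by
  set ψ : (Fin k → F) →ₗ[F] V := Fintype.linearCombination F a with hψ
  have hker : LinearMap.ker ψ = ⊥ := by
    rw [LinearMap.ker_eq_bot]
    exact hind.fintypeLinearCombination_injective
  obtain ⟨ρ, hρ⟩ := LinearMap.exists_leftInverse_of_injective ψ hker
  set L : V →ₗ[F] F := (Fintype.linearCombination F c).comp ρ with hL
  have hLa : ∀ i, L (a i) = c i := by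
    intro i
    have h1 : a i = ψ (Pi.single i 1) := by
      rw [hψ, Fintype.linearCombination_apply_single, one_smul]
    have h2 : ρ (ψ (Pi.single i 1)) = Pi.single i 1 := by
      have := congrArg (fun g : (Fin k → F) →ₗ[F] (Fin k → F) => g (Pi.single i 1)) hρ
      simpa using this
    rw [hL, LinearMap.comp_apply, h1, h2, Fintype.linearCombination_apply_single, one_smul]
  obtain ⟨z, hz⟩ := exists_repr B hB L
  exact ⟨z, fun i => by rw [hz, hLa]⟩

theorem exists_partner (hB : B.Nondegenerate) (x : V) (hx : x ≠ 0) (c : F) : ∃ y, B x y = c := by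
  have h1 : ∃ y, B x y ≠ 0 := by
    by_contra hcon
    push Not at hcon
    exact hx (hB.1 x hcon)
  obtain ⟨y, hy⟩ := h1
  refine ⟨(c * (B x y)⁻¹) • y, ?_⟩
  rw [map_smul, smul_eq_mul, mul_assoc, inv_mul_cancel₀ hy, mul_one]

/-- if two subspaces are mutually orthogonal then their dimensions add up to at most `dim V` -/
theorem finrank_add_le_of_orth (hB : B.Nondegenerate) (S₁ S₂ : Submodule F V)
    (h : ∀ x ∈ S₁, ∀ y ∈ S₂, B x y = 0) : finrank F S₁ + finrank F S₂ ≤ finrank F V := by
  have hle : S₂ ≤ B.orthogonal S₁ := by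
    intro y hy
    rw [LinearMap.BilinForm.mem_orthogonal_iff]
    intro x hx
    exact h x hx y hy
  have h1 := Submodule.finrank_mono hle
  rw [LinearMap.BilinForm.finrank_orthogonal hB] at h1
  have h2 : finrank F S₁ ≤ finrank F V := Submodule.finrank_le S₁
  omega

/-- the perp of a finite family -/
def perpF {k : ℕ} (a : Fin k → V) : Submodule F V := B.orthogonal (Submodule.span F (Set.range a))

theorem mem_perpF {k : ℕ} (a : Fin k → V) (v : V) : v ∈ perpF B a ↔ ∀ i, B (a i) v = 0 := by
  unfold perpF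
  rw [LinearMap.BilinForm.mem_orthogonal_iff]
  constructor
  · intro h i
    exact h (a i) (Submodule.subset_span ⟨i, rfl⟩)
  · intro h n hn
    induction hn using Submodule.span_induction with
    | mem x hx =>
      obtain ⟨i, rfl⟩ := hx
      exact h i
    | zero => simp
    | add x y _ _ hx hy => rw [map_add, LinearMap.add_apply, hx, hy, add_zero]
    | smul c x _ hx => rw [map_smul, LinearMap.smul_apply, hx, smul_zero]

theorem finrank_perpF_ge (hB : B.Nondegenerate) {k : ℕ} (a : Fin k → V) :
    finrank F V - k ≤ finrank F (perpF B a) := by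
  unfold perpF
  rw [LinearMap.BilinForm.finrank_orthogonal hB]
  have := finrank_range_le_card (R := F) a
  rw [Fintype.card_fin] at this
  have h2 : finrank F ↥(Submodule.span F (Set.range a)) = (Set.range a).finrank F := rfl
  omega

/-- non-orthogonal vectors in the perps of two small families -/
theorem exists_nonorth_perp (hB : B.Nondegenerate) {k₁ k₂ : ℕ} (a₁ : Fin k₁ → V) (a₂ : Fin k₂ → V)
    (h : k₁ + k₂ < finrank F V) :
    ∃ x y, (∀ i, B (a₁ i) x = 0) ∧ (∀ i, B (a₂ i) y = 0) ∧ B x y ≠ 0 := by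
  by_contra hcon
  push Not at hcon
  have h1 := finrank_add_le_of_orth B hB (perpF B a₁) (perpF B a₂) (fun x hx y hy => by
    exact hcon x y ((mem_perpF B a₁ x).mp hx) ((mem_perpF B a₂ y).mp hy))
  have h2 := finrank_perpF_ge B hB a₁
  have h3 := finrank_perpF_ge B hB a₂
  omega


/-! ### generation of the isometry group by transvections -/

/-- the set of symplectic transvections -/
def tvSet (hA : B.IsAlt) : Set (V ≃ₗ[F] V) := {t | ∃ p c, t = tv B hA p c}

/-- the subgroup generated by the transvections -/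
def TG (hA : B.IsAlt) : Subgroup (V ≃ₗ[F] V) := Subgroup.closure (tvSet B hA)

theorem tv_mem_TG (hA : B.IsAlt) (p : V) (c : F) : tv B hA p c ∈ TG B hA :=
  Subgroup.subset_closure ⟨p, c, rfl⟩

theorem isom_of_mem_TG (hA : B.IsAlt) {g : V ≃ₗ[F] V} (hg : g ∈ TG B hA) :
    ∀ x y, B (g x) (g y) = B x y := by
  induction hg using Subgroup.closure_induction with
  | mem t ht =>
    obtain ⟨p, c, rfl⟩ := ht
    exact tv_isom B hA p c
  | one => intro x y; rfl
  | mul a b _ _ ha hb =>
    intro x y
    rw [LinearEquiv.mul_apply, LinearEquiv.mul_apply, ha, hb]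
  | inv a _ ha =>
    intro x y
    have := ha (a⁻¹ x) (a⁻¹ y)
    rw [← LinearEquiv.mul_apply, ← LinearEquiv.mul_apply, mul_inv_cancel] at this
    exact this.symm

/-- moving one vector of `S^⊥` to another one, fixing `S` -/
theorem TG_move1 (hB : B.Nondegenerate) (hA : B.IsAlt) (S : Submodule F V)
    (hS : S ⊓ B.orthogonal S = ⊥) (x y : V) (hx : x ∈ B.orthogonal S) (hy : y ∈ B.orthogonal S)
    (hx0 : x ≠ 0) (hy0 : y ≠ 0) :
    ∃ t ∈ TG B hA, (∀ s ∈ S, t s = s) ∧ t x = y := by
  have hperp : ∀ s ∈ S, ∀ z ∈ B.orthogonal S, B s z = 0 := by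
    intro s hs z hz
    exact (LinearMap.BilinForm.mem_orthogonal_iff.mp hz) s hs
  -- a single step
  have step : ∀ x y : V, x ∈ B.orthogonal S → y ∈ B.orthogonal S → B x y ≠ 0 →
      ∃ t ∈ TG B hA, (∀ s ∈ S, t s = s) ∧ t x = y := by
    intro x y hx hy hxy
    refine ⟨tv B hA (y - x) (B x y)⁻¹, tv_mem_TG B hA _ _, ?_, ?_⟩
    · intro s hs
      rw [tv_apply, map_sub, hperp s hs y hy, hperp s hs x hx, sub_zero, mul_zero, zero_smul,
        add_zero]
    · rw [tv_apply, map_sub, hA.self_eq_zero x, sub_zero, inv_mul_cancel₀ hxy, one_smul]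
      abel
  -- nonzero vectors of `S^⊥` are not in the radical of `S^⊥`
  have hout : ∀ x ∈ B.orthogonal S, x ≠ 0 → ∃ z ∈ B.orthogonal S, B z x ≠ 0 := by
    intro x hx hx0
    by_contra hcon
    push Not at hcon
    have h1 : x ∈ B.orthogonal (B.orthogonal S) := by
      rw [LinearMap.BilinForm.mem_orthogonal_iff]
      intro z hz
      exact hcon z hz
    rw [LinearMap.BilinForm.orthogonal_orthogonal hB hA.isRefl] at h1
    have h2 : x ∈ S ⊓ B.orthogonal S := ⟨h1, hx⟩
    rw [hS] at h2
    exact hx0 ((Submodule.mem_bot F).mp h2)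
  by_cases hxy : B x y = 0
  · obtain ⟨z₁, hz₁, h1⟩ := hout x hx hx0
    obtain ⟨z₂, hz₂, h2⟩ := hout y hy hy0
    have hz : ∃ z ∈ B.orthogonal S, B x z ≠ 0 ∧ B z y ≠ 0 := by
      by_cases c1 : B z₁ y = 0
      · by_cases c2 : B z₂ x = 0
        · refine ⟨z₁ + z₂, Submodule.add_mem _ hz₁ hz₂, ?_, ?_⟩
          · rw [map_add, alt_swap B hA x z₁, alt_swap B hA x z₂, c2, neg_zero, add_zero]
            exact neg_ne_zero.mpr h1
          · rw [map_add, LinearMap.add_apply, c1, zero_add]
            exact h2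
        · refine ⟨z₂, hz₂, ?_, h2⟩
          rw [alt_swap B hA]
          exact neg_ne_zero.mpr c2
      · refine ⟨z₁, hz₁, ?_, c1⟩
        rw [alt_swap B hA]
        exact neg_ne_zero.mpr h1
    obtain ⟨z, hz, hxz, hzy⟩ := hz
    obtain ⟨t₁, ht₁, hf₁, hm₁⟩ := step x z hx hz hxz
    obtain ⟨t₂, ht₂, hf₂, hm₂⟩ := step z y hz hy hzy
    refine ⟨t₂ * t₁, (TG B hA).mul_mem ht₂ ht₁, ?_, ?_⟩
    · intro s hs
      rw [LinearEquiv.mul_apply, hf₁ s hs, hf₂ s hs]
    · rw [LinearEquiv.mul_apply, hm₁, hm₂]
  · exact step x y hx hy hxy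

/-- moving the second vector of a hyperbolic pair of `S^⊥`, fixing `S` and the first vector -/
theorem TG_move2 (hA : B.IsAlt) (S : Submodule F V)
    (u v v' : V) (hu : u ∈ B.orthogonal S) (hv : v ∈ B.orthogonal S) (hv' : v' ∈ B.orthogonal S)
    (huv : B u v = 1) (huv' : B u v' = 1) :
    ∃ t ∈ TG B hA, (∀ s ∈ S, t s = s) ∧ t u = u ∧ t v = v' := by
  have hperp : ∀ s ∈ S, ∀ z ∈ B.orthogonal S, B s z = 0 := by
    intro s hs z hz
    exact (LinearMap.BilinForm.mem_orthogonal_iff.mp hz) s hs
  have step : ∀ x y : V, x ∈ B.orthogonal S → y ∈ B.orthogonal S → B x y ≠ 0 → B u x = B u y →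
      ∃ t ∈ TG B hA, (∀ s ∈ S, t s = s) ∧ t u = u ∧ t x = y := by
    intro x y hx hy hxy hux
    refine ⟨tv B hA (y - x) (B x y)⁻¹, tv_mem_TG B hA _ _, ?_, ?_, ?_⟩
    · intro s hs
      rw [tv_apply, map_sub, hperp s hs y hy, hperp s hs x hx, sub_zero, mul_zero, zero_smul,
        add_zero]
    · rw [tv_apply, map_sub, hux, sub_self, mul_zero, zero_smul, add_zero]
    · rw [tv_apply, map_sub, hA.self_eq_zero x, sub_zero, inv_mul_cancel₀ hxy, one_smul]
      abel
  by_cases hvv : B v v' = 0
  · have hvu : v + u ∈ B.orthogonal S := Submodule.add_mem _ hv hu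
    have e1 : B v (v + u) ≠ 0 := by
      rw [map_add, hA.self_eq_zero, zero_add, alt_swap B hA, huv]
      exact neg_ne_zero.mpr one_ne_zero
    have e2 : B (v + u) v' ≠ 0 := by
      rw [map_add, LinearMap.add_apply, hvv, zero_add, huv']
      exact one_ne_zero
    obtain ⟨t₁, ht₁, hf₁, hu₁, hm₁⟩ := step v (v + u) hv hvu e1 (by
      rw [map_add, hA.self_eq_zero, add_zero])
    obtain ⟨t₂, ht₂, hf₂, hu₂, hm₂⟩ := step (v + u) v' hvu hv' e2 (by
      rw [map_add, hA.self_eq_zero, add_zero, huv, huv'])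
    refine ⟨t₂ * t₁, (TG B hA).mul_mem ht₂ ht₁, ?_, ?_, ?_⟩
    · intro s hs
      rw [LinearEquiv.mul_apply, hf₁ s hs, hf₂ s hs]
    · rw [LinearEquiv.mul_apply, hu₁, hu₂]
    · rw [LinearEquiv.mul_apply, hm₁, hm₂]
  · exact step v v' hv hv' hvv (by rw [huv, huv'])

/-- every isometry fixing a nondegenerate subspace pointwise is a product of transvections -/
theorem isom_mem_TG_aux (hB : B.Nondegenerate) (hA : B.IsAlt) :
    ∀ (d : ℕ) (S : Submodule F V), finrank F V - finrank F S = d → S ⊓ B.orthogonal S = ⊥ →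
      ∀ g : V ≃ₗ[F] V, (∀ x y, B (g x) (g y) = B x y) → (∀ s ∈ S, g s = s) → g ∈ TG B hA := by
  intro d
  induction d using Nat.strong_induction_on with
  | _ d ih =>
    intro S hd hS g hg hfix
    by_cases hbot : B.orthogonal S = ⊥
    · -- then `S = ⊤`
      have h1 : S = ⊤ := by
        rw [← LinearMap.BilinForm.orthogonal_orthogonal hB hA.isRefl S, hbot]
        rw [eq_top_iff]
        intro x _
        rw [LinearMap.BilinForm.mem_orthogonal_iff]
        intro n hn
        rw [(Submodule.mem_bot F).mp hn]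
        show B 0 x = 0
        simp
      have h2 : g = 1 := by
        apply LinearEquiv.ext
        intro x
        exact hfix x (h1 ▸ Submodule.mem_top)
      rw [h2]
      exact (TG B hA).one_mem
    · obtain ⟨u, hu, hu0⟩ := Submodule.exists_mem_ne_zero_of_ne_bot hbot
      have hperp : ∀ s ∈ S, ∀ z ∈ B.orthogonal S, B s z = 0 := by
        intro s hs z hz
        exact (LinearMap.BilinForm.mem_orthogonal_iff.mp hz) s hs
      -- a partner of `u` inside `S^⊥`
      have hv : ∃ v ∈ B.orthogonal S, B u v = 1 := by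
        have : ∃ z ∈ B.orthogonal S, B z u ≠ 0 := by
          by_contra hcon
          push Not at hcon
          have h1 : u ∈ B.orthogonal (B.orthogonal S) := by
            rw [LinearMap.BilinForm.mem_orthogonal_iff]
            intro z hz
            exact hcon z hz
          rw [LinearMap.BilinForm.orthogonal_orthogonal hB hA.isRefl] at h1
          have h2 : u ∈ S ⊓ B.orthogonal S := ⟨h1, hu⟩
          rw [hS] at h2
          exact hu0 ((Submodule.mem_bot F).mp h2)
        obtain ⟨z, hz, hzu⟩ := this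
        have hne : B u z ≠ 0 := by
          rw [alt_swap B hA]
          exact neg_ne_zero.mpr hzu
        refine ⟨(B u z)⁻¹ • z, Submodule.smul_mem _ _ hz, ?_⟩
        rw [map_smul, smul_eq_mul, inv_mul_cancel₀ hne]
      obtain ⟨v, hv, huv⟩ := hv
      -- images stay in `S^⊥`
      have himg : ∀ (t : V ≃ₗ[F] V), (∀ x y, B (t x) (t y) = B x y) → (∀ s ∈ S, t s = s) →
          ∀ z ∈ B.orthogonal S, t z ∈ B.orthogonal S := by
        intro t ht htf z hz
        rw [LinearMap.BilinForm.mem_orthogonal_iff]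
        intro s hs
        show B s (t z) = 0
        have := ht s z
        rw [htf s hs] at this
        rw [this]
        exact hperp s hs z hz
      have hgu : g u ∈ B.orthogonal S := himg g hg hfix u hu
      have hgu0 : g u ≠ 0 := by
        intro h
        exact hu0 (g.map_eq_zero_iff.mp h)
      obtain ⟨t₁, ht₁, hf₁, hm₁⟩ := TG_move1 B hB hA S hS (g u) u hgu hu hgu0 hu0
      have ht₁i := isom_of_mem_TG B hA ht₁
      have hv₁ : t₁ (g v) ∈ B.orthogonal S := himg t₁ ht₁i hf₁ _ (himg g hg hfix v hv)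
      have huv₁ : B u (t₁ (g v)) = 1 := by
        rw [← hm₁, ht₁i, hg, huv]
      obtain ⟨t₂, ht₂, hf₂, hu₂, hm₂⟩ := TG_move2 B hA S u (t₁ (g v)) v hu hv₁ hv huv₁ huv
      have ht₂i := isom_of_mem_TG B hA ht₂
      -- the new isometry
      set g' : V ≃ₗ[F] V := t₂ * t₁ * g with hg'
      have hg'i : ∀ x y, B (g' x) (g' y) = B x y := by
        intro x y
        rw [hg', LinearEquiv.mul_apply, LinearEquiv.mul_apply, LinearEquiv.mul_apply,
          LinearEquiv.mul_apply, ht₂i, ht₁i, hg]
      have hg'u : g' u = u := by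
        rw [hg', LinearEquiv.mul_apply, LinearEquiv.mul_apply, hm₁, hu₂]
      have hg'v : g' v = v := by
        rw [hg', LinearEquiv.mul_apply, LinearEquiv.mul_apply, hm₂]
      have hg's : ∀ s ∈ S, g' s = s := by
        intro s hs
        rw [hg', LinearEquiv.mul_apply, LinearEquiv.mul_apply, hfix s hs, hf₁ s hs, hf₂ s hs]
      set S' : Submodule F V := S ⊔ Submodule.span F {u, v} with hS'
      have hg'S' : ∀ s ∈ S', g' s = s := by
        intro s hs
        rw [hS', Submodule.mem_sup] at hs
        obtain ⟨s₁, hs₁, s₂, hs₂, rfl⟩ := hs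
        rw [Submodule.mem_span_pair] at hs₂
        obtain ⟨a, b, rfl⟩ := hs₂
        rw [map_add, map_add, map_smul, map_smul, hg's s₁ hs₁, hg'u, hg'v]
      have hS'nd : S' ⊓ B.orthogonal S' = ⊥ := by
        rw [eq_bot_iff]
        intro x hx
        obtain ⟨hx1, hx2⟩ := Submodule.mem_inf.mp hx
        rw [hS', Submodule.mem_sup] at hx1
        obtain ⟨s₁, hs₁, s₂, hs₂, rfl⟩ := hx1
        rw [Submodule.mem_span_pair] at hs₂
        obtain ⟨a, b, rfl⟩ := hs₂
        rw [LinearMap.BilinForm.mem_orthogonal_iff] at hx2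
        have hu' : u ∈ S' := Submodule.mem_sup_right (Submodule.subset_span (by simp))
        have hv' : v ∈ S' := Submodule.mem_sup_right (Submodule.subset_span (by simp))
        have e1 : B u (s₁ + (a • u + b • v)) = 0 := hx2 u hu'
        have e2 : B v (s₁ + (a • u + b • v)) = 0 := hx2 v hv'
        rw [map_add, map_add, map_smul, map_smul, alt_swap B hA u s₁, hperp s₁ hs₁ u hu, neg_zero,
          zero_add, hA.self_eq_zero, smul_zero, zero_add, huv, smul_eq_mul, mul_one] at e1
        rw [map_add, map_add, map_smul, map_smul, alt_swap B hA v s₁, hperp s₁ hs₁ v hv, neg_zero,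
          zero_add, hA.self_eq_zero, smul_zero, add_zero, alt_swap B hA v u, huv, smul_eq_mul,
          mul_neg, mul_one, neg_eq_zero] at e2
        rw [e1, e2, zero_smul, zero_smul, add_zero, add_zero]
        have h3 : s₁ ∈ B.orthogonal S := by
          rw [LinearMap.BilinForm.mem_orthogonal_iff]
          intro s hs
          have : B s (s₁ + (a • u + b • v)) = 0 := hx2 s (Submodule.mem_sup_left hs)
          rw [e1, e2, zero_smul, zero_smul, add_zero, add_zero] at this
          exact this
        have h4 : s₁ ∈ S ⊓ B.orthogonal S := ⟨hs₁, h3⟩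
        rw [hS] at h4
        rw [(Submodule.mem_bot F).mp h4]
        exact Submodule.zero_mem _
      have hlt : finrank F S < finrank F S' := by
        apply Submodule.finrank_lt_finrank_of_lt
        rw [SetLike.lt_iff_le_and_exists]
        refine ⟨le_sup_left, u, Submodule.mem_sup_right (Submodule.subset_span (by simp)), ?_⟩
        intro huS
        have h2 : u ∈ S ⊓ B.orthogonal S := ⟨huS, hu⟩
        rw [hS] at h2
        exact hu0 ((Submodule.mem_bot F).mp h2)
      have hle : finrank F S' ≤ finrank F V := Submodule.finrank_le S'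
      have hmem : g' ∈ TG B hA :=
        ih (finrank F V - finrank F S') (by omega) S' rfl hS'nd g' hg'i hg'S'
      have e : g = t₁⁻¹ * (t₂⁻¹ * g') := by
        rw [hg']
        group
      rw [e]
      exact (TG B hA).mul_mem ((TG B hA).inv_mem ht₁) ((TG B hA).mul_mem ((TG B hA).inv_mem ht₂) hmem)

/-- the isometry group of a nondegenerate alternating form is generated by transvections -/
theorem isom_mem_TG (hB : B.Nondegenerate) (hA : B.IsAlt) (g : V ≃ₗ[F] V)
    (hg : ∀ x y, B (g x) (g y) = B x y) : g ∈ TG B hA := by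
  apply isom_mem_TG_aux B hB hA _ ⊥ rfl _ g hg
  · intro s hs
    rw [(Submodule.mem_bot F).mp hs, map_zero]
  · rw [bot_inf_eq]


/-! ### Witt wrappers -/

theorem exists_isom_single (hB : B.Nondegenerate) (hA : B.IsAlt) (x y : V) (hx : x ≠ 0)
    (hy : y ≠ 0) : ∃ g : V ≃ₗ[F] V, (∀ u v, B (g u) (g v) = B u v) ∧ g x = y := by
  obtain ⟨g, hg, hgx⟩ := witt_family B hB hA 1 ![x] ![y]
    (by
      rw [linearIndependent_unique_iff]
      exact hx)
    (by
      rw [linearIndependent_unique_iff]
      exact hy)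
    (by
      intro i j
      fin_cases i; fin_cases j
      simp [hA.self_eq_zero])
  exact ⟨g, hg, hgx 0⟩

theorem exists_isom_pair (hB : B.Nondegenerate) (hA : B.IsAlt) (x₁ x₂ y₁ y₂ : V)
    (hx : LinearIndependent F ![x₁, x₂]) (hy : LinearIndependent F ![y₁, y₂])
    (h : B x₁ x₂ = B y₁ y₂) :
    ∃ g : V ≃ₗ[F] V, (∀ u v, B (g u) (g v) = B u v) ∧ g x₁ = y₁ ∧ g x₂ = y₂ := by
  obtain ⟨g, hg, hgx⟩ := witt_family B hB hA 2 ![x₁, x₂] ![y₁, y₂] hx hy
    (by
      intro i j
      fin_cases i <;> fin_cases j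
      · simp [hA.self_eq_zero]
      · simpa using h
      · simp only [Fin.mk_one, Fin.isValue, Matrix.cons_val_one, Matrix.cons_val_fin_one,
          Fin.zero_eta, Matrix.cons_val_zero]
        rw [alt_swap B hA x₂ x₁, alt_swap B hA y₂ y₁, h]
      · simp [hA.self_eq_zero])
  exact ⟨g, hg, hgx 0, hgx 1⟩

/-- independence of an orthogonal pair `(x, y)` with a third vector pairing with exactly one -/
theorem pair_indep_of_form {x y z : V} (hx : x ≠ 0) (hxz : B x z = 0) (hyz : B y z ≠ 0) :
    LinearIndependent F ![x, y] := by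
  rw [LinearIndependent.pair_iff]
  intro s t hst
  have h1 : B (s • x + t • y) z = 0 := by rw [hst]; simp
  rw [map_add, LinearMap.add_apply, map_smul, map_smul, LinearMap.smul_apply, LinearMap.smul_apply,
    hxz, smul_zero, zero_add, smul_eq_mul] at h1
  have ht : t = 0 := by
    rcases mul_eq_zero.mp h1 with h | h
    · exact h
    · exact absurd h hyz
  rw [ht, zero_smul, add_zero] at hst
  rcases smul_eq_zero.mp hst with h | h
  · exact ⟨h, ht⟩
  · exact absurd h hx

end Cfsg.Agent.Lib.Helper1.TsA
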