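import Mathlib
import Cfsg.Agent.Lib.Helper5.SingGeom
import Cfsg.Agent.Lib.Helper5.MaxTS

/-!
# Existence toolkit for singular vectors in a nondegenerate quadratic space over a finite field
-/

set_option autoImplicit false
set_option maxHeartbeats 4000000
set_option linter.unusedSimpArgs false
set_option linter.unusedVariables false
set_option linter.unusedSectionVars false

namespace Cfsg.Agent.Lib.Helper1.UoA

open Module QuadraticMap
open Cfsg.Agent.Lib.Helper5.MaxTS Cfsg.Agent.Lib.Helper5.SingGeom

variable {F : Type*} [Field F] [Finite F] {V : Type*} [AddCommGroup V] [Module F V]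
  [FiniteDimensional F V] (Q : QuadraticForm F V)

theorem quad_add' (x y : V) : Q (x + y) = Q x + Q y + polar Q x y := by
  unfold polar; ring

theorem polar_self_sing {e : V} (he : Q e = 0) : polar Q e e = 0 := by
  have : polar Q e e = 2 * Q e := by
    have := QuadraticMap.polar_self Q e
    simpa using this
  rw [this, he, mul_zero]

/-- a singular vector in `W` avoiding `D`, when `W` is large -/
theorem exists_sing_avoid (W D : Submodule F V) (h : finrank F D + 3 ≤ finrank F W) :
    ∃ s ∈ W, s ∉ D ∧ Q s = 0 := by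
  obtain ⟨C, hC⟩ := Submodule.exists_isCompl D
  have h1 := Submodule.finrank_sup_add_finrank_inf_eq W C
  have h2 : finrank F D + finrank F C = finrank F V := Submodule.finrank_add_eq_of_isCompl hC
  have h3 : finrank F ↥(W ⊔ C) ≤ finrank F V := Submodule.finrank_le _
  have h4 : 3 ≤ finrank F ↥(W ⊓ C) := by omega
  obtain ⟨e, he, he0, hQe⟩ := exists_singular_in Q (W ⊓ C) h4
  refine ⟨e, he.1, ?_, hQe⟩
  intro heD
  have : e ∈ D ⊓ C := ⟨heD, he.2⟩
  rw [hC.inf_eq_bot, Submodule.mem_bot] at this
  exact he0 this

variable (hQ : (polarBilin Q).Nondegenerate)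

include hQ in
theorem orth_orth' (A : Submodule F V) : orth Q (orth Q A) = A := by
  symm
  apply Submodule.eq_of_le_of_finrank_eq
  · intro a ha
    rw [mem_orth]
    intro w hw
    rw [mem_orth] at hw
    rw [polar_comm]
    exact hw a ha
  · rw [finrank_orth Q hQ, finrank_orth Q hQ]
    have : finrank F A ≤ finrank F V := Submodule.finrank_le A
    omega

/-- a singular partner inside `W` -/
theorem exists_partner_in (W : Submodule F V) (e : V) (he : e ∈ W) (hQe : Q e = 0)
    (hne : e ∉ orth Q W) : ∃ f ∈ W, Q f = 0 ∧ polar Q e f = 1 := by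
  rw [mem_orth] at hne
  push_neg at hne
  obtain ⟨w, hw, hwe⟩ := hne
  obtain ⟨f', hf'W, h1⟩ : ∃ f' ∈ W, polar Q e f' = 1 := by
    refine ⟨(polar Q w e)⁻¹ • w, W.smul_mem _ hw, ?_⟩
    rw [polar_smul_right, smul_eq_mul, polar_comm (⇑Q) e w, inv_mul_cancel₀ hwe]
  refine ⟨f' + (-(Q f')) • e, W.add_mem hf'W (W.smul_mem _ he), ?_, ?_⟩
  · rw [quad_add', QuadraticMap.map_smul, hQe, polar_smul_right, smul_eq_mul, polar_comm, h1]
    simp
  · rw [polar_add_right, polar_smul_right, polar_self_sing Q hQe, h1]
    simp

include hQ in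
/-- prescribed inner products against a linearly independent family -/
theorem exists_prescribed {k : ℕ} (a : Fin k → V) (hind : LinearIndependent F a) (c : Fin k → F) :
    ∃ v, ∀ i, polar Q v (a i) = c i := by
  set ψ : (Fin k → F) →ₗ[F] V := Fintype.linearCombination F a with hψ
  have hker : LinearMap.ker ψ = ⊥ := by
    rw [LinearMap.ker_eq_bot]
    exact hind.fintypeLinearCombination_injective
  obtain ⟨ρ, hρ⟩ := LinearMap.exists_leftInverse_of_injective ψ hker
  set L : V →ₗ[F] F := (Fintype.linearCombination F c).comp ρ with hL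
  have hLa : ∀ i, L (a i) = c i := by
    intro i
    have h1 : a i = ψ (Pi.single i 1) := by
      rw [hψ, Fintype.linearCombination_apply_single, one_smul]
    have h2 : ρ (ψ (Pi.single i 1)) = Pi.single i 1 := by
      have := congrArg (fun g : (Fin k → F) →ₗ[F] (Fin k → F) => g (Pi.single i 1)) hρ
      simpa using this
    rw [hL, LinearMap.comp_apply, h1, h2, Fintype.linearCombination_apply_single, one_smul]
  -- represent `L` by a vector
  have hsurj : Function.Surjective (polarBilin Q : V →ₗ[F] V →ₗ[F] F) := by
    have hinj : Function.Injective (polarBilin Q : V →ₗ[F] V →ₗ[F] F) := by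
      rw [← LinearMap.ker_eq_bot]
      exact LinearMap.separatingLeft_iff_ker_eq_bot.mp hQ.1
    exact (LinearMap.injective_iff_surjective_of_finrank_eq_finrank
      (Subspace.dual_finrank_eq).symm).mp hinj
  obtain ⟨v, hv⟩ := hsurj L
  refine ⟨v, fun i => ?_⟩
  have := congrArg (fun g : V →ₗ[F] F => g (a i)) hv
  simp only [polarBilin_apply_apply] at this
  rw [this, hLa]

include hQ in
/-- a singular vector with prescribed inner products against an independent family containing a
singular vector with nonzero target -/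
theorem exists_sing_prescribed {k : ℕ} (a : Fin k → V) (hind : LinearIndependent F a)
    (c : Fin k → F) (j : Fin k) (hj : Q (a j) = 0) (hcj : c j ≠ 0)
    (hn : 2 * k + 2 ≤ finrank F V) : ∃ v, Q v = 0 ∧ ∀ i, polar Q v (a i) = c i := by
  obtain ⟨v₀, hv₀⟩ := exists_prescribed Q hQ a hind c
  set A := Submodule.span F (Set.range a) with hA
  have hAk : finrank F A = k := by rw [hA, finrank_span_eq_card hind, Fintype.card_fin]
  have hW : finrank F (orth Q A) = finrank F V - k := by rw [finrank_orth Q hQ, hAk]
  have haA : ∀ i, a i ∈ A := fun i => Submodule.subset_span ⟨i, rfl⟩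
  have hperp : ∀ x ∈ orth Q A, ∀ i, polar Q x (a i) = 0 := by
    intro x hx i
    rw [mem_orth] at hx
    rw [polar_comm]
    exact hx _ (haA i)
  by_cases hle : A ≤ orth Q A
  · refine ⟨v₀ + (-(Q v₀) / c j) • a j, ?_, ?_⟩
    · have hβ : (-(Q v₀) / c j) * c j = -(Q v₀) := div_mul_cancel₀ _ hcj
      rw [quad_add', QuadraticMap.map_smul, hj, polar_smul_right, hv₀ j]
      simp only [smul_eq_mul]
      rw [hβ, mul_zero, add_zero, add_neg_cancel]
    · intro i
      rw [polar_add_left, polar_smul_left, hv₀ i, hperp (a j) (hle (haA j)) i]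
      simp
  · have hlt : finrank F ↥(A ⊓ orth Q A) < finrank F A := by
      apply Submodule.finrank_lt_finrank_of_lt
      exact lt_of_le_of_ne inf_le_left (fun h => hle (inf_eq_left.mp h))
    obtain ⟨e, heW, heA, hQe⟩ := exists_sing_avoid Q (orth Q A) (A ⊓ orth Q A) (by omega)
    have heA' : e ∉ A := fun h => heA ⟨h, heW⟩
    have hne : e ∉ orth Q (orth Q A) := by rw [orth_orth' Q hQ]; exact heA'
    obtain ⟨f, hfW, hQf, hef⟩ := exists_partner_in Q (orth Q A) e heW hQe hne
    by_cases hvf : polar Q v₀ f = 0
    · refine ⟨v₀ + e + (-(Q v₀ + polar Q v₀ e)) • f, ?_, ?_⟩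
      · rw [quad_add', quad_add', QuadraticMap.map_smul, hQf, hQe, polar_smul_right,
          polar_add_left, hvf, hef, smul_eq_mul]
        ring
      · intro i
        rw [polar_add_left, polar_add_left, polar_smul_left, hv₀ i, hperp e heW i, hperp f hfW i]
        simp
    · refine ⟨v₀ + (-(Q v₀) / polar Q v₀ f) • f, ?_, ?_⟩
      · have hβ : (-(Q v₀) / polar Q v₀ f) * polar Q v₀ f = -(Q v₀) := div_mul_cancel₀ _ hvf
        rw [quad_add', QuadraticMap.map_smul, hQf, polar_smul_right]
        simp only [smul_eq_mul]
        rw [hβ, mul_zero, add_zero, add_neg_cancel]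
      · intro i
        rw [polar_add_left, polar_smul_left, hv₀ i, hperp f hfW i]
        simp

include hQ in
/-- induction principle: an additive predicate true on singular vectors of `orth A` is true on all
of `orth A` -/
theorem sing_induction (A : Submodule F V) (hA : 2 * finrank F A + 5 ≤ finrank F V)
    (P : V → Prop) (hadd : ∀ x y, P x → P y → P (x + y))
    (hs : ∀ s ∈ orth Q A, Q s = 0 → P s) : ∀ y ∈ orth Q A, P y := by
  intro y hy
  set A' := A ⊔ Submodule.span F {y} with hA'
  have h1 : finrank F A' ≤ finrank F A + 1 := by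
    have := Submodule.finrank_add_le_finrank_add_finrank A (Submodule.span F {y})
    have h2 : finrank F (Submodule.span F {y}) ≤ 1 := by
      have := finrank_span_le_card (R := F) ({y} : Set V)
      simpa using this
    rw [hA']
    omega
  have h2 : finrank F (orth Q A') = finrank F V - finrank F A' := finrank_orth Q hQ A'
  obtain ⟨e, heW, heA, hQe⟩ := exists_sing_avoid Q (orth Q A') A' (by omega)
  have hne : e ∉ orth Q (orth Q A') := by rw [orth_orth' Q hQ]; exact heA
  obtain ⟨f, hfW, hQf, hef⟩ := exists_partner_in Q (orth Q A') e heW hQe hne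
  have hsub : orth Q A' ≤ orth Q A := orth_anti Q le_sup_left
  have hyA' : y ∈ A' := Submodule.mem_sup_right (Submodule.mem_span_singleton_self y)
  have hye : polar Q y e = 0 := by
    rw [mem_orth] at heW; exact heW y hyA'
  have hyf : polar Q y f = 0 := by
    rw [mem_orth] at hfW; exact hfW y hyA'
  have hdec : y = (y + e + (-(Q y)) • f) + ((-1 : F) • e + (Q y) • f) := by
    rw [neg_smul, neg_smul, one_smul]; abel
  rw [hdec]
  apply hadd
  · apply hs
    · exact Submodule.add_mem _ (Submodule.add_mem _ hy (hsub heW))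
        (Submodule.smul_mem _ _ (hsub hfW))
    · rw [quad_add', quad_add', QuadraticMap.map_smul, hQf, hQe, polar_smul_right,
        polar_add_left, hyf, hef, hye, smul_eq_mul]
      ring
  · apply hadd
    · apply hs _ (Submodule.smul_mem _ _ (hsub heW))
      rw [QuadraticMap.map_smul, hQe, smul_zero]
    · apply hs _ (Submodule.smul_mem _ _ (hsub hfW))
      rw [QuadraticMap.map_smul, hQf, smul_zero]

end Cfsg.Agent.Lib.Helper1.UoA
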