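import Mathlib
import Cfsg.Agent.Lib.Helper1.UoA1

/-!
# A quadratic space with a compatible quadratic-field operator `θ`
-/

set_option autoImplicit false
set_option maxHeartbeats 4000000
set_option linter.unusedSimpArgs false
set_option linter.unusedVariables false
set_option linter.unusedSectionVars false

namespace Cfsg.Agent.Lib.Helper1.UoA

open Module QuadraticMap
open Cfsg.Agent.Lib.Helper5.MaxTS

variable {F : Type*} [Field F] {V : Type*} [AddCommGroup V] [Module F V]

theorem quad_add2 (Q : QuadraticForm F V) (x y : V) : Q (x + y) = Q x + Q y + polar Q x y := by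
  unfold polar; ring

/-- `θ` generates a quadratic field acting on `V` compatibly with `Q`. -/
structure ThetaData (Q : QuadraticForm F V) (θ : V →ₗ[F] V) (t N : F) : Prop where
  sq : ∀ v, θ (θ v) = t • θ v - N • v
  adj : ∀ u v, polar Q (θ u) v = t * polar Q u v - polar Q u (θ v)
  quad : ∀ v, Q (θ v) = N * Q v
  self : ∀ v, polar Q v (θ v) = t * Q v
  irred : ∀ (α β : F) (v : V), α • v + β • θ v = 0 → v ≠ 0 → α = 0 ∧ β = 0

/-- the norm form of the quadratic field -/
def nu (t N α β : F) : F := α ^ 2 + α * β * t + β ^ 2 * N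

section theta

variable {Q : QuadraticForm F V} {θ : V →ₗ[F] V} {t N : F} (D : ThetaData Q θ t N)
include D

theorem polar_theta_right (u v : V) : polar Q u (θ v) = t * polar Q u v - polar Q (θ u) v := by
  rw [D.adj]; ring

theorem polar_theta_theta (u v : V) : polar Q (θ u) (θ v) = N * polar Q u v := by
  rw [D.adj, D.sq, polar_sub_right, polar_smul_right, polar_smul_right, smul_eq_mul, smul_eq_mul]
  ring

theorem quad_comb (α β : F) (v : V) : Q (α • v + β • θ v) = nu t N α β * Q v := by
  rw [quad_add2, QuadraticMap.map_smul, QuadraticMap.map_smul, D.quad, polar_smul_left,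
    polar_smul_right, D.self]
  simp only [smul_eq_mul]
  unfold nu
  ring

theorem sing_comb {v : V} (hv : Q v = 0) (α β : F) : Q (α • v + β • θ v) = 0 := by
  rw [quad_comb D, hv, mul_zero]

theorem sing_theta {v : V} (hv : Q v = 0) : Q (θ v) = 0 := by rw [D.quad, hv, mul_zero]

/-- conjugate multiplication -/
theorem conj_comb (α β : F) (v : V) :
    (α + β * t) • (α • v + β • θ v) - β • θ (α • v + β • θ v) = nu t N α β • v := by
  rw [map_add, map_smul, map_smul, D.sq]
  unfold nu
  module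

theorem comb_eq_zero {α β : F} {v : V} (h : α • v + β • θ v = 0) (hv : v ≠ 0) : α = 0 ∧ β = 0 :=
  D.irred α β v h hv

theorem nu_ne_zero {α β : F} (h : α ≠ 0 ∨ β ≠ 0) (hV : ∃ v : V, v ≠ 0) : nu t N α β ≠ 0 := by
  obtain ⟨v, hv⟩ := hV
  intro h0
  have h1 := conj_comb D α β v
  rw [h0, zero_smul] at h1
  -- w := α v + β θ v ; (α + βt) w - β θ w = 0
  by_cases hw : α • v + β • θ v = 0
  · obtain ⟨ha, hb⟩ := comb_eq_zero D hw hv
    rcases h with h | h
    · exact h ha
    · exact h hb
  · have h2 : (α + β * t) • (α • v + β • θ v) + (-β) • θ (α • v + β • θ v) = 0 := by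
      rw [neg_smul, ← sub_eq_add_neg]; exact h1
    obtain ⟨ha, hb⟩ := comb_eq_zero D h2 hw
    have hb' : β = 0 := neg_eq_zero.mp hb
    rw [hb', zero_mul, add_zero] at ha
    rcases h with h | h
    · exact h ha
    · exact h hb'

theorem theta_ne_zero {v : V} (hv : v ≠ 0) : θ v ≠ 0 := by
  intro h
  have : (0 : F) • v + (1 : F) • θ v = 0 := by rw [zero_smul, one_smul, zero_add, h]
  exact one_ne_zero (comb_eq_zero D this hv).2

/-- the `K`-line spanned by `u` -/
def Kspan (θ : V →ₗ[F] V) (u : V) : Submodule F V := Submodule.span F {u, θ u}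

omit D in
theorem mem_Kspan {u x : V} : x ∈ Kspan θ u ↔ ∃ α β : F, α • u + β • θ u = x := by
  unfold Kspan
  rw [Submodule.mem_span_pair]

omit D in
theorem self_mem_Kspan (u : V) : u ∈ Kspan θ u :=
  Submodule.subset_span (Set.mem_insert _ _)

omit D in
theorem theta_mem_Kspan (u : V) : θ u ∈ Kspan θ u :=
  Submodule.subset_span (Set.mem_insert_of_mem _ rfl)

omit D in
theorem comb_mem_Kspan (u : V) (α β : F) : α • u + β • θ u ∈ Kspan θ u :=
  mem_Kspan.mpr ⟨α, β, rfl⟩

/-- `θ`-invariant submodules -/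
def ThetaInv (θ : V →ₗ[F] V) (S : Submodule F V) : Prop := ∀ x ∈ S, θ x ∈ S

theorem thetaInv_Kspan (u : V) : ThetaInv θ (Kspan θ u) := by
  intro x hx
  obtain ⟨α, β, rfl⟩ := mem_Kspan.mp hx
  rw [map_add, map_smul, map_smul, D.sq]
  have : α • θ u + β • (t • θ u - N • u) = (-(β * N)) • u + (α + β * t) • θ u := by module
  rw [this]
  exact comb_mem_Kspan u _ _

omit D in
theorem thetaInv_sup {S T : Submodule F V} (hS : ThetaInv θ S) (hT : ThetaInv θ T) :
    ThetaInv θ (S ⊔ T) := by
  intro x hx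
  obtain ⟨s, hs, t', ht, rfl⟩ := Submodule.mem_sup.mp hx
  rw [map_add]
  exact Submodule.add_mem _ (Submodule.mem_sup_left (hS s hs)) (Submodule.mem_sup_right (hT t' ht))

omit D in
theorem thetaInv_bot : ThetaInv θ (⊥ : Submodule F V) := by
  intro x hx
  rw [Submodule.mem_bot] at hx
  rw [hx, map_zero]
  exact Submodule.zero_mem _

theorem comb_not_mem {S : Submodule F V} (hS : ThetaInv θ S) {x : V} (hx : x ∉ S) {α β : F}
    (h : α ≠ 0 ∨ β ≠ 0) : α • x + β • θ x ∉ S := by
  intro hmem
  have hx0 : x ≠ 0 := by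
    rintro rfl; exact hx (Submodule.zero_mem _)
  have h1 := conj_comb D α β x
  have h2 : nu t N α β • x ∈ S := by
    rw [← h1]
    exact Submodule.sub_mem _ (Submodule.smul_mem _ _ hmem) (Submodule.smul_mem _ _ (hS _ hmem))
  have h3 := nu_ne_zero D h ⟨x, hx0⟩
  have : x = (nu t N α β)⁻¹ • (nu t N α β • x) := by rw [smul_smul, inv_mul_cancel₀ h3, one_smul]
  rw [this] at hx
  exact hx (Submodule.smul_mem _ _ h2)

theorem Kspan_le {S : Submodule F V} (hS : ThetaInv θ S) {u : V} (hu : u ∈ S) : Kspan θ u ≤ S := by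
  unfold Kspan
  rw [Submodule.span_le]
  intro x hx
  rcases hx with rfl | hx
  · exact hu
  · rw [Set.mem_singleton_iff] at hx
    rw [hx]; exact hS u hu

/-- if `w` is a nonzero `K`-multiple of `y` then `y` is a `K`-multiple of `w` -/
theorem mem_Kspan_symm {y w : V} (hw : w ∈ Kspan θ y) (hw0 : w ≠ 0) : y ∈ Kspan θ w := by
  obtain ⟨α, β, rfl⟩ := mem_Kspan.mp hw
  by_contra hy
  have hαβ : α ≠ 0 ∨ β ≠ 0 := by
    by_contra hcon
    push_neg at hcon
    apply hw0
    rw [hcon.1, hcon.2, zero_smul, zero_smul, add_zero]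
  exact comb_not_mem D (thetaInv_Kspan D _) hy hαβ (self_mem_Kspan _)

end theta

end Cfsg.Agent.Lib.Helper1.UoA
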