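import Mathlib
import Cfsg.Agent.Lib.Helper1.UoA2

/-!
# Hermitian orthogonality and independence lemmas for a `θ`-space
-/

set_option autoImplicit false
set_option maxHeartbeats 4000000
set_option linter.unusedSimpArgs false
set_option linter.unusedVariables false
set_option linter.unusedSectionVars false

namespace Cfsg.Agent.Lib.Helper1.UoA

open Module QuadraticMap
open Cfsg.Agent.Lib.Helper5.MaxTS

variable {F : Type*} [Field F] {V : Type*} [AddCommGroup V] [Module F V]

/-- hermitian orthogonality -/
def hperp (Q : QuadraticForm F V) (θ : V →ₗ[F] V) (x y : V) : Prop :=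
  polar Q x y = 0 ∧ polar Q x (θ y) = 0

section theta

variable {Q : QuadraticForm F V} {θ : V →ₗ[F] V} {t N : F} (D : ThetaData Q θ t N)
include D

theorem hperp_symm {x y : V} (h : hperp Q θ x y) : hperp Q θ y x := by
  refine ⟨by rw [polar_comm]; exact h.1, ?_⟩
  rw [polar_comm, D.adj, h.1, h.2]; ring

theorem hperp_theta_right {x y : V} (h : hperp Q θ x y) : hperp Q θ x (θ y) := by
  refine ⟨h.2, ?_⟩
  rw [D.sq, polar_sub_right, polar_smul_right, polar_smul_right, h.1, h.2]; simp

omit D in
theorem hperp_add_right {x y z : V} (h1 : hperp Q θ x y) (h2 : hperp Q θ x z) :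
    hperp Q θ x (y + z) := by
  refine ⟨by rw [polar_add_right, h1.1, h2.1, add_zero], ?_⟩
  rw [map_add, polar_add_right, h1.2, h2.2, add_zero]

omit D in
theorem hperp_smul_right {x y : V} (h : hperp Q θ x y) (c : F) : hperp Q θ x (c • y) := by
  refine ⟨by rw [polar_smul_right, h.1, smul_zero], ?_⟩
  rw [map_smul, polar_smul_right, h.2, smul_zero]

omit D in
theorem hperp_zero_right (x : V) : hperp Q θ x 0 := by
  refine ⟨by simp [polar], ?_⟩
  rw [map_zero]; simp [polar]

theorem hperp_comb_right {x y : V} (h : hperp Q θ x y) (α β : F) :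
    hperp Q θ x (α • y + β • θ y) :=
  hperp_add_right (hperp_smul_right h α) (hperp_smul_right (hperp_theta_right D h) β)

theorem hperp_theta_left {x y : V} (h : hperp Q θ x y) : hperp Q θ (θ x) y :=
  hperp_symm D (hperp_theta_right D (hperp_symm D h))

theorem hperp_add_left {x y z : V} (h1 : hperp Q θ x z) (h2 : hperp Q θ y z) :
    hperp Q θ (x + y) z :=
  hperp_symm D (hperp_add_right (hperp_symm D h1) (hperp_symm D h2))

theorem hperp_smul_left {x y : V} (h : hperp Q θ x y) (c : F) : hperp Q θ (c • x) y :=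
  hperp_symm D (hperp_smul_right (hperp_symm D h) c)

theorem hperp_comb_left {x y : V} (h : hperp Q θ x y) (α β : F) :
    hperp Q θ (α • x + β • θ x) y :=
  hperp_symm D (hperp_comb_right D (hperp_symm D h) α β)

theorem hperp_self {u : V} (hu : Q u = 0) : hperp Q θ u u := by
  refine ⟨?_, by rw [D.self, hu, mul_zero]⟩
  have : polar Q u u = 2 * Q u := by
    have := QuadraticMap.polar_self Q u
    simpa using this
  rw [this, hu, mul_zero]

theorem hperp_of_mem_Kspan {x u y : V} (h : hperp Q θ x u) (hy : y ∈ Kspan θ u) :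
    hperp Q θ x y := by
  obtain ⟨α, β, rfl⟩ := mem_Kspan.mp hy
  exact hperp_comb_right D h α β

theorem hperp_of_comb {x y : V} {α β : F} (hab : α ≠ 0 ∨ β ≠ 0) (hy : y ≠ 0)
    (h : hperp Q θ x (α • y + β • θ y)) : hperp Q θ x y := by
  have h1 := hperp_comb_right D h (α + β * t) (-β)
  rw [neg_smul, ← sub_eq_add_neg, conj_comb D] at h1
  have h3 := nu_ne_zero D hab ⟨y, hy⟩
  have h4 := hperp_smul_right h1 (nu t N α β)⁻¹
  rwa [smul_smul, inv_mul_cancel₀ h3, one_smul] at h4

/-- the hermitian perp of a vector -/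
def Uperp (Q : QuadraticForm F V) (θ : V →ₗ[F] V) (u : V) : Submodule F V := orth Q (Kspan θ u)

theorem mem_Uperp {u y : V} : y ∈ Uperp Q θ u ↔ hperp Q θ y u := by
  unfold Uperp
  rw [mem_orth]
  constructor
  · intro h
    refine ⟨?_, ?_⟩
    · rw [polar_comm]; exact h u (self_mem_Kspan u)
    · rw [polar_comm]; exact h _ (theta_mem_Kspan u)
  · intro h w hw
    rw [polar_comm]
    exact (hperp_of_mem_Kspan D h hw).1

omit D in
theorem finrank_Kspan_le [FiniteDimensional F V] (u : V) : finrank F (Kspan θ u) ≤ 2 := by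
  classical
  unfold Kspan
  have := finrank_span_le_card (R := F) ({u, θ u} : Set V)
  have h2 : ({u, θ u} : Set V).toFinset.card ≤ 2 := by
    rw [Set.toFinset_insert, Set.toFinset_singleton]
    exact Finset.card_insert_le _ _ |>.trans (by simp)
  exact this.trans h2

end theta

section indep

variable {Q : QuadraticForm F V} {θ : V →ₗ[F] V} {t N : F} (D : ThetaData Q θ t N)

theorem li_cons1 {k : ℕ} {a : Fin k → V} (ha : LinearIndependent F a) {p : V}
    (hp : p ∉ Submodule.span F (Set.range a)) : LinearIndependent F (Matrix.vecCons p a) :=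
  LinearIndependent.finCons ha hp

theorem span_cons1 {k : ℕ} (a : Fin k → V) (p : V) :
    Submodule.span F (Set.range (Matrix.vecCons p a)) =
      Submodule.span F {p} ⊔ Submodule.span F (Set.range a) := by
  rw [Matrix.range_cons, Submodule.span_union]

theorem span_cons2 {k : ℕ} (a : Fin k → V) (y : V) :
    Submodule.span F (Set.range (Matrix.vecCons y (Matrix.vecCons (θ y) a))) =
      Kspan θ y ⊔ Submodule.span F (Set.range a) := by
  rw [Matrix.range_cons, Matrix.range_cons, ← Set.union_assoc, Submodule.span_union]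
  rfl

include D in
theorem li_cons2 {k : ℕ} {a : Fin k → V} (ha : LinearIndependent F a)
    (hinv : ThetaInv θ (Submodule.span F (Set.range a))) {y : V}
    (hy : y ∉ Submodule.span F (Set.range a)) :
    LinearIndependent F (Matrix.vecCons y (Matrix.vecCons (θ y) a)) := by
  have h1 : θ y ∉ Submodule.span F (Set.range a) := by
    have := comb_not_mem D hinv hy (α := 0) (β := 1) (Or.inr one_ne_zero)
    rwa [zero_smul, one_smul, zero_add] at this
  have h2 : LinearIndependent F (Matrix.vecCons (θ y) a) := LinearIndependent.finCons ha h1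
  apply LinearIndependent.finCons h2
  rw [span_cons1]
  intro hmem
  obtain ⟨s, hs, r, hr, hsum⟩ := Submodule.mem_sup.mp hmem
  obtain ⟨b, rfl⟩ := Submodule.mem_span_singleton.mp hs
  have : (1 : F) • y + (-b) • θ y ∈ Submodule.span F (Set.range a) := by
    have h3 : r = y - b • θ y := eq_sub_of_add_eq' hsum
    have : (1 : F) • y + (-b) • θ y = y - b • θ y := by module
    rw [this, ← h3]; exact hr
  exact comb_not_mem D hinv hy (Or.inl one_ne_zero) this

omit [Module F V] in
theorem span_range_empty' [Module F V] (a : Fin 0 → V) :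
    Submodule.span F (Set.range a) = ⊥ := by
  rw [Matrix.range_empty, Submodule.span_empty]

include D in
theorem li2 {u : V} (hu : u ≠ 0) : LinearIndependent F ![u, θ u] := by
  apply li_cons2 D (linearIndependent_empty_type)
  · rw [span_range_empty']; exact thetaInv_bot
  · rw [span_range_empty', Submodule.mem_bot]; exact hu

theorem span2 (u : V) : Submodule.span F (Set.range ![u, θ u]) = Kspan θ u := by
  rw [span_cons2, span_range_empty', sup_bot_eq]

include D in
theorem li4 {u w : V} (hu : u ≠ 0) (hw : w ∉ Kspan θ u) :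
    LinearIndependent F ![w, θ w, u, θ u] := by
  apply li_cons2 D (li2 D hu)
  · rw [span2]; exact thetaInv_Kspan D u
  · rw [span2]; exact hw

theorem span4 (u w : V) :
    Submodule.span F (Set.range ![w, θ w, u, θ u]) = Kspan θ w ⊔ Kspan θ u := by
  rw [span_cons2, span2]

include D in
theorem li6 {u w y : V} (hu : u ≠ 0) (hw : w ∉ Kspan θ u) (hy : y ∉ Kspan θ w ⊔ Kspan θ u) :
    LinearIndependent F ![y, θ y, w, θ w, u, θ u] := by
  apply li_cons2 D (li4 D hu hw)
  · rw [span4]; exact thetaInv_sup (thetaInv_Kspan D w) (thetaInv_Kspan D u)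
  · rw [span4]; exact hy

include D in
theorem li3 {u y : V} (hu : u ≠ 0) (hy : y ∉ Kspan θ u) : LinearIndependent F ![y, u, θ u] := by
  apply li_cons1 (li2 D hu)
  rw [span2]; exact hy

include D in
theorem li5 {u z p : V} (hu : u ≠ 0) (hz : z ∉ Kspan θ u) (hp : p ∉ Kspan θ z ⊔ Kspan θ u) :
    LinearIndependent F ![p, z, θ z, u, θ u] := by
  apply li_cons1 (li4 D hu hz)
  rw [span4]; exact hp

end indep

end Cfsg.Agent.Lib.Helper1.UoA
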