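import Mathlib
import Cfsg.Agent.Lib.Helper1.UoA3

/-!
# The geometric core: propagation of "Eichler centres" in a `θ`-space
-/

set_option autoImplicit false
set_option maxHeartbeats 4000000
set_option linter.unusedSimpArgs false
set_option linter.unusedVariables false
set_option linter.unusedSectionVars false

namespace Cfsg.Agent.Lib.Helper1.UoA

open Module QuadraticMap
open Cfsg.Agent.Lib.Helper5.MaxTS

variable {F : Type*} [Field F] [Finite F] {V : Type*} [AddCommGroup V] [Module F V]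
  [FiniteDimensional F V]

/-- axioms for the relation `E u z` ("the Eichler element with centre `u` and vector `z` lies in
the overgroup") -/
structure EAx (Q : QuadraticForm F V) (θ : V →ₗ[F] V) (E : V → V → Prop) : Prop where
  sing : ∀ u z, E u z → Q u = 0 ∧ polar Q u z = 0
  add : ∀ u z z', E u z → E u z' → E u (z + z')
  neg : ∀ u z, E u z → E u (-z)
  kline : ∀ u, Q u = 0 → ∀ α β : F, E u (α • u + β • θ u)
  tv : ∀ u z w (c : F), E u z → Q w = 0 → hperp Q θ w u →
    E u (c • (polar Q w z • θ w - polar Q (θ w) z • w))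
  symm : ∀ u z, E u z → Q z = 0 → E z u
  conj : ∀ y w u z, E y w → E u z → polar Q y u = 0 → polar Q w u = 0 →
    E u (z + polar Q y z • w - (polar Q w z + Q w * polar Q y z) • y)

variable {Q : QuadraticForm F V} {θ : V →ₗ[F] V} {t N : F} {E : V → V → Prop}
  (hQ : (polarBilin Q).Nondegenerate) (D : ThetaData Q θ t N) (A : EAx Q θ E)
  (hn : 14 ≤ finrank F V)

include A in
theorem E_sub {u z z' : V} (h1 : E u z) (h2 : E u z') : E u (z - z') := by
  rw [sub_eq_add_neg]; exact A.add _ _ _ h1 (A.neg _ _ h2)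

include D A in
/-- the closure step -/
theorem cl {u w' v' : V} (hw' : ∀ a : F, E u (a • w')) (hv' : Q v' = 0)
    (hvu : hperp Q θ v' u) (h0 : polar Q v' w' = 0) (h1 : polar Q (θ v') w' ≠ 0) :
    ∀ c : F, E u (c • v') := by
  intro c
  have h2 := A.tv u w' v' (-(c / polar Q (θ v') w')) (by simpa using hw' 1) hv' hvu
  rw [h0, zero_smul, zero_sub, smul_neg, neg_smul, neg_neg, smul_smul,
    div_mul_cancel₀ _ h1] at h2
  exact h2

include D in
theorem N_ne_zero (hV : ∃ v : V, v ≠ 0) : N ≠ 0 := by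
  have := nu_ne_zero D (α := 0) (β := 1) (Or.inr one_ne_zero) hV
  unfold nu at this
  simpa using this

include hQ D A hn in
/-- from one `F`-point to the whole `K`-line -/
theorem kl {u w' y : V} (hu : u ≠ 0) (hw'S : Q w' = 0) (hw'u : hperp Q θ w' u)
    (hw'E : ∀ a : F, E u (a • w')) (hy : Q y = 0) (hyu : hperp Q θ y u)
    (hyw : ¬ hperp Q θ y w') : ∀ α β : F, E u (α • y + β • θ y) := by
  have hy0 : y ≠ 0 := by
    rintro rfl
    apply hyw
    exact hperp_symm D (hperp_zero_right w')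
  set β₀ := polar Q y w' with hβ₀
  set β₁ := polar Q (θ y) w' with hβ₁
  have hne : β₁ ≠ 0 ∨ -β₀ ≠ 0 := by
    by_contra hcon
    push_neg at hcon
    apply hyw
    refine ⟨?_, ?_⟩
    · rw [← hβ₀]; exact neg_eq_zero.mp hcon.2
    · rw [polar_theta_right D, ← hβ₀, ← hβ₁, hcon.1, neg_eq_zero.mp hcon.2]; ring
  set y₀ := β₁ • y + (-β₀) • θ y with hy₀
  have hQy₀ : Q y₀ = 0 := sing_comb D hy _ _
  have hy₀u : hperp Q θ y₀ u := hperp_comb_left D hyu _ _
  have hy₀w : polar Q y₀ w' = 0 := by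
    rw [hy₀, polar_add_left, polar_smul_left, polar_smul_left, ← hβ₀, ← hβ₁]
    simp only [smul_eq_mul]; ring
  have hθy₀w : polar Q (θ y₀) w' = nu t N β₁ (-β₀) := by
    rw [hy₀, map_add, map_smul, map_smul, D.sq, polar_add_left, polar_smul_left, polar_smul_left,
      polar_sub_left, polar_smul_left, polar_smul_left, ← hβ₀, ← hβ₁]
    simp only [smul_eq_mul]; unfold nu; ring
  have hnu : nu t N β₁ (-β₀) ≠ 0 := nu_ne_zero D hne ⟨y, hy0⟩
  have hy₀E : ∀ c : F, E u (c • y₀) :=
    cl D A hw'E hQy₀ hy₀u hy₀w (by rw [hθy₀w]; exact hnu)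
  have hy₀0 : y₀ ≠ 0 := by
    intro h0
    have := comb_eq_zero D h0 hy0
    rcases hne with h | h
    · exact h this.1
    · exact h this.2
  -- independence
  have hw'K : w' ∉ Kspan θ u := by
    intro hmem
    apply hyw
    exact hperp_of_mem_Kspan D hyu hmem
  have hy₀K : y₀ ∉ Kspan θ w' ⊔ Kspan θ u := by
    intro hmem
    obtain ⟨s, hs, r, hr, hsum⟩ := Submodule.mem_sup.mp hmem
    have h1 : hperp Q θ s w' := by
      obtain ⟨a, b, rfl⟩ := mem_Kspan.mp hs
      exact hperp_comb_left D (hperp_self D hw'S) a b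
    have h2 : hperp Q θ r w' := by
      obtain ⟨a, b, rfl⟩ := mem_Kspan.mp hr
      exact hperp_comb_left D (hperp_symm D hw'u) a b
    have h3 : hperp Q θ y₀ w' := by
      rw [← hsum]; exact hperp_add_left D h1 h2
    have h4 := (hperp_theta_left D h3).1
    rw [hθy₀w] at h4
    exact hnu h4
  have hli := li6 D hu hw'K hy₀K
  obtain ⟨v', hQv', hv'⟩ := exists_sing_prescribed Q hQ ![y₀, θ y₀, w', θ w', u, θ u] hli
    ![1, 0, 0, 1, 0, 0] 0 hQy₀ one_ne_zero (by omega)
  have e0 : polar Q v' y₀ = 1 := hv' 0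
  have e1 : polar Q v' (θ y₀) = 0 := hv' 1
  have e2 : polar Q v' w' = 0 := hv' 2
  have e3 : polar Q v' (θ w') = 1 := hv' 3
  have e4 : polar Q v' u = 0 := hv' 4
  have e5 : polar Q v' (θ u) = 0 := hv' 5
  have hv'u : hperp Q θ v' u := ⟨e4, e5⟩
  have hv'E : ∀ c : F, E u (c • v') := by
    apply cl D A hw'E hQv' hv'u e2
    rw [D.adj, e2, e3]; simp
  have hN := N_ne_zero D ⟨y, hy0⟩
  have hθy₀E : ∀ c : F, E u (c • θ y₀) := by
    apply cl D A hv'E (sing_theta D hQy₀) (hperp_theta_left D hy₀u)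
    · rw [polar_comm]; exact e1
    · rw [D.sq, polar_sub_left, polar_smul_left, polar_smul_left, polar_comm (⇑Q) (θ y₀) v',
        polar_comm (⇑Q) y₀ v', e0, e1]
      simpa using hN
  -- conclude
  have hyK : y ∈ Kspan θ y₀ := mem_Kspan_symm D (comb_mem_Kspan y _ _) hy₀0
  intro α β
  have hmem : α • y + β • θ y ∈ Kspan θ y₀ :=
    Kspan_le D (thetaInv_Kspan D y₀) hyK (comb_mem_Kspan y α β)
  obtain ⟨a, b, hab⟩ := mem_Kspan.mp hmem
  rw [← hab]
  exact A.add _ _ _ (hy₀E a) (hθy₀E b)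

include hQ D A hn in
/-- all singular vectors of the hermitian perp -/
theorem all_sing {u w' : V} (hu : u ≠ 0) (hw'S : Q w' = 0) (hw'u : hperp Q θ w' u)
    (hw'E : ∀ a : F, E u (a • w')) (hw'K : w' ∉ Kspan θ u) :
    ∀ y, Q y = 0 → hperp Q θ y u → E u y := by
  intro y hy hyu
  have hQu : Q u = 0 := (A.sing _ _ (hw'E 0)).1
  by_cases hyw : hperp Q θ y w'
  · by_cases hyK : y ∈ Kspan θ u
    · obtain ⟨a, b, rfl⟩ := mem_Kspan.mp hyK
      exact A.kline u hQu a b
    · -- find w₂
      have hw'0 : w' ≠ 0 := by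
        rintro rfl; exact hw'K (Submodule.zero_mem _)
      have hy0 : y ≠ 0 := by
        rintro rfl; exact hyK (Submodule.zero_mem _)
      obtain ⟨w₂, hQw₂, hw₂u, hw₂w', hyw₂⟩ : ∃ w₂, Q w₂ = 0 ∧ hperp Q θ w₂ u ∧
          ¬ hperp Q θ w₂ w' ∧ ¬ hperp Q θ y w₂ := by
        by_cases hyS : y ∈ Kspan θ w' ⊔ Kspan θ u
        · have hli := li4 D hu hw'K
          obtain ⟨w₂, hQw₂, hv⟩ := exists_sing_prescribed Q hQ ![w', θ w', u, θ u] hli
            ![1, 0, 0, 0] 0 hw'S one_ne_zero (by omega)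
          have e0 : polar Q w₂ w' = 1 := hv 0
          have e1 : polar Q w₂ (θ w') = 0 := hv 1
          have e2 : polar Q w₂ u = 0 := hv 2
          have e3 : polar Q w₂ (θ u) = 0 := hv 3
          have hw₂u : hperp Q θ w₂ u := ⟨e2, e3⟩
          refine ⟨w₂, hQw₂, hw₂u, ?_, ?_⟩
          · intro h; rw [h.1] at e0; exact zero_ne_one e0
          · intro h
            obtain ⟨s, hs, r, hr, hsum⟩ := Submodule.mem_sup.mp hyS
            obtain ⟨a, b, rfl⟩ := mem_Kspan.mp hs
            have hab : a ≠ 0 ∨ b ≠ 0 := by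
              by_contra hcon
              push_neg at hcon
              apply hyK
              rw [← hsum, hcon.1, hcon.2, zero_smul, zero_smul, zero_add, zero_add]
              exact hr
            have h1 : hperp Q θ w₂ r := hperp_of_mem_Kspan D hw₂u hr
            have h2 : hperp Q θ w₂ y := hperp_symm D h
            have h3 : hperp Q θ w₂ (a • w' + b • θ w') := by
              have : a • w' + b • θ w' = y + (-1 : F) • r := by rw [← hsum]; module
              rw [this]
              exact hperp_add_right h2 (hperp_smul_right h1 _)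
            have h4 := hperp_of_comb D hab hw'0 h3
            rw [h4.1] at e0; exact zero_ne_one e0
        · have hli := li6 D hu hw'K hyS
          obtain ⟨w₂, hQw₂, hv⟩ := exists_sing_prescribed Q hQ ![y, θ y, w', θ w', u, θ u] hli
            ![1, 0, 1, 0, 0, 0] 0 hy one_ne_zero (by omega)
          have e0 : polar Q w₂ y = 1 := hv 0
          have e2 : polar Q w₂ w' = 1 := hv 2
          have e4 : polar Q w₂ u = 0 := hv 4
          have e5 : polar Q w₂ (θ u) = 0 := hv 5
          refine ⟨w₂, hQw₂, ⟨e4, e5⟩, ?_, ?_⟩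
          · intro h; rw [h.1] at e2; exact zero_ne_one e2
          · intro h
            have := h.1
            rw [polar_comm, e0] at this
            exact one_ne_zero this
      have h1 := kl hQ D A hn hu hw'S hw'u hw'E hQw₂ hw₂u hw₂w'
      have hw₂E : ∀ a : F, E u (a • w₂) := by
        intro a
        have := h1 a 0
        rwa [zero_smul, add_zero] at this
      have h2 := kl hQ D A hn hu hQw₂ hw₂u hw₂E hy hyu hyw₂ 1 0
      rwa [one_smul, zero_smul, add_zero] at h2
  · have h2 := kl hQ D A hn hu hw'S hw'u hw'E hy hyu hyw 1 0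
    rwa [one_smul, zero_smul, add_zero] at h2

/-- `u` is good if every vector of its hermitian perp is in `E u` -/
def Good (Q : QuadraticForm F V) (θ : V →ₗ[F] V) (E : V → V → Prop) (u : V) : Prop :=
  ∀ y, hperp Q θ y u → E u y

include hQ D in
theorem finrank_Uperp_ge (u : V) : finrank F V ≤ finrank F (Uperp Q θ u) + 2 := by
  unfold Uperp
  rw [finrank_orth Q hQ]
  have := finrank_Kspan_le (θ := θ) u
  omega

omit [Finite F] in
include D in
theorem finrank_Ksup_le (u w : V) : finrank F ↥(Kspan θ u ⊔ Kspan θ w) ≤ 4 := by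
  have := Submodule.finrank_add_le_finrank_add_finrank (Kspan θ u) (Kspan θ w)
  have h1 := finrank_Kspan_le (θ := θ) u
  have h2 := finrank_Kspan_le (θ := θ) w
  omega

include hQ D A hn in
theorem good_of {u z : V} (hu : u ≠ 0) (hE : E u z) (hz : Q z = 0) (hzK : z ∉ Kspan θ u) :
    Good Q θ E u := by
  have hQu : Q u = 0 := (A.sing _ _ hE).1
  have huz : polar Q u z = 0 := (A.sing _ _ hE).2
  -- an auxiliary vector p
  obtain ⟨p, hpU, hpK, -⟩ := exists_sing_avoid Q (Uperp Q θ u) (Kspan θ z ⊔ Kspan θ u) (by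
    have := finrank_Uperp_ge hQ D u
    have := finrank_Ksup_le D z u
    omega)
  have hpu : hperp Q θ p u := (mem_Uperp D).mp hpU
  have hli := li5 D hu hzK hpK
  obtain ⟨w', hQw', hv⟩ := exists_sing_prescribed Q hQ ![p, z, θ z, u, θ u] hli
    ![1, 0, 1, 0, 0] 2 (sing_theta D hz) one_ne_zero (by omega)
  have e0 : polar Q w' p = 1 := hv 0
  have e1 : polar Q w' z = 0 := hv 1
  have e2 : polar Q w' (θ z) = 1 := hv 2
  have e3 : polar Q w' u = 0 := hv 3
  have e4 : polar Q w' (θ u) = 0 := hv 4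
  have hw'u : hperp Q θ w' u := ⟨e3, e4⟩
  have hw'K : w' ∉ Kspan θ u := by
    intro hmem
    have := (hperp_of_mem_Kspan D hpu hmem).1
    rw [polar_comm, e0] at this
    exact one_ne_zero this
  have hw'E : ∀ a : F, E u (a • w') := by
    intro a
    have h1 := A.tv u z w' a hE hQw' hw'u
    rw [e1, zero_smul, zero_sub, D.adj, e1, e2] at h1
    simpa using h1
  have hall := all_sing hQ D A hn hu hQw' hw'u hw'E hw'K
  intro y hyu
  have hyU : y ∈ orth Q (Kspan θ u) := (mem_Uperp D).mpr hyu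
  refine sing_induction Q hQ (Kspan θ u) (by
    have := finrank_Kspan_le (θ := θ) u
    omega) (fun y => E u y) (fun x y hx hy => A.add _ _ _ hx hy) ?_ y hyU
  intro s hs hQs
  exact hall s hQs ((mem_Uperp D).mp hs)

include hQ D A hn in
theorem good_step {x y : V} (hx : x ≠ 0) (hg : Good Q θ E x) (hy : Q y = 0)
    (hyx : hperp Q θ y x) (hyK : y ∉ Kspan θ x) : Good Q θ E y := by
  have h1 : E x y := hg y hyx
  have h2 : E y x := A.symm _ _ h1 hy
  have hQx : Q x = 0 := (A.sing _ _ h1).1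
  have hy0 : y ≠ 0 := by
    rintro rfl; exact hyK (Submodule.zero_mem _)
  apply good_of hQ D A hn hy0 h2 hQx
  intro hmem
  exact hyK (mem_Kspan_symm D hmem hx)

include hQ D in
theorem finrank_Uperp2_ge (u w : V) :
    finrank F V ≤ finrank F ↥(orth Q (Kspan θ u ⊔ Kspan θ w)) + 4 := by
  rw [finrank_orth Q hQ]
  have := finrank_Ksup_le D u w
  omega

omit [Finite F] [FiniteDimensional F V] in
include D in
theorem mem_orth_sup {u w s : V} (hs : s ∈ orth Q (Kspan θ u ⊔ Kspan θ w)) :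
    hperp Q θ s u ∧ hperp Q θ s w := by
  rw [orth_sup] at hs
  exact ⟨(mem_Uperp D).mp hs.1, (mem_Uperp D).mp hs.2⟩

include hQ D A hn in
theorem good_all {x₀ : V} (hx₀ : x₀ ≠ 0) (hQx₀ : Q x₀ = 0) (hg : Good Q θ E x₀) :
    ∀ u, u ≠ 0 → Q u = 0 → Good Q θ E u := by
  intro u hu hQu
  obtain ⟨s, hsW, hsD, hQs⟩ := exists_sing_avoid Q (orth Q (Kspan θ x₀ ⊔ Kspan θ u))
    (Kspan θ x₀ ⊔ Kspan θ u) (by
      have := finrank_Uperp2_ge hQ D x₀ u
      have := finrank_Ksup_le D x₀ u
      omega)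
  obtain ⟨hsx, hsu⟩ := mem_orth_sup D hsW
  have hsK : s ∉ Kspan θ x₀ := fun h => hsD (Submodule.mem_sup_left h)
  have hgs := good_step hQ D A hn hx₀ hg hQs hsx hsK
  have hs0 : s ≠ 0 := by
    rintro rfl; exact hsK (Submodule.zero_mem _)
  apply good_step hQ D A hn hs0 hgs hQu (hperp_symm D hsu)
  intro hmem
  exact hsD (Submodule.mem_sup_right (mem_Kspan_symm D hmem hu))

include hQ D A hn in
theorem full (hgood : ∀ u, u ≠ 0 → Q u = 0 → Good Q θ E u) {u : V} (hu : u ≠ 0) (hQu : Q u = 0) :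
    ∀ z, polar Q u z = 0 → E u z := by
  obtain ⟨w, hQw, hv⟩ := exists_sing_prescribed Q hQ ![u, θ u] (li2 D hu) ![0, 1] 1
    (sing_theta D hQu) one_ne_zero (by omega)
  have e0 : polar Q w u = 0 := hv 0
  have e1 : polar Q w (θ u) = 1 := hv 1
  obtain ⟨y, hyW, hyD, hQy⟩ := exists_sing_avoid Q (orth Q (Kspan θ u ⊔ Kspan θ w))
    (Kspan θ u) (by
      have := finrank_Uperp2_ge hQ D u w
      have := finrank_Kspan_le (θ := θ) u
      omega)
  obtain ⟨hyu, hyw⟩ := mem_orth_sup D hyW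
  have hy0 : y ≠ 0 := by
    rintro rfl; exact hyD (Submodule.zero_mem _)
  obtain ⟨z₁, hz₁⟩ := exists_prescribed Q hQ ![y, u, θ u] (li3 D hu hyD) ![1, 0, 0]
  have f0 : polar Q z₁ y = 1 := hz₁ 0
  have f1 : polar Q z₁ u = 0 := hz₁ 1
  have f2 : polar Q z₁ (θ u) = 0 := hz₁ 2
  have hz₁u : hperp Q θ z₁ u := ⟨f1, f2⟩
  have hEyw : E y w := hgood y hy0 hQy w (hperp_symm D hyw)
  have hgu := hgood u hu hQu
  have hwE : ∀ c : F, E u (c • w) := by
    intro c
    have h1 : E u (c • z₁) := hgu _ (hperp_smul_left D hz₁u c)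
    have h2 := A.conj y w u (c • z₁) hEyw h1 hyu.1 e0
    rw [hQw, zero_mul, add_zero, polar_smul_right, polar_smul_right, polar_comm (⇑Q) y z₁, f0,
      smul_eq_mul, mul_one] at h2
    have h3 : E u ((c • polar Q w z₁) • y) := hgu _ (hperp_smul_left D hyu _)
    have h4 := E_sub A (A.add _ _ _ h2 h3) h1
    have : c • z₁ + c • w - (c • polar (⇑Q) w z₁) • y + (c • polar (⇑Q) w z₁) • y - c • z₁
        = c • w := by abel
    rwa [this] at h4
  intro z huz
  set c := polar Q z (θ u) with hc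
  have hz₀ : hperp Q θ (z - c • w) u := by
    refine ⟨?_, ?_⟩
    · rw [polar_sub_left, polar_smul_left, e0, polar_comm, huz]; simp
    · rw [polar_sub_left, polar_smul_left, e1, ← hc]; simp
  have h1 : E u (z - c • w) := hgu _ hz₀
  have h2 := A.add _ _ _ h1 (hwE c)
  rwa [sub_add_cancel] at h2

include hQ D A hn in
/-- The geometric core. -/
theorem geo_main (hstart : ∃ x z, x ≠ 0 ∧ E x z ∧ Q z = 0 ∧ z ∉ Kspan θ x) :
    ∀ u z, u ≠ 0 → Q u = 0 → polar Q u z = 0 → E u z := by
  obtain ⟨x, z, hx, hE, hz, hzK⟩ := hstart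
  have hgx := good_of hQ D A hn hx hE hz hzK
  have hQx : Q x = 0 := (A.sing _ _ hE).1
  have hall := good_all hQ D A hn hx hQx hgx
  intro u z hu hQu huz
  exact full hQ D A hn hall hu hQu z huz

end Cfsg.Agent.Lib.Helper1.UoA
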