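import Mathlib
import Cfsg.Prelude
import Cfsg.Agent.Lib.Helper1.UoA4

/-!
# Extracting the operator `θ` from a quadratic field subalgebra `K` (orthogonal case)
-/

set_option autoImplicit false
set_option maxHeartbeats 4000000
set_option linter.unusedSimpArgs false
set_option linter.unusedVariables false
set_option linter.unusedSectionVars false

namespace Cfsg.Agent.Lib.Helper1.UoA

open Module QuadraticMap Matrix
open Cfsg

variable {ι : Type} [Fintype ι] [DecidableEq ι] {F : Type*} [Field F]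

/-- the datum attached to `K` -/
structure KDatum (Q : QuadraticForm F (ι → F)) (K : Subalgebra F (Matrix ι ι F))
    (θ : Matrix ι ι F) (t N : F) : Prop where
  mem : θ ∈ K
  char : ∀ k : Matrix ι ι F, k ∈ K ↔ ∃ a b : F, k = a • (1 : Matrix ι ι F) + b • θ
  data : ThetaData Q (Matrix.toLin' θ) t N

theorem exists_polar_ne_zero [Nonempty ι] (Q : QuadraticForm F (ι → F))
    (hQ : (polarBilin Q).Nondegenerate) : ∃ u v : ι → F, polar ⇑Q u v ≠ 0 := by
  obtain ⟨i⟩ := ‹Nonempty ι›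
  have hu : (Pi.single i (1 : F) : ι → F) ≠ 0 := by
    intro h
    have := congrFun h i
    simp at this
  by_contra hcon
  push Not at hcon
  apply hu
  apply hQ.1
  intro x
  exact hcon _ x

theorem exists_kdatum [Nonempty ι] (Q : QuadraticForm F (ι → F))
    (hQ : (polarBilin Q).Nondegenerate) (K : Subalgebra F (Matrix ι ι F))
    (hK : Geo.IsFieldSubalgebra 2 K)
    (hac : Geo.IsAdjointClosedFor (polar ⇑Q) K)
    (hnsa : ¬ Geo.IsSelfAdjointFor (polar ⇑Q) K)
    (hsc : ∀ k ∈ K, ∃ c : F, ∀ v, Q (Matrix.mulVec k v) = c * Q v) :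
    ∃ (θ : Matrix ι ι F) (t N : F), KDatum Q K θ t N := by
  unfold Geo.IsSelfAdjointFor at hnsa
  push Not at hnsa
  obtain ⟨θ, hθK, u₀, v₀, hne⟩ := hnsa
  obtain ⟨θ', hθ'K, hadj⟩ := hac θ hθK
  have hadj' : ∀ u v : ι → F, polar ⇑Q (θ' *ᵥ u) v = polar ⇑Q u (θ *ᵥ v) := by
    intro u v
    rw [polar_comm, ← hadj v u, polar_comm]
  have hnscal : ∀ c : F, θ ≠ c • (1 : Matrix ι ι F) := by
    intro c hc
    apply hne
    rw [hc, Matrix.smul_mulVec, Matrix.one_mulVec, Matrix.smul_mulVec, Matrix.one_mulVec,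
      polar_smul_left, polar_smul_right]
  have hone : (1 : Matrix ι ι F) ≠ 0 := one_ne_zero
  have hli : LinearIndependent F ![(1 : Matrix ι ι F), θ] := by
    rw [LinearIndependent.pair_iff]
    intro s r hst
    by_cases ht : r = 0
    · rw [ht, zero_smul, add_zero] at hst
      exact ⟨(smul_eq_zero.mp hst).resolve_right hone, ht⟩
    · exfalso
      apply hnscal (-(r⁻¹ * s))
      have e1 : r • θ = -(s • (1 : Matrix ι ι F)) := by
        linear_combination (norm := module) hst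
      have e2 : θ = r⁻¹ • (r • θ) := by rw [smul_smul, inv_mul_cancel₀ ht, one_smul]
      rw [e2, e1]
      module
  have hS : Submodule.span F {(1 : Matrix ι ι F), θ} = Subalgebra.toSubmodule K := by
    apply Submodule.eq_of_le_of_finrank_eq
    · rw [Submodule.span_le]
      intro x hx
      rcases hx with hx | hx
      · rw [hx]; exact K.one_mem
      · rw [Set.mem_singleton_iff.mp hx]; exact hθK
    · rw [Subalgebra.finrank_toSubmodule, hK.finrank_eq]
      have := finrank_span_eq_card hli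
      rw [Fintype.card_fin] at this
      have hr : Set.range ![(1 : Matrix ι ι F), θ] = {1, θ} := by simp [Set.pair_comm]
      rw [hr] at this
      exact this
  have hchar : ∀ x : Matrix ι ι F, x ∈ K ↔ ∃ a b : F, x = a • (1 : Matrix ι ι F) + b • θ := by
    intro x
    rw [← Subalgebra.mem_toSubmodule, ← hS, Submodule.mem_span_pair]
    constructor
    · rintro ⟨a, b, h⟩; exact ⟨a, b, h.symm⟩
    · rintro ⟨a, b, h⟩; exact ⟨a, b, h.symm⟩
  -- self-adjoint elements are scalars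
  have hsa : ∀ s ∈ K, (∀ u v : ι → F, polar ⇑Q (s *ᵥ u) v = polar ⇑Q u (s *ᵥ v)) →
      ∃ c : F, s = c • (1 : Matrix ι ι F) := by
    intro s hs h
    obtain ⟨a, b, rfl⟩ := (hchar s).mp hs
    have e := h u₀ v₀
    simp only [Matrix.add_mulVec, Matrix.smul_mulVec, Matrix.one_mulVec, polar_add_left,
      polar_add_right, polar_smul_left, polar_smul_right, smul_eq_mul] at e
    have hb : b * (polar ⇑Q (θ *ᵥ u₀) v₀ - polar ⇑Q u₀ (θ *ᵥ v₀)) = 0 := by
      linear_combination e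
    rcases mul_eq_zero.mp hb with hb | hb
    · exact ⟨a, by rw [hb, zero_smul, add_zero]⟩
    · exact absurd (sub_eq_zero.mp hb) hne
  obtain ⟨t, ht⟩ := hsa (θ + θ') (K.add_mem hθK hθ'K) (by
    intro u v
    rw [Matrix.add_mulVec, Matrix.add_mulVec, polar_add_left, polar_add_right, hadj, hadj']
    ring)
  obtain ⟨N, hN⟩ := hsa (θ * θ') (K.mul_mem hθK hθ'K) (by
    intro u v
    rw [← Matrix.mulVec_mulVec, ← Matrix.mulVec_mulVec, hadj, hadj'])
  have hθ' : θ' = t • (1 : Matrix ι ι F) - θ := by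
    rw [← ht]; abel
  have hsq : θ * θ = t • θ - N • (1 : Matrix ι ι F) := by
    have : θ * θ' = θ * (t • (1 : Matrix ι ι F) - θ) := by rw [hθ']
    rw [Matrix.mul_sub, Matrix.mul_smul, Matrix.mul_one, hN] at this
    rw [this]; abel
  have hadj2 : ∀ u v : ι → F,
      polar ⇑Q (θ *ᵥ u) v = t * polar ⇑Q u v - polar ⇑Q u (θ *ᵥ v) := by
    intro u v
    rw [hadj, hθ', Matrix.sub_mulVec, Matrix.smul_mulVec, Matrix.one_mulVec, polar_sub_right,
      polar_smul_right, smul_eq_mul]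
  obtain ⟨p₀, q₀, hpq⟩ := exists_polar_ne_zero Q hQ
  -- quad
  obtain ⟨c, hc⟩ := hsc θ hθK
  have hcN : c = N := by
    have h1 : polar ⇑Q (θ *ᵥ p₀) (θ *ᵥ q₀) = c * polar ⇑Q p₀ q₀ := by
      unfold polar
      rw [← Matrix.mulVec_add, hc, hc, hc]
      ring
    have h2 : polar ⇑Q (θ *ᵥ p₀) (θ *ᵥ q₀) = N * polar ⇑Q p₀ q₀ := by
      rw [hadj, Matrix.mulVec_mulVec, hK.comm θ' hθ'K θ hθK, hN, Matrix.smul_mulVec,
        Matrix.one_mulVec, polar_smul_right, smul_eq_mul]
    have h3 : (c - N) * polar ⇑Q p₀ q₀ = 0 := by linear_combination h2 - h1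
    rcases mul_eq_zero.mp h3 with h | h
    · exact sub_eq_zero.mp h
    · exact absurd h hpq
  have hquad : ∀ v : ι → F, Q (θ *ᵥ v) = N * Q v := by
    intro v; rw [hc, hcN]
  -- self
  obtain ⟨c', hc'⟩ := hsc (1 + θ) (K.add_mem K.one_mem hθK)
  have hself0 : ∀ v : ι → F, polar ⇑Q v (θ *ᵥ v) = (c' - 1 - N) * Q v := by
    intro v
    have h1 := hc' v
    rw [Matrix.add_mulVec, Matrix.one_mulVec] at h1
    have h2 : Q (v + θ *ᵥ v) = Q v + Q (θ *ᵥ v) + polar ⇑Q v (θ *ᵥ v) := by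
      unfold polar; ring
    rw [h2, hquad] at h1
    linear_combination h1
  have hst : c' - 1 - N = t := by
    have h1 := hself0 (p₀ + q₀)
    have h2 : Q (p₀ + q₀) = Q p₀ + Q q₀ + polar ⇑Q p₀ q₀ := by
      unfold polar; ring
    rw [Matrix.mulVec_add, polar_add_left, polar_add_right, polar_add_right, hself0 p₀,
      hself0 q₀, h2] at h1
    have h3 : polar ⇑Q q₀ (θ *ᵥ p₀) = t * polar ⇑Q p₀ q₀ - polar ⇑Q p₀ (θ *ᵥ q₀) := by
      rw [polar_comm, hadj2]
    rw [h3] at h1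
    have h4 : (c' - 1 - N - t) * polar ⇑Q p₀ q₀ = 0 := by linear_combination -h1
    rcases mul_eq_zero.mp h4 with h | h
    · linear_combination h
    · exact absurd h hpq
  refine ⟨θ, t, N, hθK, hchar, ?_, ?_, ?_, ?_, ?_⟩
  · intro v
    rw [Matrix.toLin'_apply, Matrix.toLin'_apply, Matrix.mulVec_mulVec, hsq, Matrix.sub_mulVec,
      Matrix.smul_mulVec, Matrix.smul_mulVec, Matrix.one_mulVec]
  · intro u v
    rw [Matrix.toLin'_apply, Matrix.toLin'_apply]
    exact hadj2 u v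
  · intro v
    rw [Matrix.toLin'_apply]
    exact hquad v
  · intro v
    rw [Matrix.toLin'_apply, hself0, hst]
  · intro α β v h hv
    rw [Matrix.toLin'_apply] at h
    by_cases hx : α • (1 : Matrix ι ι F) + β • θ = 0
    · have := LinearIndependent.pair_iff.mp hli α β hx
      exact this
    · exfalso
      obtain ⟨y, hyK, hy⟩ := hK.inv _ ((hchar _).mpr ⟨α, β, rfl⟩) hx
      have hy' : y * (α • (1 : Matrix ι ι F) + β • θ) = 1 := by
        rw [← hK.comm _ ((hchar _).mpr ⟨α, β, rfl⟩) _ hyK]; exact hy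
      apply hv
      have h2 : (α • (1 : Matrix ι ι F) + β • θ) *ᵥ v = 0 := by
        rw [Matrix.add_mulVec, Matrix.smul_mulVec, Matrix.smul_mulVec, Matrix.one_mulVec]
        exact h
      calc v = (1 : Matrix ι ι F) *ᵥ v := (Matrix.one_mulVec v).symm
        _ = y *ᵥ ((α • (1 : Matrix ι ι F) + β • θ) *ᵥ v) := by
            rw [Matrix.mulVec_mulVec, hy']
        _ = 0 := by rw [h2, Matrix.mulVec_zero]

/-! ### the normaliser of `K` -/

theorem conj_comb' (g : GL ι F) (J : Matrix ι ι F) (c d : F) :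
    g.1 * (c • (1 : Matrix ι ι F) + d • J) * (g⁻¹).1 =
      c • (1 : Matrix ι ι F) + d • (g.1 * J * (g⁻¹).1) := by
  rw [Matrix.mul_add, Matrix.add_mul, Matrix.mul_smul, Matrix.smul_mul, Matrix.mul_one,
    Units.mul_inv, Matrix.mul_smul, Matrix.smul_mul]

theorem conj_back' (g : GL ι F) (k : Matrix ι ι F) :
    k = (g⁻¹).1 * (g.1 * k * (g⁻¹).1) * g.1 := by
  calc k = ((g⁻¹).1 * g.1) * k * ((g⁻¹).1 * g.1) := by
        rw [Units.inv_mul, Matrix.one_mul, Matrix.mul_one]
    _ = (g⁻¹).1 * (g.1 * k * (g⁻¹).1) * g.1 := by simp only [Matrix.mul_assoc]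

variable {K : Subalgebra F (Matrix ι ι F)} {J : Matrix ι ι F}

theorem cen_mem_normalizer'
    (hchar : ∀ k : Matrix ι ι F, k ∈ K ↔ ∃ a b : F, k = a • (1 : Matrix ι ι F) + b • J)
    (h : GL ι F) (hcomm : h.1 * J = J * h.1) : h ∈ Geo.subalgebraNormalizer K := by
  have key2 : h.1 * J * (h⁻¹).1 = J := by
    rw [hcomm, Matrix.mul_assoc, Units.mul_inv, Matrix.mul_one]
  show ∀ k : Matrix ι ι F, k ∈ K ↔ h.1 * k * (h⁻¹).1 ∈ K
  intro k
  constructor
  · intro hk
    obtain ⟨a, b, rfl⟩ := (hchar k).mp hk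
    rw [conj_comb', key2]
    exact hk
  · intro hk
    obtain ⟨a, b, hab⟩ := (hchar _).mp hk
    have key3 : (h⁻¹).1 * J * h.1 = J := by
      rw [Matrix.mul_assoc, ← hcomm, ← Matrix.mul_assoc, Units.inv_mul, Matrix.one_mul]
    have : k = a • (1 : Matrix ι ι F) + b • J := by
      have e := conj_comb' h⁻¹ J a b
      rw [inv_inv, key3] at e
      rw [conj_back' h k, hab, e]
    rw [this]
    exact (hchar _).mpr ⟨a, b, rfl⟩

theorem exists_conj_not_mem' (hJK : J ∈ K)
    (hchar : ∀ k : Matrix ι ι F, k ∈ K ↔ ∃ a b : F, k = a • (1 : Matrix ι ι F) + b • J)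
    {X : Subgroup (GL ι F)} {x : GL ι F} (hx : x ∈ X)
    (hxN : x ∉ Geo.subalgebraNormalizer K) :
    ∃ g ∈ X, ∀ a b : F, g.1 * J * (g⁻¹).1 ≠ a • (1 : Matrix ι ι F) + b • J := by
  by_contra hcon
  push Not at hcon
  apply hxN
  obtain ⟨a, b, hab⟩ := hcon x hx
  obtain ⟨a', b', hab'⟩ := hcon x⁻¹ (inv_mem hx)
  rw [inv_inv] at hab'
  have hmemK : ∀ c d e f : F, c • (1 : Matrix ι ι F) + d • (e • (1 : Matrix ι ι F) + f • J) ∈ K :=
    fun c d e f => K.add_mem (K.smul_mem K.one_mem c)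
      (K.smul_mem (K.add_mem (K.smul_mem K.one_mem e) (K.smul_mem hJK f)) d)
  show ∀ k : Matrix ι ι F, k ∈ K ↔ x.1 * k * (x⁻¹).1 ∈ K
  intro k
  constructor
  · intro hk
    obtain ⟨c, d, rfl⟩ := (hchar k).mp hk
    rw [conj_comb', hab]
    exact hmemK c d a b
  · intro hk
    obtain ⟨c, d, hcd⟩ := (hchar _).mp hk
    have e := conj_comb' x⁻¹ J c d
    rw [inv_inv, hab'] at e
    rw [conj_back' x k, hcd, e]
    exact hmemK c d a' b'

end Cfsg.Agent.Lib.Helper1.UoA
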