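import Mathlib
import Cfsg.Prelude
import Cfsg.Agent.Lib.Helper1.UoA5
import Cfsg.Agent.Lib.Helper5.OrthSingularMax
import Cfsg.Agent.Lib.Helper5.OrthBridge

/-!
# The Eichler relation of an overgroup of `C_Ω(θ)` satisfies the axioms `EAx`
-/

set_option autoImplicit false
set_option maxHeartbeats 4000000
set_option linter.unusedSimpArgs false
set_option linter.unusedVariables false
set_option linter.unusedSectionVars false

namespace Cfsg.Agent.Lib.Helper1.UoA

open Module QuadraticMap Matrix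
open Cfsg
open Cfsg.Agent.Lib.Helper5.CartanDieudonne Cfsg.Agent.Lib.Helper5.Siegel
  Cfsg.Agent.Lib.Helper5.QuadIsom Cfsg.Agent.Lib.Helper5.Eichler
  Cfsg.Agent.Lib.Helper5.OmegaSimple Cfsg.Agent.Lib.Helper5.OrthSingularMax

variable {ι : Type} [Fintype ι] [DecidableEq ι] {F : Type*} [Field F] [Fintype F]
  {Q : QuadraticForm F (ι → F)} {θ : Matrix ι ι F} {t N : F}

/-- the Eichler relation of a subgroup -/
def EH (Q : QuadraticForm F (ι → F)) (H : Subgroup (GL ι F)) (u z : ι → F) : Prop :=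
  ∃ (hu : Q u = 0) (huz : polar ⇑Q u z = 0),
    ((eich Q u z hu huz : ↥(isometryGroup F ⇑Q)) : GL ι F) ∈ H

theorem eich_congr {u u' z z' : ι → F} (h1 : u = u') (h2 : z = z') (hu : Q u = 0)
    (huz : polar ⇑Q u z = 0) (hu' : Q u' = 0) (huz' : polar ⇑Q u' z' = 0) :
    eich Q u z hu huz = eich Q u' z' hu' huz' := by
  subst h1; subst h2; rfl

theorem act_eich_apply (u z x : ι → F) (hu : Q u = 0) (huz : polar ⇑Q u z = 0) :
    act Q (eich Q u z hu huz) x =
      x + polar ⇑Q u x • z + (-(polar ⇑Q z x + Q z * polar ⇑Q u x)) • u := by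
  rw [act_eich, eichlerMap_apply]

theorem EH_of_eq {H : Subgroup (GL ι F)} {u z z' : ι → F} (h : EH Q H u z) (e : z = z') :
    EH Q H u z' := by subst e; exact h

theorem EH_add {H : Subgroup (GL ι F)} {u z z' : ι → F} (h1 : EH Q H u z) (h2 : EH Q H u z') :
    EH Q H u (z + z') := by
  obtain ⟨hu, huz, h1⟩ := h1
  obtain ⟨_, huz', h2⟩ := h2
  have huzz : polar ⇑Q u (z + z') = 0 := by rw [polar_add_right, huz, huz', add_zero]
  refine ⟨hu, huzz, ?_⟩
  have e : eich Q u (z + z') hu huzz = eich Q u z hu huz * eich Q u z' hu huz' :=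
    (eich_mul Q u z z' hu huz huz').symm
  rw [e]
  exact H.mul_mem h1 h2

theorem EH_neg {H : Subgroup (GL ι F)} {u z : ι → F} (h1 : EH Q H u z) : EH Q H u (-z) := by
  obtain ⟨hu, huz, h1⟩ := h1
  have huz' : polar ⇑Q u (-z) = 0 := by rw [polar_neg_right, huz, neg_zero]
  refine ⟨hu, huz', ?_⟩
  have e : eich Q u (-z) hu huz' = (eich Q u z hu huz)⁻¹ := (eich_inv Q u z hu huz).symm
  rw [e]
  exact H.inv_mem h1

theorem EH_sub {H : Subgroup (GL ι F)} {u z z' : ι → F} (h1 : EH Q H u z) (h2 : EH Q H u z') :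
    EH Q H u (z - z') := by
  rw [sub_eq_add_neg]; exact EH_add h1 (EH_neg h2)

/-- conjugation -/
theorem EH_conj {H : Subgroup (GL ι F)} (a : ↥(isometryGroup F ⇑Q)) (ha : (a : GL ι F) ∈ H)
    {u z : ι → F} (h : EH Q H u z) : EH Q H (act Q a u) (act Q a z) := by
  obtain ⟨hu, huz, h1⟩ := h
  refine ⟨by rw [quad_act, hu], by rw [polar_act, huz], ?_⟩
  have e := conj_eich Q a u z hu huz
  rw [← e]
  exact H.mul_mem (H.mul_mem ha h1) (H.inv_mem ha)

section theta

variable (D : ThetaData Q (Matrix.toLin' θ) t N)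

include D in
theorem act_T (u x : ι → F) (hu : Q u = 0) (α β : F)
    (huz : polar ⇑Q u (α • u + β • Matrix.toLin' θ u) = 0) :
    act Q (eich Q u (α • u + β • Matrix.toLin' θ u) hu huz) x =
      x + (β * polar ⇑Q u x) • Matrix.toLin' θ u - (β * polar ⇑Q (Matrix.toLin' θ u) x) • u := by
  rw [act_eich_apply, sing_comb D hu, polar_add_left, polar_smul_left, polar_smul_left]
  simp only [smul_eq_mul]
  module

include D in
theorem polar_comb_self (u : ι → F) (hu : Q u = 0) (α β : F) :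
    polar ⇑Q u (α • u + β • Matrix.toLin' θ u) = 0 := by
  rw [polar_add_right, polar_smul_right, polar_smul_right, D.self, hu, polar_self_sing Q hu]
  simp

include D in
theorem T_comm (u : ι → F) (hu : Q u = 0) (α β : F)
    (huz : polar ⇑Q u (α • u + β • Matrix.toLin' θ u) = 0) :
    ((eich Q u (α • u + β • Matrix.toLin' θ u) hu huz : ↥(isometryGroup F ⇑Q)) : GL ι F).1 * θ =
      θ * ((eich Q u (α • u + β • Matrix.toLin' θ u) hu huz : ↥(isometryGroup F ⇑Q)) : GL ι F).1 := by
  rw [Matrix.ext_iff_mulVec]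
  intro x
  rw [← Matrix.mulVec_mulVec, ← Matrix.mulVec_mulVec]
  have h1 := act_T D u (θ *ᵥ x) hu α β huz
  have h2 := act_T D u x hu α β huz
  unfold act at h1 h2
  rw [h1, h2]
  have e1 : polar ⇑Q u (θ *ᵥ x) = t * polar ⇑Q u x - polar ⇑Q (Matrix.toLin' θ u) x := by
    have := polar_theta_right D u x
    rwa [Matrix.toLin'_apply] at this
  have e2 : polar ⇑Q (Matrix.toLin' θ u) (θ *ᵥ x) = N * polar ⇑Q u x := by
    have := polar_theta_theta D u x
    rwa [Matrix.toLin'_apply θ x] at this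
  have e3 : θ *ᵥ (Matrix.toLin' θ u) = t • Matrix.toLin' θ u - N • u := by
    have := D.sq u
    rwa [Matrix.toLin'_apply θ (Matrix.toLin' θ u)] at this
  rw [e1, e2, Matrix.mulVec_sub, Matrix.mulVec_add, Matrix.mulVec_smul, Matrix.mulVec_smul, e3]
  rw [Matrix.toLin'_apply]
  module

variable (Hy : Hyp Q) (H : Subgroup (GL ι F))
  (hC : ∀ a : ↥(isometryGroup F ⇑Q), a ∈ Omega F ⇑Q →
    ((a : GL ι F) : Matrix ι ι F) * θ = θ * ((a : GL ι F) : Matrix ι ι F) → (a : GL ι F) ∈ H)

include D Hy hC in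
theorem EH_kline (u : ι → F) (hu : Q u = 0) (α β : F) :
    EH Q H u (α • u + β • Matrix.toLin' θ u) := by
  have huz := polar_comb_self D u hu α β
  exact ⟨hu, huz, hC _ (eich_mem_Omega Hy u _ hu huz) (T_comm D u hu α β huz)⟩

include D Hy hC in
theorem eax : EAx Q (Matrix.toLin' θ) (EH Q H) := by
  refine ⟨?_, ?_, ?_, ?_, ?_, ?_, ?_⟩
  · rintro u z ⟨hu, huz, -⟩
    exact ⟨hu, huz⟩
  · intro u z z' h1 h2
    exact EH_add h1 h2
  · intro u z h1
    exact EH_neg h1
  · intro u hu α β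
    exact EH_kline D Hy H hC u hu α β
  · -- tv
    intro u z w c hE hw hwu
    obtain ⟨hwu1, hwu2⟩ := hwu
    have hT := EH_kline D Hy H hC w hw 0 c
    obtain ⟨_, hwz', hTm⟩ := hT
    have hc := EH_conj _ hTm hE
    have hθwu : polar ⇑Q (Matrix.toLin' θ w) u = 0 := by
      rw [D.adj, hwu1, hwu2]; ring
    have e1 : act Q (eich Q w (0 • w + c • Matrix.toLin' θ w) hw hwz') u = u := by
      rw [act_T D, hwu1, hθwu]
      simp
    have e2 : act Q (eich Q w (0 • w + c • Matrix.toLin' θ w) hw hwz') z =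
        z + c • (polar ⇑Q w z • Matrix.toLin' θ w - polar ⇑Q (Matrix.toLin' θ w) z • w) := by
      rw [act_T D]
      module
    rw [e1, e2] at hc
    have := EH_sub hc hE
    exact EH_of_eq this (by abel)
  · -- symm
    intro u z hE hz
    obtain ⟨hu, huz, hm⟩ := hE
    have hzu : polar ⇑Q z (-u) = 0 := by rw [polar_neg_right, polar_comm, huz, neg_zero]
    have e : eich Q u z hu huz = eich Q z (-u) hz hzu := by
      apply ext_act
      intro x
      rw [act_eich_apply, act_eich_apply, hz, polar_neg_left]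
      have : Q (-u) = 0 := by rw [QuadraticMap.map_neg, hu]
      rw [this]
      module
    rw [e] at hm
    have h2 : EH Q H z (-u) := ⟨hz, hzu, hm⟩
    exact EH_of_eq (EH_neg h2) (neg_neg u)
  · -- conj
    intro y w u z hyw huz hyu hwu
    obtain ⟨hy, hyw', hm⟩ := hyw
    have hc := EH_conj _ hm huz
    have e1 : act Q (eich Q y w hy hyw') u = u := by
      rw [act_eich_apply, hyu, hwu]
      simp
    have e2 : act Q (eich Q y w hy hyw') z =
        z + polar ⇑Q y z • w - (polar ⇑Q w z + Q w * polar ⇑Q y z) • y := by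
      rw [act_eich_apply]
      module
    rw [e1, e2] at hc
    exact hc

end theta

end Cfsg.Agent.Lib.Helper1.UoA
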