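import Mathlib
import Cfsg.Prelude
import Cfsg.Agent.Lib.Helper1.UoA6
import Cfsg.Agent.Lib.Helper1.TsA1

/-!
# Root-group calculus for overgroups and abstract tensor data: a long root element gives `Ω`
-/

set_option autoImplicit false
set_option maxHeartbeats 4000000
set_option linter.unusedSimpArgs false
set_option linter.unusedVariables false
set_option linter.unusedSectionVars false

namespace Cfsg.Agent.Lib.Helper1.TsA

open Module QuadraticMap Matrix
open Cfsg
open Cfsg.Agent.Lib.Helper5.CartanDieudonne Cfsg.Agent.Lib.Helper5.Siegel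
  Cfsg.Agent.Lib.Helper5.QuadIsom Cfsg.Agent.Lib.Helper5.Eichler
  Cfsg.Agent.Lib.Helper5.OmegaSimple Cfsg.Agent.Lib.Helper5.OrthSingularMax
open Cfsg.Agent.Lib.Helper1.UoA

variable {ι : Type} [Fintype ι] [DecidableEq ι] {F : Type*} [Field F] [Fintype F]
  {Q : QuadraticForm F (ι → F)} {H : Subgroup (GL ι F)}

/-- the full root group `{e_{x, c z}}` lies in `H` -/
def RR (Q : QuadraticForm F (ι → F)) (H : Subgroup (GL ι F)) (x z : ι → F) : Prop :=
  ∀ c : F, EH Q H x (c • z)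

theorem RR.sing {x z : ι → F} (h : RR Q H x z) : Q x = 0 := (h 1).1

theorem RR.perp {x z : ι → F} (h : RR Q H x z) : polar ⇑Q x z = 0 := by
  obtain ⟨_, h2, _⟩ := h 1
  rwa [one_smul] at h2

theorem EH_zero {x : ι → F} (hx : Q x = 0) : EH Q H x 0 := by
  have h0 : polar ⇑Q x 0 = 0 := by simp [polar]
  refine ⟨hx, h0, ?_⟩
  have e : eich Q x 0 hx h0 = 1 := eich_zero Q x hx
  rw [e]
  exact H.one_mem

theorem RR_zero {x : ι → F} (hx : Q x = 0) : RR Q H x 0 := by
  intro c
  rw [smul_zero]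
  exact EH_zero hx

theorem RR_add {x z z' : ι → F} (h1 : RR Q H x z) (h2 : RR Q H x z') : RR Q H x (z + z') := by
  intro c
  rw [smul_add]
  exact EH_add (h1 c) (h2 c)

theorem RR_smul {x z : ι → F} (a : F) (h1 : RR Q H x z) : RR Q H x (a • z) := by
  intro c
  rw [smul_smul]
  exact h1 (c * a)

theorem RR_neg {x z : ι → F} (h1 : RR Q H x z) : RR Q H x (-z) := by
  have := RR_smul (-1 : F) h1
  rwa [neg_one_smul] at this

theorem RR_sub {x z z' : ι → F} (h1 : RR Q H x z) (h2 : RR Q H x z') : RR Q H x (z - z') := by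
  rw [sub_eq_add_neg]
  exact RR_add h1 (RR_neg h2)

/-- `e_{x, a x} = 1` -/
theorem EH_self {x : ι → F} (hx : Q x = 0) (a : F) : EH Q H x (a • x) := by
  have h0 : polar ⇑Q x (a • x) = 0 := by
    rw [polar_smul_right, polar_self_sing Q hx, smul_zero]
  refine ⟨hx, h0, ?_⟩
  have e : eich Q x (a • x) hx h0 = 1 := by
    apply ext_act
    intro v
    rw [act_eich_apply, polar_smul_left, QuadraticMap.map_smul, hx]
    have : act Q (1 : ↥(isometryGroup F ⇑Q)) v = v := Matrix.one_mulVec v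
    rw [this]
    simp only [smul_eq_mul, mul_zero, zero_mul, add_zero]
    module
  rw [e]
  exact H.one_mem

theorem RR_self {x : ι → F} (hx : Q x = 0) (a : F) : RR Q H x (a • x) := by
  intro c
  rw [smul_smul]
  exact EH_self hx _

/-- EH with zero centre -/
theorem EH_zero_left (z : ι → F) : EH Q H 0 z := by
  have h0 : Q (0 : ι → F) = 0 := map_zero Q
  have h1 : polar ⇑Q 0 z = 0 := by simp [polar]
  refine ⟨h0, h1, ?_⟩
  have e : eich Q 0 z h0 h1 = 1 := by
    apply ext_act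
    intro v
    rw [act_eich_apply]
    have : act Q (1 : ↥(isometryGroup F ⇑Q)) v = v := Matrix.one_mulVec v
    rw [this]
    have h2 : polar ⇑Q 0 v = 0 := by simp [polar]
    rw [h2]
    simp
  rw [e]
  exact H.one_mem

theorem RR_zero_left (z : ι → F) : RR Q H 0 z := fun c => EH_zero_left _

/-- symmetry for singular orthogonal pairs -/
theorem EH_symm {x z : ι → F} (hz : Q z = 0) (h : EH Q H x z) : EH Q H z (-x) := by
  obtain ⟨hx, hxz, hmem⟩ := h
  have hzx : polar ⇑Q z (-x) = 0 := by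
    rw [polar_neg_right, polar_comm, hxz, neg_zero]
  refine ⟨hz, hzx, ?_⟩
  have e : eich Q z (-x) hz hzx = eich Q x z hx hxz := by
    apply ext_act
    intro v
    rw [act_eich_apply, act_eich_apply, hz, polar_neg_left, QuadraticMap.map_neg, hx]
    simp only [zero_mul, add_zero, mul_zero]
    module
  rw [e]
  exact hmem

theorem RR_symm {x z : ι → F} (hz : Q z = 0) (h : RR Q H x z) : RR Q H z x := by
  intro c
  by_cases hc : c = 0
  · rw [hc, zero_smul]
    exact EH_zero hz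
  · -- e_{z, c x} = e_{c z, x}^{...}; use e_{x, -c z} symmetric
    have h1 := h (-c)
    have hcz : Q ((-c) • z) = 0 := by rw [QuadraticMap.map_smul, hz, smul_zero]
    have h2 := EH_symm hcz h1
    -- h2 : EH ((-c) • z) (-x); convert to EH z (c • x)
    obtain ⟨ha, hb, hmem⟩ := h2
    have hzx : polar ⇑Q z (c • x) = 0 := by
      rw [polar_smul_right, polar_comm, h.perp, smul_zero]
    refine ⟨hz, hzx, ?_⟩
    have e : eich Q z (c • x) hz hzx = eich Q ((-c) • z) (-x) ha hb := by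
      apply ext_act
      intro v
      rw [act_eich_apply, act_eich_apply, polar_smul_left, polar_smul_left, polar_neg_left,
        QuadraticMap.map_neg, h.sing, QuadraticMap.map_smul, h.sing]
      simp only [smul_eq_mul, zero_mul, add_zero, mul_zero]
      module
    rw [e]
    exact hmem

theorem RR_conj (a : ↥(isometryGroup F ⇑Q)) (ha : (a : GL ι F) ∈ H) {x z : ι → F}
    (h : RR Q H x z) : RR Q H (act Q a x) (act Q a z) := by
  intro c
  have := EH_conj a ha (h c)
  rwa [act_smul] at this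

/-- the basic closure rule -/
theorem RR_step {x y y' z : ι → F} (hy' : Q y' = 0) (hxy : polar ⇑Q x y = 0)
    (hxy' : polar ⇑Q x y' = 0) (hyy : RR Q H y y') (hxz : RR Q H x z)
    (hy'z : polar ⇑Q y' z = 0) : RR Q H x (polar ⇑Q y z • y') := by
  have hy := hyy.sing
  have hyy' := hyy.perp
  obtain ⟨_, hp, hmem⟩ := hyy 1
  have h1 := RR_conj (eich Q y ((1 : F) • y') hy hp) hmem hxz
  have e1 : act Q (eich Q y ((1 : F) • y') hy hp) x = x := by
    rw [act_eich_apply, one_smul, polar_comm _ y x, hxy, polar_comm _ y' x, hxy']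
    simp
  have e2 : act Q (eich Q y ((1 : F) • y') hy hp) z = z + polar ⇑Q y z • y' := by
    rw [act_eich_apply, one_smul, hy'z, hy']
    simp
  rw [e1, e2] at h1
  have h2 := RR_sub h1 hxz
  rwa [add_sub_cancel_left] at h2


/-! ### abstract tensor data -/

/-- abstract tensor datum: `V = U ⊗ W` with symplectic forms on the factors, an overgroup `H`
containing the tensor products of the isometries of the factors -/
structure TD (Q : QuadraticForm F (ι → F)) (H : Subgroup (GL ι F)) (U W : Type*)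
    [AddCommGroup U] [Module F U] [FiniteDimensional F U]
    [AddCommGroup W] [Module F W] [FiniteDimensional F W] where
  B₁ : LinearMap.BilinForm F U
  B₂ : LinearMap.BilinForm F W
  alt₁ : B₁.IsAlt
  alt₂ : B₂.IsAlt
  nd₁ : B₁.Nondegenerate
  nd₂ : B₂.Nondegenerate
  tp : U →ₗ[F] W →ₗ[F] (ι → F)
  polar_tp : ∀ u u' w w', polar ⇑Q (tp u w) (tp u' w') = B₁ u u' * B₂ w w'
  sing_tp : ∀ u w, Q (tp u w) = 0
  span_tp : Submodule.span F {v | ∃ u w, v = tp u w} = ⊤
  mh : ∀ (g₁ : U ≃ₗ[F] U) (g₂ : W ≃ₗ[F] W), (∀ x y, B₁ (g₁ x) (g₁ y) = B₁ x y) →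
    (∀ x y, B₂ (g₂ x) (g₂ y) = B₂ x y) →
    ∃ a : ↥(isometryGroup F ⇑Q), (a : GL ι F) ∈ H ∧ ∀ u w, act Q a (tp u w) = tp (g₁ u) (g₂ w)

section TDsec

variable {U W : Type*} [AddCommGroup U] [Module F U] [FiniteDimensional F U]
  [AddCommGroup W] [Module F W] [FiniteDimensional F W]

/-- swapping the factors -/
def TD.flip (T : TD Q H U W) : TD Q H W U where
  B₁ := T.B₂
  B₂ := T.B₁
  alt₁ := T.alt₂
  alt₂ := T.alt₁
  nd₁ := T.nd₂
  nd₂ := T.nd₁
  tp := T.tp.flip
  polar_tp := by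
    intro w w' u u'
    rw [LinearMap.flip_apply, LinearMap.flip_apply, T.polar_tp, mul_comm]
  sing_tp := by
    intro w u
    rw [LinearMap.flip_apply]
    exact T.sing_tp u w
  span_tp := by
    rw [← T.span_tp]
    congr 1
    ext v
    constructor
    · rintro ⟨w, u, rfl⟩
      exact ⟨u, w, rfl⟩
    · rintro ⟨u, w, rfl⟩
      exact ⟨w, u, rfl⟩
  mh := by
    intro g₁ g₂ h1 h2
    obtain ⟨a, ha, hact⟩ := T.mh g₂ g₁ h2 h1
    exact ⟨a, ha, fun w u => by rw [LinearMap.flip_apply, LinearMap.flip_apply, hact]⟩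

theorem TD.flip_tp (T : TD Q H U W) (w : W) (u : U) : T.flip.tp w u = T.tp u w := rfl

/-- same `U`-vector, orthogonal `W`-vectors -/
def TD.PO (T : TD Q H U W) : Prop :=
  ∀ u w w₂, T.B₂ w w₂ = 0 → RR Q H (T.tp u w) (T.tp u w₂)

/-- same `W`-vector -/
def TD.XP (T : TD Q H U W) : Prop := ∀ u u' w, RR Q H (T.tp u w) (T.tp u' w)

/-- same `U`-vector -/
def TD.PX (T : TD Q H U W) : Prop := ∀ u w w', RR Q H (T.tp u w) (T.tp u w')

/-- orthogonal `W`-vectors -/
def TD.XO (T : TD Q H U W) : Prop :=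
  ∀ u u' w w₂, T.B₂ w w₂ = 0 → RR Q H (T.tp u w) (T.tp u' w₂)

/-- orthogonal `U`-vectors -/
def TD.OX (T : TD Q H U W) : Prop :=
  ∀ u u' w w', T.B₁ u u' = 0 → RR Q H (T.tp u w) (T.tp u' w')

/-- orthogonal `U`-vectors, same `W`-vector -/
def TD.OP (T : TD Q H U W) : Prop :=
  ∀ u u' w, T.B₁ u u' = 0 → RR Q H (T.tp u w) (T.tp u' w)

theorem TD.flip_PO (T : TD Q H U W) : T.flip.PO ↔ T.OP := by
  constructor
  · intro h u u' w huu
    exact h w u u' huu
  · intro h w u u' huu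
    exact h u u' w huu

theorem TD.flip_XP (T : TD Q H U W) : T.flip.XP ↔ T.PX := by
  constructor
  · intro h u w w'
    exact h w w' u
  · intro h w w' u
    exact h u w w'

theorem TD.flip_PX (T : TD Q H U W) : T.flip.PX ↔ T.XP := by
  constructor
  · intro h u u' w
    exact h w u u'
  · intro h w u u'
    exact h u u' w

theorem TD.flip_XO (T : TD Q H U W) : T.flip.XO ↔ T.OX := by
  constructor
  · intro h u u' w w' huu
    exact h w w' u u' huu
  · intro h w w' u u' huu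
    exact h u u' w w' huu

theorem TD.tp_zero_left (T : TD Q H U W) (w : W) : T.tp 0 w = 0 := by
  rw [map_zero, LinearMap.zero_apply]

theorem TD.tp_zero_right (T : TD Q H U W) (u : U) : T.tp u 0 = 0 := map_zero _

theorem TD.PX_PO (T : TD Q H U W) (h : T.PX) : T.PO := fun u w w₂ _ => h u w w₂

/-- homogenisation: one long root element of type `(P, O)` gives all of them -/
theorem TD.PO_of_start (T : TD Q H U W) (u₀ : U) (w w₂ : W) (hu₀ : u₀ ≠ 0)
    (hli : LinearIndependent F ![w, w₂]) (hww : T.B₂ w w₂ = 0)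
    (hst : EH Q H (T.tp u₀ w) (T.tp u₀ w₂)) : T.PO := by
  intro u w' w₂' hw' c
  by_cases hu : u = 0
  · rw [hu, T.tp_zero_left]
    exact EH_zero_left _
  have e0 : c • T.tp u w₂' = T.tp u (c • w₂') := by rw [map_smul]
  rw [e0]
  by_cases hli' : LinearIndependent F ![w', c • w₂']
  · obtain ⟨g₁, hg₁, hg₁u⟩ := exists_isom_single T.B₁ T.nd₁ T.alt₁ u₀ u hu₀ hu
    obtain ⟨g₂, hg₂, hg₂w, hg₂w₂⟩ := exists_isom_pair T.B₂ T.nd₂ T.alt₂ w w₂ w' (c • w₂') hli hli'
      (by rw [hww, map_smul, hw', smul_zero])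
    obtain ⟨a, ha, hact⟩ := T.mh g₁ g₂ hg₁ hg₂
    have := EH_conj a ha hst
    rwa [hact, hact, hg₁u, hg₂w, hg₂w₂] at this
  · rw [LinearIndependent.pair_iff] at hli'
    push Not at hli'
    obtain ⟨s, t, hst', hne⟩ := hli'
    by_cases ht : t = 0
    · have hs : s ≠ 0 := fun hs => by
        exact absurd ht (hne hs)
      rw [ht, zero_smul, add_zero] at hst'
      have hw0 : w' = 0 := by
        rcases smul_eq_zero.mp hst' with h | h
        · exact absurd h hs
        · exact h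
      rw [hw0, T.tp_zero_right]
      exact EH_zero_left _
    · have e1 : c • w₂' = (-(t⁻¹ * s)) • w' := by
        have : t • (c • w₂') = -(s • w') := by
          rw [eq_neg_iff_add_eq_zero, add_comm]
          exact hst'
        calc c • w₂' = t⁻¹ • (t • (c • w₂')) := by rw [smul_smul, inv_mul_cancel₀ ht, one_smul]
          _ = (-(t⁻¹ * s)) • w' := by rw [this, smul_neg, smul_smul, neg_smul]
      rw [e1, map_smul]
      exact EH_self (T.sing_tp u w') _

/-- a vector non-orthogonal to `u` such that adding it to an orthogonal `u'` stays non-orthogonal -/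
theorem TD.split₁ (T : TD Q H U W) {u u' : U} (hu : u ≠ 0) (huu : T.B₁ u u' = 0) :
    ∃ u'', T.B₁ u u'' ≠ 0 ∧ T.B₁ u (u' + u'') ≠ 0 := by
  obtain ⟨u'', hu''⟩ := exists_partner T.B₁ T.nd₁ u hu 1
  refine ⟨u'', by rw [hu'']; exact one_ne_zero, ?_⟩
  rw [map_add, huu, zero_add, hu'']
  exact one_ne_zero

/-- extending a statement for non-orthogonal `u'` to all `u'` -/
theorem TD.extend₁ (T : TD Q H U W) {u : U} {x : ι → F} (w' : W) (hu : u ≠ 0)
    (h : ∀ u', T.B₁ u u' ≠ 0 → RR Q H x (T.tp u' w')) :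
    ∀ u', RR Q H x (T.tp u' w') := by
  intro u'
  by_cases huu : T.B₁ u u' = 0
  · obtain ⟨u'', h1, h2⟩ := T.split₁ hu huu
    have := RR_sub (h _ h2) (h _ h1)
    rwa [map_add, LinearMap.add_apply, add_sub_cancel_right] at this
  · exact h u' huu

/-- `PO ⇒ XP` -/
theorem TD.XP_of_PO (T : TD Q H U W) (h : T.PO) (hW : 3 ≤ finrank F W) : T.XP := by
  intro u u' w
  by_cases hu : u = 0
  · rw [hu, T.tp_zero_left]
    exact RR_zero_left _
  revert u'
  apply T.extend₁ w hu
  intro u' huu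
  obtain ⟨w₃, w₄, h3, h4, h34⟩ := exists_nonorth_perp T.B₂ T.nd₂ ![w] ![w] (by omega)
  have h3' : T.B₂ w w₃ = 0 := h3 0
  have h4' : T.B₂ w w₄ = 0 := h4 0
  have key := RR_step (x := T.tp u w) (y := T.tp u' w₃) (y' := T.tp u' w) (z := T.tp u w₄)
    (T.sing_tp _ _)
    (by rw [T.polar_tp, h3', mul_zero])
    (by rw [T.polar_tp, T.alt₂.self_eq_zero, mul_zero])
    (h u' w₃ w (by rw [alt_swap T.B₂ T.alt₂, h3', neg_zero]))
    (h u w w₄ h4')
    (by rw [T.polar_tp, h4', mul_zero])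
  rw [T.polar_tp] at key
  have hk : T.B₁ u' u * T.B₂ w₃ w₄ ≠ 0 := by
    apply mul_ne_zero _ h34
    rw [alt_swap T.B₁ T.alt₁]
    exact neg_ne_zero.mpr huu
  have := RR_smul (T.B₁ u' u * T.B₂ w₃ w₄)⁻¹ key
  rwa [smul_smul, inv_mul_cancel₀ hk, one_smul] at this

/-- `PO ⇒ XO` in dimension at least five -/
theorem TD.XO_of_PO (T : TD Q H U W) (h : T.PO) (hW : 5 ≤ finrank F W) : T.XO := by
  intro u u' w w₂ hww
  by_cases hu : u = 0
  · rw [hu, T.tp_zero_left]
    exact RR_zero_left _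
  revert u'
  apply T.extend₁ w₂ hu
  intro u' huu
  obtain ⟨w₃, w₄, h3, h4, h34⟩ := exists_nonorth_perp T.B₂ T.nd₂ ![w, w₂] ![w, w₂]
    (by omega)
  have h3a : T.B₂ w w₃ = 0 := h3 0
  have h3b : T.B₂ w₂ w₃ = 0 := h3 1
  have h4a : T.B₂ w w₄ = 0 := h4 0
  have h4b : T.B₂ w₂ w₄ = 0 := h4 1
  have key := RR_step (x := T.tp u w) (y := T.tp u' w₃) (y' := T.tp u' w₂) (z := T.tp u w₄)
    (T.sing_tp _ _)
    (by rw [T.polar_tp, h3a, mul_zero])
    (by rw [T.polar_tp, hww, mul_zero])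
    (h u' w₃ w₂ (by rw [alt_swap T.B₂ T.alt₂, h3b, neg_zero]))
    (h u w w₄ h4a)
    (by rw [T.polar_tp, h4b, mul_zero])
  rw [T.polar_tp] at key
  have hk : T.B₁ u' u * T.B₂ w₃ w₄ ≠ 0 := by
    apply mul_ne_zero _ h34
    rw [alt_swap T.B₁ T.alt₁]
    exact neg_ne_zero.mpr huu
  have := RR_smul (T.B₁ u' u * T.B₂ w₃ w₄)⁻¹ key
  rwa [smul_smul, inv_mul_cancel₀ hk, one_smul] at this

/-- `PO ∧ XO ⇒ PX` -/
theorem TD.PX_of_PO_XO (T : TD Q H U W) (h : T.PO) (h' : T.XO) (hW : 4 ≤ finrank F W) :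
    T.PX := by
  intro u w w'
  by_cases hu : u = 0
  · rw [hu, T.tp_zero_left]
    exact RR_zero_left _
  obtain ⟨u₄, hu₄⟩ := exists_partner T.B₁ T.nd₁ u hu 1
  obtain ⟨w₃, w₄, h3, h4, h34⟩ := exists_nonorth_perp T.B₂ T.nd₂ ![w'] ![w, w']
    (by omega)
  have h3a : T.B₂ w' w₃ = 0 := h3 0
  have h4a : T.B₂ w w₄ = 0 := h4 0
  have h4b : T.B₂ w' w₄ = 0 := h4 1
  have key := RR_step (x := T.tp u w) (y := T.tp u w₃) (y' := T.tp u w') (z := T.tp u₄ w₄)
    (T.sing_tp _ _)
    (by rw [T.polar_tp, T.alt₁.self_eq_zero, zero_mul])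
    (by rw [T.polar_tp, T.alt₁.self_eq_zero, zero_mul])
    (h u w₃ w' (by rw [alt_swap T.B₂ T.alt₂, h3a, neg_zero]))
    (h' u u₄ w w₄ h4a)
    (by rw [T.polar_tp, h4b, mul_zero])
  rw [T.polar_tp, hu₄, one_mul] at key
  have := RR_smul (T.B₂ w₃ w₄)⁻¹ key
  rwa [smul_smul, inv_mul_cancel₀ h34, one_smul] at this

/-- `PX ⇒ XO` -/
theorem TD.XO_of_PX (T : TD Q H U W) (h : T.PX) (hW : 3 ≤ finrank F W) : T.XO := by
  intro u u' w w₂ hww
  by_cases hu : u = 0
  · rw [hu, T.tp_zero_left]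
    exact RR_zero_left _
  revert u'
  apply T.extend₁ w₂ hu
  intro u' huu
  obtain ⟨w₃, w₄, h3, h4, h34⟩ := exists_nonorth_perp T.B₂ T.nd₂ ![w] ![w₂]
    (by omega)
  have h3a : T.B₂ w w₃ = 0 := h3 0
  have h4a : T.B₂ w₂ w₄ = 0 := h4 0
  have key := RR_step (x := T.tp u w) (y := T.tp u' w₃) (y' := T.tp u' w₂) (z := T.tp u w₄)
    (T.sing_tp _ _)
    (by rw [T.polar_tp, h3a, mul_zero])
    (by rw [T.polar_tp, hww, mul_zero])
    (h u' w₃ w₂)
    (h u w w₄)
    (by rw [T.polar_tp, h4a, mul_zero])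
  rw [T.polar_tp] at key
  have hk : T.B₁ u' u * T.B₂ w₃ w₄ ≠ 0 := by
    apply mul_ne_zero _ h34
    rw [alt_swap T.B₁ T.alt₁]
    exact neg_ne_zero.mpr huu
  have := RR_smul (T.B₁ u' u * T.B₂ w₃ w₄)⁻¹ key
  rwa [smul_smul, inv_mul_cancel₀ hk, one_smul] at this

/-- `PX ⇒ OX` when `dim U = 2` -/
theorem TD.OX_of_PX_two (T : TD Q H U W) (h : T.PX) (hU : finrank F U = 2) : T.OX := by
  intro u u' w w' huu
  by_cases hu : u = 0
  · rw [hu, T.tp_zero_left]
    exact RR_zero_left _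
  -- `u'` is a multiple of `u`
  have h1 : finrank F (perpF T.B₁ ![u]) = 1 := by
    unfold perpF
    rw [LinearMap.BilinForm.finrank_orthogonal T.nd₁, hU]
    have : finrank F ↥(Submodule.span F (Set.range ![u])) = 1 := by
      have e : Set.range ![u] = {u} := by
        ext x
        simp [eq_comm]
      rw [e, finrank_span_singleton hu]
    rw [this]
  have hu_mem : u ∈ perpF T.B₁ ![u] := by
    rw [mem_perpF]
    intro i
    fin_cases i
    exact T.alt₁.self_eq_zero u
  have hu'_mem : u' ∈ perpF T.B₁ ![u] := by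
    rw [mem_perpF]
    intro i
    fin_cases i
    exact huu
  obtain ⟨c, hc⟩ := (finrank_eq_one_iff_of_nonzero' (⟨u, hu_mem⟩ : ↥(perpF T.B₁ ![u]))
    (by
      intro h0
      exact hu (congrArg Subtype.val h0))).mp h1 ⟨u', hu'_mem⟩
  have hc' : c • u = u' := congrArg Subtype.val hc
  rw [← hc', map_smul, LinearMap.smul_apply]
  exact RR_smul c (h u w w')

/-- with `XO` and `OX` every pure tensor is a centre -/
theorem TD.isCentre_tp (T : TD Q H U W) (h1 : T.XO) (h2 : T.OX) (u : U) (w : W) :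
    IsCentre Q H (T.tp u w) := by
  by_cases hu : u = 0
  · rw [hu, T.tp_zero_left]
    exact isCentre_zero H
  by_cases hw : w = 0
  · rw [hw, T.tp_zero_right]
    exact isCentre_zero H
  obtain ⟨us, hus⟩ := exists_partner T.B₁ T.nd₁ u hu 1
  obtain ⟨ws, hws⟩ := exists_partner T.B₂ T.nd₂ w hw 1
  have key : ∀ z : ι → F, ∃ z', RR Q H (T.tp u w) z' ∧
      z = polar ⇑Q (T.tp u w) z • T.tp us ws + z' := by
    intro z
    have hz : z ∈ Submodule.span F {v | ∃ u w, v = T.tp u w} := by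
      rw [T.span_tp]
      exact Submodule.mem_top
    induction hz using Submodule.span_induction with
    | mem v hv =>
      obtain ⟨u', w', rfl⟩ := hv
      set α := T.B₁ u u' with hα
      set β := T.B₂ w w' with hβ
      refine ⟨α • T.tp us (w' - β • ws) + T.tp (u' - α • us) w', ?_, ?_⟩
      · apply RR_add
        · apply RR_smul
          apply h1
          rw [map_sub, map_smul, hws, smul_eq_mul, mul_one, hβ, sub_self]
        · apply h2
          rw [map_sub, map_smul, hus, smul_eq_mul, mul_one, hα, sub_self]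
      · rw [T.polar_tp, ← hα, ← hβ]
        simp only [map_sub, map_smul, LinearMap.sub_apply, LinearMap.smul_apply, smul_sub,
          smul_smul]
        module
    | zero =>
      refine ⟨0, RR_zero (T.sing_tp u w), ?_⟩
      simp [polar]
    | add x y _ _ hx hy =>
      obtain ⟨x', hx1, hx2⟩ := hx
      obtain ⟨y', hy1, hy2⟩ := hy
      refine ⟨x' + y', RR_add hx1 hy1, ?_⟩
      rw [polar_add_right, add_smul]
      nth_rewrite 1 [hx2]
      nth_rewrite 1 [hy2]
      abel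
    | smul c x _ hx =>
      obtain ⟨x', hx1, hx2⟩ := hx
      refine ⟨c • x', RR_smul c hx1, ?_⟩
      rw [polar_smul_right]
      nth_rewrite 1 [hx2]
      rw [smul_add, smul_smul, smul_eq_mul]
  refine ⟨T.sing_tp u w, fun hx z hxz => ?_⟩
  obtain ⟨z', hz1, hz2⟩ := key z
  rw [hxz, zero_smul, zero_add] at hz2
  obtain ⟨ha, hb, hmem⟩ := hz1 1
  have e : eich Q (T.tp u w) z hx hxz = eich Q (T.tp u w) ((1 : F) • z') ha hb := by
    apply eich_congr rfl
    rw [one_smul, hz2]
  rw [e]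
  exact hmem

/-- if every pure tensor is a centre then `Ω ≤ H` -/
theorem TD.omega_le_of_centres (T : TD Q H U W) (Hy : Hyp Q)
    (hc : ∀ u w, IsCentre Q H (T.tp u w)) : Cfsg.Geo.omegaGL ⇑Q ≤ H := by
  apply omegaGL_le Hy
  intro y hy
  by_cases hy0 : y = 0
  · rw [hy0]
    exact isCentre_zero H
  -- a pure tensor not orthogonal to `y`
  have h1 : ∃ u w, polar ⇑Q (T.tp u w) y ≠ 0 := by
    by_contra hcon
    push Not at hcon
    apply hy0
    have h2 : ∀ z : ι → F, polar ⇑Q z y = 0 := by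
      intro z
      have hz : z ∈ Submodule.span F {v | ∃ u w, v = T.tp u w} := by
        rw [T.span_tp]
        exact Submodule.mem_top
      induction hz using Submodule.span_induction with
      | mem v hv =>
        obtain ⟨u', w', rfl⟩ := hv
        exact hcon u' w'
      | zero => simp [polar]
      | add a b _ _ ha hb => rw [polar_add_left, ha, hb, add_zero]
      | smul c a _ ha => rw [polar_smul_left, ha, smul_zero]
    have h3 := Hy.nondeg.2 y (fun z => by
      have := h2 z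
      rwa [← polarBilin_apply_apply] at this)
    exact h3
  obtain ⟨u, w, huw⟩ := h1
  have hu : u ≠ 0 := by
    intro h
    rw [h, T.tp_zero_left] at huw
    apply huw
    simp [polar]
  have hw : w ≠ 0 := by
    intro h
    rw [h, T.tp_zero_right] at huw
    apply huw
    simp [polar]
  obtain ⟨us, hus⟩ := exists_partner T.B₁ T.nd₁ u hu 1
  obtain ⟨ws, hws⟩ := exists_partner T.B₂ T.nd₂ w hw 1
  set c := polar ⇑Q (T.tp u w) y with hc'
  -- normalised centre
  have hx' : IsCentre Q H (c⁻¹ • T.tp u w) := isCentre_smul _ (hc u w)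
  have hy₀ : IsCentre Q H (T.tp (c • us) ws) := hc _ _
  have e1 : polar ⇑Q (c⁻¹ • T.tp u w) y = 1 := by
    rw [polar_smul_left, ← hc', smul_eq_mul, inv_mul_cancel₀ huw]
  have e2 : polar ⇑Q (c⁻¹ • T.tp u w) (T.tp (c • us) ws) = 1 := by
    rw [polar_smul_left, T.polar_tp, map_smul, hus, hws, smul_eq_mul, smul_eq_mul, mul_one, mul_one,
      inv_mul_cancel₀ huw]
  obtain ⟨w', hew, hmove⟩ := move_partner (c⁻¹ • T.tp u w) (T.tp (c • us) ws) y hx'.1
    (T.sing_tp _ _) e2 hy e1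
  have hmem := hx'.2 hx'.1 w' hew
  have := isCentre_act (eich Q (c⁻¹ • T.tp u w) w' hx'.1 hew) hmem hy₀
  rwa [hmove] at this

/-- Part A: a long root element of type `(P, O)` forces `Ω ≤ H` -/
theorem TD.omega_le (T : TD Q H U W) (Hy : Hyp Q) (hU : 2 ≤ finrank F U) (hW : 5 ≤ finrank F W)
    (hPO : T.PO) : Cfsg.Geo.omegaGL ⇑Q ≤ H := by
  have hXP : T.XP := T.XP_of_PO hPO (by omega)
  have hXO : T.XO := T.XO_of_PO hPO hW
  have hPX : T.PX := T.PX_of_PO_XO hPO hXO (by omega)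
  have hOX : T.OX := by
    by_cases h2 : finrank F U = 2
    · exact T.OX_of_PX_two hPX h2
    · rw [← T.flip_XO]
      apply T.flip.XO_of_PX
      · rw [T.flip_PX]
        exact hXP
      · omega
  exact T.omega_le_of_centres Hy (T.isCentre_tp hXO hOX)

/-- Part A, second form: a long root element of type `(O, P)` forces `Ω ≤ H` -/
theorem TD.omega_le' (T : TD Q H U W) (Hy : Hyp Q) (hU : 3 ≤ finrank F U) (hW : 5 ≤ finrank F W)
    (hOP : T.OP) : Cfsg.Geo.omegaGL ⇑Q ≤ H := by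
  have h1 : T.flip.XP := T.flip.XP_of_PO ((T.flip_PO).mpr hOP) hU
  have hPX : T.PX := (T.flip_XP).mp h1
  exact T.omega_le Hy (by omega) hW (T.PX_PO hPX)

end TDsec

end Cfsg.Agent.Lib.Helper1.TsA
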