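import Mathlib
import Cfsg.Prelude
import Cfsg.Agent.Lib.Helper1.TsA2

/-!
# The unipotent radical of the stabiliser of a totally singular subspace lies in `Ω`
-/

set_option autoImplicit false
set_option maxHeartbeats 4000000
set_option linter.unusedSimpArgs false
set_option linter.unusedVariables false
set_option linter.unusedSectionVars false

namespace Cfsg.Agent.Lib.Helper1.TsA

open Module QuadraticMap Matrix
open Cfsg
open Cfsg.Agent.Lib.Helper5.CartanDieudonne Cfsg.Agent.Lib.Helper5.Siegel
  Cfsg.Agent.Lib.Helper5.QuadIsom Cfsg.Agent.Lib.Helper5.Eichler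
  Cfsg.Agent.Lib.Helper5.OmegaSimple Cfsg.Agent.Lib.Helper5.OrthSingularMax
open Cfsg.Agent.Lib.Helper1.UoA

variable {ι : Type} [Fintype ι] [DecidableEq ι] {F : Type*} [Field F] [Fintype F]
  {Q : QuadraticForm F (ι → F)}

theorem act_one (v : ι → F) : act Q (1 : ↥(isometryGroup F ⇑Q)) v = v := Matrix.one_mulVec v

theorem polar_sum_right' {k : ℕ} (x : ι → F) (c : Fin k → F) (v : Fin k → ι → F) :
    polar ⇑Q x (∑ i, c i • v i) = ∑ i, c i * polar ⇑Q x (v i) :=
  polar_sum_right Q x c v

theorem act_sum {k : ℕ} (r : ↥(isometryGroup F ⇑Q)) (c : Fin k → F) (v : Fin k → ι → F) :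
    act Q r (∑ i, c i • v i) = ∑ i, c i • act Q r (v i) := by
  unfold act
  rw [Matrix.mulVec_sum]
  apply Finset.sum_congr rfl
  intro i _
  rw [Matrix.mulVec_smul]

section rad

variable {k : ℕ} (x y : Fin k → ι → F)
  (hx : ∀ i, Q (x i) = 0) (hy : ∀ i, Q (y i) = 0)
  (hxx : ∀ i j, polar ⇑Q (x i) (x j) = 0) (hyy : ∀ i j, polar ⇑Q (y i) (y j) = 0)
  (hxy : ∀ i j, polar ⇑Q (x i) (y j) = if i = j then 1 else 0)

include hxy in
/-- an element of the span of the `x i` orthogonal to all `y j` vanishes -/
theorem span_x_eq_zero (d : ι → F) (hd : d ∈ Submodule.span F (Set.range x))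
    (h : ∀ j, polar ⇑Q (y j) d = 0) : d = 0 := by
  obtain ⟨c, rfl⟩ := (Submodule.mem_span_range_iff_exists_fun F).mp hd
  have hc : ∀ j, c j = 0 := by
    intro j
    have := h j
    rw [polar_sum_right'] at this
    rw [Finset.sum_eq_single j] at this
    · rw [polar_comm, hxy j j, if_pos rfl, mul_one] at this
      exact this
    · intro i _ hij
      rw [polar_comm, hxy i j, if_neg hij, mul_zero]
    · intro hj
      exact absurd (Finset.mem_univ j) hj
  simp [hc]

include hx hy hxx hyy hxy in
theorem rad_aux (Hy : Hyp Q) : ∀ (j : ℕ) (r : ↥(isometryGroup F ⇑Q)),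
    (∀ i, act Q r (x i) = x i) →
    (∀ v, (∀ i, polar ⇑Q (x i) v = 0) → act Q r v - v ∈ Submodule.span F (Set.range x)) →
    (∀ i : Fin k, j ≤ i.val → act Q r (y i) = y i) → r ∈ Omega F ⇑Q := by
  intro j
  induction j with
  | zero =>
    intro r hfix hrad hyfix
    have hyf : ∀ i, act Q r (y i) = y i := fun i => hyfix i (Nat.zero_le _)
    have h1 : r = 1 := by
      apply ext_act
      intro v
      rw [act_one]
      set v' := v - ∑ i, polar ⇑Q (x i) v • y i with hv'
      have hperp : ∀ j, polar ⇑Q (x j) v' = 0 := by
        intro j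
        rw [hv', polar_sub_right, polar_sum_right']
        rw [Finset.sum_eq_single j]
        · rw [hxy j j, if_pos rfl, mul_one, sub_self]
        · intro i _ hij
          rw [hxy j i, if_neg (Ne.symm hij), mul_zero]
        · intro hj
          exact absurd (Finset.mem_univ j) hj
      have hd := hrad v' hperp
      have hd0 : act Q r v' - v' = 0 := by
        apply span_x_eq_zero x y hxy _ hd
        intro j
        rw [polar_sub_right]
        have := polar_act Q r (y j) v'
        rw [hyf j] at this
        rw [this, sub_self]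
      have e1 : act Q r v' = v' := sub_eq_zero.mp hd0
      have e2 : v = v' + ∑ i, polar ⇑Q (x i) v • y i := by rw [hv']; abel
      rw [e2, act_add, e1, act_sum]
      congr 1
      apply Finset.sum_congr rfl
      intro i _
      rw [hyf i]
    rw [h1]
    exact (Omega F ⇑Q).one_mem
  | succ j ih =>
    intro r hfix hrad hyfix
    by_cases hjk : j < k
    · set i₀ : Fin k := ⟨j, hjk⟩ with hi₀
      have hry : Q (act Q r (y i₀)) = 0 := by rw [quad_act, hy]
      have hpry : polar ⇑Q (x i₀) (act Q r (y i₀)) = 1 := by
        have := polar_act Q r (x i₀) (y i₀)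
        rw [hfix i₀] at this
        rw [this, hxy i₀ i₀, if_pos rfl]
      obtain ⟨z, hz, hmove⟩ := move_partner (x i₀) (y i₀) (act Q r (y i₀)) (hx i₀) (hy i₀)
        (by rw [hxy i₀ i₀, if_pos rfl]) hry hpry
      -- the shape of `z`
      have hzform : z = act Q r (y i₀) - y i₀ +
          (polar ⇑Q z (y i₀) + Q z) • x i₀ := by
        have := hmove
        rw [act_eich_apply, hxy i₀ i₀, if_pos rfl, one_smul, mul_one] at this
        rw [← this]
        module
      have hzx : ∀ i, polar ⇑Q z (x i) = 0 := by
        intro i
        rw [hzform, polar_add_left, polar_sub_left, polar_smul_left, polar_comm _ (x i₀) (x i),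
          hxx, smul_zero, add_zero]
        have := polar_act Q r (y i₀) (x i)
        rw [hfix i] at this
        rw [this, sub_self]
      have hzy : ∀ i : Fin k, j + 1 ≤ i.val → polar ⇑Q z (y i) = 0 := by
        intro i hi
        have hne : i₀ ≠ i := by
          intro h
          rw [← h] at hi
          simp [hi₀] at hi
        rw [hzform, polar_add_left, polar_sub_left, polar_smul_left, hxy i₀ i, if_neg hne,
          smul_zero, add_zero, hyy]
        have := polar_act Q r (y i₀) (y i)
        rw [hyfix i hi] at this
        rw [this, hyy, sub_self]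
      set e := eich Q (x i₀) z (hx i₀) hz with he
      have hz' : polar ⇑Q (x i₀) (-z) = 0 := by rw [polar_neg_right, hz, neg_zero]
      set e' := eich Q (x i₀) (-z) (hx i₀) hz' with he'
      have hee' : e * e' = 1 := by
        rw [he, he', ← eich_inv Q (x i₀) z (hx i₀) hz, mul_inv_cancel]
      have he'e : e' * e = 1 := by
        rw [he, he', ← eich_inv Q (x i₀) z (hx i₀) hz, inv_mul_cancel]
      -- `e'` fixes the `x i`
      have he'x : ∀ i, act Q e' (x i) = x i := by
        intro i
        rw [he', act_eich_apply, hxx, polar_neg_left, hzx]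
        simp
      have hex : ∀ i, act Q e (x i) = x i := by
        intro i
        rw [he, act_eich_apply, hxx, hzx]
        simp
      -- `e'` on vectors orthogonal to the `x i`
      have he'v : ∀ v, (∀ i, polar ⇑Q (x i) v = 0) → act Q e' v = v + polar ⇑Q z v • x i₀ := by
        intro v hv
        rw [he', act_eich_apply, hv i₀, polar_neg_left]
        simp
      have he'span : ∀ d ∈ Submodule.span F (Set.range x), act Q e' d = d := by
        intro d hd
        obtain ⟨c, rfl⟩ := (Submodule.mem_span_range_iff_exists_fun F).mp hd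
        rw [act_sum]
        apply Finset.sum_congr rfl
        intro i _
        rw [he'x i]
      have hr' : e' * r ∈ Omega F ⇑Q := by
        apply ih (e' * r)
        · intro i
          rw [act_mul, hfix i, he'x i]
        · intro v hv
          rw [act_mul]
          have h1 := hrad v hv
          have h2 : act Q e' (act Q r v) - v =
              act Q e' (act Q r v - v) + (act Q e' v - v) := by
            rw [act_sub]
            abel
          rw [h2, he'span _ h1, he'v v hv, add_sub_cancel_left]
          exact Submodule.add_mem _ h1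
            (Submodule.smul_mem _ _ (Submodule.subset_span ⟨i₀, rfl⟩))
        · intro i hi
          rw [act_mul]
          by_cases hii : i = i₀
          · rw [hii, ← hmove, ← act_mul, he'e, act_one]
          · have hi' : j + 1 ≤ i.val := by
              have : i.val ≠ j := fun h => hii (Fin.ext (by rw [h]))
              omega
            rw [hyfix i hi', he', act_eich_apply, hxy i₀ i, if_neg (Ne.symm hii),
              polar_neg_left, hzy i hi']
            simp
      have e1 : r = e * (e' * r) := by
        rw [← mul_assoc, hee', one_mul]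
      rw [e1]
      exact (Omega F ⇑Q).mul_mem (eich_mem_Omega Hy _ _ _ _) hr'
    · apply ih r hfix hrad
      intro i hi
      exact absurd i.isLt (by omega)

include hx hy hxx hyy hxy in
/-- an isometry fixing the `x i` and acting trivially on `⟨x⟩^⊥ / ⟨x⟩` lies in `Ω` -/
theorem rad_mem_Omega (Hy : Hyp Q) (r : ↥(isometryGroup F ⇑Q))
    (hfix : ∀ i, act Q r (x i) = x i)
    (hrad : ∀ v, (∀ i, polar ⇑Q (x i) v = 0) →
      act Q r v - v ∈ Submodule.span F (Set.range x)) : r ∈ Omega F ⇑Q :=
  rad_aux x y hx hy hxx hyy hxy Hy k r hfix hrad (fun i hi => absurd i.isLt (by omega))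

end rad

end Cfsg.Agent.Lib.Helper1.TsA
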