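import Mathlib
import Cfsg.Prelude
import Cfsg.Agent.Lib.Helper8.Tns8
import Cfsg.Agent.Lib.Helper5.OrthCard
import Cfsg.Agent.Lib.Helper1.TsA3

/-!
# Coordinates for `V = U ⊗ W`: contractions, the operators `Ξ`, and the `Acts` calculus
-/

set_option autoImplicit false
set_option maxHeartbeats 4000000
set_option linter.unusedSimpArgs false
set_option linter.unusedVariables false
set_option linter.unusedSectionVars false

namespace Cfsg.Agent.Lib.Helper1.TsA

open Module QuadraticMap Matrix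
open Cfsg
open Cfsg.Agent.Lib.Helper5.CartanDieudonne Cfsg.Agent.Lib.Helper5.Siegel
  Cfsg.Agent.Lib.Helper5.QuadIsom Cfsg.Agent.Lib.Helper5.Eichler
  Cfsg.Agent.Lib.Helper5.OmegaSimple Cfsg.Agent.Lib.Helper5.OrthSingularMax
  Cfsg.Agent.Lib.Helper5.OrthCard
open Cfsg.Agent.Lib.Helper1.UoA
open Cfsg.Agent.Lib.Helper8.Tns

variable {I J : Type} [Fintype I] [DecidableEq I] [Fintype J] [DecidableEq J]
  {F : Type*} [Field F]

/-! ### linear equivalences as elements of `GL` -/

/-- a linear equivalence of `ι → F` as an element of `GL` -/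
noncomputable def glOf {ι : Type} [Fintype ι] [DecidableEq ι] (g : (ι → F) ≃ₗ[F] (ι → F)) :
    GL ι F where
  val := LinearMap.toMatrix' (g : (ι → F) →ₗ[F] (ι → F))
  inv := LinearMap.toMatrix' (g.symm : (ι → F) →ₗ[F] (ι → F))
  val_inv := by
    rw [← LinearMap.toMatrix'_comp, LinearEquiv.comp_symm, LinearMap.toMatrix'_id]
  inv_val := by
    rw [← LinearMap.toMatrix'_comp, LinearEquiv.symm_comp, LinearMap.toMatrix'_id]

theorem glOf_mulVec {ι : Type} [Fintype ι] [DecidableEq ι] (g : (ι → F) ≃ₗ[F] (ι → F))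
    (u : ι → F) : ((glOf g : GL ι F) : Matrix ι ι F) *ᵥ u = g u :=
  LinearMap.toMatrix'_mulVec _ u

theorem glOf_inv_mulVec {ι : Type} [Fintype ι] [DecidableEq ι] (g : (ι → F) ≃ₗ[F] (ι → F))
    (u : ι → F) : (((glOf g)⁻¹ : GL ι F) : Matrix ι ι F) *ᵥ u = g.symm u :=
  LinearMap.toMatrix'_mulVec _ u

/-- the Kronecker product of two linear equivalences -/
noncomputable def krL (g₁ : (I → F) ≃ₗ[F] (I → F)) (g₂ : (J → F) ≃ₗ[F] (J → F)) : GL (I × J) F :=
  kr (glOf g₁) (glOf g₂)

theorem krL_pt (g₁ : (I → F) ≃ₗ[F] (I → F)) (g₂ : (J → F) ≃ₗ[F] (J → F)) (u : I → F) (w : J → F) :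
    ((krL g₁ g₂ : GL (I × J) F) : Matrix (I × J) (I × J) F) *ᵥ pt u w = pt (g₁ u) (g₂ w) := by
  unfold krL
  rw [kr_mulVec_pt, glOf_mulVec, glOf_mulVec]

theorem krL_inv_pt (g₁ : (I → F) ≃ₗ[F] (I → F)) (g₂ : (J → F) ≃ₗ[F] (J → F)) (u : I → F)
    (w : J → F) :
    (((krL g₁ g₂)⁻¹ : GL (I × J) F) : Matrix (I × J) (I × J) F) *ᵥ pt u w =
      pt (g₁.symm u) (g₂.symm w) := by
  unfold krL
  rw [kr_inv, kr_mulVec_pt, glOf_inv_mulVec, glOf_inv_mulVec]

theorem krL_mem (g₁ : (I → F) ≃ₗ[F] (I → F)) (g₂ : (J → F) ≃ₗ[F] (J → F)) :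
    krL g₁ g₂ ∈ krSub I J F := kr_mem _ _

/-! ### induction on pure tensors -/

theorem pt_induction {P : (I × J → F) → Prop} (h0 : P 0) (hadd : ∀ x y, P x → P y → P (x + y))
    (hpt : ∀ (u : I → F) (w : J → F), P (pt u w)) : ∀ v, P v := by
  intro v
  have e : v = ∑ p : I × J, pt (v p • Pi.single p.1 (1 : F)) (Pi.single p.2 (1 : F)) := by
    ext ⟨i, j⟩
    rw [Finset.sum_apply]
    rw [Finset.sum_eq_single (i, j)]
    · rw [pt_apply]
      simp
    · rintro ⟨i', j'⟩ _ hne
      rw [pt_apply]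
      by_cases hi : i' = i
      · have hj : j' ≠ j := fun hj => hne (by rw [hi, hj])
        simp [Pi.single_apply, hj.symm]
      · have hi' : i ≠ i' := fun h => hi h.symm
        simp [Pi.single_apply, hi']
    · intro h
      exact absurd (Finset.mem_univ _) h
  rw [e]
  apply Finset.sum_induction _ P hadd h0
  intro p _
  exact hpt _ _

/-- two linear maps agreeing on pure tensors are equal -/
theorem lin_ext_pt {X : Type*} [AddCommGroup X] [Module F X] {f g : (I × J → F) →ₗ[F] X}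
    (h : ∀ (u : I → F) (w : J → F), f (pt u w) = g (pt u w)) : f = g := by
  apply LinearMap.ext
  apply pt_induction
  · rw [map_zero, map_zero]
  · intro x y hx hy
    rw [map_add, map_add, hx, hy]
  · exact h

/-! ### contractions -/

variable (B₁ : LinearMap.BilinForm F (I → F)) (B₂ : LinearMap.BilinForm F (J → F))

/-- contraction of the `W`-factor against `p` -/
def C₂ (p : J → F) : (I × J → F) →ₗ[F] (I → F) where
  toFun v := fun i => B₂ (fun j => v (i, j)) p
  map_add' v v' := by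
    ext i
    have : (fun j => (v + v') (i, j)) = (fun j => v (i, j)) + (fun j => v' (i, j)) := rfl
    rw [this, map_add, LinearMap.add_apply]
    rfl
  map_smul' c v := by
    ext i
    have : (fun j => (c • v) (i, j)) = c • (fun j => v (i, j)) := rfl
    rw [this, map_smul, LinearMap.smul_apply]
    rfl

theorem C₂_pt (p : J → F) (u : I → F) (w : J → F) : C₂ B₂ p (pt u w) = B₂ w p • u := by
  ext i
  show B₂ (fun j => pt u w (i, j)) p = (B₂ w p • u) i
  have : (fun j => pt u w (i, j)) = u i • w := by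
    ext j
    rw [pt_apply, Pi.smul_apply, smul_eq_mul]
  rw [this, map_smul, LinearMap.smul_apply, Pi.smul_apply, smul_eq_mul, smul_eq_mul, mul_comm]

/-- contraction of the `U`-factor against `q` -/
def C₁ (q : I → F) : (I × J → F) →ₗ[F] (J → F) where
  toFun v := fun j => B₁ (fun i => v (i, j)) q
  map_add' v v' := by
    ext j
    have : (fun i => (v + v') (i, j)) = (fun i => v (i, j)) + (fun i => v' (i, j)) := rfl
    rw [this, map_add, LinearMap.add_apply]
    rfl
  map_smul' c v := by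
    ext j
    have : (fun i => (c • v) (i, j)) = c • (fun i => v (i, j)) := rfl
    rw [this, map_smul, LinearMap.smul_apply]
    rfl

theorem C₁_pt (q : I → F) (u : I → F) (w : J → F) : C₁ B₁ q (pt u w) = B₁ u q • w := by
  ext j
  show B₁ (fun i => pt u w (i, j)) q = (B₁ u q • w) j
  have : (fun i => pt u w (i, j)) = w j • u := by
    ext i
    rw [pt_apply, Pi.smul_apply, smul_eq_mul, mul_comm]
  rw [this, map_smul, LinearMap.smul_apply, Pi.smul_apply, smul_eq_mul, smul_eq_mul, mul_comm]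

theorem C₂_add_right (p p' : J → F) (v : I × J → F) :
    C₂ B₂ (p + p') v = C₂ B₂ p v + C₂ B₂ p' v := by
  ext i
  show B₂ _ (p + p') = B₂ _ p + B₂ _ p'
  rw [map_add]

theorem C₂_smul_right (c : F) (p : J → F) (v : I × J → F) :
    C₂ B₂ (c • p) v = c • C₂ B₂ p v := by
  ext i
  show B₂ _ (c • p) = c • B₂ _ p
  rw [map_smul]

/-! ### the operators `Ξ` -/

/-- `Ξ L q p : v ↦ (L (C_p v)) ⊗ q` -/
def Xi (L : (I → F) →ₗ[F] (I → F)) (q p : J → F) : (I × J → F) →ₗ[F] (I × J → F) :=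
  (ptL q) ∘ₗ L ∘ₗ (C₂ B₂ p)

theorem Xi_apply (L : (I → F) →ₗ[F] (I → F)) (q p : J → F) (v : I × J → F) :
    Xi B₂ L q p v = pt (L (C₂ B₂ p v)) q := rfl

theorem Xi_pt (L : (I → F) →ₗ[F] (I → F)) (q p : J → F) (u : I → F) (w : J → F) :
    Xi B₂ L q p (pt u w) = B₂ w p • pt (L u) q := by
  rw [Xi_apply, C₂_pt, map_smul, pt_smul_left]

theorem Xi_comp (L L' : (I → F) →ₗ[F] (I → F)) (q p q' p' : J → F) :
    Xi B₂ L q p ∘ₗ Xi B₂ L' q' p' = B₂ q' p • Xi B₂ (L ∘ₗ L') q p' := by
  apply LinearMap.ext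
  intro v
  rw [LinearMap.comp_apply, Xi_apply, Xi_apply, C₂_pt, LinearMap.smul_apply, Xi_apply,
    map_smul, pt_smul_left, LinearMap.comp_apply]

theorem Xi_comp_zero (L L' : (I → F) →ₗ[F] (I → F)) (q p q' p' : J → F) (h : B₂ q' p = 0) :
    Xi B₂ L q p ∘ₗ Xi B₂ L' q' p' = 0 := by
  rw [Xi_comp, h, zero_smul]

theorem Xi_add_left (L L' : (I → F) →ₗ[F] (I → F)) (q p : J → F) :
    Xi B₂ (L + L') q p = Xi B₂ L q p + Xi B₂ L' q p := by
  apply LinearMap.ext
  intro v
  rw [LinearMap.add_apply, Xi_apply, Xi_apply, Xi_apply, LinearMap.add_apply, pt_add_left]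

theorem Xi_smul_left (c : F) (L : (I → F) →ₗ[F] (I → F)) (q p : J → F) :
    Xi B₂ (c • L) q p = c • Xi B₂ L q p := by
  apply LinearMap.ext
  intro v
  rw [LinearMap.smul_apply, Xi_apply, Xi_apply, LinearMap.smul_apply, pt_smul_left]

theorem pt_neg_left' (u : I → F) (w : J → F) : pt (-u) w = -pt u w := by
  have := pt_smul_left (-1 : F) u w
  rwa [neg_one_smul, neg_one_smul] at this

theorem Xi_neg_left (L : (I → F) →ₗ[F] (I → F)) (q p : J → F) :
    Xi B₂ (-L) q p = -Xi B₂ L q p := by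
  apply LinearMap.ext
  intro v
  rw [LinearMap.neg_apply, Xi_apply, Xi_apply, LinearMap.neg_apply, pt_neg_left']

theorem Xi_sub_left (L L' : (I → F) →ₗ[F] (I → F)) (q p : J → F) :
    Xi B₂ (L - L') q p = Xi B₂ L q p - Xi B₂ L' q p := by
  rw [sub_eq_add_neg, Xi_add_left, Xi_neg_left, ← sub_eq_add_neg]

theorem Xi_add_q (L : (I → F) →ₗ[F] (I → F)) (q q' p : J → F) :
    Xi B₂ L (q + q') p = Xi B₂ L q p + Xi B₂ L q' p := by
  apply LinearMap.ext
  intro v
  rw [LinearMap.add_apply, Xi_apply, Xi_apply, Xi_apply, pt_add_right]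

theorem Xi_add_p (L : (I → F) →ₗ[F] (I → F)) (q p p' : J → F) :
    Xi B₂ L q (p + p') = Xi B₂ L q p + Xi B₂ L q p' := by
  apply LinearMap.ext
  intro v
  rw [LinearMap.add_apply, Xi_apply, Xi_apply, Xi_apply, C₂_add_right, map_add, pt_add_left]

theorem Xi_smul_q (c : F) (L : (I → F) →ₗ[F] (I → F)) (q p : J → F) :
    Xi B₂ L (c • q) p = c • Xi B₂ L q p := by
  apply LinearMap.ext
  intro v
  rw [LinearMap.smul_apply, Xi_apply, Xi_apply, pt_smul_right]

theorem Xi_smul_p (c : F) (L : (I → F) →ₗ[F] (I → F)) (q p : J → F) :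
    Xi B₂ L q (c • p) = c • Xi B₂ L q p := by
  apply LinearMap.ext
  intro v
  rw [LinearMap.smul_apply, Xi_apply, Xi_apply, C₂_smul_right, map_smul, pt_smul_left]

/-- rank one operator `u ↦ B₁(u, y) x` -/
def rk (x y : I → F) : (I → F) →ₗ[F] (I → F) := (B₁.flip y).smulRight x

theorem rk_apply (x y u : I → F) : rk B₁ x y u = B₁ u y • x := by
  simp [rk]

/-! ### the `Acts` calculus -/

/-- `g` acts as `1 + N` -/
def Acts (g : GL (I × J) F) (N : (I × J → F) →ₗ[F] (I × J → F)) : Prop :=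
  ∀ v, (g : Matrix (I × J) (I × J) F) *ᵥ v = v + N v

theorem Acts.ext {g g' : GL (I × J) F} {N : (I × J → F) →ₗ[F] (I × J → F)} (h : Acts g N)
    (h' : Acts g' N) : g = g' := by
  apply Units.ext
  rw [Matrix.ext_iff_mulVec]
  intro v
  rw [h v, h' v]

theorem Acts.congr {g : GL (I × J) F} {N N' : (I × J → F) →ₗ[F] (I × J → F)} (h : Acts g N)
    (e : N = N') : Acts g N' := e ▸ h

theorem Acts_one : Acts (1 : GL (I × J) F) 0 := by
  intro v
  rw [Units.val_one, Matrix.one_mulVec, LinearMap.zero_apply, add_zero]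

theorem Acts.mul {g g' : GL (I × J) F} {N N' : (I × J → F) →ₗ[F] (I × J → F)} (h : Acts g N)
    (h' : Acts g' N') : Acts (g * g') (N + N' + N ∘ₗ N') := by
  intro v
  rw [Units.val_mul, ← Matrix.mulVec_mulVec, h' v, h (v + N' v)]
  simp only [LinearMap.add_apply, LinearMap.comp_apply, map_add]
  abel

theorem Acts.inv {g : GL (I × J) F} {N : (I × J → F) →ₗ[F] (I × J → F)} (h : Acts g N)
    (hN : N ∘ₗ N = 0) : Acts g⁻¹ (-N) := by
  intro v
  have h1 : (g : Matrix (I × J) (I × J) F) *ᵥ (v - N v) = v := by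
    rw [h (v - N v), map_sub]
    have : N (N v) = 0 := by
      have := congrArg (fun f : (I × J → F) →ₗ[F] (I × J → F) => f v) hN
      simpa using this
    rw [this]
    abel
  have h2 : ((g⁻¹ : GL (I × J) F) : Matrix (I × J) (I × J) F) *ᵥ v = v - N v := by
    nth_rewrite 1 [← h1]
    rw [inv_mulVec_mulVec]
  rw [h2, LinearMap.neg_apply, sub_eq_add_neg]

/-- conjugation: if `m N' = N m` on vectors then `m g m⁻¹` acts as `1 + N'`... stated with an
explicit intertwining relation -/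
theorem Acts.conj {g m : GL (I × J) F} {N N' : (I × J → F) →ₗ[F] (I × J → F)} (h : Acts g N)
    (hm : ∀ v, (m : Matrix (I × J) (I × J) F) *ᵥ N v =
      N' ((m : Matrix (I × J) (I × J) F) *ᵥ v)) : Acts (m * g * m⁻¹) N' := by
  intro v
  rw [Units.val_mul, Units.val_mul, ← Matrix.mulVec_mulVec, ← Matrix.mulVec_mulVec, h,
    Matrix.mulVec_add, mulVec_inv_mulVec, hm, mulVec_inv_mulVec]

/-- a product of two commuting-type unipotents with vanishing cross terms -/
theorem Acts.mul_of_comp_zero {g g' : GL (I × J) F} {N N' : (I × J → F) →ₗ[F] (I × J → F)}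
    (h : Acts g N) (h' : Acts g' N') (h0 : N ∘ₗ N' = 0) : Acts (g * g') (N + N') := by
  have := h.mul h'
  rwa [h0, add_zero] at this

/-- commutator of two quadratic unipotents with vanishing triple products -/
theorem Acts.comm {g g' : GL (I × J) F} {N N' : (I × J → F) →ₗ[F] (I × J → F)}
    (h : Acts g N) (h' : Acts g' N') (hN : N ∘ₗ N = 0) (hN' : N' ∘ₗ N' = 0)
    (h1 : N ∘ₗ N' ∘ₗ N = 0) (h2 : N' ∘ₗ N ∘ₗ N' = 0) :
    Acts (g * g' * g⁻¹ * g'⁻¹) (N ∘ₗ N' - N' ∘ₗ N) := by
  have hi := h.inv hN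
  have hi' := h'.inv hN'
  intro v
  have a1 : ∀ x, N (N x) = 0 := fun x => by
    have := congrArg (fun f : (I × J → F) →ₗ[F] (I × J → F) => f x) hN
    simpa using this
  have a2 : ∀ x, N' (N' x) = 0 := fun x => by
    have := congrArg (fun f : (I × J → F) →ₗ[F] (I × J → F) => f x) hN'
    simpa using this
  have a3 : ∀ x, N (N' (N x)) = 0 := fun x => by
    have := congrArg (fun f : (I × J → F) →ₗ[F] (I × J → F) => f x) h1
    simpa using this
  have a4 : ∀ x, N' (N (N' x)) = 0 := fun x => by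
    have := congrArg (fun f : (I × J → F) →ₗ[F] (I × J → F) => f x) h2
    simpa using this
  rw [Units.val_mul, Units.val_mul, Units.val_mul, ← Matrix.mulVec_mulVec, ← Matrix.mulVec_mulVec,
    ← Matrix.mulVec_mulVec, hi' v, hi, h', h]
  simp only [LinearMap.neg_apply, LinearMap.sub_apply, LinearMap.comp_apply, map_add, map_neg,
    a1, a2, a3, a4, neg_zero, add_zero, zero_add, neg_neg]
  abel


theorem Acts_of_pt {g : GL (I × J) F} {N : (I × J → F) →ₗ[F] (I × J → F)}
    (h : ∀ (u : I → F) (w : J → F),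
      (g : Matrix (I × J) (I × J) F) *ᵥ pt u w = pt u w + N (pt u w)) : Acts g N := by
  apply pt_induction
  · rw [Matrix.mulVec_zero, map_zero, add_zero]
  · intro x y hx hy
    rw [Matrix.mulVec_add, hx, hy, map_add]
    abel
  · exact h

/-! ### the coordinate tensor structure -/

/-- the quadratic form `Q` on `U ⊗ W` is compatible with the forms `B₁`, `B₂` -/
structure CT (Q : QuadraticForm F (I × J → F)) (B₁ : LinearMap.BilinForm F (I → F))
    (B₂ : LinearMap.BilinForm F (J → F)) : Prop where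
  alt₁ : B₁.IsAlt
  alt₂ : B₂.IsAlt
  nd₁ : B₁.Nondegenerate
  nd₂ : B₂.Nondegenerate
  polar_pt : ∀ u u' w w', polar ⇑Q (pt u w) (pt u' w') = B₁ u u' * B₂ w w'
  sing_pt : ∀ u w, Q (pt u w) = 0

section CTsec

variable {Q : QuadraticForm F (I × J → F)} {B₁ : LinearMap.BilinForm F (I → F)}
  {B₂ : LinearMap.BilinForm F (J → F)} (hT : CT Q B₁ B₂)

include hT in
theorem polar_pt_right (v : I × J → F) (u : I → F) (p : J → F) :
    polar ⇑Q v (pt u p) = B₁ (C₂ B₂ p v) u := by
  revert v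
  apply pt_induction
  · rw [map_zero, map_zero, LinearMap.zero_apply]
    simp [polar]
  · intro x y hx hy
    rw [polar_add_left, hx, hy, map_add, map_add, LinearMap.add_apply]
  · intro u' w'
    rw [hT.polar_pt, C₂_pt, map_smul, LinearMap.smul_apply, smul_eq_mul, mul_comm]

include hT in
theorem polar_pt_right' (v : I × J → F) (q : I → F) (w : J → F) :
    polar ⇑Q v (pt q w) = B₂ (C₁ B₁ q v) w := by
  revert v
  apply pt_induction
  · rw [map_zero, map_zero, LinearMap.zero_apply]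
    simp [polar]
  · intro x y hx hy
    rw [polar_add_left, hx, hy, map_add, map_add, LinearMap.add_apply]
  · intro u' w'
    rw [hT.polar_pt, C₁_pt, map_smul, LinearMap.smul_apply, smul_eq_mul]

include hT in
/-- two vectors of `U` with the same `B₁`-values are equal -/
theorem eq_of_B₁ {a b : I → F} (h : ∀ u, B₁ a u = B₁ b u) : a = b := by
  have : a - b = 0 := hT.nd₁.1 (a - b) (fun u => by
    rw [map_sub, LinearMap.sub_apply, h u, sub_self])
  exact sub_eq_zero.mp this

include hT in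
theorem eq_of_B₂ {a b : J → F} (h : ∀ u, B₂ a u = B₂ b u) : a = b := by
  have : a - b = 0 := hT.nd₂.1 (a - b) (fun u => by
    rw [map_sub, LinearMap.sub_apply, h u, sub_self])
  exact sub_eq_zero.mp this

include hT in
/-- a vector all of whose contractions against `w^⊥` vanish lies in `U ⊗ w` -/
theorem exists_pt_of_C₂_zero {w : J → F} (hw : w ≠ 0) (v : I × J → F)
    (h : ∀ z, B₂ w z = 0 → C₂ B₂ z v = 0) : ∃ u, v = pt u w := by
  obtain ⟨ws, hws⟩ := exists_partner B₂ hT.nd₂ w hw 1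
  refine ⟨fun i => B₂ (fun j => v (i, j)) ws, ?_⟩
  have hrow : ∀ i, (fun j => v (i, j)) = B₂ (fun j => v (i, j)) ws • w := by
    intro i
    apply eq_of_B₂ hT
    intro z
    set r : J → F := fun j => v (i, j) with hr
    have hz0 : B₂ w (z - B₂ w z • ws) = 0 := by
      rw [map_sub, map_smul, hws, smul_eq_mul, mul_one, sub_self]
    have h1 : B₂ r (z - B₂ w z • ws) = 0 := by
      have := congrFun (h _ hz0) i
      exact this
    rw [map_sub, map_smul, sub_eq_zero, smul_eq_mul] at h1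
    rw [h1, map_smul, LinearMap.smul_apply, smul_eq_mul, mul_comm]
  ext ⟨i, j⟩
  rw [pt_apply]
  have := congrFun (hrow i) j
  rw [Pi.smul_apply, smul_eq_mul] at this
  exact this

include hT in
/-- a linear map preserving `Q` on pure tensors and the polar form on pairs of pure tensors is an
isometry -/
theorem isom_of_pt (m : Matrix (I × J) (I × J) F)
    (h1 : ∀ u w, Q (m *ᵥ pt u w) = 0)
    (h2 : ∀ u w u' w', polar ⇑Q (m *ᵥ pt u w) (m *ᵥ pt u' w') = polar ⇑Q (pt u w) (pt u' w')) :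
    ∀ v, Q (m *ᵥ v) = Q v := by
  have hp : ∀ v v', polar ⇑Q (m *ᵥ v) (m *ᵥ v') = polar ⇑Q v v' := by
    apply pt_induction
    · intro v'
      rw [Matrix.mulVec_zero]
      simp [polar]
    · intro x y hx hy v'
      rw [Matrix.mulVec_add, polar_add_left, polar_add_left, hx, hy]
    · intro u w
      apply pt_induction
      · rw [Matrix.mulVec_zero]
        simp [polar]
      · intro x y hx hy
        rw [Matrix.mulVec_add, polar_add_right, polar_add_right, hx, hy]
      · intro u' w'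
        exact h2 u w u' w'
  apply pt_induction
  · rw [Matrix.mulVec_zero]
  · intro x y hx hy
    rw [Matrix.mulVec_add, quad_add' Q, quad_add' Q, hx, hy, hp]
  · intro u w
    rw [h1, hT.sing_pt]

include hT in
/-- Eichler elements with pure centres in the `Acts` form -/
theorem Acts_eich (a c : I → F) (p q : J → F) (hx : Q (pt a p) = 0)
    (hxz : polar ⇑Q (pt a p) (pt c q) = 0) :
    Acts ((eich Q (pt a p) (pt c q) hx hxz : ↥(isometryGroup F ⇑Q)) : GL (I × J) F)
      (Xi B₂ (rk B₁ c a) q p - Xi B₂ (rk B₁ a c) p q) := by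
  intro v
  have := act_eich Q (pt a p) (pt c q) hx hxz v
  rw [eichlerMap_apply] at this
  unfold act at this
  rw [this, hT.sing_pt, zero_mul, add_zero, polar_comm _ (pt a p) v, polar_comm _ (pt c q) v,
    polar_pt_right hT, polar_pt_right hT, LinearMap.sub_apply, Xi_apply, Xi_apply, rk_apply,
    rk_apply, pt_smul_left, pt_smul_left]
  module

/-- contraction and Kronecker products -/
theorem C₂_krL (g₁ : (I → F) ≃ₗ[F] (I → F)) (g₂ : (J → F) ≃ₗ[F] (J → F))
    (hg₂ : ∀ x y, B₂ (g₂ x) (g₂ y) = B₂ x y) (p : J → F) (v : I × J → F) :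
    C₂ B₂ (g₂ p) (((krL g₁ g₂ : GL (I × J) F) : Matrix (I × J) (I × J) F) *ᵥ v) =
      g₁ (C₂ B₂ p v) := by
  revert v
  apply pt_induction
  · rw [Matrix.mulVec_zero, map_zero, map_zero, map_zero]
  · intro x y hx hy
    rw [Matrix.mulVec_add, map_add, hx, hy, map_add, map_add]
  · intro u w
    rw [krL_pt, C₂_pt, C₂_pt, hg₂, map_smul]

/-- conjugating `Ξ` by a Kronecker product -/
theorem Xi_conj (g₁ : (I → F) ≃ₗ[F] (I → F)) (g₂ : (J → F) ≃ₗ[F] (J → F))
    (hg₂ : ∀ x y, B₂ (g₂ x) (g₂ y) = B₂ x y) (L : (I → F) →ₗ[F] (I → F)) (q p : J → F)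
    (v : I × J → F) :
    ((krL g₁ g₂ : GL (I × J) F) : Matrix (I × J) (I × J) F) *ᵥ Xi B₂ L q p v =
      Xi B₂ ((g₁ : (I → F) →ₗ[F] (I → F)) ∘ₗ L ∘ₗ (g₁.symm : (I → F) →ₗ[F] (I → F)))
        (g₂ q) (g₂ p) (((krL g₁ g₂ : GL (I × J) F) : Matrix (I × J) (I × J) F) *ᵥ v) := by
  rw [Xi_apply, Xi_apply, krL_pt, C₂_krL g₁ g₂ hg₂]
  simp

end CTsec

end Cfsg.Agent.Lib.Helper1.TsA
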