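import Mathlib
import Cfsg.Prelude
import Cfsg.Agent.Lib.Helper1.TsA4

/-!
# Kronecker products of symplectic isometries lie in `Ω`; the tensor datum in coordinates
-/

set_option autoImplicit false
set_option maxHeartbeats 4000000
set_option linter.unusedSimpArgs false
set_option linter.unusedVariables false
set_option linter.unusedSectionVars false

namespace Cfsg.Agent.Lib.Helper1.TsA

open Module QuadraticMap Matrix
open Cfsg
open Cfsg.Agent.Lib.Helper5.CartanDieudonne Cfsg.Agent.Lib.Helper5.Siegel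
  Cfsg.Agent.Lib.Helper5.QuadIsom Cfsg.Agent.Lib.Helper5.Eichler
  Cfsg.Agent.Lib.Helper5.OmegaSimple Cfsg.Agent.Lib.Helper5.OrthSingularMax
  Cfsg.Agent.Lib.Helper5.OrthCard Cfsg.Agent.Lib.Helper5.AltWitt
open Cfsg.Agent.Lib.Helper1.UoA
open Cfsg.Agent.Lib.Helper8.Tns

variable {I J : Type} [Fintype I] [DecidableEq I] [Fintype J] [DecidableEq J]
  {F : Type*} [Field F]

/-! ### isometries in `GL` -/

/-- `g` preserves the quadratic form `Q` -/
def IsoQ {ι : Type} [Fintype ι] [DecidableEq ι] (Q : QuadraticForm F (ι → F)) (g : GL ι F) : Prop :=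
  ∀ v, Q ((g : Matrix ι ι F) *ᵥ v) = Q v

section iso

variable {ι : Type} [Fintype ι] [DecidableEq ι] {Q : QuadraticForm F (ι → F)}

theorem IsoQ.polar_eq {g : GL ι F} (h : IsoQ Q g) (v v' : ι → F) :
    QuadraticMap.polar ⇑Q ((g : Matrix ι ι F) *ᵥ v) ((g : Matrix ι ι F) *ᵥ v') =
      QuadraticMap.polar ⇑Q v v' := by
  unfold QuadraticMap.polar
  rw [← Matrix.mulVec_add, h, h, h]

theorem IsoQ.inv {g : GL ι F} (h : IsoQ Q g) : IsoQ Q g⁻¹ := by
  intro v
  have := h (((g⁻¹ : GL ι F) : Matrix ι ι F) *ᵥ v)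
  rw [mulVec_inv_mulVec] at this
  exact this.symm

theorem IsoQ.mul {g g' : GL ι F} (h : IsoQ Q g) (h' : IsoQ Q g') : IsoQ Q (g * g') := by
  intro v
  rw [Units.val_mul, ← Matrix.mulVec_mulVec, h, h']

theorem isoQ_one : IsoQ Q (1 : GL ι F) := by
  intro v
  rw [Units.val_one, Matrix.one_mulVec]

theorem IsoQ.mem {g : GL ι F} (h : IsoQ Q g) : g ∈ isometryGroup F ⇑Q :=
  (mem_isometryGroup_iff _ _).mpr h

theorem isoQ_coe (a : ↥(isometryGroup F ⇑Q)) : IsoQ Q (a : GL ι F) :=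
  (mem_isometryGroup_iff _ _).mp a.2

theorem isoQ_of_mem_omegaGL [Fintype F] {g : GL ι F} (h : g ∈ Cfsg.Geo.omegaGL ⇑Q) :
    IsoQ Q g := by
  obtain ⟨a, _, rfl⟩ := (mem_omegaGL_iff Q g).mp h
  exact isoQ_coe a

/-- polar form against the inverse -/
theorem IsoQ.polar_inv {g : GL ι F} (h : IsoQ Q g) (v v' : ι → F) :
    QuadraticMap.polar ⇑Q (((g⁻¹ : GL ι F) : Matrix ι ι F) *ᵥ v) v' =
      QuadraticMap.polar ⇑Q v ((g : Matrix ι ι F) *ᵥ v') := by
  have := h.polar_eq (((g⁻¹ : GL ι F) : Matrix ι ι F) *ᵥ v) v'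
  rw [mulVec_inv_mulVec] at this
  exact this.symm

end iso

/-! ### equality of elements of `GL` on pure tensors -/

theorem gl_ext_pt {g g' : GL (I × J) F}
    (h : ∀ (u : I → F) (w : J → F), (g : Matrix (I × J) (I × J) F) *ᵥ pt u w =
      (g' : Matrix (I × J) (I × J) F) *ᵥ pt u w) : g = g' := by
  apply Units.ext
  rw [Matrix.ext_iff_mulVec]
  apply pt_induction
  · rw [Matrix.mulVec_zero, Matrix.mulVec_zero]
  · intro x y hx hy
    rw [Matrix.mulVec_add, Matrix.mulVec_add, hx, hy]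
  · exact h

theorem krL_one : krL (1 : (I → F) ≃ₗ[F] (I → F)) (1 : (J → F) ≃ₗ[F] (J → F)) = 1 := by
  apply gl_ext_pt
  intro u w
  rw [krL_pt, Units.val_one, Matrix.one_mulVec]
  rfl

theorem krL_mul (g₁ g₁' : (I → F) ≃ₗ[F] (I → F)) (g₂ g₂' : (J → F) ≃ₗ[F] (J → F)) :
    krL (g₁ * g₁') (g₂ * g₂') = krL g₁ g₂ * krL g₁' g₂' := by
  apply gl_ext_pt
  intro u w
  rw [krL_pt, Units.val_mul, ← Matrix.mulVec_mulVec, krL_pt, krL_pt]
  rfl

theorem krL_inv' (g₁ : (I → F) ≃ₗ[F] (I → F)) (g₂ : (J → F) ≃ₗ[F] (J → F)) :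
    krL g₁⁻¹ g₂⁻¹ = (krL g₁ g₂)⁻¹ := by
  apply gl_ext_pt
  intro u w
  rw [krL_pt, krL_inv_pt]
  rfl

theorem pt_right_mem_span {k : ℕ} (b : Basis (Fin k) F (J → F)) (u : I → F) (w : J → F) :
    pt u w ∈ Submodule.span F (Set.range (fun i => pt u (b i))) := by
  have e : w = ∑ i, b.repr w i • b i := (b.sum_repr w).symm
  have e2 : pt u w = ∑ i, b.repr w i • pt u (b i) := by
    conv_lhs => rw [e]
    have := map_sum (ptR (I := I) u) (fun i => b.repr w i • b i) Finset.univ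
    simp only [ptR_apply, pt_smul_right] at this
    exact this
  rw [e2]
  apply Submodule.sum_mem
  intro i _
  exact Submodule.smul_mem _ _ (Submodule.subset_span ⟨i, rfl⟩)

theorem pt_left_mem_span {k : ℕ} (b : Basis (Fin k) F (I → F)) (u : I → F) (w : J → F) :
    pt u w ∈ Submodule.span F (Set.range (fun i => pt (b i) w)) := by
  have e : u = ∑ i, b.repr u i • b i := (b.sum_repr u).symm
  have e2 : pt u w = ∑ i, b.repr u i • pt (b i) w := by
    conv_lhs => rw [e]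
    have := map_sum (ptL (I := I) w) (fun i => b.repr u i • b i) Finset.univ
    simp only [ptL_apply, pt_smul_left] at this
    exact this
  rw [e2]
  apply Submodule.sum_mem
  intro i _
  exact Submodule.smul_mem _ _ (Submodule.subset_span ⟨i, rfl⟩)

section CT5

variable {Q : QuadraticForm F (I × J → F)} {B₁ : LinearMap.BilinForm F (I → F)}
  {B₂ : LinearMap.BilinForm F (J → F)} (hT : CT Q B₁ B₂)

include hT in
theorem krL_iso (g₁ : (I → F) ≃ₗ[F] (I → F)) (g₂ : (J → F) ≃ₗ[F] (J → F))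
    (hg₁ : ∀ x y, B₁ (g₁ x) (g₁ y) = B₁ x y) (hg₂ : ∀ x y, B₂ (g₂ x) (g₂ y) = B₂ x y) :
    IsoQ Q (krL g₁ g₂) := by
  apply isom_of_pt hT
  · intro u w
    rw [krL_pt, hT.sing_pt]
  · intro u w u' w'
    rw [krL_pt, krL_pt, hT.polar_pt, hT.polar_pt, hg₁, hg₂]

/-- full contraction: the two orders agree -/
theorem B₁_C₂_eq (hT : CT Q B₁ B₂) (v : I × J → F) (q : I → F) (p : J → F) :
    B₁ (C₂ B₂ p v) q = B₂ (C₁ B₁ q v) p := by
  rw [← polar_pt_right hT, ← polar_pt_right' hT]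

variable [Fintype F]

/-- an isometry which fixes a totally singular partner system `x` and moves everything inside its
span lies in `Ω` -/
theorem unip_mem_omegaGL (Hy : Hyp Q) {k : ℕ} (x y : Fin k → I × J → F)
    (hx : ∀ i, Q (x i) = 0) (hy : ∀ i, Q (y i) = 0)
    (hxx : ∀ i j, QuadraticMap.polar ⇑Q (x i) (x j) = 0)
    (hyy : ∀ i j, QuadraticMap.polar ⇑Q (y i) (y j) = 0)
    (hxy : ∀ i j, QuadraticMap.polar ⇑Q (x i) (y j) = if i = j then 1 else 0)
    (g : GL (I × J) F) (hg : IsoQ Q g)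
    (hfix : ∀ i, (g : Matrix (I × J) (I × J) F) *ᵥ x i = x i)
    (hrad : ∀ v, (∀ i, QuadraticMap.polar ⇑Q (x i) v = 0) →
      (g : Matrix (I × J) (I × J) F) *ᵥ v - v ∈ Submodule.span F (Set.range x)) :
    g ∈ Cfsg.Geo.omegaGL ⇑Q := by
  rw [mem_omegaGL_iff]
  refine ⟨⟨g, hg.mem⟩, ?_, rfl⟩
  exact rad_mem_Omega x y hx hy hxx hyy hxy Hy ⟨g, hg.mem⟩ hfix hrad

include hT in
theorem tv_left_mem (Hy : Hyp Q) (u : I → F) (c : F) :
    krL (tv B₁ hT.alt₁ u c) (1 : (J → F) ≃ₗ[F] (J → F)) ∈ Cfsg.Geo.omegaGL ⇑Q := by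
  by_cases hu : u = 0
  · have : tv B₁ hT.alt₁ u c = 1 := by
      apply LinearEquiv.ext
      intro x
      rw [tv_apply, hu, smul_zero, add_zero]
      rfl
    rw [this, krL_one]
    exact one_mem _
  obtain ⟨us, hus⟩ := exists_partner B₁ hT.nd₁ u hu (-1)
  obtain ⟨b, hb⟩ : ∃ b : Basis (Fin (Fintype.card J)) F (J → F), b = b :=
    ⟨(Pi.basisFun F J).reindex (Fintype.equivFin J), rfl⟩
  have hgiso : IsoQ Q (krL (tv B₁ hT.alt₁ u c) (1 : (J → F) ≃ₗ[F] (J → F))) :=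
    krL_iso hT _ _ (tv_isom B₁ hT.alt₁ u c) (fun _ _ => rfl)
  apply unip_mem_omegaGL Hy (fun i => pt u (b i))
    (fun i => pt us (B₂.dualBasis hT.nd₂ b i)) _ _ _ _ _ _ hgiso
  · intro i
    rw [krL_pt, tv_apply, hT.alt₁.self_eq_zero, mul_zero, zero_smul, add_zero]
    rfl
  · intro v _
    refine pt_induction (P := fun v => ((krL (tv B₁ hT.alt₁ u c) (1 : (J → F) ≃ₗ[F] (J → F)) :
      GL (I × J) F) : Matrix (I × J) (I × J) F) *ᵥ v - v ∈
        Submodule.span F (Set.range (fun i => pt u (b i)))) ?_ ?_ ?_ v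
    · show _ *ᵥ (0 : I × J → F) - 0 ∈ _
      rw [Matrix.mulVec_zero, sub_zero]
      exact Submodule.zero_mem _
    · intro x y hx hy
      show _ *ᵥ (x + y) - (x + y) ∈ _
      have : ((krL (tv B₁ hT.alt₁ u c) (1 : (J → F) ≃ₗ[F] (J → F)) : GL (I × J) F) :
          Matrix (I × J) (I × J) F) *ᵥ (x + y) - (x + y) =
          (((krL (tv B₁ hT.alt₁ u c) (1 : (J → F) ≃ₗ[F] (J → F)) : GL (I × J) F) :
          Matrix (I × J) (I × J) F) *ᵥ x - x) +
          (((krL (tv B₁ hT.alt₁ u c) (1 : (J → F) ≃ₗ[F] (J → F)) : GL (I × J) F) :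
          Matrix (I × J) (I × J) F) *ᵥ y - y) := by
        rw [Matrix.mulVec_add]
        abel
      rw [this]
      exact Submodule.add_mem _ hx hy
    · intro u' w'
      show _ *ᵥ pt u' w' - pt u' w' ∈ _
      have e1 : (1 : (J → F) ≃ₗ[F] (J → F)) w' = w' := rfl
      rw [krL_pt, tv_apply, e1, pt_add_left, add_sub_cancel_left, pt_smul_left]
      exact Submodule.smul_mem _ _ (pt_right_mem_span b u w')
  · intro i
    exact hT.sing_pt _ _
  · intro i
    exact hT.sing_pt _ _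
  · intro i j
    rw [hT.polar_pt, hT.alt₁.self_eq_zero, zero_mul]
  · intro i j
    rw [hT.polar_pt, hT.alt₁.self_eq_zero, zero_mul]
  · intro i j
    rw [hT.polar_pt, hus, alt_swap B₂ hT.alt₂, LinearMap.BilinForm.apply_dualBasis_left]
    split_ifs <;> simp

include hT in
theorem tv_right_mem (Hy : Hyp Q) (p : J → F) (c : F) :
    krL (1 : (I → F) ≃ₗ[F] (I → F)) (tv B₂ hT.alt₂ p c) ∈ Cfsg.Geo.omegaGL ⇑Q := by
  by_cases hp : p = 0
  · have : tv B₂ hT.alt₂ p c = 1 := by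
      apply LinearEquiv.ext
      intro x
      rw [tv_apply, hp, smul_zero, add_zero]
      rfl
    rw [this, krL_one]
    exact one_mem _
  obtain ⟨ps, hps⟩ := exists_partner B₂ hT.nd₂ p hp (-1)
  obtain ⟨b, hb⟩ : ∃ b : Basis (Fin (Fintype.card I)) F (I → F), b = b :=
    ⟨(Pi.basisFun F I).reindex (Fintype.equivFin I), rfl⟩
  have hgiso : IsoQ Q (krL (1 : (I → F) ≃ₗ[F] (I → F)) (tv B₂ hT.alt₂ p c)) :=
    krL_iso hT _ _ (fun _ _ => rfl) (tv_isom B₂ hT.alt₂ p c)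
  apply unip_mem_omegaGL Hy (fun i => pt (b i) p)
    (fun i => pt (B₁.dualBasis hT.nd₁ b i) ps) _ _ _ _ _ _ hgiso
  · intro i
    rw [krL_pt, tv_apply, hT.alt₂.self_eq_zero, mul_zero, zero_smul, add_zero]
    rfl
  · intro v _
    refine pt_induction (P := fun v => ((krL (1 : (I → F) ≃ₗ[F] (I → F)) (tv B₂ hT.alt₂ p c) :
      GL (I × J) F) : Matrix (I × J) (I × J) F) *ᵥ v - v ∈
        Submodule.span F (Set.range (fun i => pt (b i) p))) ?_ ?_ ?_ v
    · show _ *ᵥ (0 : I × J → F) - 0 ∈ _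
      rw [Matrix.mulVec_zero, sub_zero]
      exact Submodule.zero_mem _
    · intro x y hx hy
      show _ *ᵥ (x + y) - (x + y) ∈ _
      have : ((krL (1 : (I → F) ≃ₗ[F] (I → F)) (tv B₂ hT.alt₂ p c) : GL (I × J) F) :
          Matrix (I × J) (I × J) F) *ᵥ (x + y) - (x + y) =
          (((krL (1 : (I → F) ≃ₗ[F] (I → F)) (tv B₂ hT.alt₂ p c) : GL (I × J) F) :
          Matrix (I × J) (I × J) F) *ᵥ x - x) +
          (((krL (1 : (I → F) ≃ₗ[F] (I → F)) (tv B₂ hT.alt₂ p c) : GL (I × J) F) :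
          Matrix (I × J) (I × J) F) *ᵥ y - y) := by
        rw [Matrix.mulVec_add]
        abel
      rw [this]
      exact Submodule.add_mem _ hx hy
    · intro u' w'
      show _ *ᵥ pt u' w' - pt u' w' ∈ _
      have e1 : (1 : (I → F) ≃ₗ[F] (I → F)) u' = u' := rfl
      rw [krL_pt, tv_apply, e1, pt_add_right, add_sub_cancel_left, pt_smul_right]
      exact Submodule.smul_mem _ _ (pt_left_mem_span b u' p)
  · intro i
    exact hT.sing_pt _ _
  · intro i
    exact hT.sing_pt _ _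
  · intro i j
    rw [hT.polar_pt, hT.alt₂.self_eq_zero, mul_zero]
  · intro i j
    rw [hT.polar_pt, hT.alt₂.self_eq_zero, mul_zero]
  · intro i j
    rw [hT.polar_pt, hps, alt_swap B₁ hT.alt₁, LinearMap.BilinForm.apply_dualBasis_left]
    split_ifs <;> simp

include hT in
/-- Kronecker products of isometries of the factors lie in `Ω` -/
theorem krL_mem_omegaGL (Hy : Hyp Q) (g₁ : (I → F) ≃ₗ[F] (I → F)) (g₂ : (J → F) ≃ₗ[F] (J → F))
    (hg₁ : ∀ x y, B₁ (g₁ x) (g₁ y) = B₁ x y) (hg₂ : ∀ x y, B₂ (g₂ x) (g₂ y) = B₂ x y) :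
    krL g₁ g₂ ∈ Cfsg.Geo.omegaGL ⇑Q := by
  have h1 : ∀ g ∈ TG B₁ hT.alt₁, krL g (1 : (J → F) ≃ₗ[F] (J → F)) ∈ Cfsg.Geo.omegaGL ⇑Q := by
    intro g hg
    induction hg using Subgroup.closure_induction with
    | mem t ht =>
      obtain ⟨p, c, rfl⟩ := ht
      exact tv_left_mem hT Hy p c
    | one =>
      rw [krL_one]
      exact one_mem _
    | mul a b _ _ ha hb =>
      have := krL_mul a b (1 : (J → F) ≃ₗ[F] (J → F)) 1
      rw [mul_one] at this
      rw [this]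
      exact mul_mem ha hb
    | inv a _ ha =>
      have := krL_inv' a (1 : (J → F) ≃ₗ[F] (J → F))
      rw [inv_one] at this
      rw [this]
      exact inv_mem ha
  have h2 : ∀ g ∈ TG B₂ hT.alt₂, krL (1 : (I → F) ≃ₗ[F] (I → F)) g ∈ Cfsg.Geo.omegaGL ⇑Q := by
    intro g hg
    induction hg using Subgroup.closure_induction with
    | mem t ht =>
      obtain ⟨p, c, rfl⟩ := ht
      exact tv_right_mem hT Hy p c
    | one =>
      rw [krL_one]
      exact one_mem _
    | mul a b _ _ ha hb =>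
      have := krL_mul (1 : (I → F) ≃ₗ[F] (I → F)) 1 a b
      rw [mul_one] at this
      rw [this]
      exact mul_mem ha hb
    | inv a _ ha =>
      have := krL_inv' (1 : (I → F) ≃ₗ[F] (I → F)) a
      rw [inv_one] at this
      rw [this]
      exact inv_mem ha
  have e : krL g₁ g₂ = krL g₁ 1 * krL 1 g₂ := by
    rw [← krL_mul, mul_one, one_mul]
  rw [e]
  exact mul_mem (h1 g₁ (isom_mem_TG B₁ hT.nd₁ hT.alt₁ g₁ hg₁))
    (h2 g₂ (isom_mem_TG B₂ hT.nd₂ hT.alt₂ g₂ hg₂))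

/-- the bilinear pure tensor map -/
def ptB : (I → F) →ₗ[F] (J → F) →ₗ[F] (I × J → F) :=
  LinearMap.mk₂ F pt pt_add_left pt_smul_left pt_add_right pt_smul_right

theorem ptB_apply (u : I → F) (w : J → F) : ptB u w = pt u w := rfl

/-- the tensor datum of an overgroup of `krSub ⊓ Ω` -/
noncomputable def mkTD (hT : CT Q B₁ B₂) (Hy : Hyp Q) (H : Subgroup (GL (I × J) F))
    (hMH : krSub I J F ⊓ Cfsg.Geo.omegaGL ⇑Q ≤ H) : TD Q H (I → F) (J → F) where
  B₁ := B₁
  B₂ := B₂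
  alt₁ := hT.alt₁
  alt₂ := hT.alt₂
  nd₁ := hT.nd₁
  nd₂ := hT.nd₂
  tp := ptB
  polar_tp := hT.polar_pt
  sing_tp := hT.sing_pt
  span_tp := by
    rw [eq_top_iff]
    intro v _
    refine pt_induction (P := fun v => v ∈ Submodule.span F {v | ∃ u w, v = (ptB u) w})
      ?_ ?_ ?_ v
    · exact Submodule.zero_mem _
    · intro x y hx hy
      exact Submodule.add_mem _ hx hy
    · intro u w
      exact Submodule.subset_span ⟨u, w, rfl⟩
  mh := by
    intro g₁ g₂ hg₁ hg₂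
    refine ⟨⟨krL g₁ g₂, (krL_iso hT g₁ g₂ hg₁ hg₂).mem⟩,
      hMH ⟨krL_mem g₁ g₂, krL_mem_omegaGL hT Hy g₁ g₂ hg₁ hg₂⟩, ?_⟩
    intro u w
    exact krL_pt g₁ g₂ u w

include hT in
/-- one long root element of type `(P, O)` in `H` forces `Ω ≤ H` -/
theorem omega_le_of_SPO (Hy : Hyp Q) (H : Subgroup (GL (I × J) F))
    (hMH : krSub I J F ⊓ Cfsg.Geo.omegaGL ⇑Q ≤ H)
    (hI : 2 ≤ Fintype.card I) (hJ : 5 ≤ Fintype.card J)
    (u : I → F) (w w₂ : J → F) (hu : u ≠ 0) (hli : LinearIndependent F ![w, w₂])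
    (hww : B₂ w w₂ = 0) (hst : EH Q H (pt u w) (pt u w₂)) : Cfsg.Geo.omegaGL ⇑Q ≤ H := by
  have hPO : (mkTD hT Hy H hMH).PO := (mkTD hT Hy H hMH).PO_of_start u w w₂ hu hli hww hst
  apply (mkTD hT Hy H hMH).omega_le Hy _ _ hPO
  · rw [finrank_fintype_fun_eq_card]
    exact hI
  · rw [finrank_fintype_fun_eq_card]
    exact hJ

include hT in
/-- one long root element of type `(O, P)` in `H` forces `Ω ≤ H` -/
theorem omega_le_of_SOP (Hy : Hyp Q) (H : Subgroup (GL (I × J) F))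
    (hMH : krSub I J F ⊓ Cfsg.Geo.omegaGL ⇑Q ≤ H) (hJ : 5 ≤ Fintype.card J)
    (u u' : I → F) (w : J → F) (hw : w ≠ 0) (hli : LinearIndependent F ![u, u'])
    (huu : B₁ u u' = 0) (hst : EH Q H (pt u w) (pt u' w)) : Cfsg.Geo.omegaGL ⇑Q ≤ H := by
  have hPO : (mkTD hT Hy H hMH).flip.PO :=
    (mkTD hT Hy H hMH).flip.PO_of_start w u u' hw hli huu hst
  have hOP : (mkTD hT Hy H hMH).OP := ((mkTD hT Hy H hMH).flip_PO).mp hPO
  have hu : u ≠ 0 := by
    have := hli.ne_zero 0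
    simpa using this
  have h3 : 3 ≤ finrank F (I → F) := by
    have h1 := finrank_add_le_of_orth B₁ hT.nd₁ (Submodule.span F {u})
      (Submodule.span F (Set.range ![u, u'])) (by
        intro x hx y hy
        obtain ⟨a, rfl⟩ := Submodule.mem_span_singleton.mp hx
        have : ∀ z ∈ Submodule.span F (Set.range ![u, u']), B₁ u z = 0 := by
          intro z hz
          induction hz using Submodule.span_induction with
          | mem z hz =>
            obtain ⟨i, rfl⟩ := hz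
            fin_cases i
            · exact hT.alt₁.self_eq_zero u
            · exact huu
          | zero => rw [map_zero]
          | add a b _ _ ha hb => rw [map_add, ha, hb, add_zero]
          | smul c a _ ha => rw [map_smul, ha, smul_zero]
        rw [map_smul, LinearMap.smul_apply, this y hy, smul_zero])
    have h2 : finrank F (Submodule.span F {u}) = 1 := finrank_span_singleton hu
    have h3 : finrank F (Submodule.span F (Set.range ![u, u'])) = 2 := by
      rw [finrank_span_eq_card hli]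
      rfl
    omega
  apply (mkTD hT Hy H hMH).omega_le' Hy h3 _ hOP
  rw [finrank_fintype_fun_eq_card]
  exact hJ

end CT5

end Cfsg.Agent.Lib.Helper1.TsA
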