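import Mathlib
import Cfsg.Prelude
import Cfsg.Agent.Lib.Helper1.TsA5

/-!
# Adjoint operators, root elements of `krSub`, and the radical lemma `(★b)`
-/

set_option autoImplicit false
set_option maxHeartbeats 4000000
set_option linter.unusedSimpArgs false
set_option linter.unusedVariables false
set_option linter.unusedSectionVars false

namespace Cfsg.Agent.Lib.Helper1.TsA

open Module QuadraticMap Matrix
open Cfsg
open Cfsg.Agent.Lib.Helper5.CartanDieudonne Cfsg.Agent.Lib.Helper5.Siegel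
  Cfsg.Agent.Lib.Helper5.QuadIsom Cfsg.Agent.Lib.Helper5.Eichler
  Cfsg.Agent.Lib.Helper5.OmegaSimple Cfsg.Agent.Lib.Helper5.OrthSingularMax
  Cfsg.Agent.Lib.Helper5.OrthCard Cfsg.Agent.Lib.Helper5.AltWitt
open Cfsg.Agent.Lib.Helper1.UoA
open Cfsg.Agent.Lib.Helper8.Tns

variable {I J : Type} [Fintype I] [DecidableEq I] [Fintype J] [DecidableEq J]
  {F : Type*} [Field F]

/-! ### adjoints -/

section adjoint

variable (B₁ : LinearMap.BilinForm F (I → F)) (hnd : B₁.Nondegenerate)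

/-- the left adjoint of `L` with respect to `B₁` -/
noncomputable def adj (L : (I → F) →ₗ[F] (I → F)) : (I → F) →ₗ[F] (I → F) :=
  B₁.leftAdjointOfNondegenerate hnd L

theorem adj_apply (L : (I → F) →ₗ[F] (I → F)) (x y : I → F) :
    B₁ (adj B₁ hnd L x) y = B₁ x (L y) :=
  B₁.isAdjointPairLeftAdjointOfNondegenerate hnd L x y

theorem adj_eq (L M : (I → F) →ₗ[F] (I → F)) (h : ∀ x y, B₁ (M x) y = B₁ x (L y)) :
    adj B₁ hnd L = M := by
  apply LinearMap.ext
  intro x
  have : adj B₁ hnd L x - M x = 0 := hnd.1 _ (fun y => by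
    rw [map_sub, LinearMap.sub_apply, adj_apply, h, sub_self])
  exact sub_eq_zero.mp this

theorem adj_add (L L' : (I → F) →ₗ[F] (I → F)) :
    adj B₁ hnd (L + L') = adj B₁ hnd L + adj B₁ hnd L' := by
  apply adj_eq
  intro x y
  rw [LinearMap.add_apply, map_add, LinearMap.add_apply, adj_apply, adj_apply, LinearMap.add_apply,
    map_add]

theorem adj_smul (c : F) (L : (I → F) →ₗ[F] (I → F)) :
    adj B₁ hnd (c • L) = c • adj B₁ hnd L := by
  apply adj_eq
  intro x y
  rw [LinearMap.smul_apply, map_smul, LinearMap.smul_apply, adj_apply, LinearMap.smul_apply,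
    map_smul]

theorem adj_neg (L : (I → F) →ₗ[F] (I → F)) : adj B₁ hnd (-L) = -adj B₁ hnd L := by
  apply adj_eq
  intro x y
  rw [LinearMap.neg_apply, map_neg, LinearMap.neg_apply, adj_apply, LinearMap.neg_apply, map_neg]

theorem adj_sub (L L' : (I → F) →ₗ[F] (I → F)) :
    adj B₁ hnd (L - L') = adj B₁ hnd L - adj B₁ hnd L' := by
  rw [sub_eq_add_neg, adj_add, adj_neg, ← sub_eq_add_neg]

theorem adj_zero : adj B₁ hnd (0 : (I → F) →ₗ[F] (I → F)) = 0 := by
  apply adj_eq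
  intro x y
  simp

theorem adj_rk (hA : B₁.IsAlt) (x y : I → F) : adj B₁ hnd (rk B₁ x y) = -rk B₁ y x := by
  apply adj_eq
  intro a b
  rw [LinearMap.neg_apply, rk_apply, rk_apply, map_neg, LinearMap.neg_apply, map_smul,
    LinearMap.smul_apply, map_smul, smul_eq_mul, smul_eq_mul, alt_swap B₁ hA y b]
  ring

theorem adj_conj (t : (I → F) ≃ₗ[F] (I → F)) (ht : ∀ x y, B₁ (t x) (t y) = B₁ x y)
    (L : (I → F) →ₗ[F] (I → F)) :
    adj B₁ hnd ((t : (I → F) →ₗ[F] (I → F)) ∘ₗ L ∘ₗ (t.symm : (I → F) →ₗ[F] (I → F))) =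
      (t : (I → F) →ₗ[F] (I → F)) ∘ₗ adj B₁ hnd L ∘ₗ (t.symm : (I → F) →ₗ[F] (I → F)) := by
  apply adj_eq
  intro x y
  simp only [LinearMap.comp_apply, LinearEquiv.coe_coe]
  have h1 : B₁ (t (adj B₁ hnd L (t.symm x))) y =
      B₁ (t (adj B₁ hnd L (t.symm x))) (t (t.symm y)) := by rw [LinearEquiv.apply_symm_apply]
  rw [h1, ht, adj_apply]
  have h2 : B₁ x (t (L (t.symm y))) = B₁ (t (t.symm x)) (t (L (t.symm y))) := by
    rw [LinearEquiv.apply_symm_apply]
  rw [h2, ht]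

end adjoint

/-! ### rank one operators -/

section rkops

variable (B₁ : LinearMap.BilinForm F (I → F))

theorem rk_comp_rk (x y x' y' : I → F) :
    rk B₁ x y ∘ₗ rk B₁ x' y' = B₁ x' y • rk B₁ x y' := by
  apply LinearMap.ext
  intro z
  rw [LinearMap.comp_apply, rk_apply, rk_apply, LinearMap.smul_apply, rk_apply, map_smul,
    LinearMap.smul_apply, smul_eq_mul]
  module

theorem rk_smul_left (c : F) (x y : I → F) : rk B₁ (c • x) y = c • rk B₁ x y := by
  apply LinearMap.ext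
  intro z
  rw [LinearMap.smul_apply, rk_apply, rk_apply, smul_comm]

theorem rk_smul_right (c : F) (x y : I → F) : rk B₁ x (c • y) = c • rk B₁ x y := by
  apply LinearMap.ext
  intro z
  rw [LinearMap.smul_apply, rk_apply, rk_apply, map_smul, smul_eq_mul, mul_smul]

theorem rk_conj (t : (I → F) ≃ₗ[F] (I → F)) (ht : ∀ x y, B₁ (t x) (t y) = B₁ x y)
    (x y : I → F) :
    (t : (I → F) →ₗ[F] (I → F)) ∘ₗ rk B₁ x y ∘ₗ (t.symm : (I → F) →ₗ[F] (I → F)) =
      rk B₁ (t x) (t y) := by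
  apply LinearMap.ext
  intro z
  simp only [LinearMap.comp_apply, LinearEquiv.coe_coe]
  rw [rk_apply, rk_apply, map_smul]
  have : B₁ (t.symm z) y = B₁ (t (t.symm z)) (t y) := by rw [ht]
  rw [this, LinearEquiv.apply_symm_apply]

end rkops

/-- a linear map all of whose vectors are eigenvectors is a scalar -/
theorem lin_scalar_of_forall_eigen (L : (I → F) →ₗ[F] (I → F))
    (h : ∀ u : I → F, ∃ c : F, L u = c • u) : ∃ c : F, L = c • LinearMap.id := by
  obtain ⟨c, hc⟩ := scalar_of_forall_eigen (LinearMap.toMatrix' L) (fun u => by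
    obtain ⟨c, hc⟩ := h u
    exact ⟨c, by rw [LinearMap.toMatrix'_mulVec, hc]⟩)
  refine ⟨c, ?_⟩
  apply LinearMap.ext
  intro u
  have := congrArg (fun M : Matrix I I F => M *ᵥ u) hc
  simp only [LinearMap.toMatrix'_mulVec, Matrix.smul_mulVec, Matrix.one_mulVec] at this
  rw [this, LinearMap.smul_apply, LinearMap.id_apply]

theorem tv_symm_apply {V : Type*} [AddCommGroup V] [Module F V] (B : LinearMap.BilinForm F V)
    (hA : B.IsAlt) (p : V) (c : F) (x : V) :
    (tv B hA p c).symm x = x + (-c * B x p) • p := tvMap_apply B p (-c) x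

/-! ### root elements of `krSub` -/

section roots

variable {Q : QuadraticForm F (I × J → F)} {B₁ : LinearMap.BilinForm F (I → F)}
  {B₂ : LinearMap.BilinForm F (J → F)} (hT : CT Q B₁ B₂)

/-- the symplectic transvections of `W` act on `V` as `1 + c Ξ(1, p, p)` -/
theorem Acts_krL_tv_right (hA : B₂.IsAlt) (p : J → F) (c : F) :
    Acts (krL (1 : (I → F) ≃ₗ[F] (I → F)) (tv B₂ hA p c))
      (c • Xi B₂ LinearMap.id p p) := by
  apply Acts_of_pt
  intro u w
  have e1 : (1 : (I → F) ≃ₗ[F] (I → F)) u = u := rfl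
  rw [krL_pt, tv_apply, e1, pt_add_right, pt_smul_right, LinearMap.smul_apply, Xi_pt,
    LinearMap.id_apply, smul_smul]

/-- conjugation of an `Acts` relation by a Kronecker product -/
theorem Acts.conj_krL {g : GL (I × J) F} {N N' : (I × J → F) →ₗ[F] (I × J → F)}
    (h : Acts g N) (g₁ : (I → F) ≃ₗ[F] (I → F)) (g₂ : (J → F) ≃ₗ[F] (J → F))
    (hm : ∀ v, ((krL g₁ g₂ : GL (I × J) F) : Matrix (I × J) (I × J) F) *ᵥ N v =
      N' (((krL g₁ g₂ : GL (I × J) F) : Matrix (I × J) (I × J) F) *ᵥ v)) :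
    Acts (krL g₁ g₂ * g * (krL g₁ g₂)⁻¹) N' := h.conj hm

end roots

/-! ### the two kinds of long root elements -/

/-- `H` contains a long root element of type `(P, O)` -/
def SPO (Q : QuadraticForm F (I × J → F)) (B₂ : LinearMap.BilinForm F (J → F))
    (H : Subgroup (GL (I × J) F)) : Prop :=
  ∃ (u : I → F) (w w₂ : J → F), u ≠ 0 ∧ LinearIndependent F ![w, w₂] ∧ B₂ w w₂ = 0 ∧
    EH Q H (pt u w) (pt u w₂)

/-- `H` contains a long root element of type `(O, P)` -/
def SOP (Q : QuadraticForm F (I × J → F)) (B₁ : LinearMap.BilinForm F (I → F))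
    (H : Subgroup (GL (I × J) F)) : Prop :=
  ∃ (u u' : I → F) (w : J → F), w ≠ 0 ∧ LinearIndependent F ![u, u'] ∧ B₁ u u' = 0 ∧
    EH Q H (pt u w) (pt u' w)

/-- two vectors, the first non-zero and the second not a multiple of it, are independent -/
theorem pair_indep_of_not_smul {V : Type*} [AddCommGroup V] [Module F V] {x y : V}
    (hx : x ≠ 0) (h : ∀ c : F, y ≠ c • x) : LinearIndependent F ![x, y] := by
  rw [LinearIndependent.pair_iff]
  intro s t hst
  by_cases ht : t = 0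
  · rw [ht, zero_smul, add_zero] at hst
    rcases smul_eq_zero.mp hst with h0 | h0
    · exact ⟨h0, ht⟩
    · exact absurd h0 hx
  · exfalso
    apply h (-(t⁻¹ * s))
    have : t • y = -(s • x) := eq_neg_of_add_eq_zero_right hst
    calc y = t⁻¹ • (t • y) := by rw [smul_smul, inv_mul_cancel₀ ht, one_smul]
      _ = -(t⁻¹ * s) • x := by rw [this, smul_neg, smul_smul, neg_smul]

/-! ### the lemma `(★b)` -/

section starb

variable {Q : QuadraticForm F (I × J → F)} {B₁ : LinearMap.BilinForm F (I → F)}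
  {B₂ : LinearMap.BilinForm F (J → F)} (hT : CT Q B₁ B₂) [Fintype F]

include hT in
/-- an element of `H` fixing `U ⊗ w^⊥` pointwise is a root element of `krSub`, unless `H`
contains a long root element of type `(O, P)` -/
theorem star_b (Hy : Hyp Q) (H : Subgroup (GL (I × J) F))
    (hMH : krSub I J F ⊓ Cfsg.Geo.omegaGL ⇑Q ≤ H) (w : J → F) (hw : w ≠ 0)
    (ζ : GL (I × J) F) (hζH : ζ ∈ H) (hζ : IsoQ Q ζ)
    (hfix : ∀ (u : I → F) (w₁ : J → F), B₂ w w₁ = 0 →
      (ζ : Matrix (I × J) (I × J) F) *ᵥ pt u w₁ = pt u w₁) :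
    SOP Q B₁ H ∨ ∃ c : F, ζ = krL (1 : (I → F) ≃ₗ[F] (I → F)) (tv B₂ hT.alt₂ w c) := by
  obtain ⟨ws, hws⟩ := exists_partner B₂ hT.nd₂ w hw 1
  -- the displacement of `u ⊗ ws`
  have hd : ∀ u : I → F, ∃ u' : I → F,
      (ζ : Matrix (I × J) (I × J) F) *ᵥ pt u ws - pt u ws = pt u' w := by
    intro u
    apply exists_pt_of_C₂_zero hT hw
    intro z hz
    apply eq_of_B₁ hT
    intro q
    rw [← polar_pt_right hT, polar_sub_left, map_zero, LinearMap.zero_apply]
    have := hζ.polar_eq (pt u ws) (pt q z)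
    rw [hfix q z hz] at this
    rw [this, sub_self]
  obtain ⟨τ, hτdef⟩ : ∃ τ : (I → F) →ₗ[F] (I → F), τ =
      -(C₂ B₂ ws ∘ₗ (Matrix.mulVecLin (ζ : Matrix (I × J) (I × J) F) - LinearMap.id) ∘ₗ
        ptL ws) := ⟨_, rfl⟩
  have hτ : ∀ u, (ζ : Matrix (I × J) (I × J) F) *ᵥ pt u ws = pt u ws - pt (τ u) w := by
    intro u
    obtain ⟨u', hu'⟩ := hd u
    have e1 : τ u = -u' := by
      rw [hτdef]
      simp only [LinearMap.neg_apply, LinearMap.comp_apply, LinearMap.sub_apply, ptL_apply,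
        Matrix.mulVecLin_apply, LinearMap.id_apply]
      rw [hu', C₂_pt, hws, one_smul]
    rw [e1, pt_neg_left', sub_neg_eq_add, ← hu']
    abel
  have hζA : Acts ζ (Xi B₂ τ w w) := by
    apply Acts_of_pt
    intro u w'
    have e1 : w' = (w' - B₂ w w' • ws) + B₂ w w' • ws := by abel
    have e2 : B₂ w (w' - B₂ w w' • ws) = 0 := by
      rw [map_sub, map_smul, hws, smul_eq_mul, mul_one, sub_self]
    have e3 : pt u w' = pt u (w' - B₂ w w' • ws) + B₂ w w' • pt u ws := by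
      rw [← pt_smul_right, ← pt_add_right, ← e1]
    rw [Xi_pt]
    calc (ζ : Matrix (I × J) (I × J) F) *ᵥ pt u w'
        = (ζ : Matrix (I × J) (I × J) F) *ᵥ
            (pt u (w' - B₂ w w' • ws) + B₂ w w' • pt u ws) := by rw [← e3]
      _ = pt u (w' - B₂ w w' • ws) + B₂ w w' • (pt u ws - pt (τ u) w) := by
          rw [Matrix.mulVec_add, Matrix.mulVec_smul, hfix u _ e2, hτ u]
      _ = (pt u (w' - B₂ w w' • ws) + B₂ w w' • pt u ws) - B₂ w w' • pt (τ u) w := by module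
      _ = pt u w' + B₂ w' w • pt (τ u) w := by
          rw [← e3, alt_swap B₂ hT.alt₂ w' w]
          module
  have hNN : Xi B₂ τ w w ∘ₗ Xi B₂ τ w w = 0 :=
    Xi_comp_zero B₂ _ _ _ _ _ _ (hT.alt₂.self_eq_zero w)
  -- `τ` is self-adjoint and alternating
  have hsa : ∀ u u', B₁ (τ u) u' = B₁ u (τ u') := by
    intro u u'
    have h1 := hζ.polar_eq (pt u ws) (pt u' ws)
    rw [hτ u, hτ u', hT.polar_pt, hT.alt₂.self_eq_zero, mul_zero, polar_sub_left,
      polar_sub_right, polar_sub_right, hT.polar_pt, hT.polar_pt, hT.polar_pt, hT.polar_pt,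
      hT.alt₂.self_eq_zero, hT.alt₂.self_eq_zero, hws, alt_swap B₂ hT.alt₂ ws w, hws] at h1
    linear_combination (-1 : F) * h1
  have halt : ∀ u, B₁ u (τ u) = 0 := by
    intro u
    have h1 := hζ (pt u ws)
    rw [hτ u, quad_sub' Q, hT.sing_pt, hT.sing_pt, hT.polar_pt,
      alt_swap B₂ hT.alt₂ ws w, hws] at h1
    linear_combination h1
  by_cases hsc : ∃ c : F, τ = c • LinearMap.id
  · right
    obtain ⟨c, hc⟩ := hsc
    refine ⟨c, ?_⟩
    apply hζA.ext
    have := Acts_krL_tv_right (I := I) hT.alt₂ w c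
    apply this.congr
    rw [hc, Xi_smul_left]
  · left
    have hex : ∃ u : I → F, ∀ c : F, τ u ≠ c • u := by
      by_contra hcon
      push Not at hcon
      exact hsc (lin_scalar_of_forall_eigen τ hcon)
    obtain ⟨u, hu⟩ := hex
    have hu0 : u ≠ 0 := by
      intro h0
      apply hu 0
      rw [h0, map_zero, smul_zero]
    have hli : LinearIndependent F ![u, τ u] := pair_indep_of_not_smul hu0 hu
    have htiso : ∀ x y, B₁ (tv B₁ hT.alt₁ u (-1) x) (tv B₁ hT.alt₁ u (-1) y) = B₁ x y :=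
      tv_isom B₁ hT.alt₁ u (-1)
    have hTH : krL (tv B₁ hT.alt₁ u (-1)) (1 : (J → F) ≃ₗ[F] (J → F)) ∈ H :=
      hMH ⟨krL_mem _ _, krL_mem_omegaGL hT Hy _ _ htiso (fun _ _ => rfl)⟩
    have hconj := hζA.conj_krL (tv B₁ hT.alt₁ u (-1)) (1 : (J → F) ≃ₗ[F] (J → F))
      (fun v => Xi_conj (tv B₁ hT.alt₁ u (-1)) (1 : (J → F) ≃ₗ[F] (J → F)) (fun _ _ => rfl)
        τ w w v)
    have hk := hconj.mul_of_comp_zero (hζA.inv hNN) (by
      rw [LinearMap.comp_neg]
      have : (1 : (J → F) ≃ₗ[F] (J → F)) w = w := rfl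
      rw [this, Xi_comp_zero B₂ _ _ _ _ _ _ (hT.alt₂.self_eq_zero w), neg_zero])
    have hxz : polar ⇑Q (pt u w) (pt (τ u) w) = 0 := by
      rw [hT.polar_pt, hT.alt₂.self_eq_zero, mul_zero]
    have hE := Acts_eich hT u (τ u) w w (hT.sing_pt u w) hxz
    have hop : (tv B₁ hT.alt₁ u (-1) : (I → F) →ₗ[F] (I → F)) ∘ₗ τ ∘ₗ
        ((tv B₁ hT.alt₁ u (-1)).symm : (I → F) →ₗ[F] (I → F)) - τ =
        rk B₁ (τ u) u - rk B₁ u (τ u) := by
      apply LinearMap.ext
      intro x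
      simp only [LinearMap.sub_apply, LinearMap.comp_apply, LinearEquiv.coe_coe, rk_apply]
      rw [tv_symm_apply, tv_apply]
      simp only [map_add, map_smul, LinearMap.add_apply, LinearMap.smul_apply, smul_eq_mul]
      rw [hsa x u, alt_swap B₁ hT.alt₁ (τ u) u, halt u]
      module
    have hkeq : krL (tv B₁ hT.alt₁ u (-1)) (1 : (J → F) ≃ₗ[F] (J → F)) * ζ *
        (krL (tv B₁ hT.alt₁ u (-1)) (1 : (J → F) ≃ₗ[F] (J → F)))⁻¹ * ζ⁻¹ =
        ((eich Q (pt u w) (pt (τ u) w) (hT.sing_pt u w) hxz : ↥(isometryGroup F ⇑Q)) :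
          GL (I × J) F) := by
      apply hk.ext
      apply hE.congr
      have : (1 : (J → F) ≃ₗ[F] (J → F)) w = w := rfl
      rw [this, ← sub_eq_add_neg, ← Xi_sub_left, ← Xi_sub_left, hop]
    refine ⟨u, τ u, w, hw, hli, halt u, hT.sing_pt u w, hxz, ?_⟩
    rw [← hkeq]
    exact H.mul_mem (H.mul_mem (H.mul_mem hTH hζH) (H.inv_mem hTH)) (H.inv_mem hζH)

end starb

end Cfsg.Agent.Lib.Helper1.TsA
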