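import Mathlib
import Cfsg.Prelude
import Cfsg.Agent.Lib.Helper1.TsA6

/-!
# The module `𝔗` of root elements `E(L)` and its closure properties
-/

set_option autoImplicit false
set_option maxHeartbeats 4000000
set_option linter.unusedSimpArgs false
set_option linter.unusedVariables false
set_option linter.unusedSectionVars false

namespace Cfsg.Agent.Lib.Helper1.TsA

open Module QuadraticMap Matrix
open Cfsg
open Cfsg.Agent.Lib.Helper5.CartanDieudonne Cfsg.Agent.Lib.Helper5.Siegel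
  Cfsg.Agent.Lib.Helper5.QuadIsom Cfsg.Agent.Lib.Helper5.Eichler
  Cfsg.Agent.Lib.Helper5.OmegaSimple Cfsg.Agent.Lib.Helper5.OrthSingularMax
  Cfsg.Agent.Lib.Helper5.OrthCard Cfsg.Agent.Lib.Helper5.AltWitt
open Cfsg.Agent.Lib.Helper1.UoA
open Cfsg.Agent.Lib.Helper8.Tns

variable {I J : Type} [Fintype I] [DecidableEq I] [Fintype J] [DecidableEq J]
  {F : Type*} [Field F]

/-! ### geometric lemmas -/

section geom

variable {V : Type*} [AddCommGroup V] [Module F V] (B : LinearMap.BilinForm F V)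

theorem exists_perp_not_mem_span [FiniteDimensional F V] (hB : B.Nondegenerate) {k : ℕ}
    (a : Fin k → V) (h : 2 * k < finrank F V) :
    ∃ z, (∀ i, B (a i) z = 0) ∧ z ∉ Submodule.span F (Set.range a) := by
  by_contra hcon
  push Not at hcon
  have hle : perpF B a ≤ Submodule.span F (Set.range a) :=
    fun z hz => hcon z ((mem_perpF B a z).mp hz)
  have h1 := Submodule.finrank_mono hle
  have h2 := finrank_perpF_ge B hB a
  have h3 : finrank F (Submodule.span F (Set.range a)) ≤ k := by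
    have := finrank_range_le_card (R := F) a
    rw [Fintype.card_fin] at this
    exact this
  omega

omit B in
theorem pair_swap {x y : V} (h : LinearIndependent F ![x, y]) : LinearIndependent F ![y, x] := by
  rw [LinearIndependent.pair_iff] at h ⊢
  intro s t hst
  have := h t s (by rw [add_comm]; exact hst)
  exact ⟨this.2, this.1⟩

omit B in
theorem li_triple {x y z : V} (h : LinearIndependent F ![x, y])
    (hz : z ∉ Submodule.span F (Set.range ![x, y])) : LinearIndependent F ![x, y, z] := by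
  have := h.finSnoc hz
  have e : (Fin.snoc ![x, y] z : Fin 3 → V) = ![x, y, z] := by
    ext i
    fin_cases i <;> rfl
  rwa [e] at this

omit B in
theorem pair_indep_smul_left {x y : V} (h : LinearIndependent F ![x, y]) {c : F} (hc : c ≠ 0) :
    LinearIndependent F ![c • x, y] := by
  rw [LinearIndependent.pair_iff] at h ⊢
  intro s t hst
  rw [smul_smul] at hst
  obtain ⟨h1, h2⟩ := h (s * c) t hst
  exact ⟨(mul_eq_zero.mp h1).resolve_right hc, h2⟩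

omit B in
theorem pair_indep_smul_right {x y : V} (h : LinearIndependent F ![x, y]) {c : F} (hc : c ≠ 0) :
    LinearIndependent F ![x, c • y] := pair_swap (pair_indep_smul_left (pair_swap h) hc)

omit B in
theorem mem_span_pair_left (x y : V) : x ∈ Submodule.span F (Set.range ![x, y]) :=
  Submodule.subset_span ⟨0, rfl⟩

omit B in
theorem mem_span_pair_right (x y : V) : y ∈ Submodule.span F (Set.range ![x, y]) :=
  Submodule.subset_span ⟨1, rfl⟩

omit B in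
theorem ne_zero_of_not_mem_span {z : V} {S : Submodule F V} (h : z ∉ S) : z ≠ 0 := by
  intro h0
  rw [h0] at h
  exact h (Submodule.zero_mem _)

theorem isom_symm_apply (t : V ≃ₗ[F] V) (ht : ∀ x y, B (t x) (t y) = B x y) (x y : V) :
    B (t.symm x) y = B x (t y) := by
  have := ht (t.symm x) y
  rw [LinearEquiv.apply_symm_apply] at this
  exact this.symm

end geom

theorem pt_sub_left (u u' : I → F) (w : J → F) : pt (u - u') w = pt u w - pt u' w := by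
  rw [sub_eq_add_neg, pt_add_left, pt_neg_left', ← sub_eq_add_neg]

theorem one_conj_lin (L : (I → F) →ₗ[F] (I → F)) :
    ((1 : (I → F) ≃ₗ[F] (I → F)) : (I → F) →ₗ[F] (I → F)) ∘ₗ L ∘ₗ
      (((1 : (I → F) ≃ₗ[F] (I → F)).symm : (I → F) ≃ₗ[F] (I → F)) : (I → F) →ₗ[F] (I → F)) = L :=
  LinearMap.ext (fun _ => rfl)

/-! ### the operators `E(L)` -/

section TTsec

variable {Q : QuadraticForm F (I × J → F)} {B₁ : LinearMap.BilinForm F (I → F)}
  {B₂ : LinearMap.BilinForm F (J → F)}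

/-- the nilpotent part of a root element of type `E(L)` -/
noncomputable def EN (hT : CT Q B₁ B₂) (w w₂ : J → F) (L : (I → F) →ₗ[F] (I → F)) :
    (I × J → F) →ₗ[F] (I × J → F) :=
  Xi B₂ (adj B₁ hT.nd₁ L) w₂ w + Xi B₂ L w w₂

variable (hT : CT Q B₁ B₂)

theorem EN_add (w w₂ : J → F) (L L' : (I → F) →ₗ[F] (I → F)) :
    EN hT w w₂ (L + L') = EN hT w w₂ L + EN hT w w₂ L' := by
  unfold EN
  rw [adj_add, Xi_add_left, Xi_add_left]
  abel

theorem EN_smul (w w₂ : J → F) (c : F) (L : (I → F) →ₗ[F] (I → F)) :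
    EN hT w w₂ (c • L) = c • EN hT w w₂ L := by
  unfold EN
  rw [adj_smul, Xi_smul_left, Xi_smul_left, smul_add]

theorem EN_neg (w w₂ : J → F) (L : (I → F) →ₗ[F] (I → F)) :
    EN hT w w₂ (-L) = -EN hT w w₂ L := by
  unfold EN
  rw [adj_neg, Xi_neg_left, Xi_neg_left, neg_add]

theorem EN_zero (w w₂ : J → F) : EN hT w w₂ 0 = 0 := by
  have := EN_smul hT w w₂ (0 : F) 0
  rw [zero_smul, zero_smul] at this
  exact this

theorem EN_comp (w w₂ : J → F) (h0 : B₂ w w₂ = 0) (L L' : (I → F) →ₗ[F] (I → F)) :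
    EN hT w w₂ L ∘ₗ EN hT w w₂ L' = 0 := by
  have h1 : B₂ w₂ w = 0 := by rw [alt_swap B₂ hT.alt₂, h0, neg_zero]
  unfold EN
  simp only [LinearMap.add_comp, LinearMap.comp_add, Xi_comp, h0, h1, hT.alt₂.self_eq_zero,
    zero_smul, add_zero]

theorem EN_conj (w w₂ : J → F) (L : (I → F) →ₗ[F] (I → F)) (t : (I → F) ≃ₗ[F] (I → F))
    (β : (J → F) ≃ₗ[F] (J → F)) (ht : ∀ x y, B₁ (t x) (t y) = B₁ x y)
    (hβ : ∀ x y, B₂ (β x) (β y) = B₂ x y) (v : I × J → F) :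
    ((krL t β : GL (I × J) F) : Matrix (I × J) (I × J) F) *ᵥ EN hT w w₂ L v =
      EN hT (β w) (β w₂)
        ((t : (I → F) →ₗ[F] (I → F)) ∘ₗ L ∘ₗ (t.symm : (I → F) →ₗ[F] (I → F)))
        (((krL t β : GL (I × J) F) : Matrix (I × J) (I × J) F) *ᵥ v) := by
  unfold EN
  rw [LinearMap.add_apply, Matrix.mulVec_add, Xi_conj t β hβ, Xi_conj t β hβ,
    adj_conj B₁ hT.nd₁ t ht, LinearMap.add_apply]

/-- the set of `L` such that `H` contains the root element `E(L)` -/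
def TT (hT : CT Q B₁ B₂) (H : Subgroup (GL (I × J) F)) (w w₂ : J → F) :
    Set ((I → F) →ₗ[F] (I → F)) :=
  {L | ∃ g ∈ H, Acts g (EN hT w w₂ L)}

variable (H : Subgroup (GL (I × J) F))

theorem TT_zero (w w₂ : J → F) : (0 : (I → F) →ₗ[F] (I → F)) ∈ TT hT H w w₂ :=
  ⟨1, H.one_mem, by rw [EN_zero]; exact Acts_one⟩

theorem TT_add (w w₂ : J → F) (h0 : B₂ w w₂ = 0) {L L' : (I → F) →ₗ[F] (I → F)}
    (hL : L ∈ TT hT H w w₂) (hL' : L' ∈ TT hT H w w₂) : L + L' ∈ TT hT H w w₂ := by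
  obtain ⟨g, hg, hgA⟩ := hL
  obtain ⟨g', hg', hgA'⟩ := hL'
  refine ⟨g * g', H.mul_mem hg hg', ?_⟩
  rw [EN_add]
  exact hgA.mul_of_comp_zero hgA' (EN_comp hT w w₂ h0 L L')

theorem TT_neg (w w₂ : J → F) (h0 : B₂ w w₂ = 0) {L : (I → F) →ₗ[F] (I → F)}
    (hL : L ∈ TT hT H w w₂) : -L ∈ TT hT H w w₂ := by
  obtain ⟨g, hg, hgA⟩ := hL
  refine ⟨g⁻¹, H.inv_mem hg, ?_⟩
  rw [EN_neg]
  exact hgA.inv (EN_comp hT w w₂ h0 L L)

theorem TT_sub (w w₂ : J → F) (h0 : B₂ w w₂ = 0) {L L' : (I → F) →ₗ[F] (I → F)}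
    (hL : L ∈ TT hT H w w₂) (hL' : L' ∈ TT hT H w w₂) : L - L' ∈ TT hT H w w₂ := by
  rw [sub_eq_add_neg]
  exact TT_add hT H w w₂ h0 hL (TT_neg hT H w w₂ h0 hL')

variable [Fintype F] (Hy : Hyp Q) (hMH : krSub I J F ⊓ Cfsg.Geo.omegaGL ⇑Q ≤ H)

include hT Hy hMH in
theorem krL_mem_H (t : (I → F) ≃ₗ[F] (I → F)) (β : (J → F) ≃ₗ[F] (J → F))
    (ht : ∀ x y, B₁ (t x) (t y) = B₁ x y) (hβ : ∀ x y, B₂ (β x) (β y) = B₂ x y) :
    krL t β ∈ H :=
  hMH ⟨krL_mem _ _, krL_mem_omegaGL hT Hy _ _ ht hβ⟩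

include Hy hMH in
theorem TT_conj (w w₂ : J → F) (t : (I → F) ≃ₗ[F] (I → F))
    (ht : ∀ x y, B₁ (t x) (t y) = B₁ x y) {L : (I → F) →ₗ[F] (I → F)}
    (hL : L ∈ TT hT H w w₂) :
    (t : (I → F) →ₗ[F] (I → F)) ∘ₗ L ∘ₗ (t.symm : (I → F) →ₗ[F] (I → F)) ∈ TT hT H w w₂ := by
  obtain ⟨g, hg, hgA⟩ := hL
  have hm := krL_mem_H hT H Hy hMH t (1 : (J → F) ≃ₗ[F] (J → F)) ht (fun _ _ => rfl)
  refine ⟨krL t 1 * g * (krL t 1)⁻¹, H.mul_mem (H.mul_mem hm hg) (H.inv_mem hm), ?_⟩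
  exact hgA.conj_krL t 1 (EN_conj hT w w₂ L t 1 ht (fun _ _ => rfl))

include Hy hMH in
theorem TT_smul (w w₂ : J → F) (h0 : B₂ w w₂ = 0) (hli : LinearIndependent F ![w, w₂]) (c : F)
    {L : (I → F) →ₗ[F] (I → F)} (hL : L ∈ TT hT H w w₂) : c • L ∈ TT hT H w w₂ := by
  by_cases hc : c = 0
  · rw [hc, zero_smul]
    exact TT_zero hT H w w₂
  obtain ⟨g, hg, hgA⟩ := hL
  obtain ⟨β, hβ, hβw, hβw₂⟩ := exists_isom_pair B₂ hT.nd₂ hT.alt₂ w w₂ (c • w) w₂ hli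
    (pair_indep_smul_left hli hc) (by rw [h0, map_smul, LinearMap.smul_apply, h0, smul_zero])
  have hm := krL_mem_H hT H Hy hMH (1 : (I → F) ≃ₗ[F] (I → F)) β (fun _ _ => rfl) hβ
  refine ⟨krL 1 β * g * (krL 1 β)⁻¹, H.mul_mem (H.mul_mem hm hg) (H.inv_mem hm), ?_⟩
  have := hgA.conj_krL 1 β (EN_conj hT w w₂ L 1 β (fun _ _ => rfl) hβ)
  apply this.congr
  rw [hβw, hβw₂, one_conj_lin]
  unfold EN
  rw [Xi_smul_p, Xi_smul_q, adj_smul, Xi_smul_left, Xi_smul_left]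

include Hy hMH in
/-- the derivation `L ↦ t L t⁻¹ - L` for a transvection `t` -/
theorem TT_D (w w₂ : J → F) (h0 : B₂ w w₂ = 0) (u : I → F) (c : F)
    {L : (I → F) →ₗ[F] (I → F)} (hL : L ∈ TT hT H w w₂) :
    c • (rk B₁ u (adj B₁ hT.nd₁ L u) - rk B₁ (L u) u) - (c ^ 2 * B₁ (L u) u) • rk B₁ u u ∈
      TT hT H w w₂ := by
  have h1 := TT_sub hT H w w₂ h0
    (TT_conj hT H Hy hMH w w₂ (tv B₁ hT.alt₁ u c) (tv_isom B₁ hT.alt₁ u c) hL) hL
  have e : (tv B₁ hT.alt₁ u c : (I → F) →ₗ[F] (I → F)) ∘ₗ L ∘ₗ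
      ((tv B₁ hT.alt₁ u c).symm : (I → F) →ₗ[F] (I → F)) - L =
      c • (rk B₁ u (adj B₁ hT.nd₁ L u) - rk B₁ (L u) u) - (c ^ 2 * B₁ (L u) u) • rk B₁ u u := by
    apply LinearMap.ext
    intro x
    simp only [LinearMap.sub_apply, LinearMap.comp_apply, LinearEquiv.coe_coe, rk_apply,
      LinearMap.smul_apply]
    rw [tv_symm_apply, tv_apply]
    simp only [map_add, map_smul, LinearMap.add_apply, LinearMap.smul_apply, smul_eq_mul]
    have e1 : B₁ (L x) u = B₁ x (adj B₁ hT.nd₁ L u) := by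
      rw [alt_swap B₁ hT.alt₁ (L x) u, ← adj_apply B₁ hT.nd₁ L u x,
        alt_swap B₁ hT.alt₁ (adj B₁ hT.nd₁ L u) x, neg_neg]
    rw [e1]
    module
  rw [e] at h1
  exact h1

end TTsec

end Cfsg.Agent.Lib.Helper1.TsA
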