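import Mathlib
import Cfsg.Prelude
import Cfsg.Agent.Lib.Helper1.TsA7

/-!
# The lemma `(★a)`: a radical element with non-scalar slope gives a long root element of type
`(P, O)`
-/

set_option autoImplicit false
set_option maxHeartbeats 4000000
set_option linter.unusedSimpArgs false
set_option linter.unusedVariables false
set_option linter.unusedSectionVars false

namespace Cfsg.Agent.Lib.Helper1.TsA

open Module QuadraticMap Matrix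
open Cfsg
open Cfsg.Agent.Lib.Helper5.CartanDieudonne Cfsg.Agent.Lib.Helper5.Siegel
  Cfsg.Agent.Lib.Helper5.QuadIsom Cfsg.Agent.Lib.Helper5.Eichler
  Cfsg.Agent.Lib.Helper5.OmegaSimple Cfsg.Agent.Lib.Helper5.OrthSingularMax
  Cfsg.Agent.Lib.Helper5.OrthCard Cfsg.Agent.Lib.Helper5.AltWitt
open Cfsg.Agent.Lib.Helper1.UoA
open Cfsg.Agent.Lib.Helper8.Tns

variable {I J : Type} [Fintype I] [DecidableEq I] [Fintype J] [DecidableEq J]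
  {F : Type*} [Field F]

section stara

variable {Q : QuadraticForm F (I × J → F)} {B₁ : LinearMap.BilinForm F (I → F)}
  {B₂ : LinearMap.BilinForm F (J → F)} (hT : CT Q B₁ B₂) (H : Subgroup (GL (I × J) F))

include hT in
/-- a rank one operator `u ⊗ u` in `𝔗` gives a long root element -/
theorem SPO_of_rk (w w₂ : J → F) (h0 : B₂ w w₂ = 0) (hli : LinearIndependent F ![w, w₂])
    (u : I → F) (hu : u ≠ 0) (h : rk B₁ u u ∈ TT hT H w w₂) : SPO Q B₂ H := by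
  obtain ⟨g, hg, hgA⟩ := h
  have h1 : B₂ w₂ w = 0 := by rw [alt_swap B₂ hT.alt₂, h0, neg_zero]
  have hxz : polar ⇑Q (pt u w₂) (pt u w) = 0 := by
    rw [hT.polar_pt, hT.alt₁.self_eq_zero, zero_mul]
  have hE := Acts_eich hT u u w₂ w (hT.sing_pt u w₂) hxz
  have e : g = ((eich Q (pt u w₂) (pt u w) (hT.sing_pt u w₂) hxz : ↥(isometryGroup F ⇑Q)) :
      GL (I × J) F) := by
    apply hgA.ext
    apply hE.congr
    unfold EN
    rw [adj_rk B₁ hT.nd₁ hT.alt₁, Xi_neg_left]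
    abel
  refine ⟨u, w₂, w, hu, pair_swap hli, h1, hT.sing_pt u w₂, hxz, ?_⟩
  rw [← e]
  exact hg

variable [Fintype F] (Hy : Hyp Q) (hMH : krSub I J F ⊓ Cfsg.Geo.omegaGL ⇑Q ≤ H)

include Hy hMH in
/-- over a field with more than two elements, a non-alternating element of `𝔗` produces a rank
one operator in `𝔗` -/
theorem TT_rk_of_field (w w₂ : J → F) (h0 : B₂ w w₂ = 0) (hli : LinearIndependent F ![w, w₂])
    (s : F) (hs0 : s ≠ 0) (hs1 : s ≠ 1) {L : (I → F) →ₗ[F] (I → F)} (hL : L ∈ TT hT H w w₂)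
    (u : I → F) (hκ : B₁ (L u) u ≠ 0) : rk B₁ u u ∈ TT hT H w w₂ := by
  have h1 := TT_D hT H Hy hMH w w₂ h0 u 1 hL
  have hs := TT_D hT H Hy hMH w w₂ h0 u s hL
  have h2 := TT_sub hT H w w₂ h0 hs (TT_smul hT H Hy hMH w w₂ h0 hli s h1)
  have e : s • (rk B₁ u (adj B₁ hT.nd₁ L u) - rk B₁ (L u) u) - (s ^ 2 * B₁ (L u) u) • rk B₁ u u -
      s • ((1 : F) • (rk B₁ u (adj B₁ hT.nd₁ L u) - rk B₁ (L u) u) -
        ((1 : F) ^ 2 * B₁ (L u) u) • rk B₁ u u) =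
      ((s - s ^ 2) * B₁ (L u) u) • rk B₁ u u := by
    module
  rw [e] at h2
  have hne : (s - s ^ 2) * B₁ (L u) u ≠ 0 := by
    apply mul_ne_zero _ hκ
    have : s - s ^ 2 = s * (1 - s) := by ring
    rw [this]
    exact mul_ne_zero hs0 (sub_ne_zero.mpr (Ne.symm hs1))
  have h3 := TT_smul hT H Hy hMH w w₂ h0 hli ((s - s ^ 2) * B₁ (L u) u)⁻¹ h2
  rw [smul_smul, inv_mul_cancel₀ hne, one_smul] at h3
  exact h3

include Hy hMH in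
/-- a rank two element `κ₁ u' ⊗ u + κ₂ u ⊗ u'` of `𝔗` produces a long root element -/
theorem SPO_of_pair (hJ : 5 ≤ Fintype.card J) (w w₂ : J → F) (h0 : B₂ w w₂ = 0)
    (hli : LinearIndependent F ![w, w₂]) (u u' : I → F) (hli₁ : LinearIndependent F ![u, u'])
    (huu : B₁ u u' = 0) (κ₁ κ₂ : F) (hκ₁ : κ₁ ≠ 0)
    (h : κ₁ • rk B₁ u' u + κ₂ • rk B₁ u u' ∈ TT hT H w w₂) : SPO Q B₂ H := by
  obtain ⟨g, hg, hgA⟩ := h
  have hu : u ≠ 0 := by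
    have := hli₁.ne_zero 0
    simpa using this
  have hw₂w : B₂ w₂ w = 0 := by rw [alt_swap B₂ hT.alt₂, h0, neg_zero]
  -- the vector `ũ'`
  obtain ⟨ut, hut⟩ := exists_prescribed B₁ hT.nd₁ ![u, u'] hli₁ ![0, 1]
  have hut0 : B₁ u ut = 0 := by simpa using hut 0
  have hut1 : B₁ u' ut = 1 := by simpa using hut 1
  have hutu : B₁ ut u = 0 := by rw [alt_swap B₁ hT.alt₁, hut0, neg_zero]
  have hutu' : B₁ ut u' = -1 := by rw [alt_swap B₁ hT.alt₁, hut1]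
  have hu'u : B₁ u' u = 0 := by rw [alt_swap B₁ hT.alt₁, huu, neg_zero]
  have hliu : LinearIndependent F ![u, ut] :=
    pair_indep_of_form B₁ hu huu (by rw [hutu']; simp)
  obtain ⟨α, hα, hαu, hαu'⟩ := exists_isom_pair B₁ hT.nd₁ hT.alt₁ u u' u ut hli₁ hliu
    (by rw [huu, hut0])
  -- the vectors `w̃₂` and `w̃`
  obtain ⟨wt₂, hwt₂o, hwt₂s⟩ := exists_perp_not_mem_span B₂ hT.nd₂ ![w, w₂]
    (by rw [finrank_fintype_fun_eq_card]; omega)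
  have hwwt₂ : B₂ w wt₂ = 0 := by simpa using hwt₂o 0
  have hw₂wt₂ : B₂ w₂ wt₂ = 0 := by simpa using hwt₂o 1
  have hwt₂w : B₂ wt₂ w = 0 := by rw [alt_swap B₂ hT.alt₂, hwwt₂, neg_zero]
  have hwt₂w₂ : B₂ wt₂ w₂ = 0 := by rw [alt_swap B₂ hT.alt₂, hw₂wt₂, neg_zero]
  have hli3 := li_triple hli hwt₂s
  obtain ⟨wt, hwt⟩ := exists_prescribed B₂ hT.nd₂ ![w, w₂, wt₂] hli3 ![1, 0, 0]
  have hwwt : B₂ w wt = 1 := by simpa using hwt 0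
  have hw₂wt : B₂ w₂ wt = 0 := by simpa using hwt 1
  have hwt₂wt : B₂ wt₂ wt = 0 := by simpa using hwt 2
  have hwtw : B₂ wt w = -1 := by rw [alt_swap B₂ hT.alt₂, hwwt]
  have hwtw₂ : B₂ wt w₂ = 0 := by rw [alt_swap B₂ hT.alt₂, hw₂wt, neg_zero]
  have hwtwt₂ : B₂ wt wt₂ = 0 := by rw [alt_swap B₂ hT.alt₂, hwt₂wt, neg_zero]
  have hwt₂0 : wt₂ ≠ 0 := ne_zero_of_not_mem_span hwt₂s
  have hliw : LinearIndependent F ![wt, wt₂] :=
    pair_swap (pair_indep_of_form B₂ hwt₂0 hwt₂w (by rw [hwtw]; simp))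
  obtain ⟨β, hβ, hβw, hβw₂⟩ := exists_isom_pair B₂ hT.nd₂ hT.alt₂ w w₂ wt wt₂ hli hliw
    (by rw [h0, hwtwt₂])
  have hm := krL_mem_H hT H Hy hMH α β hα hβ
  have hgt := hgA.conj_krL α β (EN_conj hT w w₂ _ α β hα hβ)
  have hϑt : (α : (I → F) →ₗ[F] (I → F)) ∘ₗ (κ₁ • rk B₁ u' u + κ₂ • rk B₁ u u') ∘ₗ
      (α.symm : (I → F) →ₗ[F] (I → F)) = κ₁ • rk B₁ ut u + κ₂ • rk B₁ u ut := by
    apply LinearMap.ext
    intro x
    simp only [LinearMap.comp_apply, LinearEquiv.coe_coe, LinearMap.add_apply,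
      LinearMap.smul_apply, rk_apply, map_add, map_smul]
    rw [hαu, hαu', isom_symm_apply B₁ α hα x u, isom_symm_apply B₁ α hα x u', hαu, hαu']
  rw [hβw, hβw₂, hϑt] at hgt
  -- the adjoints
  have hP : adj B₁ hT.nd₁ (κ₁ • rk B₁ u' u + κ₂ • rk B₁ u u') =
      -(κ₁ • rk B₁ u u') - κ₂ • rk B₁ u' u := by
    rw [adj_add, adj_smul, adj_smul, adj_rk B₁ hT.nd₁ hT.alt₁, adj_rk B₁ hT.nd₁ hT.alt₁]
    module
  have hPt : adj B₁ hT.nd₁ (κ₁ • rk B₁ ut u + κ₂ • rk B₁ u ut) =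
      -(κ₁ • rk B₁ u ut) - κ₂ • rk B₁ ut u := by
    rw [adj_add, adj_smul, adj_smul, adj_rk B₁ hT.nd₁ hT.alt₁, adj_rk B₁ hT.nd₁ hT.alt₁]
    module
  have hc1 : (-(κ₁ • rk B₁ u u') - κ₂ • rk B₁ u' u) ∘ₗ (κ₁ • rk B₁ ut u + κ₂ • rk B₁ u ut) =
      (κ₁ ^ 2) • rk B₁ u u := by
    apply LinearMap.ext
    intro x
    simp only [LinearMap.comp_apply, LinearMap.add_apply, LinearMap.sub_apply,
      LinearMap.neg_apply, LinearMap.smul_apply, rk_apply, map_add, map_smul, smul_eq_mul,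
      hutu, hutu', huu, hT.alt₁.self_eq_zero]
    module
  have hc2 : (-(κ₁ • rk B₁ u ut) - κ₂ • rk B₁ ut u) ∘ₗ (κ₁ • rk B₁ u' u + κ₂ • rk B₁ u u') =
      -(κ₁ ^ 2) • rk B₁ u u := by
    apply LinearMap.ext
    intro x
    simp only [LinearMap.comp_apply, LinearMap.add_apply, LinearMap.sub_apply,
      LinearMap.neg_apply, LinearMap.smul_apply, rk_apply, map_add, map_smul, smul_eq_mul,
      hut0, hut1, hu'u, hT.alt₁.self_eq_zero]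
    module
  have hNN := EN_comp hT w w₂ h0 (κ₁ • rk B₁ u' u + κ₂ • rk B₁ u u')
    (κ₁ • rk B₁ u' u + κ₂ • rk B₁ u u')
  have hNtNt := EN_comp hT wt wt₂ hwtwt₂ (κ₁ • rk B₁ ut u + κ₂ • rk B₁ u ut)
    (κ₁ • rk B₁ ut u + κ₂ • rk B₁ u ut)
  have hNNt : EN hT w w₂ (κ₁ • rk B₁ u' u + κ₂ • rk B₁ u u') ∘ₗ
      EN hT wt wt₂ (κ₁ • rk B₁ ut u + κ₂ • rk B₁ u ut) =
      -Xi B₂ ((κ₁ ^ 2) • rk B₁ u u) w₂ wt₂ := by
    unfold EN
    rw [hP, hPt]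
    simp only [LinearMap.add_comp, LinearMap.comp_add, Xi_comp, hwt₂w, hwtw, hwt₂w₂, hwtw₂,
      zero_smul, add_zero, zero_add, hc1, neg_smul, one_smul]
    module
  have hNtN : EN hT wt wt₂ (κ₁ • rk B₁ ut u + κ₂ • rk B₁ u ut) ∘ₗ
      EN hT w w₂ (κ₁ • rk B₁ u' u + κ₂ • rk B₁ u u') =
      Xi B₂ (-(κ₁ ^ 2) • rk B₁ u u) wt₂ w₂ := by
    unfold EN
    rw [hP, hPt]
    simp only [LinearMap.add_comp, LinearMap.comp_add, Xi_comp, hw₂wt, hwwt, hw₂wt₂, hwwt₂,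
      zero_smul, add_zero, zero_add, hc2, one_smul]
  have h1 : EN hT w w₂ (κ₁ • rk B₁ u' u + κ₂ • rk B₁ u u') ∘ₗ
      EN hT wt wt₂ (κ₁ • rk B₁ ut u + κ₂ • rk B₁ u ut) ∘ₗ
      EN hT w w₂ (κ₁ • rk B₁ u' u + κ₂ • rk B₁ u u') = 0 := by
    rw [hNtN]
    unfold EN
    simp only [LinearMap.add_comp, Xi_comp, hwt₂w, hwt₂w₂, zero_smul, add_zero]
  have h2 : EN hT wt wt₂ (κ₁ • rk B₁ ut u + κ₂ • rk B₁ u ut) ∘ₗ
      EN hT w w₂ (κ₁ • rk B₁ u' u + κ₂ • rk B₁ u u') ∘ₗ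
      EN hT wt wt₂ (κ₁ • rk B₁ ut u + κ₂ • rk B₁ u ut) = 0 := by
    rw [hNNt]
    unfold EN
    simp only [LinearMap.add_comp, LinearMap.comp_neg, Xi_comp, hw₂wt, hw₂wt₂, zero_smul,
      add_zero, neg_zero]
  have hk := hgA.comm hgt hNN hNtNt h1 h2
  have hxz : polar ⇑Q (pt u w₂) (pt ((κ₁ ^ 2) • u) wt₂) = 0 := by
    rw [hT.polar_pt, hw₂wt₂, mul_zero]
  have hE := Acts_eich hT u ((κ₁ ^ 2) • u) w₂ wt₂ (hT.sing_pt u w₂) hxz
  have hkeq : g * (krL α β * g * (krL α β)⁻¹) * g⁻¹ * (krL α β * g * (krL α β)⁻¹)⁻¹ =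
      ((eich Q (pt u w₂) (pt ((κ₁ ^ 2) • u) wt₂) (hT.sing_pt u w₂) hxz :
        ↥(isometryGroup F ⇑Q)) : GL (I × J) F) := by
    apply hk.ext
    apply hE.congr
    rw [hNNt, hNtN]
    simp only [rk_smul_left, rk_smul_right, Xi_smul_left]
    module
  have hgtH : krL α β * g * (krL α β)⁻¹ ∈ H := H.mul_mem (H.mul_mem hm hg) (H.inv_mem hm)
  have hEH : EH Q H (pt u w₂) (pt ((κ₁ ^ 2) • u) wt₂) := by
    refine ⟨hT.sing_pt u w₂, hxz, ?_⟩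
    rw [← hkeq]
    exact H.mul_mem (H.mul_mem (H.mul_mem hg hgtH) (H.inv_mem hg)) (H.inv_mem hgtH)
  have hw₂0 : w₂ ≠ 0 := by
    have := hli.ne_zero 1
    simpa using this
  have hliw₂ : LinearIndependent F ![w₂, wt₂] := by
    apply pair_indep_of_not_smul hw₂0
    intro c hc
    apply hwt₂s
    rw [hc]
    exact Submodule.smul_mem _ _ (mem_span_pair_right w w₂)
  refine ⟨u, w₂, (κ₁ ^ 2) • wt₂, hu, pair_indep_smul_right hliw₂ (pow_ne_zero 2 hκ₁), ?_, ?_⟩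
  · rw [map_smul, hw₂wt₂, smul_zero]
  · apply EH_of_eq hEH
    rw [pt_smul_left, pt_smul_right]

include hT in
/-- step `K1`: the commutator of `g` with a root element of `krSub` -/
theorem K1 (w w₁ : J → F) (hww₁ : B₂ w w₁ = 0) (g : GL (I × J) F) (hg : IsoQ Q g)
    (θ : (I → F) →ₗ[F] (I → F))
    (hgw : ∀ u, (g : Matrix (I × J) (I × J) F) *ᵥ pt u w = pt u w)
    (hg1 : ∀ u, (g : Matrix (I × J) (I × J) F) *ᵥ pt u w₁ = pt u w₁ + pt (θ u) w) :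
    Acts (g * krL (1 : (I → F) ≃ₗ[F] (I → F)) (tv B₂ hT.alt₂ w₁ 1) * g⁻¹ *
        (krL (1 : (I → F) ≃ₗ[F] (I → F)) (tv B₂ hT.alt₂ w₁ 1))⁻¹)
      (Xi B₂ (adj B₁ hT.nd₁ θ) w₁ w + Xi B₂ θ w w₁ + Xi B₂ (θ ∘ₗ adj B₁ hT.nd₁ θ) w w) := by
  have hw₁w : B₂ w₁ w = 0 := by rw [alt_swap B₂ hT.alt₂, hww₁, neg_zero]
  have hy : Acts (krL (1 : (I → F) ≃ₗ[F] (I → F)) (tv B₂ hT.alt₂ w₁ 1))
      (Xi B₂ LinearMap.id w₁ w₁) := by
    have := Acts_krL_tv_right (I := I) (J := J) (F := F) (B₂ := B₂) hT.alt₂ w₁ (1 : F)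
    rwa [one_smul] at this
  have hyy : Xi B₂ (LinearMap.id : (I → F) →ₗ[F] (I → F)) w₁ w₁ ∘ₗ
      Xi B₂ (LinearMap.id : (I → F) →ₗ[F] (I → F)) w₁ w₁ = 0 :=
    Xi_comp_zero B₂ _ _ _ _ _ _ (hT.alt₂.self_eq_zero w₁)
  have hC2w : ∀ v, C₂ B₂ w ((g : Matrix (I × J) (I × J) F) *ᵥ v) = C₂ B₂ w v := by
    intro v
    apply eq_of_B₁ hT
    intro q
    rw [← polar_pt_right hT, ← polar_pt_right hT]
    have := hg.polar_eq v (pt q w)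
    rw [hgw q] at this
    exact this
  have hC2w₁ : ∀ v, C₂ B₂ w₁ ((g : Matrix (I × J) (I × J) F) *ᵥ v) =
      C₂ B₂ w₁ v - adj B₁ hT.nd₁ θ (C₂ B₂ w v) := by
    intro v
    apply eq_of_B₁ hT
    intro q
    rw [map_sub, LinearMap.sub_apply, adj_apply, ← polar_pt_right hT, ← polar_pt_right hT,
      ← polar_pt_right hT]
    have e1 : pt q w₁ = (g : Matrix (I × J) (I × J) F) *ᵥ (pt q w₁ - pt (θ q) w) := by
      rw [Matrix.mulVec_sub, hg1 q, hgw (θ q)]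
      abel
    have e2 : polar ⇑Q ((g : Matrix (I × J) (I × J) F) *ᵥ v) (pt q w₁) =
        polar ⇑Q ((g : Matrix (I × J) (I × J) F) *ᵥ v)
          ((g : Matrix (I × J) (I × J) F) *ᵥ (pt q w₁ - pt (θ q) w)) := by rw [← e1]
    rw [e2, hg.polar_eq, polar_sub_right]
  have hconj : Acts (g * krL (1 : (I → F) ≃ₗ[F] (I → F)) (tv B₂ hT.alt₂ w₁ 1) * g⁻¹)
      (Xi B₂ LinearMap.id w₁ w₁ + Xi B₂ (adj B₁ hT.nd₁ θ) w₁ w + Xi B₂ θ w w₁ +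
        Xi B₂ (θ ∘ₗ adj B₁ hT.nd₁ θ) w w) := by
    apply hy.conj
    intro v
    simp only [LinearMap.add_apply, Xi_apply, hC2w, hC2w₁, LinearMap.id_apply,
      LinearMap.comp_apply, map_sub, pt_sub_left]
    rw [hg1]
    abel
  have h0 : (Xi B₂ LinearMap.id w₁ w₁ + Xi B₂ (adj B₁ hT.nd₁ θ) w₁ w + Xi B₂ θ w w₁ +
      Xi B₂ (θ ∘ₗ adj B₁ hT.nd₁ θ) w w) ∘ₗ (-Xi B₂ LinearMap.id w₁ w₁) = 0 := by
    simp only [LinearMap.add_comp, LinearMap.comp_neg, Xi_comp, hw₁w, hT.alt₂.self_eq_zero,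
      zero_smul, add_zero, neg_zero]
  have := hconj.mul_of_comp_zero (hy.inv hyy) h0
  apply this.congr
  abel

include hT Hy hMH in
/-- step `K2`: removing the `w₁`-part with the help of an isometry of `W` -/
theorem K2 (w w₁ w₂ : J → F) (hli : LinearIndependent F ![w, w₁]) (hww₁ : B₂ w w₁ = 0)
    (hww₂ : B₂ w w₂ = 0) (hw₁w₂ : B₂ w₁ w₂ = 0)
    (hw₂ : w₂ ∉ Submodule.span F (Set.range ![w, w₁])) (k : GL (I × J) F) (hk : k ∈ H)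
    (A Bm C : (I → F) →ₗ[F] (I → F))
    (hkA : Acts k (Xi B₂ A w₁ w + Xi B₂ Bm w w₁ + Xi B₂ C w w)) :
    ∃ E ∈ H, Acts E (Xi B₂ A w₂ w + Xi B₂ Bm w w₂) := by
  have hw0 : w ≠ 0 := by
    have := hli.ne_zero 0
    simpa using this
  have hw₁w : B₂ w₁ w = 0 := by rw [alt_swap B₂ hT.alt₂, hww₁, neg_zero]
  have hw₂w : B₂ w₂ w = 0 := by rw [alt_swap B₂ hT.alt₂, hww₂, neg_zero]
  have hli' : LinearIndependent F ![w, w₁ + w₂] := by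
    apply pair_indep_of_not_smul hw0
    intro c hc
    apply hw₂
    have : w₂ = c • w - w₁ := by rw [← hc]; abel
    rw [this]
    exact Submodule.sub_mem _ (Submodule.smul_mem _ _ (mem_span_pair_left w w₁))
      (mem_span_pair_right w w₁)
  obtain ⟨β, hβ, hβw, hβw₁⟩ := exists_isom_pair B₂ hT.nd₂ hT.alt₂ w w₁ w (w₁ + w₂) hli hli'
    (by rw [map_add, hww₁, hww₂, add_zero])
  have hm := krL_mem_H hT H Hy hMH (1 : (I → F) ≃ₗ[F] (I → F)) β (fun _ _ => rfl) hβ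
  have hconj : Acts (krL (1 : (I → F) ≃ₗ[F] (I → F)) β * k * (krL 1 β)⁻¹)
      (Xi B₂ A (w₁ + w₂) w + Xi B₂ Bm w (w₁ + w₂) + Xi B₂ C w w) := by
    apply hkA.conj_krL 1 β
    intro v
    simp only [LinearMap.add_apply, Matrix.mulVec_add, Xi_conj 1 β hβ, hβw, hβw₁, one_conj_lin]
  have hNN : (Xi B₂ A w₁ w + Xi B₂ Bm w w₁ + Xi B₂ C w w) ∘ₗ
      (Xi B₂ A w₁ w + Xi B₂ Bm w w₁ + Xi B₂ C w w) = 0 := by
    simp only [LinearMap.add_comp, LinearMap.comp_add, Xi_comp, hw₁w, hww₁, hT.alt₂.self_eq_zero,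
      zero_smul, add_zero]
  have h0 : (Xi B₂ A (w₁ + w₂) w + Xi B₂ Bm w (w₁ + w₂) + Xi B₂ C w w) ∘ₗ
      (-(Xi B₂ A w₁ w + Xi B₂ Bm w w₁ + Xi B₂ C w w)) = 0 := by
    simp only [LinearMap.add_comp, LinearMap.comp_add, LinearMap.comp_neg, Xi_comp, hw₁w, hww₁,
      hT.alt₂.self_eq_zero, map_add, LinearMap.add_apply, hw₁w₂, hww₂, zero_smul, add_zero,
      neg_zero]
  refine ⟨krL (1 : (I → F) ≃ₗ[F] (I → F)) β * k * (krL 1 β)⁻¹ * k⁻¹,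
    H.mul_mem (H.mul_mem (H.mul_mem hm hk) (H.inv_mem hm)) (H.inv_mem hk), ?_⟩
  have := hconj.mul_of_comp_zero (hkA.inv hNN) h0
  apply this.congr
  rw [Xi_add_q, Xi_add_p]
  abel

end stara

end Cfsg.Agent.Lib.Helper1.TsA
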