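import Mathlib
import Cfsg.Prelude
import Cfsg.Agent.Lib.Helper1.TsA8

/-!
# The lemma `(★a)` assembled
-/

set_option autoImplicit false
set_option maxHeartbeats 4000000
set_option linter.unusedSimpArgs false
set_option linter.unusedVariables false
set_option linter.unusedSectionVars false

namespace Cfsg.Agent.Lib.Helper1.TsA

open Module QuadraticMap Matrix
open Cfsg
open Cfsg.Agent.Lib.Helper5.CartanDieudonne Cfsg.Agent.Lib.Helper5.Siegel
  Cfsg.Agent.Lib.Helper5.QuadIsom Cfsg.Agent.Lib.Helper5.Eichler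
  Cfsg.Agent.Lib.Helper5.OmegaSimple Cfsg.Agent.Lib.Helper5.OrthSingularMax
  Cfsg.Agent.Lib.Helper5.OrthCard Cfsg.Agent.Lib.Helper5.AltWitt
open Cfsg.Agent.Lib.Helper1.UoA
open Cfsg.Agent.Lib.Helper8.Tns

variable {I J : Type} [Fintype I] [DecidableEq I] [Fintype J] [DecidableEq J]
  {F : Type*} [Field F]

section stara

variable {Q : QuadraticForm F (I × J → F)} {B₁ : LinearMap.BilinForm F (I → F)}
  {B₂ : LinearMap.BilinForm F (J → F)} (hT : CT Q B₁ B₂) (H : Subgroup (GL (I × J) F))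
  [Fintype F] (Hy : Hyp Q) (hMH : krSub I J F ⊓ Cfsg.Geo.omegaGL ⇑Q ≤ H)

include hT Hy hMH in
/-- `(★a)`: an element of `H` fixing `U ⊗ w` pointwise and moving `u ⊗ w₁` by `θ u ⊗ w` with a
non-scalar `θ` produces a long root element of type `(P, O)` -/
theorem star_a (hex : 3 ≤ Fintype.card I ∨ ∃ s : F, s ≠ 0 ∧ s ≠ 1) (hJ : 6 ≤ Fintype.card J)
    (w w₁ : J → F) (hli : LinearIndependent F ![w, w₁]) (hww₁ : B₂ w w₁ = 0)
    (g : GL (I × J) F) (hgH : g ∈ H) (hg : IsoQ Q g) (θ : (I → F) →ₗ[F] (I → F))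
    (hgw : ∀ u, (g : Matrix (I × J) (I × J) F) *ᵥ pt u w = pt u w)
    (hg1 : ∀ u, (g : Matrix (I × J) (I × J) F) *ᵥ pt u w₁ = pt u w₁ + pt (θ u) w)
    (hns : ¬ ∃ c : F, θ = c • LinearMap.id) : SPO Q B₂ H := by
  have hw0 : w ≠ 0 := by
    have := hli.ne_zero 0
    simpa using this
  obtain ⟨w₂, hw₂o, hw₂s⟩ := exists_perp_not_mem_span B₂ hT.nd₂ ![w, w₁]
    (by rw [finrank_fintype_fun_eq_card]; omega)
  have hww₂ : B₂ w w₂ = 0 := by simpa using hw₂o 0
  have hw₁w₂ : B₂ w₁ w₂ = 0 := by simpa using hw₂o 1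
  have hyH : krL (1 : (I → F) ≃ₗ[F] (I → F)) (tv B₂ hT.alt₂ w₁ 1) ∈ H :=
    krL_mem_H hT H Hy hMH _ _ (fun _ _ => rfl) (tv_isom B₂ hT.alt₂ w₁ 1)
  have hk := K1 hT w w₁ hww₁ g hg θ hgw hg1
  have hkH : g * krL (1 : (I → F) ≃ₗ[F] (I → F)) (tv B₂ hT.alt₂ w₁ 1) * g⁻¹ *
      (krL (1 : (I → F) ≃ₗ[F] (I → F)) (tv B₂ hT.alt₂ w₁ 1))⁻¹ ∈ H :=
    H.mul_mem (H.mul_mem (H.mul_mem hgH hyH) (H.inv_mem hgH)) (H.inv_mem hyH)
  obtain ⟨E, hEH, hEA⟩ := K2 hT H Hy hMH w w₁ w₂ hli hww₁ hww₂ hw₁w₂ hw₂s _ hkH _ _ _ hk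
  have hθT : θ ∈ TT hT H w w₂ := ⟨E, hEH, hEA⟩
  have hliww₂ : LinearIndependent F ![w, w₂] := by
    apply pair_indep_of_not_smul hw0
    intro c hc
    apply hw₂s
    rw [hc]
    exact Submodule.smul_mem _ _ (mem_span_pair_left w w₁)
  by_cases hA : ∃ u, B₁ (θ u) u ≠ 0
  · obtain ⟨u, hκ⟩ := hA
    have hu : u ≠ 0 := by
      intro h0
      apply hκ
      simp [h0]
    rcases hex with h3 | ⟨s, hs0, hs1⟩
    · -- the double derivation
      have hL₁ := TT_D hT H Hy hMH w w₂ hww₂ u 1 hθT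
      obtain ⟨u'', hu''o, hu''s⟩ := exists_perp_not_mem_span B₁ hT.nd₁ ![u]
        (by rw [finrank_fintype_fun_eq_card]; omega)
      have huu'' : B₁ u u'' = 0 := by simpa using hu''o 0
      obtain ⟨u', huu', hu's, hκ₁⟩ : ∃ u', B₁ u u' = 0 ∧
          u' ∉ Submodule.span F (Set.range ![u]) ∧ B₁ (θ u) u' ≠ 0 := by
        by_cases h : B₁ (θ u) u'' = 0
        · refine ⟨u'' + u, ?_, ?_, ?_⟩
          · rw [map_add, huu'', hT.alt₁.self_eq_zero, add_zero]
          · intro hmem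
            apply hu''s
            have : u'' = (u'' + u) - u := by abel
            rw [this]
            exact Submodule.sub_mem _ hmem (Submodule.subset_span ⟨0, rfl⟩)
          · rw [map_add, h, zero_add]
            exact hκ
        · exact ⟨u'', huu'', hu''s, h⟩
      have hu'u : B₁ u' u = 0 := by rw [alt_swap B₁ hT.alt₁, huu', neg_zero]
      have hL₂ := TT_D hT H Hy hMH w w₂ hww₂ u' 1 hL₁
      obtain ⟨L₁, hL₁def⟩ : ∃ L₁ : (I → F) →ₗ[F] (I → F), L₁ =
          (1 : F) • (rk B₁ u (adj B₁ hT.nd₁ θ u) - rk B₁ (θ u) u) -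
            ((1 : F) ^ 2 * B₁ (θ u) u) • rk B₁ u u := ⟨_, rfl⟩
      rw [← hL₁def] at hL₂ hL₁
      have e1 : L₁ u' = B₁ u' (adj B₁ hT.nd₁ θ u) • u := by
        rw [hL₁def]
        simp only [LinearMap.sub_apply, LinearMap.smul_apply, rk_apply, hu'u, zero_smul,
          smul_zero, sub_zero, one_smul]
      have e2 : adj B₁ hT.nd₁ L₁ u' = B₁ u' (θ u) • u := by
        apply eq_of_B₁ hT
        intro y
        rw [adj_apply, hL₁def]
        simp only [LinearMap.sub_apply, LinearMap.smul_apply, rk_apply, map_sub, map_smul,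
          smul_eq_mul, hu'u, mul_zero, sub_zero, zero_sub, one_mul, LinearMap.smul_apply]
        rw [alt_swap B₁ hT.alt₁ y u]
        ring
      have e3 : B₁ (L₁ u') u' = 0 := by
        rw [e1, map_smul, LinearMap.smul_apply, huu', smul_zero]
      rw [e3, e1, e2, mul_zero, zero_smul, sub_zero, one_smul, rk_smul_right, rk_smul_left]
        at hL₂
      have e : B₁ u' (θ u) • rk B₁ u' u - B₁ u' (adj B₁ hT.nd₁ θ u) • rk B₁ u u' =
          B₁ u' (θ u) • rk B₁ u' u + (-(B₁ u' (adj B₁ hT.nd₁ θ u))) • rk B₁ u u' := by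
        module
      rw [e] at hL₂
      have hli₁ : LinearIndependent F ![u, u'] := by
        apply pair_indep_of_not_smul hu
        intro c hc
        apply hu's
        rw [hc]
        exact Submodule.smul_mem _ _ (Submodule.subset_span ⟨0, rfl⟩)
      exact SPO_of_pair hT H Hy hMH (by omega) w w₂ hww₂ hliww₂ u u' hli₁ huu' _ _
        (by
          rw [alt_swap B₁ hT.alt₁]
          exact neg_ne_zero.mpr hκ₁) hL₂
    · exact SPO_of_rk hT H w w₂ hww₂ hliww₂ u hu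
        (TT_rk_of_field hT H Hy hMH w w₂ hww₂ hliww₂ s hs0 hs1 hθT u hκ)
  · push Not at hA
    -- `θ` is alternating, hence self-adjoint
    have hsa : ∀ x y, B₁ (θ x) y = B₁ x (θ y) := by
      intro x y
      have h1 := hA (x + y)
      simp only [map_add, LinearMap.add_apply] at h1
      rw [hA x, hA y] at h1
      rw [alt_swap B₁ hT.alt₁ x (θ y)]
      linear_combination h1
    have hadj : adj B₁ hT.nd₁ θ = θ := adj_eq B₁ hT.nd₁ θ θ hsa
    have hex' : ∃ u : I → F, ∀ c : F, θ u ≠ c • u := by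
      by_contra hcon
      push Not at hcon
      exact hns (lin_scalar_of_forall_eigen θ hcon)
    obtain ⟨u, hu'⟩ := hex'
    have hu : u ≠ 0 := by
      intro h0
      apply hu' 0
      rw [h0, map_zero, smul_zero]
    have hli₁ : LinearIndependent F ![u, θ u] := pair_indep_of_not_smul hu hu'
    have huu' : B₁ u (θ u) = 0 := by rw [alt_swap B₁ hT.alt₁, hA u, neg_zero]
    have hL₁ := TT_D hT H Hy hMH w w₂ hww₂ u 1 hθT
    rw [hadj, hA u, mul_zero, zero_smul, sub_zero, one_smul] at hL₁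
    have e : rk B₁ u (θ u) - rk B₁ (θ u) u = (-1 : F) • rk B₁ (θ u) u + (1 : F) • rk B₁ u (θ u) := by
      module
    rw [e] at hL₁
    exact SPO_of_pair hT H Hy hMH (by omega) w w₂ hww₂ hliww₂ u (θ u) hli₁ huu' _ _
      (by simp) hL₁

end stara

end Cfsg.Agent.Lib.Helper1.TsA
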