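import Mathlib
import Cfsg.Prelude
import Cfsg.Agent.Lib.Helper1.TsA9

/-!
# The radical of the stabiliser of `U ⊗ w` inside an overgroup `H`
-/

set_option autoImplicit false
set_option maxHeartbeats 4000000
set_option linter.unusedSimpArgs false
set_option linter.unusedVariables false
set_option linter.unusedSectionVars false

namespace Cfsg.Agent.Lib.Helper1.TsA

open Module QuadraticMap Matrix
open Cfsg
open Cfsg.Agent.Lib.Helper5.CartanDieudonne Cfsg.Agent.Lib.Helper5.Siegel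
  Cfsg.Agent.Lib.Helper5.QuadIsom Cfsg.Agent.Lib.Helper5.Eichler
  Cfsg.Agent.Lib.Helper5.OmegaSimple Cfsg.Agent.Lib.Helper5.OrthSingularMax
  Cfsg.Agent.Lib.Helper5.OrthCard Cfsg.Agent.Lib.Helper5.AltWitt
open Cfsg.Agent.Lib.Helper1.UoA
open Cfsg.Agent.Lib.Helper8.Tns

variable {I J : Type} [Fintype I] [DecidableEq I] [Fintype J] [DecidableEq J]
  {F : Type*} [Field F]

/-! ### the symplectic elements `ρ_z` -/

section rhosec

variable {V : Type*} [AddCommGroup V] [Module F V] (B : LinearMap.BilinForm F V) (hA : B.IsAlt)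

/-- the isometry `v ↦ v + B(v, z) w + B(v, w) z` for `z ⊥ w` -/
noncomputable def rho (w z : V) : V ≃ₗ[F] V :=
  tv B hA (w + z) 1 * tv B hA w (-1) * tv B hA z (-1)

theorem rho_isom (w z : V) (x y : V) : B (rho B hA w z x) (rho B hA w z y) = B x y := by
  unfold rho
  rw [LinearEquiv.mul_apply, LinearEquiv.mul_apply, LinearEquiv.mul_apply, LinearEquiv.mul_apply,
    tv_isom, tv_isom, tv_isom]

theorem rho_apply (w z : V) (hwz : B w z = 0) (v : V) :
    rho B hA w z v = v + B v z • w + B v w • z := by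
  have hzw : B z w = 0 := by rw [← hA.neg_eq, hwz, neg_zero]
  unfold rho
  rw [LinearEquiv.mul_apply, LinearEquiv.mul_apply, tv_apply, tv_apply, tv_apply]
  simp only [map_add, map_smul, LinearMap.add_apply, LinearMap.smul_apply, smul_eq_mul,
    hA.self_eq_zero, hwz, hzw, mul_zero, add_zero, zero_add, mul_one, one_mul]
  module

end rhosec

/-! ### extending a similitude of `w^⊥` -/

section gammasec

variable {V : Type*} [AddCommGroup V] [Module F V] [FiniteDimensional F V]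
  (B : LinearMap.BilinForm F V)

/-- the projection onto `{w, ws}^⊥` -/
def piW (w ws : V) : V →ₗ[F] V :=
  LinearMap.id - (B.flip ws).smulRight w - (B w).smulRight ws

theorem piW_apply (w ws x : V) : piW B w ws x = x - B x ws • w - B w x • ws := by
  simp [piW]

theorem form_decomp (hA : B.IsAlt) (w ws : V) (hws : B w ws = 1) (x x' : V) :
    B x x' = B x ws * B w x' - B w x * B x' ws + B (piW B w ws x) (piW B w ws x') := by
  rw [piW_apply, piW_apply]
  simp only [map_sub, map_smul, LinearMap.sub_apply, LinearMap.smul_apply, smul_eq_mul,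
    hA.self_eq_zero, hws]
  rw [alt_swap B hA x w, alt_swap B hA ws x', alt_swap B hA ws w, hws]
  ring

/-- extension of a similitude of `w^⊥` (modulo `w`) to a similitude of the whole space -/
theorem exists_gamma (hB : B.Nondegenerate) (hA : B.IsAlt) (w ws : V) (hws : B w ws = 1)
    (δ : V →ₗ[F] V) (ν : F) (hν : ν ≠ 0) (hδw : δ w = w)
    (hδp : ∀ x, B w x = 0 → B w (δ x) = 0)
    (hδs : ∀ x x', B w x = 0 → B w x' = 0 → B (δ x) (δ x') = ν * B x x') :
    ∃ γ : V ≃ₗ[F] V, (∀ x x', B (γ x) (γ x') = ν * B x x') ∧ γ w = w ∧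
      ∀ x, B w x = 0 → ∃ c : F, γ x = δ x + c • w := by
  obtain ⟨γL, hγL⟩ : ∃ γL : V →ₗ[F] V, γL = (B.flip ws).smulRight w +
      ν • (B w).smulRight ws + piW B w ws ∘ₗ δ ∘ₗ piW B w ws := ⟨_, rfl⟩
  have hγa : ∀ x, γL x = B x ws • w + (ν * B w x) • ws + piW B w ws (δ (piW B w ws x)) := by
    intro x
    rw [hγL]
    simp [mul_smul]
  have hwsw : B ws w = -1 := by rw [alt_swap B hA, hws]
  have hp1 : ∀ x, B w (piW B w ws x) = 0 := by
    intro x
    rw [piW_apply]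
    simp only [map_sub, map_smul, smul_eq_mul, hA.self_eq_zero, hws]
    ring
  have hp2 : ∀ x, B (piW B w ws x) ws = 0 := by
    intro x
    rw [piW_apply]
    simp only [map_sub, map_smul, LinearMap.sub_apply, LinearMap.smul_apply, smul_eq_mul,
      hA.self_eq_zero, hws]
    ring
  have hp3 : ∀ x, B (piW B w ws x) w = 0 := by
    intro x
    rw [alt_swap B hA, hp1, neg_zero]
  have hp4 : ∀ x, B ws (piW B w ws x) = 0 := by
    intro x
    rw [alt_swap B hA, hp2, neg_zero]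
  have hg1 : ∀ x, B (γL x) ws = B x ws := by
    intro x
    rw [hγa]
    simp only [map_add, map_smul, LinearMap.add_apply, LinearMap.smul_apply, smul_eq_mul,
      hA.self_eq_zero, hws, hp2]
    ring
  have hg2 : ∀ x, B w (γL x) = ν * B w x := by
    intro x
    rw [hγa]
    simp only [map_add, map_smul, smul_eq_mul, hA.self_eq_zero, hws, hp1]
    ring
  have hg3 : ∀ x, piW B w ws (γL x) = piW B w ws (δ (piW B w ws x)) := by
    intro x
    rw [piW_apply (x := γL x), hg1, hg2]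
    nth_rewrite 1 [hγa]
    module
  have hsim : ∀ x x', B (γL x) (γL x') = ν * B x x' := by
    intro x x'
    rw [form_decomp B hA w ws hws (γL x) (γL x'), hg1, hg2, hg2, hg1, hg3, hg3]
    have e1 := form_decomp B hA w ws hws (δ (piW B w ws x)) (δ (piW B w ws x'))
    rw [hδp _ (hp1 x), hδp _ (hp1 x'), hδs _ _ (hp1 x) (hp1 x')] at e1
    have e2 := form_decomp B hA w ws hws x x'
    linear_combination (-1 : F) * e1 - ν * e2
  have hinj : Function.Injective γL := by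
    rw [← LinearMap.ker_eq_bot, LinearMap.ker_eq_bot']
    intro x hx
    apply hB.1
    intro x'
    have := hsim x x'
    rw [hx, map_zero, LinearMap.zero_apply] at this
    rcases mul_eq_zero.mp this.symm with h | h
    · exact absurd h hν
    · exact h
  refine ⟨LinearEquiv.ofInjectiveEndo γL hinj, ?_, ?_, ?_⟩
  · intro x x'
    exact hsim x x'
  · show γL w = w
    rw [hγa, hws, hA.self_eq_zero]
    have : piW B w ws w = 0 := by
      rw [piW_apply, hws, hA.self_eq_zero]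
      simp
    rw [this, map_zero, map_zero]
    simp
  · intro x hx
    refine ⟨B x ws - B (δ x) ws, ?_⟩
    show γL x = _
    rw [hγa, hx]
    have e1 : piW B w ws x = x - B x ws • w := by
      rw [piW_apply, hx]
      simp
    have e2 : δ (piW B w ws x) = δ x - B x ws • w := by
      rw [e1, map_sub, map_smul, hδw]
    have e3 : B w (δ x - B x ws • w) = 0 := by
      rw [map_sub, map_smul, hA.self_eq_zero, hδp x hx]
      simp
    rw [e2, piW_apply, e3]
    simp only [map_sub, map_smul, LinearMap.sub_apply, LinearMap.smul_apply, smul_eq_mul, hwsw,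
      hws, mul_one]
    module

end gammasec

section radsec

variable {Q : QuadraticForm F (I × J → F)} {B₁ : LinearMap.BilinForm F (I → F)}
  {B₂ : LinearMap.BilinForm F (J → F)} (hT : CT Q B₁ B₂) (H : Subgroup (GL (I × J) F))
  [Fintype F] (Hy : Hyp Q) (hMH : krSub I J F ⊓ Cfsg.Geo.omegaGL ⇑Q ≤ H)

include hT Hy hMH in
/-- without long root elements of type `(P, O)`, slopes are scalar -/
theorem slope_scalar (hex : 3 ≤ Fintype.card I ∨ ∃ s : F, s ≠ 0 ∧ s ≠ 1)
    (hJ : 6 ≤ Fintype.card J) (hPO : ¬ SPO Q B₂ H)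
    (w w₁ : J → F) (hw : w ≠ 0) (hww₁ : B₂ w w₁ = 0)
    (g : GL (I × J) F) (hgH : g ∈ H) (hg : IsoQ Q g) (θ : (I → F) →ₗ[F] (I → F))
    (hgw : ∀ u, (g : Matrix (I × J) (I × J) F) *ᵥ pt u w = pt u w)
    (hg1 : ∀ u, (g : Matrix (I × J) (I × J) F) *ᵥ pt u w₁ = pt u w₁ + pt (θ u) w) :
    ∃ c : F, θ = c • LinearMap.id := by
  by_cases hli : LinearIndependent F ![w, w₁]
  · by_contra hns
    exact hPO (star_a hT H Hy hMH hex hJ w w₁ hli hww₁ g hgH hg θ hgw hg1 hns)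
  · rw [LinearIndependent.pair_iff' hw] at hli
    push Not at hli
    obtain ⟨a, ha⟩ := hli
    refine ⟨0, ?_⟩
    apply LinearMap.ext
    intro u
    rw [LinearMap.smul_apply, zero_smul]
    have h1 := hg1 u
    rw [← ha, pt_smul_right, Matrix.mulVec_smul, hgw u] at h1
    have h2 : pt (θ u) w = pt (0 : I → F) w := by
      rw [pt_zero_left]
      have := congrArg (fun x => x - a • pt u w) h1
      simp only [sub_self, add_sub_cancel_left] at this
      exact this.symm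
    exact pt_left_injective hw h2

include hT Hy hMH in
/-- `R ∩ H ≤ krSub`: an element of `H` in the unipotent radical of the stabiliser of `U ⊗ w`
is a Kronecker product, unless `H` contains long root elements -/
theorem rad_mem_krSub (hex : 3 ≤ Fintype.card I ∨ ∃ s : F, s ≠ 0 ∧ s ≠ 1)
    (hI : 1 ≤ Fintype.card I) (hJ : 6 ≤ Fintype.card J)
    (hPO : ¬ SPO Q B₂ H) (hOP : ¬ SOP Q B₁ H) (w : J → F) (hw : w ≠ 0)
    (r : GL (I × J) F) (hrH : r ∈ H) (hr : IsoQ Q r)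
    (hfix : ∀ u, (r : Matrix (I × J) (I × J) F) *ᵥ pt u w = pt u w)
    (hmove : ∀ (u : I → F) (w₁ : J → F), B₂ w w₁ = 0 →
      ∃ u'' : I → F, (r : Matrix (I × J) (I × J) F) *ᵥ pt u w₁ = pt u w₁ + pt u'' w) :
    r ∈ krSub I J F := by
  obtain ⟨ws, hws⟩ := exists_partner B₂ hT.nd₂ w hw 1
  obtain ⟨i₀⟩ : Nonempty I := by
    rw [← Fintype.card_pos_iff]
    omega
  have hu₀ : (Pi.single i₀ (1 : F) : I → F) ≠ 0 := single_ne_zero' i₀
  obtain ⟨us, hus⟩ := exists_partner B₁ hT.nd₁ _ hu₀ 1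
  -- the slopes
  obtain ⟨θ, hθ⟩ : ∃ θ : (J → F) → (I → F) →ₗ[F] (I → F), ∀ w₁, θ w₁ =
      C₂ B₂ ws ∘ₗ (Matrix.mulVecLin (r : Matrix (I × J) (I × J) F) - LinearMap.id) ∘ₗ ptL w₁ :=
    ⟨_, fun _ => rfl⟩
  have hθ1 : ∀ (w₁ : J → F), B₂ w w₁ = 0 → ∀ u,
      (r : Matrix (I × J) (I × J) F) *ᵥ pt u w₁ = pt u w₁ + pt (θ w₁ u) w := by
    intro w₁ hw₁ u
    obtain ⟨u'', hu''⟩ := hmove u w₁ hw₁
    have : θ w₁ u = u'' := by
      rw [hθ]
      simp only [LinearMap.comp_apply, LinearMap.sub_apply, ptL_apply, Matrix.mulVecLin_apply,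
        LinearMap.id_apply]
      rw [hu'', add_sub_cancel_left, C₂_pt, hws, one_smul]
    rw [this, hu'']
  have hθ2 : ∀ (w₁ : J → F), B₂ w w₁ = 0 → ∃ c : F, θ w₁ = c • LinearMap.id := by
    intro w₁ hw₁
    exact slope_scalar hT H Hy hMH hex hJ hPO w w₁ hw hw₁ r hrH hr (θ w₁) hfix (hθ1 w₁ hw₁)
  -- the functional `τ`
  obtain ⟨τ, hτ⟩ : ∃ τ : (J → F) →ₗ[F] F, τ = (B₁.flip us) ∘ₗ C₂ B₂ ws ∘ₗ
      (Matrix.mulVecLin (r : Matrix (I × J) (I × J) F) - LinearMap.id) ∘ₗ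
        ptR (Pi.single i₀ (1 : F)) := ⟨_, rfl⟩
  have hτ1 : ∀ w₁, τ w₁ = B₁ (θ w₁ (Pi.single i₀ 1)) us := by
    intro w₁
    rw [hτ, hθ]
    rfl
  obtain ⟨z, hz⟩ := exists_repr B₂ hT.nd₂ τ
  have hτ2 : ∀ (w₁ : J → F), B₂ w w₁ = 0 → θ w₁ = B₂ w₁ z • LinearMap.id := by
    intro w₁ hw₁
    obtain ⟨c, hc⟩ := hθ2 w₁ hw₁
    rw [hc, hz, hτ1, hc, LinearMap.smul_apply, LinearMap.id_apply, map_smul,
      LinearMap.smul_apply, hus, smul_eq_mul, mul_one]
  have hwz : B₂ w z = 0 := by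
    rw [hz, hτ1]
    have h1 := hθ1 w (hT.alt₂.self_eq_zero w) (Pi.single i₀ 1)
    rw [hfix] at h1
    have h2 : pt (θ w (Pi.single i₀ 1)) w = pt (0 : I → F) w := by
      rw [pt_zero_left]
      have := congrArg (fun x => x - pt (Pi.single i₀ (1 : F)) w) h1
      simp only [sub_self, add_sub_cancel_left] at this
      exact this.symm
    rw [pt_left_injective hw h2, map_zero, LinearMap.zero_apply]
  have hmove' : ∀ (u : I → F) (w₁ : J → F), B₂ w w₁ = 0 →
      (r : Matrix (I × J) (I × J) F) *ᵥ pt u w₁ = pt u w₁ + B₂ w₁ z • pt u w := by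
    intro u w₁ hw₁
    rw [hθ1 w₁ hw₁ u, hτ2 w₁ hw₁, LinearMap.smul_apply, LinearMap.id_apply, pt_smul_left]
  -- the matching element of `krSub`
  have hρH : krL (1 : (I → F) ≃ₗ[F] (I → F)) (rho B₂ hT.alt₂ w z) ∈ H :=
    krL_mem_H hT H Hy hMH _ _ (fun _ _ => rfl) (rho_isom B₂ hT.alt₂ w z)
  have hρiso : IsoQ Q (krL (1 : (I → F) ≃ₗ[F] (I → F)) (rho B₂ hT.alt₂ w z)) :=
    krL_iso hT _ _ (fun _ _ => rfl) (rho_isom B₂ hT.alt₂ w z)
  have hρ1 : ∀ (u : I → F) (w₁ : J → F), B₂ w w₁ = 0 →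
      ((krL (1 : (I → F) ≃ₗ[F] (I → F)) (rho B₂ hT.alt₂ w z) : GL (I × J) F) :
        Matrix (I × J) (I × J) F) *ᵥ pt u w₁ = pt u w₁ + B₂ w₁ z • pt u w := by
    intro u w₁ hw₁
    have e1 : (1 : (I → F) ≃ₗ[F] (I → F)) u = u := rfl
    have hw₁w : B₂ w₁ w = 0 := by rw [alt_swap B₂ hT.alt₂, hw₁, neg_zero]
    rw [krL_pt, e1, rho_apply B₂ hT.alt₂ w z hwz, hw₁w, zero_smul, add_zero, pt_add_right,
      pt_smul_right]
  have hζfix : ∀ (u : I → F) (w₁ : J → F), B₂ w w₁ = 0 →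
      (((krL (1 : (I → F) ≃ₗ[F] (I → F)) (rho B₂ hT.alt₂ w z))⁻¹ * r : GL (I × J) F) :
        Matrix (I × J) (I × J) F) *ᵥ pt u w₁ = pt u w₁ := by
    intro u w₁ hw₁
    rw [Units.val_mul, ← Matrix.mulVec_mulVec, hmove' u w₁ hw₁, ← hρ1 u w₁ hw₁,
      inv_mulVec_mulVec]
  have hζH : (krL (1 : (I → F) ≃ₗ[F] (I → F)) (rho B₂ hT.alt₂ w z))⁻¹ * r ∈ H :=
    H.mul_mem (H.inv_mem hρH) hrH
  have hζiso : IsoQ Q ((krL (1 : (I → F) ≃ₗ[F] (I → F)) (rho B₂ hT.alt₂ w z))⁻¹ * r) :=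
    hρiso.inv.mul hr
  rcases star_b hT Hy H hMH w hw _ hζH hζiso hζfix with h | ⟨c, hc⟩
  · exact absurd h hOP
  · have e : r = krL (1 : (I → F) ≃ₗ[F] (I → F)) (rho B₂ hT.alt₂ w z) *
        ((krL (1 : (I → F) ≃ₗ[F] (I → F)) (rho B₂ hT.alt₂ w z))⁻¹ * r) := by group
    rw [e, hc]
    exact (krSub I J F).mul_mem (krL_mem _ _) (krL_mem _ _)

end radsec

end Cfsg.Agent.Lib.Helper1.TsA
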