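import Mathlib
import Cfsg.Prelude
import Cfsg.Agent.Lib.Helper1.TsA10

/-!
# The stabiliser in `H` of a subspace `U ⊗ w` lies in `krSub`
-/

set_option autoImplicit false
set_option maxHeartbeats 4000000
set_option linter.unusedSimpArgs false
set_option linter.unusedVariables false
set_option linter.unusedSectionVars false

namespace Cfsg.Agent.Lib.Helper1.TsA

open Module QuadraticMap Matrix
open Cfsg
open Cfsg.Agent.Lib.Helper5.CartanDieudonne Cfsg.Agent.Lib.Helper5.Siegel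
  Cfsg.Agent.Lib.Helper5.QuadIsom Cfsg.Agent.Lib.Helper5.Eichler
  Cfsg.Agent.Lib.Helper5.OmegaSimple Cfsg.Agent.Lib.Helper5.OrthSingularMax
  Cfsg.Agent.Lib.Helper5.OrthCard Cfsg.Agent.Lib.Helper5.AltWitt
open Cfsg.Agent.Lib.Helper1.UoA
open Cfsg.Agent.Lib.Helper8.Tns

variable {I J : Type} [Fintype I] [DecidableEq I] [Fintype J] [DecidableEq J]
  {F : Type*} [Field F]

section stabsec

variable {Q : QuadraticForm F (I × J → F)} {B₁ : LinearMap.BilinForm F (I → F)}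
  {B₂ : LinearMap.BilinForm F (J → F)} (hT : CT Q B₁ B₂) (H : Subgroup (GL (I × J) F))

/-- the elements `1 ⊗ ρ_z` in the `Acts` form -/
theorem Acts_krL_rho (hA : B₂.IsAlt) (w z : J → F) (hwz : B₂ w z = 0) :
    Acts (krL (1 : (I → F) ≃ₗ[F] (I → F)) (rho B₂ hA w z))
      (Xi B₂ LinearMap.id w z + Xi B₂ LinearMap.id z w) := by
  apply Acts_of_pt
  intro u w'
  have e1 : (1 : (I → F) ≃ₗ[F] (I → F)) u = u := rfl
  rw [krL_pt, e1, rho_apply B₂ hA w z hwz, pt_add_right, pt_add_right, pt_smul_right,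
    pt_smul_right, LinearMap.add_apply, Xi_pt, Xi_pt, LinearMap.id_apply]
  abel

include hT in
/-- vectors of `U ⊗ w^⊥` are sums of pure tensors `u ⊗ w₁` with `w₁ ⊥ w` -/
theorem perp_span (w ws : J → F) (hws : B₂ w ws = 1) (v : I × J → F) (hv : C₂ B₂ w v = 0) :
    v ∈ Submodule.span F {x | ∃ (u : I → F) (w₁ : J → F), B₂ w w₁ = 0 ∧ x = pt u w₁} := by
  have key : ∀ v : I × J → F, v + pt (C₂ B₂ w v) ws ∈
      Submodule.span F {x | ∃ (u : I → F) (w₁ : J → F), B₂ w w₁ = 0 ∧ x = pt u w₁} := by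
    apply pt_induction
    · rw [map_zero, pt_zero_left, add_zero]
      exact Submodule.zero_mem _
    · intro x y hx hy
      have : x + y + pt (C₂ B₂ w (x + y)) ws =
          (x + pt (C₂ B₂ w x) ws) + (y + pt (C₂ B₂ w y) ws) := by
        rw [map_add, pt_add_left]
        abel
      rw [this]
      exact Submodule.add_mem _ hx hy
    · intro u w'
      apply Submodule.subset_span
      refine ⟨u, w' + B₂ w' w • ws, ?_, ?_⟩
      · rw [map_add, map_smul, hws, smul_eq_mul, mul_one, alt_swap B₂ hT.alt₂ w' w]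
        ring
      · rw [C₂_pt, pt_smul_left, pt_add_right, pt_smul_right]
  have := key v
  rw [hv, pt_zero_left, add_zero] at this
  exact this

variable [Fintype F] (Hy : Hyp Q) (hMH : krSub I J F ⊓ Cfsg.Geo.omegaGL ⇑Q ≤ H)

include hT Hy hMH in
/-- the stabiliser of `U ⊗ w` in `H` lies in `krSub` -/
theorem stab_mem_aux (hH : H ≤ Cfsg.Geo.omegaGL ⇑Q)
    (hex : 3 ≤ Fintype.card I ∨ ∃ s : F, s ≠ 0 ∧ s ≠ 1)
    (hI : 1 ≤ Fintype.card I) (hJ : 6 ≤ Fintype.card J)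
    (hPO : ¬ SPO Q B₂ H) (hOP : ¬ SOP Q B₁ H) (h : GL (I × J) F) (hh : h ∈ H)
    (w : J → F) (hw : w ≠ 0)
    (hmap : ∀ u : I → F, ∃ u' : I → F,
      (h : Matrix (I × J) (I × J) F) *ᵥ pt u w = pt u' w) : h ∈ krSub I J F := by
  have hhiso : IsoQ Q h := isoQ_of_mem_omegaGL (hH hh)
  have hhinv : IsoQ Q h⁻¹ := hhiso.inv
  obtain ⟨ws, hws⟩ := exists_partner B₂ hT.nd₂ w hw 1
  -- the map `α`
  obtain ⟨αL, hαLdef⟩ : ∃ αL : (I → F) →ₗ[F] (I → F), αL =
      C₂ B₂ ws ∘ₗ Matrix.mulVecLin (h : Matrix (I × J) (I × J) F) ∘ₗ ptL w := ⟨_, rfl⟩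
  have hαL : ∀ u, (h : Matrix (I × J) (I × J) F) *ᵥ pt u w = pt (αL u) w := by
    intro u
    obtain ⟨u', hu'⟩ := hmap u
    have : αL u = u' := by
      rw [hαLdef]
      simp only [LinearMap.comp_apply, ptL_apply, Matrix.mulVecLin_apply]
      rw [hu', C₂_pt, hws, one_smul]
    rw [this, hu']
  have hαinj : Function.Injective αL := by
    rw [← LinearMap.ker_eq_bot, LinearMap.ker_eq_bot']
    intro u hu
    have h1 := hαL u
    rw [hu, pt_zero_left] at h1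
    have h2 : pt u w = 0 := by
      have := congrArg (fun x => ((h⁻¹ : GL (I × J) F) : Matrix (I × J) (I × J) F) *ᵥ x) h1
      simp only [inv_mulVec_mulVec, Matrix.mulVec_zero] at this
      exact this
    exact pt_left_injective hw (by rw [h2, pt_zero_left])
  obtain ⟨α, hα⟩ : ∃ α : (I → F) ≃ₗ[F] (I → F), ∀ u, α u = αL u :=
    ⟨LinearEquiv.ofInjectiveEndo αL hαinj, fun _ => rfl⟩
  have hα1 : ∀ u, (h : Matrix (I × J) (I × J) F) *ᵥ pt u w = pt (α u) w := by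
    intro u
    rw [hα]
    exact hαL u
  have hα2 : ∀ u, ((h⁻¹ : GL (I × J) F) : Matrix (I × J) (I × J) F) *ᵥ pt u w =
      pt (α.symm u) w := by
    intro u
    have := hα1 (α.symm u)
    rw [LinearEquiv.apply_symm_apply] at this
    rw [← this, inv_mulVec_mulVec]
  -- `h⁻¹` preserves `U ⊗ w^⊥`
  have hperp : ∀ (u : I → F) (w₁ : J → F), B₂ w w₁ = 0 →
      C₂ B₂ w (((h⁻¹ : GL (I × J) F) : Matrix (I × J) (I × J) F) *ᵥ pt u w₁) = 0 := by
    intro u w₁ hw₁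
    apply eq_of_B₁ hT
    intro q
    have hw₁w : B₂ w₁ w = 0 := by rw [alt_swap B₂ hT.alt₂, hw₁, neg_zero]
    rw [map_zero, LinearMap.zero_apply, ← polar_pt_right hT, hhiso.polar_inv, hα1, hT.polar_pt,
      hw₁w, mul_zero]
  -- the slopes are scalar
  have hslope : ∀ (z w₁ : J → F), B₂ w z = 0 → B₂ w w₁ = 0 → ∃ c : F, ∀ u,
      C₂ B₂ z (((h⁻¹ : GL (I × J) F) : Matrix (I × J) (I × J) F) *ᵥ pt u w₁) =
        c • α.symm u := by
    intro z w₁ hz hw₁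
    have hρH : krL (1 : (I → F) ≃ₗ[F] (I → F)) (rho B₂ hT.alt₂ w z) ∈ H :=
      krL_mem_H hT H Hy hMH _ _ (fun _ _ => rfl) (rho_isom B₂ hT.alt₂ w z)
    have hρiso : IsoQ Q (krL (1 : (I → F) ≃ₗ[F] (I → F)) (rho B₂ hT.alt₂ w z)) :=
      krL_iso hT _ _ (fun _ _ => rfl) (rho_isom B₂ hT.alt₂ w z)
    have hρA := Acts_krL_rho (I := I) hT.alt₂ w z hz
    obtain ⟨y, hy⟩ : ∃ y : GL (I × J) F,
        y = h * krL (1 : (I → F) ≃ₗ[F] (I → F)) (rho B₂ hT.alt₂ w z) * h⁻¹ := ⟨_, rfl⟩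
    have hyH : y ∈ H := by
      rw [hy]
      exact H.mul_mem (H.mul_mem hh hρH) (H.inv_mem hh)
    have hyiso : IsoQ Q y := by
      rw [hy]
      exact (hhiso.mul hρiso).mul hhinv
    have hyw : ∀ u, (y : Matrix (I × J) (I × J) F) *ᵥ pt u w = pt u w := by
      intro u
      have e1 : (1 : (I → F) ≃ₗ[F] (I → F)) (α.symm u) = α.symm u := rfl
      rw [hy, Units.val_mul, Units.val_mul, ← Matrix.mulVec_mulVec, ← Matrix.mulVec_mulVec, hα2,
        krL_pt, e1, rho_apply B₂ hT.alt₂ w z hz, hz, hT.alt₂.self_eq_zero, zero_smul, zero_smul,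
        add_zero, add_zero, hα1, LinearEquiv.apply_symm_apply]
    obtain ⟨θ, hθ⟩ : ∃ θ : (I → F) →ₗ[F] (I → F), θ = (α : (I → F) →ₗ[F] (I → F)) ∘ₗ
        C₂ B₂ z ∘ₗ Matrix.mulVecLin ((h⁻¹ : GL (I × J) F) : Matrix (I × J) (I × J) F) ∘ₗ
          ptL w₁ := ⟨_, rfl⟩
    have hθa : ∀ u, θ u = α (C₂ B₂ z
        (((h⁻¹ : GL (I × J) F) : Matrix (I × J) (I × J) F) *ᵥ pt u w₁)) := by
      intro u
      rw [hθ]
      rfl
    have hy1 : ∀ u, (y : Matrix (I × J) (I × J) F) *ᵥ pt u w₁ = pt u w₁ + pt (θ u) w := by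
      intro u
      rw [hy, Units.val_mul, Units.val_mul, ← Matrix.mulVec_mulVec, ← Matrix.mulVec_mulVec,
        hρA (((h⁻¹ : GL (I × J) F) : Matrix (I × J) (I × J) F) *ᵥ pt u w₁), LinearMap.add_apply,
        Xi_apply, Xi_apply, hperp u w₁ hw₁, LinearMap.id_apply, LinearMap.id_apply, pt_zero_left,
        add_zero, Matrix.mulVec_add, mulVec_inv_mulVec, hα1, hθa]
    obtain ⟨c, hc⟩ := slope_scalar hT H Hy hMH hex hJ hPO w w₁ hw hw₁ y hyH hyiso θ hyw hy1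
    refine ⟨c, fun u => ?_⟩
    have h1 : θ u = c • u := by
      rw [hc, LinearMap.smul_apply, LinearMap.id_apply]
    rw [hθa] at h1
    apply α.injective
    rw [h1, map_smul, LinearEquiv.apply_symm_apply]
  -- the map `δ`
  obtain ⟨i₀⟩ : Nonempty I := by
    rw [← Fintype.card_pos_iff]
    omega
  obtain ⟨u₀, hu₀def⟩ : ∃ u₀ : I → F, u₀ = Pi.single i₀ (1 : F) := ⟨_, rfl⟩
  have hu₀ : u₀ ≠ 0 := by
    rw [hu₀def]
    exact single_ne_zero' i₀
  have hαu₀ : α.symm u₀ ≠ 0 := (LinearEquiv.map_ne_zero_iff α.symm).mpr hu₀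
  obtain ⟨u₀', hu₀'⟩ := exists_partner B₁ hT.nd₁ _ hαu₀ 1
  obtain ⟨δ, hδdef⟩ : ∃ δ : (J → F) →ₗ[F] (J → F), δ = C₁ B₁ u₀' ∘ₗ
      Matrix.mulVecLin ((h⁻¹ : GL (I × J) F) : Matrix (I × J) (I × J) F) ∘ₗ ptR u₀ := ⟨_, rfl⟩
  have hδa : ∀ w₁, δ w₁ = C₁ B₁ u₀'
      (((h⁻¹ : GL (I × J) F) : Matrix (I × J) (I × J) F) *ᵥ pt u₀ w₁) := by
    intro w₁
    rw [hδdef]
    rfl
  have hδw : δ w = w := by
    rw [hδa, hα2, C₁_pt, hu₀', one_smul]
  have hδp : ∀ w₁, B₂ w w₁ = 0 → B₂ w (δ w₁) = 0 := by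
    intro w₁ hw₁
    rw [alt_swap B₂ hT.alt₂, hδa, ← B₁_C₂_eq hT, hperp u₀ w₁ hw₁, map_zero,
      LinearMap.zero_apply, neg_zero]
  have hδc : ∀ w₁, B₂ w w₁ = 0 → ∀ u, ∃ ε : I → F,
      ((h⁻¹ : GL (I × J) F) : Matrix (I × J) (I × J) F) *ᵥ pt u w₁ =
        pt (α.symm u) (δ w₁) + pt ε w := by
    intro w₁ hw₁ u
    have : ∃ ε : I → F, ((h⁻¹ : GL (I × J) F) : Matrix (I × J) (I × J) F) *ᵥ pt u w₁ -
        pt (α.symm u) (δ w₁) = pt ε w := by
      apply exists_pt_of_C₂_zero hT hw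
      intro z hz
      obtain ⟨c, hc⟩ := hslope z w₁ hz hw₁
      have e1 : B₂ (δ w₁) z = c := by
        rw [hδa, ← B₁_C₂_eq hT, hc u₀, map_smul, LinearMap.smul_apply, hu₀', smul_eq_mul, mul_one]
      rw [map_sub, hc u, C₂_pt, e1, sub_self]
    obtain ⟨ε, hε⟩ := this
    exact ⟨ε, by rw [← hε]; abel⟩
  -- the similitude relation
  have hS : ∀ (u u' : I → F) (w₁ w₁' : J → F), B₂ w w₁ = 0 → B₂ w w₁' = 0 →
      B₁ (α.symm u) (α.symm u') * B₂ (δ w₁) (δ w₁') = B₁ u u' * B₂ w₁ w₁' := by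
    intro u u' w₁ w₁' hw₁ hw₁'
    obtain ⟨ε, hε⟩ := hδc w₁ hw₁ u
    obtain ⟨ε', hε'⟩ := hδc w₁' hw₁' u'
    have h1 := hhinv.polar_eq (pt u w₁) (pt u' w₁')
    have h2 : B₂ (δ w₁) w = 0 := by rw [alt_swap B₂ hT.alt₂, hδp w₁ hw₁, neg_zero]
    rw [hε, hε', polar_add_left, polar_add_right, polar_add_right, hT.polar_pt, hT.polar_pt,
      hT.polar_pt, hT.polar_pt, hT.polar_pt, h2, hδp w₁' hw₁', hT.alt₂.self_eq_zero] at h1
    linear_combination h1
  -- a hyperbolic pair in `w^⊥`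
  obtain ⟨a₁, ha₁o, ha₁s⟩ := exists_perp_not_mem_span B₂ hT.nd₂ ![w]
    (by rw [finrank_fintype_fun_eq_card]; omega)
  have hwa₁ : B₂ w a₁ = 0 := by simpa using ha₁o 0
  have hlia : LinearIndependent F ![w, a₁] := by
    apply pair_indep_of_not_smul hw
    intro c hc
    apply ha₁s
    rw [hc]
    exact Submodule.smul_mem _ _ (Submodule.subset_span ⟨0, rfl⟩)
  obtain ⟨a₂, ha₂⟩ := exists_prescribed B₂ hT.nd₂ ![w, a₁] hlia ![0, 1]
  have hwa₂ : B₂ w a₂ = 0 := by simpa using ha₂ 0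
  have ha₁a₂ : B₂ a₁ a₂ = 1 := by simpa using ha₂ 1
  obtain ⟨u₂, hu₂⟩ := exists_partner B₁ hT.nd₁ u₀ hu₀ 1
  obtain ⟨ν, hνdef⟩ : ∃ ν : F, ν = B₂ (δ a₁) (δ a₂) := ⟨_, rfl⟩
  have hν1 : B₁ (α.symm u₀) (α.symm u₂) * ν = 1 := by
    have := hS u₀ u₂ a₁ a₂ hwa₁ hwa₂
    rw [hu₂, ha₁a₂, mul_one, ← hνdef] at this
    exact this
  have hν : ν ≠ 0 := by
    intro h0
    rw [h0, mul_zero] at hν1
    exact zero_ne_one hν1
  have hμ : ∀ u u', B₁ (α.symm u) (α.symm u') = ν⁻¹ * B₁ u u' := by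
    intro u u'
    have := hS u u' a₁ a₂ hwa₁ hwa₂
    rw [ha₁a₂, mul_one, ← hνdef] at this
    rw [← this, mul_comm, mul_assoc, mul_inv_cancel₀ hν, mul_one]
  have hδs : ∀ x x', B₂ w x = 0 → B₂ w x' = 0 → B₂ (δ x) (δ x') = ν * B₂ x x' := by
    intro x x' hx hx'
    have := hS u₀ u₂ x x' hx hx'
    rw [hμ, hu₂, mul_one, one_mul] at this
    rw [← this, ← mul_assoc, mul_inv_cancel₀ hν, one_mul]
  obtain ⟨γ, hγs, hγw, hγp⟩ := exists_gamma B₂ hT.nd₂ hT.alt₂ w ws hws δ ν hν hδw hδp hδs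
  -- the element `m' = α⁻¹ ⊗ γ`
  have hmiso : IsoQ Q (krL α.symm γ) := by
    apply isom_of_pt hT
    · intro u w'
      rw [krL_pt, hT.sing_pt]
    · intro u w' u' w''
      rw [krL_pt, krL_pt, hT.polar_pt, hT.polar_pt, hμ, hγs]
      field_simp
  obtain ⟨r, hr⟩ : ∃ r : GL (I × J) F, r = h * krL α.symm γ := ⟨_, rfl⟩
  have hriso : IsoQ Q r := by
    rw [hr]
    exact hhiso.mul hmiso
  have hrfix : ∀ u, (r : Matrix (I × J) (I × J) F) *ᵥ pt u w = pt u w := by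
    intro u
    rw [hr, Units.val_mul, ← Matrix.mulVec_mulVec, krL_pt, hγw, hα1,
      LinearEquiv.apply_symm_apply]
  have hrmove : ∀ (u : I → F) (w₁ : J → F), B₂ w w₁ = 0 → ∃ u'' : I → F,
      (r : Matrix (I × J) (I × J) F) *ᵥ pt u w₁ = pt u w₁ + pt u'' w := by
    intro u w₁ hw₁
    obtain ⟨c, hc⟩ := hγp w₁ hw₁
    obtain ⟨ε, hε⟩ := hδc w₁ hw₁ u
    refine ⟨c • u - α ε, ?_⟩
    have e1 : pt (α.symm u) (δ w₁) =
        ((h⁻¹ : GL (I × J) F) : Matrix (I × J) (I × J) F) *ᵥ pt u w₁ - pt ε w := by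
      rw [hε]
      abel
    rw [hr, Units.val_mul, ← Matrix.mulVec_mulVec, krL_pt, hc, pt_add_right, pt_smul_right, e1,
      Matrix.mulVec_add, Matrix.mulVec_sub, Matrix.mulVec_smul, mulVec_inv_mulVec, hα1, hα1,
      LinearEquiv.apply_symm_apply, pt_sub_left, pt_smul_left]
    abel
  -- `r` lies in `Ω`
  have hrΩ : r ∈ Cfsg.Geo.omegaGL ⇑Q := by
    obtain ⟨ps, hps⟩ := exists_partner B₂ hT.nd₂ w hw (-1)
    obtain ⟨b, hb⟩ : ∃ b : Basis (Fin (Fintype.card I)) F (I → F), b = b :=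
      ⟨(Pi.basisFun F I).reindex (Fintype.equivFin I), rfl⟩
    have key : ∀ v ∈ Submodule.span F
        {x | ∃ (u : I → F) (w₁ : J → F), B₂ w w₁ = 0 ∧ x = pt u w₁},
        (r : Matrix (I × J) (I × J) F) *ᵥ v - v ∈
          Submodule.span F (Set.range (fun i => pt (b i) w)) := by
      intro v hv
      induction hv using Submodule.span_induction with
      | mem x hx =>
        obtain ⟨u, w₁, hw₁, rfl⟩ := hx
        obtain ⟨u'', hu''⟩ := hrmove u w₁ hw₁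
        rw [hu'', add_sub_cancel_left]
        exact pt_left_mem_span b u'' w
      | zero =>
        rw [Matrix.mulVec_zero, sub_zero]
        exact Submodule.zero_mem _
      | add x y _ _ hx hy =>
        have : (r : Matrix (I × J) (I × J) F) *ᵥ (x + y) - (x + y) =
            ((r : Matrix (I × J) (I × J) F) *ᵥ x - x) +
              ((r : Matrix (I × J) (I × J) F) *ᵥ y - y) := by
          rw [Matrix.mulVec_add]
          abel
        rw [this]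
        exact Submodule.add_mem _ hx hy
      | smul c x _ hx =>
        have : (r : Matrix (I × J) (I × J) F) *ᵥ (c • x) - c • x =
            c • ((r : Matrix (I × J) (I × J) F) *ᵥ x - x) := by
          rw [Matrix.mulVec_smul, smul_sub]
        rw [this]
        exact Submodule.smul_mem _ _ hx
    apply unip_mem_omegaGL Hy (fun i => pt (b i) w)
      (fun i => pt (B₁.dualBasis hT.nd₁ b i) ps) _ _ _ _ _ _ hriso
    · intro i
      exact hrfix _
    · intro v hv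
      apply key
      apply perp_span hT w ws hws
      apply hT.nd₁.1
      intro q
      have h1 : ∀ i, B₁ (C₂ B₂ w v) (b i) = 0 := by
        intro i
        have := hv i
        rw [polar_comm, polar_pt_right hT] at this
        exact this
      rw [← b.sum_repr q, map_sum]
      apply Finset.sum_eq_zero
      intro i _
      rw [map_smul, h1 i, smul_zero]
    · intro i
      exact hT.sing_pt _ _
    · intro i
      exact hT.sing_pt _ _
    · intro i j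
      rw [hT.polar_pt, hT.alt₂.self_eq_zero, mul_zero]
    · intro i j
      rw [hT.polar_pt, hT.alt₂.self_eq_zero, mul_zero]
    · intro i j
      rw [hT.polar_pt, hps, alt_swap B₁ hT.alt₁, LinearMap.BilinForm.apply_dualBasis_left]
      split_ifs <;> simp
  -- conclusion
  have hhΩ := hH hh
  have hmΩ : krL α.symm γ ∈ Cfsg.Geo.omegaGL ⇑Q := by
    have : krL α.symm γ = h⁻¹ * r := by
      rw [hr]
      group
    rw [this]
    exact mul_mem (inv_mem hhΩ) hrΩ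
  have hmH : krL α.symm γ ∈ H := hMH ⟨krL_mem _ _, hmΩ⟩
  have hrH : r ∈ H := by
    rw [hr]
    exact H.mul_mem hh hmH
  have hrK := rad_mem_krSub hT H Hy hMH hex hI hJ hPO hOP w hw r hrH hriso hrfix hrmove
  have : h = r * (krL α.symm γ)⁻¹ := by
    rw [hr]
    group
  rw [this]
  exact (krSub I J F).mul_mem hrK ((krSub I J F).inv_mem (krL_mem _ _))

include hT Hy hMH in
/-- an element of `H` mapping `U ⊗ w'` into `U ⊗ w` lies in `krSub` -/
theorem stab_mem (hH : H ≤ Cfsg.Geo.omegaGL ⇑Q)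
    (hex : 3 ≤ Fintype.card I ∨ ∃ s : F, s ≠ 0 ∧ s ≠ 1)
    (hI : 1 ≤ Fintype.card I) (hJ : 6 ≤ Fintype.card J)
    (hPO : ¬ SPO Q B₂ H) (hOP : ¬ SOP Q B₁ H) (h : GL (I × J) F) (hh : h ∈ H)
    (w w' : J → F) (hw : w ≠ 0) (hw' : w' ≠ 0)
    (hmap : ∀ u : I → F, ∃ u' : I → F,
      (h : Matrix (I × J) (I × J) F) *ᵥ pt u w' = pt u' w) : h ∈ krSub I J F := by
  obtain ⟨g₂, hg₂, hg₂w⟩ := exists_isom_single B₂ hT.nd₂ hT.alt₂ w w' hw hw'
  have hmH : krL (1 : (I → F) ≃ₗ[F] (I → F)) g₂ ∈ H :=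
    krL_mem_H hT H Hy hMH _ _ (fun _ _ => rfl) hg₂
  have h1 : h * krL (1 : (I → F) ≃ₗ[F] (I → F)) g₂ ∈ krSub I J F := by
    apply stab_mem_aux hT H Hy hMH hH hex hI hJ hPO hOP _ (H.mul_mem hh hmH) w hw
    intro u
    obtain ⟨u', hu'⟩ := hmap u
    refine ⟨u', ?_⟩
    have e1 : (1 : (I → F) ≃ₗ[F] (I → F)) u = u := rfl
    rw [Units.val_mul, ← Matrix.mulVec_mulVec, krL_pt, e1, hg₂w, hu']
  have : h = h * krL (1 : (I → F) ≃ₗ[F] (I → F)) g₂ * (krL (1 : (I → F) ≃ₗ[F] (I → F)) g₂)⁻¹ := by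
    group
  rw [this]
  exact (krSub I J F).mul_mem h1 ((krSub I J F).inv_mem (krL_mem _ _))

end stabsec

end Cfsg.Agent.Lib.Helper1.TsA
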