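import Mathlib
import Cfsg.Prelude
import Cfsg.Agent.Lib.Helper1.TsA11

/-!
# Maximality of the tensor product subgroup `Sp ⊗ Sp` in `Ω⁺`, in coordinates
-/

set_option autoImplicit false
set_option maxHeartbeats 4000000
set_option linter.unusedSimpArgs false
set_option linter.unusedVariables false
set_option linter.unusedSectionVars false

namespace Cfsg.Agent.Lib.Helper1.TsA

open Module QuadraticMap Matrix
open Cfsg
open Cfsg.Agent.Lib.Helper5.CartanDieudonne Cfsg.Agent.Lib.Helper5.Siegel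
  Cfsg.Agent.Lib.Helper5.QuadIsom Cfsg.Agent.Lib.Helper5.Eichler
  Cfsg.Agent.Lib.Helper5.OmegaSimple Cfsg.Agent.Lib.Helper5.OrthSingularMax
  Cfsg.Agent.Lib.Helper5.OrthCard Cfsg.Agent.Lib.Helper5.AltWitt
open Cfsg.Agent.Lib.Helper1.UoA
open Cfsg.Agent.Lib.Helper8.Tns

variable {I J : Type} [Fintype I] [DecidableEq I] [Fintype J] [DecidableEq J]
  {F : Type*} [Field F]

/-- contraction as a linear map of the second argument -/
def C₂R (B₂ : LinearMap.BilinForm F (J → F)) (v : I × J → F) : (J → F) →ₗ[F] (I → F) where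
  toFun p := C₂ B₂ p v
  map_add' p p' := C₂_add_right B₂ p p' v
  map_smul' c p := C₂_smul_right B₂ c p v

theorem C₂R_apply (B₂ : LinearMap.BilinForm F (J → F)) (v : I × J → F) (p : J → F) :
    C₂R B₂ v p = C₂ B₂ p v := rfl

section misec

variable {Q : QuadraticForm F (I × J → F)} {B₁ : LinearMap.BilinForm F (I → F)}
  {B₂ : LinearMap.BilinForm F (J → F)} (hT : CT Q B₁ B₂) (H : Subgroup (GL (I × J) F))

include hT in
theorem krL_tv_ne_one (hI : Nonempty I) (w₁ : J → F) (hw₁ : w₁ ≠ 0) :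
    krL (1 : (I → F) ≃ₗ[F] (I → F)) (tv B₂ hT.alt₂ w₁ 1) ≠ 1 := by
  intro h1
  obtain ⟨i₀⟩ := hI
  obtain ⟨ws, hws⟩ := exists_partner B₂ hT.nd₂ w₁ hw₁ (-1)
  have h2 := krL_pt (1 : (I → F) ≃ₗ[F] (I → F)) (tv B₂ hT.alt₂ w₁ 1)
    (Pi.single i₀ (1 : F)) ws
  have e1 : (1 : (I → F) ≃ₗ[F] (I → F)) (Pi.single i₀ (1 : F)) = Pi.single i₀ (1 : F) := rfl
  rw [h1, Units.val_one, Matrix.one_mulVec, e1, tv_apply, alt_swap B₂ hT.alt₂ ws w₁, hws,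
    pt_add_right] at h2
  have h3 : pt (Pi.single i₀ (1 : F)) (((1 : F) * - -1) • w₁) = (0 : I × J → F) := by
    have := congrArg (fun x => x - pt (Pi.single i₀ (1 : F)) ws) h2
    simp only [sub_self, add_sub_cancel_left] at this
    exact this.symm
  have h4 : ((1 : F) * - -1) • w₁ ≠ 0 := by
    rw [neg_neg, mul_one, one_smul]
    exact hw₁
  exact pt_ne_zero (single_ne_zero' i₀) h4 h3

variable [Fintype F] (Hy : Hyp Q) (hMH : krSub I J F ⊓ Cfsg.Geo.omegaGL ⇑Q ≤ H)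
  (hH : H ≤ Cfsg.Geo.omegaGL ⇑Q)

include hT Hy hMH hH in
/-- conjugates of root elements by elements outside the Kronecker group are outside it -/
theorem conj_not_mem (hex : 3 ≤ Fintype.card I ∨ ∃ s : F, s ≠ 0 ∧ s ≠ 1)
    (hI : 1 ≤ Fintype.card I) (hJ : 6 ≤ Fintype.card J)
    (hIJ : Fintype.card I < Fintype.card J)
    (hPO : ¬ SPO Q B₂ H) (hOP : ¬ SOP Q B₁ H)
    (h : GL (I × J) F) (hh : h ∈ H) (hnk : h ∉ krSub I J F) (w₁ : J → F) (hw₁ : w₁ ≠ 0) :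
    h⁻¹ * krL (1 : (I → F) ≃ₗ[F] (I → F)) (tv B₂ hT.alt₂ w₁ 1) * h ∉ krSub I J F := by
  intro hmem
  obtain ⟨α, β, hy⟩ := mem_krSub.mp hmem
  have hIne : Nonempty I := by
    rw [← Fintype.card_pos_iff]
    omega
  have hxA := Acts_krL_tv_right (I := I) (J := J) (F := F) (B₂ := B₂) hT.alt₂ w₁ (1 : F)
  have hyv : ∀ v : I × J → F,
      ((kr α β : GL (I × J) F) : Matrix (I × J) (I × J) F) *ᵥ v - v =
        ((h⁻¹ : GL (I × J) F) : Matrix (I × J) (I × J) F) *ᵥ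
          pt (C₂ B₂ w₁ ((h : Matrix (I × J) (I × J) F) *ᵥ v)) w₁ := by
    intro v
    rw [← hy, Units.val_mul, Units.val_mul, ← Matrix.mulVec_mulVec, ← Matrix.mulVec_mulVec,
      hxA ((h : Matrix (I × J) (I × J) F) *ᵥ v), Matrix.mulVec_add, inv_mulVec_mulVec,
      add_sub_cancel_left, LinearMap.smul_apply, one_smul, Xi_apply, LinearMap.id_apply]
  have hS : finrank F (Bw (h⁻¹ : GL (I × J) F) w₁) < Fintype.card J := by
    unfold Bw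
    rw [LinearEquiv.finrank_map_eq]
    exact lt_of_le_of_lt (finrank_Aw_le w₁) hIJ
  obtain ⟨c, hc⟩ := kr_scalar_of_small α β (Bw (h⁻¹ : GL (I × J) F) w₁) hS (fun v => by
    rw [hyv]
    exact mem_Bw.mpr ⟨_, rfl⟩)
  have hyp : ∀ (u : I → F) (w : J → F),
      ((kr α β : GL (I × J) F) : Matrix (I × J) (I × J) F) *ᵥ pt u w =
        pt u (c • ((β : Matrix J J F) *ᵥ w)) := by
    intro u w
    rw [kr_mulVec_pt, hc, Matrix.smul_mulVec, Matrix.one_mulVec, pt_smul_left, pt_smul_right]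
  have hex1 : ∃ w₀ : J → F, c • ((β : Matrix J J F) *ᵥ w₀) - w₀ ≠ 0 := by
    by_contra hcon
    push Not at hcon
    have h1 : kr α β = 1 := by
      apply eq_one_of_fix_pt
      intro u w
      rw [hyp, sub_eq_zero.mp (hcon w)]
    rw [h1] at hy
    have h2 : krL (1 : (I → F) ≃ₗ[F] (I → F)) (tv B₂ hT.alt₂ w₁ 1) = 1 := by
      have : krL (1 : (I → F) ≃ₗ[F] (I → F)) (tv B₂ hT.alt₂ w₁ 1) =
          h * (h⁻¹ * krL (1 : (I → F) ≃ₗ[F] (I → F)) (tv B₂ hT.alt₂ w₁ 1) * h) * h⁻¹ := by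
        group
      rw [this, hy]
      group
    exact krL_tv_ne_one hT hIne w₁ hw₁ h2
  obtain ⟨w₀, hw₀⟩ := hex1
  apply hnk
  apply stab_mem hT H Hy hMH hH hex hI hJ hPO hOP h hh w₁ _ hw₁ hw₀
  intro u
  refine ⟨C₂ B₂ w₁ ((h : Matrix (I × J) (I × J) F) *ᵥ pt u w₀), ?_⟩
  have h3 := hyv (pt u w₀)
  rw [hyp, ← pt_sub_right] at h3
  rw [h3, mulVec_inv_mulVec]

include hT Hy hMH hH in
/-- there is a cross pair with non-trivial intersection -/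
theorem exists_cross_ne_bot' (hex : 3 ≤ Fintype.card I ∨ ∃ s : F, s ≠ 0 ∧ s ≠ 1)
    (hI : 1 ≤ Fintype.card I) (hJ : 6 ≤ Fintype.card J)
    (hIJ : Fintype.card I < Fintype.card J)
    (hPO : ¬ SPO Q B₂ H) (hOP : ¬ SOP Q B₁ H)
    (h : GL (I × J) F) (hh : h ∈ H) (hnk : h ∉ krSub I J F) :
    ∃ (h₂ : GL (I × J) F) (w' : J → F), h₂ ∈ H ∧ h₂ ∉ krSub I J F ∧ w' ≠ 0 ∧
      Aw (I := I) w' ⊓ Bw h₂ w' ≠ ⊥ := by
  obtain ⟨i₀⟩ : Nonempty I := by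
    rw [← Fintype.card_pos_iff]
    omega
  obtain ⟨j₀⟩ : Nonempty J := by
    rw [← Fintype.card_pos_iff]
    omega
  have hu : (Pi.single i₀ (1 : F) : I → F) ≠ 0 := single_ne_zero' i₀
  have hw' : (Pi.single j₀ (1 : F) : J → F) ≠ 0 := single_ne_zero' j₀
  obtain ⟨v, hv⟩ : ∃ v : I × J → F, v = (h : Matrix (I × J) (I × J) F) *ᵥ
    pt (Pi.single i₀ (1 : F)) (Pi.single j₀ (1 : F)) := ⟨_, rfl⟩
  have hker : LinearMap.ker (C₂R B₂ v) ≠ ⊥ := by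
    apply LinearMap.ker_ne_bot_of_finrank_lt
    rw [finrank_fintype_fun_eq_card, finrank_fintype_fun_eq_card]
    exact hIJ
  obtain ⟨w₁, hw₁k, hw₁0⟩ := Submodule.exists_mem_ne_zero_of_ne_bot hker
  rw [LinearMap.mem_ker, C₂R_apply] at hw₁k
  have hxA := Acts_krL_tv_right (I := I) (J := J) (F := F) (B₂ := B₂) hT.alt₂ w₁ (1 : F)
  have hxH : krL (1 : (I → F) ≃ₗ[F] (I → F)) (tv B₂ hT.alt₂ w₁ 1) ∈ H :=
    krL_mem_H hT H Hy hMH _ _ (fun _ _ => rfl) (tv_isom B₂ hT.alt₂ w₁ 1)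
  have hfix : ((h⁻¹ * krL (1 : (I → F) ≃ₗ[F] (I → F)) (tv B₂ hT.alt₂ w₁ 1) * h :
      GL (I × J) F) : Matrix (I × J) (I × J) F) *ᵥ
      pt (Pi.single i₀ (1 : F)) (Pi.single j₀ (1 : F)) =
      pt (Pi.single i₀ (1 : F)) (Pi.single j₀ (1 : F)) := by
    rw [Units.val_mul, Units.val_mul, ← Matrix.mulVec_mulVec, ← Matrix.mulVec_mulVec, ← hv,
      hxA v, LinearMap.smul_apply, one_smul, Xi_apply, hw₁k, map_zero, pt_zero_left, add_zero, hv,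
      inv_mulVec_mulVec]
  refine ⟨h⁻¹ * krL (1 : (I → F) ≃ₗ[F] (I → F)) (tv B₂ hT.alt₂ w₁ 1) * h, Pi.single j₀ 1,
    H.mul_mem (H.mul_mem (H.inv_mem hh) hxH) hh,
    conj_not_mem hT H Hy hMH hH hex hI hJ hIJ hPO hOP h hh hnk w₁ hw₁0, hw', ?_⟩
  rw [Submodule.ne_bot_iff]
  exact ⟨pt (Pi.single i₀ 1) (Pi.single j₀ 1),
    ⟨mem_Aw.mpr ⟨_, rfl⟩, mem_Bw.mpr ⟨_, hfix⟩⟩, pt_ne_zero hu hw'⟩

include hT Hy hMH hH in
/-- a cross pair with non-trivial intersection can be improved -/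
theorem cross_increase' (hex : 3 ≤ Fintype.card I ∨ ∃ s : F, s ≠ 0 ∧ s ≠ 1)
    (hI : 1 ≤ Fintype.card I) (hJ : 6 ≤ Fintype.card J)
    (hIJ : Fintype.card I + 2 ≤ Fintype.card J)
    (hPO : ¬ SPO Q B₂ H) (hOP : ¬ SOP Q B₁ H)
    (h : GL (I × J) F) (hh : h ∈ H) (hnk : h ∉ krSub I J F)
    (w w' : J → F) (hw : w ≠ 0) (hw' : w' ≠ 0) :
    ∃ h₂ : GL (I × J) F, h₂ ∈ H ∧ h₂ ∉ krSub I J F ∧
      finrank F ↥(Aw (I := I) w ⊓ Bw h w') < finrank F ↥(Aw (I := I) w' ⊓ Bw h₂ w') := by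
  have h1 : ∃ u₀ : I → F, (h : Matrix (I × J) (I × J) F) *ᵥ pt u₀ w' ∉ Aw (I := I) w := by
    by_contra hcon
    push Not at hcon
    apply hnk
    apply stab_mem hT H Hy hMH hH hex hI hJ hPO hOP h hh w w' hw hw'
    intro u
    obtain ⟨u', hu'⟩ := mem_Aw.mp (hcon u)
    exact ⟨u', hu'.symm⟩
  obtain ⟨u₀, hv₀⟩ := h1
  obtain ⟨v₀, hv₀def⟩ : ∃ v₀ : I × J → F, v₀ = (h : Matrix (I × J) (I × J) F) *ᵥ pt u₀ w' :=
    ⟨_, rfl⟩
  rw [← hv₀def] at hv₀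
  have hker : LinearMap.ker ((B₂ w).prod (C₂R B₂ v₀)) ≠ ⊥ := by
    apply LinearMap.ker_ne_bot_of_finrank_lt
    rw [finrank_prod, finrank_self, finrank_fintype_fun_eq_card, finrank_fintype_fun_eq_card]
    omega
  obtain ⟨w₁, hw₁k, hw₁0⟩ := Submodule.exists_mem_ne_zero_of_ne_bot hker
  rw [LinearMap.mem_ker] at hw₁k
  have hww₁ : B₂ w w₁ = 0 := congrArg Prod.fst hw₁k
  have hCv₀ : C₂ B₂ w₁ v₀ = 0 := congrArg Prod.snd hw₁k
  have hxA := Acts_krL_tv_right (I := I) (J := J) (F := F) (B₂ := B₂) hT.alt₂ w₁ (1 : F)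
  have hxH : krL (1 : (I → F) ≃ₗ[F] (I → F)) (tv B₂ hT.alt₂ w₁ 1) ∈ H :=
    krL_mem_H hT H Hy hMH _ _ (fun _ _ => rfl) (tv_isom B₂ hT.alt₂ w₁ 1)
  have hxv₀ : ((krL (1 : (I → F) ≃ₗ[F] (I → F)) (tv B₂ hT.alt₂ w₁ 1) : GL (I × J) F) :
      Matrix (I × J) (I × J) F) *ᵥ v₀ = v₀ := by
    rw [hxA v₀, LinearMap.smul_apply, one_smul, Xi_apply, hCv₀, map_zero, pt_zero_left, add_zero]
  have hxw : ∀ u, ((krL (1 : (I → F) ≃ₗ[F] (I → F)) (tv B₂ hT.alt₂ w₁ 1) : GL (I × J) F) :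
      Matrix (I × J) (I × J) F) *ᵥ pt u w = pt u w := by
    intro u
    rw [hxA (pt u w), LinearMap.smul_apply, one_smul, Xi_pt, hww₁, zero_smul, add_zero]
  have hIJ' : Fintype.card I < Fintype.card J := by omega
  refine ⟨h⁻¹ * krL (1 : (I → F) ≃ₗ[F] (I → F)) (tv B₂ hT.alt₂ w₁ 1) * h,
    H.mul_mem (H.mul_mem (H.inv_mem hh) hxH) hh,
    conj_not_mem hT H Hy hMH hH hex hI hJ hIJ' hPO hOP h hh hnk w₁ hw₁0, ?_⟩
  have hlt : Aw (I := I) w ⊓ Bw h w' <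
      (Aw (I := I) w' ⊓ Bw (h⁻¹ * krL (1 : (I → F) ≃ₗ[F] (I → F)) (tv B₂ hT.alt₂ w₁ 1) * h)
        w').map (gL h : (I × J → F) →ₗ[F] (I × J → F)) := by
    rw [SetLike.lt_iff_le_and_exists]
    constructor
    · intro v hv
      obtain ⟨u, rfl⟩ := mem_Aw.mp hv.1
      obtain ⟨u', hu'⟩ := mem_Bw.mp hv.2
      rw [Submodule.mem_map]
      refine ⟨pt u' w', ⟨mem_Aw.mpr ⟨u', rfl⟩, mem_Bw.mpr ⟨u', ?_⟩⟩, hu'⟩
      rw [Units.val_mul, Units.val_mul, ← Matrix.mulVec_mulVec, ← Matrix.mulVec_mulVec, hu',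
        hxw, ← hu', inv_mulVec_mulVec]
    · refine ⟨v₀, ?_, ?_⟩
      · rw [Submodule.mem_map]
        refine ⟨pt u₀ w', ⟨mem_Aw.mpr ⟨_, rfl⟩, mem_Bw.mpr ⟨u₀, ?_⟩⟩, hv₀def.symm⟩
        rw [Units.val_mul, Units.val_mul, ← Matrix.mulVec_mulVec, ← Matrix.mulVec_mulVec,
          ← hv₀def, hxv₀, hv₀def, inv_mulVec_mulVec]
      · intro hmem
        exact hv₀ hmem.1
  have h5 := Submodule.finrank_lt_finrank_of_lt hlt
  rwa [LinearEquiv.finrank_map_eq] at h5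

include hT Hy hMH hH in
/-- an overgroup of `krSub ⊓ Ω` inside `Ω` without long root elements lies in `krSub` -/
theorem le_krSub' (hex : 3 ≤ Fintype.card I ∨ ∃ s : F, s ≠ 0 ∧ s ≠ 1)
    (hI : 1 ≤ Fintype.card I) (hJ : 6 ≤ Fintype.card J)
    (hIJ : Fintype.card I + 2 ≤ Fintype.card J)
    (hPO : ¬ SPO Q B₂ H) (hOP : ¬ SOP Q B₁ H) : H ≤ krSub I J F := by
  intro h hh
  by_contra hnk
  have hIJ' : Fintype.card I < Fintype.card J := by omega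
  have Qd : ∀ d : ℕ, ∃ (h₂ : GL (I × J) F) (w w' : J → F), h₂ ∈ H ∧ h₂ ∉ krSub I J F ∧ w ≠ 0 ∧
      w' ≠ 0 ∧ d + 1 ≤ finrank F ↥(Aw (I := I) w ⊓ Bw h₂ w') := by
    intro d
    induction d with
    | zero =>
      obtain ⟨h₂, w', hh₂, hnk₂, hw', hne⟩ :=
        exists_cross_ne_bot' hT H Hy hMH hH hex hI hJ hIJ' hPO hOP h hh hnk
      exact ⟨h₂, w', w', hh₂, hnk₂, hw', hw', Submodule.one_le_finrank_iff.mpr hne⟩
    | succ d ih =>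
      obtain ⟨h₂, w, w', hh₂, hnk₂, hw, hw', hd⟩ := ih
      obtain ⟨h₃, hh₃, hnk₃, hlt⟩ :=
        cross_increase' hT H Hy hMH hH hex hI hJ hIJ hPO hOP h₂ hh₂ hnk₂ w w' hw hw'
      exact ⟨h₃, w', w', hh₃, hnk₃, hw', hw', by omega⟩
  obtain ⟨h₂, w, w', _, _, _, _, hd⟩ := Qd (Fintype.card I)
  have e1 := Submodule.finrank_mono (inf_le_left : Aw (I := I) w ⊓ Bw h₂ w' ≤ Aw w)
  have e2 := finrank_Aw_le (I := I) w
  omega

end misec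

end Cfsg.Agent.Lib.Helper1.TsA
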