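import Mathlib
import Cfsg.Prelude
import Cfsg.Agent.Lib.Helper1.TsA12

/-!
# Maximality of `Sp ⊗ Sp` in `Ω⁺` in coordinates: the main theorem
-/

set_option autoImplicit false
set_option maxHeartbeats 4000000
set_option linter.unusedSimpArgs false
set_option linter.unusedVariables false
set_option linter.unusedSectionVars false

namespace Cfsg.Agent.Lib.Helper1.TsA

open Module QuadraticMap Matrix
open Cfsg
open Cfsg.Agent.Lib.Helper5.CartanDieudonne Cfsg.Agent.Lib.Helper5.Siegel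
  Cfsg.Agent.Lib.Helper5.QuadIsom Cfsg.Agent.Lib.Helper5.Eichler
  Cfsg.Agent.Lib.Helper5.OmegaSimple Cfsg.Agent.Lib.Helper5.OrthSingularMax
  Cfsg.Agent.Lib.Helper5.OrthCard Cfsg.Agent.Lib.Helper5.AltWitt
open Cfsg.Agent.Lib.Helper1.UoA
open Cfsg.Agent.Lib.Helper8.Tns

variable {I J : Type} [Fintype I] [DecidableEq I] [Fintype J] [DecidableEq J]
  {F : Type*} [Field F]

section coresec

variable {Q : QuadraticForm F (I × J → F)} {B₁ : LinearMap.BilinForm F (I → F)}
  {B₂ : LinearMap.BilinForm F (J → F)} (hT : CT Q B₁ B₂)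

include hT in
/-- a long root element of type `(P, O)` is not a Kronecker product -/
theorem eich_not_mem_krSub (hJ : 3 ≤ Fintype.card J) (u : I → F) (hu : u ≠ 0) (w w₂ : J → F)
    (hli : LinearIndependent F ![w, w₂]) (h0 : B₂ w w₂ = 0) (hx : Q (pt u w) = 0)
    (hxz : polar ⇑Q (pt u w) (pt u w₂) = 0) :
    ((eich Q (pt u w) (pt u w₂) hx hxz : ↥(isometryGroup F ⇑Q)) : GL (I × J) F) ∉
      krSub I J F := by
  intro hmem
  obtain ⟨α, β, hy⟩ := mem_krSub.mp hmem
  have hE := Acts_eich hT u u w w₂ hx hxz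
  have hS : finrank F (Submodule.span F (Set.range ![pt u w₂, pt u w])) < Fintype.card J := by
    have := finrank_range_le_card (R := F) ![pt u w₂, pt u w]
    rw [Fintype.card_fin] at this
    have h2 : finrank F (Submodule.span F (Set.range ![pt u w₂, pt u w])) ≤ 2 := this
    omega
  have hyS : ∀ v : I × J → F,
      ((kr α β : GL (I × J) F) : Matrix (I × J) (I × J) F) *ᵥ v - v ∈
        Submodule.span F (Set.range ![pt u w₂, pt u w]) := by
    intro v
    rw [← hy, hE v, add_sub_cancel_left, LinearMap.sub_apply, Xi_apply, Xi_apply, rk_apply,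
      rk_apply, pt_smul_left, pt_smul_left]
    exact Submodule.sub_mem _ (Submodule.smul_mem _ _ (mem_span_pair_left _ _))
      (Submodule.smul_mem _ _ (mem_span_pair_right _ _))
  obtain ⟨c, hc⟩ := kr_scalar_of_small α β _ hS hyS
  obtain ⟨u', hu'⟩ := exists_partner B₁ hT.nd₁ u hu 1
  obtain ⟨w', hw'⟩ := exists_prescribed B₂ hT.nd₂ ![w, w₂] hli ![1, 0]
  have hww' : B₂ w w' = 1 := by simpa using hw' 0
  have hw₂w' : B₂ w₂ w' = 0 := by simpa using hw' 1
  have hw'w : B₂ w' w = -1 := by rw [alt_swap B₂ hT.alt₂, hww']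
  have hw'w₂ : B₂ w' w₂ = 0 := by rw [alt_swap B₂ hT.alt₂, hw₂w', neg_zero]
  have hu'u : B₁ u' u = -1 := by rw [alt_swap B₁ hT.alt₁, hu']
  have h1 := hE (pt u' w')
  rw [hy, kr_mulVec_pt, hc, Matrix.smul_mulVec, Matrix.one_mulVec, pt_smul_left,
    ← pt_smul_right, LinearMap.sub_apply, Xi_pt, Xi_pt, rk_apply, hw'w, hw'w₂, hu'u, zero_smul,
    sub_zero, pt_smul_left, smul_smul] at h1
  have e0 : ((-1 : F) * -1) = 1 := by ring
  rw [e0, one_smul] at h1
  have h2 := congrArg (C₁ B₁ u') h1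
  rw [map_add, C₁_pt, C₁_pt, C₁_pt, hT.alt₁.self_eq_zero, zero_smul, zero_smul, zero_add, hu',
    one_smul] at h2
  have hw₂0 : w₂ ≠ 0 := by
    have := hli.ne_zero 1
    simpa using this
  exact hw₂0 h2.symm

variable [Fintype F]

include hT in
/-- **Maximality of `Sp(U) ⊗ Sp(W)` in `Ω⁺(U ⊗ W)`**, in coordinates -/
theorem core (Hy : Hyp Q) (hex : 3 ≤ Fintype.card I ∨ ∃ s : F, s ≠ 0 ∧ s ≠ 1)
    (hI : 2 ≤ Fintype.card I) (hJ : 6 ≤ Fintype.card J)
    (hIJ : Fintype.card I + 2 ≤ Fintype.card J) :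
    Cfsg.Geo.IsMaximalIn (Cfsg.Geo.omegaGL ⇑Q) (krSub I J F ⊓ Cfsg.Geo.omegaGL ⇑Q) := by
  refine ⟨lt_of_le_of_ne inf_le_right ?_, ?_⟩
  · intro heq
    obtain ⟨i₀⟩ : Nonempty I := by
      rw [← Fintype.card_pos_iff]
      omega
    obtain ⟨j₀⟩ : Nonempty J := by
      rw [← Fintype.card_pos_iff]
      omega
    have hu : (Pi.single i₀ (1 : F) : I → F) ≠ 0 := single_ne_zero' i₀
    have hw : (Pi.single j₀ (1 : F) : J → F) ≠ 0 := single_ne_zero' j₀
    obtain ⟨w₂, hw₂o, hw₂s⟩ := exists_perp_not_mem_span B₂ hT.nd₂ ![Pi.single j₀ (1 : F)]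
      (by rw [finrank_fintype_fun_eq_card]; omega)
    have h0 : B₂ (Pi.single j₀ (1 : F)) w₂ = 0 := by simpa using hw₂o 0
    have hli : LinearIndependent F ![Pi.single j₀ (1 : F), w₂] := by
      apply pair_indep_of_not_smul hw
      intro c hc
      apply hw₂s
      rw [hc]
      exact Submodule.smul_mem _ _ (Submodule.subset_span ⟨0, rfl⟩)
    have hx : Q (pt (Pi.single i₀ (1 : F)) (Pi.single j₀ (1 : F))) = 0 := hT.sing_pt _ _
    have hxz : polar ⇑Q (pt (Pi.single i₀ (1 : F)) (Pi.single j₀ (1 : F)))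
        (pt (Pi.single i₀ (1 : F)) w₂) = 0 := by
      rw [hT.polar_pt, h0, mul_zero]
    have hmem := eich_mem_omegaGL Hy _ _ hx hxz
    rw [← heq] at hmem
    exact eich_not_mem_krSub hT (by omega) _ hu _ _ hli h0 hx hxz hmem.1
  · intro M hHM hMK
    by_cases hPO : SPO Q B₂ M
    · right
      obtain ⟨u, w, w₂, hu, hli, h0, hst⟩ := hPO
      exact le_antisymm hMK
        (omega_le_of_SPO hT Hy M hHM hI (by omega) u w w₂ hu hli h0 hst)
    · by_cases hOP : SOP Q B₁ M
      · right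
        obtain ⟨u, u', w, hw, hli, h0, hst⟩ := hOP
        exact le_antisymm hMK
          (omega_le_of_SOP hT Hy M hHM (by omega) u u' w hw hli h0 hst)
      · left
        apply le_antisymm _ hHM
        exact le_inf (le_krSub' hT M Hy hHM hMK hex (by omega) hJ hIJ hPO hOP) hMK

end coresec

end Cfsg.Agent.Lib.Helper1.TsA
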