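import Mathlib
import Cfsg.Prelude
import Cfsg.Agent.Lib.Helper1.TsA13
import Cfsg.Agent.Lib.Helper5.TensorFormSub
import Cfsg.Agent.Lib.Helper5.OrthBridge
import Cfsg.Agent.Lib.Helper5.AltForm
import Cfsg.Agent.Lib.Helper8.Tns9

/-!
# Maximality of `Sp ⊗ Sp` in `Ω⁺`: transfer to the statement over `Fin n`
-/

set_option autoImplicit false
set_option maxHeartbeats 4000000
set_option linter.unusedSimpArgs false
set_option linter.unusedVariables false
set_option linter.unusedSectionVars false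

namespace Cfsg.Agent.Lib.Helper1.TsA

open Module QuadraticMap Matrix
open Cfsg
open Cfsg.Agent.Lib.Helper5.CartanDieudonne Cfsg.Agent.Lib.Helper5.OrthSingularMax
  Cfsg.Agent.Lib.Helper5.OrthCard Cfsg.Agent.Lib.Helper5.OrthBridge
  Cfsg.Agent.Lib.Helper5.OmegaSimple
open Cfsg.Agent.Lib.Helper5.TensorSub Cfsg.Agent.Lib.Helper5.TensorFormSub

variable {F : Type*} [Field F]

/-- a space with a non-degenerate alternating form has even dimension -/
theorem even_finrank_of_alt_nondeg {V : Type*} [AddCommGroup V] [Module F V]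
    [FiniteDimensional F V] (B : LinearMap.BilinForm F V) (hA : B.IsAlt)
    (hB : B.Nondegenerate) : Even (finrank F V) := by
  obtain ⟨m, k, b, -, -, -, -, h5, h6⟩ :=
    Cfsg.Agent.Lib.Helper5.AltForm.exists_darboux_basis B hA
  have : LinearMap.ker B = ⊥ := LinearMap.separatingLeft_iff_ker_eq_bot.mp hB.1
  rw [this, finrank_bot] at h6
  exact ⟨m, by omega⟩

section bilin

variable {κ : Type} [Fintype κ] [DecidableEq κ]

/-- the bilinear form of a form given as a function -/
def bilinOf (f : (κ → F) → (κ → F) → F) (hf : Cfsg.Geo.IsBilinearForm f) :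
    LinearMap.BilinForm F (κ → F) :=
  LinearMap.mk₂ F f hf.add_left (fun c x y => by rw [hf.smul_left, smul_eq_mul]) hf.add_right
    (fun c x y => by rw [hf.smul_right, smul_eq_mul])

theorem bilinOf_apply (f : (κ → F) → (κ → F) → F) (hf : Cfsg.Geo.IsBilinearForm f)
    (x y : κ → F) : bilinOf f hf x y = f x y := rfl

theorem bilinOf_alt (f : (κ → F) → (κ → F) → F) (hs : Cfsg.Geo.IsSymplecticForm f) :
    (bilinOf f hs.bilinear).IsAlt := fun x => hs.alternating x

theorem bilinOf_nondeg (f : (κ → F) → (κ → F) → F) (hs : Cfsg.Geo.IsSymplecticForm f) :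
    (bilinOf f hs.bilinear).Nondegenerate := by
  constructor
  · intro x hx
    by_contra hx0
    obtain ⟨y, hy⟩ := (hs.nondegenerate x hx0).2
    exact hy (hx y)
  · intro x hx
    by_contra hx0
    obtain ⟨y, hy⟩ := (hs.nondegenerate x hx0).1
    exact hy (hx y)

end bilin

section transfer

variable {ι : Type} [Fintype ι] [DecidableEq ι]

theorem omegaGL_eq_commutator (Q : (ι → F) → F) :
    Cfsg.Geo.omegaGL Q = ⁅isometryGroup F Q, isometryGroup F Q⁆ := by
  unfold Cfsg.Geo.omegaGL
  show (commutator ↥(isometryGroup F Q)).map _ = _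
  rw [commutator_def, Subgroup.map_commutator, ← MonoidHom.range_eq_map, Subgroup.range_subtype]

variable {n₁ n₂ : ℕ} (e : ι ≃ Fin n₁ × Fin n₂) (P : Matrix.GeneralLinearGroup ι F)

theorem isometryGroup_map_Phi (Q : (ι → F) → F) :
    (isometryGroup F (fun v : Fin n₁ × Fin n₂ → F => Q (emb e P v))).map (Phi e P).toMonoidHom =
      isometryGroup F Q := by
  ext g
  rw [Subgroup.mem_map]
  constructor
  · rintro ⟨x, hx, rfl⟩
    rw [mem_isometryGroup_iff] at hx ⊢
    intro v
    obtain ⟨v', rfl⟩ := emb_surjective e P v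
    have := Phi_emb e P x v'
    show Q (((Phi e P x : Matrix.GeneralLinearGroup ι F) : Matrix ι ι F) *ᵥ emb e P v') = _
    rw [this]
    exact hx v'
  · intro hg
    refine ⟨(Phi e P).symm g, ?_, by simp⟩
    rw [mem_isometryGroup_iff] at hg ⊢
    intro v
    have h1 := hg (emb e P v)
    have e1 : g = Phi e P ((Phi e P).symm g) := by simp
    have h2 := Phi_emb e P ((Phi e P).symm g) v
    rw [← e1] at h2
    rw [h2] at h1
    exact h1

theorem omegaGL_map_Phi (Q : (ι → F) → F) :
    (Cfsg.Geo.omegaGL (fun v : Fin n₁ × Fin n₂ → F => Q (emb e P v))).map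
      (Phi e P).toMonoidHom = Cfsg.Geo.omegaGL Q := by
  rw [omegaGL_eq_commutator, omegaGL_eq_commutator, Subgroup.map_commutator,
    isometryGroup_map_Phi]

/-- the embedding as a linear map -/
def embL : (Fin n₁ × Fin n₂ → F) →ₗ[F] (ι → F) where
  toFun := emb e P
  map_add' := emb_add e P
  map_smul' := emb_smul e P

theorem embL_apply (v : Fin n₁ × Fin n₂ → F) : embL e P v = emb e P v := rfl

end transfer

/-- **Maximality of the stabiliser of a symplectic tensor decomposition in `Ω⁺`** -/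
theorem main_tensor [Fintype F] {n : ℕ} (hn : 13 ≤ n) (Q : (Fin n → F) → F)
    (hQ : Cfsg.Geo.IsNondegenerateQuadraticForm Q) (n₁ n₂ : ℕ) (h12 : n₁ < n₂)
    (hex : ¬ (Fintype.card F = 2 ∧ n₁ = 2)) (e : (Fin n) ≃ Fin n₁ × Fin n₂)
    (P : Matrix.GeneralLinearGroup (Fin n) F) (f₁ : (Fin n₁ → F) → (Fin n₁ → F) → F)
    (f₂ : (Fin n₂ → F) → (Fin n₂ → F) → F) (hf₁ : Cfsg.Geo.IsSymplecticForm f₁)
    (hf₂ : Cfsg.Geo.IsSymplecticForm f₂)
    (hT : Cfsg.Geo.IsTensorFormStructure id (QuadraticMap.polar Q) f₁ f₂ e P)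
    (hpure : ∀ (x₁ : Fin n₁ → F) (x₂ : Fin n₂ → F),
      Q (Matrix.mulVec (P : Matrix (Fin n) (Fin n) F)
        ((fun a : Fin n₁ × Fin n₂ => x₁ a.1 * x₂ a.2) ∘ e)) = 0) :
    Cfsg.Geo.IsMaximalIn (Cfsg.Geo.omegaGL Q)
      (Cfsg.Geo.tensorProductSubgroup n₁ n₂ e P ⊓ Cfsg.Geo.omegaGL Q) := by
  obtain ⟨c, hc0, hc⟩ := hT
  -- the forms
  obtain ⟨B₁, hB₁⟩ : ∃ B₁ : LinearMap.BilinForm F (Fin n₁ → F),
      B₁ = c • bilinOf f₁ hf₁.bilinear := ⟨_, rfl⟩
  obtain ⟨B₂, hB₂⟩ : ∃ B₂ : LinearMap.BilinForm F (Fin n₂ → F),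
      B₂ = bilinOf f₂ hf₂.bilinear := ⟨_, rfl⟩
  have hB₁a : ∀ x y, B₁ x y = c * f₁ x y := by
    intro x y
    rw [hB₁]
    rfl
  have hB₂a : ∀ x y, B₂ x y = f₂ x y := by
    intro x y
    rw [hB₂]
    rfl
  have halt₁ : B₁.IsAlt := by
    intro x
    rw [hB₁a, hf₁.alternating, mul_zero]
  have halt₂ : B₂.IsAlt := by
    rw [hB₂]
    exact bilinOf_alt f₂ hf₂
  have hnd₂ : B₂.Nondegenerate := by
    rw [hB₂]
    exact bilinOf_nondeg f₂ hf₂
  have hnd₁ : B₁.Nondegenerate := by
    have h0 := bilinOf_nondeg f₁ hf₁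
    constructor
    · intro x hx
      apply h0.1
      intro y
      have := hx y
      rw [hB₁a] at this
      rcases mul_eq_zero.mp this with h | h
      · exact absurd h hc0
      · exact h
    · intro x hx
      apply h0.2
      intro y
      have := hx y
      rw [hB₁a] at this
      rcases mul_eq_zero.mp this with h | h
      · exact absurd h hc0
      · exact h
  -- the dimensions
  have hev₁ : Even n₁ := by
    have := even_finrank_of_alt_nondeg B₁ halt₁ hnd₁
    rwa [finrank_fintype_fun_eq_card, Fintype.card_fin] at this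
  have hev₂ : Even n₂ := by
    have := even_finrank_of_alt_nondeg B₂ halt₂ hnd₂
    rwa [finrank_fintype_fun_eq_card, Fintype.card_fin] at this
  have hcard : n = n₁ * n₂ := by
    have := Fintype.card_congr e
    rwa [Fintype.card_fin, Fintype.card_prod, Fintype.card_fin, Fintype.card_fin] at this
  obtain ⟨a, ha⟩ := hev₁
  obtain ⟨b, hb⟩ := hev₂
  have ha1 : 1 ≤ a := by
    by_contra h
    have : a = 0 := by omega
    rw [ha, this] at hcard
    omega
  have hb3 : 3 ≤ b := by
    by_contra h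
    have hb2 : b ≤ 2 := by omega
    have ha2 : a ≤ 1 := by omega
    have : n₁ * n₂ ≤ 2 * 4 := Nat.mul_le_mul (by omega) (by omega)
    omega
  have hI : 2 ≤ Fintype.card (Fin n₁) := by
    rw [Fintype.card_fin]
    omega
  have hJ : 6 ≤ Fintype.card (Fin n₂) := by
    rw [Fintype.card_fin]
    omega
  have hIJ : Fintype.card (Fin n₁) + 2 ≤ Fintype.card (Fin n₂) := by
    rw [Fintype.card_fin, Fintype.card_fin]
    omega
  have hex' : 3 ≤ Fintype.card (Fin n₁) ∨ ∃ s : F, s ≠ 0 ∧ s ≠ 1 := by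
    rw [Fintype.card_fin]
    by_cases h2 : n₁ = 2
    · right
      have hF2 : Fintype.card F ≠ 2 := fun h => hex ⟨h, h2⟩
      have hF1 : 1 < Fintype.card F := Fintype.one_lt_card
      have hF3 : 2 < Fintype.card F := by omega
      obtain ⟨x, y, z, hxy, hxz, hyz⟩ := Fintype.two_lt_card_iff.mp hF3
      by_cases hx0 : x = 0
      · by_cases hy1 : y = 1
        · refine ⟨z, ?_, ?_⟩
          · rw [← hx0]
            exact Ne.symm hxz
          · rw [← hy1]
            exact Ne.symm hyz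
        · refine ⟨y, ?_, hy1⟩
          rw [← hx0]
          exact Ne.symm hxy
      · by_cases hx1 : x = 1
        · by_cases hy0 : y = 0
          · refine ⟨z, ?_, ?_⟩
            · rw [← hy0]
              exact Ne.symm hyz
            · rw [← hx1]
              exact Ne.symm hxz
          · refine ⟨y, hy0, ?_⟩
            rw [← hx1]
            exact Ne.symm hxy
        · exact ⟨x, hx0, hx1⟩
    · left
      omega
  -- the quadratic form in coordinates
  obtain ⟨Q₀, hQ₀⟩ : ∃ Q₀ : QuadraticForm F (Fin n₁ × Fin n₂ → F),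
      Q₀ = (toQF Q hQ).comp (embL e P) := ⟨_, rfl⟩
  have hQ₀a : ∀ v, Q₀ v = Q (emb e P v) := by
    intro v
    rw [hQ₀]
    rfl
  have hQ₀f : ⇑Q₀ = fun v : Fin n₁ × Fin n₂ → F => Q (emb e P v) := funext hQ₀a
  have hpol : ∀ v v', polar ⇑Q₀ v v' = polar Q (emb e P v) (emb e P v') := by
    intro v v'
    unfold QuadraticMap.polar
    rw [hQ₀a, hQ₀a, hQ₀a, emb_add]
  have hCT : CT Q₀ B₁ B₂ := by
    refine ⟨halt₁, halt₂, hnd₁, hnd₂, ?_, ?_⟩
    · intro u u' w w'
      rw [hpol, hB₁a, hB₂a]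
      have := form_pt (f := QuadraticMap.polar Q) (e := e) (P := P) hf₁.bilinear hf₂.bilinear hc
        u u' w w'
      rw [mul_assoc]
      exact this
    · intro u w
      rw [hQ₀a]
      exact hpure u w
  have hQ₀nd : (polarBilin Q₀).Nondegenerate := by
    have h0 := toQF_nondegenerate Q hQ
    constructor
    · intro x hx
      apply emb_eq_zero (e := e) (P := P)
      apply h0.1
      intro y
      obtain ⟨y', rfl⟩ := emb_surjective e P y
      have := hx y'
      rw [polarBilin_apply_apply, hpol] at this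
      exact this
    · intro x hx
      apply emb_eq_zero (e := e) (P := P)
      apply h0.2
      intro y
      obtain ⟨y', rfl⟩ := emb_surjective e P y
      have := hx y'
      rw [polarBilin_apply_apply, hpol] at this
      exact this
  have hHy : Hyp Q₀ := hyp_of_nondeg hQ₀nd (by
    rw [Fintype.card_prod, Fintype.card_fin, Fintype.card_fin, ← hcard]
    omega)
  have hcore := core hCT hHy hex' hI hJ hIJ
  have hmap := Cfsg.Agent.Lib.Helper8.Tns.isMaximalIn_map (Phi e P) hcore
  rw [Subgroup.map_inf _ _ _ (Phi e P).injective, hQ₀f, omegaGL_map_Phi,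
    ← Cfsg.Agent.Lib.Helper8.Tns.kroneckerSubgroup_eq, ← tensor_eq] at hmap
  exact hmap

end Cfsg.Agent.Lib.Helper1.TsA
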