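import Mathlib
import Cfsg.Agent.Lib.Helper1.TsA1

/-!
# Orthogonal toolkit: reflections, Siegel elements, orthogonal nonsingular vectors
-/

set_option autoImplicit false
set_option maxHeartbeats 4000000
set_option maxRecDepth 100000
set_option linter.unusedSimpArgs false
set_option linter.unusedVariables false
set_option linter.unusedSectionVars false
set_option linter.style.longLine false
set_option linter.deprecated false

namespace Cfsg.Agent.Lib.Helper1.TsB

open Module
open Cfsg.Agent.Lib.Helper1.TsA

variable {F : Type*} [Field F] {V : Type*} [AddCommGroup V] [Module F V]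
  (B : LinearMap.BilinForm F V)

/-- rank one operator `u ↦ B(u, y) x` -/
def rkV (x y : V) : V →ₗ[F] V := (B.flip y).smulRight x

theorem rkV_apply (x y u : V) : rkV B x y u = B u y • x := by
  simp [rkV]

/-- the symmetrised rank two operator `x ∘ y` -/
def sym2 (a b : V) : V →ₗ[F] V := rkV B a b + rkV B b a

theorem sym2_apply (a b u : V) : sym2 B a b u = B u b • a + B u a • b := by
  simp [sym2, rkV_apply]

theorem sym2_comm (a b : V) : sym2 B a b = sym2 B b a := by
  unfold sym2
  rw [add_comm]

theorem sym2_add_right (a b b' : V) : sym2 B a (b + b') = sym2 B a b + sym2 B a b' := by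
  apply LinearMap.ext
  intro u
  simp only [sym2_apply, LinearMap.add_apply, map_add]
  module

theorem sym2_smul_right (c : F) (a b : V) : sym2 B a (c • b) = c • sym2 B a b := by
  apply LinearMap.ext
  intro u
  simp only [sym2_apply, LinearMap.smul_apply, map_smul, smul_eq_mul]
  module

theorem sym2_neg_right (a b : V) : sym2 B a (-b) = -sym2 B a b := by
  have := sym2_smul_right B (-1 : F) a b
  rwa [neg_one_smul, neg_one_smul] at this

theorem sym2_sub_right (a b b' : V) : sym2 B a (b - b') = sym2 B a b - sym2 B a b' := by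
  rw [sub_eq_add_neg, sym2_add_right, sym2_neg_right, ← sub_eq_add_neg]

theorem sym2_self (a : V) : sym2 B a a = (2 : F) • rkV B a a := by
  unfold sym2
  rw [two_smul]

/-! ### reflections -/

/-- the reflection in `z` as a linear map (the identity when `z` is singular) -/
def reflL (z : V) : V →ₗ[F] V := LinearMap.id - (2 / B z z) • rkV B z z

theorem reflL_apply (z x : V) : reflL B z x = x - (2 / B z z * B x z) • z := by
  simp [reflL, rkV_apply, smul_smul]

theorem reflL_invol (z x : V) : reflL B z (reflL B z x) = x := by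
  by_cases hz : B z z = 0
  · simp [reflL_apply, hz]
  · rw [reflL_apply, reflL_apply]
    simp only [map_sub, map_smul, LinearMap.sub_apply, LinearMap.smul_apply, smul_eq_mul]
    have e : 2 / B z z * (B x z - 2 / B z z * B x z * B z z) = -(2 / B z z * B x z) := by
      field_simp
      ring
    rw [e]
    module

/-- the reflection in `z` -/
noncomputable def refl (z : V) : V ≃ₗ[F] V :=
  LinearEquiv.ofLinear (reflL B z) (reflL B z)
    (LinearMap.ext fun x => by simp [reflL_invol])
    (LinearMap.ext fun x => by simp [reflL_invol])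

theorem refl_apply (z x : V) : refl B z x = x - (2 / B z z * B x z) • z := reflL_apply B z x

theorem refl_symm_apply (z x : V) : (refl B z).symm x = refl B z x := rfl

theorem refl_coe (z : V) : ((refl B z : V ≃ₗ[F] V) : V →ₗ[F] V) = reflL B z := rfl

theorem refl_symm_coe (z : V) : (((refl B z).symm : V ≃ₗ[F] V) : V →ₗ[F] V) = reflL B z := rfl

theorem refl_isom (hS : ∀ x y, B x y = B y x) (z x y : V) :
    B (refl B z x) (refl B z y) = B x y := by
  by_cases hz : B z z = 0
  · simp [refl_apply, hz]
  · rw [refl_apply, refl_apply]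
    simp only [map_sub, map_smul, LinearMap.sub_apply, LinearMap.smul_apply, smul_eq_mul]
    rw [hS z y]
    field_simp
    ring

theorem refl_fix (z x : V) (h : B x z = 0) : refl B z x = x := by
  rw [refl_apply, h, mul_zero, zero_smul, sub_zero]

theorem refl_self (z : V) (hz : B z z ≠ 0) : refl B z z = -z := by
  rw [refl_apply]
  have : 2 / B z z * B z z = 2 := by field_simp
  rw [this, two_smul]
  abel

/-- conjugating a rank one operator by an isometry -/
theorem conj_rkV (g : V ≃ₗ[F] V) (hg : ∀ x y, B (g x) (g y) = B x y) (a b : V) :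
    (g : V →ₗ[F] V) ∘ₗ rkV B a b ∘ₗ (g.symm : V →ₗ[F] V) = rkV B (g a) (g b) := by
  apply LinearMap.ext
  intro x
  simp only [LinearMap.comp_apply, LinearEquiv.coe_coe, rkV_apply, map_smul]
  have : B (g.symm x) b = B x (g b) := by
    rw [← hg (g.symm x) b, LinearEquiv.apply_symm_apply]
  rw [this]

theorem conj_sym2 (g : V ≃ₗ[F] V) (hg : ∀ x y, B (g x) (g y) = B x y) (a b : V) :
    (g : V →ₗ[F] V) ∘ₗ sym2 B a b ∘ₗ (g.symm : V →ₗ[F] V) = sym2 B (g a) (g b) := by
  unfold sym2
  rw [LinearMap.add_comp, LinearMap.comp_add, conj_rkV B g hg, conj_rkV B g hg]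

/-! ### Siegel elements -/

/-- the Siegel element `E_{w,v}` as a linear map -/
def siegL (w v : V) : V →ₗ[F] V :=
  LinearMap.id + rkV B w v - rkV B v w - (B v v / 2) • rkV B w w

theorem siegL_apply (w v x : V) :
    siegL B w v x = x + B x v • w - B x w • v - (B v v / 2 * B x w) • w := by
  simp [siegL, rkV_apply, smul_smul]

theorem siegL_inv (hS : ∀ x y, B x y = B y x) (h2 : (2 : F) ≠ 0) (w v : V) (hw : B w w = 0)
    (hwv : B w v = 0) (x : V) : siegL B w (-v) (siegL B w v x) = x := by
  have hvw : B v w = 0 := by rw [hS, hwv]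
  rw [siegL_apply, siegL_apply]
  simp only [map_sub, map_add, map_smul, map_neg, LinearMap.sub_apply, LinearMap.add_apply,
    LinearMap.smul_apply, LinearMap.neg_apply, smul_eq_mul, hw, hwv, hvw, mul_zero, sub_zero,
    add_zero, neg_neg, neg_zero, zero_mul]
  have e : B v v / 2 + B v v / 2 = B v v := by field_simp; ring
  rw [show (B x) w * (B v) v = (B x) w * (B v v / 2 + B v v / 2) by rw [e]]
  module

/-- the Siegel element `E_{w,v}` for singular `w` and `v ⊥ w` -/
noncomputable def sieg (hS : ∀ x y, B x y = B y x) (h2 : (2 : F) ≠ 0) (w v : V) (hw : B w w = 0)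
    (hwv : B w v = 0) : V ≃ₗ[F] V :=
  LinearEquiv.ofLinear (siegL B w v) (siegL B w (-v))
    (LinearMap.ext fun x => by
      have := siegL_inv B hS h2 w (-v) hw (by rw [map_neg, hwv, neg_zero]) x
      rw [neg_neg] at this
      simpa using this)
    (LinearMap.ext fun x => by
      have := siegL_inv B hS h2 w v hw hwv x
      simpa using this)

theorem sieg_apply (hS : ∀ x y, B x y = B y x) (h2 : (2 : F) ≠ 0) (w v : V) (hw : B w w = 0)
    (hwv : B w v = 0) (x : V) :
    sieg B hS h2 w v hw hwv x = x + B x v • w - B x w • v - (B v v / 2 * B x w) • w :=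
  siegL_apply B w v x

theorem sieg_isom (hS : ∀ x y, B x y = B y x) (h2 : (2 : F) ≠ 0) (w v : V) (hw : B w w = 0)
    (hwv : B w v = 0) (x y : V) :
    B (sieg B hS h2 w v hw hwv x) (sieg B hS h2 w v hw hwv y) = B x y := by
  have hvw : B v w = 0 := by rw [hS, hwv]
  rw [sieg_apply, sieg_apply]
  simp only [map_sub, map_add, map_smul, LinearMap.sub_apply, LinearMap.add_apply,
    LinearMap.smul_apply, smul_eq_mul, hw, hwv, hvw, mul_zero, sub_zero, add_zero, zero_mul]
  rw [hS w y, hS v y]
  field_simp
  ring

end Cfsg.Agent.Lib.Helper1.TsB
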