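import Mathlib
import Cfsg.Agent.Lib.Helper1.TsB1

/-!
# Orthogonal toolkit II: orthogonal extension, nonsingular vectors, eigenvectors
-/

set_option autoImplicit false
set_option maxHeartbeats 4000000
set_option maxRecDepth 100000
set_option linter.unusedSimpArgs false
set_option linter.unusedVariables false
set_option linter.unusedSectionVars false
set_option linter.style.longLine false
set_option linter.deprecated false

namespace Cfsg.Agent.Lib.Helper1.TsB

open Module
open Cfsg.Agent.Lib.Helper1.TsA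

variable {F : Type*} [Field F] {V : Type*} [AddCommGroup V] [Module F V] [FiniteDimensional F V]
  (B : LinearMap.BilinForm F V)

/-- extension of an orthogonal family of nonsingular vectors -/
theorem orth_ext (hS : ∀ x y, B x y = B y x) (hB : B.Nondegenerate) (h2 : (2 : F) ≠ 0) {k : ℕ}
    (a : Fin k → V) (ho : ∀ i j, i ≠ j → B (a i) (a j) = 0) (hn : ∀ i, B (a i) (a i) ≠ 0)
    (hk : k < finrank F V) : ∃ v, (∀ i, B (a i) v = 0) ∧ B v v ≠ 0 := by
  by_contra hcon
  push Not at hcon
  have hT : perpF B a ≠ ⊥ := by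
    intro h
    have h1 := finrank_perpF_ge B hB a
    rw [h, finrank_bot] at h1
    omega
  obtain ⟨v, hvT, hv0⟩ := Submodule.exists_mem_ne_zero_of_ne_bot hT
  rw [mem_perpF] at hvT
  apply hv0
  apply hB.1
  intro x
  obtain ⟨x', hx'⟩ : ∃ x' : V, x' = x - ∑ i, (B x (a i) / B (a i) (a i)) • a i := ⟨_, rfl⟩
  have hx'T : ∀ j, B (a j) x' = 0 := by
    intro j
    rw [hx', map_sub, map_sum, Finset.sum_eq_single j]
    · rw [map_smul, smul_eq_mul, hS (a j) x]
      have := hn j
      field_simp
      ring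
    · intro i _ hij
      rw [map_smul, ho j i (Ne.symm hij), smul_zero]
    · intro h
      exact absurd (Finset.mem_univ j) h
  have hpol : B v x' = 0 := by
    have h1 := hcon v hvT
    have h2' := hcon x' hx'T
    have h3 := hcon (v + x') (fun i => by rw [map_add, hvT i, hx'T i, add_zero])
    rw [map_add, map_add, LinearMap.add_apply, LinearMap.add_apply, h1, h2', hS x' v] at h3
    have : (2 : F) * B v x' = 0 := by linear_combination h3
    rcases mul_eq_zero.mp this with h | h
    · exact absurd h h2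
    · exact h
  have e : x = x' + ∑ i, (B x (a i) / B (a i) (a i)) • a i := by
    rw [hx']
    abel
  rw [e, map_add, hpol, map_sum, zero_add]
  apply Finset.sum_eq_zero
  intro i _
  rw [map_smul, hS v (a i), hvT i, smul_zero]

theorem exists_nonsing (hS : ∀ x y, B x y = B y x) (hB : B.Nondegenerate) (h2 : (2 : F) ≠ 0)
    (hd : 1 ≤ finrank F V) : ∃ v, B v v ≠ 0 := by
  obtain ⟨v, -, hv⟩ := orth_ext B hS hB h2 (k := 0) (fun i => i.elim0) (fun i => i.elim0)
    (fun i => i.elim0) (by omega)
  exact ⟨v, hv⟩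

theorem orth_ext1 (hS : ∀ x y, B x y = B y x) (hB : B.Nondegenerate) (h2 : (2 : F) ≠ 0)
    (x : V) (hx : B x x ≠ 0) (hd : 2 ≤ finrank F V) : ∃ v, B x v = 0 ∧ B v v ≠ 0 := by
  obtain ⟨v, hv, hvv⟩ := orth_ext B hS hB h2 (k := 1) (fun _ => x)
    (fun i j hij => absurd (Subsingleton.elim i j) hij) (fun _ => hx) (by omega)
  exact ⟨v, hv 0, hvv⟩

theorem orth_ext2 (hS : ∀ x y, B x y = B y x) (hB : B.Nondegenerate) (h2 : (2 : F) ≠ 0)
    (x y : V) (hx : B x x ≠ 0) (hy : B y y ≠ 0) (hxy : B x y = 0) (hd : 3 ≤ finrank F V) :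
    ∃ v, B x v = 0 ∧ B y v = 0 ∧ B v v ≠ 0 := by
  have hyx : B y x = 0 := by rw [hS, hxy]
  obtain ⟨v, hv, hvv⟩ := orth_ext B hS hB h2 (k := 2) ![x, y]
    (by
      intro i j hij
      fin_cases i <;> fin_cases j
      · exact absurd rfl hij
      · exact hxy
      · exact hyx
      · exact absurd rfl hij)
    (by
      intro i
      fin_cases i
      · exact hx
      · exact hy) (by omega)
  exact ⟨v, hv 0, hv 1, hvv⟩

theorem orth_ext3 (hS : ∀ x y, B x y = B y x) (hB : B.Nondegenerate) (h2 : (2 : F) ≠ 0)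
    (x y p : V) (hx : B x x ≠ 0) (hy : B y y ≠ 0) (hp : B p p ≠ 0) (hxy : B x y = 0)
    (hxp : B x p = 0) (hyp : B y p = 0) (hd : 4 ≤ finrank F V) :
    ∃ v, B x v = 0 ∧ B y v = 0 ∧ B p v = 0 ∧ B v v ≠ 0 := by
  have hyx : B y x = 0 := by rw [hS, hxy]
  have hpx : B p x = 0 := by rw [hS, hxp]
  have hpy : B p y = 0 := by rw [hS, hyp]
  obtain ⟨v, hv, hvv⟩ := orth_ext B hS hB h2 (k := 3) ![x, y, p]
    (by
      intro i j hij
      fin_cases i <;> fin_cases j
      · exact absurd rfl hij
      · exact hxy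
      · exact hxp
      · exact hyx
      · exact absurd rfl hij
      · exact hyp
      · exact hpx
      · exact hpy
      · exact absurd rfl hij)
    (by
      intro i
      fin_cases i
      · exact hx
      · exact hy
      · exact hp) (by omega)
  exact ⟨v, hv 0, hv 1, hv 2, hvv⟩

omit [FiniteDimensional F V] in
/-- a nonsingular translate -/
theorem nonsing_add (hS : ∀ x y, B x y = B y x) (h2 : (2 : F) ≠ 0) (z₀ : V) (hz₀ : B z₀ z₀ ≠ 0)
    (u : V) : ∃ t : F, B (u + t • z₀) (u + t • z₀) ≠ 0 := by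
  by_cases hu : B u u = 0
  · have key : ∀ t : F, B (u + t • z₀) (u + t • z₀) = t * (2 * B u z₀ + t * B z₀ z₀) := by
      intro t
      simp only [map_add, map_smul, LinearMap.add_apply, LinearMap.smul_apply, smul_eq_mul, hu,
        hS z₀ u]
      ring
    by_cases h1 : 2 * B u z₀ + 1 * B z₀ z₀ = 0
    · refine ⟨-1, ?_⟩
      rw [key]
      apply mul_ne_zero (by simp)
      intro h
      have : (2 : F) * B z₀ z₀ = 0 := by linear_combination h1 - h
      rcases mul_eq_zero.mp this with h' | h'
      · exact h2 h'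
      · exact hz₀ h'
    · refine ⟨1, ?_⟩
      rw [key]
      exact mul_ne_zero one_ne_zero h1
  · exact ⟨0, by simpa using hu⟩

omit [FiniteDimensional F V] in
/-- a linear map killing all nonsingular vectors is zero -/
theorem eq_zero_of_nonsing (hS : ∀ x y, B x y = B y x) (h2 : (2 : F) ≠ 0) (z₀ : V)
    (hz₀ : B z₀ z₀ ≠ 0) {X : Type*} [AddCommGroup X] [Module F X] (Ψ : V →ₗ[F] X)
    (h : ∀ z, B z z ≠ 0 → Ψ z = 0) : Ψ = 0 := by
  apply LinearMap.ext
  intro u
  obtain ⟨t, ht⟩ := nonsing_add B hS h2 z₀ hz₀ u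
  have h1 := h _ ht
  rw [map_add, map_smul, h z₀ hz₀, smul_zero, add_zero] at h1
  rw [h1, LinearMap.zero_apply]

/-- an operator for which every nonsingular vector is an eigenvector is scalar -/
theorem scalar_of_nonsing_eigen (hS : ∀ x y, B x y = B y x) (hB : B.Nondegenerate)
    (h2 : (2 : F) ≠ 0) (hd : 3 ≤ finrank F V) (L : V →ₗ[F] V)
    (h : ∀ x, B x x ≠ 0 → ∃ c : F, L x = c • x) : ∃ c : F, L = c • LinearMap.id := by
  obtain ⟨z₀, hz₀⟩ := exists_nonsing B hS hB h2 (by omega)
  obtain ⟨l₀, hl₀⟩ := h z₀ hz₀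
  have hz₀0 : z₀ ≠ 0 := by
    intro h0
    apply hz₀
    rw [h0, map_zero]
  refine ⟨l₀, ?_⟩
  have key : ∀ x, B x x ≠ 0 → L x = l₀ • x := by
    intro x hx
    obtain ⟨l, hl⟩ := h x hx
    -- auxiliary: from an eigen-sum
    have aux : ∀ (e : F), e ≠ 0 → B (x + e • z₀) (x + e • z₀) ≠ 0 → L x = l₀ • x := by
      intro e he hne
      obtain ⟨κ, hκ⟩ := h _ hne
      rw [map_add, map_smul, hl, hl₀] at hκ
      -- l x + e l₀ z₀ = κ x + κ e z₀
      by_cases hlk : l = κ
      · have h3 : (e * (l₀ - κ)) • z₀ = 0 := by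
          have : l • x + e • l₀ • z₀ = κ • (x + e • z₀) := hκ
          rw [hlk] at this
          have h4 : e • l₀ • z₀ = κ • e • z₀ := by
            rw [smul_add] at this
            exact add_left_cancel this
          rw [mul_sub, sub_smul, mul_smul, mul_smul, h4, smul_comm κ e z₀, sub_self]
        rcases smul_eq_zero.mp h3 with h5 | h5
        · rcases mul_eq_zero.mp h5 with h6 | h6
          · exact absurd h6 he
          · rw [hl, hlk, sub_eq_zero.mp h6]
        · exact absurd h5 hz₀0
      · have h3 : (l - κ) • x = (e * (κ - l₀)) • z₀ := by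
          have : l • x + e • l₀ • z₀ = κ • (x + e • z₀) := hκ
          rw [smul_add] at this
          rw [sub_smul, mul_sub, sub_smul, mul_smul, mul_smul, smul_comm e κ z₀]
          rw [sub_eq_sub_iff_add_eq_add]
          rw [this]
          abel
        have hne' : l - κ ≠ 0 := sub_ne_zero.mpr hlk
        have h4 : x = ((l - κ)⁻¹ * (e * (κ - l₀))) • z₀ := by
          rw [mul_smul, ← h3, smul_smul, inv_mul_cancel₀ hne', one_smul]
        rw [h4, map_smul, hl₀, smul_comm]
    by_cases hp : B (x + z₀) (x + z₀) ≠ 0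
    · exact aux 1 one_ne_zero (by rwa [one_smul])
    · by_cases hm : B (x - z₀) (x - z₀) ≠ 0
      · exact aux (-1) (by simp) (by rwa [neg_one_smul, ← sub_eq_add_neg])
      · push Not at hp hm
        have hxz : B x z₀ = 0 := by
          simp only [map_add, map_sub, LinearMap.add_apply, LinearMap.sub_apply, hS z₀ x] at hp hm
          have : (2 : F) * (2 * B x z₀) = 0 := by linear_combination hp - hm
          rcases mul_eq_zero.mp this with h' | h'
          · exact absurd h' h2
          · rcases mul_eq_zero.mp h' with h'' | h''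
            · exact absurd h'' h2
            · exact h''
        have hzx : B z₀ x = 0 := by rw [hS, hxz]
        obtain ⟨v, hxv, hzv, hvv⟩ := orth_ext2 B hS hB h2 x z₀ hx hz₀ hxz hd
        have hvx : B v x = 0 := by rw [hS, hxv]
        have hvz : B v z₀ = 0 := by rw [hS, hzv]
        have hsum : B (x + z₀ + v) (x + z₀ + v) ≠ 0 := by
          have : B (x + z₀ + v) (x + z₀ + v) = B (x + z₀) (x + z₀) + B v v := by
            simp only [map_add, LinearMap.add_apply, hxv, hzv, hvx, hvz]
            ring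
          rw [this, hp, zero_add]
          exact hvv
        obtain ⟨κ, hκ⟩ := h _ hsum
        obtain ⟨ν, hν⟩ := h v hvv
        rw [map_add, map_add, hl, hl₀, hν] at hκ
        have e1 := congrArg (fun y => B y x) hκ
        have e2 := congrArg (fun y => B y z₀) hκ
        simp only [map_add, map_smul, LinearMap.add_apply, LinearMap.smul_apply, smul_eq_mul, hzx,
          hvx, hxz, hvz, mul_zero, add_zero, zero_add] at e1 e2
        have e3 : l = κ := mul_right_cancel₀ hx e1
        have e4 : l₀ = κ := mul_right_cancel₀ hz₀ e2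
        rw [hl, e3, e4]
  apply LinearMap.ext
  intro u
  obtain ⟨t, ht⟩ := nonsing_add B hS h2 z₀ hz₀ u
  have h1 := key _ ht
  rw [map_add, map_smul, key z₀ hz₀, smul_add] at h1
  rw [LinearMap.smul_apply, LinearMap.id_apply]
  rw [smul_comm l₀ t z₀] at h1
  exact add_right_cancel h1

/-- a quadratic equation in two variables over a finite field of odd order -/
theorem exists_sq_sum [Fintype F] (hodd : Fintype.card F % 2 = 1) (β γ δ : F) (hβ : β ≠ 0)
    (hγ : γ ≠ 0) : ∃ s t : F, β * s ^ 2 + γ * t ^ 2 + δ = 0 := by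
  obtain ⟨a, b, hab⟩ := FiniteField.exists_root_sum_quadratic
    (f := Polynomial.C β * Polynomial.X ^ 2 + Polynomial.C 0 * Polynomial.X + Polynomial.C δ)
    (g := Polynomial.C γ * Polynomial.X ^ 2 + Polynomial.C 0 * Polynomial.X + Polynomial.C 0)
    (Polynomial.degree_quadratic hβ) (Polynomial.degree_quadratic hγ) hodd
  refine ⟨a, b, ?_⟩
  simp only [Polynomial.eval_add, Polynomial.eval_mul, Polynomial.eval_C, Polynomial.eval_pow,
    Polynomial.eval_X, zero_mul, add_zero] at hab
  linear_combination hab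

/-- singular vectors exist in dimension at least three -/
theorem exists_singular [Fintype F] (hodd : Fintype.card F % 2 = 1)
    (hS : ∀ x y, B x y = B y x) (hB : B.Nondegenerate) (h2 : (2 : F) ≠ 0)
    (hd : 3 ≤ finrank F V) : ∃ z, z ≠ 0 ∧ B z z = 0 := by
  obtain ⟨x, hx⟩ := exists_nonsing B hS hB h2 (by omega)
  obtain ⟨y, hxy, hy⟩ := orth_ext1 B hS hB h2 x hx (by omega)
  obtain ⟨v, hxv, hyv, hv⟩ := orth_ext2 B hS hB h2 x y hx hy hxy hd
  obtain ⟨s, t, hst⟩ := exists_sq_sum hodd (B x x) (B y y) (B v v) hx hy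
  have hyx : B y x = 0 := by rw [hS, hxy]
  have hvx : B v x = 0 := by rw [hS, hxv]
  have hvy : B v y = 0 := by rw [hS, hyv]
  refine ⟨s • x + t • y + v, ?_, ?_⟩
  · intro h0
    have := congrArg (fun z => B z v) h0
    simp only [map_add, map_smul, LinearMap.add_apply, LinearMap.smul_apply, smul_eq_mul, hxv, hyv,
      mul_zero, zero_add, map_zero, LinearMap.zero_apply] at this
    exact hv this
  · simp only [map_add, map_smul, LinearMap.add_apply, LinearMap.smul_apply, smul_eq_mul, hxy, hxv,
      hyv, hyx, hvx, hvy, mul_zero, add_zero, zero_add]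
    linear_combination hst

omit [FiniteDimensional F V] in
/-- two singular vectors with non-zero product are interchanged by a reflection -/
theorem exists_isom_singular_aux (hS : ∀ x y, B x y = B y x) (h2 : (2 : F) ≠ 0) (w w' : V)
    (hw : B w w = 0) (hw' : B w' w' = 0) (hww' : B w w' ≠ 0) :
    ∃ g : V ≃ₗ[F] V, (∀ x y, B (g x) (g y) = B x y) ∧ g w = w' := by
  refine ⟨refl B (w - w'), refl_isom B hS _, ?_⟩
  have hN : B (w - w') (w - w') = -(2 * B w w') := by
    simp only [map_sub, LinearMap.sub_apply, hw, hw', hS w' w]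
    ring
  have hwz : B w (w - w') = -B w w' := by
    rw [map_sub, hw, zero_sub]
  rw [refl_apply, hN, hwz]
  have : 2 / -(2 * B w w') * -B w w' = 1 := by
    field_simp
  rw [this, one_smul]
  abel

omit [FiniteDimensional F V] in
/-- the isometry group is transitive on non-zero singular vectors -/
theorem exists_isom_singular (hS : ∀ x y, B x y = B y x) (hB : B.Nondegenerate)
    (h2 : (2 : F) ≠ 0) (w w' : V) (hw0 : w ≠ 0) (hw'0 : w' ≠ 0)
    (hw : B w w = 0) (hw' : B w' w' = 0) :
    ∃ g : V ≃ₗ[F] V, (∀ x y, B (g x) (g y) = B x y) ∧ g w = w' := by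
  by_cases hww' : B w w' ≠ 0
  · exact exists_isom_singular_aux B hS h2 w w' hw hw' hww'
  · push Not at hww'
    have ha : ∃ a, B w a ≠ 0 := by
      by_contra hcon
      push Not at hcon
      exact hw0 (hB.1 w hcon)
    have hb : ∃ b, B w' b ≠ 0 := by
      by_contra hcon
      push Not at hcon
      exact hw'0 (hB.1 w' hcon)
    obtain ⟨a, ha⟩ := ha
    obtain ⟨b, hb⟩ := hb
    have hx : ∃ x, B w x ≠ 0 ∧ B w' x ≠ 0 := by
      by_cases h1 : B w' a ≠ 0
      · exact ⟨a, ha, h1⟩
      · by_cases h3 : B w b ≠ 0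
        · exact ⟨b, h3, hb⟩
        · push Not at h1 h3
          refine ⟨a + b, ?_, ?_⟩
          · rw [map_add, h3, add_zero]
            exact ha
          · rw [map_add, h1, zero_add]
            exact hb
    obtain ⟨x, hwx, hw'x⟩ := hx
    obtain ⟨w'', hw''⟩ : ∃ w'' : V, w'' = x + (-(B x x) / (2 * B x w)) • w := ⟨_, rfl⟩
    have hxw : B x w ≠ 0 := by rwa [hS]
    have h1 : B w'' w'' = 0 := by
      rw [hw'']
      simp only [map_add, map_smul, LinearMap.add_apply, LinearMap.smul_apply, smul_eq_mul, hw,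
        hS w x]
      field_simp
      ring
    have h3 : B w w'' ≠ 0 := by
      rw [hw'', map_add, map_smul, hw, smul_zero, add_zero]
      exact hwx
    have h4 : B w'' w' ≠ 0 := by
      rw [hw'', map_add, map_smul, LinearMap.add_apply, LinearMap.smul_apply, hww', smul_zero,
        add_zero, hS]
      exact hw'x
    obtain ⟨g₁, hg₁, hg₁w⟩ := exists_isom_singular_aux B hS h2 w w'' hw h1 h3
    obtain ⟨g₂, hg₂, hg₂w⟩ := exists_isom_singular_aux B hS h2 w'' w' h1 hw' h4
    refine ⟨g₁.trans g₂, ?_, ?_⟩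
    · intro x y
      simp only [LinearEquiv.trans_apply]
      rw [hg₂, hg₁]
    · simp only [LinearEquiv.trans_apply]
      rw [hg₁w, hg₂w]

end Cfsg.Agent.Lib.Helper1.TsB
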