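import Mathlib
import Cfsg.Agent.Lib.Helper1.TsB2

/-!
# The module lemma: an invariant space of self-adjoint operators containing a non-scalar one
contains a rank one operator with singular centre
-/

set_option autoImplicit false
set_option maxHeartbeats 4000000
set_option maxRecDepth 100000
set_option linter.unusedSimpArgs false
set_option linter.unusedVariables false
set_option linter.unusedSectionVars false
set_option linter.style.longLine false
set_option linter.deprecated false

namespace Cfsg.Agent.Lib.Helper1.TsB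

open Module
open Cfsg.Agent.Lib.Helper1.TsA

variable {F : Type*} [Field F] {V : Type*} [AddCommGroup V] [Module F V] [FiniteDimensional F V]
  (B : LinearMap.BilinForm F V)

omit [FiniteDimensional F V] in
theorem reflL_conj_sym2 (hS : ∀ x y, B x y = B y x) (z a b : V) :
    reflL B z ∘ₗ sym2 B a b ∘ₗ reflL B z = sym2 B (refl B z a) (refl B z b) := by
  have := conj_sym2 B (refl B z) (refl_isom B hS z) a b
  rw [refl_coe, refl_symm_coe] at this
  exact this

omit [FiniteDimensional F V] in
/-- the conjugation formula `L - r_z L r_z = (2/N(z)) (z ∘ y')` -/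
theorem sub_conj_refl (hS : ∀ x y, B x y = B y x) (L : V →ₗ[F] V)
    (hsa : ∀ x y, B (L x) y = B x (L y)) (z : V) (hz : B z z ≠ 0) :
    L - reflL B z ∘ₗ L ∘ₗ reflL B z =
      (2 / B z z) • sym2 B z (L z - (B (L z) z / B z z) • z) := by
  apply LinearMap.ext
  intro u
  rw [LinearMap.sub_apply, LinearMap.comp_apply, LinearMap.comp_apply, LinearMap.smul_apply,
    sym2_apply, reflL_apply B z (L (reflL B z u)), reflL_apply B z u]
  simp only [map_sub, map_smul, LinearMap.sub_apply, LinearMap.smul_apply, smul_eq_mul, hsa u z]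
  have e1 : L u - (L u - (2 / B z z * B u z) • L z -
      (2 / B z z * (B u (L z) - 2 / B z z * B u z * B (L z) z)) • z) =
      (2 / B z z * B u z) • L z +
        (2 / B z z * (B u (L z) - 2 / B z z * B u z * B (L z) z)) • z := by
    abel
  have e2 : (2 / B z z) • ((B u (L z) - B (L z) z / B z z * B u z) • z +
      B u z • (L z - (B (L z) z / B z z) • z)) =
      (2 / B z z * B u z) • L z +
        (2 / B z z * (B u (L z) - B (L z) z / B z z * B u z) -
          2 / B z z * B u z * (B (L z) z / B z z)) • z := by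
    module
  rw [e1, e2]
  congr 2
  field_simp
  ring

section modlem

variable (hS : ∀ x y, B x y = B y x) (hB : B.Nondegenerate) (h2 : (2 : F) ≠ 0)
  (LL : Submodule F (V →ₗ[F] V))
  (hconj : ∀ L ∈ LL, ∀ z, B z z ≠ 0 → reflL B z ∘ₗ L ∘ₗ reflL B z ∈ LL)

/-- `x` is good when `x ∘ y` lies in the space for every `y ⊥ x` -/
def Good (x : V) : Prop := ∀ y, B x y = 0 → sym2 B x y ∈ LL

include hS h2 hconj in
omit [FiniteDimensional F V] in
theorem Y_closure (x y z : V) (hxz : B x z = 0) (hz : B z z ≠ 0) (hyz : B y z ≠ 0)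
    (hy : sym2 B x y ∈ LL) : sym2 B x z ∈ LL := by
  have h1 := hconj _ hy z hz
  rw [reflL_conj_sym2 B hS, refl_fix B z x hxz, refl_apply, sym2_sub_right, sym2_smul_right] at h1
  have h3 := LL.sub_mem hy h1
  have h4 : sym2 B x y - (sym2 B x y - (2 / B z z * B y z) • sym2 B x z) =
      (2 / B z z * B y z) • sym2 B x z := by abel
  rw [h4] at h3
  have hc : (2 / B z z * B y z) ≠ 0 := mul_ne_zero (div_ne_zero h2 hz) hyz
  have := LL.smul_mem (2 / B z z * B y z)⁻¹ h3
  rwa [smul_smul, inv_mul_cancel₀ hc, one_smul] at this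

include hS hB h2 hconj in
/-- one non-zero `y ⊥ x` with `x ∘ y` in the space makes `x` good -/
theorem good_of_one [Fintype F] (hodd : Fintype.card F % 2 = 1)
    (hex : Fintype.card F ≠ 3 ∨ 4 ≤ finrank F V) (x y₀ : V)
    (hx : B x x ≠ 0) (hy₀ : y₀ ≠ 0) (hxy₀ : B x y₀ = 0) (h : sym2 B x y₀ ∈ LL) :
    Good B LL x := by
  have hy₀x : B y₀ x = 0 := by rw [hS, hxy₀]
  -- (i) a nonsingular member
  have step1 : ∃ y₁, B x y₁ = 0 ∧ B y₁ y₁ ≠ 0 ∧ sym2 B x y₁ ∈ LL := by
    by_cases hn : B y₀ y₀ ≠ 0
    · exact ⟨y₀, hxy₀, hn, h⟩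
    · push Not at hn
      have ha : ∃ a, B y₀ a ≠ 0 := by
        by_contra hcon
        push Not at hcon
        exact hy₀ (hB.1 y₀ hcon)
      obtain ⟨a, ha⟩ := ha
      obtain ⟨a', ha'⟩ : ∃ a' : V, a' = a - (B a x / B x x) • x := ⟨_, rfl⟩
      have hxa' : B x a' = 0 := by
        rw [ha', map_sub, map_smul, smul_eq_mul, hS x a]
        field_simp
        ring
      have hya' : B y₀ a' ≠ 0 := by
        rw [ha', map_sub, map_smul, hy₀x, smul_zero, sub_zero]
        exact ha
      by_cases hna : B a' a' ≠ 0
      · exact ⟨a', hxa', hna, Y_closure B hS h2 LL hconj x y₀ a' hxa' hna hya' h⟩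
      · push Not at hna
        have hn1 : B (a' + y₀) (a' + y₀) ≠ 0 := by
          have : B (a' + y₀) (a' + y₀) = 2 * B y₀ a' := by
            simp only [map_add, LinearMap.add_apply, hna, hn, hS a' y₀]
            ring
          rw [this]
          exact mul_ne_zero h2 hya'
        have hx1 : B x (a' + y₀) = 0 := by rw [map_add, hxa', hxy₀, add_zero]
        have hy1 : B y₀ (a' + y₀) ≠ 0 := by
          rw [map_add, hn, add_zero]
          exact hya'
        exact ⟨a' + y₀, hx1, hn1, Y_closure B hS h2 LL hconj x y₀ _ hx1 hn1 hy1 h⟩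
  obtain ⟨y₁, hxy₁, hy₁, hy₁L⟩ := step1
  -- (ii) all nonsingular vectors
  have step2 : ∀ p, B x p = 0 → B p p ≠ 0 → sym2 B x p ∈ LL := by
    intro p hxp hp
    by_cases hyp : B y₁ p ≠ 0
    · exact Y_closure B hS h2 LL hconj x y₁ p hxp hp hyp hy₁L
    · push Not at hyp
      have hpy : B p y₁ = 0 := by rw [hS, hyp]
      have hz : ∃ z, B x z = 0 ∧ B z z ≠ 0 ∧ B y₁ z ≠ 0 ∧ B z p ≠ 0 := by
        by_cases hsum : B y₁ y₁ + B p p ≠ 0
        · refine ⟨y₁ + p, by rw [map_add, hxy₁, hxp, add_zero], ?_, ?_, ?_⟩
          · simp only [map_add, LinearMap.add_apply, hyp, hpy, add_zero, zero_add]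
            exact hsum
          · rw [map_add, hyp, add_zero]
            exact hy₁
          · rw [map_add, LinearMap.add_apply, hyp, zero_add]
            exact hp
        · push Not at hsum
          rcases hex with hc | hd4
          · -- a scalar different from 0, 1, -1
            classical
            have hcard : 3 < Fintype.card F := by
              have h1 : 1 < Fintype.card F := Fintype.one_lt_card
              omega
            have ht : ∃ t : F, t ∉ ({0, 1, -1} : Finset F) := by
              by_contra hcon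
              push Not at hcon
              have : (Finset.univ : Finset F) ⊆ {0, 1, -1} := fun t _ => hcon t
              have h1 := Finset.card_le_card this
              have h3 : ({0, 1, -1} : Finset F).card ≤ 3 := Finset.card_le_three
              rw [Finset.card_univ] at h1
              omega
            obtain ⟨t, ht⟩ := ht
            simp only [Finset.mem_insert, Finset.mem_singleton, not_or] at ht
            obtain ⟨ht0, ht1, htm⟩ := ht
            refine ⟨y₁ + t • p, by rw [map_add, map_smul, hxy₁, hxp, smul_zero, add_zero], ?_,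
              ?_, ?_⟩
            · have : B (y₁ + t • p) (y₁ + t • p) = B y₁ y₁ * ((1 - t) * (1 + t)) := by
                simp only [map_add, map_smul, LinearMap.add_apply, LinearMap.smul_apply,
                  smul_eq_mul, hyp, hpy, mul_zero, add_zero, zero_add]
                linear_combination t ^ 2 * hsum
              rw [this]
              apply mul_ne_zero hy₁
              apply mul_ne_zero
              · intro h0
                exact ht1 (sub_eq_zero.mp h0).symm
              · intro h0
                apply htm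
                linear_combination h0
            · rw [map_add, map_smul, hyp, smul_zero, add_zero]
              exact hy₁
            · rw [map_add, map_smul, LinearMap.add_apply, LinearMap.smul_apply, hyp, zero_add,
                smul_eq_mul]
              exact mul_ne_zero ht0 hp
          · obtain ⟨v, hxv, hyv, hpv, hv⟩ :=
              orth_ext3 B hS hB h2 x y₁ p hx hy₁ hp hxy₁ hxp hyp hd4
            have hvy : B v y₁ = 0 := by rw [hS, hyv]
            have hvp : B v p = 0 := by rw [hS, hpv]
            refine ⟨y₁ + p + v, by rw [map_add, map_add, hxy₁, hxp, hxv, add_zero, add_zero], ?_,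
              ?_, ?_⟩
            · have : B (y₁ + p + v) (y₁ + p + v) = (B y₁ y₁ + B p p) + B v v := by
                simp only [map_add, LinearMap.add_apply, hyp, hpy, hyv, hpv, hvy, hvp]
                ring
              rw [this, hsum, zero_add]
              exact hv
            · rw [map_add, map_add, hyp, hyv, add_zero, add_zero]
              exact hy₁
            · rw [map_add, map_add, LinearMap.add_apply, LinearMap.add_apply, hyp, hvp, zero_add,
                add_zero]
              exact hp
      obtain ⟨z, hxz, hzz, hyz, hzp⟩ := hz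
      have hzL := Y_closure B hS h2 LL hconj x y₁ z hxz hzz hyz hy₁L
      exact Y_closure B hS h2 LL hconj x z p hxp hp hzp hzL
  -- (iii) all vectors
  intro p hxp
  obtain ⟨t, ht⟩ := nonsing_add B hS h2 y₁ hy₁ p
  have h1 := step2 (p + t • y₁) (by rw [map_add, map_smul, hxp, hxy₁, smul_zero, add_zero]) ht
  have h3 := LL.sub_mem h1 (LL.smul_mem t hy₁L)
  have h4 : sym2 B x (p + t • y₁) - t • sym2 B x y₁ = sym2 B x p := by
    rw [sym2_add_right, sym2_smul_right]
    abel
  rwa [h4] at h3

include hS hB h2 hconj in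
theorem good_of_perp [Fintype F] (hodd : Fintype.card F % 2 = 1)
    (hex : Fintype.card F ≠ 3 ∨ 4 ≤ finrank F V) (x z : V) (hx : B x x ≠ 0)
    (hgx : Good B LL x) (hxz : B x z = 0) (hz : B z z ≠ 0) : Good B LL z := by
  have hx0 : x ≠ 0 := by
    intro h0
    apply hx
    rw [h0, map_zero]
  have hzx : B z x = 0 := by rw [hS, hxz]
  have h1 := hgx z hxz
  rw [sym2_comm] at h1
  exact good_of_one B hS hB h2 LL hconj hodd hex z x hz hx0 hzx h1

include hS hB h2 hconj in
/-- **the module lemma** -/
theorem module_lemma [Fintype F] (hodd : Fintype.card F % 2 = 1) (hd : 3 ≤ finrank F V)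
    (hex : Fintype.card F ≠ 3 ∨ 4 ≤ finrank F V)
    (hsa : ∀ L ∈ LL, ∀ x y, B (L x) y = B x (L y)) (L : V →ₗ[F] V) (hL : L ∈ LL)
    (hns : ¬ ∃ c : F, L = c • LinearMap.id) :
    ∃ z, z ≠ 0 ∧ B z z = 0 ∧ rkV B z z ∈ LL := by
  -- a nonsingular non-eigenvector
  have h1 : ∃ x, B x x ≠ 0 ∧ ∀ c : F, L x ≠ c • x := by
    by_contra hcon
    push Not at hcon
    exact hns (scalar_of_nonsing_eigen B hS hB h2 hd L hcon)
  obtain ⟨x, hx, hxe⟩ := h1
  obtain ⟨y', hy'⟩ : ∃ y' : V, y' = L x - (B (L x) x / B x x) • x := ⟨_, rfl⟩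
  have hxy' : B x y' = 0 := by
    rw [hy', map_sub, map_smul, smul_eq_mul, hS x (L x)]
    field_simp
    ring
  have hy'0 : y' ≠ 0 := by
    intro h0
    rw [hy', sub_eq_zero] at h0
    exact hxe _ h0
  have hsub : L - reflL B x ∘ₗ L ∘ₗ reflL B x ∈ LL := LL.sub_mem hL (hconj L hL x hx)
  rw [sub_conj_refl B hS L (hsa L hL) x hx, ← hy'] at hsub
  have hxy'L : sym2 B x y' ∈ LL := by
    have hc : (2 / B x x) ≠ 0 := div_ne_zero h2 hx
    have := LL.smul_mem (2 / B x x)⁻¹ hsub
    rwa [smul_smul, inv_mul_cancel₀ hc, one_smul] at this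
  have hgx : Good B LL x := good_of_one B hS hB h2 LL hconj hodd hex x y' hx hy'0 hxy' hxy'L
  -- an orthogonal frame
  obtain ⟨y, hxy, hy⟩ := orth_ext1 B hS hB h2 x hx (by omega)
  obtain ⟨v, hxv, hyv, hv⟩ := orth_ext2 B hS hB h2 x y hx hy hxy hd
  have hyx : B y x = 0 := by rw [hS, hxy]
  have hvx : B v x = 0 := by rw [hS, hxv]
  have hvy : B v y = 0 := by rw [hS, hyv]
  have hgv : Good B LL v := good_of_perp B hS hB h2 LL hconj hodd hex x v hx hgx hxv hv
  obtain ⟨s, t, hst⟩ := exists_sq_sum hodd (B x x) (B y y) (B v v) hx hy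
  obtain ⟨z, hz⟩ : ∃ z : V, z = s • x + t • y + v := ⟨_, rfl⟩
  obtain ⟨g, hg⟩ : ∃ g : V, g = (t * B y y) • x - (s * B x x) • y := ⟨_, rfl⟩
  have hzv : B z v = B v v := by
    rw [hz]
    simp only [map_add, map_smul, LinearMap.add_apply, LinearMap.smul_apply, smul_eq_mul, hxv, hyv,
      mul_zero, zero_add]
  have hz0 : z ≠ 0 := by
    intro h0
    rw [h0, map_zero, LinearMap.zero_apply] at hzv
    exact hv hzv.symm
  have hzz : B z z = 0 := by
    rw [hz]
    simp only [map_add, map_smul, LinearMap.add_apply, LinearMap.smul_apply, smul_eq_mul, hxy, hxv,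
      hyv, hyx, hvx, hvy, mul_zero, add_zero, zero_add]
    linear_combination hst
  have hvg : B v g = 0 := by
    rw [hg, map_sub, map_smul, map_smul, hvx, hvy, smul_zero, smul_zero, sub_zero]
  have hgg : B g g ≠ 0 := by
    have : B g g = -(B x x * B y y * B v v) := by
      rw [hg]
      simp only [map_sub, map_smul, LinearMap.sub_apply, LinearMap.smul_apply, smul_eq_mul, hxy,
        hyx, mul_zero, sub_zero, zero_sub]
      linear_combination (B x x * B y y) * hst
    rw [this]
    exact neg_ne_zero.mpr (mul_ne_zero (mul_ne_zero hx hy) hv)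
  have hgz : B g z = 0 := by
    rw [hg, hz]
    simp only [map_sub, map_add, map_smul, LinearMap.sub_apply, LinearMap.add_apply,
      LinearMap.smul_apply, smul_eq_mul, hxy, hyx, hxv, hyv, mul_zero, add_zero, zero_add]
    ring
  have hzg : B z g = 0 := by rw [hS, hgz]
  have hgg' : Good B LL g := good_of_perp B hS hB h2 LL hconj hodd hex v g hv hgv hvg hgg
  have hgzL : sym2 B g z ∈ LL := hgg' z hgz
  -- the reflection in `g + z`
  have hN : B (g + z) (g + z) = B g g := by
    simp only [map_add, LinearMap.add_apply, hgz, hzg, hzz, add_zero]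
  have hN0 : B (g + z) (g + z) ≠ 0 := by rwa [hN]
  have hrg : refl B (g + z) g = -g - (2 : F) • z := by
    have e0 : B g (g + z) = B g g := by rw [map_add, hgz, add_zero]
    rw [refl_apply, hN, e0]
    have : 2 / B g g * B g g = 2 := by field_simp
    rw [this, smul_add, two_smul, two_smul]
    abel
  have hrz : refl B (g + z) z = z := by
    have e0 : B z (g + z) = 0 := by rw [map_add, hzg, hzz, add_zero]
    rw [refl_apply, e0, mul_zero, zero_smul, sub_zero]
  have h5 := hconj _ hgzL (g + z) hN0
  rw [reflL_conj_sym2 B hS, hrg, hrz] at h5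
  have h6 := LL.add_mem hgzL h5
  have h7 : sym2 B g z + sym2 B (-g - (2 : F) • z) z = (-4 : F) • rkV B z z := by
    rw [sym2_comm B g z, sym2_comm B (-g - (2 : F) • z) z, ← sym2_add_right]
    have : g + (-g - (2 : F) • z) = (-2 : F) • z := by
      rw [neg_smul]
      abel
    rw [this, sym2_smul_right, sym2_self, smul_smul]
    norm_num
  rw [h7] at h6
  have h4 : (-4 : F) ≠ 0 := by
    have : (-4 : F) = -(2 * 2) := by norm_num
    rw [this]
    exact neg_ne_zero.mpr (mul_ne_zero h2 h2)
  refine ⟨z, hz0, hzz, ?_⟩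
  have := LL.smul_mem (-4 : F)⁻¹ h6
  rwa [smul_smul, inv_mul_cancel₀ h4, one_smul] at this

end modlem

end Cfsg.Agent.Lib.Helper1.TsB
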