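import Mathlib
import Cfsg.Agent.Lib.Helper1.TsB3
import Cfsg.Agent.Lib.Helper8.Tns7

/-!
# Centres of transvections and the generation step: a pure transvection with singular centre
together with the tensor group generates the symplectic group
-/

set_option autoImplicit false
set_option maxHeartbeats 4000000
set_option maxRecDepth 100000
set_option linter.unusedSimpArgs false
set_option linter.unusedVariables false
set_option linter.unusedSectionVars false
set_option linter.style.longLine false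
set_option linter.deprecated false

namespace Cfsg.Agent.Lib.Helper1.TsB

open Module Matrix
open Cfsg.Agent.Lib.Helper1.TsA
open Cfsg.Agent.Lib.Helper5.AltWitt
open Cfsg.Agent.Lib.Helper8.Tns

variable {F : Type*} [Field F] {ι : Type} [Fintype ι] [DecidableEq ι]
  (B : LinearMap.BilinForm F (ι → F)) (H : Subgroup (GL ι F))

/-- `g` is the transvection `x ↦ x + c B(x, v) v` -/
def IsTv (g : GL ι F) (v : ι → F) (c : F) : Prop :=
  ∀ x, (g : Matrix ι ι F) *ᵥ x = x + (c * B x v) • v

/-- the transvection with centre `v` and parameter `c` lies in `H` -/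
def TvIn (v : ι → F) (c : F) : Prop := ∃ g ∈ H, IsTv B g v c

/-- all transvections with centre `v` lie in `H` -/
def Cen (v : ι → F) : Prop := ∀ c, TvIn B H v c

theorem isTv_one (v : ι → F) : IsTv B (1 : GL ι F) v 0 := by
  intro x
  rw [Units.val_one, Matrix.one_mulVec, zero_mul, zero_smul, add_zero]

theorem IsTv.mul (hA : B.IsAlt) {g g' : GL ι F} {v : ι → F} {c c' : F} (h : IsTv B g v c)
    (h' : IsTv B g' v c') : IsTv B (g * g') v (c + c') := by
  intro x
  rw [Units.val_mul, ← Matrix.mulVec_mulVec, h' x, h]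
  simp only [map_add, map_smul, LinearMap.add_apply, LinearMap.smul_apply, smul_eq_mul,
    hA.self_eq_zero v, mul_zero, add_zero]
  module

theorem IsTv.of_smul {g : GL ι F} {v : ι → F} {a c : F} (h : IsTv B g (a • v) c) :
    IsTv B g v (a * a * c) := by
  intro x
  rw [h x, map_smul, smul_eq_mul, smul_smul]
  congr 2
  ring

theorem IsTv.to_smul {g : GL ι F} {v : ι → F} {a c : F} (h : IsTv B g v (a * a * c)) :
    IsTv B g (a • v) c := by
  intro x
  rw [h x, map_smul, smul_eq_mul, smul_smul]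
  congr 2
  ring

theorem IsTv.conj {g h : GL ι F} {v : ι → F} {c : F} (hg : IsTv B g v c)
    (hh : ∀ x y, B ((h : Matrix ι ι F) *ᵥ x) ((h : Matrix ι ι F) *ᵥ y) = B x y) :
    IsTv B (h * g * h⁻¹) ((h : Matrix ι ι F) *ᵥ v) c := by
  intro x
  rw [Units.val_mul, Units.val_mul, ← Matrix.mulVec_mulVec, ← Matrix.mulVec_mulVec, hg,
    Matrix.mulVec_add, mulVec_inv_mulVec, Matrix.mulVec_smul]
  have : B (((h⁻¹ : GL ι F) : Matrix ι ι F) *ᵥ x) v = B x ((h : Matrix ι ι F) *ᵥ v) := by
    rw [← hh (((h⁻¹ : GL ι F) : Matrix ι ι F) *ᵥ x) v, mulVec_inv_mulVec]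
  rw [this]

theorem tvIn_zero (v : ι → F) : TvIn B H v 0 := ⟨1, H.one_mem, isTv_one B v⟩

theorem TvIn.add (hA : B.IsAlt) {v : ι → F} {c c' : F} (h : TvIn B H v c) (h' : TvIn B H v c') :
    TvIn B H v (c + c') := by
  obtain ⟨g, hg, hgt⟩ := h
  obtain ⟨g', hg', hgt'⟩ := h'
  exact ⟨g * g', H.mul_mem hg hg', hgt.mul B hA hgt'⟩

theorem cen_zero : Cen B H 0 := by
  intro c
  refine ⟨1, H.one_mem, ?_⟩
  intro x
  rw [Units.val_one, Matrix.one_mulVec, smul_zero, add_zero]

theorem cen_smul {v : ι → F} (a : F) (h : Cen B H v) : Cen B H (a • v) := by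
  intro c
  obtain ⟨g, hg, hgt⟩ := h (a * a * c)
  exact ⟨g, hg, hgt.to_smul B⟩

section iso

variable (hH : ∀ h ∈ H, ∀ x y, B ((h : Matrix ι ι F) *ᵥ x) ((h : Matrix ι ι F) *ᵥ y) = B x y)

include hH in
theorem TvIn.map {v : ι → F} {c : F} (h : GL ι F) (hh : h ∈ H) (hv : TvIn B H v c) :
    TvIn B H ((h : Matrix ι ι F) *ᵥ v) c := by
  obtain ⟨g, hg, hgt⟩ := hv
  exact ⟨h * g * h⁻¹, H.mul_mem (H.mul_mem hh hg) (H.inv_mem hh), hgt.conj B (hH h hh)⟩

include hH in
theorem cen_map {v : ι → F} (h : GL ι F) (hh : h ∈ H) (hv : Cen B H v) :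
    Cen B H ((h : Matrix ι ι F) *ᵥ v) := fun c => (hv c).map B H hH h hh

include hH in
theorem cen_add_smul {u v : ι → F} (hu : Cen B H u) (hv : Cen B H v) (huv : B v u ≠ 0) (a : F) :
    Cen B H (v + a • u) := by
  obtain ⟨t, ht, htt⟩ := hu (a / B v u)
  have := cen_map B H hH t ht hv
  rw [htt v] at this
  have e : a / B v u * B v u = a := by field_simp
  rwa [e] at this

end iso

/-- three non-zero functionals have a common non-vanishing point (characteristic not two) -/
theorem three_functionals (h2 : (2 : F) ≠ 0) {X : Type*} [AddCommGroup X] [Module F X]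
    (f₁ f₂ f₃ : X →ₗ[F] F) (h₁ : f₁ ≠ 0) (h₂ : f₂ ≠ 0) (h₃ : f₃ ≠ 0) :
    ∃ x, f₁ x ≠ 0 ∧ f₂ x ≠ 0 ∧ f₃ x ≠ 0 := by
  have ex : ∀ f : X →ₗ[F] F, f ≠ 0 → ∃ x, f x ≠ 0 := by
    intro f hf
    by_contra hcon
    push Not at hcon
    exact hf (LinearMap.ext hcon)
  -- two functionals
  have two : ∀ f g : X →ₗ[F] F, f ≠ 0 → g ≠ 0 → ∃ x, f x ≠ 0 ∧ g x ≠ 0 := by
    intro f g hf hg
    obtain ⟨a, ha⟩ := ex f hf
    obtain ⟨b, hb⟩ := ex g hg
    by_cases h1 : g a ≠ 0
    · exact ⟨a, ha, h1⟩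
    · by_cases h3 : f b ≠ 0
      · exact ⟨b, h3, hb⟩
      · push Not at h1 h3
        exact ⟨a + b, by rw [map_add, h3, add_zero]; exact ha,
          by rw [map_add, h1, zero_add]; exact hb⟩
  obtain ⟨z, hz1, hz2⟩ := two f₁ f₂ h₁ h₂
  by_cases hz3 : f₃ z ≠ 0
  · exact ⟨z, hz1, hz2, hz3⟩
  · push Not at hz3
    obtain ⟨c, hc⟩ := ex f₃ h₃
    by_cases hp : f₁ (z + c) ≠ 0 ∧ f₂ (z + c) ≠ 0
    · exact ⟨z + c, hp.1, hp.2, by rw [map_add, hz3, zero_add]; exact hc⟩
    · by_cases hm : f₁ (z - c) ≠ 0 ∧ f₂ (z - c) ≠ 0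
      · exact ⟨z - c, hm.1, hm.2, by rw [map_sub, hz3, zero_sub]; exact neg_ne_zero.mpr hc⟩
      · refine ⟨c, ?_, ?_, hc⟩
        · intro h0
          rw [map_add, map_add, h0, add_zero] at hp
          rw [map_sub, map_sub, h0, sub_zero] at hm
          have e1 : f₂ z + f₂ c = 0 := by
            by_contra hne
            exact hp ⟨hz1, hne⟩
          have e2 : f₂ z - f₂ c = 0 := by
            by_contra hne
            exact hm ⟨hz1, hne⟩
          have : (2 : F) * f₂ z = 0 := by linear_combination e1 + e2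
          rcases mul_eq_zero.mp this with h | h
          · exact h2 h
          · exact hz2 h
        · intro h0
          rw [map_add, map_add, h0, add_zero] at hp
          rw [map_sub, map_sub, h0, sub_zero] at hm
          have e1 : f₁ z + f₁ c = 0 := by
            by_contra hne
            exact hp ⟨hne, hz2⟩
          have e2 : f₁ z - f₁ c = 0 := by
            by_contra hne
            exact hm ⟨hne, hz2⟩
          have : (2 : F) * f₁ z = 0 := by linear_combination e1 + e2
          rcases mul_eq_zero.mp this with h | h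
          · exact h2 h
          · exact hz1 h

/-- the data of a symplectic-orthogonal tensor decomposition acted on by `H` -/
structure SD {U W : Type*} [AddCommGroup U] [Module F U] [AddCommGroup W] [Module F W]
    (B₁ : LinearMap.BilinForm F U) (B₂ : LinearMap.BilinForm F W)
    (tp : U →ₗ[F] W →ₗ[F] (ι → F)) : Prop where
  altB : B.IsAlt
  ndB : B.Nondegenerate
  isoH : ∀ h ∈ H, ∀ x y, B ((h : Matrix ι ι F) *ᵥ x) ((h : Matrix ι ι F) *ᵥ y) = B x y
  alt₁ : B₁.IsAlt
  sym₂ : ∀ x y, B₂ x y = B₂ y x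
  nd₁ : B₁.Nondegenerate
  nd₂ : B₂.Nondegenerate
  form : ∀ u w u' w', B (tp u w) (tp u' w') = B₁ u u' * B₂ w w'
  ind : ∀ P : (ι → F) → Prop, P 0 → (∀ a u w, P a → P (a + tp u w)) → ∀ v, P v
  actU : ∀ g : U ≃ₗ[F] U, (∀ x y, B₁ (g x) (g y) = B₁ x y) →
    ∃ h ∈ H, ∀ u w, (h : Matrix ι ι F) *ᵥ tp u w = tp (g u) w
  actW : ∀ g : W ≃ₗ[F] W, (∀ x y, B₂ (g x) (g y) = B₂ x y) →
    ∃ h ∈ H, ∀ u w, (h : Matrix ι ι F) *ᵥ tp u w = tp u (g w)

section stepA

variable {U W : Type*} [AddCommGroup U] [Module F U] [FiniteDimensional F U]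
  [AddCommGroup W] [Module F W] [FiniteDimensional F W]
  {B₁ : LinearMap.BilinForm F U} {B₂ : LinearMap.BilinForm F W}
  {tp : U →ₗ[F] W →ₗ[F] (ι → F)} (S : SD B H B₁ B₂ tp)

include S in
/-- all isometries lie in `H` once all vectors are centres -/
theorem SD.le_of_cen (hc : ∀ v, Cen B H v) (g : GL ι F)
    (hg : ∀ x y, B ((g : Matrix ι ι F) *ᵥ x) ((g : Matrix ι ι F) *ᵥ y) = B x y) : g ∈ H := by
  have h1 : gL g ∈ TG B S.altB := isom_mem_TG B S.ndB S.altB (gL g) hg
  have key : ∀ t ∈ TG B S.altB, ∃ h ∈ H, ∀ x, (h : Matrix ι ι F) *ᵥ x = t x := by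
    intro t ht
    induction ht using Subgroup.closure_induction with
    | mem t ht =>
      obtain ⟨p, c, rfl⟩ := ht
      obtain ⟨h, hh, hht⟩ := hc p c
      exact ⟨h, hh, fun x => by rw [hht x, tv_apply]⟩
    | one => exact ⟨1, H.one_mem, fun x => by rw [Units.val_one, Matrix.one_mulVec]; rfl⟩
    | mul a b _ _ iha ihb =>
      obtain ⟨h, hh, hha⟩ := iha
      obtain ⟨h', hh', hhb⟩ := ihb
      exact ⟨h * h', H.mul_mem hh hh', fun x => by
        rw [Units.val_mul, ← Matrix.mulVec_mulVec, hhb, hha]; rfl⟩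
    | inv a _ iha =>
      obtain ⟨h, hh, hha⟩ := iha
      refine ⟨h⁻¹, H.inv_mem hh, fun x => ?_⟩
      have : x = (h : Matrix ι ι F) *ᵥ (a⁻¹ x) := by
        rw [hha]
        exact (LinearEquiv.apply_symm_apply a x).symm
      nth_rewrite 1 [this]
      rw [inv_mulVec_mulVec]
  obtain ⟨h, hh, hhg⟩ := key _ h1
  have : g = h := by
    apply Units.ext
    rw [Matrix.ext_iff_mulVec]
    intro v
    rw [hhg v]
    rfl
  rw [this]
  exact hh

include S in
theorem SD.exists_ne (a : ι → F) (ha : a ≠ 0) : ∃ x y, B a (tp x y) ≠ 0 := by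
  by_contra hcon
  push Not at hcon
  apply ha
  apply S.ndB.1
  apply S.ind
  · rw [map_zero]
  · intro a' u w h
    rw [map_add, h, hcon, add_zero]

include S in
/-- a pure tensor non-orthogonal to three given non-zero vectors -/
theorem SD.exists_pure (h2 : (2 : F) ≠ 0) (a b c : ι → F) (ha : a ≠ 0) (hb : b ≠ 0) (hc : c ≠ 0) :
    ∃ x y, B a (tp x y) ≠ 0 ∧ B b (tp x y) ≠ 0 ∧ B c (tp x y) ≠ 0 := by
  obtain ⟨xa, ya, hxa⟩ := S.exists_ne B H a ha
  obtain ⟨xb, yb, hxb⟩ := S.exists_ne B H b hb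
  obtain ⟨xc, yc, hxc⟩ := S.exists_ne B H c hc
  obtain ⟨y, hy1, hy2, hy3⟩ := three_functionals h2 ((B a).comp (tp xa)) ((B b).comp (tp xb))
    ((B c).comp (tp xc))
    (fun h0 => hxa (by have := congrArg (fun f : W →ₗ[F] F => f ya) h0; simpa using this))
    (fun h0 => hxb (by have := congrArg (fun f : W →ₗ[F] F => f yb) h0; simpa using this))
    (fun h0 => hxc (by have := congrArg (fun f : W →ₗ[F] F => f yc) h0; simpa using this))
  simp only [LinearMap.comp_apply] at hy1 hy2 hy3
  obtain ⟨x, hx1, hx2, hx3⟩ := three_functionals h2 ((B a).comp (tp.flip y))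
    ((B b).comp (tp.flip y)) ((B c).comp (tp.flip y))
    (fun h0 => hy1 (by have := congrArg (fun f : U →ₗ[F] F => f xa) h0; simpa using this))
    (fun h0 => hy2 (by have := congrArg (fun f : U →ₗ[F] F => f xb) h0; simpa using this))
    (fun h0 => hy3 (by have := congrArg (fun f : U →ₗ[F] F => f xc) h0; simpa using this))
  simp only [LinearMap.comp_apply, LinearMap.flip_apply] at hx1 hx2 hx3
  exact ⟨x, y, hx1, hx2, hx3⟩

include S in
/-- if all pure tensors are centres then all vectors are -/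
theorem SD.cen_all (h2 : (2 : F) ≠ 0) (hp : ∀ u w, Cen B H (tp u w)) : ∀ v, Cen B H v := by
  apply S.ind
  · exact cen_zero B H
  · intro a u w ha
    by_cases ha0 : a = 0
    · rw [ha0, zero_add]
      exact hp u w
    by_cases hb0 : tp u w = 0
    · rw [hb0, add_zero]
      exact ha
    by_cases hab0 : a + tp u w = 0
    · rw [hab0]
      exact cen_zero B H
    by_cases hab : B a (tp u w) ≠ 0
    · have := cen_add_smul B H S.isoH (hp u w) ha hab 1
      rwa [one_smul] at this
    · push Not at hab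
      obtain ⟨x, y, h1, h3, h4⟩ := S.exists_pure B H h2 a (tp u w) (a + tp u w) ha0 hb0 hab0
      -- a + λ c
      obtain ⟨t, ht, htt⟩ := hp x y (1 : F)
      -- the target is the image of `a + b + λ c` under the inverse transvection
      obtain ⟨l, hl⟩ : ∃ l : F, l = B (a + tp u w) (tp x y) := ⟨_, rfl⟩
      have hl0 : l ≠ 0 := by rw [hl]; exact h4
      have e1 : Cen B H (a + l • tp x y) := cen_add_smul B H S.isoH (hp x y) ha h1 l
      have e2 : B (a + l • tp x y) (tp u w) ≠ 0 := by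
        rw [map_add, map_smul, LinearMap.add_apply, LinearMap.smul_apply, hab, zero_add,
          smul_eq_mul]
        apply mul_ne_zero hl0
        rw [← S.altB.neg_eq]
        exact neg_ne_zero.mpr h3
      have e3 : Cen B H (a + l • tp x y + tp u w) := by
        have := cen_add_smul B H S.isoH (hp u w) e1 e2 1
        rwa [one_smul] at this
      obtain ⟨t', ht', htt'⟩ := hp x y (-1 : F)
      have e4 := cen_map B H S.isoH t' ht' e3
      rw [htt'] at e4
      have e5 : B (a + l • tp x y + tp u w) (tp x y) = l := by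
        rw [hl]
        simp only [map_add, map_smul, LinearMap.add_apply, LinearMap.smul_apply,
          S.altB.self_eq_zero, smul_zero, add_zero]
      rw [e5] at e4
      have e6 : a + l • tp x y + tp u w + (-1 * l) • tp x y = a + tp u w := by
        module
      rwa [e6] at e4

end stepA

end Cfsg.Agent.Lib.Helper1.TsB
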