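import Mathlib
import Cfsg.Agent.Lib.Helper1.TsB4

/-!
# The generation step, continued: from one pure transvection to all centres
-/

set_option autoImplicit false
set_option maxHeartbeats 4000000
set_option maxRecDepth 100000
set_option linter.unusedSimpArgs false
set_option linter.unusedVariables false
set_option linter.unusedSectionVars false
set_option linter.style.longLine false
set_option linter.deprecated false

namespace Cfsg.Agent.Lib.Helper1.TsB

open Module Matrix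
open Cfsg.Agent.Lib.Helper1.TsA
open Cfsg.Agent.Lib.Helper5.AltWitt
open Cfsg.Agent.Lib.Helper8.Tns

variable {F : Type*} [Field F]

/-- a singular vector not orthogonal to a given nonsingular vector -/
theorem exists_singular_nonperp {V : Type*} [AddCommGroup V] [Module F V]
    (B : LinearMap.BilinForm F V) (hS : ∀ x y, B x y = B y x) (hB : B.Nondegenerate)
    (h2 : (2 : F) ≠ 0) (w₀ : V) (hw₀ : w₀ ≠ 0) (hw₀s : B w₀ w₀ = 0) (z : V) (hz : B z z ≠ 0) :
    ∃ w, B w w = 0 ∧ B w z ≠ 0 := by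
  by_cases h1 : B w₀ z ≠ 0
  · exact ⟨w₀, hw₀s, h1⟩
  · push Not at h1
    have hb : ∃ b, B w₀ b ≠ 0 := by
      by_contra hcon
      push Not at hcon
      exact hw₀ (hB.1 w₀ hcon)
    obtain ⟨b, hb⟩ := hb
    obtain ⟨b₁, hb₁⟩ : ∃ b₁ : V, b₁ = (B w₀ b)⁻¹ • b := ⟨_, rfl⟩
    have hwb₁ : B w₀ b₁ = 1 := by
      rw [hb₁, map_smul, smul_eq_mul, inv_mul_cancel₀ hb]
    obtain ⟨b', hb'⟩ : ∃ b' : V, b' = b₁ - (B b₁ b₁ / 2) • w₀ := ⟨_, rfl⟩
    have hwb' : B w₀ b' = 1 := by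
      rw [hb', map_sub, map_smul, hw₀s, smul_zero, sub_zero, hwb₁]
    have hb's : B b' b' = 0 := by
      rw [hb']
      simp only [map_sub, map_smul, LinearMap.sub_apply, LinearMap.smul_apply, smul_eq_mul, hw₀s,
        hwb₁, hS b₁ w₀, mul_zero, sub_zero, mul_one]
      field_simp
      ring
    by_cases h3 : B b' z ≠ 0
    · exact ⟨b', hb's, h3⟩
    · push Not at h3
      have hzw : B z w₀ = 0 := by rw [hS, h1]
      have hzb : B z b' = 0 := by rw [hS, h3]
      have hb'w : B b' w₀ = 1 := by rw [hS, hwb']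
      refine ⟨w₀ + z - (B z z / 2) • b', ?_, ?_⟩
      · simp only [map_sub, map_add, map_smul, LinearMap.sub_apply, LinearMap.add_apply,
          LinearMap.smul_apply, smul_eq_mul, hw₀s, hb's, h1, h3, hzw, hzb, hwb', hb'w, mul_zero,
          add_zero, zero_add, sub_zero, mul_one]
        field_simp
        ring
      · simp only [map_sub, map_add, map_smul, LinearMap.sub_apply, LinearMap.add_apply,
          LinearMap.smul_apply, smul_eq_mul, h1, h3, mul_zero, zero_add, sub_zero]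
        exact hz

variable {ι : Type} [Fintype ι] [DecidableEq ι]
  (B : LinearMap.BilinForm F (ι → F)) (H : Subgroup (GL ι F))

section stepA

variable {U W : Type*} [AddCommGroup U] [Module F U] [FiniteDimensional F U]
  [AddCommGroup W] [Module F W] [FiniteDimensional F W]
  {B₁ : LinearMap.BilinForm F U} {B₂ : LinearMap.BilinForm F W}
  {tp : U →ₗ[F] W →ₗ[F] (ι → F)} (S : SD B H B₁ B₂ tp)

include S in
/-- (A1) one parameter gives all parameters -/
theorem SD.cen_of_one [Fintype F] (hodd : Fintype.card F % 2 = 1) (u₀ : U) (w₀ : W)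
    (hu₀ : u₀ ≠ 0) (c₀ : F) (hc₀ : c₀ ≠ 0) (h : TvIn B H (tp u₀ w₀) c₀) :
    Cen B H (tp u₀ w₀) := by
  have hsq : ∀ a : F, TvIn B H (tp u₀ w₀) (a * a * c₀) := by
    intro a
    by_cases ha : a = 0
    · rw [ha, zero_mul, zero_mul]
      exact tvIn_zero B H _
    · have hau : a • u₀ ≠ 0 := smul_ne_zero ha hu₀
      obtain ⟨g, hg, hgu⟩ := exists_isom_single B₁ S.nd₁ S.alt₁ u₀ (a • u₀) hu₀ hau
      obtain ⟨h', hh', hact⟩ := S.actU g hg
      obtain ⟨t, ht, htt⟩ := h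
      refine ⟨h' * t * h'⁻¹, H.mul_mem (H.mul_mem hh' ht) (H.inv_mem hh'), ?_⟩
      have := htt.conj B (S.isoH h' hh')
      rw [hact, hgu, map_smul, LinearMap.smul_apply] at this
      exact this.of_smul B
  intro c
  obtain ⟨s, t, hst⟩ := exists_sq_sum hodd (1 : F) 1 (-(c / c₀)) one_ne_zero one_ne_zero
  have e : c = s * s * c₀ + t * t * c₀ := by
    have : c / c₀ = s ^ 2 + t ^ 2 := by linear_combination -hst
    field_simp at this
    linear_combination this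
  rw [e]
  exact (hsq s).add B H S.altB (hsq t)

include S in
/-- (A2) all pure tensors with singular second factor -/
theorem SD.cen_singular (h2 : (2 : F) ≠ 0) (u₀ : U) (w₀ : W) (hu₀ : u₀ ≠ 0) (hw₀ : w₀ ≠ 0)
    (hw₀s : B₂ w₀ w₀ = 0) (h : Cen B H (tp u₀ w₀)) (u : U) (w : W) (hw : B₂ w w = 0) :
    Cen B H (tp u w) := by
  by_cases hu0 : u = 0
  · rw [hu0, map_zero, LinearMap.zero_apply]
    exact cen_zero B H
  by_cases hw0 : w = 0
  · rw [hw0, map_zero]
    exact cen_zero B H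
  obtain ⟨g₁, hg₁, hg₁u⟩ := exists_isom_single B₁ S.nd₁ S.alt₁ u₀ u hu₀ hu0
  obtain ⟨g₂, hg₂, hg₂w⟩ := exists_isom_singular B₂ S.sym₂ S.nd₂ h2 w₀ w hw₀ hw0 hw₀s hw
  obtain ⟨h₁, hh₁, hact₁⟩ := S.actU g₁ hg₁
  obtain ⟨h₂, hh₂, hact₂⟩ := S.actW g₂ hg₂
  have e1 := cen_map B H S.isoH h₁ hh₁ h
  rw [hact₁, hg₁u] at e1
  have e2 := cen_map B H S.isoH h₂ hh₂ e1
  rwa [hact₂, hg₂w] at e2

include S in
/-- (A3) all pure tensors -/
theorem SD.cen_pure (h2 : (2 : F) ≠ 0) (w₀ : W) (hw₀ : w₀ ≠ 0) (hw₀s : B₂ w₀ w₀ = 0)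
    (h : ∀ (u : U) (w : W), B₂ w w = 0 → Cen B H (tp u w)) (u : U) (z : W) :
    Cen B H (tp u z) := by
  by_cases hu0 : u = 0
  · rw [hu0, map_zero, LinearMap.zero_apply]
    exact cen_zero B H
  by_cases hz : B₂ z z = 0
  · exact h u z hz
  -- the key step
  have key : ∀ (w₁ w₂ : W) (l : F), B₂ w₁ w₁ = 0 → B₂ w₂ w₂ = 0 → B₂ w₁ w₂ ≠ 0 →
      Cen B H (tp u (w₁ + l • w₂)) := by
    intro w₁ w₂ l hw₁ hw₂ hw₁₂
    obtain ⟨u', hu'⟩ := exists_partner B₁ S.nd₁ u hu0 1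
    have hv₁ := h u w₁ hw₁
    have hv₂ := h (l • u + u') w₂ hw₂
    have e1 : B (tp u w₁) (tp (l • u + u') w₂) ≠ 0 := by
      rw [S.form, map_add, map_smul, S.alt₁.self_eq_zero, smul_zero, zero_add, hu', one_mul]
      exact hw₁₂
    have e2 := cen_add_smul B H S.isoH hv₂ hv₁ e1 1
    have e3 : B (tp u w₁ + (1 : F) • tp (l • u + u') w₂) (tp u' w₂) ≠ 0 := by
      simp only [map_add, map_smul, LinearMap.add_apply, LinearMap.smul_apply, S.form, hu',
        S.alt₁.self_eq_zero, hw₂, smul_eq_mul, mul_zero, zero_mul, add_zero, one_mul]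
      exact hw₁₂
    have e4 := cen_add_smul B H S.isoH (h u' w₂ hw₂) e2 e3 (-1)
    have e5 : tp u w₁ + (1 : F) • tp (l • u + u') w₂ + (-1 : F) • tp u' w₂ =
        tp u (w₁ + l • w₂) := by
      simp only [map_add, map_smul, LinearMap.add_apply, LinearMap.smul_apply]
      module
    rwa [e5] at e4
  obtain ⟨w, hws, hwz⟩ := exists_singular_nonperp B₂ S.sym₂ S.nd₂ h2 w₀ hw₀ hw₀s z hz
  have hzw : B₂ z w ≠ 0 := by rwa [S.sym₂]
  obtain ⟨t, ht⟩ : ∃ t : F, t = B₂ z z / (2 * B₂ z w) := ⟨_, rfl⟩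
  have hw's : B₂ (z - t • w) (z - t • w) = 0 := by
    simp only [map_sub, map_smul, LinearMap.sub_apply, LinearMap.smul_apply, smul_eq_mul, hws,
      S.sym₂ w z, mul_zero, sub_zero]
    rw [ht]
    field_simp
    ring
  have hw'w : B₂ (z - t • w) w ≠ 0 := by
    rw [map_sub, map_smul, LinearMap.sub_apply, LinearMap.smul_apply, hws, smul_zero, sub_zero]
    exact hzw
  have := key (z - t • w) w t hw's hws hw'w
  rwa [sub_add_cancel] at this

include S in
/-- **Step A**: a pure transvection with singular centre forces `H` to contain all isometries -/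
theorem SD.le_of_pure [Fintype F] (hodd : Fintype.card F % 2 = 1) (h2 : (2 : F) ≠ 0)
    (u₀ : U) (w₀ : W) (hu₀ : u₀ ≠ 0) (hw₀ : w₀ ≠ 0) (hw₀s : B₂ w₀ w₀ = 0) (c₀ : F) (hc₀ : c₀ ≠ 0)
    (h : TvIn B H (tp u₀ w₀) c₀) (g : GL ι F)
    (hg : ∀ x y, B ((g : Matrix ι ι F) *ᵥ x) ((g : Matrix ι ι F) *ᵥ y) = B x y) : g ∈ H := by
  have h1 := S.cen_of_one B H hodd u₀ w₀ hu₀ c₀ hc₀ h
  have h3 := S.cen_singular B H h2 u₀ w₀ hu₀ hw₀ hw₀s h1
  have h4 := S.cen_pure B H h2 w₀ hw₀ hw₀s h3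
  have h5 := S.cen_all B H h2 h4
  exact S.le_of_cen B H h5 g hg

end stepA

end Cfsg.Agent.Lib.Helper1.TsB
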