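import Mathlib
import Cfsg.Agent.Lib.Helper1.TsA14
import Cfsg.Agent.Lib.Helper1.TsB5

/-!
# The coordinate tensor structure for a symplectic form on `U ⊗ W`
-/

set_option autoImplicit false
set_option maxHeartbeats 4000000
set_option maxRecDepth 100000
set_option linter.unusedSimpArgs false
set_option linter.unusedVariables false
set_option linter.unusedSectionVars false
set_option linter.style.longLine false
set_option linter.deprecated false

namespace Cfsg.Agent.Lib.Helper1.TsB

open Module Matrix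
open Cfsg
open Cfsg.Agent.Lib.Helper1.TsA
open Cfsg.Agent.Lib.Helper5.AltWitt
open Cfsg.Agent.Lib.Helper8.Tns

variable {F : Type*} [Field F]

/-- the isometry group of a bilinear form on `ι → F` inside `GL` -/
def SpG {ι : Type} [Fintype ι] [DecidableEq ι] (B : LinearMap.BilinForm F (ι → F)) :
    Subgroup (GL ι F) where
  carrier := {g | ∀ x y, B ((g : Matrix ι ι F) *ᵥ x) ((g : Matrix ι ι F) *ᵥ y) = B x y}
  mul_mem' := by
    intro a b ha hb x y
    rw [Units.val_mul, ← Matrix.mulVec_mulVec, ← Matrix.mulVec_mulVec, ha, hb]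
  one_mem' := by
    intro x y
    rw [Units.val_one, Matrix.one_mulVec, Matrix.one_mulVec]
  inv_mem' := by
    intro a ha x y
    have := ha (((a⁻¹ : GL ι F) : Matrix ι ι F) *ᵥ x) (((a⁻¹ : GL ι F) : Matrix ι ι F) *ᵥ y)
    rw [mulVec_inv_mulVec, mulVec_inv_mulVec] at this
    exact this.symm

theorem mem_SpG {ι : Type} [Fintype ι] [DecidableEq ι] {B : LinearMap.BilinForm F (ι → F)}
    {g : GL ι F} :
    g ∈ SpG B ↔ ∀ x y, B ((g : Matrix ι ι F) *ᵥ x) ((g : Matrix ι ι F) *ᵥ y) = B x y := Iff.rfl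

theorem SpG_inv_left {ι : Type} [Fintype ι] [DecidableEq ι] {B : LinearMap.BilinForm F (ι → F)}
    {g : GL ι F} (hg : g ∈ SpG B) (x y : ι → F) :
    B (((g⁻¹ : GL ι F) : Matrix ι ι F) *ᵥ x) y = B x ((g : Matrix ι ι F) *ᵥ y) := by
  rw [← hg (((g⁻¹ : GL ι F) : Matrix ι ι F) *ᵥ x) y, mulVec_inv_mulVec]

variable {I J : Type} [Fintype I] [DecidableEq I] [Fintype J] [DecidableEq J]

/-- an induction principle adding one pure tensor at a time -/
theorem pt_ind' {P : (I × J → F) → Prop} (h0 : P 0)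
    (hstep : ∀ a (u : I → F) (w : J → F), P a → P (a + pt u w)) : ∀ v, P v := by
  intro v
  have e : v = ∑ p : I × J, pt (v p • Pi.single p.1 (1 : F)) (Pi.single p.2 (1 : F)) := by
    ext ⟨i, j⟩
    rw [Finset.sum_apply]
    rw [Finset.sum_eq_single (i, j)]
    · rw [pt_apply]
      simp
    · rintro ⟨i', j'⟩ _ hne
      rw [pt_apply]
      by_cases hi : i' = i
      · have hj : j' ≠ j := fun hj => hne (by rw [hi, hj])
        simp [Pi.single_apply, hj.symm]
      · have hi' : i ≠ i' := fun h => hi h.symm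
        simp [Pi.single_apply, hi']
    · intro h
      exact absurd (Finset.mem_univ _) h
  rw [e]
  classical
  have key : ∀ s : Finset (I × J),
      P (∑ p ∈ s, pt (v p • Pi.single p.1 (1 : F)) (Pi.single p.2 (1 : F))) := by
    intro s
    induction s using Finset.induction_on with
    | empty => simpa using h0
    | insert a s ha ih =>
      rw [Finset.sum_insert ha, add_comm]
      exact hstep _ _ _ ih
  exact key Finset.univ

/-- the symplectic form `B` on `U ⊗ W` is the tensor product of `B₁` and `B₂` -/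
structure TS (B : LinearMap.BilinForm F (I × J → F)) (B₁ : LinearMap.BilinForm F (I → F))
    (B₂ : LinearMap.BilinForm F (J → F)) : Prop where
  altB : B.IsAlt
  nd₁ : B₁.Nondegenerate
  nd₂ : B₂.Nondegenerate
  tens : ∀ u u' w w', B (pt u w) (pt u' w') = B₁ u u' * B₂ w w'

section TSsec

variable {B : LinearMap.BilinForm F (I × J → F)} {B₁ : LinearMap.BilinForm F (I → F)}
  {B₂ : LinearMap.BilinForm F (J → F)} (hT : TS B B₁ B₂)

include hT in
theorem B_pt_right (v : I × J → F) (u : I → F) (p : J → F) :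
    B v (pt u p) = B₁ (C₂ B₂ p v) u := by
  revert v
  apply pt_induction
  · simp
  · intro x y hx hy
    rw [map_add, LinearMap.add_apply, hx, hy, map_add, map_add, LinearMap.add_apply]
  · intro u' w'
    rw [hT.tens, C₂_pt, map_smul, LinearMap.smul_apply, smul_eq_mul, mul_comm]

include hT in
theorem B_pt_right' (v : I × J → F) (q : I → F) (w : J → F) :
    B v (pt q w) = B₂ (C₁ B₁ q v) w := by
  revert v
  apply pt_induction
  · simp
  · intro x y hx hy
    rw [map_add, LinearMap.add_apply, hx, hy, map_add, map_add, LinearMap.add_apply]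
  · intro u' w'
    rw [hT.tens, C₁_pt, map_smul, LinearMap.smul_apply, smul_eq_mul]

include hT in
theorem B_swap (x y : I × J → F) : B x y = -B y x := by
  rw [← hT.altB.neg_eq y x]

include hT in
theorem TS.B₁_C₂_eq (v : I × J → F) (q : I → F) (p : J → F) :
    B₁ (C₂ B₂ p v) q = B₂ (C₁ B₁ q v) p := by
  rw [← B_pt_right hT, ← B_pt_right' hT]

include hT in
theorem TS.eq_of_B₁ {a b : I → F} (h : ∀ u, B₁ a u = B₁ b u) : a = b := by
  have : a - b = 0 := hT.nd₁.1 (a - b) (fun u => by
    rw [map_sub, LinearMap.sub_apply, h u, sub_self])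
  exact sub_eq_zero.mp this

include hT in
theorem TS.eq_of_B₂ {a b : J → F} (h : ∀ u, B₂ a u = B₂ b u) : a = b := by
  have : a - b = 0 := hT.nd₂.1 (a - b) (fun u => by
    rw [map_sub, LinearMap.sub_apply, h u, sub_self])
  exact sub_eq_zero.mp this

include hT in
/-- a vector all of whose contractions against `w^⊥` vanish lies in `U ⊗ w` -/
theorem TS.exists_pt_of_C₂_zero {w : J → F} (hw : w ≠ 0) (v : I × J → F)
    (h : ∀ z, B₂ w z = 0 → C₂ B₂ z v = 0) : ∃ u, v = pt u w := by
  obtain ⟨ws, hws⟩ := exists_partner B₂ hT.nd₂ w hw 1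
  refine ⟨fun i => B₂ (fun j => v (i, j)) ws, ?_⟩
  have hrow : ∀ i, (fun j => v (i, j)) = B₂ (fun j => v (i, j)) ws • w := by
    intro i
    apply hT.eq_of_B₂
    intro z
    set r : J → F := fun j => v (i, j) with hr
    have hz0 : B₂ w (z - B₂ w z • ws) = 0 := by
      rw [map_sub, map_smul, hws, smul_eq_mul, mul_one, sub_self]
    have h1 : B₂ r (z - B₂ w z • ws) = 0 := by
      have := congrFun (h _ hz0) i
      exact this
    rw [map_sub, map_smul, sub_eq_zero, smul_eq_mul] at h1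
    rw [h1, map_smul, LinearMap.smul_apply, smul_eq_mul, mul_comm]
  ext ⟨i, j⟩
  rw [pt_apply]
  have := congrFun (hrow i) j
  rw [Pi.smul_apply, smul_eq_mul] at this
  exact this

include hT in
/-- the tensor product form is nondegenerate -/
theorem TS.ndB : B.Nondegenerate := by
  have h1 : ∀ x, (∀ y, B x y = 0) → x = 0 := by
    intro x hx
    have h3 : ∀ p, C₂ B₂ p x = 0 := by
      intro p
      apply hT.eq_of_B₁
      intro u
      rw [← B_pt_right hT, hx, map_zero, LinearMap.zero_apply]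
    ext ⟨i, j⟩
    have h4 : (fun j => x (i, j)) = 0 := by
      apply hT.nd₂.1
      intro p
      have := congrFun (h3 p) i
      exact this
    have := congrFun h4 j
    exact this
  refine ⟨h1, ?_⟩
  intro y hy
  apply h1
  intro x
  rw [B_swap hT, hy, neg_zero]

include hT in
/-- a map preserving the form on pairs of pure tensors preserves it -/
theorem TS.iso_of_pt (m : Matrix (I × J) (I × J) F)
    (h : ∀ u w u' w', B (m *ᵥ pt u w) (m *ᵥ pt u' w') = B (pt u w) (pt u' w')) :
    ∀ v v', B (m *ᵥ v) (m *ᵥ v') = B v v' := by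
  apply pt_induction
  · intro v'
    rw [Matrix.mulVec_zero, map_zero, LinearMap.zero_apply, LinearMap.zero_apply]
  · intro x y hx hy v'
    rw [Matrix.mulVec_add, map_add, map_add, LinearMap.add_apply, LinearMap.add_apply, hx, hy]
  · intro u w
    apply pt_induction
    · rw [Matrix.mulVec_zero, map_zero, map_zero]
    · intro x y hx hy
      rw [Matrix.mulVec_add, map_add, map_add, hx, hy]
    · intro u' w'
      exact h u w u' w'

include hT in
/-- Kronecker products of similitudes with inverse multipliers are isometries -/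
theorem TS.krL_mem_SpG (g₁ : (I → F) ≃ₗ[F] (I → F)) (g₂ : (J → F) ≃ₗ[F] (J → F)) (μ ν : F)
    (hμν : μ * ν = 1) (hg₁ : ∀ x y, B₁ (g₁ x) (g₁ y) = μ * B₁ x y)
    (hg₂ : ∀ x y, B₂ (g₂ x) (g₂ y) = ν * B₂ x y) : krL g₁ g₂ ∈ SpG B := by
  rw [mem_SpG]
  apply hT.iso_of_pt
  intro u w u' w'
  rw [krL_pt, krL_pt, hT.tens, hT.tens, hg₁, hg₂]
  linear_combination (B₁ u u' * B₂ w w') * hμν

include hT in
theorem TS.krL_mem_SpG' (g₁ : (I → F) ≃ₗ[F] (I → F)) (g₂ : (J → F) ≃ₗ[F] (J → F))
    (hg₁ : ∀ x y, B₁ (g₁ x) (g₁ y) = B₁ x y)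
    (hg₂ : ∀ x y, B₂ (g₂ x) (g₂ y) = B₂ x y) : krL g₁ g₂ ∈ SpG B :=
  hT.krL_mem_SpG g₁ g₂ 1 1 (one_mul 1) (fun x y => by rw [hg₁, one_mul])
    (fun x y => by rw [hg₂, one_mul])

variable (H : Subgroup (GL (I × J) F)) (hMH : krSub I J F ⊓ SpG B ≤ H)

include hT hMH in
theorem TS.krL_mem_H (g₁ : (I → F) ≃ₗ[F] (I → F)) (g₂ : (J → F) ≃ₗ[F] (J → F))
    (hg₁ : ∀ x y, B₁ (g₁ x) (g₁ y) = B₁ x y)
    (hg₂ : ∀ x y, B₂ (g₂ x) (g₂ y) = B₂ x y) : krL g₁ g₂ ∈ H :=
  hMH ⟨krL_mem _ _, hT.krL_mem_SpG' g₁ g₂ hg₁ hg₂⟩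

variable (hH : H ≤ SpG B)

include hT hMH hH in
/-- the abstract tensor data, with the alternating factor on the `J`-side -/
theorem TS.sd_flip (hS₁ : ∀ x y, B₁ x y = B₁ y x) (hA₂ : B₂.IsAlt) :
    SD B H B₂ B₁ (ptB (I := I) (J := J) (F := F)).flip where
  altB := hT.altB
  ndB := hT.ndB
  isoH := fun h hh => hH hh
  alt₁ := hA₂
  sym₂ := hS₁
  nd₁ := hT.nd₂
  nd₂ := hT.nd₁
  form := by
    intro u w u' w'
    simp only [LinearMap.flip_apply, ptB_apply]
    rw [hT.tens, mul_comm]
  ind := by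
    intro P h0 hstep
    apply pt_ind' h0
    intro a u w ha
    have := hstep a w u ha
    simpa only [LinearMap.flip_apply, ptB_apply] using this
  actU := by
    intro g hg
    refine ⟨krL 1 g, hT.krL_mem_H H hMH 1 g (fun _ _ => rfl) hg, ?_⟩
    intro u w
    simp only [LinearMap.flip_apply, ptB_apply]
    rw [krL_pt]
    rfl
  actW := by
    intro g hg
    refine ⟨krL g 1, hT.krL_mem_H H hMH g 1 hg (fun _ _ => rfl), ?_⟩
    intro u w
    simp only [LinearMap.flip_apply, ptB_apply]
    rw [krL_pt]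
    rfl

include hT hMH hH in
/-- the abstract tensor data, with the alternating factor on the `I`-side -/
theorem TS.sd (hA₁ : B₁.IsAlt) (hS₂ : ∀ x y, B₂ x y = B₂ y x) :
    SD B H B₁ B₂ (ptB (I := I) (J := J) (F := F)) where
  altB := hT.altB
  ndB := hT.ndB
  isoH := fun h hh => hH hh
  alt₁ := hA₁
  sym₂ := hS₂
  nd₁ := hT.nd₁
  nd₂ := hT.nd₂
  form := by
    intro u w u' w'
    simp only [ptB_apply]
    rw [hT.tens]
  ind := by
    intro P h0 hstep
    apply pt_ind' h0
    intro a u w ha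
    have := hstep a u w ha
    simpa only [ptB_apply] using this
  actU := by
    intro g hg
    refine ⟨krL g 1, hT.krL_mem_H H hMH g 1 hg (fun _ _ => rfl), ?_⟩
    intro u w
    simp only [ptB_apply]
    rw [krL_pt]
    rfl
  actW := by
    intro g hg
    refine ⟨krL 1 g, hT.krL_mem_H H hMH 1 g (fun _ _ => rfl) hg, ?_⟩
    intro u w
    simp only [ptB_apply]
    rw [krL_pt]
    rfl

end TSsec

end Cfsg.Agent.Lib.Helper1.TsB
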