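import Mathlib
import Cfsg.Agent.Lib.Helper1.TsB6

/-!
# Local analysis at `W ⊗ u` (symplectic factor on the `J`-side): the centre of the radical
-/

set_option autoImplicit false
set_option maxHeartbeats 4000000
set_option maxRecDepth 100000
set_option linter.unusedSimpArgs false
set_option linter.unusedVariables false
set_option linter.unusedSectionVars false
set_option linter.style.longLine false
set_option linter.deprecated false

namespace Cfsg.Agent.Lib.Helper1.TsB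

open Module Matrix

open Cfsg.Agent.Lib.Helper1.TsA
open Cfsg.Agent.Lib.Helper5.AltWitt
open Cfsg.Agent.Lib.Helper8.Tns

local notation "Ξ" => Cfsg.Agent.Lib.Helper1.TsA.Xi

variable {F : Type*} [Field F]
variable {I J : Type} [Fintype I] [DecidableEq I] [Fintype J] [DecidableEq J]

/-- the operators `L` with `1 + L ⊗ uu*` in `H` -/
def ZL (B₂ : LinearMap.BilinForm F (J → F)) (H : Subgroup (GL (I × J) F)) (u : J → F) :
    Set ((I → F) →ₗ[F] (I → F)) := {L | ∃ g ∈ H, Acts g (Ξ B₂ L u u)}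

section partI

variable {B : LinearMap.BilinForm F (I × J → F)} {B₁ : LinearMap.BilinForm F (I → F)}
  {B₂ : LinearMap.BilinForm F (J → F)} (hT : TS B B₁ B₂)
  (hS₁ : ∀ x y, B₁ x y = B₁ y x) (hA₂ : B₂.IsAlt)
  (H : Subgroup (GL (I × J) F)) (hMH : krSub I J F ⊓ SpG B ≤ H) (hH : H ≤ SpG B)

include hA₂ in
theorem ZL_zero (u : J → F) : (0 : (I → F) →ₗ[F] (I → F)) ∈ ZL B₂ H u := by
  refine ⟨1, H.one_mem, ?_⟩
  have : Ξ B₂ (0 : (I → F) →ₗ[F] (I → F)) u u = 0 := by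
    apply LinearMap.ext
    intro v
    rw [Xi_apply, LinearMap.zero_apply, pt_zero_left, LinearMap.zero_apply]
  rw [this]
  exact Acts_one

include hA₂ in
theorem ZL_add (u : J → F) {L L' : (I → F) →ₗ[F] (I → F)} (hL : L ∈ ZL B₂ H u)
    (hL' : L' ∈ ZL B₂ H u) : L + L' ∈ ZL B₂ H u := by
  obtain ⟨g, hg, hgA⟩ := hL
  obtain ⟨g', hg', hgA'⟩ := hL'
  refine ⟨g * g', H.mul_mem hg hg', ?_⟩
  have := hgA.mul_of_comp_zero hgA' (Xi_comp_zero B₂ _ _ _ _ _ _ (hA₂.self_eq_zero u))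
  rwa [← Xi_add_left] at this

include hT hA₂ hMH in
theorem ZL_sq (u : J → F) (hu : u ≠ 0) (s : F) {L : (I → F) →ₗ[F] (I → F)}
    (hL : L ∈ ZL B₂ H u) : (s * s) • L ∈ ZL B₂ H u := by
  by_cases hs : s = 0
  · rw [hs, zero_mul, zero_smul]
    exact ZL_zero hA₂ H u
  obtain ⟨g, hg, hgA⟩ := hL
  obtain ⟨d, hd, hdu⟩ := exists_isom_single B₂ hT.nd₂ hA₂ u (s • u) hu (smul_ne_zero hs hu)
  have hdH : krL (1 : (I → F) ≃ₗ[F] (I → F)) d ∈ H :=
    hT.krL_mem_H H hMH 1 d (fun _ _ => rfl) hd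
  refine ⟨krL 1 d * g * (krL 1 d)⁻¹, H.mul_mem (H.mul_mem hdH hg) (H.inv_mem hdH), ?_⟩
  apply hgA.conj_krL 1 d
  intro v
  rw [Xi_conj 1 d hd, one_conj_lin, hdu, Xi_smul_q, Xi_smul_p, Xi_smul_left, smul_smul]

include hT hA₂ hMH in
theorem ZL_smul [Fintype F] (hodd : Fintype.card F % 2 = 1) (u : J → F) (hu : u ≠ 0) (c : F)
    {L : (I → F) →ₗ[F] (I → F)} (hL : L ∈ ZL B₂ H u) : c • L ∈ ZL B₂ H u := by
  obtain ⟨s, t, hst⟩ := exists_sq_sum hodd (1 : F) 1 (-c) one_ne_zero one_ne_zero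
  have e : c = s * s + t * t := by linear_combination -hst
  rw [e, add_smul]
  exact ZL_add hA₂ H u (ZL_sq hT hA₂ H hMH u hu s hL) (ZL_sq hT hA₂ H hMH u hu t hL)

/-- the operators `L` with `1 + L ⊗ uu*` in `H`, as a subspace -/
def ZLsub [Fintype F] (hodd : Fintype.card F % 2 = 1) (u : J → F) (hu : u ≠ 0) :
    Submodule F ((I → F) →ₗ[F] (I → F)) where
  carrier := ZL B₂ H u
  add_mem' := fun ha hb => ZL_add hA₂ H u ha hb
  zero_mem' := ZL_zero hA₂ H u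
  smul_mem' := fun c _ hL => ZL_smul hT hA₂ H hMH hodd u hu c hL

include hT hS₁ hA₂ hMH in
theorem ZL_conj_refl (u : J → F) (z : I → F) {L : (I → F) →ₗ[F] (I → F)}
    (hL : L ∈ ZL B₂ H u) : reflL B₁ z ∘ₗ L ∘ₗ reflL B₁ z ∈ ZL B₂ H u := by
  obtain ⟨g, hg, hgA⟩ := hL
  have hrH : krL (refl B₁ z) (1 : (J → F) ≃ₗ[F] (J → F)) ∈ H :=
    hT.krL_mem_H H hMH (refl B₁ z) 1 (refl_isom B₁ hS₁ z) (fun _ _ => rfl)
  refine ⟨krL (refl B₁ z) 1 * g * (krL (refl B₁ z) 1)⁻¹,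
    H.mul_mem (H.mul_mem hrH hg) (H.inv_mem hrH), ?_⟩
  apply hgA.conj_krL (refl B₁ z) 1
  intro v
  rw [Xi_conj (refl B₁ z) 1 (fun _ _ => rfl), refl_coe, refl_symm_coe]
  rfl

include hT hA₂ hH in
theorem ZL_selfadjoint (u : J → F) (hu : u ≠ 0) {L : (I → F) →ₗ[F] (I → F)}
    (hL : L ∈ ZL B₂ H u) (x y : I → F) : B₁ (L x) y = B₁ x (L y) := by
  obtain ⟨g, hg, hgA⟩ := hL
  obtain ⟨p, hp⟩ := exists_partner B₂ hT.nd₂ u hu (-1)
  have hpu : B₂ p u = 1 := by rw [alt_swap B₂ hA₂, hp, neg_neg]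
  have h1 := hH hg (pt x p) (pt y p)
  rw [hgA (pt x p), hgA (pt y p), Xi_pt, Xi_pt, hpu, one_smul, one_smul] at h1
  simp only [map_add, LinearMap.add_apply, hT.tens, hA₂.self_eq_zero, hp, hpu, mul_zero,
    add_zero, mul_one, zero_add] at h1
  linear_combination -h1

include hT hS₁ hA₂ hMH hH in
/-- **(L1)** the centre of the radical meets `H` in the Kronecker part, unless `H` is everything -/
theorem ZL_scalar [Fintype F] (hodd : Fintype.card F % 2 = 1) (h2 : (2 : F) ≠ 0)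
    (hI : 3 ≤ Fintype.card I) (hex : Fintype.card F ≠ 3 ∨ 4 ≤ Fintype.card I)
    (hnot : ¬ SpG B ≤ H) (u : J → F) (hu : u ≠ 0) (L : (I → F) →ₗ[F] (I → F))
    (hL : L ∈ ZL B₂ H u) : ∃ c : F, L = c • LinearMap.id := by
  by_contra hns
  have hfr : finrank F (I → F) = Fintype.card I := Module.finrank_fintype_fun_eq_card F
  obtain ⟨z, hz0, hzz, hzL⟩ := module_lemma B₁ hS₁ hT.nd₁ h2 (ZLsub hT hA₂ H hMH hodd u hu)
    (fun L hL z _ => ZL_conj_refl hT hS₁ hA₂ H hMH u z hL) hodd (by rw [hfr]; exact hI)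
    (by rw [hfr]; exact hex) (fun L hL => ZL_selfadjoint hT hA₂ H hH u hu hL) L hL hns
  obtain ⟨g, hg, hgA⟩ := hzL
  apply hnot
  intro g' hg'
  have S := hT.sd_flip H hMH hH hS₁ hA₂
  apply S.le_of_pure B H hodd h2 u z hu hz0 hzz 1 one_ne_zero ?_ g' hg'
  refine ⟨g, hg, ?_⟩
  intro x
  simp only [LinearMap.flip_apply, ptB_apply]
  rw [hgA x, Xi_apply, B_pt_right hT, one_mul]
  have : rkV B₁ z z (C₂ B₂ u x) = B₁ (C₂ B₂ u x) z • z := rkV_apply B₁ z z _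
  rw [this, pt_smul_left]

include hT hA₂ in
/-- step `K1`: the commutator of a radical element with a transvection of the `J`-side -/
theorem K1' (u b : J → F) (hub : B₂ u b = 0) (g : GL (I × J) F) (hg : g ∈ SpG B)
    (θ : (I → F) →ₗ[F] (I → F))
    (hgu : ∀ x, (g : Matrix (I × J) (I × J) F) *ᵥ pt x u = pt x u)
    (hg1 : ∀ x, (g : Matrix (I × J) (I × J) F) *ᵥ pt x b = pt x b + pt (θ x) u) :
    Acts (g * krL (1 : (I → F) ≃ₗ[F] (I → F)) (tv B₂ hA₂ b 1) * g⁻¹ *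
        (krL (1 : (I → F) ≃ₗ[F] (I → F)) (tv B₂ hA₂ b 1))⁻¹)
      (Ξ B₂ (adj B₁ hT.nd₁ θ) b u + Ξ B₂ θ u b + Ξ B₂ (θ ∘ₗ adj B₁ hT.nd₁ θ) u u) := by
  have hbu : B₂ b u = 0 := by rw [alt_swap B₂ hA₂, hub, neg_zero]
  have hy : Acts (krL (1 : (I → F) ≃ₗ[F] (I → F)) (tv B₂ hA₂ b 1))
      (Ξ B₂ LinearMap.id b b) := by
    have := Acts_krL_tv_right (I := I) (J := J) (F := F) (B₂ := B₂) hA₂ b (1 : F)
    rwa [one_smul] at this
  have hyy : Ξ B₂ (LinearMap.id : (I → F) →ₗ[F] (I → F)) b b ∘ₗ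
      Ξ B₂ (LinearMap.id : (I → F) →ₗ[F] (I → F)) b b = 0 :=
    Xi_comp_zero B₂ _ _ _ _ _ _ (hA₂.self_eq_zero b)
  have hC2u : ∀ v, C₂ B₂ u ((g : Matrix (I × J) (I × J) F) *ᵥ v) = C₂ B₂ u v := by
    intro v
    apply hT.eq_of_B₁
    intro q
    rw [← B_pt_right hT, ← B_pt_right hT]
    have := hg v (pt q u)
    rw [hgu q] at this
    exact this
  have hC2b : ∀ v, C₂ B₂ b ((g : Matrix (I × J) (I × J) F) *ᵥ v) =
      C₂ B₂ b v - adj B₁ hT.nd₁ θ (C₂ B₂ u v) := by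
    intro v
    apply hT.eq_of_B₁
    intro q
    rw [map_sub, LinearMap.sub_apply, adj_apply, ← B_pt_right hT, ← B_pt_right hT,
      ← B_pt_right hT]
    have e1 : pt q b = (g : Matrix (I × J) (I × J) F) *ᵥ (pt q b - pt (θ q) u) := by
      rw [Matrix.mulVec_sub, hg1 q, hgu (θ q)]
      abel
    have e2 : B ((g : Matrix (I × J) (I × J) F) *ᵥ v) (pt q b) =
        B ((g : Matrix (I × J) (I × J) F) *ᵥ v)
          ((g : Matrix (I × J) (I × J) F) *ᵥ (pt q b - pt (θ q) u)) := by rw [← e1]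
    rw [e2, hg, map_sub]
  have hconj : Acts (g * krL (1 : (I → F) ≃ₗ[F] (I → F)) (tv B₂ hA₂ b 1) * g⁻¹)
      (Ξ B₂ LinearMap.id b b + Ξ B₂ (adj B₁ hT.nd₁ θ) b u + Ξ B₂ θ u b +
        Ξ B₂ (θ ∘ₗ adj B₁ hT.nd₁ θ) u u) := by
    apply hy.conj
    intro v
    simp only [LinearMap.add_apply, Xi_apply, hC2u, hC2b, LinearMap.id_apply,
      LinearMap.comp_apply, map_sub, pt_sub_left]
    rw [hg1]
    abel
  have h0 : (Ξ B₂ LinearMap.id b b + Ξ B₂ (adj B₁ hT.nd₁ θ) b u + Ξ B₂ θ u b +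
      Ξ B₂ (θ ∘ₗ adj B₁ hT.nd₁ θ) u u) ∘ₗ (-Ξ B₂ LinearMap.id b b) = 0 := by
    simp only [LinearMap.add_comp, LinearMap.comp_neg, Xi_comp, hbu, hA₂.self_eq_zero,
      zero_smul, add_zero, neg_zero]
  have := hconj.mul_of_comp_zero (hy.inv hyy) h0
  apply this.congr
  abel

end partI

end Cfsg.Agent.Lib.Helper1.TsB
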