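import Mathlib
import Cfsg.Agent.Lib.Helper1.TsB7

/-!
# Local analysis at `W ⊗ u`: the slopes of radical elements are scalar
-/

set_option autoImplicit false
set_option maxHeartbeats 4000000
set_option maxRecDepth 100000
set_option linter.unusedSimpArgs false
set_option linter.unusedVariables false
set_option linter.unusedSectionVars false
set_option linter.style.longLine false
set_option linter.deprecated false

namespace Cfsg.Agent.Lib.Helper1.TsB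

open Module Matrix
open Cfsg.Agent.Lib.Helper1.TsA
open Cfsg.Agent.Lib.Helper5.AltWitt
open Cfsg.Agent.Lib.Helper8.Tns

local notation "Ξ" => Cfsg.Agent.Lib.Helper1.TsA.Xi

variable {F : Type*} [Field F]

/-- a skew operator `Ψ` such that `(Ψ - r_z Ψ r_z)²` is scalar kills `z` -/
theorem skew_zero {V : Type*} [AddCommGroup V] [Module F V] [FiniteDimensional F V]
    (B : LinearMap.BilinForm F V) (hS : ∀ x y, B x y = B y x) (hB : B.Nondegenerate)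
    (h2 : (2 : F) ≠ 0) (hd : 3 ≤ finrank F V) (Ψ : V →ₗ[F] V)
    (hsk : ∀ x y, B (Ψ x) y = -B x (Ψ y)) (z : V) (hz : B z z ≠ 0) (s : F)
    (hs : (Ψ - reflL B z ∘ₗ Ψ ∘ₗ reflL B z) ∘ₗ (Ψ - reflL B z ∘ₗ Ψ ∘ₗ reflL B z) =
      s • LinearMap.id) : Ψ z = 0 := by
  obtain ⟨a, ha⟩ : ∃ a : V, a = Ψ z := ⟨_, rfl⟩
  rw [← ha]
  have haz : B a z = 0 := by
    have h1 := hsk z z
    rw [← ha, hS z a] at h1
    have : (2 : F) * B a z = 0 := by linear_combination h1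
    rcases mul_eq_zero.mp this with h | h
    · exact absurd h h2
    · exact h
  have hza : B z a = 0 := by rw [hS, haz]
  have hz0 : z ≠ 0 := by
    intro h0
    apply hz
    rw [h0, map_zero]
  obtain ⟨c, hc⟩ : ∃ c : F, c = 2 / B z z := ⟨_, rfl⟩
  have hc0 : c ≠ 0 := by
    rw [hc]
    exact div_ne_zero h2 hz
  have hΩ : ∀ x, (Ψ - reflL B z ∘ₗ Ψ ∘ₗ reflL B z) x = c • (B x z • a - B x a • z) := by
    intro x
    rw [LinearMap.sub_apply, LinearMap.comp_apply, LinearMap.comp_apply,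
      reflL_apply B z (Ψ (reflL B z x)), reflL_apply B z x, ← hc]
    simp only [map_sub, map_smul, LinearMap.sub_apply, LinearMap.smul_apply, smul_eq_mul, ← ha,
      haz, hsk x z, mul_zero, sub_zero]
    module
  have hΩ2 : ∀ x, (Ψ - reflL B z ∘ₗ Ψ ∘ₗ reflL B z) ((Ψ - reflL B z ∘ₗ Ψ ∘ₗ reflL B z) x) =
      (-(c * c)) • ((B z z * B x a) • a + (B a a * B x z) • z) := by
    intro x
    rw [hΩ x, hΩ]
    simp only [map_sub, map_smul, LinearMap.sub_apply, LinearMap.smul_apply, smul_eq_mul, haz, hza,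
      mul_zero, sub_zero, zero_sub]
    module
  have hs' : ∀ x, (-(c * c)) • ((B z z * B x a) • a + (B a a * B x z) • z) = s • x := by
    intro x
    rw [← hΩ2 x]
    have := congrArg (fun f : V →ₗ[F] V => f x) hs
    simpa using this
  -- a vector orthogonal to `z` and `a`
  have hT : perpF B ![z, a] ≠ ⊥ := by
    intro h
    have h1 := finrank_perpF_ge B hB ![z, a]
    rw [h, finrank_bot] at h1
    omega
  obtain ⟨v, hvT, hv0⟩ := Submodule.exists_mem_ne_zero_of_ne_bot hT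
  rw [mem_perpF] at hvT
  have hzv : B z v = 0 := hvT 0
  have hav : B a v = 0 := hvT 1
  have hs0 : s = 0 := by
    have h1 := hs' v
    rw [hS v a, hav, hS v z, hzv, mul_zero, mul_zero, zero_smul, zero_smul, add_zero,
      smul_zero] at h1
    rcases smul_eq_zero.mp h1.symm with h | h
    · exact h
    · exact absurd h hv0
  have haa : B a a = 0 := by
    have h1 := hs' z
    rw [hs0, zero_smul, hza, mul_zero, zero_smul, zero_add, smul_smul] at h1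
    rcases smul_eq_zero.mp h1 with h | h
    · rcases mul_eq_zero.mp h with h' | h'
      · have : c * c = 0 := neg_eq_zero.mp h'
        rcases mul_eq_zero.mp this with h'' | h''
        · exact absurd h'' hc0
        · exact absurd h'' hc0
      · rcases mul_eq_zero.mp h' with h'' | h''
        · exact h''
        · exact absurd h'' hz
    · exact absurd h hz0
  by_contra ha0
  have hx : ∃ x, B a x ≠ 0 := by
    by_contra hcon
    push Not at hcon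
    exact ha0 (hB.1 a hcon)
  obtain ⟨x, hx⟩ := hx
  have h1 := hs' x
  rw [hs0, zero_smul, haa, zero_mul, zero_smul, add_zero, smul_smul] at h1
  rcases smul_eq_zero.mp h1 with h | h
  · rcases mul_eq_zero.mp h with h' | h'
    · have : c * c = 0 := neg_eq_zero.mp h'
      rcases mul_eq_zero.mp this with h'' | h''
      · exact absurd h'' hc0
      · exact absurd h'' hc0
    · rcases mul_eq_zero.mp h' with h'' | h''
      · exact absurd h'' hz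
      · rw [hS] at h''
        exact absurd h'' hx
  · exact absurd h ha0

variable {I J : Type} [Fintype I] [DecidableEq I] [Fintype J] [DecidableEq J]

section comp

variable (B₂ : LinearMap.BilinForm F (J → F)) (hA₂ : B₂.IsAlt)

include hA₂ in
theorem NN_comp (u b b' : J → F) (hub : B₂ u b = 0) (hub' : B₂ u b' = 0)
    (A θ C A' θ' C' : (I → F) →ₗ[F] (I → F)) :
    (Ξ B₂ A b u + Ξ B₂ θ u b + Ξ B₂ C u u) ∘ₗ (Ξ B₂ A' b' u + Ξ B₂ θ' u b' + Ξ B₂ C' u u) =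
      B₂ b' b • Ξ B₂ (θ ∘ₗ A') u u := by
  have hb'u : B₂ b' u = 0 := by rw [alt_swap B₂ hA₂, hub', neg_zero]
  simp only [LinearMap.add_comp, LinearMap.comp_add, Xi_comp, hub, hb'u, hA₂.self_eq_zero,
    zero_smul, add_zero, zero_add]

include hA₂ in
theorem Xuu_comp (u b : J → F) (hub : B₂ u b = 0) (X A θ C : (I → F) →ₗ[F] (I → F)) :
    Ξ B₂ X u u ∘ₗ (Ξ B₂ A b u + Ξ B₂ θ u b + Ξ B₂ C u u) = 0 := by
  have hbu : B₂ b u = 0 := by rw [alt_swap B₂ hA₂, hub, neg_zero]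
  simp only [LinearMap.comp_add, Xi_comp, hbu, hA₂.self_eq_zero, zero_smul, add_zero]

end comp

section partI

variable {B : LinearMap.BilinForm F (I × J → F)} {B₁ : LinearMap.BilinForm F (I → F)}
  {B₂ : LinearMap.BilinForm F (J → F)} (hT : TS B B₁ B₂)
  (hS₁ : ∀ x y, B₁ x y = B₁ y x) (hA₂ : B₂.IsAlt)
  (H : Subgroup (GL (I × J) F)) (hMH : krSub I J F ⊓ SpG B ≤ H) (hH : H ≤ SpG B)

/-- the slopes at the pair `(u, b)` -/
def SS (u b : J → F) : Set ((I → F) →ₗ[F] (I → F)) :=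
  {θ | ∃ k ∈ H, ∃ C : (I → F) →ₗ[F] (I → F),
    Acts k (Ξ B₂ (adj B₁ hT.nd₁ θ) b u + Ξ B₂ θ u b + Ξ B₂ C u u)}

include hA₂ in
theorem SS_add (u b : J → F) (hub : B₂ u b = 0) {θ θ' : (I → F) →ₗ[F] (I → F)}
    (h : θ ∈ SS hT H u b) (h' : θ' ∈ SS hT H u b) : θ + θ' ∈ SS hT H u b := by
  obtain ⟨k, hk, C, hkA⟩ := h
  obtain ⟨k', hk', C', hkA'⟩ := h'
  refine ⟨k * k', H.mul_mem hk hk', C + C', ?_⟩
  have h0 := NN_comp (I := I) B₂ hA₂ u b b hub hub (adj B₁ hT.nd₁ θ) θ C (adj B₁ hT.nd₁ θ') θ' C'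
  rw [hA₂.self_eq_zero, zero_smul] at h0
  have := hkA.mul_of_comp_zero hkA' h0
  apply this.congr
  rw [adj_add, Xi_add_left, Xi_add_left, Xi_add_left]
  abel

include hA₂ in
theorem SS_neg (u b : J → F) (hub : B₂ u b = 0) {θ : (I → F) →ₗ[F] (I → F)}
    (h : θ ∈ SS hT H u b) : -θ ∈ SS hT H u b := by
  obtain ⟨k, hk, C, hkA⟩ := h
  refine ⟨k⁻¹, H.inv_mem hk, -C, ?_⟩
  have h0 := NN_comp (I := I) B₂ hA₂ u b b hub hub (adj B₁ hT.nd₁ θ) θ C (adj B₁ hT.nd₁ θ) θ C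
  rw [hA₂.self_eq_zero, zero_smul] at h0
  have := hkA.inv h0
  apply this.congr
  rw [adj_neg, Xi_neg_left, Xi_neg_left, Xi_neg_left]
  abel

include hT hA₂ hMH in
theorem SS_smul_id (u b : J → F) (hub : B₂ u b = 0) (c : F) :
    c • (LinearMap.id : (I → F) →ₗ[F] (I → F)) ∈ SS hT H u b := by
  have hz : B₂ u (c • b) = 0 := by rw [map_smul, hub, smul_zero]
  have hρH : krL (1 : (I → F) ≃ₗ[F] (I → F)) (rho B₂ hA₂ u (c • b)) ∈ H :=
    hT.krL_mem_H H hMH 1 _ (fun _ _ => rfl) (rho_isom B₂ hA₂ u (c • b))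
  refine ⟨_, hρH, 0, ?_⟩
  have := Acts_krL_rho (I := I) hA₂ u (c • b) hz
  apply this.congr
  have e1 : adj B₁ hT.nd₁ (c • (LinearMap.id : (I → F) →ₗ[F] (I → F))) = c • LinearMap.id :=
    adj_eq B₁ hT.nd₁ _ _ (fun x y => by
      simp only [LinearMap.smul_apply, LinearMap.id_apply, map_smul, smul_eq_mul])
  have e2 : Ξ B₂ (0 : (I → F) →ₗ[F] (I → F)) u u = 0 := by
    apply LinearMap.ext
    intro v
    rw [Xi_apply, LinearMap.zero_apply, pt_zero_left, LinearMap.zero_apply]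
  rw [e1, e2, Xi_smul_p, Xi_smul_q, Xi_smul_left, Xi_smul_left]
  abel

include hT hA₂ hMH in
theorem SS_conj (u b : J → F) (β : (I → F) ≃ₗ[F] (I → F))
    (hβ : ∀ x y, B₁ (β x) (β y) = B₁ x y) {θ : (I → F) →ₗ[F] (I → F)}
    (h : θ ∈ SS hT H u b) :
    (β : (I → F) →ₗ[F] (I → F)) ∘ₗ θ ∘ₗ (β.symm : (I → F) →ₗ[F] (I → F)) ∈ SS hT H u b := by
  obtain ⟨k, hk, C, hkA⟩ := h
  have hβH : krL β (1 : (J → F) ≃ₗ[F] (J → F)) ∈ H :=
    hT.krL_mem_H H hMH β 1 hβ (fun _ _ => rfl)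
  refine ⟨krL β 1 * k * (krL β 1)⁻¹, H.mul_mem (H.mul_mem hβH hk) (H.inv_mem hβH),
    (β : (I → F) →ₗ[F] (I → F)) ∘ₗ C ∘ₗ (β.symm : (I → F) →ₗ[F] (I → F)), ?_⟩
  apply hkA.conj_krL β 1
  intro v
  simp only [LinearMap.add_apply, Matrix.mulVec_add, Xi_conj β 1 (fun _ _ => rfl), adj_conj B₁
    hT.nd₁ β hβ]
  rfl

include hT hA₂ hMH in
theorem SS_transport (u b b' : J → F) (γ : (J → F) ≃ₗ[F] (J → F))
    (hγ : ∀ x y, B₂ (γ x) (γ y) = B₂ x y) (hγu : γ u = u) (hγb : γ b = b')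
    {θ : (I → F) →ₗ[F] (I → F)} (h : θ ∈ SS hT H u b) : θ ∈ SS hT H u b' := by
  obtain ⟨k, hk, C, hkA⟩ := h
  have hγH : krL (1 : (I → F) ≃ₗ[F] (I → F)) γ ∈ H :=
    hT.krL_mem_H H hMH 1 γ (fun _ _ => rfl) hγ
  refine ⟨krL 1 γ * k * (krL 1 γ)⁻¹, H.mul_mem (H.mul_mem hγH hk) (H.inv_mem hγH), C, ?_⟩
  apply hkA.conj_krL 1 γ
  intro v
  simp only [LinearMap.add_apply, Matrix.mulVec_add, Xi_conj 1 γ hγ, one_conj_lin, hγu, hγb]

include hA₂ in
/-- the commutator of two radical elements with slopes at `(u, b)` and `(u, b')` -/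
theorem SS_comm (u b b' : J → F) (hub : B₂ u b = 0) (hub' : B₂ u b' = 0)
    {θ θ' : (I → F) →ₗ[F] (I → F)} (h : θ ∈ SS hT H u b) (h' : θ' ∈ SS hT H u b') :
    B₂ b' b • (θ ∘ₗ adj B₁ hT.nd₁ θ' + θ' ∘ₗ adj B₁ hT.nd₁ θ) ∈ ZL B₂ H u := by
  obtain ⟨k, hk, C, hkA⟩ := h
  obtain ⟨k', hk', C', hkA'⟩ := h'
  have e1 := NN_comp (I := I) B₂ hA₂ u b b' hub hub' (adj B₁ hT.nd₁ θ) θ C (adj B₁ hT.nd₁ θ') θ' C'
  have e2 := NN_comp (I := I) B₂ hA₂ u b' b hub' hub (adj B₁ hT.nd₁ θ') θ' C' (adj B₁ hT.nd₁ θ) θ C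
  have e3 := NN_comp (I := I) B₂ hA₂ u b b hub hub (adj B₁ hT.nd₁ θ) θ C (adj B₁ hT.nd₁ θ) θ C
  have e4 := NN_comp (I := I) B₂ hA₂ u b' b' hub' hub' (adj B₁ hT.nd₁ θ') θ' C'
    (adj B₁ hT.nd₁ θ') θ' C'
  rw [hA₂.self_eq_zero, zero_smul] at e3 e4
  have e5 : (Ξ B₂ (adj B₁ hT.nd₁ θ) b u + Ξ B₂ θ u b + Ξ B₂ C u u) ∘ₗ
      (Ξ B₂ (adj B₁ hT.nd₁ θ') b' u + Ξ B₂ θ' u b' + Ξ B₂ C' u u) ∘ₗ
      (Ξ B₂ (adj B₁ hT.nd₁ θ) b u + Ξ B₂ θ u b + Ξ B₂ C u u) = 0 := by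
    rw [← LinearMap.comp_assoc, e1, LinearMap.smul_comp, Xuu_comp B₂ hA₂ u b hub, smul_zero]
  have e6 : (Ξ B₂ (adj B₁ hT.nd₁ θ') b' u + Ξ B₂ θ' u b' + Ξ B₂ C' u u) ∘ₗ
      (Ξ B₂ (adj B₁ hT.nd₁ θ) b u + Ξ B₂ θ u b + Ξ B₂ C u u) ∘ₗ
      (Ξ B₂ (adj B₁ hT.nd₁ θ') b' u + Ξ B₂ θ' u b' + Ξ B₂ C' u u) = 0 := by
    rw [← LinearMap.comp_assoc, e2, LinearMap.smul_comp, Xuu_comp B₂ hA₂ u b' hub', smul_zero]
  have hcomm := hkA.comm hkA' e3 e4 e5 e6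
  refine ⟨k * k' * k⁻¹ * k'⁻¹,
    H.mul_mem (H.mul_mem (H.mul_mem hk hk') (H.inv_mem hk)) (H.inv_mem hk'), ?_⟩
  apply hcomm.congr
  rw [e1, e2, alt_swap B₂ hA₂ b b', Xi_smul_left, Xi_add_left, smul_add]
  module

include hT hS₁ hA₂ hMH hH in
/-- **the slopes are scalar** -/
theorem SS_scalar [Fintype F] (hodd : Fintype.card F % 2 = 1) (h2 : (2 : F) ≠ 0)
    (hI : 3 ≤ Fintype.card I) (hex : Fintype.card F ≠ 3 ∨ 4 ≤ Fintype.card I)
    (hnot : ¬ SpG B ≤ H) (u b : J → F) (hli : LinearIndependent F ![u, b]) (hub : B₂ u b = 0)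
    (θ : (I → F) →ₗ[F] (I → F)) (hθ : θ ∈ SS hT H u b) : ∃ c : F, θ = c • LinearMap.id := by
  have hu : u ≠ 0 := by
    have := hli.ne_zero 0
    simpa using this
  have hfr : finrank F (I → F) = Fintype.card I := Module.finrank_fintype_fun_eq_card F
  obtain ⟨b', hb'⟩ := exists_prescribed B₂ hT.nd₂ ![u, b] hli ![0, 1]
  have hub' : B₂ u b' = 0 := by simpa using hb' 0
  have hbb' : B₂ b b' = 1 := by simpa using hb' 1
  have hb'b : B₂ b' b = -1 := by rw [alt_swap B₂ hA₂, hbb']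
  have hb'b0 : B₂ b' b ≠ 0 := by rw [hb'b]; exact neg_ne_zero.mpr one_ne_zero
  have hli' : LinearIndependent F ![u, b'] :=
    pair_indep_of_form B₂ hu hub (by rw [hb'b]; exact neg_ne_zero.mpr one_ne_zero)
  obtain ⟨γ, hγ, hγu, hγb⟩ := exists_isom_pair B₂ hT.nd₂ hA₂ u b u b' hli hli' (by rw [hub, hub'])
  have hadjid : adj B₁ hT.nd₁ (LinearMap.id : (I → F) →ₗ[F] (I → F)) = LinearMap.id :=
    adj_eq B₁ hT.nd₁ _ _ (fun x y => rfl)
  -- Step 1: `θ + θ*` is scalar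
  have hid : (LinearMap.id : (I → F) →ₗ[F] (I → F)) ∈ SS hT H u b' := by
    have := SS_smul_id hT hA₂ H hMH u b' hub' (1 : F)
    rwa [one_smul] at this
  have h1 := SS_comm hT hA₂ H u b b' hub hub' hθ hid
  rw [hadjid, LinearMap.comp_id, LinearMap.id_comp] at h1
  obtain ⟨c', hc'⟩ := ZL_scalar hT hS₁ hA₂ H hMH hH hodd h2 hI hex hnot u hu _ h1
  obtain ⟨s, hs⟩ : ∃ s : F, s = c' / B₂ b' b := ⟨_, rfl⟩
  have hsum : θ + adj B₁ hT.nd₁ θ = s • LinearMap.id := by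
    have := congrArg (fun f : (I → F) →ₗ[F] (I → F) => (B₂ b' b)⁻¹ • f) hc'
    simp only [smul_smul, inv_mul_cancel₀ hb'b0, one_smul] at this
    rw [this, hs]
    congr 1
    field_simp
  -- the skew part
  obtain ⟨Ψ, hΨ⟩ : ∃ Ψ : (I → F) →ₗ[F] (I → F), Ψ = θ + (-(s / 2)) • LinearMap.id := ⟨_, rfl⟩
  have hΨS : Ψ ∈ SS hT H u b := by
    rw [hΨ]
    exact SS_add hT hA₂ H u b hub hθ (SS_smul_id hT hA₂ H hMH u b hub _)
  have hΨadj : adj B₁ hT.nd₁ Ψ = -Ψ := by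
    rw [hΨ, adj_add, adj_smul, hadjid]
    have e : adj B₁ hT.nd₁ θ = s • LinearMap.id - θ := by
      rw [← hsum]
      abel
    rw [e]
    have e2 : s - s / 2 = s / 2 := by field_simp; ring
    apply LinearMap.ext
    intro x
    simp only [LinearMap.add_apply, LinearMap.sub_apply, LinearMap.smul_apply, LinearMap.id_apply,
      LinearMap.neg_apply]
    have : s • x = (s / 2) • x + (s / 2) • x := by
      rw [← add_smul]
      congr 1
      field_simp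
      ring
    rw [this]
    module
  -- Step 2: skew members have scalar square
  have step2 : ∀ Ψ' : (I → F) →ₗ[F] (I → F), Ψ' ∈ SS hT H u b → adj B₁ hT.nd₁ Ψ' = -Ψ' →
      ∃ s' : F, Ψ' ∘ₗ Ψ' = s' • LinearMap.id := by
    intro Ψ' hΨ' hadj
    have hΨ'' := SS_transport hT hA₂ H hMH u b b' γ hγ hγu hγb hΨ'
    have h3 := SS_comm hT hA₂ H u b b' hub hub' hΨ' hΨ''
    rw [hadj] at h3
    obtain ⟨c'', hc''⟩ := ZL_scalar hT hS₁ hA₂ H hMH hH hodd h2 hI hex hnot u hu _ h3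
    refine ⟨c'' / 2, ?_⟩
    rw [hb'b] at hc''
    have e : (-1 : F) • (Ψ' ∘ₗ (-Ψ') + Ψ' ∘ₗ (-Ψ')) = (2 : F) • (Ψ' ∘ₗ Ψ') := by
      rw [LinearMap.comp_neg, two_smul]
      module
    rw [e] at hc''
    have := congrArg (fun f : (I → F) →ₗ[F] (I → F) => (2 : F)⁻¹ • f) hc''
    simp only [smul_smul, inv_mul_cancel₀ h2, one_smul] at this
    rw [this]
    congr 1
    field_simp
  -- Step 3: `Ψ` kills the nonsingular vectors
  have hsk : ∀ x y, B₁ (Ψ x) y = -B₁ x (Ψ y) := by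
    intro x y
    have := adj_apply B₁ hT.nd₁ Ψ x y
    rw [hΨadj, LinearMap.neg_apply, map_neg, LinearMap.neg_apply] at this
    linear_combination -this
  have step3 : ∀ z, B₁ z z ≠ 0 → Ψ z = 0 := by
    intro z hz
    have hconj := SS_conj hT hA₂ H hMH u b (refl B₁ z) (refl_isom B₁ hS₁ z) hΨS
    rw [refl_coe, refl_symm_coe] at hconj
    have hΩS : Ψ - reflL B₁ z ∘ₗ Ψ ∘ₗ reflL B₁ z ∈ SS hT H u b := by
      rw [sub_eq_add_neg]
      exact SS_add hT hA₂ H u b hub hΨS (SS_neg hT hA₂ H u b hub hconj)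
    have hΩadj : adj B₁ hT.nd₁ (Ψ - reflL B₁ z ∘ₗ Ψ ∘ₗ reflL B₁ z) =
        -(Ψ - reflL B₁ z ∘ₗ Ψ ∘ₗ reflL B₁ z) := by
      have e := adj_conj B₁ hT.nd₁ (refl B₁ z) (refl_isom B₁ hS₁ z) Ψ
      rw [refl_coe, refl_symm_coe] at e
      rw [adj_sub, e, hΨadj, LinearMap.neg_comp, LinearMap.comp_neg]
      abel
    obtain ⟨s', hs'⟩ := step2 _ hΩS hΩadj
    exact skew_zero B₁ hS₁ hT.nd₁ h2 (by rw [hfr]; exact hI) Ψ hsk z hz s' hs'
  obtain ⟨z₀, hz₀⟩ := exists_nonsing B₁ hS₁ hT.nd₁ h2 (by rw [hfr]; omega)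
  have hΨ0 : Ψ = 0 := eq_zero_of_nonsing B₁ hS₁ h2 z₀ hz₀ Ψ step3
  refine ⟨s / 2, ?_⟩
  rw [hΨ0] at hΨ
  have : θ = -((-(s / 2)) • LinearMap.id) := by
    rw [eq_neg_iff_add_eq_zero]
    exact hΨ.symm
  rw [this]
  module

end partI

end Cfsg.Agent.Lib.Helper1.TsB
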