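import Mathlib
import Cfsg.Agent.Lib.Helper1.TsB8

/-!
# Local analysis at `W ⊗ u`: the radical of the stabiliser meets `H` in the Kronecker group
-/

set_option autoImplicit false
set_option maxHeartbeats 4000000
set_option maxRecDepth 100000
set_option linter.unusedSimpArgs false
set_option linter.unusedVariables false
set_option linter.unusedSectionVars false
set_option linter.style.longLine false
set_option linter.deprecated false

namespace Cfsg.Agent.Lib.Helper1.TsB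

open Module Matrix
open Cfsg.Agent.Lib.Helper1.TsA
open Cfsg.Agent.Lib.Helper5.AltWitt
open Cfsg.Agent.Lib.Helper8.Tns

local notation "Ξ" => Cfsg.Agent.Lib.Helper1.TsA.Xi

variable {F : Type*} [Field F]
variable {I J : Type} [Fintype I] [DecidableEq I] [Fintype J] [DecidableEq J]

section partI

variable {B : LinearMap.BilinForm F (I × J → F)} {B₁ : LinearMap.BilinForm F (I → F)}
  {B₂ : LinearMap.BilinForm F (J → F)} (hT : TS B B₁ B₂)
  (hS₁ : ∀ x y, B₁ x y = B₁ y x) (hA₂ : B₂.IsAlt)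
  (H : Subgroup (GL (I × J) F)) (hMH : krSub I J F ⊓ SpG B ≤ H) (hH : H ≤ SpG B)

include hT hS₁ hA₂ hMH hH in
/-- an element of `H` fixing `W ⊗ u^⊥` pointwise is a transvection of the `J`-side -/
theorem fix_perp_eq [Fintype F] (hodd : Fintype.card F % 2 = 1) (h2 : (2 : F) ≠ 0)
    (hI : 3 ≤ Fintype.card I) (hex : Fintype.card F ≠ 3 ∨ 4 ≤ Fintype.card I)
    (hnot : ¬ SpG B ≤ H) (u : J → F) (hu : u ≠ 0) (ζ : GL (I × J) F) (hζH : ζ ∈ H)
    (hfix : ∀ (x : I → F) (a : J → F), B₂ u a = 0 →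
      (ζ : Matrix (I × J) (I × J) F) *ᵥ pt x a = pt x a) :
    ∃ c : F, ζ = krL (1 : (I → F) ≃ₗ[F] (I → F)) (tv B₂ hA₂ u c) := by
  obtain ⟨ws, hws⟩ := exists_partner B₂ hT.nd₂ u hu 1
  have hζ := hH hζH
  have hd : ∀ x : I → F, ∃ x' : I → F,
      (ζ : Matrix (I × J) (I × J) F) *ᵥ pt x ws - pt x ws = pt x' u := by
    intro x
    apply hT.exists_pt_of_C₂_zero hu
    intro z hz
    apply hT.eq_of_B₁
    intro q
    rw [← B_pt_right hT, map_sub, LinearMap.sub_apply, map_zero, LinearMap.zero_apply]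
    have := hζ (pt x ws) (pt q z)
    rw [hfix q z hz] at this
    rw [this, sub_self]
  obtain ⟨τ, hτdef⟩ : ∃ τ : (I → F) →ₗ[F] (I → F), τ =
      -(C₂ B₂ ws ∘ₗ (Matrix.mulVecLin (ζ : Matrix (I × J) (I × J) F) - LinearMap.id) ∘ₗ
        ptL ws) := ⟨_, rfl⟩
  have hτ : ∀ x, (ζ : Matrix (I × J) (I × J) F) *ᵥ pt x ws = pt x ws - pt (τ x) u := by
    intro x
    obtain ⟨x', hx'⟩ := hd x
    have e1 : τ x = -x' := by
      rw [hτdef]
      simp only [LinearMap.neg_apply, LinearMap.comp_apply, LinearMap.sub_apply, ptL_apply,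
        Matrix.mulVecLin_apply, LinearMap.id_apply]
      rw [hx', C₂_pt, hws, one_smul]
    rw [e1, pt_neg_left', sub_neg_eq_add, ← hx']
    abel
  have hζA : Acts ζ (Ξ B₂ τ u u) := by
    apply Acts_of_pt
    intro x w'
    have e1 : w' = (w' - B₂ u w' • ws) + B₂ u w' • ws := by abel
    have e2 : B₂ u (w' - B₂ u w' • ws) = 0 := by
      rw [map_sub, map_smul, hws, smul_eq_mul, mul_one, sub_self]
    have e3 : pt x w' = pt x (w' - B₂ u w' • ws) + B₂ u w' • pt x ws := by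
      rw [← pt_smul_right, ← pt_add_right, ← e1]
    rw [Xi_pt]
    calc (ζ : Matrix (I × J) (I × J) F) *ᵥ pt x w'
        = (ζ : Matrix (I × J) (I × J) F) *ᵥ
            (pt x (w' - B₂ u w' • ws) + B₂ u w' • pt x ws) := by rw [← e3]
      _ = pt x (w' - B₂ u w' • ws) + B₂ u w' • (pt x ws - pt (τ x) u) := by
          rw [Matrix.mulVec_add, Matrix.mulVec_smul, hfix x _ e2, hτ x]
      _ = (pt x (w' - B₂ u w' • ws) + B₂ u w' • pt x ws) - B₂ u w' • pt (τ x) u := by module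
      _ = pt x w' + B₂ w' u • pt (τ x) u := by
          rw [← e3, alt_swap B₂ hA₂ w' u]
          module
  have hτZ : τ ∈ ZL B₂ H u := ⟨ζ, hζH, hζA⟩
  obtain ⟨c, hc⟩ := ZL_scalar hT hS₁ hA₂ H hMH hH hodd h2 hI hex hnot u hu τ hτZ
  refine ⟨c, ?_⟩
  apply hζA.ext
  have := Acts_krL_tv_right (I := I) hA₂ u c
  apply this.congr
  rw [hc, Xi_smul_left]

include hT hS₁ hA₂ hMH hH in
/-- the slope of a radical element at a vector of `u^⊥` is scalar -/
theorem slope_scalar' [Fintype F] (hodd : Fintype.card F % 2 = 1) (h2 : (2 : F) ≠ 0)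
    (hI : 3 ≤ Fintype.card I) (hex : Fintype.card F ≠ 3 ∨ 4 ≤ Fintype.card I)
    (hnot : ¬ SpG B ≤ H) (u b : J → F) (hu : u ≠ 0) (hub : B₂ u b = 0)
    (g : GL (I × J) F) (hgH : g ∈ H) (θ : (I → F) →ₗ[F] (I → F))
    (hgu : ∀ x, (g : Matrix (I × J) (I × J) F) *ᵥ pt x u = pt x u)
    (hg1 : ∀ x, (g : Matrix (I × J) (I × J) F) *ᵥ pt x b = pt x b + pt (θ x) u) :
    ∃ c : F, θ = c • LinearMap.id := by
  by_cases hli : LinearIndependent F ![u, b]
  · have hK := K1' hT hA₂ u b hub g (hH hgH) θ hgu hg1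
    have htH : krL (1 : (I → F) ≃ₗ[F] (I → F)) (tv B₂ hA₂ b 1) ∈ H :=
      hT.krL_mem_H H hMH 1 _ (fun _ _ => rfl) (tv_isom B₂ hA₂ b 1)
    have hθS : θ ∈ SS hT H u b :=
      ⟨_, H.mul_mem (H.mul_mem (H.mul_mem hgH htH) (H.inv_mem hgH)) (H.inv_mem htH), _, hK⟩
    exact SS_scalar hT hS₁ hA₂ H hMH hH hodd h2 hI hex hnot u b hli hub θ hθS
  · rw [LinearIndependent.pair_iff' hu] at hli
    push Not at hli
    obtain ⟨a, ha⟩ := hli
    refine ⟨0, ?_⟩
    apply LinearMap.ext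
    intro x
    rw [LinearMap.smul_apply, zero_smul]
    have h1 := hg1 x
    rw [← ha, pt_smul_right, Matrix.mulVec_smul, hgu x] at h1
    have h3 : pt (θ x) u = pt (0 : I → F) u := by
      rw [pt_zero_left]
      have := congrArg (fun y => y - a • pt x u) h1
      simp only [sub_self, add_sub_cancel_left] at this
      exact this.symm
    exact pt_left_injective hu h3

include hT hS₁ hA₂ hMH hH in
/-- **(L4)**, explicit form: an element of `R ∩ H` is `1 ⊗ (ρ_z t_u(c))` -/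
theorem rad_form' [Fintype F] (hodd : Fintype.card F % 2 = 1) (h2 : (2 : F) ≠ 0)
    (hI : 3 ≤ Fintype.card I) (hex : Fintype.card F ≠ 3 ∨ 4 ≤ Fintype.card I)
    (hnot : ¬ SpG B ≤ H) (u : J → F) (hu : u ≠ 0)
    (r : GL (I × J) F) (hrH : r ∈ H)
    (hfix : ∀ x, (r : Matrix (I × J) (I × J) F) *ᵥ pt x u = pt x u)
    (hmove : ∀ (x : I → F) (a : J → F), B₂ u a = 0 →
      ∃ x'' : I → F, (r : Matrix (I × J) (I × J) F) *ᵥ pt x a = pt x a + pt x'' u) :
    ∃ (z : J → F) (c : F), B₂ u z = 0 ∧ r = krL (1 : (I → F) ≃ₗ[F] (I → F)) (rho B₂ hA₂ u z) *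
      krL (1 : (I → F) ≃ₗ[F] (I → F)) (tv B₂ hA₂ u c) := by
  obtain ⟨ws, hws⟩ := exists_partner B₂ hT.nd₂ u hu 1
  obtain ⟨i₀⟩ : Nonempty I := by
    rw [← Fintype.card_pos_iff]
    omega
  have hx₀ : (Pi.single i₀ (1 : F) : I → F) ≠ 0 := single_ne_zero' i₀
  obtain ⟨xs, hxs⟩ := exists_partner B₁ hT.nd₁ _ hx₀ 1
  -- the slopes
  obtain ⟨θ, hθ⟩ : ∃ θ : (J → F) → (I → F) →ₗ[F] (I → F), ∀ a, θ a =
      C₂ B₂ ws ∘ₗ (Matrix.mulVecLin (r : Matrix (I × J) (I × J) F) - LinearMap.id) ∘ₗ ptL a :=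
    ⟨_, fun _ => rfl⟩
  have hθ1 : ∀ (a : J → F), B₂ u a = 0 → ∀ x,
      (r : Matrix (I × J) (I × J) F) *ᵥ pt x a = pt x a + pt (θ a x) u := by
    intro a ha x
    obtain ⟨x'', hx''⟩ := hmove x a ha
    have : θ a x = x'' := by
      rw [hθ]
      simp only [LinearMap.comp_apply, LinearMap.sub_apply, ptL_apply, Matrix.mulVecLin_apply,
        LinearMap.id_apply]
      rw [hx'', add_sub_cancel_left, C₂_pt, hws, one_smul]
    rw [this, hx'']
  have hθ2 : ∀ (a : J → F), B₂ u a = 0 → ∃ c : F, θ a = c • LinearMap.id := by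
    intro a ha
    exact slope_scalar' hT hS₁ hA₂ H hMH hH hodd h2 hI hex hnot u a hu ha r hrH (θ a) hfix
      (hθ1 a ha)
  -- the functional `τ`
  obtain ⟨τ, hτ⟩ : ∃ τ : (J → F) →ₗ[F] F, τ = (B₁.flip xs) ∘ₗ C₂ B₂ ws ∘ₗ
      (Matrix.mulVecLin (r : Matrix (I × J) (I × J) F) - LinearMap.id) ∘ₗ
        ptR (Pi.single i₀ (1 : F)) := ⟨_, rfl⟩
  have hτ1 : ∀ a, τ a = B₁ (θ a (Pi.single i₀ 1)) xs := by
    intro a
    rw [hτ, hθ]
    rfl
  obtain ⟨z, hz⟩ := exists_repr B₂ hT.nd₂ τ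
  have hτ2 : ∀ (a : J → F), B₂ u a = 0 → θ a = B₂ a z • LinearMap.id := by
    intro a ha
    obtain ⟨c, hc⟩ := hθ2 a ha
    rw [hc, hz, hτ1, hc, LinearMap.smul_apply, LinearMap.id_apply, map_smul,
      LinearMap.smul_apply, hxs, smul_eq_mul, mul_one]
  have huz : B₂ u z = 0 := by
    rw [hz, hτ1]
    have h1 := hθ1 u (hA₂.self_eq_zero u) (Pi.single i₀ 1)
    rw [hfix] at h1
    have h3 : pt (θ u (Pi.single i₀ 1)) u = pt (0 : I → F) u := by
      rw [pt_zero_left]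
      have := congrArg (fun y => y - pt (Pi.single i₀ (1 : F)) u) h1
      simp only [sub_self, add_sub_cancel_left] at this
      exact this.symm
    rw [pt_left_injective hu h3, map_zero, LinearMap.zero_apply]
  have hmove' : ∀ (x : I → F) (a : J → F), B₂ u a = 0 →
      (r : Matrix (I × J) (I × J) F) *ᵥ pt x a = pt x a + B₂ a z • pt x u := by
    intro x a ha
    rw [hθ1 a ha x, hτ2 a ha, LinearMap.smul_apply, LinearMap.id_apply, pt_smul_left]
  -- the matching element of `krSub`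
  have hρH : krL (1 : (I → F) ≃ₗ[F] (I → F)) (rho B₂ hA₂ u z) ∈ H :=
    hT.krL_mem_H H hMH 1 _ (fun _ _ => rfl) (rho_isom B₂ hA₂ u z)
  have hρ1 : ∀ (x : I → F) (a : J → F), B₂ u a = 0 →
      ((krL (1 : (I → F) ≃ₗ[F] (I → F)) (rho B₂ hA₂ u z) : GL (I × J) F) :
        Matrix (I × J) (I × J) F) *ᵥ pt x a = pt x a + B₂ a z • pt x u := by
    intro x a ha
    have e1 : (1 : (I → F) ≃ₗ[F] (I → F)) x = x := rfl
    have hau : B₂ a u = 0 := by rw [alt_swap B₂ hA₂, ha, neg_zero]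
    rw [krL_pt, e1, rho_apply B₂ hA₂ u z huz, hau, zero_smul, add_zero, pt_add_right,
      pt_smul_right]
  have hζfix : ∀ (x : I → F) (a : J → F), B₂ u a = 0 →
      (((krL (1 : (I → F) ≃ₗ[F] (I → F)) (rho B₂ hA₂ u z))⁻¹ * r : GL (I × J) F) :
        Matrix (I × J) (I × J) F) *ᵥ pt x a = pt x a := by
    intro x a ha
    rw [Units.val_mul, ← Matrix.mulVec_mulVec, hmove' x a ha, ← hρ1 x a ha,
      inv_mulVec_mulVec]
  have hζH : (krL (1 : (I → F) ≃ₗ[F] (I → F)) (rho B₂ hA₂ u z))⁻¹ * r ∈ H :=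
    H.mul_mem (H.inv_mem hρH) hrH
  obtain ⟨c, hc⟩ := fix_perp_eq hT hS₁ hA₂ H hMH hH hodd h2 hI hex hnot u hu _ hζH hζfix
  have e : r = krL (1 : (I → F) ≃ₗ[F] (I → F)) (rho B₂ hA₂ u z) *
      ((krL (1 : (I → F) ≃ₗ[F] (I → F)) (rho B₂ hA₂ u z))⁻¹ * r) := by group
  refine ⟨z, c, huz, ?_⟩
  rw [← hc]
  exact e

include hT hS₁ hA₂ hMH hH in
/-- **(L4)** `R ∩ H ≤ krSub` -/
theorem rad_mem' [Fintype F] (hodd : Fintype.card F % 2 = 1) (h2 : (2 : F) ≠ 0)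
    (hI : 3 ≤ Fintype.card I) (hex : Fintype.card F ≠ 3 ∨ 4 ≤ Fintype.card I)
    (hnot : ¬ SpG B ≤ H) (u : J → F) (hu : u ≠ 0)
    (r : GL (I × J) F) (hrH : r ∈ H)
    (hfix : ∀ x, (r : Matrix (I × J) (I × J) F) *ᵥ pt x u = pt x u)
    (hmove : ∀ (x : I → F) (a : J → F), B₂ u a = 0 →
      ∃ x'' : I → F, (r : Matrix (I × J) (I × J) F) *ᵥ pt x a = pt x a + pt x'' u) :
    r ∈ krSub I J F := by
  obtain ⟨z, c, -, hr⟩ := rad_form' hT hS₁ hA₂ H hMH hH hodd h2 hI hex hnot u hu r hrH hfix hmove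
  rw [hr]
  exact (krSub I J F).mul_mem (krL_mem _ _) (krL_mem _ _)

end partI

end Cfsg.Agent.Lib.Helper1.TsB
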