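import Mathlib
import Cfsg.Agent.Lib.Helper1.TsB9

/-!
# Local analysis at `W ⊗ u`: the stabiliser in `H` lies in the Kronecker group
-/

set_option autoImplicit false
set_option maxHeartbeats 4000000
set_option maxRecDepth 100000
set_option linter.unusedSimpArgs false
set_option linter.unusedVariables false
set_option linter.unusedSectionVars false
set_option linter.style.longLine false
set_option linter.deprecated false

namespace Cfsg.Agent.Lib.Helper1.TsB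

open Module Matrix
open Cfsg.Agent.Lib.Helper1.TsA
open Cfsg.Agent.Lib.Helper5.AltWitt
open Cfsg.Agent.Lib.Helper8.Tns

local notation "Ξ" => Cfsg.Agent.Lib.Helper1.TsA.Xi

variable {F : Type*} [Field F]
variable {I J : Type} [Fintype I] [DecidableEq I] [Fintype J] [DecidableEq J]

section partI

variable {B : LinearMap.BilinForm F (I × J → F)} {B₁ : LinearMap.BilinForm F (I → F)}
  {B₂ : LinearMap.BilinForm F (J → F)} (hT : TS B B₁ B₂)
  (hS₁ : ∀ x y, B₁ x y = B₁ y x) (hA₂ : B₂.IsAlt)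
  (H : Subgroup (GL (I × J) F)) (hMH : krSub I J F ⊓ SpG B ≤ H) (hH : H ≤ SpG B)

include hT hS₁ hA₂ hMH hH in
/-- the stabiliser of `W ⊗ u` in `H` lies in `krSub` -/
theorem stab_mem_aux' [Fintype F] (hodd : Fintype.card F % 2 = 1) (h2 : (2 : F) ≠ 0)
    (hI : 3 ≤ Fintype.card I) (hex : Fintype.card F ≠ 3 ∨ 4 ≤ Fintype.card I)
    (hJ : 3 ≤ Fintype.card J) (hnot : ¬ SpG B ≤ H) (h : GL (I × J) F) (hh : h ∈ H)
    (u : J → F) (hu : u ≠ 0)
    (hmap : ∀ x : I → F, ∃ x' : I → F,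
      (h : Matrix (I × J) (I × J) F) *ᵥ pt x u = pt x' u) : h ∈ krSub I J F := by
  have hhiso := hH hh
  have hhinv := (SpG B).inv_mem hhiso
  obtain ⟨ws, hws⟩ := exists_partner B₂ hT.nd₂ u hu 1
  -- the map `α`
  obtain ⟨αL, hαLdef⟩ : ∃ αL : (I → F) →ₗ[F] (I → F), αL =
      C₂ B₂ ws ∘ₗ Matrix.mulVecLin (h : Matrix (I × J) (I × J) F) ∘ₗ ptL u := ⟨_, rfl⟩
  have hαL : ∀ x, (h : Matrix (I × J) (I × J) F) *ᵥ pt x u = pt (αL x) u := by
    intro x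
    obtain ⟨x', hx'⟩ := hmap x
    have : αL x = x' := by
      rw [hαLdef]
      simp only [LinearMap.comp_apply, ptL_apply, Matrix.mulVecLin_apply]
      rw [hx', C₂_pt, hws, one_smul]
    rw [this, hx']
  have hαinj : Function.Injective αL := by
    rw [← LinearMap.ker_eq_bot, LinearMap.ker_eq_bot']
    intro x hx
    have h1 := hαL x
    rw [hx, pt_zero_left] at h1
    have h3 : pt x u = 0 := by
      have := congrArg (fun y => ((h⁻¹ : GL (I × J) F) : Matrix (I × J) (I × J) F) *ᵥ y) h1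
      simp only [inv_mulVec_mulVec, Matrix.mulVec_zero] at this
      exact this
    exact pt_left_injective hu (by rw [h3, pt_zero_left])
  obtain ⟨α, hα⟩ : ∃ α : (I → F) ≃ₗ[F] (I → F), ∀ x, α x = αL x :=
    ⟨LinearEquiv.ofInjectiveEndo αL hαinj, fun _ => rfl⟩
  have hα1 : ∀ x, (h : Matrix (I × J) (I × J) F) *ᵥ pt x u = pt (α x) u := by
    intro x
    rw [hα]
    exact hαL x
  have hα2 : ∀ x, ((h⁻¹ : GL (I × J) F) : Matrix (I × J) (I × J) F) *ᵥ pt x u =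
      pt (α.symm x) u := by
    intro x
    have := hα1 (α.symm x)
    rw [LinearEquiv.apply_symm_apply] at this
    rw [← this, inv_mulVec_mulVec]
  -- `h⁻¹` preserves `W ⊗ u^⊥`
  have hperp : ∀ (x : I → F) (a : J → F), B₂ u a = 0 →
      C₂ B₂ u (((h⁻¹ : GL (I × J) F) : Matrix (I × J) (I × J) F) *ᵥ pt x a) = 0 := by
    intro x a ha
    apply hT.eq_of_B₁
    intro q
    have hau : B₂ a u = 0 := by rw [alt_swap B₂ hA₂, ha, neg_zero]
    rw [map_zero, LinearMap.zero_apply, ← B_pt_right hT, SpG_inv_left hhiso, hα1, hT.tens,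
      hau, mul_zero]
  -- the slopes are scalar
  have hslope : ∀ (z a : J → F), B₂ u z = 0 → B₂ u a = 0 → ∃ c : F, ∀ x,
      C₂ B₂ z (((h⁻¹ : GL (I × J) F) : Matrix (I × J) (I × J) F) *ᵥ pt x a) =
        c • α.symm x := by
    intro z a hz ha
    have hρH : krL (1 : (I → F) ≃ₗ[F] (I → F)) (rho B₂ hA₂ u z) ∈ H :=
      hT.krL_mem_H H hMH 1 _ (fun _ _ => rfl) (rho_isom B₂ hA₂ u z)
    have hρA := Acts_krL_rho (I := I) hA₂ u z hz
    obtain ⟨y, hy⟩ : ∃ y : GL (I × J) F,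
        y = h * krL (1 : (I → F) ≃ₗ[F] (I → F)) (rho B₂ hA₂ u z) * h⁻¹ := ⟨_, rfl⟩
    have hyH : y ∈ H := by
      rw [hy]
      exact H.mul_mem (H.mul_mem hh hρH) (H.inv_mem hh)
    have hyu : ∀ x, (y : Matrix (I × J) (I × J) F) *ᵥ pt x u = pt x u := by
      intro x
      have e1 : (1 : (I → F) ≃ₗ[F] (I → F)) (α.symm x) = α.symm x := rfl
      rw [hy, Units.val_mul, Units.val_mul, ← Matrix.mulVec_mulVec, ← Matrix.mulVec_mulVec, hα2,
        krL_pt, e1, rho_apply B₂ hA₂ u z hz, hz, hA₂.self_eq_zero, zero_smul, zero_smul,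
        add_zero, add_zero, hα1, LinearEquiv.apply_symm_apply]
    obtain ⟨θ, hθ⟩ : ∃ θ : (I → F) →ₗ[F] (I → F), θ = (α : (I → F) →ₗ[F] (I → F)) ∘ₗ
        C₂ B₂ z ∘ₗ Matrix.mulVecLin ((h⁻¹ : GL (I × J) F) : Matrix (I × J) (I × J) F) ∘ₗ
          ptL a := ⟨_, rfl⟩
    have hθa : ∀ x, θ x = α (C₂ B₂ z
        (((h⁻¹ : GL (I × J) F) : Matrix (I × J) (I × J) F) *ᵥ pt x a)) := by
      intro x
      rw [hθ]
      rfl
    have hy1 : ∀ x, (y : Matrix (I × J) (I × J) F) *ᵥ pt x a = pt x a + pt (θ x) u := by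
      intro x
      rw [hy, Units.val_mul, Units.val_mul, ← Matrix.mulVec_mulVec, ← Matrix.mulVec_mulVec,
        hρA (((h⁻¹ : GL (I × J) F) : Matrix (I × J) (I × J) F) *ᵥ pt x a), LinearMap.add_apply,
        Xi_apply, Xi_apply, hperp x a ha, LinearMap.id_apply, LinearMap.id_apply, pt_zero_left,
        add_zero, Matrix.mulVec_add, mulVec_inv_mulVec, hα1, hθa]
    obtain ⟨c, hc⟩ := slope_scalar' hT hS₁ hA₂ H hMH hH hodd h2 hI hex hnot u a hu ha y hyH θ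
      hyu hy1
    refine ⟨c, fun x => ?_⟩
    have h1 : θ x = c • x := by
      rw [hc, LinearMap.smul_apply, LinearMap.id_apply]
    rw [hθa] at h1
    apply α.injective
    rw [h1, map_smul, LinearEquiv.apply_symm_apply]
  -- the map `δ`
  obtain ⟨i₀⟩ : Nonempty I := by
    rw [← Fintype.card_pos_iff]
    omega
  obtain ⟨x₀, hx₀def⟩ : ∃ x₀ : I → F, x₀ = Pi.single i₀ (1 : F) := ⟨_, rfl⟩
  have hx₀ : x₀ ≠ 0 := by
    rw [hx₀def]
    exact single_ne_zero' i₀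
  have hαx₀ : α.symm x₀ ≠ 0 := (LinearEquiv.map_ne_zero_iff α.symm).mpr hx₀
  obtain ⟨x₀', hx₀'⟩ := exists_partner B₁ hT.nd₁ _ hαx₀ 1
  obtain ⟨δ, hδdef⟩ : ∃ δ : (J → F) →ₗ[F] (J → F), δ = C₁ B₁ x₀' ∘ₗ
      Matrix.mulVecLin ((h⁻¹ : GL (I × J) F) : Matrix (I × J) (I × J) F) ∘ₗ ptR x₀ := ⟨_, rfl⟩
  have hδa : ∀ a, δ a = C₁ B₁ x₀'
      (((h⁻¹ : GL (I × J) F) : Matrix (I × J) (I × J) F) *ᵥ pt x₀ a) := by
    intro a
    rw [hδdef]
    rfl
  have hδu : δ u = u := by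
    rw [hδa, hα2, C₁_pt, hx₀', one_smul]
  have hδp : ∀ a, B₂ u a = 0 → B₂ u (δ a) = 0 := by
    intro a ha
    rw [alt_swap B₂ hA₂, hδa, ← hT.B₁_C₂_eq, hperp x₀ a ha, map_zero,
      LinearMap.zero_apply, neg_zero]
  have hδc : ∀ a, B₂ u a = 0 → ∀ x, ∃ ε : I → F,
      ((h⁻¹ : GL (I × J) F) : Matrix (I × J) (I × J) F) *ᵥ pt x a =
        pt (α.symm x) (δ a) + pt ε u := by
    intro a ha x
    have : ∃ ε : I → F, ((h⁻¹ : GL (I × J) F) : Matrix (I × J) (I × J) F) *ᵥ pt x a -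
        pt (α.symm x) (δ a) = pt ε u := by
      apply hT.exists_pt_of_C₂_zero hu
      intro z hz
      obtain ⟨c, hc⟩ := hslope z a hz ha
      have e1 : B₂ (δ a) z = c := by
        rw [hδa, ← hT.B₁_C₂_eq, hc x₀, map_smul, LinearMap.smul_apply, hx₀', smul_eq_mul,
          mul_one]
      rw [map_sub, hc x, C₂_pt, e1, sub_self]
    obtain ⟨ε, hε⟩ := this
    exact ⟨ε, by rw [← hε]; abel⟩
  -- the similitude relation
  have hS : ∀ (x x' : I → F) (a a' : J → F), B₂ u a = 0 → B₂ u a' = 0 →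
      B₁ (α.symm x) (α.symm x') * B₂ (δ a) (δ a') = B₁ x x' * B₂ a a' := by
    intro x x' a a' ha ha'
    obtain ⟨ε, hε⟩ := hδc a ha x
    obtain ⟨ε', hε'⟩ := hδc a' ha' x'
    have h1 := hhinv (pt x a) (pt x' a')
    have h3 : B₂ (δ a) u = 0 := by rw [alt_swap B₂ hA₂, hδp a ha, neg_zero]
    rw [hε, hε'] at h1
    simp only [map_add, LinearMap.add_apply, hT.tens, h3, hδp a' ha', hA₂.self_eq_zero,
      mul_zero, add_zero] at h1
    exact h1
  -- a hyperbolic pair in `u^⊥`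
  obtain ⟨a₁, ha₁o, ha₁s⟩ := exists_perp_not_mem_span B₂ hT.nd₂ ![u]
    (by rw [finrank_fintype_fun_eq_card]; omega)
  have hua₁ : B₂ u a₁ = 0 := by simpa using ha₁o 0
  have hlia : LinearIndependent F ![u, a₁] := by
    apply pair_indep_of_not_smul hu
    intro c hc
    apply ha₁s
    rw [hc]
    exact Submodule.smul_mem _ _ (Submodule.subset_span ⟨0, rfl⟩)
  obtain ⟨a₂, ha₂⟩ := exists_prescribed B₂ hT.nd₂ ![u, a₁] hlia ![0, 1]
  have hua₂ : B₂ u a₂ = 0 := by simpa using ha₂ 0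
  have ha₁a₂ : B₂ a₁ a₂ = 1 := by simpa using ha₂ 1
  obtain ⟨x₂, hx₂⟩ := exists_partner B₁ hT.nd₁ x₀ hx₀ 1
  obtain ⟨ν, hνdef⟩ : ∃ ν : F, ν = B₂ (δ a₁) (δ a₂) := ⟨_, rfl⟩
  have hν1 : B₁ (α.symm x₀) (α.symm x₂) * ν = 1 := by
    have := hS x₀ x₂ a₁ a₂ hua₁ hua₂
    rw [hx₂, ha₁a₂, mul_one, ← hνdef] at this
    exact this
  have hν : ν ≠ 0 := by
    intro h0
    rw [h0, mul_zero] at hν1
    exact zero_ne_one hν1
  have hμ : ∀ x x', B₁ (α.symm x) (α.symm x') = ν⁻¹ * B₁ x x' := by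
    intro x x'
    have := hS x x' a₁ a₂ hua₁ hua₂
    rw [ha₁a₂, mul_one, ← hνdef] at this
    rw [← this, mul_comm, mul_assoc, mul_inv_cancel₀ hν, mul_one]
  have hδs : ∀ a a', B₂ u a = 0 → B₂ u a' = 0 → B₂ (δ a) (δ a') = ν * B₂ a a' := by
    intro a a' ha ha'
    have := hS x₀ x₂ a a' ha ha'
    rw [hμ, hx₂, mul_one, one_mul] at this
    rw [← this, ← mul_assoc, mul_inv_cancel₀ hν, one_mul]
  obtain ⟨γ, hγs, hγu, hγp⟩ := exists_gamma B₂ hT.nd₂ hA₂ u ws hws δ ν hν hδu hδp hδs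
  -- the element `m' = α⁻¹ ⊗ γ`
  have hmSp : krL α.symm γ ∈ SpG B :=
    hT.krL_mem_SpG α.symm γ ν⁻¹ ν (inv_mul_cancel₀ hν) hμ hγs
  have hmH : krL α.symm γ ∈ H := hMH ⟨krL_mem _ _, hmSp⟩
  obtain ⟨r, hr⟩ : ∃ r : GL (I × J) F, r = h * krL α.symm γ := ⟨_, rfl⟩
  have hrH : r ∈ H := by
    rw [hr]
    exact H.mul_mem hh hmH
  have hrfix : ∀ x, (r : Matrix (I × J) (I × J) F) *ᵥ pt x u = pt x u := by
    intro x
    rw [hr, Units.val_mul, ← Matrix.mulVec_mulVec, krL_pt, hγu, hα1,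
      LinearEquiv.apply_symm_apply]
  have hrmove : ∀ (x : I → F) (a : J → F), B₂ u a = 0 → ∃ x'' : I → F,
      (r : Matrix (I × J) (I × J) F) *ᵥ pt x a = pt x a + pt x'' u := by
    intro x a ha
    obtain ⟨c, hc⟩ := hγp a ha
    obtain ⟨ε, hε⟩ := hδc a ha x
    refine ⟨c • x - α ε, ?_⟩
    have e1 : pt (α.symm x) (δ a) =
        ((h⁻¹ : GL (I × J) F) : Matrix (I × J) (I × J) F) *ᵥ pt x a - pt ε u := by
      rw [hε]
      abel
    rw [hr, Units.val_mul, ← Matrix.mulVec_mulVec, krL_pt, hc, pt_add_right, pt_smul_right, e1,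
      Matrix.mulVec_add, Matrix.mulVec_sub, Matrix.mulVec_smul, mulVec_inv_mulVec, hα1, hα1,
      LinearEquiv.apply_symm_apply, pt_sub_left, pt_smul_left]
    abel
  have hrK := rad_mem' hT hS₁ hA₂ H hMH hH hodd h2 hI hex hnot u hu r hrH hrfix hrmove
  have : h = r * (krL α.symm γ)⁻¹ := by
    rw [hr]
    group
  rw [this]
  exact (krSub I J F).mul_mem hrK ((krSub I J F).inv_mem (krL_mem _ _))

include hT hS₁ hA₂ hMH hH in
/-- **(La)** an element of `H` mapping `W ⊗ u'` into `W ⊗ u` lies in `krSub` -/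
theorem stab_mem' [Fintype F] (hodd : Fintype.card F % 2 = 1) (h2 : (2 : F) ≠ 0)
    (hI : 3 ≤ Fintype.card I) (hex : Fintype.card F ≠ 3 ∨ 4 ≤ Fintype.card I)
    (hJ : 3 ≤ Fintype.card J) (hnot : ¬ SpG B ≤ H) (h : GL (I × J) F) (hh : h ∈ H)
    (u u' : J → F) (hu : u ≠ 0) (hu' : u' ≠ 0)
    (hmap : ∀ x : I → F, ∃ x' : I → F,
      (h : Matrix (I × J) (I × J) F) *ᵥ pt x u' = pt x' u) : h ∈ krSub I J F := by
  obtain ⟨g₂, hg₂, hg₂u⟩ := exists_isom_single B₂ hT.nd₂ hA₂ u u' hu hu'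
  have hmH : krL (1 : (I → F) ≃ₗ[F] (I → F)) g₂ ∈ H :=
    hT.krL_mem_H H hMH 1 g₂ (fun _ _ => rfl) hg₂
  have h1 : h * krL (1 : (I → F) ≃ₗ[F] (I → F)) g₂ ∈ krSub I J F := by
    apply stab_mem_aux' hT hS₁ hA₂ H hMH hH hodd h2 hI hex hJ hnot _ (H.mul_mem hh hmH) u hu
    intro x
    obtain ⟨x', hx'⟩ := hmap x
    refine ⟨x', ?_⟩
    have e1 : (1 : (I → F) ≃ₗ[F] (I → F)) x = x := rfl
    rw [Units.val_mul, ← Matrix.mulVec_mulVec, krL_pt, e1, hg₂u, hx']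
  have : h = h * krL (1 : (I → F) ≃ₗ[F] (I → F)) g₂ * (krL (1 : (I → F) ≃ₗ[F] (I → F)) g₂)⁻¹ := by
    group
  rw [this]
  exact (krSub I J F).mul_mem h1 ((krSub I J F).inv_mem (krL_mem _ _))

end partI

end Cfsg.Agent.Lib.Helper1.TsB
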