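import Mathlib
import Cfsg.Agent.Lib.Helper1.TsB10

/-!
# Global part I: quadratic Kronecker elements and conjugates of root elements
-/

set_option autoImplicit false
set_option maxHeartbeats 4000000
set_option maxRecDepth 100000
set_option linter.unusedSimpArgs false
set_option linter.unusedVariables false
set_option linter.unusedSectionVars false
set_option linter.style.longLine false
set_option linter.deprecated false

namespace Cfsg.Agent.Lib.Helper1.TsB

open Module Matrix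
open Cfsg.Agent.Lib.Helper1.TsA
open Cfsg.Agent.Lib.Helper5.AltWitt
open Cfsg.Agent.Lib.Helper8.Tns

local notation "Ξ" => Cfsg.Agent.Lib.Helper1.TsA.Xi

variable {F : Type*} [Field F]
variable {I J : Type} [Fintype I] [DecidableEq I] [Fintype J] [DecidableEq J]

/-! ### columns and `L ⊗ 1` -/

/-- the `j`-th column of a vector of `I × J → F` -/
def colv (v : I × J → F) (j : J) : I → F := fun i => v (i, j)

theorem colv_add (v v' : I × J → F) (j : J) : colv (v + v') j = colv v j + colv v' j := rfl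

theorem colv_smul (c : F) (v : I × J → F) (j : J) : colv (c • v) j = c • colv v j := rfl

theorem colv_pt (x : I → F) (w : J → F) (j : J) : colv (pt x w) j = w j • x := by
  ext i
  simp [colv, pt_apply, mul_comm]

/-- `L ⊗ 1` -/
def kL (L : (I → F) →ₗ[F] (I → F)) : (I × J → F) →ₗ[F] (I × J → F) where
  toFun v := fun p => L (colv v p.2) p.1
  map_add' v v' := by
    ext p
    simp [colv_add]
  map_smul' c v := by
    ext p
    simp [colv_smul]

theorem kL_apply (L : (I → F) →ₗ[F] (I → F)) (v : I × J → F) (i : I) (j : J) :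
    kL L v (i, j) = L (colv v j) i := rfl

theorem colv_kL (L : (I → F) →ₗ[F] (I → F)) (v : I × J → F) (j : J) :
    colv (kL L v) j = L (colv v j) := rfl

theorem kL_pt (L : (I → F) →ₗ[F] (I → F)) (x : I → F) (w : J → F) :
    kL L (pt x w) = pt (L x) w := by
  ext ⟨i, j⟩
  rw [kL_apply, colv_pt, map_smul, pt_apply]
  simp [mul_comm]

theorem sum_colv (v : I × J → F) : v = ∑ j, pt (colv v j) (Pi.single j (1 : F)) := by
  ext ⟨i, j⟩
  rw [Finset.sum_apply]
  simp only [pt_apply, colv]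
  rw [Finset.sum_eq_single j]
  · simp
  · intro b _ hb
    rw [Pi.single_eq_of_ne hb.symm, mul_zero]
  · intro h
    exact absurd (Finset.mem_univ j) h

theorem C₂_kL (B₂ : LinearMap.BilinForm F (J → F)) (L : (I → F) →ₗ[F] (I → F)) (p : J → F)
    (v : I × J → F) : C₂ B₂ p (kL L v) = L (C₂ B₂ p v) := by
  have : C₂ B₂ p ∘ₗ kL L = L ∘ₗ C₂ B₂ p := by
    apply lin_ext_pt
    intro x w
    simp only [LinearMap.comp_apply]
    rw [kL_pt, C₂_pt, C₂_pt, map_smul]
  exact LinearMap.congr_fun this v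

theorem kL_eq_zero_iff (L : (I → F) →ₗ[F] (I → F)) (v : I × J → F) :
    kL L v = 0 ↔ ∀ j, L (colv v j) = 0 := by
  constructor
  · intro h j
    rw [← colv_kL, h]
    rfl
  · intro h
    ext ⟨i, j⟩
    rw [kL_apply, h j]
    rfl

/-! ### independence of pure tensors -/

theorem pt_neg_right' (u : I → F) (w : J → F) : pt u (-w) = -pt u w := by
  ext p
  simp [pt]

theorem pt_pair_zero (B₁ : LinearMap.BilinForm F (I → F)) (hnd : B₁.Nondegenerate)
    {x x₁ : I → F} (hli : LinearIndependent F ![x, x₁]) (y y₁ : J → F)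
    (h : pt x y + pt x₁ y₁ = 0) : y = 0 ∧ y₁ = 0 := by
  obtain ⟨q, hq⟩ := exists_prescribed B₁ hnd ![x, x₁] hli ![1, 0]
  obtain ⟨q', hq'⟩ := exists_prescribed B₁ hnd ![x, x₁] hli ![0, 1]
  have h1 : B₁ x q = 1 := by simpa using hq 0
  have h2 : B₁ x₁ q = 0 := by simpa using hq 1
  have h3 : B₁ x q' = 0 := by simpa using hq' 0
  have h4 : B₁ x₁ q' = 1 := by simpa using hq' 1
  constructor
  · have := congrArg (C₁ B₁ q) h
    rw [map_add, C₁_pt, C₁_pt, h1, h2, one_smul, zero_smul, add_zero, map_zero] at this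
    exact this
  · have := congrArg (C₁ B₁ q') h
    rw [map_add, C₁_pt, C₁_pt, h3, h4, one_smul, zero_smul, zero_add, map_zero] at this
    exact this

theorem pt_triple_zero (B₁ : LinearMap.BilinForm F (I → F)) (hnd : B₁.Nondegenerate)
    {x x₁ x₂ : I → F} (hli : LinearIndependent F ![x, x₁, x₂]) (y y₁ y₂ : J → F)
    (h : pt x y + pt x₁ y₁ + pt x₂ y₂ = 0) : y = 0 := by
  obtain ⟨q, hq⟩ := exists_prescribed B₁ hnd ![x, x₁, x₂] hli ![1, 0, 0]
  have h1 : B₁ x q = 1 := by simpa using hq 0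
  have h2 : B₁ x₁ q = 0 := by simpa using hq 1
  have h3 : B₁ x₂ q = 0 := by simpa using hq 2
  have := congrArg (C₁ B₁ q) h
  rw [map_add, map_add, C₁_pt, C₁_pt, C₁_pt, h1, h2, h3, one_smul, zero_smul, zero_smul,
    add_zero, add_zero, map_zero] at this
  exact this

/-- a Kronecker product `T` with `(T - 1)² = 0` has a scalar factor -/
theorem quad_kr (B₁ : LinearMap.BilinForm F (I → F)) (hnd : B₁.Nondegenerate) (h2 : (2 : F) ≠ 0)
    (α : GL I F) (β : GL J F)
    (hq : ∀ v : I × J → F, ((kr α β : GL (I × J) F) : Matrix (I × J) (I × J) F) *ᵥ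
      (((kr α β : GL (I × J) F) : Matrix (I × J) (I × J) F) *ᵥ v) -
      (2 : F) • (((kr α β : GL (I × J) F) : Matrix (I × J) (I × J) F) *ᵥ v) + v = 0) :
    (∃ c : F, (α : Matrix I I F) = c • (1 : Matrix I I F)) ∨
      ∃ c : F, (β : Matrix J J F) = c • (1 : Matrix J J F) := by
  rcases isEmpty_or_nonempty J with hJe | ⟨⟨j₀⟩⟩
  · right
    exact ⟨0, Subsingleton.elim _ _⟩
  by_cases hα : ∃ c : F, (α : Matrix I I F) = c • (1 : Matrix I I F)
  · exact Or.inl hα
  right
  have hne : ∃ x : I → F, ∀ c : F, (α : Matrix I I F) *ᵥ x ≠ c • x := by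
    by_contra hcon
    push Not at hcon
    exact hα (scalar_of_forall_eigen _ hcon)
  obtain ⟨x, hx⟩ := hne
  have hx0 : x ≠ 0 := by
    intro h0
    apply hx 0
    rw [h0, Matrix.mulVec_zero, smul_zero]
  obtain ⟨x₁, hx₁⟩ : ∃ x₁ : I → F, x₁ = (α : Matrix I I F) *ᵥ x := ⟨_, rfl⟩
  obtain ⟨x₂, hx₂⟩ : ∃ x₂ : I → F, x₂ = (α : Matrix I I F) *ᵥ x₁ := ⟨_, rfl⟩
  have hli : LinearIndependent F ![x, x₁] := by
    apply pair_indep_of_not_smul hx0
    intro c
    rw [hx₁]
    exact hx c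
  have hw : ∀ w : J → F, pt x₂ ((β : Matrix J J F) *ᵥ ((β : Matrix J J F) *ᵥ w)) -
      (2 : F) • pt x₁ ((β : Matrix J J F) *ᵥ w) + pt x w = 0 := by
    intro w
    have := hq (pt x w)
    rwa [kr_mulVec_pt, kr_mulVec_pt, ← hx₁, ← hx₂] at this
  have hw₀ : (Pi.single j₀ (1 : F) : J → F) ≠ 0 := single_ne_zero' j₀
  by_cases hsp : x₂ ∈ Submodule.span F (Set.range ![x, x₁])
  · obtain ⟨cc, hcc⟩ := (Submodule.mem_span_range_iff_exists_fun F).mp hsp
    rw [Fin.sum_univ_two] at hcc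
    simp only [Matrix.cons_val_zero, Matrix.cons_val_one] at hcc
    obtain ⟨a, ha⟩ : ∃ a : F, a = cc 0 := ⟨_, rfl⟩
    obtain ⟨b, hb⟩ : ∃ b : F, b = cc 1 := ⟨_, rfl⟩
    rw [← ha, ← hb] at hcc
    have hkey : ∀ w : J → F, b • ((β : Matrix J J F) *ᵥ w) = (2 : F) • w := by
      intro w
      have e : pt x (a • ((β : Matrix J J F) *ᵥ ((β : Matrix J J F) *ᵥ w)) + w) +
          pt x₁ (b • ((β : Matrix J J F) *ᵥ ((β : Matrix J J F) *ᵥ w)) -
            (2 : F) • ((β : Matrix J J F) *ᵥ w)) = 0 := by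
        rw [← hw w, ← hcc, pt_add_left, pt_smul_left, pt_smul_left, pt_add_right, pt_sub_right,
          pt_smul_right, pt_smul_right, pt_smul_right]
        abel
      have h3 := (pt_pair_zero B₁ hnd hli _ _ e).2
      have h4 := congrArg (fun z => ((β⁻¹ : GL J F) : Matrix J J F) *ᵥ z) h3
      simp only [Matrix.mulVec_sub, Matrix.mulVec_smul, inv_mulVec_mulVec,
        Matrix.mulVec_zero] at h4
      exact sub_eq_zero.mp h4
    have hb0 : b ≠ 0 := by
      intro h0
      have := hkey (Pi.single j₀ (1 : F))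
      rw [h0, zero_smul] at this
      have h5 := congrFun this j₀
      simp at h5
      exact h2 h5.symm
    apply scalar_of_forall_eigen
    intro w
    refine ⟨2 / b, ?_⟩
    have := hkey w
    have e2 : (β : Matrix J J F) *ᵥ w = b⁻¹ • (b • ((β : Matrix J J F) *ᵥ w)) := by
      rw [smul_smul, inv_mul_cancel₀ hb0, one_smul]
    rw [e2, this, smul_smul]
    congr 1
    field_simp
  · exfalso
    have hli3 : LinearIndependent F ![x, x₁, x₂] := li_triple hli hsp
    have e : pt x (Pi.single j₀ (1 : F)) +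
        pt x₁ (-((2 : F) • ((β : Matrix J J F) *ᵥ (Pi.single j₀ (1 : F))))) +
        pt x₂ ((β : Matrix J J F) *ᵥ ((β : Matrix J J F) *ᵥ (Pi.single j₀ (1 : F)))) = 0 := by
      rw [← hw (Pi.single j₀ (1 : F)), pt_neg_right', pt_smul_right]
      abel
    exact hw₀ (pt_triple_zero B₁ hnd hli3 _ _ _ e)

/-! ### conjugates of root elements -/

theorem krL_tv_ne_one' {B₂ : LinearMap.BilinForm F (J → F)} (hnd₂ : B₂.Nondegenerate)
    (hA₂ : B₂.IsAlt) (hI : Nonempty I) (w₁ : J → F) (hw₁ : w₁ ≠ 0) :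
    krL (1 : (I → F) ≃ₗ[F] (I → F)) (tv B₂ hA₂ w₁ 1) ≠ 1 := by
  intro h1
  obtain ⟨i₀⟩ := hI
  obtain ⟨ws, hws⟩ := exists_partner B₂ hnd₂ w₁ hw₁ (-1)
  have h2 := krL_pt (1 : (I → F) ≃ₗ[F] (I → F)) (tv B₂ hA₂ w₁ 1)
    (Pi.single i₀ (1 : F)) ws
  have e1 : (1 : (I → F) ≃ₗ[F] (I → F)) (Pi.single i₀ (1 : F)) = Pi.single i₀ (1 : F) := rfl
  rw [h1, Units.val_one, Matrix.one_mulVec, e1, tv_apply, alt_swap B₂ hA₂ ws w₁, hws,
    pt_add_right] at h2
  have h3 : pt (Pi.single i₀ (1 : F)) (((1 : F) * - -1) • w₁) = (0 : I × J → F) := by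
    have := congrArg (fun x => x - pt (Pi.single i₀ (1 : F)) ws) h2
    simp only [sub_self, add_sub_cancel_left] at this
    exact this.symm
  have h4 : ((1 : F) * - -1) • w₁ ≠ 0 := by
    rw [neg_neg, mul_one, one_smul]
    exact hw₁
  exact pt_ne_zero (single_ne_zero' i₀) h4 h3

section partI

variable {B : LinearMap.BilinForm F (I × J → F)} {B₁ : LinearMap.BilinForm F (I → F)}
  {B₂ : LinearMap.BilinForm F (J → F)} (hT : TS B B₁ B₂)
  (hS₁ : ∀ x y, B₁ x y = B₁ y x) (hA₂ : B₂.IsAlt)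
  (H : Subgroup (GL (I × J) F)) (hMH : krSub I J F ⊓ SpG B ≤ H) (hH : H ≤ SpG B)

include hT in
/-- if the kernel of `N` is totally singular, the kernel of `N ⊗ 1` is totally isotropic -/
theorem kL_ker_isotropic (NL : (I → F) →ₗ[F] (I → F))
    (hts : ∀ k k', NL k = 0 → NL k' = 0 → B₁ k k' = 0) (v v' : I × J → F)
    (hv : kL (J := J) NL v = 0) (hv' : kL (J := J) NL v' = 0) : B v v' = 0 := by
  have hcol := (kL_eq_zero_iff NL v').mp hv'
  have hc : ∀ p, NL (C₂ B₂ p v) = 0 := by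
    intro p
    rw [← C₂_kL, hv, map_zero]
  rw [sum_colv v', map_sum]
  apply Finset.sum_eq_zero
  intro j _
  rw [B_pt_right hT]
  exact hts _ _ (hc _) (hcol j)

include hT hS₁ hA₂ hMH hH in
/-- **(G0)** conjugates of root elements by elements outside the Kronecker group are outside -/
theorem conj_root_not_mem [Fintype F] (hodd : Fintype.card F % 2 = 1) (h2 : (2 : F) ≠ 0)
    (hI : 3 ≤ Fintype.card I) (hex : Fintype.card F ≠ 3 ∨ 4 ≤ Fintype.card I)
    (hJ : 4 ≤ Fintype.card J) (hnot : ¬ SpG B ≤ H) (h : GL (I × J) F) (hh : h ∈ H)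
    (hnk : h ∉ krSub I J F) (u : J → F) (hu : u ≠ 0) :
    h⁻¹ * krL (1 : (I → F) ≃ₗ[F] (I → F)) (tv B₂ hA₂ u 1) * h ∉ krSub I J F := by
  intro hmem
  obtain ⟨α, β, hy⟩ := mem_krSub.mp hmem
  have hIne : Nonempty I := by
    rw [← Fintype.card_pos_iff]
    omega
  obtain ⟨i₀⟩ := hIne
  have hJ3 : 3 ≤ Fintype.card J := by omega
  have hhiso := hH hh
  have hxA := Acts_krL_tv_right (I := I) (J := J) (F := F) (B₂ := B₂) hA₂ u (1 : F)
  have hxH : krL (1 : (I → F) ≃ₗ[F] (I → F)) (tv B₂ hA₂ u 1) ∈ H :=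
    hT.krL_mem_H H hMH 1 _ (fun _ _ => rfl) (tv_isom B₂ hA₂ u 1)
  have hyH : kr α β ∈ H := by
    rw [← hy]
    exact H.mul_mem (H.mul_mem (H.inv_mem hh) hxH) hh
  have hyiso := hH hyH
  have hyv : ∀ v : I × J → F,
      ((kr α β : GL (I × J) F) : Matrix (I × J) (I × J) F) *ᵥ v - v =
        ((h⁻¹ : GL (I × J) F) : Matrix (I × J) (I × J) F) *ᵥ
          pt (C₂ B₂ u ((h : Matrix (I × J) (I × J) F) *ᵥ v)) u := by
    intro v
    rw [← hy, Units.val_mul, Units.val_mul, ← Matrix.mulVec_mulVec, ← Matrix.mulVec_mulVec,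
      hxA ((h : Matrix (I × J) (I × J) F) *ᵥ v), Matrix.mulVec_add, inv_mulVec_mulVec,
      add_sub_cancel_left, LinearMap.smul_apply, one_smul, Xi_apply, LinearMap.id_apply]
  -- `(y - 1)² = 0`
  have hN2 : ∀ v : I × J → F,
      ((kr α β : GL (I × J) F) : Matrix (I × J) (I × J) F) *ᵥ
        (((kr α β : GL (I × J) F) : Matrix (I × J) (I × J) F) *ᵥ v - v) -
        (((kr α β : GL (I × J) F) : Matrix (I × J) (I × J) F) *ᵥ v - v) = 0 := by
    intro v
    rw [hyv (((kr α β : GL (I × J) F) : Matrix (I × J) (I × J) F) *ᵥ v - v), hyv v,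
      mulVec_inv_mulVec, C₂_pt, hA₂.self_eq_zero, zero_smul, pt_zero_left, Matrix.mulVec_zero]
  have hquad : ∀ v : I × J → F, ((kr α β : GL (I × J) F) : Matrix (I × J) (I × J) F) *ᵥ
      (((kr α β : GL (I × J) F) : Matrix (I × J) (I × J) F) *ᵥ v) -
      (2 : F) • (((kr α β : GL (I × J) F) : Matrix (I × J) (I × J) F) *ᵥ v) + v = 0 := by
    intro v
    have := hN2 v
    rw [Matrix.mulVec_sub] at this
    rw [← this, two_smul]
    abel
  have hx1 : krL (1 : (I → F) ≃ₗ[F] (I → F)) (tv B₂ hA₂ u 1) ≠ 1 :=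
    krL_tv_ne_one' hT.nd₂ hA₂ ⟨i₀⟩ u hu
  have hy1 : kr α β ≠ 1 := by
    intro h1
    rw [h1] at hy
    apply hx1
    have : krL (1 : (I → F) ≃ₗ[F] (I → F)) (tv B₂ hA₂ u 1) =
        h * (h⁻¹ * krL (1 : (I → F) ≃ₗ[F] (I → F)) (tv B₂ hA₂ u 1) * h) * h⁻¹ := by
      group
    rw [this, hy]
    group
  rcases quad_kr B₁ hT.nd₁ h2 α β hquad with ⟨c, hc⟩ | ⟨c, hc⟩
  · -- the `I`-side is scalar
    have hyp : ∀ (x : I → F) (w : J → F),
        ((kr α β : GL (I × J) F) : Matrix (I × J) (I × J) F) *ᵥ pt x w =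
          pt x (c • ((β : Matrix J J F) *ᵥ w)) := by
      intro x w
      rw [kr_mulVec_pt, hc, Matrix.smul_mulVec, Matrix.one_mulVec, pt_smul_left, pt_smul_right]
    have hex1 : ∃ w₀ : J → F, c • ((β : Matrix J J F) *ᵥ w₀) - w₀ ≠ 0 := by
      by_contra hcon
      push Not at hcon
      apply hy1
      apply eq_one_of_fix_pt
      intro x w
      rw [hyp, sub_eq_zero.mp (hcon w)]
    obtain ⟨w₀, hw₀⟩ := hex1
    apply hnk
    apply stab_mem' hT hS₁ hA₂ H hMH hH hodd h2 hI hex hJ3 hnot h hh u _ hu hw₀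
    intro x
    refine ⟨C₂ B₂ u ((h : Matrix (I × J) (I × J) F) *ᵥ pt x w₀), ?_⟩
    have h3 := hyv (pt x w₀)
    rw [hyp, ← pt_sub_right] at h3
    rw [h3, mulVec_inv_mulVec]
  · -- the `J`-side is scalar
    obtain ⟨NL, hNLdef⟩ : ∃ NL : (I → F) →ₗ[F] (I → F),
        NL = c • Matrix.mulVecLin (α : Matrix I I F) - LinearMap.id := ⟨_, rfl⟩
    have hNLa : ∀ x, NL x = c • ((α : Matrix I I F) *ᵥ x) - x := by
      intro x
      rw [hNLdef]
      rfl
    have hyp : ∀ (x : I → F) (w : J → F),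
        ((kr α β : GL (I × J) F) : Matrix (I × J) (I × J) F) *ᵥ pt x w =
          pt (c • ((α : Matrix I I F) *ᵥ x)) w := by
      intro x w
      rw [kr_mulVec_pt, hc, Matrix.smul_mulVec, Matrix.one_mulVec, pt_smul_left, pt_smul_right]
    -- `y - 1 = N ⊗ 1`
    have hyk : ∀ v : I × J → F,
        ((kr α β : GL (I × J) F) : Matrix (I × J) (I × J) F) *ᵥ v - v = kL NL v := by
      have : Matrix.mulVecLin ((kr α β : GL (I × J) F) : Matrix (I × J) (I × J) F) -
          LinearMap.id = kL NL := by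
        apply lin_ext_pt
        intro x w
        rw [LinearMap.sub_apply, Matrix.mulVecLin_apply, LinearMap.id_apply, hyp, kL_pt, hNLa,
          pt_sub_left]
      intro v
      rw [← this]
      rfl
    have hNL2 : ∀ x, NL (NL x) = 0 := by
      intro x
      have := hN2 (pt x u)
      rw [hyk, hyk, kL_pt, kL_pt] at this
      have h4 : pt (NL (NL x)) u = pt (0 : I → F) u := by
        rw [this, pt_zero_left]
      exact pt_left_injective hu h4
    -- `c α` is an isometry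
    obtain ⟨ws, hws⟩ := exists_partner B₂ hT.nd₂ u hu 1
    have hαiso : ∀ x x', B₁ (c • ((α : Matrix I I F) *ᵥ x)) (c • ((α : Matrix I I F) *ᵥ x')) =
        B₁ x x' := by
      intro x x'
      have := (mem_SpG.mp hyiso) (pt x u) (pt x' ws)
      rw [hyp, hyp, hT.tens, hT.tens, hws, mul_one, mul_one] at this
      exact this
    have hperp : ∀ x k, NL k = 0 → B₁ (NL x) k = 0 := by
      intro x k hk
      have hk' : c • ((α : Matrix I I F) *ᵥ k) = k := by
        have := hNLa k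
        rw [hk] at this
        exact (sub_eq_zero.mp this.symm)
      rw [hNLa, map_sub, LinearMap.sub_apply]
      nth_rewrite 1 [← hk']
      rw [hαiso, sub_self]
    have hperp' : ∀ x k, NL k = 0 → B₁ k (NL x) = 0 := by
      intro x k hk
      rw [hS₁, hperp x k hk]
    -- the kernel of `N` is not totally singular
    have hnts : ¬ ∀ k k', NL k = 0 → NL k' = 0 → B₁ k k' = 0 := by
      intro hts
      obtain ⟨a₁, ha₁o, ha₁s⟩ := exists_perp_not_mem_span B₂ hT.nd₂ ![u]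
        (by rw [finrank_fintype_fun_eq_card]; omega)
      have hua₁ : B₂ u a₁ = 0 := by simpa using ha₁o 0
      have hlia : LinearIndependent F ![u, a₁] := by
        apply pair_indep_of_not_smul hu
        intro c hc
        apply ha₁s
        rw [hc]
        exact Submodule.smul_mem _ _ (Submodule.subset_span ⟨0, rfl⟩)
      obtain ⟨a₂, ha₂⟩ := exists_prescribed B₂ hT.nd₂ ![u, a₁] hlia ![0, 1]
      have hua₂ : B₂ u a₂ = 0 := by simpa using ha₂ 0
      have ha₁a₂ : B₂ a₁ a₂ = 1 := by simpa using ha₂ 1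
      obtain ⟨a, ha⟩ := exists_nonsing B₁ hS₁ hT.nd₁ h2
        (by rw [finrank_fintype_fun_eq_card]; omega)
      have hfix : ∀ p, B₂ u p = 0 → kL (J := J) NL
          (((h⁻¹ : GL (I × J) F) : Matrix (I × J) (I × J) F) *ᵥ pt a p) = 0 := by
        intro p hp
        have hpu : B₂ p u = 0 := by rw [alt_swap B₂ hA₂, hp, neg_zero]
        rw [← hyk, hyv, mulVec_inv_mulVec, C₂_pt, hpu, zero_smul, pt_zero_left,
          Matrix.mulVec_zero]
      have h5 := kL_ker_isotropic hT NL hts _ _ (hfix a₁ hua₁) (hfix a₂ hua₂)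
      rw [(mem_SpG.mp ((SpG B).inv_mem hhiso)), hT.tens, ha₁a₂, mul_one] at h5
      exact ha h5
    push Not at hnts
    obtain ⟨k, k', hk, hk', hkk'⟩ := hnts
    obtain ⟨v₀, hv₀k, hv₀⟩ : ∃ v₀, NL v₀ = 0 ∧ B₁ v₀ v₀ ≠ 0 := by
      by_cases h6 : B₁ k k = 0
      · by_cases h7 : B₁ k' k' = 0
        · refine ⟨k + k', by rw [map_add, hk, hk', add_zero], ?_⟩
          have e : B₁ (k + k') (k + k') = 2 * B₁ k k' := by
            simp only [map_add, LinearMap.add_apply, h6, h7, hS₁ k' k, zero_add, add_zero]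
            ring
          rw [e]
          exact mul_ne_zero h2 hkk'
        · exact ⟨k', hk', h7⟩
      · exact ⟨k, hk, h6⟩
    -- `N ≠ 0`
    obtain ⟨a₀, ha₀⟩ : ∃ a₀, NL a₀ ≠ 0 := by
      by_contra hcon
      push Not at hcon
      apply hy1
      apply eq_one_of_fix_pt
      intro x w
      have := hyk (pt x w)
      rw [kL_pt, hcon, pt_zero_left] at this
      exact sub_eq_zero.mp this
    obtain ⟨w₁, hw₁def⟩ : ∃ w₁, w₁ = NL a₀ := ⟨_, rfl⟩
    have hw₁0 : w₁ ≠ 0 := by rw [hw₁def]; exact ha₀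
    have hw₁k : NL w₁ = 0 := by rw [hw₁def]; exact hNL2 a₀
    have hw₁p : ∀ k, NL k = 0 → B₁ w₁ k = 0 := by
      intro k hk
      rw [hw₁def]
      exact hperp a₀ k hk
    have hw₁w₁ : B₁ w₁ w₁ = 0 := hw₁p w₁ hw₁k
    have hw₁v₀ : B₁ w₁ v₀ = 0 := hw₁p v₀ hv₀k
    have hv₀w₁ : B₁ v₀ w₁ = 0 := by rw [hS₁, hw₁v₀]
    -- the Siegel element
    obtain ⟨E, hEdef⟩ : ∃ E : (I → F) ≃ₗ[F] (I → F), E = sieg B₁ hS₁ h2 w₁ v₀ hw₁w₁ hw₁v₀ :=
      ⟨_, rfl⟩
    have hEa : ∀ x, E x = x + B₁ x v₀ • w₁ - B₁ x w₁ • v₀ - (B₁ v₀ v₀ / 2 * B₁ x w₁) • w₁ := by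
      intro x
      rw [hEdef, sieg_apply]
    have hEiso : ∀ x x', B₁ (E x) (E x') = B₁ x x' := by
      intro x x'
      rw [hEdef]
      exact sieg_isom B₁ hS₁ h2 w₁ v₀ hw₁w₁ hw₁v₀ x x'
    obtain ⟨g, hgdef⟩ : ∃ g : GL (I × J) F, g = krL E (1 : (J → F) ≃ₗ[F] (J → F)) := ⟨_, rfl⟩
    have hgH : g ∈ H := by
      rw [hgdef]
      exact hT.krL_mem_H H hMH E 1 hEiso (fun _ _ => rfl)
    have hgpt : ∀ (x : I → F) (w : J → F),
        (g : Matrix (I × J) (I × J) F) *ᵥ pt x w = pt (E x) w := by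
      intro x w
      rw [hgdef, krL_pt]
      rfl
    -- `g` fixes the image of `N ⊗ 1`
    have hEN : ∀ x, E (NL x) = NL x := by
      intro x
      rw [hEa, hperp x v₀ hv₀k, hperp x w₁ hw₁k, zero_smul, zero_smul, mul_zero, zero_smul,
        add_zero, sub_zero, sub_zero]
    have hgfix : ∀ v : I × J → F, (g : Matrix (I × J) (I × J) F) *ᵥ kL NL v = kL NL v := by
      have : Matrix.mulVecLin (g : Matrix (I × J) (I × J) F) ∘ₗ kL NL = kL NL := by
        apply lin_ext_pt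
        intro x w
        rw [LinearMap.comp_apply, Matrix.mulVecLin_apply, kL_pt, hgpt, hEN]
      intro v
      exact LinearMap.congr_fun this v
    -- `g - 1` maps the kernel of `N ⊗ 1` into its image
    obtain ⟨Ψ, hΨdef⟩ : ∃ Ψ : (I → F) →ₗ[F] (I → F), Ψ = rkV B₁ a₀ v₀ := ⟨_, rfl⟩
    have hΨa : ∀ x, Ψ x = B₁ x v₀ • a₀ := by
      intro x
      rw [hΨdef, rkV_apply]
    obtain ⟨EL, hELdef⟩ : ∃ EL : (I → F) →ₗ[F] (I → F),
        EL = (E : (I → F) →ₗ[F] (I → F)) - LinearMap.id := ⟨_, rfl⟩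
    have hELa : ∀ x, EL x = E x - x := by
      intro x
      rw [hELdef]
      rfl
    have hgk : ∀ v : I × J → F, (g : Matrix (I × J) (I × J) F) *ᵥ v - v = kL EL v := by
      have : Matrix.mulVecLin (g : Matrix (I × J) (I × J) F) - LinearMap.id = kL EL := by
        apply lin_ext_pt
        intro x w
        rw [LinearMap.sub_apply, Matrix.mulVecLin_apply, LinearMap.id_apply, hgpt, kL_pt, hELa,
          pt_sub_left]
      intro v
      rw [← this]
      rfl
    have hELk : ∀ k, NL k = 0 → EL k = NL (Ψ k) := by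
      intro k hk
      rw [hELa, hEa, hΨa, map_smul, ← hw₁def, hS₁ k w₁, hw₁p k hk, zero_smul, mul_zero,
        zero_smul, sub_zero, sub_zero, add_sub_cancel_left]
    have hgmove : ∀ v : I × J → F, kL NL v = 0 →
        (g : Matrix (I × J) (I × J) F) *ᵥ v - v = kL NL (kL Ψ v) := by
      intro v hv
      have hcol := (kL_eq_zero_iff NL v).mp hv
      rw [hgk]
      ext ⟨i, j⟩
      rw [kL_apply, kL_apply, colv_kL, hELk _ (hcol j)]
    -- the conjugate `r = h g h⁻¹`
    obtain ⟨r, hrdef⟩ : ∃ r : GL (I × J) F, r = h * g * h⁻¹ := ⟨_, rfl⟩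
    have hrH : r ∈ H := by
      rw [hrdef]
      exact H.mul_mem (H.mul_mem hh hgH) (H.inv_mem hh)
    have hrv : ∀ v, (r : Matrix (I × J) (I × J) F) *ᵥ v =
        (h : Matrix (I × J) (I × J) F) *ᵥ ((g : Matrix (I × J) (I × J) F) *ᵥ
          (((h⁻¹ : GL (I × J) F) : Matrix (I × J) (I × J) F) *ᵥ v)) := by
      intro v
      rw [hrdef, Units.val_mul, Units.val_mul, ← Matrix.mulVec_mulVec, ← Matrix.mulVec_mulVec]
    have hwsu : B₂ ws u = -1 := by rw [alt_swap B₂ hA₂, hws]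
    have hrfix : ∀ x, (r : Matrix (I × J) (I × J) F) *ᵥ pt x u = pt x u := by
      intro x
      have e1 : ((h⁻¹ : GL (I × J) F) : Matrix (I × J) (I × J) F) *ᵥ pt x u =
          kL NL (((h⁻¹ : GL (I × J) F) : Matrix (I × J) (I × J) F) *ᵥ pt (-x) ws) := by
        rw [← hyk, hyv, mulVec_inv_mulVec, C₂_pt, hwsu, neg_smul, one_smul, neg_neg]
      rw [hrv, e1, hgfix, ← e1, mulVec_inv_mulVec]
    have hrmove : ∀ (x : I → F) (a : J → F), B₂ u a = 0 → ∃ x'' : I → F,
        (r : Matrix (I × J) (I × J) F) *ᵥ pt x a = pt x a + pt x'' u := by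
      intro x a ha
      have hau : B₂ a u = 0 := by rw [alt_swap B₂ hA₂, ha, neg_zero]
      have hz : kL (J := J) NL (((h⁻¹ : GL (I × J) F) : Matrix (I × J) (I × J) F) *ᵥ pt x a) = 0 := by
        rw [← hyk, hyv, mulVec_inv_mulVec, C₂_pt, hau, zero_smul, pt_zero_left,
          Matrix.mulVec_zero]
      have h8 := hgmove _ hz
      rw [← hyk, hyv] at h8
      refine ⟨C₂ B₂ u ((h : Matrix (I × J) (I × J) F) *ᵥ
        kL Ψ (((h⁻¹ : GL (I × J) F) : Matrix (I × J) (I × J) F) *ᵥ pt x a)), ?_⟩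
      rw [hrv, eq_add_of_sub_eq' h8, Matrix.mulVec_add, mulVec_inv_mulVec, mulVec_inv_mulVec]
    obtain ⟨z, cr, huz, hrform⟩ := rad_form' hT hS₁ hA₂ H hMH hH hodd h2 hI hex hnot u hu r hrH
      hrfix hrmove
    -- `(r - 1)² = 0`
    have hrpt : ∀ (x : I → F) (a : J → F), (r : Matrix (I × J) (I × J) F) *ᵥ pt x a =
        pt x (a + (cr * B₂ a u + B₂ a z) • u + B₂ a u • z) := by
      intro x a
      have e1 : (1 : (I → F) ≃ₗ[F] (I → F)) x = x := rfl
      rw [hrform, Units.val_mul, ← Matrix.mulVec_mulVec, krL_pt, krL_pt, e1, e1, tv_apply,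
        rho_apply B₂ hA₂ u z huz]
      congr 1
      simp only [map_add, map_smul, LinearMap.add_apply, LinearMap.smul_apply, smul_eq_mul, huz,
        hA₂.self_eq_zero, mul_zero, add_zero]
      module
    have hzu : B₂ z u = 0 := by rw [alt_swap B₂ hA₂, huz, neg_zero]
    have hrq : ∀ v : I × J → F, (r : Matrix (I × J) (I × J) F) *ᵥ
        ((r : Matrix (I × J) (I × J) F) *ᵥ v) -
        (2 : F) • ((r : Matrix (I × J) (I × J) F) *ᵥ v) + v = 0 := by
      apply pt_induction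
      · simp
      · intro v v' hv hv'
        rw [Matrix.mulVec_add, Matrix.mulVec_add, smul_add]
        have : (r : Matrix (I × J) (I × J) F) *ᵥ ((r : Matrix (I × J) (I × J) F) *ᵥ v) +
            (r : Matrix (I × J) (I × J) F) *ᵥ ((r : Matrix (I × J) (I × J) F) *ᵥ v') -
            ((2 : F) • ((r : Matrix (I × J) (I × J) F) *ᵥ v) +
              (2 : F) • ((r : Matrix (I × J) (I × J) F) *ᵥ v')) + (v + v') =
            ((r : Matrix (I × J) (I × J) F) *ᵥ ((r : Matrix (I × J) (I × J) F) *ᵥ v) -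
              (2 : F) • ((r : Matrix (I × J) (I × J) F) *ᵥ v) + v) +
            ((r : Matrix (I × J) (I × J) F) *ᵥ ((r : Matrix (I × J) (I × J) F) *ᵥ v') -
              (2 : F) • ((r : Matrix (I × J) (I × J) F) *ᵥ v') + v') := by abel
        rw [this, hv, hv', add_zero]
      · intro x a
        rw [hrpt, hrpt, ← pt_smul_right, ← pt_sub_right, ← pt_add_right]
        have : (a + (cr * B₂ a u + B₂ a z) • u + B₂ a u • z +
            (cr * B₂ (a + (cr * B₂ a u + B₂ a z) • u + B₂ a u • z) u +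
              B₂ (a + (cr * B₂ a u + B₂ a z) • u + B₂ a u • z) z) • u +
            B₂ (a + (cr * B₂ a u + B₂ a z) • u + B₂ a u • z) u • z -
            (2 : F) • (a + (cr * B₂ a u + B₂ a z) • u + B₂ a u • z) + a) = 0 := by
          simp only [map_add, map_smul, LinearMap.add_apply, LinearMap.smul_apply, smul_eq_mul,
            huz, hzu, hA₂.self_eq_zero, mul_zero, add_zero]
          module
        rw [this, pt_zero_right]
    -- hence `(g - 1)² = 0`
    have hgq : ∀ v : I × J → F, (g : Matrix (I × J) (I × J) F) *ᵥ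
        ((g : Matrix (I × J) (I × J) F) *ᵥ v) -
        (2 : F) • ((g : Matrix (I × J) (I × J) F) *ᵥ v) + v = 0 := by
      intro v
      have hgv : ∀ v', (g : Matrix (I × J) (I × J) F) *ᵥ v' =
          ((h⁻¹ : GL (I × J) F) : Matrix (I × J) (I × J) F) *ᵥ
            ((r : Matrix (I × J) (I × J) F) *ᵥ ((h : Matrix (I × J) (I × J) F) *ᵥ v')) := by
        intro v'
        rw [hrv, inv_mulVec_mulVec, inv_mulVec_mulVec]
      have := congrArg (fun t => ((h⁻¹ : GL (I × J) F) : Matrix (I × J) (I × J) F) *ᵥ t)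
        (hrq ((h : Matrix (I × J) (I × J) F) *ᵥ v))
      simp only [Matrix.mulVec_add, Matrix.mulVec_sub, Matrix.mulVec_smul, Matrix.mulVec_zero,
        inv_mulVec_mulVec] at this
      rw [hgv, hgv, mulVec_inv_mulVec]
      exact this
    -- contradiction
    obtain ⟨a, ha⟩ := exists_partner B₁ hT.nd₁ w₁ hw₁0 1
    have haw₁ : B₁ a w₁ = 1 := by rw [hS₁, ha]
    have h9 := hgq (pt a u)
    rw [hgpt, hgpt, ← pt_smul_left, ← pt_sub_left, ← pt_add_left] at h9
    have h10 : E (E a) - (2 : F) • E a + a = -(B₁ v₀ v₀) • w₁ := by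
      rw [hEa (E a), hEa a]
      simp only [map_add, map_sub, map_smul, LinearMap.add_apply, LinearMap.sub_apply,
        LinearMap.smul_apply, smul_eq_mul, hw₁w₁, hw₁v₀, hv₀w₁, haw₁, mul_zero, add_zero,
        sub_zero, mul_one, zero_mul]
      module
    rw [h10] at h9
    have h11 : -(B₁ v₀ v₀) • w₁ = 0 := by
      apply pt_left_injective hu
      rw [h9, pt_zero_left]
    rcases smul_eq_zero.mp h11 with h12 | h12
    · exact hv₀ (neg_eq_zero.mp h12)
    · exact hw₁0 h12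

end partI

end Cfsg.Agent.Lib.Helper1.TsB
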