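import Mathlib

/-!
# An abstract generation lemma: quadratic abelian subgroups with strongly closed conjugation

If `P ≤ G` is a non-trivial abelian subgroup all of whose elements act quadratically in a faithful
representation in odd characteristic `p`, and every element conjugating a non-trivial element of
`P` into `P` lies in `P`, then `P = G`.  (Burnside's transfer theorem plus an averaging argument.)
-/

set_option autoImplicit false
set_option maxHeartbeats 4000000
set_option maxRecDepth 100000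
set_option linter.unusedSimpArgs false
set_option linter.unusedVariables false
set_option linter.unusedSectionVars false
set_option linter.style.longLine false
set_option linter.deprecated false

namespace Cfsg.Agent.Lib.Helper1.TsB

theorem one_add_pow_of_sq_zero {R : Type*} [Ring R] (n : R) (hn : n * n = 0) (k : ℕ) :
    (1 + n) ^ k = 1 + (k : R) * n := by
  induction k with
  | zero => simp
  | succ k ih =>
    rw [pow_succ, ih]
    have e : (1 + (k : R) * n) * (1 + n) = 1 + (k : R) * n + n + (k : R) * (n * n) := by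
      rw [mul_add, mul_one, add_mul, one_mul, mul_assoc]
      abel
    rw [e, hn, mul_zero, add_zero, Nat.cast_succ, add_mul, one_mul]
    abel

theorem sum_pow_of_sq_zero {R : Type*} [Ring R] (p : ℕ) [hp : Fact p.Prime] (hp2 : p ≠ 2)
    [CharP R p] (n : R) (hn : n * n = 0) : ∑ i ∈ Finset.range p, (1 + n) ^ i = 0 := by
  have h1 : ∀ i : ℕ, (1 + n) ^ i = 1 + (i : R) * n := one_add_pow_of_sq_zero n hn
  simp_rw [h1]
  rw [Finset.sum_add_distrib, Finset.sum_const, Finset.card_range, ← Finset.sum_mul,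
    ← Nat.cast_sum, nsmul_eq_mul, CharP.cast_eq_zero, zero_mul, zero_add]
  obtain ⟨k, hk⟩ : ∃ k, p = 2 * k + 1 := by
    rcases hp.out.eq_two_or_odd' with h | h
    · exact absurd h hp2
    · exact h
  have hsum : ∑ i ∈ Finset.range p, i = p * k := by
    have h3 := Finset.sum_range_id_mul_two p
    have h4 : p - 1 = k * 2 := by omega
    rw [h4, ← mul_assoc] at h3
    exact Nat.eq_of_mul_eq_mul_right (by norm_num) h3
  rw [hsum, Nat.cast_mul, CharP.cast_eq_zero, zero_mul, zero_mul]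

theorem natCast_isUnit_of_not_dvd {R : Type*} [Ring R] (p : ℕ) [hp : Fact p.Prime] [CharP R p]
    (n : ℕ) (hn : ¬ p ∣ n) : ∃ m : R, m * (n : R) = 1 := by
  have hcop : Nat.Coprime n p := ((Nat.Prime.coprime_iff_not_dvd hp.out).mpr hn).symm
  obtain ⟨m, -, hm⟩ := Nat.exists_mul_mod_eq_one_of_coprime hcop hp.out.one_lt
  refine ⟨(m : R), ?_⟩
  have h1 : n * m = p * (n * m / p) + 1 := by
    have := Nat.div_add_mod (n * m) p
    rw [hm] at this
    exact this.symm
  have h2 := congrArg (Nat.cast (R := R)) h1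
  rw [Nat.cast_mul, Nat.cast_add, Nat.cast_mul, CharP.cast_eq_zero R p, zero_mul, zero_add,
    Nat.cast_one] at h2
  rw [← h2]
  exact ((Nat.cast_commute n (m : R)).eq).symm

/-- **(NU)** -/
theorem NU_abs {G : Type*} [Group G] [Finite G] (p : ℕ) [hp : Fact p.Prime] (hp2 : p ≠ 2)
    {R : Type*} [Ring R] [CharP R p] (ρ : G →* R) (hρ : Function.Injective ρ)
    (P : Subgroup G) (hPne : P ≠ ⊥) (hPab : ∀ x ∈ P, ∀ y ∈ P, x * y = y * x)
    (hquad : ∀ x ∈ P, (ρ x - 1) * (ρ x - 1) = 0)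
    (hb : ∀ g : G, ∀ x ∈ P, x ≠ 1 → g * x * g⁻¹ ∈ P → g ∈ P) : P = ⊤ := by
  classical
  have hρx : ∀ x ∈ P, ∀ k : ℕ, ρ (x ^ k) = 1 + (k : R) * (ρ x - 1) := by
    intro x hx k
    rw [map_pow]
    have := one_add_pow_of_sq_zero (ρ x - 1) (hquad x hx) k
    rwa [add_sub_cancel] at this
  have hxp : ∀ x ∈ P, x ^ p = 1 := by
    intro x hx
    apply hρ
    rw [hρx x hx, CharP.cast_eq_zero, zero_mul, add_zero, map_one]
  have hPp : IsPGroup p P := by
    intro g
    refine ⟨1, ?_⟩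
    rw [pow_one]
    exact Subtype.ext (hxp g g.2)
  obtain ⟨x₀, hx₀P, hx₀1⟩ : ∃ x₀ ∈ P, x₀ ≠ 1 := by
    by_contra hcon
    push Not at hcon
    exact hPne ((Subgroup.eq_bot_iff_forall P).mpr hcon)
  obtain ⟨S, hPS⟩ := hPp.exists_le_sylow
  -- `S ≤ P`
  have hSP : (S : Subgroup G) ≤ P := by
    haveI : Nontrivial (S : Subgroup G) :=
      ⟨⟨⟨x₀, hPS hx₀P⟩, 1, fun h => hx₀1 (congrArg Subtype.val h)⟩⟩
    haveI := IsPGroup.center_nontrivial S.isPGroup'
    obtain ⟨z, hz⟩ := exists_ne (1 : Subgroup.center (S : Subgroup G))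
    have hzc : ∀ g : (S : Subgroup G), g * z.1 = z.1 * g :=
      fun g => (Subgroup.mem_center_iff.mp z.2 g)
    have hz1 : (z.1.1 : G) ≠ 1 := by
      intro h
      apply hz
      apply Subtype.ext
      apply Subtype.ext
      exact h
    have hzP : (z.1.1 : G) ∈ P := by
      apply hb _ x₀ hx₀P hx₀1
      have e : (z.1.1 : G) * x₀ = x₀ * z.1.1 :=
        (congrArg Subtype.val (hzc ⟨x₀, hPS hx₀P⟩)).symm
      rw [e, mul_inv_cancel_right]
      exact hx₀P
    intro g hg
    apply hb g _ hzP hz1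
    have e : g * (z.1.1 : G) = z.1.1 * g := congrArg Subtype.val (hzc ⟨g, hg⟩)
    rw [e, mul_inv_cancel_right]
    exact hzP
  have hPS' : P = (S : Subgroup G) := le_antisymm hPS hSP
  have hN : Subgroup.normalizer ((S : Subgroup G) : Set G) ≤
      Subgroup.centralizer ((S : Subgroup G) : Set G) := by
    intro g hg
    have hgP : g ∈ P := by
      apply hb g x₀ hx₀P hx₀1
      rw [hPS']
      exact (Subgroup.mem_normalizer_iff.mp hg x₀).mp (hPS hx₀P)
    rw [Subgroup.mem_centralizer_iff]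
    intro y hy
    exact hPab y (hSP hy) g hgP
  obtain ⟨N, hNdef⟩ : ∃ N : Subgroup G, N = (MonoidHom.transferSylow S hN).ker := ⟨_, rfl⟩
  have hNn : N.Normal := by
    rw [hNdef]
    infer_instance
  have hcomp : Subgroup.IsComplement' N (S : Subgroup G) := by
    rw [hNdef]
    exact MonoidHom.ker_transferSylow_isComplement' S hN
  have hNp : ¬ p ∣ Nat.card N := by
    rw [hNdef]
    exact MonoidHom.not_dvd_card_ker_transferSylow S hN
  have hdisj : ∀ g, g ∈ N → g ∈ P → g = 1 := by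
    intro g hgN hgP
    have h1 : g ∈ N ⊓ (S : Subgroup G) := ⟨hgN, hPS hgP⟩
    rw [hcomp.disjoint.eq_bot] at h1
    exact Subgroup.mem_bot.mp h1
  -- the averaging argument
  haveI : Fintype N := Fintype.ofFinite N
  obtain ⟨T, hTdef⟩ : ∃ T : R, T = ∑ b : N, ρ (b : G) := ⟨_, rfl⟩
  have hxi : ∀ i : ℕ, x₀ ^ i ∈ P := fun i => P.pow_mem hx₀P i
  have hxi1 : ∀ i : ℕ, 0 < i → i < p → x₀ ^ i ≠ 1 := by
    intro i hi0 hip
    have hord : orderOf x₀ = p := orderOf_eq_prime (hxp x₀ hx₀P) hx₀1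
    apply pow_ne_one_of_lt_orderOf (Nat.pos_iff_ne_zero.mp hi0)
    rw [hord]
    exact hip
  -- the commutator maps
  have hφmem : ∀ (i : ℕ) (c : N), (c : G) * x₀ ^ i * (c : G)⁻¹ * (x₀ ^ i)⁻¹ ∈ N := by
    intro i c
    have h1 : x₀ ^ i * (c : G)⁻¹ * (x₀ ^ i)⁻¹ ∈ N := hNn.conj_mem _ (N.inv_mem c.2) _
    have h2 := N.mul_mem c.2 h1
    have e : (c : G) * (x₀ ^ i * (c : G)⁻¹ * (x₀ ^ i)⁻¹) =
        (c : G) * x₀ ^ i * (c : G)⁻¹ * (x₀ ^ i)⁻¹ := by group
    rwa [e] at h2
  obtain ⟨φ, hφ⟩ : ∃ φ : ℕ → N → N, ∀ i c,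
      ((φ i c : N) : G) = (c : G) * x₀ ^ i * (c : G)⁻¹ * (x₀ ^ i)⁻¹ :=
    ⟨fun i c => ⟨_, hφmem i c⟩, fun _ _ => rfl⟩
  have hφinj : ∀ i, 0 < i → i < p → Function.Injective (φ i) := by
    intro i hi0 hip c d hcd
    have h1 := congrArg Subtype.val hcd
    rw [hφ, hφ] at h1
    have h2 : (c : G) * x₀ ^ i * (c : G)⁻¹ = (d : G) * x₀ ^ i * (d : G)⁻¹ :=
      mul_right_cancel h1
    have h3 : ((d : G)⁻¹ * (c : G)) * x₀ ^ i * ((d : G)⁻¹ * (c : G))⁻¹ = x₀ ^ i := by
      have : ((d : G)⁻¹ * (c : G)) * x₀ ^ i * ((d : G)⁻¹ * (c : G))⁻¹ =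
          (d : G)⁻¹ * ((c : G) * x₀ ^ i * (c : G)⁻¹) * (d : G) := by group
      rw [this, h2]
      group
    have h4 : (d : G)⁻¹ * (c : G) ∈ P := by
      apply hb _ (x₀ ^ i) (hxi i) (hxi1 i hi0 hip)
      rw [h3]
      exact hxi i
    have h5 := hdisj _ (N.mul_mem (N.inv_mem d.2) c.2) h4
    apply Subtype.ext
    have : (c : G) = (d : G) * ((d : G)⁻¹ * (c : G)) := by group
    rw [this, h5, mul_one]
  have hφsum : ∀ i, 0 < i → i < p → ∑ c : N, ρ ((φ i c : N) : G) = T := by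
    intro i hi0 hip
    have hbij : Function.Bijective (φ i) :=
      Finite.injective_iff_bijective.mp (hφinj i hi0 hip)
    rw [hTdef]
    exact Function.Bijective.sum_comp hbij (fun b : N => ρ (b : G))
  -- the sum over the powers of `x₀`
  have hs : ∑ i ∈ Finset.range p, ρ x₀ ^ i = 0 := by
    have := sum_pow_of_sq_zero p hp2 (ρ x₀ - 1) (hquad x₀ hx₀P)
    rwa [add_sub_cancel] at this
  have hconj : ∀ (c : N) (i : ℕ), ρ (c : G) * ρ x₀ ^ i * ρ ((c : G)⁻¹) =
      ρ ((φ i c : N) : G) * ρ x₀ ^ i := by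
    intro c i
    rw [hφ, ← map_pow, ← map_mul, ← map_mul, ← map_mul]
    congr 1
    group
  have hzero : ∑ c : N, ∑ i ∈ Finset.range p, ρ ((φ i c : N) : G) * ρ x₀ ^ i = 0 := by
    apply Finset.sum_eq_zero
    intro c _
    have : ∑ i ∈ Finset.range p, ρ ((φ i c : N) : G) * ρ x₀ ^ i =
        ρ (c : G) * (∑ i ∈ Finset.range p, ρ x₀ ^ i) * ρ ((c : G)⁻¹) := by
      rw [Finset.mul_sum, Finset.sum_mul]
      apply Finset.sum_congr rfl
      intro i _
      rw [hconj]
    rw [this, hs, mul_zero, zero_mul]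
  rw [Finset.sum_comm] at hzero
  obtain ⟨p', hp'⟩ : ∃ p', p = p' + 1 := ⟨p - 1, by have := hp.out.pos; omega⟩
  have hT : (Nat.card N : R) = T := by
    have hs' := hs
    rw [hp', Finset.sum_range_succ'] at hzero hs'
    rw [pow_zero] at hs'
    have h0 : ∑ c : N, ρ ((φ 0 c : N) : G) * ρ x₀ ^ 0 = (Nat.card N : R) := by
      have : ∀ c : N, ρ ((φ 0 c : N) : G) * ρ x₀ ^ 0 = 1 := by
        intro c
        rw [hφ, pow_zero, pow_zero, mul_one, inv_one, mul_one, mul_one, mul_inv_cancel, map_one]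
      simp_rw [this]
      rw [Finset.sum_const, Finset.card_univ, nsmul_eq_mul, mul_one, Nat.card_eq_fintype_card]
    have h1 : ∑ i ∈ Finset.range p', ∑ c : N, ρ ((φ (i + 1) c : N) : G) * ρ x₀ ^ (i + 1) =
        T * ∑ i ∈ Finset.range p', ρ x₀ ^ (i + 1) := by
      rw [Finset.mul_sum]
      apply Finset.sum_congr rfl
      intro i hi
      rw [← Finset.sum_mul, hφsum (i + 1) (Nat.succ_pos i)
        (by rw [hp']; exact Nat.succ_lt_succ (Finset.mem_range.mp hi))]
    rw [h0, h1, eq_neg_of_add_eq_zero_left hs', mul_neg, mul_one] at hzero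
    exact (neg_add_eq_zero.mp hzero).symm
  -- `N` is trivial
  obtain ⟨m, hm⟩ := natCast_isUnit_of_not_dvd (R := R) p (Nat.card N) hNp
  have hN1 : ∀ b : N, (b : G) = 1 := by
    intro b
    apply hρ
    rw [map_one]
    have h1 : T * ρ (b : G) = T := by
      rw [hTdef, Finset.sum_mul]
      have : ∀ c : N, ρ (c : G) * ρ (b : G) = ρ (((c * b : N) : N) : G) := by
        intro c
        rw [← map_mul]
        rfl
      simp_rw [this]
      exact Function.Bijective.sum_comp (Group.mulRight_bijective b) (fun c : N => ρ (c : G))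
    rw [← hT] at h1
    have h2 := congrArg (fun t => m * t) h1
    simp only [← mul_assoc, hm, one_mul] at h2
    exact h2
  have hNbot : N = ⊥ := by
    rw [Subgroup.eq_bot_iff_forall]
    intro g hg
    exact hN1 ⟨g, hg⟩
  rw [hNbot] at hcomp
  rw [hPS']
  exact Subgroup.isComplement'_bot_left.mp hcomp

end Cfsg.Agent.Lib.Helper1.TsB
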