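import Mathlib
import Cfsg.Agent.Lib.Helper1.TsB11
import Cfsg.Agent.Lib.Helper1.TsB12

/-!
# Global part I: the group generated by two root subgroups
-/

set_option autoImplicit false
set_option maxHeartbeats 4000000
set_option maxRecDepth 100000
set_option linter.unusedSimpArgs false
set_option linter.unusedVariables false
set_option linter.unusedSectionVars false
set_option linter.style.longLine false
set_option linter.deprecated false

namespace Cfsg.Agent.Lib.Helper1.TsB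

open Module Matrix
open Cfsg.Agent.Lib.Helper1.TsA
open Cfsg.Agent.Lib.Helper5.AltWitt
open Cfsg.Agent.Lib.Helper8.Tns

local notation "Ξ" => Cfsg.Agent.Lib.Helper1.TsA.Xi

variable {F : Type*} [Field F]
variable {I J : Type} [Fintype I] [DecidableEq I] [Fintype J] [DecidableEq J]

section roots

variable {B₂ : LinearMap.BilinForm F (J → F)} (hA₂ : B₂.IsAlt)

/-- the root elements `x_u(c) = 1 ⊗ t_u(c)` -/
noncomputable def Xu (I : Type) [Fintype I] [DecidableEq I] (u : J → F) (c : F) :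
    GL (I × J) F :=
  krL (1 : (I → F) ≃ₗ[F] (I → F)) (tv B₂ hA₂ u c)

theorem Xu_mulVec (u : J → F) (c : F) (v : I × J → F) :
    (Xu hA₂ I u c : Matrix (I × J) (I × J) F) *ᵥ v = v + pt (c • C₂ B₂ u v) u := by
  have := Acts_krL_tv_right (I := I) (J := J) (F := F) (B₂ := B₂) hA₂ u c v
  rw [LinearMap.smul_apply, Xi_apply, LinearMap.id_apply, ← pt_smul_left] at this
  exact this

theorem Xu_pt (u : J → F) (c : F) (x : I → F) (a : J → F) :
    (Xu hA₂ I u c : Matrix (I × J) (I × J) F) *ᵥ pt x a = pt x (a + (c * B₂ a u) • u) := by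
  have e1 : (1 : (I → F) ≃ₗ[F] (I → F)) x = x := rfl
  unfold Xu
  rw [krL_pt, e1, tv_apply]

theorem Xu_add (u : J → F) (c c' : F) : Xu hA₂ I u c * Xu hA₂ I u c' = Xu hA₂ I u (c + c') := by
  apply gl_ext_pt
  intro x a
  rw [Units.val_mul, ← Matrix.mulVec_mulVec, Xu_pt, Xu_pt, Xu_pt]
  congr 1
  simp only [map_add, map_smul, LinearMap.add_apply, LinearMap.smul_apply, smul_eq_mul,
    hA₂.self_eq_zero, mul_zero, add_zero]
  module

theorem Xu_zero (u : J → F) : Xu hA₂ I u 0 = 1 := by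
  apply gl_ext_pt
  intro x a
  rw [Xu_pt, zero_mul, zero_smul, add_zero, Units.val_one, Matrix.one_mulVec]

theorem Xu_inv (u : J → F) (c : F) : (Xu hA₂ I u c)⁻¹ = Xu hA₂ I u (-c) := by
  apply inv_eq_of_mul_eq_one_right
  rw [Xu_add, add_neg_cancel, Xu_zero]

theorem Xu_comm (u : J → F) (c c' : F) :
    Xu hA₂ I u c * Xu hA₂ I u c' = Xu hA₂ I u c' * Xu hA₂ I u c := by
  rw [Xu_add, Xu_add, add_comm]

/-- the root subgroup -/
def Xsub (I : Type) [Fintype I] [DecidableEq I] (u : J → F) : Subgroup (GL (I × J) F) where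
  carrier := {g | ∃ c : F, g = Xu hA₂ I u c}
  mul_mem' := by
    rintro _ _ ⟨c, rfl⟩ ⟨c', rfl⟩
    exact ⟨c + c', Xu_add hA₂ u c c'⟩
  one_mem' := ⟨0, (Xu_zero hA₂ u).symm⟩
  inv_mem' := by
    rintro _ ⟨c, rfl⟩
    exact ⟨-c, Xu_inv hA₂ u c⟩

theorem mem_Xsub {u : J → F} {g : GL (I × J) F} :
    g ∈ Xsub hA₂ I u ↔ ∃ c : F, g = Xu hA₂ I u c := Iff.rfl

theorem Xu_sq (u : J → F) (c : F) :
    ((Xu hA₂ I u c : Matrix (I × J) (I × J) F) - 1) *
      ((Xu hA₂ I u c : Matrix (I × J) (I × J) F) - 1) = 0 := by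
  rw [Matrix.ext_iff_mulVec]
  intro v
  have e : ∀ v' : I × J → F, ((Xu hA₂ I u c : Matrix (I × J) (I × J) F) - 1) *ᵥ v' =
      pt (c • C₂ B₂ u v') u := by
    intro v'
    rw [Matrix.sub_mulVec, Xu_mulVec, Matrix.one_mulVec, add_sub_cancel_left]
  rw [← Matrix.mulVec_mulVec, e, e, C₂_pt, hA₂.self_eq_zero, zero_smul, smul_zero, pt_zero_left,
    Matrix.zero_mulVec]

/-- a conjugation of root elements maps the corresponding subspaces -/
theorem conj_root_maps (hnd₂ : B₂.Nondegenerate) (g : GL (I × J) F) (u₁ u : J → F)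
    (hu₁ : u₁ ≠ 0) (c₁ c₂ : F) (hc₁ : c₁ ≠ 0)
    (hconj : g * Xu hA₂ I u₁ c₁ * g⁻¹ = Xu hA₂ I u c₂) (x : I → F) :
    ∃ x' : I → F, (g : Matrix (I × J) (I × J) F) *ᵥ pt x u₁ = pt x' u := by
  obtain ⟨ws, hws⟩ := exists_partner B₂ hnd₂ u₁ hu₁ (-c₁⁻¹)
  have hwsu : B₂ ws u₁ = c₁⁻¹ := by rw [alt_swap B₂ hA₂, hws, neg_neg]
  have e : g * Xu hA₂ I u₁ c₁ = Xu hA₂ I u c₂ * g := by
    rw [← hconj]
    group
  have h1 := congrArg (fun m : GL (I × J) F => (m : Matrix (I × J) (I × J) F) *ᵥ pt x ws) e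
  simp only [Units.val_mul, ← Matrix.mulVec_mulVec] at h1
  rw [Xu_pt, hwsu, mul_inv_cancel₀ hc₁, one_smul, pt_add_right, Matrix.mulVec_add, Xu_mulVec] at h1
  exact ⟨_, add_left_cancel h1⟩

end roots

section partI

variable {B : LinearMap.BilinForm F (I × J → F)} {B₁ : LinearMap.BilinForm F (I → F)}
  {B₂ : LinearMap.BilinForm F (J → F)} (hT : TS B B₁ B₂)
  (hS₁ : ∀ x y, B₁ x y = B₁ y x) (hA₂ : B₂.IsAlt)
  (H : Subgroup (GL (I × J) F)) (hMH : krSub I J F ⊓ SpG B ≤ H) (hH : H ≤ SpG B)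

/-- the group generated by `X_u` and `h X_{u'} h⁻¹` -/
def KK (h : GL (I × J) F) (u u' : J → F) : Subgroup (GL (I × J) F) :=
  Subgroup.closure ({g | ∃ c : F, g = Xu hA₂ I u c} ∪
    {g | ∃ c : F, g = h * Xu hA₂ I u' c * h⁻¹})

theorem KK_prop (h : GL (I × J) F) (u u' : J → F) (k : GL (I × J) F)
    (hk : k ∈ KK hA₂ h u u') :
    ((∀ v, (k : Matrix (I × J) (I × J) F) *ᵥ v - v ∈ Aw (I := I) u ⊔ Bw h u') ∧
      (∀ v ∈ Aw (I := I) u ⊓ Bw h u', (k : Matrix (I × J) (I × J) F) *ᵥ v = v)) ∧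
    ((∀ v, ((k⁻¹ : GL (I × J) F) : Matrix (I × J) (I × J) F) *ᵥ v - v ∈
        Aw (I := I) u ⊔ Bw h u') ∧
      (∀ v ∈ Aw (I := I) u ⊓ Bw h u',
        ((k⁻¹ : GL (I × J) F) : Matrix (I × J) (I × J) F) *ᵥ v = v)) := by
  obtain ⟨Q, hQdef⟩ : ∃ Q : GL (I × J) F → Prop, Q = fun g : GL (I × J) F =>
      (∀ v, (g : Matrix (I × J) (I × J) F) *ᵥ v - v ∈ Aw (I := I) u ⊔ Bw h u') ∧
      (∀ v ∈ Aw (I := I) u ⊓ Bw h u', (g : Matrix (I × J) (I × J) F) *ᵥ v = v) := ⟨_, rfl⟩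
  have hQ : ∀ g, Q g ↔ (∀ v, (g : Matrix (I × J) (I × J) F) *ᵥ v - v ∈
      Aw (I := I) u ⊔ Bw h u') ∧
      (∀ v ∈ Aw (I := I) u ⊓ Bw h u', (g : Matrix (I × J) (I × J) F) *ᵥ v = v) := by
    intro g
    rw [hQdef]
  have hgen1 : ∀ c : F, Q (Xu hA₂ I u c) := by
    intro c
    rw [hQ]
    constructor
    · intro v
      rw [Xu_mulVec, add_sub_cancel_left]
      exact Submodule.mem_sup_left (mem_Aw.mpr ⟨_, rfl⟩)
    · intro v hv
      obtain ⟨x, rfl⟩ := mem_Aw.mp hv.1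
      rw [Xu_mulVec, C₂_pt, hA₂.self_eq_zero, zero_smul, smul_zero, pt_zero_left, add_zero]
  have hgen2 : ∀ c : F, Q (h * Xu hA₂ I u' c * h⁻¹) := by
    intro c
    rw [hQ]
    constructor
    · intro v
      rw [Units.val_mul, Units.val_mul, ← Matrix.mulVec_mulVec, ← Matrix.mulVec_mulVec, Xu_mulVec,
        Matrix.mulVec_add, mulVec_inv_mulVec, add_sub_cancel_left]
      exact Submodule.mem_sup_right (mem_Bw.mpr ⟨_, rfl⟩)
    · intro v hv
      obtain ⟨x, rfl⟩ := mem_Bw.mp hv.2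
      rw [Units.val_mul, Units.val_mul, ← Matrix.mulVec_mulVec, ← Matrix.mulVec_mulVec,
        inv_mulVec_mulVec, Xu_mulVec, C₂_pt, hA₂.self_eq_zero, zero_smul, smul_zero, pt_zero_left,
        add_zero]
  have hQone : Q 1 := by
    rw [hQ]
    constructor
    · intro v
      rw [Units.val_one, Matrix.one_mulVec, sub_self]
      exact Submodule.zero_mem _
    · intro v _
      rw [Units.val_one, Matrix.one_mulVec]
  have hQmul : ∀ g g', Q g → Q g' → Q (g * g') := by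
    intro g g' hg hg'
    rw [hQ] at hg hg' ⊢
    constructor
    · intro v
      have e : ((g * g' : GL (I × J) F) : Matrix (I × J) (I × J) F) *ᵥ v - v =
          ((g : Matrix (I × J) (I × J) F) *ᵥ
            ((g' : Matrix (I × J) (I × J) F) *ᵥ v - v) -
            ((g' : Matrix (I × J) (I × J) F) *ᵥ v - v)) +
          ((g' : Matrix (I × J) (I × J) F) *ᵥ v - v) +
          ((g : Matrix (I × J) (I × J) F) *ᵥ v - v) := by
        rw [Units.val_mul, ← Matrix.mulVec_mulVec, Matrix.mulVec_sub]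
        abel
      rw [e]
      exact Submodule.add_mem _ (Submodule.add_mem _ (hg.1 _) (hg'.1 v)) (hg.1 v)
    · intro v hv
      rw [Units.val_mul, ← Matrix.mulVec_mulVec, hg'.2 v hv, hg.2 v hv]
  have hmain : Q k ∧ Q k⁻¹ := by
    unfold KK at hk
    induction hk using Subgroup.closure_induction with
    | mem g hg =>
      rcases hg with ⟨c, rfl⟩ | ⟨c, rfl⟩
      · refine ⟨hgen1 c, ?_⟩
        rw [Xu_inv]
        exact hgen1 (-c)
      · refine ⟨hgen2 c, ?_⟩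
        have : (h * Xu hA₂ I u' c * h⁻¹)⁻¹ = h * Xu hA₂ I u' (-c) * h⁻¹ := by
          rw [← Xu_inv]
          group
        rw [this]
        exact hgen2 (-c)
    | one =>
      refine ⟨hQone, ?_⟩
      rw [inv_one]
      exact hQone
    | mul g g' _ _ hg hg' =>
      refine ⟨hQmul g g' hg.1 hg'.1, ?_⟩
      rw [_root_.mul_inv_rev]
      exact hQmul _ _ hg'.2 hg.2
    | inv g _ hg =>
      refine ⟨hg.2, ?_⟩
      rw [inv_inv]
      exact hg.1
  exact ⟨(hQ k).mp hmain.1, (hQ k⁻¹).mp hmain.2⟩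

include hT hS₁ hA₂ hMH hH in
/-- **(NU)** there is an element of `⟨X_u, h X_{u'} h⁻¹⟩` stabilising `W ⊗ u` outside `X_u` -/
theorem exists_stab_not_root [Fintype F] (hodd : Fintype.card F % 2 = 1) (h2 : (2 : F) ≠ 0)
    (hI : 3 ≤ Fintype.card I) (hex : Fintype.card F ≠ 3 ∨ 4 ≤ Fintype.card I)
    (hJ : 3 ≤ Fintype.card J) (hnot : ¬ SpG B ≤ H) (h : GL (I × J) F) (hh : h ∈ H)
    (hnk : h ∉ krSub I J F) (u u' : J → F) (hu : u ≠ 0) (hu' : u' ≠ 0) :
    ∃ k ∈ H, (∀ x : I → F, ∃ x' : I → F,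
        (k : Matrix (I × J) (I × J) F) *ᵥ pt x u = pt x' u) ∧
      (∀ c : F, k ≠ Xu hA₂ I u c) ∧
      (∀ v, (k : Matrix (I × J) (I × J) F) *ᵥ v - v ∈ Aw (I := I) u ⊔ Bw h u') ∧
      (∀ v ∈ Aw (I := I) u ⊓ Bw h u', (k : Matrix (I × J) (I × J) F) *ᵥ v = v) := by
  classical
  by_contra hcon
  obtain ⟨i₀⟩ : Nonempty I := by
    rw [← Fintype.card_pos_iff]
    omega
  obtain ⟨j₀⟩ : Nonempty J := by
    rw [← Fintype.card_pos_iff]
    omega
  haveI : Nonempty (I × J) := ⟨(i₀, j₀)⟩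
  have hXH : ∀ (w : J → F) (c : F), Xu hA₂ I w c ∈ H := by
    intro w c
    exact hT.krL_mem_H H hMH 1 _ (fun _ _ => rfl) (tv_isom B₂ hA₂ w c)
  have hKH : KK hA₂ h u u' ≤ H := by
    unfold KK
    rw [Subgroup.closure_le]
    rintro g (⟨c, rfl⟩ | ⟨c, rfl⟩)
    · exact hXH u c
    · exact H.mul_mem (H.mul_mem hh (hXH u' c)) (H.inv_mem hh)
  have key : ∀ k ∈ KK hA₂ h u u', (∀ x : I → F, ∃ x' : I → F,
      (k : Matrix (I × J) (I × J) F) *ᵥ pt x u = pt x' u) → ∃ c : F, k = Xu hA₂ I u c := by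
    intro k hk hst
    by_contra hc
    push Not at hc
    have hp := KK_prop hA₂ h u u' k hk
    exact hcon ⟨k, hKH hk, hst, hc, hp.1.1, hp.1.2⟩
  -- the characteristic
  obtain ⟨p, hchar⟩ := CharP.exists F
  haveI := hchar
  haveI : Fact p.Prime := ⟨CharP.char_is_prime F p⟩
  have hp2 : p ≠ 2 := by
    intro h0
    apply h2
    have := CharP.cast_eq_zero F p
    rw [h0] at this
    exact_mod_cast this
  haveI : CharP (Matrix (I × J) (I × J) F) p := inferInstance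
  obtain ⟨K, hKdef⟩ : ∃ K : Subgroup (GL (I × J) F), K = KK hA₂ h u u' := ⟨_, rfl⟩
  obtain ⟨ρ, hρdef⟩ : ∃ ρ : K →* Matrix (I × J) (I × J) F,
      ρ = (Units.coeHom (Matrix (I × J) (I × J) F)).comp K.subtype := ⟨_, rfl⟩
  have hρa : ∀ k : K, ρ k = ((k : GL (I × J) F) : Matrix (I × J) (I × J) F) := by
    intro k
    rw [hρdef]
    rfl
  have hρ : Function.Injective ρ := by
    intro k k' hkk
    rw [hρa, hρa] at hkk
    exact Subtype.ext (Units.ext hkk)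
  obtain ⟨P, hPdef⟩ : ∃ P : Subgroup K, P = (Xsub hA₂ I u).subgroupOf K := ⟨_, rfl⟩
  have hPmem : ∀ k : K, k ∈ P ↔ ∃ c : F, (k : GL (I × J) F) = Xu hA₂ I u c := by
    intro k
    rw [hPdef, Subgroup.mem_subgroupOf]
    exact Iff.rfl
  have hx1K : Xu hA₂ I u 1 ∈ K := by
    rw [hKdef]
    exact Subgroup.subset_closure (Or.inl ⟨1, rfl⟩)
  have hPne : P ≠ ⊥ := by
    intro hbot
    have h1 : (⟨Xu hA₂ I u 1, hx1K⟩ : K) ∈ P := (hPmem _).mpr ⟨1, rfl⟩
    rw [hbot, Subgroup.mem_bot] at h1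
    have h3 := congrArg Subtype.val h1
    exact krL_tv_ne_one' hT.nd₂ hA₂ ⟨i₀⟩ u hu h3
  have hPab : ∀ x ∈ P, ∀ y ∈ P, x * y = y * x := by
    intro x hx y hy
    obtain ⟨c, hc⟩ := (hPmem x).mp hx
    obtain ⟨c', hc'⟩ := (hPmem y).mp hy
    apply Subtype.ext
    rw [Subgroup.coe_mul, Subgroup.coe_mul, hc, hc', Xu_comm]
  have hquad : ∀ x ∈ P, (ρ x - 1) * (ρ x - 1) = 0 := by
    intro x hx
    obtain ⟨c, hc⟩ := (hPmem x).mp hx
    rw [hρa, hc]
    exact Xu_sq hA₂ u c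
  have hb : ∀ g : K, ∀ x ∈ P, x ≠ 1 → g * x * g⁻¹ ∈ P → g ∈ P := by
    intro g x hx hx1 hgx
    obtain ⟨c, hc⟩ := (hPmem x).mp hx
    obtain ⟨c', hc'⟩ := (hPmem _).mp hgx
    have hc0 : c ≠ 0 := by
      intro h0
      apply hx1
      apply Subtype.ext
      rw [hc, h0, Xu_zero]
      rfl
    rw [Subgroup.coe_mul, Subgroup.coe_mul, Subgroup.coe_inv, hc] at hc'
    rw [hPmem]
    apply key g.1 (by rw [← hKdef]; exact g.2)
    intro x₁
    exact conj_root_maps hA₂ hT.nd₂ g.1 u u hu c c' hc0 hc' x₁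
  have hPtop := NU_abs p hp2 ρ hρ P hPne hPab hquad hb
  have hcK : h * Xu hA₂ I u' 1 * h⁻¹ ∈ K := by
    rw [hKdef]
    exact Subgroup.subset_closure (Or.inr ⟨1, rfl⟩)
  have h5 : (⟨h * Xu hA₂ I u' 1 * h⁻¹, hcK⟩ : K) ∈ P := by
    rw [hPtop]
    exact Subgroup.mem_top _
  obtain ⟨c, hc⟩ := (hPmem _).mp h5
  apply hnk
  apply stab_mem' hT hS₁ hA₂ H hMH hH hodd h2 hI hex hJ hnot h hh u u' hu hu'
  intro x
  exact conj_root_maps hA₂ hT.nd₂ h u' u hu' 1 c one_ne_zero hc x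

end partI

end Cfsg.Agent.Lib.Helper1.TsB
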