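import Mathlib
import Cfsg.Agent.Lib.Helper1.TsB13

/-!
# Global part I: analysis of a pair of subspaces `W ⊗ u`, `h (W ⊗ u')`
-/

set_option autoImplicit false
set_option maxHeartbeats 4000000
set_option maxRecDepth 100000
set_option linter.unusedSimpArgs false
set_option linter.unusedVariables false
set_option linter.unusedSectionVars false
set_option linter.style.longLine false
set_option linter.deprecated false

namespace Cfsg.Agent.Lib.Helper1.TsB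

open Module Matrix
open Cfsg.Agent.Lib.Helper1.TsA
open Cfsg.Agent.Lib.Helper5.AltWitt
open Cfsg.Agent.Lib.Helper8.Tns

local notation "Ξ" => Cfsg.Agent.Lib.Helper1.TsA.Xi

variable {F : Type*} [Field F]
variable {I J : Type} [Fintype I] [DecidableEq I] [Fintype J] [DecidableEq J]

theorem pt_pair_zero_right (B₂ : LinearMap.BilinForm F (J → F)) (hnd : B₂.Nondegenerate)
    {u y : J → F} (hli : LinearIndependent F ![u, y]) (x₁ x₂ : I → F)
    (h : pt x₁ u + pt x₂ y = 0) : x₁ = 0 ∧ x₂ = 0 := by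
  obtain ⟨q, hq⟩ := exists_prescribed B₂ hnd ![u, y] hli ![1, 0]
  obtain ⟨q', hq'⟩ := exists_prescribed B₂ hnd ![u, y] hli ![0, 1]
  have h1 : B₂ u q = 1 := by simpa using hq 0
  have h2 : B₂ y q = 0 := by simpa using hq 1
  have h3 : B₂ u q' = 0 := by simpa using hq' 0
  have h4 : B₂ y q' = 1 := by simpa using hq' 1
  constructor
  · have := congrArg (C₂ B₂ q) h
    rw [map_add, C₂_pt, C₂_pt, h1, h2, one_smul, zero_smul, add_zero, map_zero] at this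
    exact this
  · have := congrArg (C₂ B₂ q') h
    rw [map_add, C₂_pt, C₂_pt, h3, h4, one_smul, zero_smul, zero_add, map_zero] at this
    exact this

theorem finrank_Aw_sup (B₂ : LinearMap.BilinForm F (J → F)) (hnd : B₂.Nondegenerate)
    {u y : J → F} (hli : LinearIndependent F ![u, y]) :
    finrank F ↥(Aw (I := I) u ⊔ Aw (I := I) y) = Fintype.card I + Fintype.card I := by
  have hr : Aw (I := I) u ⊔ Aw (I := I) y =
      LinearMap.range ((ptL (I := I) u).coprod (ptL (I := I) y)) := by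
    rw [LinearMap.range_coprod]
    rfl
  have hinj : Function.Injective ((ptL (I := I) u).coprod (ptL (I := I) y)) := by
    rw [← LinearMap.ker_eq_bot, LinearMap.ker_eq_bot']
    rintro ⟨x₁, x₂⟩ hm
    rw [LinearMap.coprod_apply, ptL_apply, ptL_apply] at hm
    obtain ⟨e1, e2⟩ := pt_pair_zero_right B₂ hnd hli x₁ x₂ hm
    rw [e1, e2]
    rfl
  rw [hr, LinearMap.finrank_range_of_inj hinj, Module.finrank_prod,
    Module.finrank_fintype_fun_eq_card]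

theorem finrank_Bw_le (h : GL (I × J) F) (w : J → F) :
    finrank F ↥(Bw (I := I) h w) ≤ Fintype.card I := by
  unfold Bw
  rw [LinearEquiv.finrank_map_eq]
  exact finrank_Aw_le w

section partI

variable {B : LinearMap.BilinForm F (I × J → F)} {B₁ : LinearMap.BilinForm F (I → F)}
  {B₂ : LinearMap.BilinForm F (J → F)} (hT : TS B B₁ B₂)
  (hS₁ : ∀ x y, B₁ x y = B₁ y x) (hA₂ : B₂.IsAlt)
  (H : Subgroup (GL (I × J) F)) (hMH : krSub I J F ⊓ SpG B ≤ H) (hH : H ≤ SpG B)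

include hT hS₁ hA₂ hMH hH in
/-- **Step 1**: for a pair with maximal intersection, `h (W ⊗ u') ∩ (W ⊗ u)^⊥ ⊆ W ⊗ u` -/
theorem S1_of_max [Fintype F] (hodd : Fintype.card F % 2 = 1) (h2 : (2 : F) ≠ 0)
    (hI : 3 ≤ Fintype.card I) (hex : Fintype.card F ≠ 3 ∨ 4 ≤ Fintype.card I)
    (hJ : 4 ≤ Fintype.card J) (hnot : ¬ SpG B ≤ H) (h : GL (I × J) F) (hh : h ∈ H)
    (hnk : h ∉ krSub I J F) (u u' : J → F) (hu : u ≠ 0) (hu' : u' ≠ 0)
    (hmax : ∀ (h₁ : GL (I × J) F) (u₁ u₁' : J → F), h₁ ∈ H → h₁ ∉ krSub I J F → u₁ ≠ 0 →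
      u₁' ≠ 0 → finrank F ↥(Aw (I := I) u₁ ⊓ Bw h₁ u₁') ≤
        finrank F ↥(Aw (I := I) u ⊓ Bw h u')) :
    ∀ v ∈ Bw h u', C₂ B₂ u v = 0 → v ∈ Aw (I := I) u := by
  have hxH : Xu hA₂ I u 1 ∈ H :=
    hT.krL_mem_H H hMH 1 _ (fun _ _ => rfl) (tv_isom B₂ hA₂ u 1)
  obtain ⟨y, hydef⟩ : ∃ y : GL (I × J) F, y = h⁻¹ * Xu hA₂ I u 1 * h := ⟨_, rfl⟩
  have hyH : y ∈ H := by
    rw [hydef]
    exact H.mul_mem (H.mul_mem (H.inv_mem hh) hxH) hh
  have hynk : y ∉ krSub I J F := by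
    rw [hydef]
    exact conj_root_not_mem hT hS₁ hA₂ H hMH hH hodd h2 hI hex hJ hnot h hh hnk u hu
  have hle := hmax y u' u' hyH hynk hu' hu'
  obtain ⟨E, hEdef⟩ : ∃ E : Submodule F (I × J → F),
      E = Bw h u' ⊓ LinearMap.ker (C₂ (I := I) B₂ u) := ⟨_, rfl⟩
  have hE1 : Aw (I := I) u ⊓ Bw h u' ≤ E := by
    intro v hv
    rw [hEdef]
    obtain ⟨x, rfl⟩ := mem_Aw.mp hv.1
    refine ⟨hv.2, LinearMap.mem_ker.mpr ?_⟩
    rw [C₂_pt, hA₂.self_eq_zero, zero_smul]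
  have hE2 : E ≤ (Aw (I := I) u' ⊓ Bw y u').map
      (gL h : (I × J → F) →ₗ[F] (I × J → F)) := by
    intro v hv
    rw [hEdef] at hv
    obtain ⟨x₁, hx₁⟩ := mem_Bw.mp hv.1
    have hv0 : C₂ B₂ u v = 0 := LinearMap.mem_ker.mp hv.2
    rw [Submodule.mem_map]
    refine ⟨pt x₁ u', ⟨mem_Aw.mpr ⟨x₁, rfl⟩, mem_Bw.mpr ⟨x₁, ?_⟩⟩, ?_⟩
    · rw [hydef, Units.val_mul, Units.val_mul, ← Matrix.mulVec_mulVec, ← Matrix.mulVec_mulVec,
        hx₁, Xu_mulVec, hv0, smul_zero, pt_zero_left, add_zero, ← hx₁, inv_mulVec_mulVec]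
    · rw [LinearEquiv.coe_coe, gL_apply, hx₁]
  have hfin : finrank F ↥E ≤ finrank F ↥(Aw (I := I) u ⊓ Bw h u') := by
    calc finrank F ↥E ≤ finrank F ↥((Aw (I := I) u' ⊓ Bw y u').map
          (gL h : (I × J → F) →ₗ[F] (I × J → F))) := Submodule.finrank_mono hE2
      _ = finrank F ↥(Aw (I := I) u' ⊓ Bw y u') := LinearEquiv.finrank_map_eq _ _
      _ ≤ _ := hle
  have hEeq : Aw (I := I) u ⊓ Bw h u' = E := Submodule.eq_of_le_of_finrank_le hE1 hfin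
  intro v hv hv0
  have : v ∈ E := by
    rw [hEdef]
    exact ⟨hv, LinearMap.mem_ker.mpr hv0⟩
  rw [← hEeq] at this
  exact this.1

include hT hS₁ hA₂ hMH hH in
/-- **Steps 2, 3**: the structure of a pair satisfying the conclusion of step 1 -/
theorem triple_analysis [Fintype F] (hodd : Fintype.card F % 2 = 1) (h2 : (2 : F) ≠ 0)
    (hI : 3 ≤ Fintype.card I) (hex : Fintype.card F ≠ 3 ∨ 4 ≤ Fintype.card I)
    (hJ : 4 ≤ Fintype.card J) (hnot : ¬ SpG B ≤ H) (h : GL (I × J) F) (hh : h ∈ H)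
    (hnk : h ∉ krSub I J F) (u u' : J → F) (hu : u ≠ 0) (hu' : u' ≠ 0)
    (hS1 : ∀ v ∈ Bw h u', C₂ B₂ u v = 0 → v ∈ Aw (I := I) u) :
    Aw (I := I) u ⊓ Bw h u' = ⊥ ∧ ∃ y : J → F, (∀ c : F, y ≠ c • u) ∧
      ∀ v ∈ Bw h u', ∃ x₁ x₂ : I → F, v = pt x₁ u + pt x₂ y := by
  have hJ3 : 3 ≤ Fintype.card J := by omega
  obtain ⟨k, hkH, hkst, hkne, hk1, hk2⟩ := exists_stab_not_root hT hS₁ hA₂ H hMH hH hodd h2 hI hex
    hJ3 hnot h hh hnk u u' hu hu'
  have hkK := stab_mem' hT hS₁ hA₂ H hMH hH hodd h2 hI hex hJ3 hnot k hkH u u hu hu hkst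
  obtain ⟨α, β, hkαβ⟩ := mem_krSub.mp hkK
  have hkpt : ∀ (x : I → F) (a : J → F), (k : Matrix (I × J) (I × J) F) *ᵥ pt x a =
      pt ((α : Matrix I I F) *ᵥ x) ((β : Matrix J J F) *ᵥ a) := by
    intro x a
    rw [hkαβ, kr_mulVec_pt]
  have hkiso := mem_SpG.mp (hH hkH)
  -- elements moving within `(W ⊗ u)^⊥`
  have hmoveA : ∀ v : I × J → F, C₂ B₂ u ((k : Matrix (I × J) (I × J) F) *ᵥ v - v) = 0 →
      (k : Matrix (I × J) (I × J) F) *ᵥ v - v ∈ Aw (I := I) u := by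
    intro v hv
    obtain ⟨a₁, ha₁, a₂, ha₂, hsum⟩ := Submodule.mem_sup.mp (hk1 v)
    have h1 : C₂ B₂ u a₁ = 0 := by
      obtain ⟨x, rfl⟩ := mem_Aw.mp ha₁
      rw [C₂_pt, hA₂.self_eq_zero, zero_smul]
    have h3 : C₂ B₂ u a₂ = 0 := by
      rw [← hsum, map_add, h1, zero_add] at hv
      exact hv
    rw [← hsum]
    exact Submodule.add_mem _ ha₁ (hS1 a₂ ha₂ h3)
  obtain ⟨i₀⟩ : Nonempty I := by
    rw [← Fintype.card_pos_iff]
    omega
  obtain ⟨x₀, hx₀def⟩ : ∃ x₀ : I → F, x₀ = Pi.single i₀ (1 : F) := ⟨_, rfl⟩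
  have hx₀ : x₀ ≠ 0 := by
    rw [hx₀def]
    exact single_ne_zero' i₀
  have hαx₀ : (α : Matrix I I F) *ᵥ x₀ ≠ 0 := by
    intro h0
    apply hx₀
    rw [← inv_mulVec_mulVec α x₀, h0, Matrix.mulVec_zero]
  have hβu0 : (β : Matrix J J F) *ᵥ u ≠ 0 := by
    intro h0
    apply hu
    rw [← inv_mulVec_mulVec β u, h0, Matrix.mulVec_zero]
  obtain ⟨q₀, hq₀⟩ := exists_partner B₁ hT.nd₁ _ hαx₀ 1
  obtain ⟨x', hx'⟩ := hkst x₀
  obtain ⟨c₀, hc₀def⟩ : ∃ c₀ : F, c₀ = B₁ x' q₀ := ⟨_, rfl⟩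
  have hβu : (β : Matrix J J F) *ᵥ u = c₀ • u := by
    have := congrArg (C₁ B₁ q₀) hx'
    rw [hkpt, C₁_pt, C₁_pt, hq₀, one_smul, ← hc₀def] at this
    exact this
  have hc₀ : c₀ ≠ 0 := by
    intro h0
    rw [h0, zero_smul] at hβu
    exact hβu0 hβu
  -- `β` preserves `u^⊥`
  have hβperp : ∀ a, B₂ u a = 0 → B₂ u ((β : Matrix J J F) *ᵥ a) = 0 := by
    intro a ha
    have := hkiso (pt x₀ u) (pt (((α⁻¹ : GL I F) : Matrix I I F) *ᵥ q₀) a)
    rw [hkpt, hkpt, hT.tens, hT.tens, mulVec_inv_mulVec, hq₀, one_mul, ha, mul_zero, hβu,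
      map_smul, LinearMap.smul_apply, smul_eq_mul] at this
    rcases mul_eq_zero.mp this with h0 | h0
    · exact absurd h0 hc₀
    · exact h0
  have hmoveperp : ∀ (x : I → F) (a : J → F), B₂ u a = 0 →
      (k : Matrix (I × J) (I × J) F) *ᵥ pt x a - pt x a ∈ Aw (I := I) u := by
    intro x a ha
    apply hmoveA
    have e1 : B₂ ((β : Matrix J J F) *ᵥ a) u = 0 := by
      rw [alt_swap B₂ hA₂, hβperp a ha, neg_zero]
    have e2 : B₂ a u = 0 := by rw [alt_swap B₂ hA₂, ha, neg_zero]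
    rw [hkpt, map_sub, C₂_pt, C₂_pt, e1, e2, zero_smul, zero_smul, sub_zero]
  -- a hyperbolic pair in `u^⊥`
  obtain ⟨a₁, ha₁o, ha₁s⟩ := exists_perp_not_mem_span B₂ hT.nd₂ ![u]
    (by rw [finrank_fintype_fun_eq_card]; omega)
  have hua₁ : B₂ u a₁ = 0 := by simpa using ha₁o 0
  have hlia : LinearIndependent F ![u, a₁] := by
    apply pair_indep_of_not_smul hu
    intro c hc
    apply ha₁s
    rw [hc]
    exact Submodule.smul_mem _ _ (Submodule.subset_span ⟨0, rfl⟩)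
  obtain ⟨a₂, ha₂⟩ := exists_prescribed B₂ hT.nd₂ ![u, a₁] hlia ![0, 1]
  have hua₂ : B₂ u a₂ = 0 := by simpa using ha₂ 0
  have ha₁a₂ : B₂ a₁ a₂ = 1 := by simpa using ha₂ 1
  -- `α` is scalar
  obtain ⟨t, htdef⟩ : ∃ t : F, t = B₂ ((β : Matrix J J F) *ᵥ a₁) a₂ := ⟨_, rfl⟩
  have hαt : ∀ x : I → F, t • ((α : Matrix I I F) *ᵥ x) = x := by
    intro x
    obtain ⟨x'', hx''⟩ := mem_Aw.mp (hmoveperp x a₁ hua₁)
    have := congrArg (C₂ B₂ a₂) hx''
    rw [hkpt, map_sub, C₂_pt, C₂_pt, C₂_pt, hua₂, zero_smul, ha₁a₂, one_smul, ← htdef] at this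
    exact (sub_eq_zero.mp this.symm)
  have ht : t ≠ 0 := by
    intro h0
    have := hαt x₀
    rw [h0, zero_smul] at this
    exact hx₀ this.symm
  have hα : ∀ x : I → F, (α : Matrix I I F) *ᵥ x = t⁻¹ • x := by
    intro x
    rw [← hαt x, smul_smul, inv_mul_cancel₀ ht, one_smul, hαt x]
  obtain ⟨g', hg'def⟩ : ∃ g' : (J → F) →ₗ[F] (J → F),
      g' = t⁻¹ • Matrix.mulVecLin (β : Matrix J J F) := ⟨_, rfl⟩
  have hg'a : ∀ a, g' a = t⁻¹ • ((β : Matrix J J F) *ᵥ a) := by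
    intro a
    rw [hg'def]
    rfl
  have hk' : ∀ (x : I → F) (a : J → F), (k : Matrix (I × J) (I × J) F) *ᵥ pt x a =
      pt x (g' a) := by
    intro x a
    rw [hkpt, hα, hg'a, pt_smul_left, pt_smul_right]
  obtain ⟨xp, hxp⟩ := exists_partner B₁ hT.nd₁ x₀ hx₀ 1
  have hg'iso : ∀ a b, B₂ (g' a) (g' b) = B₂ a b := by
    intro a b
    have := hkiso (pt x₀ a) (pt xp b)
    rw [hk', hk', hT.tens, hT.tens, hxp, one_mul, one_mul] at this
    exact this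
  obtain ⟨c', hc'def⟩ : ∃ c' : F, c' = t⁻¹ * c₀ := ⟨_, rfl⟩
  have hg'u : g' u = c' • u := by
    rw [hg'a, hβu, smul_smul, ← hc'def]
  obtain ⟨ws, hws⟩ := exists_partner B₂ hT.nd₂ u hu (-1)
  have hwsu : B₂ ws u = 1 := by rw [alt_swap B₂ hA₂, hws, neg_neg]
  -- `c' ≠ 1`
  have hc'1 : c' ≠ 1 := by
    intro h1
    rw [h1, one_smul] at hg'u
    have hall : ∀ p₀ : J → F, ∃ c : F, g' p₀ - p₀ = c • u := by
      intro p₀
      have e1 : B₂ u (g' p₀ - p₀) = 0 := by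
        rw [map_sub]
        nth_rewrite 1 [← hg'u]
        rw [hg'iso, sub_self]
      have e2 : B₂ (g' p₀ - p₀) u = 0 := by rw [alt_swap B₂ hA₂, e1, neg_zero]
      have e3 : (k : Matrix (I × J) (I × J) F) *ᵥ pt x₀ p₀ - pt x₀ p₀ = pt x₀ (g' p₀ - p₀) := by
        rw [hk', pt_sub_right]
      have h3 : (k : Matrix (I × J) (I × J) F) *ᵥ pt x₀ p₀ - pt x₀ p₀ ∈ Aw (I := I) u := by
        apply hmoveA
        rw [e3, C₂_pt, e2, zero_smul]
      obtain ⟨x'', hx''⟩ := mem_Aw.mp h3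
      rw [e3] at hx''
      refine ⟨B₁ x'' xp, ?_⟩
      have := congrArg (C₁ B₁ xp) hx''
      rw [C₁_pt, C₁_pt, hxp, one_smul] at this
      exact this.symm
    obtain ⟨c'', hc''⟩ := hall ws
    apply hkne c''
    apply gl_ext_pt
    intro x a
    rw [hk', Xu_pt]
    congr 1
    obtain ⟨ca, hca⟩ := hall a
    have e4 : g' a = a + ca • u := by rw [← hca]; abel
    have e5 : g' ws = ws + c'' • u := by rw [← hc'']; abel
    have h6 := hg'iso a ws
    rw [e4, e5] at h6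
    simp only [map_add, map_smul, LinearMap.add_apply, LinearMap.smul_apply, smul_eq_mul, hws,
      hA₂.self_eq_zero, mul_zero, add_zero] at h6
    have e6 : ca = c'' * B₂ a u := by linear_combination -h6
    rw [e4, e6]
  constructor
  · -- trivial intersection
    rw [Submodule.eq_bot_iff]
    intro v hv
    obtain ⟨x₁, rfl⟩ := mem_Aw.mp hv.1
    have h7 := hk2 _ hv
    rw [hk', hg'u, pt_smul_right] at h7
    have h8 : (c' - 1) • pt x₁ u = 0 := by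
      rw [sub_smul, one_smul, h7, sub_self]
    rcases smul_eq_zero.mp h8 with h9 | h9
    · exact absurd (sub_eq_zero.mp h9) hc'1
    · exact h9
  · -- the second vector
    obtain ⟨p₀, hp₀⟩ : ∃ p₀ : J → F, ∀ c : F, g' p₀ - p₀ ≠ c • u := by
      by_contra hcon
      push Not at hcon
      obtain ⟨c₁, hc₁⟩ := hcon ws
      have e5 : g' ws = ws + c₁ • u := by rw [← hc₁]; abel
      have h6 := hg'iso ws u
      rw [e5, hg'u] at h6
      simp only [map_add, map_smul, LinearMap.add_apply, LinearMap.smul_apply, smul_eq_mul, hwsu,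
        hA₂.self_eq_zero, mul_zero, add_zero, mul_one] at h6
      exact hc'1 h6
    obtain ⟨y, hydef⟩ : ∃ y : J → F, y = g' p₀ - p₀ := ⟨_, rfl⟩
    have hy : ∀ c : F, y ≠ c • u := by
      intro c
      rw [hydef]
      exact hp₀ c
    refine ⟨y, hy, ?_⟩
    have hli : LinearIndependent F ![u, y] := pair_indep_of_not_smul hu hy
    have hR : Aw (I := I) u ⊔ Aw (I := I) y ≤ Aw (I := I) u ⊔ Bw h u' := by
      apply sup_le le_sup_left
      intro v hv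
      obtain ⟨x, rfl⟩ := mem_Aw.mp hv
      have := hk1 (pt x p₀)
      rw [hk', ← pt_sub_right, ← hydef] at this
      exact this
    have hfin : finrank F ↥(Aw (I := I) u ⊔ Bw h u') ≤
        finrank F ↥(Aw (I := I) u ⊔ Aw (I := I) y) := by
      rw [finrank_Aw_sup B₂ hT.nd₂ hli]
      calc finrank F ↥(Aw (I := I) u ⊔ Bw h u') ≤
            finrank F ↥(Aw (I := I) u) + finrank F ↥(Bw (I := I) h u') :=
              Submodule.finrank_add_le_finrank_add_finrank _ _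
        _ ≤ _ := add_le_add (finrank_Aw_le u) (finrank_Bw_le h u')
    have hReq := Submodule.eq_of_le_of_finrank_le hR hfin
    intro v hv
    have hv' : v ∈ Aw (I := I) u ⊔ Aw (I := I) y := by
      rw [hReq]
      exact Submodule.mem_sup_right hv
    obtain ⟨b₁, hb₁, b₂, hb₂, hsum⟩ := Submodule.mem_sup.mp hv'
    obtain ⟨x₁, rfl⟩ := mem_Aw.mp hb₁
    obtain ⟨x₂, rfl⟩ := mem_Aw.mp hb₂
    exact ⟨x₁, x₂, hsum.symm⟩

end partI

end Cfsg.Agent.Lib.Helper1.TsB
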