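import Mathlib
import Cfsg.Agent.Lib.Helper1.TsB14

/-!
# Global part I: `Sp(U) ⊗ O(W)` is maximal in `Sp(U ⊗ W)` for `dim U ≥ 4`
-/

set_option autoImplicit false
set_option maxHeartbeats 4000000
set_option maxRecDepth 100000
set_option linter.unusedSimpArgs false
set_option linter.unusedVariables false
set_option linter.unusedSectionVars false
set_option linter.style.longLine false
set_option linter.deprecated false

namespace Cfsg.Agent.Lib.Helper1.TsB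

open Module Matrix
open Cfsg.Agent.Lib.Helper1.TsA
open Cfsg.Agent.Lib.Helper5.AltWitt
open Cfsg.Agent.Lib.Helper8.Tns

local notation "Ξ" => Cfsg.Agent.Lib.Helper1.TsA.Xi

variable {F : Type*} [Field F]
variable {I J : Type} [Fintype I] [DecidableEq I] [Fintype J] [DecidableEq J]

theorem exists_not_mem_span_pair (hJ : 3 ≤ Fintype.card J) (a b : J → F) :
    ∃ z : J → F, z ∉ Submodule.span F (Set.range ![a, b]) := by
  have hne : Submodule.span F (Set.range ![a, b]) ≠ ⊤ := by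
    intro htop
    have h1 : finrank F ↥(Submodule.span F (Set.range ![a, b])) ≤ 2 := by
      have := finrank_range_le_card (R := F) ![a, b]
      simpa [Set.finrank] using this
    rw [htop, finrank_top, finrank_fintype_fun_eq_card] at h1
    omega
  obtain ⟨z, -, hz⟩ := SetLike.exists_of_lt (lt_top_iff_ne_top.mpr hne)
  exact ⟨z, hz⟩

section partI

variable {B : LinearMap.BilinForm F (I × J → F)} {B₁ : LinearMap.BilinForm F (I → F)}
  {B₂ : LinearMap.BilinForm F (J → F)} (hT : TS B B₁ B₂)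
  (hS₁ : ∀ x y, B₁ x y = B₁ y x) (hA₂ : B₂.IsAlt)
  (H : Subgroup (GL (I × J) F)) (hMH : krSub I J F ⊓ SpG B ≤ H) (hH : H ≤ SpG B)

include hT hS₁ hA₂ hMH hH in
/-- an overgroup of the Kronecker group not containing `Sp` lies in the Kronecker group -/
theorem le_krSub_I [Fintype F] (hodd : Fintype.card F % 2 = 1) (h2 : (2 : F) ≠ 0)
    (hI : 3 ≤ Fintype.card I) (hex : Fintype.card F ≠ 3 ∨ 4 ≤ Fintype.card I)
    (hJ : 4 ≤ Fintype.card J) (hnot : ¬ SpG B ≤ H) : H ≤ krSub I J F := by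
  classical
  intro h₀ hh₀
  by_contra hnk₀
  have hJ3 : 3 ≤ Fintype.card J := by omega
  obtain ⟨j₀⟩ : Nonempty J := by
    rw [← Fintype.card_pos_iff]
    omega
  obtain ⟨Pd, hPddef⟩ : ∃ Pd : ℕ → Prop, Pd = fun n : ℕ =>
      ∃ (h : GL (I × J) F) (u u' : J → F), h ∈ H ∧ h ∉ krSub I J F ∧ u ≠ 0 ∧ u' ≠ 0 ∧
        finrank F ↥(Aw (I := I) u ⊓ Bw h u') = n := ⟨_, rfl⟩
  have hPd : ∀ n, Pd n ↔ ∃ (h : GL (I × J) F) (u u' : J → F), h ∈ H ∧ h ∉ krSub I J F ∧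
      u ≠ 0 ∧ u' ≠ 0 ∧ finrank F ↥(Aw (I := I) u ⊓ Bw h u') = n := by
    intro n
    rw [hPddef]
  have hbound : ∀ n, Pd n → n ≤ Fintype.card I := by
    intro n hn
    obtain ⟨h, u, u', -, -, -, -, hd⟩ := (hPd n).mp hn
    rw [← hd]
    exact le_trans (Submodule.finrank_mono inf_le_left) (finrank_Aw_le u)
  have hu₁ : (Pi.single j₀ (1 : F) : J → F) ≠ 0 := single_ne_zero' j₀
  have hP0 : Pd (finrank F ↥(Aw (I := I) (Pi.single j₀ (1 : F)) ⊓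
      Bw h₀ (Pi.single j₀ (1 : F)))) :=
    (hPd _).mpr ⟨h₀, _, _, hh₀, hnk₀, hu₁, hu₁, rfl⟩
  obtain ⟨n₀, hn₀def⟩ : ∃ n₀ : ℕ, n₀ = Nat.findGreatest Pd (Fintype.card I) := ⟨_, rfl⟩
  have hn₀ : Pd n₀ := by
    rw [hn₀def]
    exact Nat.findGreatest_spec (hbound _ hP0) hP0
  have hmaxn : ∀ n, Pd n → n ≤ n₀ := by
    intro n hn
    rw [hn₀def]
    exact Nat.le_findGreatest (hbound n hn) hn
  obtain ⟨h, u, u', hh, hnk, hu, hu', hd⟩ := (hPd n₀).mp hn₀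
  have hmax : ∀ (h₁ : GL (I × J) F) (u₁ u₁' : J → F), h₁ ∈ H → h₁ ∉ krSub I J F → u₁ ≠ 0 →
      u₁' ≠ 0 → finrank F ↥(Aw (I := I) u₁ ⊓ Bw h₁ u₁') ≤
        finrank F ↥(Aw (I := I) u ⊓ Bw h u') := by
    intro h₁ u₁ u₁' hh₁ hnk₁ hu₁ hu₁'
    rw [hd]
    exact hmaxn _ ((hPd _).mpr ⟨h₁, u₁, u₁', hh₁, hnk₁, hu₁, hu₁', rfl⟩)
  have hS1 := S1_of_max hT hS₁ hA₂ H hMH hH hodd h2 hI hex hJ hnot h hh hnk u u' hu hu' hmax
  obtain ⟨hbot, -⟩ := triple_analysis hT hS₁ hA₂ H hMH hH hodd h2 hI hex hJ hnot h hh hnk u u'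
    hu hu' hS1
  have hn₀0 : n₀ = 0 := by
    rw [← hd, hbot]
    exact finrank_bot F _
  have hallB : ∀ u₁ : J → F, u₁ ≠ 0 → ∃ y : J → F, (∀ c : F, y ≠ c • u₁) ∧
      ∀ v ∈ Bw h u', ∃ x₁ x₂ : I → F, v = pt x₁ u₁ + pt x₂ y := by
    intro u₁ hu₁
    have hS1' : ∀ v ∈ Bw h u', C₂ B₂ u₁ v = 0 → v ∈ Aw (I := I) u₁ := by
      apply S1_of_max hT hS₁ hA₂ H hMH hH hodd h2 hI hex hJ hnot h hh hnk u₁ u' hu₁ hu'
      intro h₂ u₂ u₂' hh₂ hnk₂ hu₂ hu₂'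
      have := hmaxn _ ((hPd _).mpr ⟨h₂, u₂, u₂', hh₂, hnk₂, hu₂, hu₂', rfl⟩)
      rw [hn₀0] at this
      exact le_trans this (Nat.zero_le _)
    exact (triple_analysis hT hS₁ hA₂ H hMH hH hodd h2 hI hex hJ hnot h hh hnk u₁ u'
      hu₁ hu' hS1').2
  -- two decompositions
  obtain ⟨y₂, hy₂, hB₂⟩ := hallB u hu
  have hli₂ : LinearIndependent F ![u, y₂] := pair_indep_of_not_smul hu hy₂
  obtain ⟨ũ, hũ⟩ := exists_not_mem_span_pair hJ3 u y₂
  have hũ0 : ũ ≠ 0 := ne_zero_of_not_mem_span hũ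
  obtain ⟨y₁, hy₁, hB₁⟩ := hallB ũ hũ0
  have hli3 : LinearIndependent F ![u, y₂, ũ] := li_triple hli₂ hũ
  obtain ⟨p, hp⟩ := exists_prescribed B₂ hT.nd₂ ![u, y₂, ũ] hli3 ![0, 0, 1]
  have hp0 : B₂ u p = 0 := by simpa using hp 0
  have hp1 : B₂ y₂ p = 0 := by simpa using hp 1
  have hp2 : B₂ ũ p = 1 := by simpa using hp 2
  obtain ⟨s, hsdef⟩ : ∃ s : F, s = B₂ y₁ p := ⟨_, rfl⟩
  have hu₀ : y₁ - s • ũ ≠ 0 := by
    intro h0
    exact hy₁ s (sub_eq_zero.mp h0)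
  apply hnk
  apply stab_mem' hT hS₁ hA₂ H hMH hH hodd h2 hI hex hJ3 hnot h hh (y₁ - s • ũ) u' hu₀ hu'
  intro x
  have hv : (h : Matrix (I × J) (I × J) F) *ᵥ pt x u' ∈ Bw h u' := mem_Bw.mpr ⟨x, rfl⟩
  obtain ⟨z₁, z₂, hz⟩ := hB₂ _ hv
  obtain ⟨x₁, x₂, hx⟩ := hB₁ _ hv
  have e1 := congrArg (C₂ B₂ p) hz
  have e2 := congrArg (C₂ B₂ p) hx
  rw [map_add, C₂_pt, C₂_pt, hp0, hp1, zero_smul, zero_smul, add_zero] at e1
  rw [e1, map_add, C₂_pt, C₂_pt, hp2, one_smul, ← hsdef] at e2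
  have e3 : x₁ = -(s • x₂) := eq_neg_of_add_eq_zero_left e2.symm
  refine ⟨x₂, ?_⟩
  rw [hx, e3, pt_sub_right, pt_smul_right, pt_neg_left', pt_smul_left]
  abel

include hT hS₁ hA₂ in
/-- a transvection with pure centre lies outside the Kronecker group -/
theorem exists_not_mem_krSub (h2 : (2 : F) ≠ 0) (hI : 3 ≤ Fintype.card I)
    (hJ : 2 ≤ Fintype.card J) : ∃ g ∈ SpG B, g ∉ krSub I J F := by
  obtain ⟨j₀⟩ : Nonempty J := by
    rw [← Fintype.card_pos_iff]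
    omega
  have hu₀ : (Pi.single j₀ (1 : F) : J → F) ≠ 0 := single_ne_zero' j₀
  obtain ⟨u₀, hu₀def⟩ : ∃ u₀ : J → F, u₀ = Pi.single j₀ (1 : F) := ⟨_, rfl⟩
  rw [← hu₀def] at hu₀
  obtain ⟨x₀, hx₀⟩ := exists_nonsing B₁ hS₁ hT.nd₁ h2
    (by rw [finrank_fintype_fun_eq_card]; omega)
  obtain ⟨z, hzo, hzz⟩ := orth_ext1 B₁ hS₁ hT.nd₁ h2 x₀ hx₀
    (by rw [finrank_fintype_fun_eq_card]; omega)
  have hx₀0 : x₀ ≠ 0 := by
    intro h0
    apply hx₀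
    simp [h0]
  obtain ⟨a, hadef⟩ : ∃ a : I × J → F, a = pt x₀ u₀ := ⟨_, rfl⟩
  have ha0 : a ≠ 0 := by
    rw [hadef]
    exact pt_ne_zero hx₀0 hu₀
  obtain ⟨g, hgdef⟩ : ∃ g : GL (I × J) F, g = glOf (tv B hT.altB a 1) := ⟨_, rfl⟩
  have hgv : ∀ v, (g : Matrix (I × J) (I × J) F) *ᵥ v = v + (1 * B v a) • a := by
    intro v
    rw [hgdef, glOf_mulVec, tv_apply]
  refine ⟨g, ?_, ?_⟩
  · rw [mem_SpG]
    intro x y
    rw [hgdef, glOf_mulVec, glOf_mulVec]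
    exact tv_isom B hT.altB a 1 x y
  · intro hmem
    obtain ⟨α, β, hαβ⟩ := mem_krSub.mp hmem
    have hS : finrank F ↥(Submodule.span F ({a} : Set (I × J → F))) < Fintype.card J := by
      have := finrank_span_singleton (K := F) ha0
      rw [this]
      omega
    obtain ⟨c, hc⟩ := kr_scalar_of_small α β (Submodule.span F ({a} : Set (I × J → F))) hS
      (fun v => by
        rw [← hαβ, hgv, add_sub_cancel_left]
        exact Submodule.smul_mem _ _ (Submodule.subset_span rfl))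
    obtain ⟨w, hw⟩ := exists_partner B₂ hT.nd₂ u₀ hu₀ (-1)
    have hwu : B₂ w u₀ = 1 := by rw [alt_swap B₂ hA₂, hw, neg_neg]
    have h1 := hgv (pt (x₀ + z) w)
    rw [hαβ, kr_mulVec_pt, hc, Matrix.smul_mulVec, Matrix.one_mulVec, pt_smul_left,
      ← pt_smul_right, hadef, hT.tens, hwu, mul_one, one_mul, map_add, LinearMap.add_apply,
      hS₁ z x₀, hzo, add_zero] at h1
    have h3 := congrArg (C₁ B₁ z) h1
    have eL : C₁ B₁ z (pt (x₀ + z) (c • ((β : Matrix J J F) *ᵥ w))) =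
        B₁ z z • (c • ((β : Matrix J J F) *ᵥ w)) := by
      rw [C₁_pt, map_add, LinearMap.add_apply, hzo, zero_add]
    have eR : C₁ B₁ z (pt (x₀ + z) w + B₁ x₀ x₀ • pt x₀ u₀) = B₁ z z • w := by
      rw [map_add, map_smul, C₁_pt, C₁_pt, map_add, LinearMap.add_apply, hzo, zero_add, zero_smul,
        smul_zero, add_zero]
    rw [eL, eR] at h3
    have h4 : c • ((β : Matrix J J F) *ᵥ w) = w := smul_right_injective _ hzz h3
    rw [h4] at h1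
    have h5 : B₁ x₀ x₀ • pt x₀ u₀ = 0 := by
      have := congrArg (fun t => t - pt (x₀ + z) w) h1
      simp only [sub_self, add_sub_cancel_left] at this
      exact this.symm
    rcases smul_eq_zero.mp h5 with h6 | h6
    · exact hx₀ h6
    · rw [← hadef] at h6
      exact ha0 h6

include hT hS₁ hA₂ in
/-- **Maximality of `O(W) ⊗ Sp(U)` in `Sp(W ⊗ U)`**, in coordinates, for `dim U ≥ 4` -/
theorem core_I [Fintype F] (hodd : Fintype.card F % 2 = 1) (h2 : (2 : F) ≠ 0)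
    (hI : 3 ≤ Fintype.card I) (hex : Fintype.card F ≠ 3 ∨ 4 ≤ Fintype.card I)
    (hJ : 4 ≤ Fintype.card J) :
    Cfsg.Geo.IsMaximalIn (SpG B) (krSub I J F ⊓ SpG B) := by
  refine ⟨lt_of_le_of_ne inf_le_right ?_, ?_⟩
  · intro heq
    obtain ⟨g, hg, hgn⟩ := exists_not_mem_krSub hT hS₁ hA₂ h2 hI (by omega)
    rw [← heq] at hg
    exact hgn hg.1
  · intro M hHM hMK
    by_cases hnot : SpG B ≤ M
    · right
      exact le_antisymm hMK hnot
    · left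
      apply le_antisymm _ hHM
      exact le_inf (le_krSub_I hT hS₁ hA₂ M hHM hMK hodd h2 hI hex hJ hnot) hMK

end partI

end Cfsg.Agent.Lib.Helper1.TsB
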