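import Mathlib
import Cfsg.Agent.Lib.Helper1.TsB15

/-!
# Part II, generic lemmas: symplectic planes, hyperbolic pairs in orthogonal spaces,
extension of similitudes, existence of Siegel pairs
-/

set_option autoImplicit false
set_option maxHeartbeats 4000000
set_option maxRecDepth 100000
set_option linter.unusedSimpArgs false
set_option linter.unusedVariables false
set_option linter.unusedSectionVars false
set_option linter.style.longLine false
set_option linter.deprecated false

namespace Cfsg.Agent.Lib.Helper1.TsB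

open Module Matrix
open Cfsg.Agent.Lib.Helper1.TsA
open Cfsg.Agent.Lib.Helper5.AltWitt
open Cfsg.Agent.Lib.Helper8.Tns

variable {F : Type*} [Field F]

section plane

variable {V : Type*} [AddCommGroup V] [Module F V] [FiniteDimensional F V]
  (B : LinearMap.BilinForm F V)

/-- coordinates in a symplectic plane -/
theorem dim2_decomp (hA : B.IsAlt) (hd : finrank F V = 2) (x₀ x₁ : V) (h01 : B x₀ x₁ = 1)
    (x : V) : x = B x x₁ • x₀ - B x x₀ • x₁ := by
  have hx₀ : x₀ ≠ 0 := by
    intro h0
    rw [h0, map_zero, LinearMap.zero_apply] at h01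
    exact zero_ne_one h01
  have h10 : B x₁ x₀ = -1 := by rw [alt_swap B hA, h01]
  have hli : LinearIndependent F ![x₀, x₁] := by
    apply pair_indep_of_form B hx₀ (hA.self_eq_zero x₀)
    rw [h10]
    exact neg_ne_zero.mpr one_ne_zero
  have htop : Submodule.span F (Set.range ![x₀, x₁]) = ⊤ :=
    hli.span_eq_top_of_card_eq_finrank' (by rw [hd]; rfl)
  have hx : x ∈ Submodule.span F (Set.range ![x₀, x₁]) := by
    rw [htop]
    exact Submodule.mem_top
  obtain ⟨c, hc⟩ := (Submodule.mem_span_range_iff_exists_fun F).mp hx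
  rw [Fin.sum_univ_two] at hc
  simp only [Matrix.cons_val_zero, Matrix.cons_val_one] at hc
  have e1 : B x x₁ = c 0 := by
    rw [← hc]
    simp only [map_add, map_smul, LinearMap.add_apply, LinearMap.smul_apply, smul_eq_mul, h01,
      hA.self_eq_zero, mul_one, mul_zero, add_zero]
  have e2 : B x x₀ = -c 1 := by
    rw [← hc]
    simp only [map_add, map_smul, LinearMap.add_apply, LinearMap.smul_apply, smul_eq_mul, h10,
      hA.self_eq_zero, mul_zero, zero_add]
    ring
  rw [e1, e2, ← hc]
  module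

/-- in a symplectic plane, `x^⊥ = F x` -/
theorem dim2_perp (hA : B.IsAlt) (hB : B.Nondegenerate) (hd : finrank F V = 2) (x y : V)
    (hx : x ≠ 0) (hyx : B y x = 0) : ∃ c : F, y = c • x := by
  obtain ⟨x₁, hx₁⟩ := exists_partner B hB x hx 1
  refine ⟨B y x₁, ?_⟩
  have := dim2_decomp B hA hd x x₁ hx₁ y
  rw [hyx, zero_smul, sub_zero] at this
  exact this

end plane

/-- a self-adjoint operator of a symplectic plane is scalar -/
theorem selfadj_scalar_dim2 {I : Type} [Fintype I] [DecidableEq I]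
    (B₁ : LinearMap.BilinForm F (I → F)) (hA : B₁.IsAlt) (hB : B₁.Nondegenerate)
    (h2 : (2 : F) ≠ 0) (hI : Fintype.card I = 2) (θ : (I → F) →ₗ[F] (I → F))
    (hθ : ∀ x y, B₁ (θ x) y = B₁ x (θ y)) : ∃ c : F, θ = c • LinearMap.id := by
  apply lin_scalar_of_forall_eigen
  intro x
  by_cases hx : x = 0
  · exact ⟨0, by rw [hx, map_zero, smul_zero]⟩
  have h1 : B₁ (θ x) x = 0 := by
    have e := hθ x x
    rw [alt_swap B₁ hA x (θ x)] at e
    have e2 : (2 : F) * B₁ (θ x) x = 0 := by linear_combination e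
    rcases mul_eq_zero.mp e2 with h | h
    · exact absurd h h2
    · exact h
  exact dim2_perp B₁ hA hB (by rw [finrank_fintype_fun_eq_card, hI]) x (θ x) hx h1

section orth

variable {V : Type*} [AddCommGroup V] [Module F V] [FiniteDimensional F V]
  (B : LinearMap.BilinForm F V)

/-- a singular partner of a singular vector -/
theorem singular_partner (hS : ∀ x y, B x y = B y x) (hB : B.Nondegenerate) (h2 : (2 : F) ≠ 0)
    (w : V) (hw0 : w ≠ 0) (hw : B w w = 0) : ∃ ws, B w ws = 1 ∧ B ws ws = 0 := by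
  obtain ⟨ws', hws'⟩ := exists_partner B hB w hw0 1
  refine ⟨ws' - (B ws' ws' / 2) • w, ?_, ?_⟩
  · rw [map_sub, map_smul, hw, hws', smul_zero, sub_zero]
  · simp only [map_sub, map_smul, LinearMap.sub_apply, LinearMap.smul_apply, smul_eq_mul, hw,
      hws', hS ws' w, mul_zero, mul_one, sub_zero]
    field_simp
    ring

theorem form_decomp_sym (hS : ∀ x y, B x y = B y x) (w ws : V) (hw : B w w = 0)
    (hwss : B ws ws = 0) (hws : B w ws = 1) (x x' : V) :
    B x x' = B x ws * B w x' + B w x * B x' ws + B (piW B w ws x) (piW B w ws x') := by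
  rw [piW_apply, piW_apply]
  simp only [map_sub, map_smul, LinearMap.sub_apply, LinearMap.smul_apply, smul_eq_mul,
    hw, hwss, hws]
  rw [hS x w, hS ws x', hS ws w, hws]
  ring

/-- extension of a similitude of `w^⊥` (modulo `w`) to a similitude of the whole space -/
theorem exists_gamma_sym (hS : ∀ x y, B x y = B y x) (hB : B.Nondegenerate) (w ws : V)
    (hw : B w w = 0) (hwss : B ws ws = 0) (hws : B w ws = 1)
    (δ : V →ₗ[F] V) (ν : F) (hν : ν ≠ 0) (hδw : δ w = w)
    (hδp : ∀ x, B w x = 0 → B w (δ x) = 0)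
    (hδs : ∀ x x', B w x = 0 → B w x' = 0 → B (δ x) (δ x') = ν * B x x') :
    ∃ γ : V ≃ₗ[F] V, (∀ x x', B (γ x) (γ x') = ν * B x x') ∧ γ w = w ∧
      ∀ x, B w x = 0 → ∃ c : F, γ x = δ x + c • w := by
  obtain ⟨γL, hγL⟩ : ∃ γL : V →ₗ[F] V, γL = (B.flip ws).smulRight w +
      ν • (B w).smulRight ws + piW B w ws ∘ₗ δ ∘ₗ piW B w ws := ⟨_, rfl⟩
  have hγa : ∀ x, γL x = B x ws • w + (ν * B w x) • ws + piW B w ws (δ (piW B w ws x)) := by
    intro x
    rw [hγL]
    simp [mul_smul]
  have hwsw : B ws w = 1 := by rw [hS, hws]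
  have hp1 : ∀ x, B w (piW B w ws x) = 0 := by
    intro x
    rw [piW_apply]
    simp only [map_sub, map_smul, smul_eq_mul, hw, hws]
    ring
  have hp2 : ∀ x, B (piW B w ws x) ws = 0 := by
    intro x
    rw [piW_apply]
    simp only [map_sub, map_smul, LinearMap.sub_apply, LinearMap.smul_apply, smul_eq_mul,
      hwss, hws]
    ring
  have hg1 : ∀ x, B (γL x) ws = B x ws := by
    intro x
    rw [hγa]
    simp only [map_add, map_smul, LinearMap.add_apply, LinearMap.smul_apply, smul_eq_mul,
      hwss, hws, hp2]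
    ring
  have hg2 : ∀ x, B w (γL x) = ν * B w x := by
    intro x
    rw [hγa]
    simp only [map_add, map_smul, smul_eq_mul, hw, hws, hp1]
    ring
  have hg3 : ∀ x, piW B w ws (γL x) = piW B w ws (δ (piW B w ws x)) := by
    intro x
    rw [piW_apply (x := γL x), hg1, hg2]
    nth_rewrite 1 [hγa]
    module
  have hsim : ∀ x x', B (γL x) (γL x') = ν * B x x' := by
    intro x x'
    rw [form_decomp_sym B hS w ws hw hwss hws (γL x) (γL x'), hg1, hg2, hg2, hg1, hg3, hg3]
    have e1 := form_decomp_sym B hS w ws hw hwss hws (δ (piW B w ws x)) (δ (piW B w ws x'))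
    rw [hδp _ (hp1 x), hδp _ (hp1 x'), hδs _ _ (hp1 x) (hp1 x')] at e1
    have e2 := form_decomp_sym B hS w ws hw hwss hws x x'
    linear_combination (-1 : F) * e1 - ν * e2
  have hinj : Function.Injective γL := by
    rw [← LinearMap.ker_eq_bot, LinearMap.ker_eq_bot']
    intro x hx
    apply hB.1
    intro x'
    have := hsim x x'
    rw [hx, map_zero, LinearMap.zero_apply] at this
    rcases mul_eq_zero.mp this.symm with h | h
    · exact absurd h hν
    · exact h
  refine ⟨LinearEquiv.ofInjectiveEndo γL hinj, ?_, ?_, ?_⟩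
  · intro x x'
    exact hsim x x'
  · show γL w = w
    rw [hγa, hws, hw]
    have : piW B w ws w = 0 := by
      rw [piW_apply, hws, hw]
      simp
    rw [this, map_zero, map_zero]
    simp
  · intro x hx
    refine ⟨B x ws - B (δ x) ws, ?_⟩
    show γL x = _
    rw [hγa, hx]
    have e1 : piW B w ws x = x - B x ws • w := by
      rw [piW_apply, hx]
      simp
    have e2 : δ (piW B w ws x) = δ x - B x ws • w := by
      rw [e1, map_sub, map_smul, hδw]
    have e3 : B w (δ x - B x ws • w) = 0 := by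
      rw [map_sub, map_smul, hw, hδp x hx]
      simp
    rw [e2, piW_apply, e3]
    simp only [map_sub, map_smul, LinearMap.sub_apply, LinearMap.smul_apply, smul_eq_mul, hwsw,
      hws, mul_one]
    module

/-- a singular vector and a non-singular vector, orthogonal to each other and to `k` given
vectors -/
theorem exists_sieg_pair [Fintype F] (hodd : Fintype.card F % 2 = 1)
    (hS : ∀ x y, B x y = B y x) (hB : B.Nondegenerate) (h2 : (2 : F) ≠ 0) {k : ℕ}
    (c : Fin k → V) (hk1 : 2 * k + 1 ≤ finrank F V) (hk2 : k + 4 ≤ finrank F V) :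
    ∃ w₁ v, (∀ i, B (c i) w₁ = 0) ∧ (∀ i, B (c i) v = 0) ∧ w₁ ≠ 0 ∧ B w₁ w₁ = 0 ∧
      B w₁ v = 0 ∧ B v v ≠ 0 := by
  -- a non-singular vector
  obtain ⟨v, hvc, hv⟩ : ∃ v, (∀ i, B (c i) v = 0) ∧ B v v ≠ 0 := by
    by_contra hcon
    push Not at hcon
    have hT := finrank_perpF_ge B hB c
    have hts : ∀ x ∈ perpF B c, ∀ y ∈ perpF B c, B x y = 0 := by
      intro x hx y hy
      have h1 := hcon x ((mem_perpF B c x).mp hx)
      have h3 := hcon y ((mem_perpF B c y).mp hy)
      have h4 := hcon (x + y) ((mem_perpF B c (x + y)).mp (Submodule.add_mem _ hx hy))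
      simp only [map_add, LinearMap.add_apply, h1, h3, hS y x, zero_add, add_zero] at h4
      have e2 : (2 : F) * B x y = 0 := by linear_combination h4
      rcases mul_eq_zero.mp e2 with h | h
      · exact absurd h h2
      · exact h
    have := finrank_add_le_of_orth B hB (perpF B c) (perpF B c) hts
    omega
  -- the orthogonal complement of `c` and `v`
  obtain ⟨c', hc'def⟩ : ∃ c' : Fin (k + 1) → V, c' = Fin.cons v c := ⟨_, rfl⟩
  have hc'0 : c' 0 = v := by rw [hc'def]; rfl
  have hc's : ∀ i : Fin k, c' i.succ = c i := by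
    intro i
    rw [hc'def]
    rfl
  have hT' := finrank_perpF_ge B hB c'
  obtain ⟨w₁, hw₁T, hw₁0, hw₁s⟩ : ∃ w₁ ∈ perpF B c', w₁ ≠ 0 ∧ B w₁ w₁ = 0 := by
    by_cases hrad : ∃ w₁ ∈ perpF B c', w₁ ≠ 0 ∧ ∀ t ∈ perpF B c', B w₁ t = 0
    · obtain ⟨w₁, hw₁T, hw₁0, hw₁r⟩ := hrad
      exact ⟨w₁, hw₁T, hw₁0, hw₁r w₁ hw₁T⟩
    · push Not at hrad
      have hdisj : Disjoint (perpF B c') (B.orthogonal (perpF B c')) := by
        rw [Submodule.disjoint_def]
        intro x hx hxo
        by_contra hx0
        obtain ⟨t, ht, hxt⟩ := hrad x hx hx0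
        apply hxt
        rw [hS]
        exact (LinearMap.BilinForm.mem_orthogonal_iff.mp hxo) t ht
      have hrefl : B.IsRefl := by
        intro x y hxy
        rw [hS, hxy]
      have hnd := B.nondegenerate_restrict_of_disjoint_orthogonal hrefl hdisj
      have hSr : ∀ x y : ↥(perpF B c'), (B.restrict (perpF B c')) x y =
          (B.restrict (perpF B c')) y x := by
        intro x y
        exact hS x.1 y.1
      obtain ⟨z, hz0, hzz⟩ := exists_singular (B.restrict (perpF B c')) hodd hSr hnd h2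
        (by omega)
      refine ⟨z.1, z.2, ?_, hzz⟩
      intro h0
      exact hz0 (Subtype.ext h0)
  have hw₁c := (mem_perpF B c' w₁).mp hw₁T
  refine ⟨w₁, v, ?_, hvc, hw₁0, hw₁s, ?_, hv⟩
  · intro i
    rw [← hc's i]
    exact hw₁c i.succ
  · rw [hS, ← hc'0]
    exact hw₁c 0

end orth

end Cfsg.Agent.Lib.Helper1.TsB
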