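import Mathlib
import Cfsg.Agent.Lib.Helper1.TsB16

/-!
# Part II (`dim U = 2`): local analysis at `U ⊗ w`, `w` singular: centre and slopes
-/

set_option autoImplicit false
set_option maxHeartbeats 4000000
set_option maxRecDepth 100000
set_option linter.unusedSimpArgs false
set_option linter.unusedVariables false
set_option linter.unusedSectionVars false
set_option linter.style.longLine false
set_option linter.deprecated false

namespace Cfsg.Agent.Lib.Helper1.TsB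

open Module Matrix
open Cfsg.Agent.Lib.Helper1.TsA
open Cfsg.Agent.Lib.Helper5.AltWitt
open Cfsg.Agent.Lib.Helper8.Tns

local notation "Ξ" => Cfsg.Agent.Lib.Helper1.TsA.Xi

variable {F : Type*} [Field F]
variable {I J : Type} [Fintype I] [DecidableEq I] [Fintype J] [DecidableEq J]

/-- the action of a Siegel element of the `J`-side -/
theorem Acts_krL_sieg {B₂ : LinearMap.BilinForm F (J → F)} (hS₂ : ∀ x y, B₂ x y = B₂ y x)
    (h2 : (2 : F) ≠ 0) (w z : J → F) (hw : B₂ w w = 0) (hwz : B₂ w z = 0) :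
    Acts (krL (1 : (I → F) ≃ₗ[F] (I → F)) (sieg B₂ hS₂ h2 w z hw hwz))
      (Ξ B₂ LinearMap.id w z - Ξ B₂ LinearMap.id z w - (B₂ z z / 2) • Ξ B₂ LinearMap.id w w) := by
  apply Acts_of_pt
  intro x a
  have e1 : (1 : (I → F) ≃ₗ[F] (I → F)) x = x := rfl
  rw [krL_pt, e1, sieg_apply]
  simp only [LinearMap.sub_apply, LinearMap.smul_apply, Xi_pt, LinearMap.id_apply, pt_add_right,
    pt_sub_right, pt_smul_right]
  module

/-- dividing by an element acting by `N` -/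
theorem Acts.div_right {a s : GL (I × J) F} {N Z : (I × J → F) →ₗ[F] (I × J → F)}
    (ha : Acts a (N + Z)) (hs : Acts s N) (hZN : Z ∘ₗ N = 0) : Acts (a * s⁻¹) Z := by
  intro t
  obtain ⟨t', ht'⟩ : ∃ t' : I × J → F,
      t' = ((s⁻¹ : GL (I × J) F) : Matrix (I × J) (I × J) F) *ᵥ t := ⟨_, rfl⟩
  have h1 : t = t' + N t' := by
    have := hs t'
    rw [ht', mulVec_inv_mulVec, ← ht'] at this
    exact this
  have hZ : Z t = Z t' := by
    rw [h1, map_add]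
    have : Z (N t') = 0 := LinearMap.congr_fun hZN t'
    rw [this, add_zero]
  rw [Units.val_mul, ← Matrix.mulVec_mulVec, ← ht', ha t', LinearMap.add_apply, hZ]
  rw [h1]
  abel

section partII

variable {B : LinearMap.BilinForm F (I × J → F)} {B₁ : LinearMap.BilinForm F (I → F)}
  {B₂ : LinearMap.BilinForm F (J → F)} (hT : TS B B₁ B₂)
  (hA₁ : B₁.IsAlt) (hS₂ : ∀ x y, B₂ x y = B₂ y x)
  (H : Subgroup (GL (I × J) F)) (hMH : krSub I J F ⊓ SpG B ≤ H) (hH : H ≤ SpG B)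

include hT hA₁ hS₂ hMH hH in
/-- **(L1)** the centre of the radical meets `H` trivially -/
theorem ZW_trivial [Fintype F] (hodd : Fintype.card F % 2 = 1) (h2 : (2 : F) ≠ 0)
    (hnot : ¬ SpG B ≤ H) (w : J → F) (hw0 : w ≠ 0) (hw : B₂ w w = 0)
    (L : (I → F) →ₗ[F] (I → F)) (g : GL (I × J) F) (hgH : g ∈ H)
    (hgA : Acts g (Ξ B₂ L w w)) : L = 0 := by
  by_contra hL
  obtain ⟨ws, hws⟩ := exists_partner B₂ hT.nd₂ w hw0 1
  have hwsw : B₂ ws w = 1 := by rw [hS₂, hws]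
  have hskew : ∀ x y, B₁ (L x) y + B₁ x (L y) = 0 := by
    intro x y
    have h1 := (mem_SpG.mp (hH hgH)) (pt x ws) (pt y ws)
    rw [hgA, hgA, Xi_pt, Xi_pt, hwsw, one_smul, one_smul] at h1
    simp only [map_add, LinearMap.add_apply, hT.tens, hw, hws, hwsw, mul_zero, mul_one,
      add_zero] at h1
    linear_combination h1
  obtain ⟨u₀, hκ⟩ : ∃ u₀, B₁ (L u₀) u₀ ≠ 0 := by
    by_contra hcon
    push Not at hcon
    apply hL
    apply LinearMap.ext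
    intro x
    apply hT.eq_of_B₁
    intro y
    rw [LinearMap.zero_apply, map_zero, LinearMap.zero_apply]
    have h3 := hcon (x + y)
    simp only [map_add, LinearMap.add_apply, hcon x, hcon y, zero_add, add_zero] at h3
    have h4 := hskew y x
    have h5 := alt_swap B₁ hA₁ y (L x)
    have e2 : (2 : F) * B₁ (L x) y = 0 := by linear_combination h3 - h4 + h5
    rcases mul_eq_zero.mp e2 with h | h
    · exact absurd h h2
    · exact h
  have hu₀ : u₀ ≠ 0 := by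
    intro h0
    apply hκ
    simp [h0]
  obtain ⟨κ, hκdef⟩ : ∃ κ : F, κ = B₁ (L u₀) u₀ := ⟨_, rfl⟩
  -- the conjugates
  have hN0 : ∀ L' L'' : (I → F) →ₗ[F] (I → F), Ξ B₂ L' w w ∘ₗ Ξ B₂ L'' w w = 0 :=
    fun L' L'' => Xi_comp_zero B₂ _ _ _ _ _ _ hw
  have hconj : ∀ c : F, ∃ g' ∈ H, Acts g' (Ξ B₂
      ((tv B₁ hA₁ u₀ c : (I → F) →ₗ[F] (I → F)) ∘ₗ L ∘ₗ
        ((tv B₁ hA₁ u₀ c).symm : (I → F) →ₗ[F] (I → F))) w w) := by
    intro c
    have hmH : krL (tv B₁ hA₁ u₀ c) (1 : (J → F) ≃ₗ[F] (J → F)) ∈ H :=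
      hT.krL_mem_H H hMH _ 1 (tv_isom B₁ hA₁ u₀ c) (fun _ _ => rfl)
    refine ⟨krL (tv B₁ hA₁ u₀ c) 1 * g * (krL (tv B₁ hA₁ u₀ c) 1)⁻¹,
      H.mul_mem (H.mul_mem hmH hgH) (H.inv_mem hmH), ?_⟩
    apply hgA.conj_krL (tv B₁ hA₁ u₀ c) 1
    intro v
    rw [Xi_conj (tv B₁ hA₁ u₀ c) 1 (fun _ _ => rfl)]
    rfl
  obtain ⟨gp, hgpH, hgpA⟩ := hconj 1
  obtain ⟨gm, hgmH, hgmA⟩ := hconj (-1)
  have hginv : Acts g⁻¹ (-Ξ B₂ L w w) := hgA.inv (hN0 L L)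
  have h12 := hgpA.mul_of_comp_zero hgmA (hN0 _ _)
  have h123 := h12.mul_of_comp_zero hginv (by
    simp only [LinearMap.add_comp, LinearMap.comp_neg, hN0, neg_zero, add_zero])
  have h1234 := h123.mul_of_comp_zero hginv (by
    simp only [LinearMap.add_comp, LinearMap.comp_neg, LinearMap.neg_comp, hN0, neg_zero,
      add_zero])
  have hLsum : (tv B₁ hA₁ u₀ 1 : (I → F) →ₗ[F] (I → F)) ∘ₗ L ∘ₗ
        ((tv B₁ hA₁ u₀ 1).symm : (I → F) →ₗ[F] (I → F)) +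
      (tv B₁ hA₁ u₀ (-1) : (I → F) →ₗ[F] (I → F)) ∘ₗ L ∘ₗ
        ((tv B₁ hA₁ u₀ (-1)).symm : (I → F) →ₗ[F] (I → F)) + -L + -L =
      (-2 * κ) • rk B₁ u₀ u₀ := by
    apply LinearMap.ext
    intro x
    simp only [LinearMap.add_apply, LinearMap.comp_apply, LinearEquiv.coe_coe, LinearMap.neg_apply,
      LinearMap.smul_apply, rk_apply, tv_apply, tv_symm_apply, map_add, map_smul,
      LinearMap.add_apply, LinearMap.smul_apply, smul_eq_mul, ← hκdef]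
    module
  have hP : Acts (gp * gm * g⁻¹ * g⁻¹) (Ξ B₂ ((-2 * κ) • rk B₁ u₀ u₀) w w) := by
    apply h1234.congr
    rw [← hLsum, Xi_add_left, Xi_add_left, Xi_add_left, Xi_neg_left]
  have hPH : gp * gm * g⁻¹ * g⁻¹ ∈ H :=
    H.mul_mem (H.mul_mem (H.mul_mem hgpH hgmH) (H.inv_mem hgH)) (H.inv_mem hgH)
  apply hnot
  intro g' hg'
  have S := hT.sd H hMH hH hA₁ hS₂
  have hc0 : -2 * κ ≠ 0 := by
    rw [hκdef]
    exact mul_ne_zero (neg_ne_zero.mpr h2) hκ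
  apply S.le_of_pure B H hodd h2 u₀ w hu₀ hw0 hw (-2 * κ) hc0 ?_ g' (mem_SpG.mp hg')
  refine ⟨_, hPH, ?_⟩
  intro x
  simp only [ptB_apply]
  rw [hP x, Xi_apply, LinearMap.smul_apply, rk_apply, B_pt_right hT, pt_smul_left, pt_smul_left,
    smul_smul]

include hT hA₁ hS₂ hMH hH in
/-- **(L2)** slopes of radical elements are scalar -/
theorem slope_scalar_II [Fintype F] (hodd : Fintype.card F % 2 = 1) (h2 : (2 : F) ≠ 0)
    (hI2 : Fintype.card I = 2) (hnot : ¬ SpG B ≤ H) (w w₁ : J → F) (hw0 : w ≠ 0)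
    (hw : B₂ w w = 0) (hww₁ : B₂ w w₁ = 0) (g : GL (I × J) F) (hgH : g ∈ H)
    (θ : (I → F) →ₗ[F] (I → F))
    (hgw : ∀ x, (g : Matrix (I × J) (I × J) F) *ᵥ pt x w = pt x w)
    (hg1 : ∀ x, (g : Matrix (I × J) (I × J) F) *ᵥ pt x w₁ = pt x w₁ + pt (θ x) w) :
    ∃ c : F, θ = c • LinearMap.id := by
  have hg := mem_SpG.mp (hH hgH)
  have hw₁w : B₂ w₁ w = 0 := by rw [hS₂, hww₁]
  have hsH : krL (1 : (I → F) ≃ₗ[F] (I → F)) (sieg B₂ hS₂ h2 w w₁ hw hww₁) ∈ H :=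
    hT.krL_mem_H H hMH 1 _ (fun _ _ => rfl) (sieg_isom B₂ hS₂ h2 w w₁ hw hww₁)
  have hs := Acts_krL_sieg (I := I) hS₂ h2 w w₁ hw hww₁
  have hC2w : ∀ v, C₂ B₂ w ((g : Matrix (I × J) (I × J) F) *ᵥ v) = C₂ B₂ w v := by
    intro v
    apply hT.eq_of_B₁
    intro q
    rw [← B_pt_right hT, ← B_pt_right hT]
    have := hg v (pt q w)
    rw [hgw q] at this
    exact this
  have hC2w₁ : ∀ v, C₂ B₂ w₁ ((g : Matrix (I × J) (I × J) F) *ᵥ v) =
      C₂ B₂ w₁ v - adj B₁ hT.nd₁ θ (C₂ B₂ w v) := by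
    intro v
    apply hT.eq_of_B₁
    intro q
    rw [map_sub, LinearMap.sub_apply, adj_apply, ← B_pt_right hT, ← B_pt_right hT,
      ← B_pt_right hT]
    have e1 : pt q w₁ = (g : Matrix (I × J) (I × J) F) *ᵥ (pt q w₁ - pt (θ q) w) := by
      rw [Matrix.mulVec_sub, hg1 q, hgw (θ q)]
      abel
    have e2 : B ((g : Matrix (I × J) (I × J) F) *ᵥ v) (pt q w₁) =
        B ((g : Matrix (I × J) (I × J) F) *ᵥ v)
          ((g : Matrix (I × J) (I × J) F) *ᵥ (pt q w₁ - pt (θ q) w)) := by rw [← e1]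
    rw [e2, hg, map_sub]
  have hconj : Acts (g * krL (1 : (I → F) ≃ₗ[F] (I → F)) (sieg B₂ hS₂ h2 w w₁ hw hww₁) * g⁻¹)
      ((Ξ B₂ LinearMap.id w w₁ - Ξ B₂ LinearMap.id w₁ w -
        (B₂ w₁ w₁ / 2) • Ξ B₂ LinearMap.id w w) + Ξ B₂ (adj B₁ hT.nd₁ θ - θ) w w) := by
    apply hs.conj
    intro v
    simp only [LinearMap.add_apply, LinearMap.sub_apply, LinearMap.smul_apply, Xi_apply, hC2w,
      hC2w₁, LinearMap.id_apply, map_sub, pt_sub_left, Matrix.mulVec_sub, Matrix.mulVec_smul,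
      Matrix.mulVec_add, hgw, hg1]
    module
  have hZN : Ξ B₂ (adj B₁ hT.nd₁ θ - θ) w w ∘ₗ
      (Ξ B₂ LinearMap.id w w₁ - Ξ B₂ LinearMap.id w₁ w -
        (B₂ w₁ w₁ / 2) • Ξ B₂ LinearMap.id w w) = 0 := by
    simp only [LinearMap.comp_sub, LinearMap.comp_smul, Xi_comp, hw, hw₁w, zero_smul, smul_zero,
      sub_zero]
  have hζ := Acts.div_right hconj hs hZN
  have hζH : g * krL (1 : (I → F) ≃ₗ[F] (I → F)) (sieg B₂ hS₂ h2 w w₁ hw hww₁) * g⁻¹ *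
      (krL (1 : (I → F) ≃ₗ[F] (I → F)) (sieg B₂ hS₂ h2 w w₁ hw hww₁))⁻¹ ∈ H :=
    H.mul_mem (H.mul_mem (H.mul_mem hgH hsH) (H.inv_mem hgH)) (H.inv_mem hsH)
  have h0 := ZW_trivial hT hA₁ hS₂ H hMH hH hodd h2 hnot w hw0 hw _ _ hζH hζ
  apply selfadj_scalar_dim2 B₁ hA₁ hT.nd₁ h2 hI2 θ
  intro x y
  have e : adj B₁ hT.nd₁ θ = θ := sub_eq_zero.mp h0
  have := adj_apply B₁ hT.nd₁ θ x y
  rw [e] at this
  exact this

end partII

end Cfsg.Agent.Lib.Helper1.TsB
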