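import Mathlib
import Cfsg.Agent.Lib.Helper1.TsB18

/-!
# Part II (`dim U = 2`): the global argument, `Sp(U) ⊗ O(W)` is maximal in `Sp(U ⊗ W)`
-/

set_option autoImplicit false
set_option maxHeartbeats 4000000
set_option maxRecDepth 100000
set_option linter.unusedSimpArgs false
set_option linter.unusedVariables false
set_option linter.unusedSectionVars false
set_option linter.style.longLine false
set_option linter.deprecated false

namespace Cfsg.Agent.Lib.Helper1.TsB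

open Module Matrix
open Cfsg.Agent.Lib.Helper1.TsA
open Cfsg.Agent.Lib.Helper5.AltWitt
open Cfsg.Agent.Lib.Helper8.Tns

local notation "Ξ" => Cfsg.Agent.Lib.Helper1.TsA.Xi

variable {F : Type*} [Field F]
variable {I J : Type} [Fintype I] [DecidableEq I] [Fintype J] [DecidableEq J]

/-! ### rows -/

/-- the `i`-th row of a vector of `I × J → F` -/
def rowv (v : I × J → F) (i : I) : J → F := fun j => v (i, j)

theorem sum_rowv (v : I × J → F) : v = ∑ i, pt (Pi.single i (1 : F)) (rowv v i) := by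
  ext ⟨i, j⟩
  rw [Finset.sum_apply]
  simp only [pt_apply, rowv]
  rw [Finset.sum_eq_single i]
  · simp
  · intro b _ hb
    rw [Pi.single_eq_of_ne hb.symm, zero_mul]
  · intro h
    exact absurd (Finset.mem_univ i) h

/-- `1 ⊗ E` fixes a vector all of whose rows are fixed by `E` -/
theorem krL_fix_of_rows (E : (J → F) ≃ₗ[F] (J → F)) (v : I × J → F)
    (h : ∀ i, E (rowv v i) = rowv v i) :
    (krL (1 : (I → F) ≃ₗ[F] (I → F)) E : Matrix (I × J) (I × J) F) *ᵥ v = v := by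
  have e1 : ∀ x : I → F, (1 : (I → F) ≃ₗ[F] (I → F)) x = x := fun _ => rfl
  nth_rewrite 1 [sum_rowv v]
  rw [Matrix.mulVec_sum]
  nth_rewrite 2 [sum_rowv v]
  apply Finset.sum_congr rfl
  intro i _
  rw [krL_pt, e1, h i]

section partII

variable {B : LinearMap.BilinForm F (I × J → F)} {B₁ : LinearMap.BilinForm F (I → F)}
  {B₂ : LinearMap.BilinForm F (J → F)} (hT : TS B B₁ B₂)
  (hA₁ : B₁.IsAlt) (hS₂ : ∀ x y, B₂ x y = B₂ y x)
  (H : Subgroup (GL (I × J) F)) (hMH : krSub I J F ⊓ SpG B ≤ H) (hH : H ≤ SpG B)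

include hT hA₁ hS₂ hMH hH in
/-- **(G1)** conjugates of Siegel elements by elements outside `krSub` are outside `krSub` -/
theorem conj_not_mem_II [Fintype F] (hodd : Fintype.card F % 2 = 1) (h2 : (2 : F) ≠ 0)
    (hI2 : Fintype.card I = 2) (hJ : 5 ≤ Fintype.card J) (hnot : ¬ SpG B ≤ H)
    (h : GL (I × J) F) (hh : h ∈ H) (hnk : h ∉ krSub I J F) (w₁ v : J → F) (hw₁0 : w₁ ≠ 0)
    (hw₁ : B₂ w₁ w₁ = 0) (hw₁v : B₂ w₁ v = 0) (hv : B₂ v v ≠ 0) :
    h⁻¹ * krL (1 : (I → F) ≃ₗ[F] (I → F)) (sieg B₂ hS₂ h2 w₁ v hw₁ hw₁v) * h ∉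
      krSub I J F := by
  intro hmem
  obtain ⟨α, β, hy⟩ := mem_krSub.mp hmem
  obtain ⟨i₀⟩ : Nonempty I := by
    rw [← Fintype.card_pos_iff]
    omega
  have hvw₁ : B₂ v w₁ = 0 := by rw [hS₂, hw₁v]
  have hxA := Acts_krL_sieg (I := I) hS₂ h2 w₁ v hw₁ hw₁v
  obtain ⟨Nx, hNxdef⟩ : ∃ Nx : (I × J → F) →ₗ[F] (I × J → F), Nx =
      Ξ B₂ LinearMap.id w₁ v - Ξ B₂ LinearMap.id v w₁ -
        (B₂ v v / 2) • Ξ B₂ LinearMap.id w₁ w₁ := ⟨_, rfl⟩
  rw [← hNxdef] at hxA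
  have hyv : ∀ t : I × J → F,
      ((kr α β : GL (I × J) F) : Matrix (I × J) (I × J) F) *ᵥ t - t =
        ((h⁻¹ : GL (I × J) F) : Matrix (I × J) (I × J) F) *ᵥ
          Nx ((h : Matrix (I × J) (I × J) F) *ᵥ t) := by
    intro t
    rw [← hy, Units.val_mul, Units.val_mul, ← Matrix.mulVec_mulVec, ← Matrix.mulVec_mulVec,
      hxA ((h : Matrix (I × J) (I × J) F) *ᵥ t), Matrix.mulVec_add, inv_mulVec_mulVec,
      add_sub_cancel_left]
  -- the `I`-side is scalar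
  have hNxmem : ∀ t, Nx t ∈ Aw (I := I) w₁ ⊔ Aw (I := I) v := by
    intro t
    rw [hNxdef]
    simp only [LinearMap.sub_apply, LinearMap.smul_apply, Xi_apply, LinearMap.id_apply]
    have e : pt (C₂ B₂ v t) w₁ - pt (C₂ B₂ w₁ t) v - (B₂ v v / 2) • pt (C₂ B₂ w₁ t) w₁ =
        pt (C₂ B₂ v t - (B₂ v v / 2) • C₂ B₂ w₁ t) w₁ + pt (-C₂ B₂ w₁ t) v := by
      rw [pt_sub_left, pt_smul_left, pt_neg_left']
      abel
    rw [e]
    exact Submodule.add_mem _ (Submodule.mem_sup_left (mem_Aw.mpr ⟨_, rfl⟩))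
      (Submodule.mem_sup_right (mem_Aw.mpr ⟨_, rfl⟩))
  have hS : finrank F ↥((Aw (I := I) w₁ ⊔ Aw (I := I) v).map
      (gL (h⁻¹ : GL (I × J) F) : (I × J → F) →ₗ[F] (I × J → F))) < Fintype.card J := by
    rw [LinearEquiv.finrank_map_eq]
    have h1 : finrank F ↥(Aw (I := I) w₁ ⊔ Aw (I := I) v) ≤
        finrank F ↥(Aw (I := I) w₁) + finrank F ↥(Aw (I := I) v) :=
      Submodule.finrank_add_le_finrank_add_finrank _ _
    have h3 := finrank_Aw_le (I := I) w₁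
    have h4 := finrank_Aw_le (I := I) v
    omega
  obtain ⟨c, hc⟩ := kr_scalar_of_small α β _ hS (fun t => by
    rw [hyv]
    exact Submodule.mem_map.mpr ⟨_, hNxmem _, rfl⟩)
  obtain ⟨β', hβ'def⟩ : ∃ β' : (J → F) →ₗ[F] (J → F),
      β' = c • Matrix.mulVecLin (β : Matrix J J F) := ⟨_, rfl⟩
  have hβ'a : ∀ a, β' a = c • ((β : Matrix J J F) *ᵥ a) := by
    intro a
    rw [hβ'def]
    rfl
  have hyp : ∀ (x : I → F) (a : J → F),
      ((kr α β : GL (I × J) F) : Matrix (I × J) (I × J) F) *ᵥ pt x a = pt x (β' a) := by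
    intro x a
    rw [kr_mulVec_pt, hc, Matrix.smul_mulVec, Matrix.one_mulVec, pt_smul_left, hβ'a,
      pt_smul_right]
  -- the square of `x - 1`
  have hNx2 : ∀ t, Nx (Nx t) = -(B₂ v v) • pt (C₂ B₂ w₁ t) w₁ := by
    intro t
    have : Nx ∘ₗ Nx = -(B₂ v v) • Ξ B₂ LinearMap.id w₁ w₁ := by
      rw [hNxdef]
      simp only [LinearMap.sub_comp, LinearMap.comp_sub, LinearMap.smul_comp,
        LinearMap.comp_smul, Xi_comp, hw₁, hw₁v, hvw₁, zero_smul, smul_zero, sub_zero, zero_sub,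
        LinearMap.id_comp]
      module
    have h1 := LinearMap.congr_fun this t
    rw [LinearMap.comp_apply, LinearMap.smul_apply, Xi_apply, LinearMap.id_apply] at h1
    exact h1
  have hq : ∀ t : I × J → F,
      ((kr α β : GL (I × J) F) : Matrix (I × J) (I × J) F) *ᵥ
        (((kr α β : GL (I × J) F) : Matrix (I × J) (I × J) F) *ᵥ t - t) -
        (((kr α β : GL (I × J) F) : Matrix (I × J) (I × J) F) *ᵥ t - t) =
      ((h⁻¹ : GL (I × J) F) : Matrix (I × J) (I × J) F) *ᵥ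
        (-(B₂ v v) • pt (C₂ B₂ w₁ ((h : Matrix (I × J) (I × J) F) *ᵥ t)) w₁) := by
    intro t
    rw [hyv (((kr α β : GL (I × J) F) : Matrix (I × J) (I × J) F) *ᵥ t - t), hyv t,
      mulVec_inv_mulVec, hNx2]
  obtain ⟨ψ, hψdef⟩ : ∃ ψ : (J → F) →ₗ[F] (J → F),
      ψ = (β' - LinearMap.id) ∘ₗ (β' - LinearMap.id) := ⟨_, rfl⟩
  have hψa : ∀ a, ψ a = β' (β' a - a) - (β' a - a) := by
    intro a
    rw [hψdef]
    rfl
  have hqpt : ∀ (x : I → F) (a : J → F), pt x (ψ a) =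
      ((h⁻¹ : GL (I × J) F) : Matrix (I × J) (I × J) F) *ᵥ
        (-(B₂ v v) • pt (C₂ B₂ w₁ ((h : Matrix (I × J) (I × J) F) *ᵥ pt x a)) w₁) := by
    intro x a
    rw [← hq (pt x a), hyp, ← pt_sub_right, hyp, ← pt_sub_right, hψa]
  obtain ⟨ws, hws⟩ := exists_partner B₂ hT.nd₂ w₁ hw₁0 1
  have hwsw₁ : B₂ ws w₁ = 1 := by rw [hS₂, hws]
  have hx₀ : (Pi.single i₀ (1 : F) : I → F) ≠ 0 := single_ne_zero' i₀
  obtain ⟨a₀, ha₀⟩ : ∃ a₀, ψ a₀ ≠ 0 := by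
    by_contra hcon
    push Not at hcon
    have hall : ∀ t : I × J → F,
        ((kr α β : GL (I × J) F) : Matrix (I × J) (I × J) F) *ᵥ
          (((kr α β : GL (I × J) F) : Matrix (I × J) (I × J) F) *ᵥ t - t) -
          (((kr α β : GL (I × J) F) : Matrix (I × J) (I × J) F) *ᵥ t - t) = 0 := by
      have : (Matrix.mulVecLin ((kr α β : GL (I × J) F) : Matrix (I × J) (I × J) F) -
          LinearMap.id) ∘ₗ (Matrix.mulVecLin ((kr α β : GL (I × J) F) :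
            Matrix (I × J) (I × J) F) - LinearMap.id) = 0 := by
        apply lin_ext_pt
        intro x a
        simp only [LinearMap.comp_apply, LinearMap.sub_apply, Matrix.mulVecLin_apply,
          LinearMap.id_apply, LinearMap.zero_apply]
        rw [hyp, ← pt_sub_right, hyp, ← pt_sub_right, ← hψa, hcon, pt_zero_right]
      intro t
      exact LinearMap.congr_fun this t
    have h5 := hq (((h⁻¹ : GL (I × J) F) : Matrix (I × J) (I × J) F) *ᵥ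
      pt (Pi.single i₀ (1 : F)) ws)
    rw [hall, mulVec_inv_mulVec, C₂_pt, hwsw₁, one_smul] at h5
    have h6 := congrArg (fun t => (h : Matrix (I × J) (I × J) F) *ᵥ t) h5
    simp only [Matrix.mulVec_zero, mulVec_inv_mulVec] at h6
    rcases smul_eq_zero.mp h6.symm with h7 | h7
    · exact hv (neg_eq_zero.mp h7)
    · exact pt_ne_zero hx₀ hw₁0 h7
  have hmap : ∀ x : I → F, ∃ x' : I → F,
      (h : Matrix (I × J) (I × J) F) *ᵥ pt x (ψ a₀) = pt x' w₁ := by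
    intro x
    refine ⟨-(B₂ v v) • C₂ B₂ w₁ ((h : Matrix (I × J) (I × J) F) *ᵥ pt x a₀), ?_⟩
    rw [hqpt x a₀, mulVec_inv_mulVec, pt_smul_left]
  have hw₀s : B₂ (ψ a₀) (ψ a₀) = 0 := by
    obtain ⟨xp, hxp⟩ := exists_partner B₁ hT.nd₁ _ hx₀ 1
    obtain ⟨y₁, hy₁⟩ := hmap (Pi.single i₀ (1 : F))
    obtain ⟨y₂, hy₂⟩ := hmap xp
    have := (mem_SpG.mp (hH hh)) (pt (Pi.single i₀ (1 : F)) (ψ a₀)) (pt xp (ψ a₀))
    rw [hy₁, hy₂, hT.tens, hT.tens, hw₁, mul_zero, hxp, one_mul] at this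
    exact this.symm
  apply hnk
  exact stab_mem_II hT hA₁ hS₂ H hMH hH hodd h2 hI2 (by omega) hnot h hh w₁ (ψ a₀) hw₁0 ha₀ hw₁
    hw₀s hmap

include hT hA₁ hS₂ hMH hH in
/-- **(G3)** an element of `H` fixing a non-zero vector of `U ⊗ w` lies in `krSub` -/
theorem cross_fix_II [Fintype F] (hodd : Fintype.card F % 2 = 1) (h2 : (2 : F) ≠ 0)
    (hI2 : Fintype.card I = 2) (hJ : 7 ≤ Fintype.card J) (hnot : ¬ SpG B ≤ H)
    (h : GL (I × J) F) (hh : h ∈ H) (w : J → F) (hw0 : w ≠ 0) (hw : B₂ w w = 0)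
    (x₀ : I → F) (hx₀ : x₀ ≠ 0)
    (hfix : (h : Matrix (I × J) (I × J) F) *ᵥ pt x₀ w = pt x₀ w) : h ∈ krSub I J F := by
  by_contra hnk
  obtain ⟨x₁, hx₁⟩ := exists_partner B₁ hT.nd₁ x₀ hx₀ 1
  obtain ⟨v₁, hv₁def⟩ : ∃ v₁ : I × J → F, v₁ = (h : Matrix (I × J) (I × J) F) *ᵥ pt x₁ w :=
    ⟨_, rfl⟩
  have e := (Fintype.equivFinOfCardEq hI2).symm
  obtain ⟨c, hcdef⟩ : ∃ c : Fin 3 → (J → F), c = Fin.cons w (fun k : Fin 2 => rowv v₁ (e k)) :=
    ⟨_, rfl⟩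
  have hc0 : c 0 = w := by rw [hcdef]; rfl
  have hcs : ∀ k : Fin 2, c k.succ = rowv v₁ (e k) := by
    intro k
    rw [hcdef]
    rfl
  obtain ⟨w₁, v, hcw₁, hcv, hw₁0, hw₁, hw₁v, hv⟩ := exists_sieg_pair B₂ hodd hS₂ hT.nd₂ h2 c
    (by rw [finrank_fintype_fun_eq_card]; omega) (by rw [finrank_fintype_fun_eq_card]; omega)
  have hww₁ : B₂ w w₁ = 0 := by rw [← hc0]; exact hcw₁ 0
  have hwv : B₂ w v = 0 := by rw [← hc0]; exact hcv 0
  have hrw₁ : ∀ i, B₂ (rowv v₁ i) w₁ = 0 := by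
    intro i
    have := hcw₁ (e.symm i).succ
    rwa [hcs, Equiv.apply_symm_apply] at this
  have hrv : ∀ i, B₂ (rowv v₁ i) v = 0 := by
    intro i
    have := hcv (e.symm i).succ
    rwa [hcs, Equiv.apply_symm_apply] at this
  have hxH : krL (1 : (I → F) ≃ₗ[F] (I → F)) (sieg B₂ hS₂ h2 w₁ v hw₁ hw₁v) ∈ H :=
    hT.krL_mem_H H hMH 1 _ (fun _ _ => rfl) (sieg_isom B₂ hS₂ h2 w₁ v hw₁ hw₁v)
  have hynk := conj_not_mem_II hT hA₁ hS₂ H hMH hH hodd h2 hI2 (by omega) hnot h hh hnk w₁ v hw₁0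
    hw₁ hw₁v hv
  have hyH : h⁻¹ * krL (1 : (I → F) ≃ₗ[F] (I → F)) (sieg B₂ hS₂ h2 w₁ v hw₁ hw₁v) * h ∈ H :=
    H.mul_mem (H.mul_mem (H.inv_mem hh) hxH) hh
  -- the Siegel element fixes `U ⊗ w` and `v₁`
  have hxw : ∀ x : I → F, (krL (1 : (I → F) ≃ₗ[F] (I → F)) (sieg B₂ hS₂ h2 w₁ v hw₁ hw₁v) :
      Matrix (I × J) (I × J) F) *ᵥ pt x w = pt x w := by
    intro x
    have e1 : (1 : (I → F) ≃ₗ[F] (I → F)) x = x := rfl
    rw [krL_pt, e1, sieg_apply]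
    simp only [hww₁, hwv, zero_smul, mul_zero, add_zero, sub_zero]
  have hxv₁ : (krL (1 : (I → F) ≃ₗ[F] (I → F)) (sieg B₂ hS₂ h2 w₁ v hw₁ hw₁v) :
      Matrix (I × J) (I × J) F) *ᵥ v₁ = v₁ := by
    apply krL_fix_of_rows
    intro i
    rw [sieg_apply]
    simp only [hrw₁ i, hrv i, zero_smul, mul_zero, add_zero, sub_zero]
  apply hynk
  apply stab_mem_aux_II hT hA₁ hS₂ H hMH hH hodd h2 hI2 (by omega) hnot _ hyH w hw0 hw
  intro x
  refine ⟨x, ?_⟩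
  have hdec := dim2_decomp B₁ hA₁ (by rw [finrank_fintype_fun_eq_card, hI2]) x₀ x₁ hx₁ x
  have e3 : (h : Matrix (I × J) (I × J) F) *ᵥ pt x w =
      B₁ x x₁ • pt x₀ w - B₁ x x₀ • v₁ := by
    nth_rewrite 1 [hdec]
    rw [pt_sub_left, pt_smul_left, pt_smul_left, Matrix.mulVec_sub, Matrix.mulVec_smul,
      Matrix.mulVec_smul, hfix, ← hv₁def]
  rw [Units.val_mul, Units.val_mul, ← Matrix.mulVec_mulVec, ← Matrix.mulVec_mulVec, e3,
    Matrix.mulVec_sub, Matrix.mulVec_smul, Matrix.mulVec_smul, hxw, hxv₁, ← e3, inv_mulVec_mulVec]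

include hT hA₁ hS₂ hMH hH in
/-- an overgroup of the Kronecker group not containing `Sp` lies in the Kronecker group -/
theorem le_krSub_II [Fintype F] (hodd : Fintype.card F % 2 = 1) (h2 : (2 : F) ≠ 0)
    (hI2 : Fintype.card I = 2) (hJ : 7 ≤ Fintype.card J) (hnot : ¬ SpG B ≤ H) :
    H ≤ krSub I J F := by
  intro h hh
  by_contra hnk
  obtain ⟨i₀⟩ : Nonempty I := by
    rw [← Fintype.card_pos_iff]
    omega
  have hx₀ : (Pi.single i₀ (1 : F) : I → F) ≠ 0 := single_ne_zero' i₀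
  obtain ⟨w', hw'0, hw'⟩ := exists_singular B₂ hodd hS₂ hT.nd₂ h2
    (by rw [finrank_fintype_fun_eq_card]; omega)
  obtain ⟨v₀, hv₀def⟩ : ∃ v₀ : I × J → F,
      v₀ = (h : Matrix (I × J) (I × J) F) *ᵥ pt (Pi.single i₀ (1 : F)) w' := ⟨_, rfl⟩
  have e := (Fintype.equivFinOfCardEq hI2).symm
  obtain ⟨w₁, v, hcw₁, hcv, hw₁0, hw₁, hw₁v, hv⟩ := exists_sieg_pair B₂ hodd hS₂ hT.nd₂ h2
    (fun k : Fin 2 => rowv v₀ (e k))
    (by rw [finrank_fintype_fun_eq_card]; omega) (by rw [finrank_fintype_fun_eq_card]; omega)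
  have hrw₁ : ∀ i, B₂ (rowv v₀ i) w₁ = 0 := by
    intro i
    have := hcw₁ (e.symm i)
    rwa [Equiv.apply_symm_apply] at this
  have hrv : ∀ i, B₂ (rowv v₀ i) v = 0 := by
    intro i
    have := hcv (e.symm i)
    rwa [Equiv.apply_symm_apply] at this
  have hxH : krL (1 : (I → F) ≃ₗ[F] (I → F)) (sieg B₂ hS₂ h2 w₁ v hw₁ hw₁v) ∈ H :=
    hT.krL_mem_H H hMH 1 _ (fun _ _ => rfl) (sieg_isom B₂ hS₂ h2 w₁ v hw₁ hw₁v)
  have hynk := conj_not_mem_II hT hA₁ hS₂ H hMH hH hodd h2 hI2 (by omega) hnot h hh hnk w₁ v hw₁0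
    hw₁ hw₁v hv
  have hyH : h⁻¹ * krL (1 : (I → F) ≃ₗ[F] (I → F)) (sieg B₂ hS₂ h2 w₁ v hw₁ hw₁v) * h ∈ H :=
    H.mul_mem (H.mul_mem (H.inv_mem hh) hxH) hh
  have hxv₀ : (krL (1 : (I → F) ≃ₗ[F] (I → F)) (sieg B₂ hS₂ h2 w₁ v hw₁ hw₁v) :
      Matrix (I × J) (I × J) F) *ᵥ v₀ = v₀ := by
    apply krL_fix_of_rows
    intro i
    rw [sieg_apply]
    simp only [hrw₁ i, hrv i, zero_smul, mul_zero, add_zero, sub_zero]
  apply hynk
  apply cross_fix_II hT hA₁ hS₂ H hMH hH hodd h2 hI2 hJ hnot _ hyH w' hw'0 hw' _ hx₀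
  rw [Units.val_mul, Units.val_mul, ← Matrix.mulVec_mulVec, ← Matrix.mulVec_mulVec, ← hv₀def,
    hxv₀, hv₀def, inv_mulVec_mulVec]

include hT hA₁ hS₂ in
/-- a transvection with pure centre lies outside the Kronecker group -/
theorem exists_not_mem_krSub_II (hI2 : Fintype.card I = 2) (hJ : 2 ≤ Fintype.card J) :
    ∃ g ∈ SpG B, g ∉ krSub I J F := by
  obtain ⟨j₀⟩ : Nonempty J := by
    rw [← Fintype.card_pos_iff]
    omega
  obtain ⟨i₀⟩ : Nonempty I := by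
    rw [← Fintype.card_pos_iff]
    omega
  obtain ⟨w₀, hw₀def⟩ : ∃ w₀ : J → F, w₀ = Pi.single j₀ (1 : F) := ⟨_, rfl⟩
  have hw₀ : w₀ ≠ 0 := by
    rw [hw₀def]
    exact single_ne_zero' j₀
  obtain ⟨x₀, hx₀def⟩ : ∃ x₀ : I → F, x₀ = Pi.single i₀ (1 : F) := ⟨_, rfl⟩
  have hx₀ : x₀ ≠ 0 := by
    rw [hx₀def]
    exact single_ne_zero' i₀
  obtain ⟨a, hadef⟩ : ∃ a : I × J → F, a = pt x₀ w₀ := ⟨_, rfl⟩
  have ha0 : a ≠ 0 := by
    rw [hadef]
    exact pt_ne_zero hx₀ hw₀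
  obtain ⟨g, hgdef⟩ : ∃ g : GL (I × J) F, g = glOf (tv B hT.altB a 1) := ⟨_, rfl⟩
  have hgv : ∀ t, (g : Matrix (I × J) (I × J) F) *ᵥ t = t + (1 * B t a) • a := by
    intro t
    rw [hgdef, glOf_mulVec, tv_apply]
  refine ⟨g, ?_, ?_⟩
  · rw [mem_SpG]
    intro x y
    rw [hgdef, glOf_mulVec, glOf_mulVec]
    exact tv_isom B hT.altB a 1 x y
  · intro hmem
    obtain ⟨α, β, hαβ⟩ := mem_krSub.mp hmem
    have hS : finrank F ↥(Submodule.span F ({a} : Set (I × J → F))) < Fintype.card J := by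
      have := finrank_span_singleton (K := F) ha0
      rw [this]
      omega
    obtain ⟨c, hc⟩ := kr_scalar_of_small α β (Submodule.span F ({a} : Set (I × J → F))) hS
      (fun t => by
        rw [← hαβ, hgv, add_sub_cancel_left]
        exact Submodule.smul_mem _ _ (Submodule.subset_span rfl))
    obtain ⟨x, hx⟩ := exists_partner B₁ hT.nd₁ x₀ hx₀ (-1)
    have hxx₀ : B₁ x x₀ = 1 := by rw [alt_swap B₁ hA₁, hx, neg_neg]
    obtain ⟨w, hw⟩ := exists_partner B₂ hT.nd₂ w₀ hw₀ 1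
    have hww₀ : B₂ w w₀ = 1 := by rw [hS₂, hw]
    have h1 := hgv (pt x w)
    rw [hαβ, kr_mulVec_pt, hc, Matrix.smul_mulVec, Matrix.one_mulVec, pt_smul_left,
      ← pt_smul_right, hadef, hT.tens, hxx₀, hww₀, mul_one, mul_one, one_smul] at h1
    have h3 := congrArg (C₁ B₁ x) h1
    rw [C₁_pt, map_add, C₁_pt, C₁_pt, hA₁.self_eq_zero, zero_smul, zero_smul, zero_add, hx,
      neg_smul, one_smul] at h3
    apply hw₀
    have := congrArg (fun t => -t) h3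
    simp only [neg_zero, neg_neg] at this
    exact this.symm

include hT hA₁ hS₂ in
/-- **Maximality of `Sp(U) ⊗ O(W)` in `Sp(U ⊗ W)`**, in coordinates, for `dim U = 2` -/
theorem core_II [Fintype F] (hodd : Fintype.card F % 2 = 1) (h2 : (2 : F) ≠ 0)
    (hI2 : Fintype.card I = 2) (hJ : 7 ≤ Fintype.card J) :
    Cfsg.Geo.IsMaximalIn (SpG B) (krSub I J F ⊓ SpG B) := by
  refine ⟨lt_of_le_of_ne inf_le_right ?_, ?_⟩
  · intro heq
    obtain ⟨g, hg, hgn⟩ := exists_not_mem_krSub_II hT hA₁ hS₂ hI2 (by omega)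
    rw [← heq] at hg
    exact hgn hg.1
  · intro M hHM hMK
    by_cases hnot : SpG B ≤ M
    · right
      exact le_antisymm hMK hnot
    · left
      apply le_antisymm _ hHM
      exact le_inf (le_krSub_II hT hA₁ hS₂ M hHM hMK hodd h2 hI2 hJ hnot) hMK

end partII

end Cfsg.Agent.Lib.Helper1.TsB
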