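import Mathlib
import Cfsg.Prelude
import Cfsg.Agent.Lib.Helper1.TsB19
import Cfsg.Agent.Lib.Helper1.TsA14
import Cfsg.Agent.Lib.Helper5.TensorFormSub
import Cfsg.Agent.Lib.Helper5.TensorSwap
import Cfsg.Agent.Lib.Helper5.SympBridge
import Cfsg.Agent.Lib.Helper5.SpCentres
import Cfsg.Agent.Lib.Helper8.Tns9

/-!
# Maximality of `Sp ⊗ O` in `Sp`: transfer to the statement over `Fin m ⊕ Fin m`
-/

set_option autoImplicit false
set_option maxHeartbeats 4000000
set_option maxRecDepth 100000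
set_option linter.unusedSimpArgs false
set_option linter.unusedVariables false
set_option linter.unusedSectionVars false
set_option linter.style.longLine false
set_option linter.deprecated false

namespace Cfsg.Agent.Lib.Helper1.TsB

open Module Matrix
open Cfsg.Agent.Lib.Helper1.TsA
open Cfsg.Agent.Lib.Helper5.TensorSub Cfsg.Agent.Lib.Helper5.TensorFormSub
open Cfsg.Agent.Lib.Helper5.SympBridge Cfsg.Agent.Lib.Helper5.SpCentres
open Cfsg.Agent.Lib.Helper8.Tns

variable {F : Type*} [Field F]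

section transfer

variable {m a b : ℕ} (e : (Fin m ⊕ Fin m) ≃ Fin a × Fin b)
  (P : Matrix.GeneralLinearGroup (Fin m ⊕ Fin m) F)

/-- the pull-back of the standard alternating form to tensor coordinates -/
noncomputable def pb : LinearMap.BilinForm F (Fin a × Fin b → F) :=
  (sympBilin F m).compl₁₂ (embL e P) (embL e P)

theorem pb_apply (x y : Fin a × Fin b → F) :
    pb e P x y = Cfsg.sympForm m F (emb e P x) (emb e P y) := rfl

theorem SpG_map_Phi :
    (SpG (pb e P)).map (Phi e P).toMonoidHom = Cfsg.spGL m F := by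
  ext g
  rw [Subgroup.mem_map]
  constructor
  · rintro ⟨x, hx, rfl⟩
    rw [mem_spGL_iff]
    intro u v
    obtain ⟨u', rfl⟩ := emb_surjective e P u
    obtain ⟨v', rfl⟩ := emb_surjective e P v
    show Cfsg.sympForm m F
      (((Phi e P x : Matrix.GeneralLinearGroup (Fin m ⊕ Fin m) F) :
        Matrix (Fin m ⊕ Fin m) (Fin m ⊕ Fin m) F) *ᵥ emb e P u')
      (((Phi e P x : Matrix.GeneralLinearGroup (Fin m ⊕ Fin m) F) :
        Matrix (Fin m ⊕ Fin m) (Fin m ⊕ Fin m) F) *ᵥ emb e P v') = _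
    rw [Phi_emb, Phi_emb]
    exact (mem_SpG.mp hx) u' v'
  · intro hg
    refine ⟨(Phi e P).symm g, ?_, by simp⟩
    rw [mem_SpG]
    intro x y
    rw [pb_apply, pb_apply]
    have h1 := (mem_spGL_iff m g).mp hg (emb e P x) (emb e P y)
    have e1 : g = Phi e P ((Phi e P).symm g) := by simp
    have h2 := Phi_emb e P ((Phi e P).symm g) x
    have h3 := Phi_emb e P ((Phi e P).symm g) y
    rw [← e1] at h2 h3
    rw [h2, h3] at h1
    exact h1

/-- transfer of the coordinate statement -/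
theorem transfer_core
    (hcore : Cfsg.Geo.IsMaximalIn (SpG (pb e P)) (krSub (Fin a) (Fin b) F ⊓ SpG (pb e P))) :
    Cfsg.Geo.IsMaximalIn (Cfsg.spGL m F)
      (Cfsg.Geo.tensorProductSubgroup a b e P ⊓ Cfsg.spGL m F) := by
  have hmap := Cfsg.Agent.Lib.Helper8.Tns.isMaximalIn_map (Phi e P) hcore
  rw [Subgroup.map_inf _ _ _ (Phi e P).injective, SpG_map_Phi,
    ← Cfsg.Agent.Lib.Helper8.Tns.kroneckerSubgroup_eq, ← tensor_eq] at hmap
  exact hmap

end transfer

section forms

variable {κ : Type} [Fintype κ] [DecidableEq κ]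

theorem bilinOf_nondeg_symm (f : (κ → F) → (κ → F) → F) (hs : Cfsg.Geo.IsSymmetricForm f) :
    (bilinOf f hs.bilinear).Nondegenerate := by
  constructor
  · intro x hx
    by_contra hx0
    obtain ⟨y, hy⟩ := (hs.nondegenerate x hx0).2
    exact hy (hx y)
  · intro x hx
    by_contra hx0
    obtain ⟨y, hy⟩ := (hs.nondegenerate x hx0).1
    exact hy (hx y)

theorem smul_nondeg (B : LinearMap.BilinForm F (κ → F)) (hB : B.Nondegenerate) (c : F)
    (hc : c ≠ 0) : (c • B).Nondegenerate := by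
  constructor
  · intro x hx
    apply hB.1
    intro y
    have := hx y
    rw [LinearMap.smul_apply, LinearMap.smul_apply, smul_eq_mul] at this
    rcases mul_eq_zero.mp this with h | h
    · exact absurd h hc
    · exact h
  · intro x hx
    apply hB.2
    intro y
    have := hx y
    rw [LinearMap.smul_apply, LinearMap.smul_apply, smul_eq_mul] at this
    rcases mul_eq_zero.mp this with h | h
    · exact absurd h hc
    · exact h

end forms

theorem two_ne_zero_of_odd [Fintype F] (hodd : Odd (Fintype.card F)) : (2 : F) ≠ 0 := by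
  intro h0
  have h1 : ringChar F ∣ 2 := ringChar.dvd (by exact_mod_cast h0)
  have h2 : ringChar F = 2 := by
    rcases (Nat.dvd_prime Nat.prime_two).mp h1 with h | h
    · exact absurd h (CharP.ringChar_ne_one)
    · exact h
  have h3 := FiniteField.even_card_iff_char_two.mp h2
  rcases hodd with ⟨k, hk⟩
  omega

/-- **Maximality of the stabiliser of a symplectic-orthogonal tensor decomposition in `Sp`** -/
theorem main_sp_tensor [Fintype F] (m : ℕ) (hm : 7 ≤ m) (hodd : Odd (Fintype.card F))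
    (n₁ n₂ : ℕ) (hn₂ : 3 ≤ n₂) (hex : ¬ (Fintype.card F = 3 ∧ n₂ = 3))
    (e : (Fin m ⊕ Fin m) ≃ Fin n₁ × Fin n₂)
    (P : Matrix.GeneralLinearGroup (Fin m ⊕ Fin m) F)
    (f₁ : (Fin n₁ → F) → (Fin n₁ → F) → F) (f₂ : (Fin n₂ → F) → (Fin n₂ → F) → F)
    (hf₁ : Cfsg.Geo.IsSymplecticForm f₁) (hf₂ : Cfsg.Geo.IsSymmetricForm f₂)
    (hT : Cfsg.Geo.IsTensorFormStructure id (Cfsg.sympForm m F) f₁ f₂ e P) :
    Cfsg.Geo.IsMaximalIn (Cfsg.spGL m F)
      (Cfsg.Geo.tensorProductSubgroup n₁ n₂ e P ⊓ Cfsg.spGL m F) := by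
  have h2 : (2 : F) ≠ 0 := two_ne_zero_of_odd hodd
  have hodd' : Fintype.card F % 2 = 1 := Nat.odd_iff.mp hodd
  have hcard : 2 * m = n₁ * n₂ := by
    have := Fintype.card_congr e
    rw [Fintype.card_sum, Fintype.card_fin, Fintype.card_prod, Fintype.card_fin,
      Fintype.card_fin] at this
    omega
  have hev₁ : Even n₁ := by
    have := even_finrank_of_alt_nondeg (bilinOf f₁ hf₁.bilinear) (bilinOf_alt f₁ hf₁)
      (bilinOf_nondeg f₁ hf₁)
    rwa [finrank_fintype_fun_eq_card, Fintype.card_fin] at this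
  obtain ⟨a, ha⟩ := hev₁
  have ha1 : 1 ≤ a := by
    by_contra h
    have : a = 0 := by omega
    rw [ha, this] at hcard
    omega
  by_cases h4 : 4 ≤ n₁
  · -- Part I: swap the factors
    rw [Cfsg.Agent.Lib.Helper5.TensorSwap.tensor_swap]
    obtain ⟨c, hc0, hc⟩ := Cfsg.Agent.Lib.Helper5.TensorSwap.form_swap e P hT
    apply transfer_core
    obtain ⟨B₁, hB₁⟩ : ∃ B₁ : LinearMap.BilinForm F (Fin n₂ → F),
        B₁ = c • bilinOf f₂ hf₂.bilinear := ⟨_, rfl⟩
    obtain ⟨B₂, hB₂⟩ : ∃ B₂ : LinearMap.BilinForm F (Fin n₁ → F),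
        B₂ = bilinOf f₁ hf₁.bilinear := ⟨_, rfl⟩
    have hB₁a : ∀ x y, B₁ x y = c * f₂ x y := by
      intro x y
      rw [hB₁]
      rfl
    have hB₂a : ∀ x y, B₂ x y = f₁ x y := by
      intro x y
      rw [hB₂]
      rfl
    have hS₁ : ∀ x y, B₁ x y = B₁ y x := by
      intro x y
      rw [hB₁a, hB₁a, hf₂.symm]
    have hA₂ : B₂.IsAlt := by
      rw [hB₂]
      exact bilinOf_alt f₁ hf₁
    have hTS : TS (pb (e.trans (Equiv.prodComm _ _)) P) B₁ B₂ := by
      refine ⟨?_, ?_, ?_, ?_⟩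
      · intro x
        rw [pb_apply]
        exact (sympBilin_isAlt m) _
      · rw [hB₁]
        exact smul_nondeg _ (bilinOf_nondeg_symm f₂ hf₂) c hc0
      · rw [hB₂]
        exact bilinOf_nondeg f₁ hf₁
      · intro u u' w w'
        rw [pb_apply, hB₁a, hB₂a]
        have := form_pt (f := Cfsg.sympForm m F) (e := e.trans (Equiv.prodComm _ _)) (P := P)
          hf₂.bilinear hf₁.bilinear hc u u' w w'
        rw [mul_assoc]
        exact this
    have hexI : Fintype.card F ≠ 3 ∨ 4 ≤ Fintype.card (Fin n₂) := by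
      rw [Fintype.card_fin]
      by_cases hq : Fintype.card F = 3
      · right
        have : n₂ ≠ 3 := fun h => hex ⟨hq, h⟩
        omega
      · left
        exact hq
    exact core_I hTS hS₁ hA₂ hodd' h2 (by rw [Fintype.card_fin]; exact hn₂) hexI
      (by rw [Fintype.card_fin]; exact h4)
  · -- Part II: `n₁ = 2`
    have hn₁ : n₁ = 2 := by omega
    have hn₂7 : 7 ≤ n₂ := by
      rw [hn₁] at hcard
      omega
    obtain ⟨c, hc0, hc⟩ := hT
    apply transfer_core
    obtain ⟨B₁, hB₁⟩ : ∃ B₁ : LinearMap.BilinForm F (Fin n₁ → F),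
        B₁ = c • bilinOf f₁ hf₁.bilinear := ⟨_, rfl⟩
    obtain ⟨B₂, hB₂⟩ : ∃ B₂ : LinearMap.BilinForm F (Fin n₂ → F),
        B₂ = bilinOf f₂ hf₂.bilinear := ⟨_, rfl⟩
    have hB₁a : ∀ x y, B₁ x y = c * f₁ x y := by
      intro x y
      rw [hB₁]
      rfl
    have hB₂a : ∀ x y, B₂ x y = f₂ x y := by
      intro x y
      rw [hB₂]
      rfl
    have hA₁ : B₁.IsAlt := by
      intro x
      rw [hB₁a, hf₁.alternating, mul_zero]
    have hS₂ : ∀ x y, B₂ x y = B₂ y x := by
      intro x y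
      rw [hB₂a, hB₂a, hf₂.symm]
    have hTS : TS (pb e P) B₁ B₂ := by
      refine ⟨?_, ?_, ?_, ?_⟩
      · intro x
        rw [pb_apply]
        exact (sympBilin_isAlt m) _
      · rw [hB₁]
        exact smul_nondeg _ (bilinOf_nondeg f₁ hf₁) c hc0
      · rw [hB₂]
        exact bilinOf_nondeg_symm f₂ hf₂
      · intro u u' w w'
        rw [pb_apply, hB₁a, hB₂a]
        have := form_pt (f := Cfsg.sympForm m F) (e := e) (P := P)
          hf₁.bilinear hf₂.bilinear hc u u' w w'
        rw [mul_assoc]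
        exact this
    exact core_II hTS hA₁ hS₂ hodd' h2 (by rw [Fintype.card_fin]; exact hn₁)
      (by rw [Fintype.card_fin]; exact hn₂7)

end Cfsg.Agent.Lib.Helper1.TsB
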