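import Mathlib
import Cfsg.Agent.Lib.Helper1.TsB20

/-!
# Orthogonal geometry over finite fields of odd order: spans of singular vectors, existence lemmas,
transitivity of Siegel elements
-/

set_option autoImplicit false
set_option maxHeartbeats 4000000
set_option maxRecDepth 100000
set_option linter.unusedSimpArgs false
set_option linter.unusedVariables false
set_option linter.unusedSectionVars false
set_option linter.style.longLine false
set_option linter.deprecated false

namespace Cfsg.Agent.Lib.Helper1.TsC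

open Module
open Cfsg.Agent.Lib.Helper1.TsA
open Cfsg.Agent.Lib.Helper1.TsB

variable {F : Type*} [Field F] {V : Type*} [AddCommGroup V] [Module F V]
  (B : LinearMap.BilinForm F V)

/-- decomposition with respect to a hyperbolic pair -/
theorem hyp_decomp (hS : ∀ x y, B x y = B y x) (x x' : V) (hx : B x x = 0) (hx' : B x' x' = 0)
    (hxx' : B x x' = 1) (v : V) :
    ∃ z, B x z = 0 ∧ B x' z = 0 ∧ v = B v x' • x + B v x • x' + z := by
  have hx'x : B x' x = 1 := by rw [hS, hxx']
  refine ⟨v - B v x' • x - B v x • x', ?_, ?_, by abel⟩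
  · simp only [map_sub, map_smul, smul_eq_mul, hx, hxx']
    rw [hS x v]
    ring
  · simp only [map_sub, map_smul, smul_eq_mul, hx', hx'x]
    rw [hS x' v]
    ring

/-- the singular vectors `x + t z - (t² B(z,z)/2) x'` -/
theorem sing_hyp (hS : ∀ x y, B x y = B y x) (h2 : (2 : F) ≠ 0) (x x' z : V) (hx : B x x = 0)
    (hx' : B x' x' = 0) (hxx' : B x x' = 1) (hxz : B x z = 0) (hx'z : B x' z = 0) (t : F) :
    B (x + t • z - (t ^ 2 * B z z / 2) • x') (x + t • z - (t ^ 2 * B z z / 2) • x') = 0 := by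
  have hx'x : B x' x = 1 := by rw [hS, hxx']
  have hzx : B z x = 0 := by rw [hS, hxz]
  have hzx' : B z x' = 0 := by rw [hS, hx'z]
  simp only [map_add, map_sub, map_smul, LinearMap.add_apply, LinearMap.sub_apply,
    LinearMap.smul_apply, smul_eq_mul, hx, hx', hxx', hxz, hx'z, hx'x, hzx, hzx']
  field_simp
  ring

section fin

variable [FiniteDimensional F V]

/-- the orthogonal complement of a hyperbolic pair is non-degenerate -/
theorem perp_hyp_nondeg (hS : ∀ x y, B x y = B y x) (hB : B.Nondegenerate) (w ws : V)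
    (hw : B w w = 0) (hws : B ws ws = 0) (hwws : B w ws = 1) :
    (B.restrict (perpF B ![w, ws])).Nondegenerate := by
  have hrefl : B.IsRefl := by
    intro x y hxy
    rw [hS, hxy]
  apply B.nondegenerate_restrict_of_disjoint_orthogonal hrefl
  rw [Submodule.disjoint_def]
  intro x hx hxo
  apply hB.1
  intro v
  obtain ⟨z, hz1, hz2, hv⟩ := hyp_decomp B hS w ws hw hws hwws v
  have hxT := (mem_perpF B ![w, ws] x).mp hx
  have h0 : B w x = 0 := by simpa using hxT 0
  have h1 : B ws x = 0 := by simpa using hxT 1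
  have hzT : z ∈ perpF B ![w, ws] := by
    rw [mem_perpF]
    intro i
    fin_cases i
    · simpa using hz1
    · simpa using hz2
  have h3 : B z x = 0 := (LinearMap.BilinForm.mem_orthogonal_iff.mp hxo) z hzT
  rw [hv]
  simp only [map_add, map_smul, smul_eq_mul, hS x w, hS x ws, hS x z, h0, h1, h3, mul_zero,
    add_zero]

theorem perp_hyp_finrank (hB : B.Nondegenerate) (w ws : V) :
    finrank F V - 2 ≤ finrank F ↥(perpF B ![w, ws]) :=
  finrank_perpF_ge B hB ![w, ws]

/-- a non-singular vector orthogonal to `k` given vectors -/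
theorem exists_nonsing_perpF (hS : ∀ x y, B x y = B y x) (hB : B.Nondegenerate)
    (h2 : (2 : F) ≠ 0) {k : ℕ} (c : Fin k → V) (hk : 2 * k + 1 ≤ finrank F V) :
    ∃ v, (∀ i, B (c i) v = 0) ∧ B v v ≠ 0 := by
  by_contra hcon
  push Not at hcon
  have hT := finrank_perpF_ge B hB c
  have hts : ∀ x ∈ perpF B c, ∀ y ∈ perpF B c, B x y = 0 := by
    intro x hx y hy
    have h1 := hcon x ((mem_perpF B c x).mp hx)
    have h3 := hcon y ((mem_perpF B c y).mp hy)
    have h4 := hcon (x + y) ((mem_perpF B c (x + y)).mp (Submodule.add_mem _ hx hy))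
    simp only [map_add, LinearMap.add_apply, h1, h3, hS y x, zero_add, add_zero] at h4
    have e2 : (2 : F) * B x y = 0 := by linear_combination h4
    rcases mul_eq_zero.mp e2 with h | h
    · exact absurd h h2
    · exact h
  have := finrank_add_le_of_orth B hB (perpF B c) (perpF B c) hts
  omega

/-- a non-singular vector orthogonal to a totally singular subspace -/
theorem exists_nonsing_perp_ts (hS : ∀ x y, B x y = B y x) (hB : B.Nondegenerate)
    (h2 : (2 : F) ≠ 0)
    (hL : ∀ S : Submodule F V, (∀ x ∈ S, ∀ y ∈ S, B x y = 0) → 2 * finrank F S < finrank F V)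
    (S : Submodule F V) (hSts : ∀ x ∈ S, ∀ y ∈ S, B x y = 0) :
    ∃ z, (∀ s ∈ S, B s z = 0) ∧ B z z ≠ 0 := by
  by_contra hcon
  push Not at hcon
  have hts : ∀ x ∈ B.orthogonal S, ∀ y ∈ B.orthogonal S, B x y = 0 := by
    intro x hx y hy
    have hx' : ∀ s ∈ S, B s x = 0 := fun s hs => (LinearMap.BilinForm.mem_orthogonal_iff.mp hx) s hs
    have hy' : ∀ s ∈ S, B s y = 0 := fun s hs => (LinearMap.BilinForm.mem_orthogonal_iff.mp hy) s hs
    have h1 := hcon x hx'
    have h3 := hcon y hy'
    have h4 := hcon (x + y) (fun s hs => by rw [map_add, hx' s hs, hy' s hs, add_zero])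
    simp only [map_add, LinearMap.add_apply, h1, h3, hS y x, zero_add, add_zero] at h4
    have e2 : (2 : F) * B x y = 0 := by linear_combination h4
    rcases mul_eq_zero.mp e2 with h | h
    · exact absurd h h2
    · exact h
  have h5 := hL _ hts
  have h6 := hL S hSts
  have h7 := LinearMap.BilinForm.finrank_orthogonal hB S
  have h8 : finrank F ↥S ≤ finrank F V := Submodule.finrank_le S
  omega

/-- a non-singular vector orthogonal to a hyperbolic pair -/
theorem exists_nonsing_perp_hyp (hS : ∀ x y, B x y = B y x)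
    (hB : B.Nondegenerate) (h2 : (2 : F) ≠ 0) (hd : 3 ≤ finrank F V) (w ws : V)
    (hw : B w w = 0) (hws : B ws ws = 0) (hwws : B w ws = 1) :
    ∃ z, B z z ≠ 0 ∧ B w z = 0 ∧ B ws z = 0 := by
  have hnd := perp_hyp_nondeg B hS hB w ws hw hws hwws
  have hfr := perp_hyp_finrank B hB w ws
  have hSr : ∀ x y : ↥(perpF B ![w, ws]), (B.restrict (perpF B ![w, ws])) x y =
      (B.restrict (perpF B ![w, ws])) y x := fun x y => hS x.1 y.1
  obtain ⟨z, hz⟩ := exists_nonsing (B.restrict (perpF B ![w, ws])) hSr hnd h2 (by omega)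
  have hzT := (mem_perpF B ![w, ws] z.1).mp z.2
  exact ⟨z.1, hz, by simpa using hzT 0, by simpa using hzT 1⟩

variable [Fintype F]

/-- a linear map vanishing on all singular vectors vanishes -/
theorem eq_zero_of_singular (hodd : Fintype.card F % 2 = 1) (hS : ∀ x y, B x y = B y x)
    (hB : B.Nondegenerate) (h2 : (2 : F) ≠ 0) (hd : 3 ≤ finrank F V)
    {X : Type*} [AddCommGroup X] [Module F X] (Ψ : V →ₗ[F] X)
    (h : ∀ s, B s s = 0 → Ψ s = 0) : Ψ = 0 := by
  obtain ⟨x, hx0, hx⟩ := exists_singular B hodd hS hB h2 hd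
  obtain ⟨x', hxx', hx'⟩ := singular_partner B hS hB h2 x hx0 hx
  apply LinearMap.ext
  intro v
  obtain ⟨z, hz1, hz2, hv⟩ := hyp_decomp B hS x x' hx hx' hxx' v
  have h1 := h _ (sing_hyp B hS h2 x x' z hx hx' hxx' hz1 hz2 1)
  rw [map_sub, map_add, map_smul, map_smul, h x hx, h x' hx', one_smul, smul_zero, sub_zero,
    zero_add] at h1
  rw [hv, map_add, map_add, map_smul, map_smul, h x hx, h x' hx', h1]
  simp

/-- a linear map vanishing on `w` and on the singular vectors not orthogonal to `w` vanishes -/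
theorem eq_zero_of_singular_nonorth (hS : ∀ x y, B x y = B y x) (hB : B.Nondegenerate)
    (h2 : (2 : F) ≠ 0) (w : V) (hw0 : w ≠ 0) (hw : B w w = 0)
    {X : Type*} [AddCommGroup X] [Module F X] (Ψ : V →ₗ[F] X) (hΨw : Ψ w = 0)
    (h : ∀ s, B s s = 0 → B s w ≠ 0 → Ψ s = 0) : Ψ = 0 := by
  obtain ⟨ws, hwws, hws⟩ := singular_partner B hS hB h2 w hw0 hw
  have hwsw : B ws w = 1 := by rw [hS, hwws]
  have hΨws : Ψ ws = 0 := h ws hws (by rw [hwsw]; exact one_ne_zero)
  apply LinearMap.ext
  intro v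
  obtain ⟨z, hz1, hz2, hv⟩ := hyp_decomp B hS ws w hws hw hwsw v
  have hs := sing_hyp B hS h2 ws w z hws hw hwsw hz1 hz2 1
  have hne : B (ws + (1 : F) • z - ((1 : F) ^ 2 * B z z / 2) • w) w ≠ 0 := by
    rw [map_sub, map_add, map_smul, map_smul, LinearMap.sub_apply, LinearMap.add_apply,
      LinearMap.smul_apply, LinearMap.smul_apply, hwsw, hw, hS z w, hz2]
    simp
  have h1 := h _ hs hne
  rw [map_sub, map_add, map_smul, map_smul, hΨws, hΨw, one_smul, smul_zero, sub_zero,
    zero_add] at h1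
  rw [hv, map_add, map_add, map_smul, map_smul, hΨws, hΨw, h1]
  simp

/-- a linear map vanishing on the singular vectors of `w^⊥` vanishes on `w^⊥` -/
theorem eq_zero_of_singular_perp (hodd : Fintype.card F % 2 = 1) (hS : ∀ x y, B x y = B y x)
    (hB : B.Nondegenerate) (h2 : (2 : F) ≠ 0) (hd : 5 ≤ finrank F V) (w : V) (hw0 : w ≠ 0)
    (hw : B w w = 0) {X : Type*} [AddCommGroup X] [Module F X] (Ψ : V →ₗ[F] X)
    (h : ∀ s, B s s = 0 → B w s = 0 → Ψ s = 0) : ∀ b, B w b = 0 → Ψ b = 0 := by
  obtain ⟨ws, hwws, hws⟩ := singular_partner B hS hB h2 w hw0 hw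
  have hnd := perp_hyp_nondeg B hS hB w ws hw hws hwws
  have hfr := perp_hyp_finrank B hB w ws
  have hSr : ∀ x y : ↥(perpF B ![w, ws]), (B.restrict (perpF B ![w, ws])) x y =
      (B.restrict (perpF B ![w, ws])) y x := fun x y => hS x.1 y.1
  have h0 : Ψ ∘ₗ (perpF B ![w, ws]).subtype = 0 := by
    apply eq_zero_of_singular (B.restrict (perpF B ![w, ws])) hodd hSr hnd h2 (by omega)
    intro s hs
    have hsT := (mem_perpF B ![w, ws] s.1).mp s.2
    have h1 : B w s.1 = 0 := by simpa using hsT 0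
    exact h s.1 hs h1
  intro b hb
  have hbT : b - B b ws • w ∈ perpF B ![w, ws] := by
    rw [mem_perpF]
    intro i
    fin_cases i
    · simp only [Fin.zero_eta, Matrix.cons_val_zero, map_sub, map_smul, hb, hw, smul_zero, sub_zero]
    · simp only [Fin.mk_one, Matrix.cons_val_one, Matrix.cons_val_zero, map_sub, map_smul,
        smul_eq_mul, hS ws w, hwws, mul_one, hS ws b, sub_self]
  have h1 := LinearMap.congr_fun h0 ⟨_, hbT⟩
  simp only [LinearMap.comp_apply, Submodule.subtype_apply, LinearMap.zero_apply] at h1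
  rw [map_sub, map_smul, h w hw hw, smul_zero, sub_zero] at h1
  exact h1

/-- a singular vector orthogonal to a hyperbolic pair -/
theorem exists_singular_perp_hyp (hodd : Fintype.card F % 2 = 1) (hS : ∀ x y, B x y = B y x)
    (hB : B.Nondegenerate) (h2 : (2 : F) ≠ 0) (hd : 5 ≤ finrank F V) (w ws : V)
    (hw : B w w = 0) (hws : B ws ws = 0) (hwws : B w ws = 1) :
    ∃ e, e ≠ 0 ∧ B e e = 0 ∧ B w e = 0 ∧ B ws e = 0 := by
  have hnd := perp_hyp_nondeg B hS hB w ws hw hws hwws
  have hfr := perp_hyp_finrank B hB w ws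
  have hSr : ∀ x y : ↥(perpF B ![w, ws]), (B.restrict (perpF B ![w, ws])) x y =
      (B.restrict (perpF B ![w, ws])) y x := fun x y => hS x.1 y.1
  obtain ⟨e, he0, he⟩ := exists_singular (B.restrict (perpF B ![w, ws])) hodd hSr hnd h2
    (by omega)
  have heT := (mem_perpF B ![w, ws] e.1).mp e.2
  refine ⟨e.1, fun h0 => he0 (Subtype.ext h0), he, by simpa using heT 0, by simpa using heT 1⟩

/-- a singular and a non-singular vector, orthogonal to each other and to `k` given vectors -/
theorem exists_sieg_pair' (hodd : Fintype.card F % 2 = 1) (hS : ∀ x y, B x y = B y x)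
    (hB : B.Nondegenerate) (h2 : (2 : F) ≠ 0) {k : ℕ} (c : Fin k → V)
    (hk1 : 2 * k + 1 ≤ finrank F V) (hk2 : k + 3 ≤ finrank F V) :
    ∃ p z, (∀ i, B (c i) p = 0) ∧ (∀ i, B (c i) z = 0) ∧ p ≠ 0 ∧ B p p = 0 ∧ B p z = 0 ∧
      B z z ≠ 0 := by
  have hT := finrank_perpF_ge B hB c
  by_cases hrad : ∃ x ∈ perpF B c, x ≠ 0 ∧ ∀ t ∈ perpF B c, B x t = 0
  · obtain ⟨x, hxT, hx0, hxr⟩ := hrad
    obtain ⟨z, hzc, hz⟩ := exists_nonsing_perpF B hS hB h2 c hk1
    have hzT : z ∈ perpF B c := (mem_perpF B c z).mpr hzc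
    exact ⟨x, z, (mem_perpF B c x).mp hxT, hzc, hx0, hxr x hxT, hxr z hzT, hz⟩
  · push Not at hrad
    have hdisj : Disjoint (perpF B c) (B.orthogonal (perpF B c)) := by
      rw [Submodule.disjoint_def]
      intro x hx hxo
      by_contra hx0
      obtain ⟨t, ht, hxt⟩ := hrad x hx hx0
      apply hxt
      rw [hS]
      exact (LinearMap.BilinForm.mem_orthogonal_iff.mp hxo) t ht
    have hrefl : B.IsRefl := by
      intro x y hxy
      rw [hS, hxy]
    have hnd := B.nondegenerate_restrict_of_disjoint_orthogonal hrefl hdisj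
    have hSr : ∀ x y : ↥(perpF B c), (B.restrict (perpF B c)) x y =
        (B.restrict (perpF B c)) y x := fun x y => hS x.1 y.1
    obtain ⟨p, hp0, hp⟩ := exists_singular (B.restrict (perpF B c)) hodd hSr hnd h2 (by omega)
    obtain ⟨z, hzp, hz⟩ := exists_nonsing_perpF (B.restrict (perpF B c)) hSr hnd h2 ![p]
      (by omega)
    have hpz : B p.1 z.1 = 0 := by simpa using hzp 0
    exact ⟨p.1, z.1, (mem_perpF B c p.1).mp p.2, (mem_perpF B c z.1).mp z.2,
      fun h0 => hp0 (Subtype.ext h0), hp, hpz, hz⟩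

end fin

/-- Siegel elements are transitive on singular points -/
theorem exists_sieg_move [FiniteDimensional F V] (hS : ∀ x y, B x y = B y x)
    (hB : B.Nondegenerate) (h2 : (2 : F) ≠ 0) (hd : 3 ≤ finrank F V) (f f' : V) (hf0 : f ≠ 0)
    (hf'0 : f' ≠ 0) (hf : B f f = 0) (hf' : B f' f' = 0) :
    ∃ (e z : V) (he : B e e = 0) (hez : B e z = 0) (c : F), c ≠ 0 ∧
      sieg B hS h2 e z he hez f = c • f' := by
  by_cases hdep : ∃ a : F, f' = a • f
  · obtain ⟨a, ha⟩ := hdep
    have ha0 : a ≠ 0 := by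
      intro h0
      rw [h0, zero_smul] at ha
      exact hf'0 ha
    refine ⟨f, 0, hf, by simp, a⁻¹, inv_ne_zero ha0, ?_⟩
    rw [sieg_apply, ha, smul_smul, inv_mul_cancel₀ ha0, one_smul]
    simp
  · push Not at hdep
    have hli : LinearIndependent F ![f, f'] := pair_indep_of_not_smul hf0 hdep
    -- a singular vector non-orthogonal to both
    obtain ⟨e, he, hef, hef'⟩ : ∃ e, B e e = 0 ∧ B e f ≠ 0 ∧ B e f' ≠ 0 := by
      by_cases hff' : B f f' = 0
      · obtain ⟨e', he'⟩ := exists_prescribed B hB ![f, f'] hli ![1, 1]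
        have h0 : B f e' = 1 := by simpa using he' 0
        have h1 : B f' e' = 1 := by simpa using he' 1
        refine ⟨e' - (B e' e' / 2) • f, ?_, ?_, ?_⟩
        · simp only [map_sub, map_smul, LinearMap.sub_apply, LinearMap.smul_apply, smul_eq_mul,
            hf, h0, hS e' f, mul_zero, mul_one, sub_zero]
          field_simp
          ring
        · rw [map_sub, map_smul, LinearMap.sub_apply, LinearMap.smul_apply, hf, hS e' f, h0]
          simp
        · rw [map_sub, map_smul, LinearMap.sub_apply, LinearMap.smul_apply, hff', hS e' f', h1]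
          simp
      · -- a non-singular vector orthogonal to `f, f'`
        have hw' : B ((B f f')⁻¹ • f') ((B f f')⁻¹ • f') = 0 := by
          simp [hf']
        have hww' : B f ((B f f')⁻¹ • f') = 1 := by
          rw [map_smul, smul_eq_mul, inv_mul_cancel₀ hff']
        obtain ⟨z₀, hz₀, hfz₀, hf'z₀'⟩ := exists_nonsing_perp_hyp B hS hB h2 hd f
          ((B f f')⁻¹ • f') hf hw' hww'
        have hf'z₀ : B f' z₀ = 0 := by
          rw [map_smul, LinearMap.smul_apply, smul_eq_mul] at hf'z₀'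
          rcases mul_eq_zero.mp hf'z₀' with h | h
          · exact absurd h (inv_ne_zero hff')
          · exact h
        refine ⟨sieg B hS h2 f z₀ hf hfz₀ f', ?_, ?_, ?_⟩
        · rw [sieg_isom, hf']
        · have e1 : sieg B hS h2 f z₀ hf hfz₀ f = f := by
            rw [sieg_apply, hf, hfz₀]
            simp
          have := sieg_isom B hS h2 f z₀ hf hfz₀ f' f
          rw [e1] at this
          rw [this, hS]
          exact hff'
        · rw [sieg_apply]
          simp only [map_sub, map_add, map_smul, LinearMap.sub_apply, LinearMap.add_apply,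
            LinearMap.smul_apply, smul_eq_mul, hf', hS z₀ f', hf'z₀, hS f f', mul_zero, zero_mul,
            add_zero, sub_zero, zero_sub, zero_add]
          have : B z₀ z₀ / 2 * B f' f * B f' f ≠ 0 := by
            have h3 : B f' f ≠ 0 := by rw [hS]; exact hff'
            exact mul_ne_zero (mul_ne_zero (div_ne_zero hz₀ h2) h3) h3
          intro h0
          apply this
          linear_combination (-1 : F) * h0
    obtain ⟨a, hadef⟩ : ∃ a : F, a = B e f := ⟨_, rfl⟩
    obtain ⟨a', ha'def⟩ : ∃ a' : F, a' = B e f' := ⟨_, rfl⟩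
    have ha : a ≠ 0 := by rw [hadef]; exact hef
    have ha' : a' ≠ 0 := by rw [ha'def]; exact hef'
    have hez : B e (a⁻¹ • f - a'⁻¹ • f') = 0 := by
      rw [map_sub, map_smul, map_smul, ← hadef, ← ha'def, smul_eq_mul, smul_eq_mul,
        inv_mul_cancel₀ ha, inv_mul_cancel₀ ha', sub_self]
    refine ⟨e, a⁻¹ • f - a'⁻¹ • f', he, hez, a * a'⁻¹, mul_ne_zero ha (inv_ne_zero ha'), ?_⟩
    rw [sieg_apply]
    simp only [map_sub, map_smul, LinearMap.sub_apply, LinearMap.smul_apply, smul_eq_mul, hf, hf',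
      hS f e, hS f' f, ← hadef, mul_zero, sub_zero, zero_sub]
    have e1 : a * a⁻¹ = 1 := mul_inv_cancel₀ ha
    have e3 : (2 : F) / 2 = 1 := div_self h2
    have key : f + (-(a'⁻¹ * B f f')) • e - a • (a⁻¹ • f - a'⁻¹ • f') -
        ((a⁻¹ * -(a'⁻¹ * B f f') - a'⁻¹ * (a⁻¹ * B f f')) / 2 * a) • e = (a * a'⁻¹) • f' := by
      have e4 : (a⁻¹ * -(a'⁻¹ * B f f') - a'⁻¹ * (a⁻¹ * B f f')) / 2 * a =
          -(a'⁻¹ * B f f') := by
        field_simp
        ring
      rw [e4, smul_sub, smul_smul, smul_smul, e1, one_smul]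
      module
    exact key

end Cfsg.Agent.Lib.Helper1.TsC
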