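import Mathlib
import Cfsg.Agent.Lib.Helper1.TsC1

/-!
# Commuting families of self-adjoint operators invariant under Siegel elements are scalar
-/

set_option autoImplicit false
set_option maxHeartbeats 4000000
set_option maxRecDepth 100000
set_option linter.unusedSimpArgs false
set_option linter.unusedVariables false
set_option linter.unusedSectionVars false
set_option linter.style.longLine false
set_option linter.deprecated false

namespace Cfsg.Agent.Lib.Helper1.TsC

open Module
open Cfsg.Agent.Lib.Helper1.TsA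
open Cfsg.Agent.Lib.Helper1.TsB

variable {F : Type*} [Field F]

/-- extracting the top coefficient of a polynomial family in a subspace -/
theorem poly_extract [Fintype F] {E : Type*} [AddCommGroup E] [Module F E]
    (h5 : 5 ≤ Fintype.card F) (S : Submodule F E) (t₀ t₁ t₂ t₃ t₄ : E)
    (h : ∀ c : F, t₀ + c • t₁ + c ^ 2 • t₂ + c ^ 3 • t₃ + c ^ 4 • t₄ ∈ S) : t₄ ∈ S := by
  by_contra hn
  obtain ⟨φ, hφ, hmap⟩ := Submodule.exists_dual_map_eq_bot_of_notMem hn inferInstance
  have hker : ∀ s ∈ S, φ s = 0 := by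
    intro s hs
    have : φ s ∈ S.map φ := Submodule.mem_map_of_mem hs
    rw [hmap] at this
    exact (Submodule.mem_bot F).mp this
  obtain ⟨p, hpdef⟩ : ∃ p : Polynomial F, p = Polynomial.C (φ t₀) * Polynomial.X ^ 0 +
      Polynomial.C (φ t₁) * Polynomial.X ^ 1 + Polynomial.C (φ t₂) * Polynomial.X ^ 2 +
      Polynomial.C (φ t₃) * Polynomial.X ^ 3 + Polynomial.C (φ t₄) * Polynomial.X ^ 4 := ⟨_, rfl⟩
  have heval : ∀ c : F, p.eval (id c) = 0 := by
    intro c
    have := hker _ (h c)
    simp only [map_add, map_smul, smul_eq_mul] at this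
    rw [hpdef]
    simp only [Polynomial.eval_add, Polynomial.eval_mul, Polynomial.eval_C, Polynomial.eval_pow,
      Polynomial.eval_X, id]
    linear_combination this
  have hdeg : p.natDegree ≤ 4 := by
    rw [hpdef]
    apply Polynomial.natDegree_add_le_of_degree_le
    · apply Polynomial.natDegree_add_le_of_degree_le
      · apply Polynomial.natDegree_add_le_of_degree_le
        · apply Polynomial.natDegree_add_le_of_degree_le
          · exact le_trans (Polynomial.natDegree_C_mul_X_pow_le _ _) (by norm_num)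
          · exact le_trans (Polynomial.natDegree_C_mul_X_pow_le _ _) (by norm_num)
        · exact le_trans (Polynomial.natDegree_C_mul_X_pow_le _ _) (by norm_num)
      · exact le_trans (Polynomial.natDegree_C_mul_X_pow_le _ _) (by norm_num)
    · exact Polynomial.natDegree_C_mul_X_pow_le _ _
  have hp0 : p = 0 := Polynomial.eq_zero_of_natDegree_lt_card_of_eval_eq_zero p
    Function.injective_id heval (by omega)
  have hc4 : p.coeff 4 = φ t₄ := by
    rw [hpdef]
    simp only [Polynomial.coeff_add, Polynomial.coeff_C_mul, Polynomial.coeff_X_pow]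
    norm_num
  rw [hp0, Polynomial.coeff_zero] at hc4
  exact hφ hc4.symm

/-- expansion of a conjugate by `1 + c N + c² M` -/
theorem conj_expand {R : Type*} [Ring R] [Algebra F R] (N M θ : R) (c : F) :
    (1 + c • N + c ^ 2 • M) * θ * (1 - c • N + c ^ 2 • M) =
      θ + c • (N * θ - θ * N) + c ^ 2 • (M * θ + θ * M - N * θ * N) +
        c ^ 3 • (N * θ * M - M * θ * N) + c ^ 4 • (M * θ * M) := by
  simp only [mul_add, add_mul, mul_sub, sub_mul, smul_mul_assoc, mul_smul_comm, mul_one, one_mul,
    smul_smul, smul_add, smul_sub, mul_assoc]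
  module

section geom

variable {V : Type*} [AddCommGroup V] [Module F V] (B : LinearMap.BilinForm F V)

/-- the infinitesimal Siegel operator -/
def nOp (x y : V) : V →ₗ[F] V := rkV B x y - rkV B y x

theorem nOp_apply (x y u : V) : nOp B x y u = B u y • x - B u x • y := by
  simp [nOp, rkV_apply]

/-- Siegel elements as polynomials in `c` -/
theorem sieg_coe (hS : ∀ x y, B x y = B y x) (h2 : (2 : F) ≠ 0) (x y : V) (hx : B x x = 0)
    (hxy : B x y = 0) (c : F) (hxy' : B x (c • y) = 0) :
    ((sieg B hS h2 x (c • y) hx hxy' : V ≃ₗ[F] V) : V →ₗ[F] V) =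
      1 + c • nOp B x y + c ^ 2 • (-(B y y / 2) • rkV B x x) := by
  apply LinearMap.ext
  intro u
  show sieg B hS h2 x (c • y) hx hxy' u = _
  rw [sieg_apply]
  simp only [LinearMap.add_apply, LinearMap.smul_apply, Module.End.one_apply, nOp_apply,
    rkV_apply, map_smul, LinearMap.smul_apply, smul_eq_mul]
  module

theorem sieg_symm_coe (hS : ∀ x y, B x y = B y x) (h2 : (2 : F) ≠ 0) (x y : V) (hx : B x x = 0)
    (hxy : B x y = 0) (c : F) (hxy' : B x (c • y) = 0) :
    (((sieg B hS h2 x (c • y) hx hxy').symm : V ≃ₗ[F] V) : V →ₗ[F] V) =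
      1 - c • nOp B x y + c ^ 2 • (-(B y y / 2) • rkV B x x) := by
  apply LinearMap.ext
  intro u
  show siegL B x (-(c • y)) u = _
  rw [siegL_apply]
  simp only [LinearMap.add_apply, LinearMap.sub_apply, LinearMap.smul_apply,
    Module.End.one_apply, nOp_apply, rkV_apply, map_smul, map_neg, LinearMap.smul_apply,
    LinearMap.neg_apply, smul_eq_mul]
  module

variable [FiniteDimensional F V] [Fintype F]

/-- the relations forced on a form vanishing on the singular cone, at a hyperbolic pair -/
theorem cone_aux (hodd : Fintype.card F % 2 = 1) (hS : ∀ x y, B x y = B y x)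
    (hB : B.Nondegenerate) (h2 : (2 : F) ≠ 0)
    (hq : 5 ≤ Fintype.card F ∨ 5 ≤ finrank F V) (Θ : LinearMap.BilinForm F V)
    (hΘS : ∀ x y, Θ x y = Θ y x) (h : ∀ x, B x x = 0 → Θ x x = 0) (x x' : V)
    (hx : B x x = 0) (hx' : B x' x' = 0) (hxx' : B x x' = 1) :
    ∀ z, B x z = 0 → B x' z = 0 → Θ z z = Θ x x' * B z z ∧ Θ x z = 0 := by
  have hrel : ∀ z, B x z = 0 → B x' z = 0 → ∀ t : F,
      2 * t * Θ x z + t ^ 2 * (Θ z z - Θ x x' * B z z) - t ^ 3 * (B z z * Θ z x') = 0 := by
    intro z hz1 hz2 t
    have h1 := h _ (sing_hyp B hS h2 x x' z hx hx' hxx' hz1 hz2 t)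
    obtain ⟨s, hsdef⟩ : ∃ s : F, s = t ^ 2 * B z z / 2 := ⟨_, rfl⟩
    have hs2 : 2 * s = t ^ 2 * B z z := by
      rw [hsdef]
      field_simp
    rw [← hsdef] at h1
    simp only [map_add, map_sub, map_smul, LinearMap.add_apply, LinearMap.sub_apply,
      LinearMap.smul_apply, smul_eq_mul, h x hx, h x' hx', hΘS z x, hΘS x' x, hΘS x' z] at h1
    linear_combination h1 + (Θ x x' + t * Θ z x') * hs2
  have ha : ∀ z, B x z = 0 → B x' z = 0 → Θ z z = Θ x x' * B z z := by
    intro z hz1 hz2
    have r1 := hrel z hz1 hz2 1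
    have r2 := hrel z hz1 hz2 (-1)
    have : (2 : F) * (Θ z z - Θ x x' * B z z) = 0 := by linear_combination r1 + r2
    rcases mul_eq_zero.mp this with h3 | h3
    · exact absurd h3 h2
    · exact sub_eq_zero.mp h3
  have hb : ∀ z, B x z = 0 → B x' z = 0 → 2 * Θ x z = B z z * Θ z x' := by
    intro z hz1 hz2
    have r1 := hrel z hz1 hz2 1
    have e := ha z hz1 hz2
    linear_combination r1 - e
  intro z hz1 hz2
  refine ⟨ha z hz1 hz2, ?_⟩
  rcases hq with hq | hq
  · obtain ⟨t, ht0, ht1, htm⟩ : ∃ t : F, t ≠ 0 ∧ t ≠ 1 ∧ t ≠ -1 := by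
      classical
      by_contra hcon
      push Not at hcon
      have hsub : (Finset.univ : Finset F) ⊆ {0, 1, -1} := by
        intro t _
        by_cases h0 : t = 0
        · simp [h0]
        by_cases h1 : t = 1
        · simp [h1]
        · have := hcon t h0 h1
          simp [this]
      have hc := Finset.card_le_card hsub
      have h3 : ({0, 1, -1} : Finset F).card ≤ 3 := Finset.card_le_three
      rw [Finset.card_univ] at hc
      omega
    have r := hrel z hz1 hz2 t
    have e := ha z hz1 hz2
    have e' := hb z hz1 hz2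
    have h4 : 2 * t * (1 - t) * (1 + t) * Θ x z = 0 := by
      linear_combination r - t ^ 2 * e - t ^ 3 * e'
    rcases mul_eq_zero.mp h4 with h5 | h5
    · exfalso
      rcases mul_eq_zero.mp h5 with h6 | h6
      · rcases mul_eq_zero.mp h6 with h7 | h7
        · rcases mul_eq_zero.mp h7 with h8 | h8
          · exact h2 h8
          · exact ht0 h8
        · apply ht1
          linear_combination (-1 : F) * h7
      · apply htm
        linear_combination h6
    · exact h5
  · have hnd := perp_hyp_nondeg B hS hB x x' hx hx' hxx'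
    have hfr := perp_hyp_finrank B hB x x'
    have hSr : ∀ a b : ↥(perpF B ![x, x']), (B.restrict (perpF B ![x, x'])) a b =
        (B.restrict (perpF B ![x, x'])) b a := fun a b => hS a.1 b.1
    have h0 : (Θ x) ∘ₗ (perpF B ![x, x']).subtype = 0 := by
      apply eq_zero_of_singular (B.restrict (perpF B ![x, x'])) hodd hSr hnd h2 (by omega)
      intro s hs
      have hsT := (mem_perpF B ![x, x'] s.1).mp s.2
      have h1 : B x s.1 = 0 := by simpa using hsT 0
      have h3 : B x' s.1 = 0 := by simpa using hsT 1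
      have hs' : B s.1 s.1 = 0 := hs
      have := hb s.1 h1 h3
      rw [hs', zero_mul] at this
      rcases mul_eq_zero.mp this with h4 | h4
      · exact absurd h4 h2
      · exact h4
    have hzT : z ∈ perpF B ![x, x'] := by
      rw [mem_perpF]
      intro i
      fin_cases i
      · simpa using hz1
      · simpa using hz2
    have := LinearMap.congr_fun h0 ⟨z, hzT⟩
    simpa using this

/-- a symmetric bilinear form vanishing on the singular cone is a multiple of the form -/
theorem cone_lemma (hodd : Fintype.card F % 2 = 1) (hS : ∀ x y, B x y = B y x)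
    (hB : B.Nondegenerate) (h2 : (2 : F) ≠ 0) (hd : 3 ≤ finrank F V)
    (hq : 5 ≤ Fintype.card F ∨ 5 ≤ finrank F V) (Θ : LinearMap.BilinForm F V)
    (hΘS : ∀ x y, Θ x y = Θ y x) (h : ∀ x, B x x = 0 → Θ x x = 0) :
    ∃ c : F, ∀ u v, Θ u v = c * B u v := by
  obtain ⟨x, hx0, hx⟩ := exists_singular B hodd hS hB h2 hd
  obtain ⟨x', hxx', hx'⟩ := singular_partner B hS hB h2 x hx0 hx
  have hx'x : B x' x = 1 := by rw [hS, hxx']
  have h1 := cone_aux B hodd hS hB h2 hq Θ hΘS h x x' hx hx' hxx'
  have h1' := cone_aux B hodd hS hB h2 hq Θ hΘS h x' x hx' hx hx'x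
  refine ⟨Θ x x', ?_⟩
  have hpol : ∀ z z', B x z = 0 → B x' z = 0 → B x z' = 0 → B x' z' = 0 →
      Θ z z' = Θ x x' * B z z' := by
    intro z z' hz1 hz2 hz1' hz2'
    have e1 := (h1 z hz1 hz2).1
    have e2 := (h1 z' hz1' hz2').1
    have e3 := (h1 (z + z') (by rw [map_add, hz1, hz1', add_zero])
      (by rw [map_add, hz2, hz2', add_zero])).1
    simp only [map_add, LinearMap.add_apply, hΘS z' z, hS z' z] at e3
    have : (2 : F) * (Θ z z' - Θ x x' * B z z') = 0 := by linear_combination e3 - e1 - e2
    rcases mul_eq_zero.mp this with h3 | h3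
    · exact absurd h3 h2
    · exact sub_eq_zero.mp h3
  intro u v
  obtain ⟨z, hz1, hz2, hu⟩ := hyp_decomp B hS x x' hx hx' hxx' u
  obtain ⟨z', hz1', hz2', hv⟩ := hyp_decomp B hS x x' hx hx' hxx' v
  have a1 := (h1 z hz1 hz2).2
  have a2 := (h1 z' hz1' hz2').2
  have a3 := (h1' z hz2 hz1).2
  have a4 := (h1' z' hz2' hz1').2
  have a5 := hpol z z' hz1 hz2 hz1' hz2'
  have hzx : B z x = 0 := by rw [hS, hz1]
  have hzx' : B z x' = 0 := by rw [hS, hz2]
  generalize B u x' = α at hu
  generalize B u x = β at hu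
  generalize B v x' = γ at hv
  generalize B v x = δ at hv
  rw [hu, hv]
  simp only [map_add, map_smul, LinearMap.add_apply, LinearMap.smul_apply, smul_eq_mul,
    h x hx, h x' hx', hx, hx', hxx', hx'x, hΘS x' x, hΘS z x, hΘS z x', a1, a2, a3, a4, a5,
    hz1, hz2, hz1', hz2', hzx, hzx']
  ring

end geom

end Cfsg.Agent.Lib.Helper1.TsC
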