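import Mathlib
import Cfsg.Agent.Lib.Helper1.TsC2

/-!
# Commuting families of self-adjoint operators invariant under Siegel elements are scalar
-/

set_option autoImplicit false
set_option maxHeartbeats 4000000
set_option maxRecDepth 100000
set_option linter.unusedSimpArgs false
set_option linter.unusedVariables false
set_option linter.unusedSectionVars false
set_option linter.style.longLine false
set_option linter.deprecated false

namespace Cfsg.Agent.Lib.Helper1.TsC

open Module
open Cfsg.Agent.Lib.Helper1.TsA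
open Cfsg.Agent.Lib.Helper1.TsB

variable {F : Type*} [Field F] {V : Type*} [AddCommGroup V] [Module F V]
  (B : LinearMap.BilinForm F V)

/-- the even part of a polynomial family in a subspace -/
theorem even_extract {E : Type*} [AddCommGroup E] [Module F E] (h2 : (2 : F) ≠ 0)
    (S : Submodule F E) (t₀ t₁ t₂ t₃ t₄ : E)
    (h : ∀ c : F, t₀ + c • t₁ + c ^ 2 • t₂ + c ^ 3 • t₃ + c ^ 4 • t₄ ∈ S) (h0 : t₀ ∈ S) :
    t₂ + t₄ ∈ S := by
  have h1 := h 1
  have h3 := h (-1)
  have h4 := S.sub_mem (S.add_mem h1 h3) (S.smul_mem (2 : F) h0)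
  have h5 := S.smul_mem ((2 : F)⁻¹) h4
  have e : (t₀ + (1 : F) • t₁ + (1 : F) ^ 2 • t₂ + (1 : F) ^ 3 • t₃ + (1 : F) ^ 4 • t₄) +
      (t₀ + (-1 : F) • t₁ + (-1 : F) ^ 2 • t₂ + (-1 : F) ^ 3 • t₃ + (-1 : F) ^ 4 • t₄) -
      (2 : F) • t₀ = (2 : F) • (t₂ + t₄) := by
    module
  rw [e, smul_smul, inv_mul_cancel₀ h2, one_smul] at h5
  exact h5

section conjsec

variable (hS : ∀ x y, B x y = B y x) (h2 : (2 : F) ≠ 0) (Sg : Submodule F (V →ₗ[F] V))
  (hconj : ∀ θ ∈ Sg, ∀ (e z : V) (he : B e e = 0) (hez : B e z = 0),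
      ((sieg B hS h2 e z he hez : V ≃ₗ[F] V) : V →ₗ[F] V) ∘ₗ θ ∘ₗ
        (((sieg B hS h2 e z he hez).symm : V ≃ₗ[F] V) : V →ₗ[F] V) ∈ Sg)

include hconj in
/-- the polynomial family of conjugates -/
theorem conj_family (θ : V →ₗ[F] V) (hθ : θ ∈ Sg) (x y : V) (hx : B x x = 0) (hxy : B x y = 0)
    (c : F) :
    θ + c • (nOp B x y * θ - θ * nOp B x y) +
      c ^ 2 • ((-(B y y / 2) • rkV B x x) * θ + θ * (-(B y y / 2) • rkV B x x) -
        nOp B x y * θ * nOp B x y) +
      c ^ 3 • (nOp B x y * θ * (-(B y y / 2) • rkV B x x) -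
        (-(B y y / 2) • rkV B x x) * θ * nOp B x y) +
      c ^ 4 • ((-(B y y / 2) • rkV B x x) * θ * (-(B y y / 2) • rkV B x x)) ∈ Sg := by
  have hxy' : B x (c • y) = 0 := by rw [map_smul, hxy, smul_zero]
  have h1 := hconj θ hθ x (c • y) hx hxy'
  rw [sieg_coe B hS h2 x y hx hxy c hxy', sieg_symm_coe B hS h2 x y hx hxy c hxy'] at h1
  have e := conj_expand (F := F) (nOp B x y) (-(B y y / 2) • rkV B x x) θ c
  rw [← e]
  have e2 : (1 + c • nOp B x y + c ^ 2 • (-(B y y / 2) • rkV B x x)) * θ *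
      (1 - c • nOp B x y + c ^ 2 • (-(B y y / 2) • rkV B x x)) =
      (1 + c • nOp B x y + c ^ 2 • (-(B y y / 2) • rkV B x x)) ∘ₗ θ ∘ₗ
      (1 - c • nOp B x y + c ^ 2 • (-(B y y / 2) • rkV B x x)) := by
    rw [mul_assoc]
    rfl
  rw [e2]
  exact h1

include hconj in
/-- the even part of the family -/
theorem conj_even (θ : V →ₗ[F] V) (hθ : θ ∈ Sg) (x y : V) (hx : B x x = 0) (hxy : B x y = 0) :
    ((-(B y y / 2) • rkV B x x) * θ + θ * (-(B y y / 2) • rkV B x x) -
        nOp B x y * θ * nOp B x y) +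
      ((-(B y y / 2) • rkV B x x) * θ * (-(B y y / 2) • rkV B x x)) ∈ Sg := by
  exact even_extract h2 Sg _ _ _ _ _ (conj_family B hS h2 Sg hconj θ hθ x y hx hxy) hθ

end conjsec

variable [FiniteDimensional F V] [Fintype F]

/-- **a commuting family of self-adjoint operators, invariant under conjugation by Siegel
elements, consists of scalars** -/
theorem comm_invariant_scalar (hodd : Fintype.card F % 2 = 1) (hS : ∀ x y, B x y = B y x)
    (hB : B.Nondegenerate) (h2 : (2 : F) ≠ 0) (hd : 3 ≤ finrank F V)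
    (hq : 5 ≤ Fintype.card F ∨ 5 ≤ finrank F V) (SS : Set (V →ₗ[F] V))
    (hsa : ∀ θ ∈ SS, ∀ x y, B (θ x) y = B x (θ y))
    (hcomm : ∀ θ ∈ SS, ∀ θ' ∈ SS, θ ∘ₗ θ' = θ' ∘ₗ θ)
    (hconj : ∀ θ ∈ SS, ∀ (e z : V) (he : B e e = 0) (hez : B e z = 0),
      ((sieg B hS h2 e z he hez : V ≃ₗ[F] V) : V →ₗ[F] V) ∘ₗ θ ∘ₗ
        (((sieg B hS h2 e z he hez).symm : V ≃ₗ[F] V) : V →ₗ[F] V) ∈ SS) :
    ∀ θ ∈ SS, ∃ c : F, θ = c • LinearMap.id := by
  obtain ⟨Sg, hSgdef⟩ : ∃ Sg : Submodule F (V →ₗ[F] V), Sg = Submodule.span F SS := ⟨_, rfl⟩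
  have hsub : ∀ θ ∈ SS, θ ∈ Sg := by
    intro θ hθ
    rw [hSgdef]
    exact Submodule.subset_span hθ
  have hsaG : ∀ θ ∈ Sg, ∀ x y, B (θ x) y = B x (θ y) := by
    intro θ hθ
    rw [hSgdef] at hθ
    induction hθ using Submodule.span_induction with
    | mem v hv => exact hsa v hv
    | zero =>
      intro x y
      simp
    | add a b _ _ ha hb =>
      intro x y
      rw [LinearMap.add_apply, LinearMap.add_apply, map_add, map_add, LinearMap.add_apply, ha, hb]
    | smul c a _ ha =>
      intro x y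
      rw [LinearMap.smul_apply, LinearMap.smul_apply, map_smul, map_smul, LinearMap.smul_apply, ha]
  have hcomm1 : ∀ θ ∈ SS, ∀ θ' ∈ Sg, θ ∘ₗ θ' = θ' ∘ₗ θ := by
    intro θ hθ θ' hθ'
    rw [hSgdef] at hθ'
    induction hθ' using Submodule.span_induction with
    | mem v hv => exact hcomm θ hθ v hv
    | zero => simp
    | add a b _ _ ha hb => rw [LinearMap.comp_add, LinearMap.add_comp, ha, hb]
    | smul c a _ ha => rw [LinearMap.comp_smul, LinearMap.smul_comp, ha]
  have hcommG : ∀ θ ∈ Sg, ∀ θ' ∈ Sg, θ ∘ₗ θ' = θ' ∘ₗ θ := by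
    intro θ hθ θ' hθ'
    rw [hSgdef] at hθ
    induction hθ using Submodule.span_induction with
    | mem v hv => exact hcomm1 v hv θ' hθ'
    | zero => simp
    | add a b _ _ ha hb => rw [LinearMap.comp_add, LinearMap.add_comp, ha, hb]
    | smul c a _ ha => rw [LinearMap.comp_smul, LinearMap.smul_comp, ha]
  have hconjG : ∀ θ ∈ Sg, ∀ (e z : V) (he : B e e = 0) (hez : B e z = 0),
      ((sieg B hS h2 e z he hez : V ≃ₗ[F] V) : V →ₗ[F] V) ∘ₗ θ ∘ₗ
        (((sieg B hS h2 e z he hez).symm : V ≃ₗ[F] V) : V →ₗ[F] V) ∈ Sg := by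
    intro θ hθ e z he hez
    rw [hSgdef] at hθ
    induction hθ using Submodule.span_induction with
    | mem v hv => exact hsub _ (hconj v hv e z he hez)
    | zero =>
      simp only [LinearMap.zero_comp, LinearMap.comp_zero]
      exact Sg.zero_mem
    | add a b _ _ ha hb =>
      rw [LinearMap.add_comp, LinearMap.comp_add]
      exact Sg.add_mem ha hb
    | smul c a _ ha =>
      rw [LinearMap.smul_comp, LinearMap.comp_smul]
      exact Sg.smul_mem c ha
  -- the quadratic form of `θ` vanishes on the singular cone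
  have key1 : ∀ θ ∈ Sg, ∀ x, B x x = 0 → B (θ x) x = 0 := by
    intro θ hθ x hx
    by_contra ha
    have hx0 : x ≠ 0 := by
      intro h0
      apply ha
      rw [h0]
      simp
    obtain ⟨x', hxx', hx'⟩ := singular_partner B hS hB h2 x hx0 hx
    have hx'x : B x' x = 1 := by rw [hS, hxx']
    -- a rank one element
    have hrk : B (θ x) x • rkV B x x ∈ Sg := by
      rcases hq with hq | hq
      · obtain ⟨y, hyc, hy⟩ := exists_nonsing_perpF B hS hB h2 ![x] (by omega)
        have hxy : B x y = 0 := by simpa using hyc 0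
        have h4 := poly_extract hq Sg _ _ _ _ _
          (conj_family B hS h2 Sg hconjG θ hθ x y hx hxy)
        have e : (-(B y y / 2) • rkV B x x) * θ * (-(B y y / 2) • rkV B x x) =
            ((B y y / 2) ^ 2) • (B (θ x) x • rkV B x x) := by
          apply LinearMap.ext
          intro u
          simp only [Module.End.mul_apply, LinearMap.smul_apply, rkV_apply, map_smul, map_neg,
            LinearMap.neg_apply, smul_eq_mul, neg_smul, smul_neg, LinearMap.smul_apply]
          module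
        rw [e] at h4
        have hne : (B y y / 2) ^ 2 ≠ 0 := pow_ne_zero 2 (div_ne_zero hy h2)
        have h5 := Sg.smul_mem (((B y y / 2) ^ 2)⁻¹) h4
        rwa [smul_smul, inv_mul_cancel₀ hne, one_smul] at h5
      · obtain ⟨y, hy0, hy, hxy, hx'y⟩ := exists_singular_perp_hyp B hodd hS hB h2 hq x x' hx hx'
          hxx'
        have hyx : B y x = 0 := by rw [hS, hxy]
        have hli : LinearIndependent F ![x, y] := by
          apply pair_swap
          apply pair_indep_of_form B hy0 (by rw [hS]; exact hx'y)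
          rw [hxx']
          exact one_ne_zero
        have h4 := conj_even B hS h2 Sg hconjG θ hθ x y hx hxy
        have hT : nOp B x y * θ * nOp B x y ∈ Sg := by
          have e : ((-(B y y / 2) • rkV B x x) * θ + θ * (-(B y y / 2) • rkV B x x) -
              nOp B x y * θ * nOp B x y) +
              ((-(B y y / 2) • rkV B x x) * θ * (-(B y y / 2) • rkV B x x)) =
              -(nOp B x y * θ * nOp B x y) := by
            rw [hy]
            simp
          rw [e] at h4
          have := Sg.neg_mem h4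
          rwa [neg_neg] at this
        obtain ⟨v, hv⟩ := exists_prescribed B hB ![x, y] hli ![0, 1]
        have hxv : B x v = 0 := by simpa using hv 0
        have hyv : B y v = 1 := by simpa using hv 1
        obtain ⟨x₂, hx₂def⟩ : ∃ x₂ : V, x₂ = v - (B v v / 2) • y := ⟨_, rfl⟩
        have hx₂ : B x₂ x₂ = 0 := by
          rw [hx₂def]
          simp only [map_sub, map_smul, LinearMap.sub_apply, LinearMap.smul_apply, smul_eq_mul,
            hy, hyv, hS v y, mul_zero, mul_one, sub_zero]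
          field_simp
          ring
        have hx₂x : B x₂ x = 0 := by
          rw [hx₂def, map_sub, map_smul, LinearMap.sub_apply, LinearMap.smul_apply, hyx, hS v x,
            hxv]
          simp
        have hx₂y : B x₂ y = 1 := by
          rw [hx₂def, map_sub, map_smul, LinearMap.sub_apply, LinearMap.smul_apply, hy, hS v y,
            hyv]
          simp
        have h6 := conj_even B hS h2 Sg hconjG _ hT x₂ x hx₂ hx₂x
        have e6 : ((-(B x x / 2) • rkV B x₂ x₂) * (nOp B x y * θ * nOp B x y) +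
            (nOp B x y * θ * nOp B x y) * (-(B x x / 2) • rkV B x₂ x₂) -
            nOp B x₂ x * (nOp B x y * θ * nOp B x y) * nOp B x₂ x) +
            ((-(B x x / 2) • rkV B x₂ x₂) * (nOp B x y * θ * nOp B x y) *
              (-(B x x / 2) • rkV B x₂ x₂)) =
            -(B (θ x) x • rkV B x x) := by
          rw [hx]
          simp only [zero_div, neg_zero, zero_smul, zero_mul, mul_zero, add_zero, zero_sub]
          congr 1
          apply LinearMap.ext
          intro u
          have hxx₂ : B x x₂ = 0 := by rw [hS, hx₂x]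
          have hyx₂ : B y x₂ = 1 := by rw [hS, hx₂y]
          simp only [Module.End.mul_apply, nOp_apply, map_sub, map_smul, LinearMap.sub_apply,
            LinearMap.smul_apply, smul_eq_mul, rkV_apply, hx, hy, hxy, hyx, hx₂, hx₂x, hx₂y, hxx₂,
            hyx₂, mul_zero, mul_one, zero_smul, sub_zero, zero_sub, smul_zero, one_smul, neg_zero,
            smul_neg, neg_smul, zero_mul, map_zero, LinearMap.zero_apply]
          module
        rw [e6] at h6
        have := Sg.neg_mem h6
        rwa [neg_neg] at this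
    -- a conjugate
    obtain ⟨z₀, hz₀, hxz₀, hx'z₀⟩ := exists_nonsing_perp_hyp B hS hB h2 hd x x' hx hx' hxx'
    have h7 := hconjG _ hrk x' z₀ hx' hx'z₀
    rw [LinearMap.smul_comp, LinearMap.comp_smul,
      conj_rkV B _ (sieg_isom B hS h2 x' z₀ hx' hx'z₀)] at h7
    obtain ⟨kx, hkxdef⟩ : ∃ kx : V, kx = sieg B hS h2 x' z₀ hx' hx'z₀ x := ⟨_, rfl⟩
    rw [← hkxdef] at h7
    have hkx : B kx x = -(B z₀ z₀ / 2) := by
      rw [hkxdef, sieg_apply]
      simp only [map_sub, map_add, map_smul, LinearMap.sub_apply, LinearMap.add_apply,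
        LinearMap.smul_apply, smul_eq_mul, hx, hxx', hx'x, hS z₀ x, hxz₀, mul_zero, mul_one,
        zero_mul, add_zero, sub_zero, zero_sub]
    have h8 := hcommG _ hrk _ h7
    have h9 := LinearMap.congr_fun h8 x
    simp only [LinearMap.comp_apply, LinearMap.smul_apply, rkV_apply, map_smul, smul_eq_mul, hx,
      zero_smul, smul_zero, hS x kx, hkx, map_zero, LinearMap.zero_apply] at h9
    have hne : B (θ x) x * B (θ x) x * (B z₀ z₀ / 2) * (B z₀ z₀ / 2) ≠ 0 := by
      have h10 : B z₀ z₀ / 2 ≠ 0 := div_ne_zero hz₀ h2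
      exact mul_ne_zero (mul_ne_zero (mul_ne_zero ha ha) h10) h10
    have h12 : (B (θ x) x * B (θ x) x * (B z₀ z₀ / 2) * (B z₀ z₀ / 2)) • x = 0 := by
      refine Eq.trans ?_ h9
      module
    rcases smul_eq_zero.mp h12 with h11 | h11
    · exact hne h11
    · exact hx0 h11
  -- conclusion
  intro θ hθ
  obtain ⟨Θ, hΘdef⟩ : ∃ Θ : LinearMap.BilinForm F V, Θ = LinearMap.comp B θ := ⟨_, rfl⟩
  have hΘa : ∀ u v, Θ u v = B (θ u) v := by
    intro u v
    rw [hΘdef]
    rfl
  have hΘS : ∀ u v, Θ u v = Θ v u := by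
    intro u v
    rw [hΘa, hΘa, hsa θ hθ, hS]
  obtain ⟨c, hc⟩ := cone_lemma B hodd hS hB h2 hd hq Θ hΘS (fun x hx => by
    rw [hΘa]
    exact key1 θ (hsub θ hθ) x hx)
  refine ⟨c, ?_⟩
  apply LinearMap.ext
  intro u
  have : θ u - c • u = 0 := by
    apply hB.1
    intro v
    rw [map_sub, map_smul, LinearMap.sub_apply, LinearMap.smul_apply, ← hΘa, hc, smul_eq_mul,
      sub_self]
  rw [LinearMap.smul_apply, LinearMap.id_apply]
  exact sub_eq_zero.mp this

end Cfsg.Agent.Lib.Helper1.TsC
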