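import Mathlib
import Cfsg.Agent.Lib.Helper1.TsC3

/-!
# The coordinate tensor structure `O(U) ⊗ O(W)` inside `O(U ⊗ W)`: basics and membership in `Ω`
-/

set_option autoImplicit false
set_option maxHeartbeats 4000000
set_option maxRecDepth 100000
set_option linter.unusedSimpArgs false
set_option linter.unusedVariables false
set_option linter.unusedSectionVars false
set_option linter.style.longLine false
set_option linter.deprecated false

namespace Cfsg.Agent.Lib.Helper1.TsC

open Module QuadraticMap Matrix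
open Cfsg
open Cfsg.Agent.Lib.Helper5.CartanDieudonne Cfsg.Agent.Lib.Helper5.Siegel
  Cfsg.Agent.Lib.Helper5.QuadIsom Cfsg.Agent.Lib.Helper5.Eichler
  Cfsg.Agent.Lib.Helper5.OmegaSimple Cfsg.Agent.Lib.Helper5.OrthSingularMax
open Cfsg.Agent.Lib.Helper1.UoA
open Cfsg.Agent.Lib.Helper1.TsA
open Cfsg.Agent.Lib.Helper1.TsB
open Cfsg.Agent.Lib.Helper8.Tns

local notation "Ξ" => Cfsg.Agent.Lib.Helper1.TsA.Xi

variable {I J : Type} [Fintype I] [DecidableEq I] [Fintype J] [DecidableEq J]
  {F : Type*} [Field F]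

/-- the quadratic form `Q` on `U ⊗ W` has polar form `B₁ ⊗ B₂`, both symmetric non-degenerate -/
structure OT (Q : QuadraticForm F (I × J → F)) (B₁ : LinearMap.BilinForm F (I → F))
    (B₂ : LinearMap.BilinForm F (J → F)) : Prop where
  sym₁ : ∀ x y, B₁ x y = B₁ y x
  sym₂ : ∀ x y, B₂ x y = B₂ y x
  nd₁ : B₁.Nondegenerate
  nd₂ : B₂.Nondegenerate
  polar_pt : ∀ u u' w w', polar ⇑Q (pt u w) (pt u' w') = B₁ u u' * B₂ w w'

section OTsec

variable {Q : QuadraticForm F (I × J → F)} {B₁ : LinearMap.BilinForm F (I → F)}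
  {B₂ : LinearMap.BilinForm F (J → F)} (hT : OT Q B₁ B₂) (h2 : (2 : F) ≠ 0)

theorem polar_self' (v : I × J → F) : polar ⇑Q v v = 2 * Q v := by
  rw [QuadraticMap.polar_self, two_nsmul, two_mul]

include hT h2 in
theorem OT.two_Q_pt (u : I → F) (w : J → F) : 2 * Q (pt u w) = B₁ u u * B₂ w w := by
  rw [← hT.polar_pt, polar_self']

include hT h2 in
theorem OT.sing_right (u : I → F) (w : J → F) (hw : B₂ w w = 0) : Q (pt u w) = 0 := by
  have := hT.two_Q_pt h2 u w
  rw [hw, mul_zero] at this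
  rcases mul_eq_zero.mp this with h | h
  · exact absurd h h2
  · exact h

include hT h2 in
theorem OT.sing_left (u : I → F) (w : J → F) (hu : B₁ u u = 0) : Q (pt u w) = 0 := by
  have := hT.two_Q_pt h2 u w
  rw [hu, zero_mul] at this
  rcases mul_eq_zero.mp this with h | h
  · exact absurd h h2
  · exact h

include hT in
theorem OT.polar_pt_right (v : I × J → F) (u : I → F) (p : J → F) :
    polar ⇑Q v (pt u p) = B₁ (C₂ B₂ p v) u := by
  revert v
  apply pt_induction
  · rw [map_zero, map_zero, LinearMap.zero_apply]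
    simp [polar]
  · intro x y hx hy
    rw [polar_add_left, hx, hy, map_add, map_add, LinearMap.add_apply]
  · intro u' w'
    rw [hT.polar_pt, C₂_pt, map_smul, LinearMap.smul_apply, smul_eq_mul, mul_comm]

include hT in
theorem OT.polar_pt_right' (v : I × J → F) (q : I → F) (w : J → F) :
    polar ⇑Q v (pt q w) = B₂ (C₁ B₁ q v) w := by
  revert v
  apply pt_induction
  · rw [map_zero, map_zero, LinearMap.zero_apply]
    simp [polar]
  · intro x y hx hy
    rw [polar_add_left, hx, hy, map_add, map_add, LinearMap.add_apply]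
  · intro u' w'
    rw [hT.polar_pt, C₁_pt, map_smul, LinearMap.smul_apply, smul_eq_mul]

include hT in
theorem OT.B₁_C₂_eq (v : I × J → F) (q : I → F) (p : J → F) :
    B₁ (C₂ B₂ p v) q = B₂ (C₁ B₁ q v) p := by
  rw [← hT.polar_pt_right, ← hT.polar_pt_right']

include hT in
theorem OT.eq_of_B₁ {a b : I → F} (h : ∀ u, B₁ a u = B₁ b u) : a = b := by
  have : a - b = 0 := hT.nd₁.1 (a - b) (fun u => by
    rw [map_sub, LinearMap.sub_apply, h u, sub_self])
  exact sub_eq_zero.mp this

include hT in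
theorem OT.eq_of_B₂ {a b : J → F} (h : ∀ u, B₂ a u = B₂ b u) : a = b := by
  have : a - b = 0 := hT.nd₂.1 (a - b) (fun u => by
    rw [map_sub, LinearMap.sub_apply, h u, sub_self])
  exact sub_eq_zero.mp this

include hT in
/-- a vector all of whose contractions against `w^⊥` vanish lies in `U ⊗ w` -/
theorem OT.exists_pt_of_C₂_zero {w : J → F} (hw : w ≠ 0) (v : I × J → F)
    (h : ∀ z, B₂ w z = 0 → C₂ B₂ z v = 0) : ∃ u, v = pt u w := by
  obtain ⟨ws, hws⟩ := exists_partner B₂ hT.nd₂ w hw 1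
  refine ⟨fun i => B₂ (fun j => v (i, j)) ws, ?_⟩
  have hrow : ∀ i, (fun j => v (i, j)) = B₂ (fun j => v (i, j)) ws • w := by
    intro i
    apply hT.eq_of_B₂
    intro z
    set r : J → F := fun j => v (i, j) with hr
    have hz0 : B₂ w (z - B₂ w z • ws) = 0 := by
      rw [map_sub, map_smul, hws, smul_eq_mul, mul_one, sub_self]
    have h1 : B₂ r (z - B₂ w z • ws) = 0 := by
      have := congrFun (h _ hz0) i
      exact this
    rw [map_sub, map_smul, sub_eq_zero, smul_eq_mul] at h1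
    rw [h1, map_smul, LinearMap.smul_apply, smul_eq_mul, mul_comm]
  ext ⟨i, j⟩
  rw [pt_apply]
  have := congrFun (hrow i) j
  rw [Pi.smul_apply, smul_eq_mul] at this
  exact this

include hT in
/-- the polar form is non-degenerate -/
theorem OT.ndQ : (polarBilin Q).Nondegenerate := by
  have h1 : ∀ x, (∀ y, polar ⇑Q x y = 0) → x = 0 := by
    intro x hx
    have h3 : ∀ p, C₂ B₂ p x = 0 := by
      intro p
      apply hT.eq_of_B₁
      intro u
      rw [← hT.polar_pt_right, hx, map_zero, LinearMap.zero_apply]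
    ext ⟨i, j⟩
    have h4 : (fun j => x (i, j)) = 0 := by
      apply hT.nd₂.1
      intro p
      have := congrFun (h3 p) i
      exact this
    have := congrFun h4 j
    exact this
  refine ⟨fun x hx => h1 x (fun y => by
    have := hx y
    rwa [polarBilin_apply_apply] at this), ?_⟩
  intro y hy
  apply h1
  intro x
  have := hy x
  rw [polarBilin_apply_apply] at this
  rw [polar_comm]
  exact this

include h2 in
/-- in odd characteristic an invertible map preserving the polar form is an isometry -/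
theorem isoQ_of_polar (g : GL (I × J) F)
    (h : ∀ v v', polar ⇑Q ((g : Matrix (I × J) (I × J) F) *ᵥ v)
      ((g : Matrix (I × J) (I × J) F) *ᵥ v') = polar ⇑Q v v') : IsoQ Q g := by
  intro v
  have h1 := h v v
  rw [polar_self', polar_self'] at h1
  exact mul_left_cancel₀ h2 h1

include hT h2 in
/-- a map preserving the polar form on pure tensors is an isometry -/
theorem OT.isoQ_of_pt (g : GL (I × J) F)
    (h : ∀ u w u' w', polar ⇑Q ((g : Matrix (I × J) (I × J) F) *ᵥ pt u w)
      ((g : Matrix (I × J) (I × J) F) *ᵥ pt u' w') = polar ⇑Q (pt u w) (pt u' w')) :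
    IsoQ Q g := by
  apply isoQ_of_polar h2
  apply pt_induction
  · intro v'
    rw [Matrix.mulVec_zero]
    simp [polar]
  · intro x y hx hy v'
    rw [Matrix.mulVec_add, polar_add_left, polar_add_left, hx, hy]
  · intro u w
    apply pt_induction
    · rw [Matrix.mulVec_zero]
      simp [polar]
    · intro x y hx hy
      rw [Matrix.mulVec_add, polar_add_right, polar_add_right, hx, hy]
    · intro u' w'
      exact h u w u' w'

include hT h2 in
/-- Kronecker products of similitudes with inverse multipliers are isometries -/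
theorem OT.krL_iso (g₁ : (I → F) ≃ₗ[F] (I → F)) (g₂ : (J → F) ≃ₗ[F] (J → F)) (μ ν : F)
    (hμν : μ * ν = 1) (hg₁ : ∀ x y, B₁ (g₁ x) (g₁ y) = μ * B₁ x y)
    (hg₂ : ∀ x y, B₂ (g₂ x) (g₂ y) = ν * B₂ x y) : IsoQ Q (krL g₁ g₂) := by
  apply hT.isoQ_of_pt h2
  intro u w u' w'
  rw [krL_pt, krL_pt, hT.polar_pt, hT.polar_pt, hg₁, hg₂]
  linear_combination (B₁ u u' * B₂ w w') * hμν

include hT h2 in
theorem OT.krL_iso' (g₁ : (I → F) ≃ₗ[F] (I → F)) (g₂ : (J → F) ≃ₗ[F] (J → F))
    (hg₁ : ∀ x y, B₁ (g₁ x) (g₁ y) = B₁ x y)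
    (hg₂ : ∀ x y, B₂ (g₂ x) (g₂ y) = B₂ x y) : IsoQ Q (krL g₁ g₂) :=
  hT.krL_iso h2 g₁ g₂ 1 1 (one_mul 1) (fun x y => by rw [hg₁, one_mul])
    (fun x y => by rw [hg₂, one_mul])

include hT in
/-- Eichler elements with pure centres in the `Acts` form -/
theorem OT.Acts_eich (a c : I → F) (p q : J → F) (hx : Q (pt a p) = 0)
    (hxz : polar ⇑Q (pt a p) (pt c q) = 0) :
    Acts ((eich Q (pt a p) (pt c q) hx hxz : ↥(isometryGroup F ⇑Q)) : GL (I × J) F)
      (Ξ B₂ (rk B₁ c a) q p - Ξ B₂ (rk B₁ a c) p q - Q (pt c q) • Ξ B₂ (rk B₁ a a) p p) := by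
  intro v
  have := act_eich Q (pt a p) (pt c q) hx hxz v
  rw [eichlerMap_apply] at this
  unfold act at this
  rw [this, polar_comm _ (pt a p) v, polar_comm _ (pt c q) v,
    hT.polar_pt_right, hT.polar_pt_right, LinearMap.sub_apply, LinearMap.sub_apply,
    LinearMap.smul_apply, Xi_apply, Xi_apply, Xi_apply, rk_apply,
    rk_apply, rk_apply, pt_smul_left, pt_smul_left, pt_smul_left]
  module

/-! ### the spaces `U ⊗ w^⊥` and `x^⊥ ⊗ W` -/

/-- the span of the pure tensors `c ⊗ a` with `a ⊥ w` -/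
def Pw (B₂ : LinearMap.BilinForm F (J → F)) (w : J → F) : Submodule F (I × J → F) :=
  Submodule.span F {t | ∃ (c : I → F) (a : J → F), B₂ w a = 0 ∧ t = pt c a}

/-- the span of the pure tensors `a ⊗ b` with `a ⊥ x` -/
def Pu (B₁ : LinearMap.BilinForm F (I → F)) (x : I → F) : Submodule F (I × J → F) :=
  Submodule.span F {t | ∃ (a : I → F) (b : J → F), B₁ x a = 0 ∧ t = pt a b}

include hT in
theorem OT.sub_mem_Pw (w ws : J → F) (hws : B₂ w ws = 1) (v : I × J → F) :
    v - pt (C₂ B₂ w v) ws ∈ Pw (I := I) B₂ w := by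
  revert v
  apply pt_induction
  · rw [map_zero, pt_zero_left, sub_zero]
    exact Submodule.zero_mem _
  · intro x y hx hy
    have : x + y - pt (C₂ B₂ w (x + y)) ws = (x - pt (C₂ B₂ w x) ws) + (y - pt (C₂ B₂ w y) ws) := by
      rw [map_add, pt_add_left]
      abel
    rw [this]
    exact Submodule.add_mem _ hx hy
  · intro u a
    have : pt u a - pt (C₂ B₂ w (pt u a)) ws = pt u (a - B₂ a w • ws) := by
      rw [C₂_pt, pt_smul_left, pt_sub_right, pt_smul_right]
    rw [this]
    apply Submodule.subset_span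
    refine ⟨u, _, ?_, rfl⟩
    rw [map_sub, map_smul, hws, smul_eq_mul, mul_one, hT.sym₂ a w, sub_self]

include hT in
theorem OT.mem_Pw_of_C₂_zero (w : J → F) (hw : w ≠ 0) (v : I × J → F) (hv : C₂ B₂ w v = 0) :
    v ∈ Pw (I := I) B₂ w := by
  obtain ⟨ws, hws⟩ := exists_partner B₂ hT.nd₂ w hw 1
  have := hT.sub_mem_Pw w ws hws v
  rwa [hv, pt_zero_left, sub_zero] at this

include hT in
theorem OT.sub_mem_Pu (x xs : I → F) (hxs : B₁ x xs = 1) (v : I × J → F) :
    v - pt xs (C₁ B₁ x v) ∈ Pu (J := J) B₁ x := by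
  revert v
  apply pt_induction
  · rw [map_zero, pt_zero_right, sub_zero]
    exact Submodule.zero_mem _
  · intro a b ha hb
    have : a + b - pt xs (C₁ B₁ x (a + b)) = (a - pt xs (C₁ B₁ x a)) + (b - pt xs (C₁ B₁ x b)) := by
      rw [map_add, pt_add_right]
      abel
    rw [this]
    exact Submodule.add_mem _ ha hb
  · intro u a
    have : pt u a - pt xs (C₁ B₁ x (pt u a)) = pt (u - B₁ u x • xs) a := by
      rw [C₁_pt, pt_smul_right, pt_sub_left, pt_smul_left]
    rw [this]
    apply Submodule.subset_span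
    refine ⟨_, a, ?_, rfl⟩
    rw [map_sub, map_smul, hxs, smul_eq_mul, mul_one, hT.sym₁ u x, sub_self]

include hT in
theorem OT.mem_Pu_of_C₁_zero (x : I → F) (hx : x ≠ 0) (v : I × J → F) (hv : C₁ B₁ x v = 0) :
    v ∈ Pu (J := J) B₁ x := by
  obtain ⟨xs, hxs⟩ := exists_partner B₁ hT.nd₁ x hx 1
  have := hT.sub_mem_Pu x xs hxs v
  rwa [hv, pt_zero_right, sub_zero] at this

variable [Fintype F]

include hT h2 in
/-- an isometry in the unipotent radical of the stabiliser of `U ⊗ w` lies in `Ω` -/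
theorem OT.rad_mem_omega_right (Hy : Hyp Q) (w : J → F) (hw0 : w ≠ 0) (hw : B₂ w w = 0)
    (g : GL (I × J) F) (hg : IsoQ Q g)
    (hfix : ∀ x, (g : Matrix (I × J) (I × J) F) *ᵥ pt x w = pt x w)
    (hmove : ∀ (x : I → F) (a : J → F), B₂ w a = 0 → ∃ x'' : I → F,
      (g : Matrix (I × J) (I × J) F) *ᵥ pt x a = pt x a + pt x'' w) :
    g ∈ Cfsg.Geo.omegaGL ⇑Q := by
  obtain ⟨ws, hwws, hws⟩ := singular_partner B₂ hT.sym₂ hT.nd₂ h2 w hw0 hw
  obtain ⟨b, hb⟩ : ∃ b : Basis (Fin (Fintype.card I)) F (I → F), b = b :=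
    ⟨(Pi.basisFun F I).reindex (Fintype.equivFin I), rfl⟩
  apply unip_mem_omegaGL Hy (fun i => pt (b i) w)
    (fun i => pt (B₁.dualBasis hT.nd₁ b i) ws) _ _ _ _ _ _ hg
  · intro i
    exact hfix _
  · intro v hv
    have hC : C₂ B₂ w v = 0 := by
      apply hT.nd₁.1
      intro y
      have hy : y ∈ Submodule.span F (Set.range b) := by
        rw [b.span_eq]
        exact Submodule.mem_top
      induction hy using Submodule.span_induction with
      | mem t ht =>
        obtain ⟨i, rfl⟩ := ht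
        have := hv i
        rw [polar_comm, hT.polar_pt_right] at this
        exact this
      | zero => simp
      | add a c _ _ ha hc => rw [map_add, ha, hc, add_zero]
      | smul r a _ ha => rw [map_smul, ha, smul_zero]
    have hvP := hT.mem_Pw_of_C₂_zero w hw0 v hC
    unfold Pw at hvP
    clear hC hv
    induction hvP using Submodule.span_induction with
    | mem t ht =>
      obtain ⟨c, a, hwa, rfl⟩ := ht
      obtain ⟨x'', hx''⟩ := hmove c a hwa
      rw [hx'', add_sub_cancel_left]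
      exact pt_left_mem_span b x'' w
    | zero =>
      rw [Matrix.mulVec_zero, sub_zero]
      exact Submodule.zero_mem _
    | add a c _ _ ha hc =>
      have : (g : Matrix (I × J) (I × J) F) *ᵥ (a + c) - (a + c) =
          ((g : Matrix (I × J) (I × J) F) *ᵥ a - a) +
          ((g : Matrix (I × J) (I × J) F) *ᵥ c - c) := by
        rw [Matrix.mulVec_add]
        abel
      rw [this]
      exact Submodule.add_mem _ ha hc
    | smul r a _ ha =>
      have : (g : Matrix (I × J) (I × J) F) *ᵥ (r • a) - r • a =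
          r • ((g : Matrix (I × J) (I × J) F) *ᵥ a - a) := by
        rw [Matrix.mulVec_smul, smul_sub]
      rw [this]
      exact Submodule.smul_mem _ _ ha
  · intro i
    exact hT.sing_right h2 _ _ hw
  · intro i
    exact hT.sing_right h2 _ _ hws
  · intro i j
    rw [hT.polar_pt, hw, mul_zero]
  · intro i j
    rw [hT.polar_pt, hws, mul_zero]
  · intro i j
    rw [hT.polar_pt, hwws, mul_one, hT.sym₁, LinearMap.BilinForm.apply_dualBasis_left]

include hT h2 in
/-- an isometry in the unipotent radical of the stabiliser of `x ⊗ W` lies in `Ω` -/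
theorem OT.rad_mem_omega_left (Hy : Hyp Q) (x : I → F) (hx0 : x ≠ 0) (hx : B₁ x x = 0)
    (g : GL (I × J) F) (hg : IsoQ Q g)
    (hfix : ∀ b, (g : Matrix (I × J) (I × J) F) *ᵥ pt x b = pt x b)
    (hmove : ∀ (a : I → F) (b : J → F), B₁ x a = 0 → ∃ b'' : J → F,
      (g : Matrix (I × J) (I × J) F) *ᵥ pt a b = pt a b + pt x b'') :
    g ∈ Cfsg.Geo.omegaGL ⇑Q := by
  obtain ⟨xs, hxxs, hxs⟩ := singular_partner B₁ hT.sym₁ hT.nd₁ h2 x hx0 hx
  obtain ⟨b, hb⟩ : ∃ b : Basis (Fin (Fintype.card J)) F (J → F), b = b :=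
    ⟨(Pi.basisFun F J).reindex (Fintype.equivFin J), rfl⟩
  apply unip_mem_omegaGL Hy (fun i => pt x (b i))
    (fun i => pt xs (B₂.dualBasis hT.nd₂ b i)) _ _ _ _ _ _ hg
  · intro i
    exact hfix _
  · intro v hv
    have hC : C₁ B₁ x v = 0 := by
      apply hT.nd₂.1
      intro y
      have hy : y ∈ Submodule.span F (Set.range b) := by
        rw [b.span_eq]
        exact Submodule.mem_top
      induction hy using Submodule.span_induction with
      | mem t ht =>
        obtain ⟨i, rfl⟩ := ht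
        have := hv i
        rw [polar_comm, hT.polar_pt_right'] at this
        exact this
      | zero => simp
      | add a c _ _ ha hc => rw [map_add, ha, hc, add_zero]
      | smul r a _ ha => rw [map_smul, ha, smul_zero]
    have hvP := hT.mem_Pu_of_C₁_zero x hx0 v hC
    unfold Pu at hvP
    clear hC hv
    induction hvP using Submodule.span_induction with
    | mem t ht =>
      obtain ⟨a, c, hxa, rfl⟩ := ht
      obtain ⟨b'', hb''⟩ := hmove a c hxa
      rw [hb'', add_sub_cancel_left]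
      exact pt_right_mem_span b x b''
    | zero =>
      rw [Matrix.mulVec_zero, sub_zero]
      exact Submodule.zero_mem _
    | add a c _ _ ha hc =>
      have : (g : Matrix (I × J) (I × J) F) *ᵥ (a + c) - (a + c) =
          ((g : Matrix (I × J) (I × J) F) *ᵥ a - a) +
          ((g : Matrix (I × J) (I × J) F) *ᵥ c - c) := by
        rw [Matrix.mulVec_add]
        abel
      rw [this]
      exact Submodule.add_mem _ ha hc
    | smul r a _ ha =>
      have : (g : Matrix (I × J) (I × J) F) *ᵥ (r • a) - r • a =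
          r • ((g : Matrix (I × J) (I × J) F) *ᵥ a - a) := by
        rw [Matrix.mulVec_smul, smul_sub]
      rw [this]
      exact Submodule.smul_mem _ _ ha
  · intro i
    exact hT.sing_left h2 _ _ hx
  · intro i
    exact hT.sing_left h2 _ _ hxs
  · intro i j
    rw [hT.polar_pt, hx, zero_mul]
  · intro i j
    rw [hT.polar_pt, hxs, zero_mul]
  · intro i j
    rw [hT.polar_pt, hxxs, one_mul, hT.sym₂, LinearMap.BilinForm.apply_dualBasis_left]

include hT h2 in
/-- Siegel elements of the `J`-side lie in `Ω` -/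
theorem OT.sieg_right_mem (Hy : Hyp Q) (w z : J → F) (hw : B₂ w w = 0) (hwz : B₂ w z = 0) :
    krL (1 : (I → F) ≃ₗ[F] (I → F)) (sieg B₂ hT.sym₂ h2 w z hw hwz) ∈ Cfsg.Geo.omegaGL ⇑Q := by
  by_cases hw0 : w = 0
  · have : sieg B₂ hT.sym₂ h2 w z hw hwz = 1 := by
      apply LinearEquiv.ext
      intro x
      rw [sieg_apply, hw0]
      simp
    rw [this, krL_one]
    exact one_mem _
  have hgiso : IsoQ Q (krL (1 : (I → F) ≃ₗ[F] (I → F)) (sieg B₂ hT.sym₂ h2 w z hw hwz)) :=
    hT.krL_iso' h2 _ _ (fun _ _ => rfl) (sieg_isom B₂ hT.sym₂ h2 w z hw hwz)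
  apply hT.rad_mem_omega_right h2 Hy w hw0 hw _ hgiso
  · intro x
    have e1 : (1 : (I → F) ≃ₗ[F] (I → F)) x = x := rfl
    rw [krL_pt, e1, sieg_apply, hw, hwz]
    simp
  · intro x a ha
    have e1 : (1 : (I → F) ≃ₗ[F] (I → F)) x = x := rfl
    refine ⟨B₂ a z • x, ?_⟩
    rw [krL_pt, e1, sieg_apply, hT.sym₂ a w, ha]
    simp only [zero_smul, mul_zero, sub_zero]
    rw [pt_add_right, pt_smul_right, pt_smul_left]

include hT h2 in
/-- Siegel elements of the `I`-side lie in `Ω` -/
theorem OT.sieg_left_mem (Hy : Hyp Q) (x y : I → F) (hx : B₁ x x = 0) (hxy : B₁ x y = 0) :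
    krL (sieg B₁ hT.sym₁ h2 x y hx hxy) (1 : (J → F) ≃ₗ[F] (J → F)) ∈ Cfsg.Geo.omegaGL ⇑Q := by
  by_cases hx0 : x = 0
  · have : sieg B₁ hT.sym₁ h2 x y hx hxy = 1 := by
      apply LinearEquiv.ext
      intro u
      rw [sieg_apply, hx0]
      simp
    rw [this, krL_one]
    exact one_mem _
  have hgiso : IsoQ Q (krL (sieg B₁ hT.sym₁ h2 x y hx hxy) (1 : (J → F) ≃ₗ[F] (J → F))) :=
    hT.krL_iso' h2 _ _ (sieg_isom B₁ hT.sym₁ h2 x y hx hxy) (fun _ _ => rfl)
  apply hT.rad_mem_omega_left h2 Hy x hx0 hx _ hgiso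
  · intro b
    have e1 : (1 : (J → F) ≃ₗ[F] (J → F)) b = b := rfl
    rw [krL_pt, e1, sieg_apply, hx, hxy]
    simp
  · intro a b ha
    have e1 : (1 : (J → F) ≃ₗ[F] (J → F)) b = b := rfl
    refine ⟨B₁ a y • b, ?_⟩
    rw [krL_pt, e1, sieg_apply, hT.sym₁ a x, ha]
    simp only [zero_smul, mul_zero, sub_zero]
    rw [pt_add_left, pt_smul_left, pt_smul_right]

end OTsec

end Cfsg.Agent.Lib.Helper1.TsC
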