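import Mathlib
import Cfsg.Agent.Lib.Helper1.TsC4

/-!
# Root-group calculus for `O(U) ⊗ O(W)`: one long root element with singular pure-tensor centre
gives `Ω`
-/

set_option autoImplicit false
set_option maxHeartbeats 4000000
set_option maxRecDepth 100000
set_option linter.unusedSimpArgs false
set_option linter.unusedVariables false
set_option linter.unusedSectionVars false
set_option linter.style.longLine false
set_option linter.deprecated false

namespace Cfsg.Agent.Lib.Helper1.TsC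

open Module QuadraticMap Matrix
open Cfsg
open Cfsg.Agent.Lib.Helper5.CartanDieudonne Cfsg.Agent.Lib.Helper5.Siegel
  Cfsg.Agent.Lib.Helper5.QuadIsom Cfsg.Agent.Lib.Helper5.Eichler
  Cfsg.Agent.Lib.Helper5.OmegaSimple Cfsg.Agent.Lib.Helper5.OrthSingularMax
open Cfsg.Agent.Lib.Helper1.UoA
open Cfsg.Agent.Lib.Helper1.TsA
open Cfsg.Agent.Lib.Helper1.TsB
open Cfsg.Agent.Lib.Helper8.Tns

variable {ι : Type} [Fintype ι] [DecidableEq ι] {F : Type*} [Field F] [Fintype F]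
  {Q : QuadraticForm F (ι → F)} {H : Subgroup (GL ι F)}

/-- scaling the centre -/
theorem RR_smul_centre {x z : ι → F} (c : F) (h : RR Q H x z) : RR Q H (c • x) z := by
  intro d
  have hx := h.sing
  have hxz : polar ⇑Q x (d • z) = 0 := by rw [polar_smul_right, h.perp, smul_zero]
  obtain ⟨hq, hp, hmem⟩ := h (c * d)
  have e := eich_smul_left Q x (d • z) hx hxz c
  have hp' : polar ⇑Q x (c • (d • z)) = 0 := by rw [polar_smul_right, hxz, smul_zero]
  have e2 : eich Q x (c • (d • z)) hx hp' = eich Q x ((c * d) • z) hq hp :=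
    eich_congr rfl (smul_smul c d z) hx hp' hq hp
  refine ⟨by rw [QuadraticMap.map_smul, hx, smul_zero],
    by rw [polar_smul_left, hxz, smul_zero], ?_⟩
  rw [e, e2]
  exact hmem

theorem RR_unsmul {x z : ι → F} {c : F} (hc : c ≠ 0) (h : RR Q H (c • x) (c • z)) :
    RR Q H x z := by
  have h1 := RR_smul c⁻¹ (RR_smul_centre c⁻¹ h)
  rwa [smul_smul, smul_smul, inv_mul_cancel₀ hc, one_smul, one_smul] at h1

theorem RR_unsmul_centre {x z : ι → F} {c : F} (hc : c ≠ 0) (h : RR Q H (c • x) z) :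
    RR Q H x z := by
  have h1 := RR_smul_centre c⁻¹ h
  rwa [smul_smul, inv_mul_cancel₀ hc, one_smul] at h1

/-- the set of `b` with `RR v (L b)` is a submodule -/
theorem RR_submodule {X : Type*} [AddCommGroup X] [Module F X] (v : ι → F) (hv : Q v = 0)
    (L : X →ₗ[F] (ι → F)) : ∃ S : Submodule F X, ∀ b, b ∈ S ↔ RR Q H v (L b) :=
  ⟨{ carrier := {b | RR Q H v (L b)}
     add_mem' := by
       intro a b ha hb
       show RR Q H v (L (a + b))
       rw [map_add]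
       exact RR_add ha hb
     zero_mem' := by
       show RR Q H v (L 0)
       rw [map_zero]
       exact RR_zero hv
     smul_mem' := by
       intro c a ha
       show RR Q H v (L (c • a))
       rw [map_smul]
       exact RR_smul c ha }, fun b => Iff.rfl⟩

theorem RR_all_of_singular {X : Type*} [AddCommGroup X] [Module F X] [FiniteDimensional F X]
    (B : LinearMap.BilinForm F X) (hodd : Fintype.card F % 2 = 1)
    (hS : ∀ x y, B x y = B y x) (hB : B.Nondegenerate) (h2 : (2 : F) ≠ 0)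
    (hd : 3 ≤ finrank F X) (v : ι → F) (hv : Q v = 0) (L : X →ₗ[F] (ι → F))
    (h : ∀ s, B s s = 0 → RR Q H v (L s)) : ∀ b, RR Q H v (L b) := by
  obtain ⟨S, hS'⟩ := RR_submodule (H := H) v hv L
  have h0 := eq_zero_of_singular B hodd hS hB h2 hd S.mkQ (fun s hs => by
    rw [Submodule.mkQ_apply, Submodule.Quotient.mk_eq_zero]
    exact (hS' s).mpr (h s hs))
  intro b
  rw [← hS' b, ← Submodule.Quotient.mk_eq_zero, ← Submodule.mkQ_apply, h0,
    LinearMap.zero_apply]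

theorem RR_all_of_singular_nonorth {X : Type*} [AddCommGroup X] [Module F X]
    [FiniteDimensional F X]
    (B : LinearMap.BilinForm F X)
    (hS : ∀ x y, B x y = B y x) (hB : B.Nondegenerate) (h2 : (2 : F) ≠ 0)
    (w₀ : X) (hw0 : w₀ ≠ 0) (hw : B w₀ w₀ = 0)
    (v : ι → F) (hv : Q v = 0) (L : X →ₗ[F] (ι → F))
    (h0 : RR Q H v (L w₀))
    (h : ∀ s, B s s = 0 → B s w₀ ≠ 0 → RR Q H v (L s)) : ∀ b, RR Q H v (L b) := by
  obtain ⟨S, hS'⟩ := RR_submodule (H := H) v hv L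
  have h00 := eq_zero_of_singular_nonorth B hS hB h2 w₀ hw0 hw S.mkQ (by
    rw [Submodule.mkQ_apply, Submodule.Quotient.mk_eq_zero]
    exact (hS' w₀).mpr h0) (fun s hs hsw => by
    rw [Submodule.mkQ_apply, Submodule.Quotient.mk_eq_zero]
    exact (hS' s).mpr (h s hs hsw))
  intro b
  rw [← hS' b, ← Submodule.Quotient.mk_eq_zero, ← Submodule.mkQ_apply, h00,
    LinearMap.zero_apply]

/-- a vector orthogonal to `u` which is not a multiple of `a₂` -/
theorem exists_perp_not_smul {V : Type*} [AddCommGroup V] [Module F V] [FiniteDimensional F V]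
    (B : LinearMap.BilinForm F V) (hB : B.Nondegenerate) (hd : 3 ≤ finrank F V) (u a₂ : V) :
    ∃ a₃, B u a₃ = 0 ∧ ∀ c : F, a₃ ≠ c • a₂ := by
  by_contra hcon
  push Not at hcon
  have hle : perpF B ![u] ≤ Submodule.span F {a₂} := by
    intro v hv
    rw [mem_perpF] at hv
    obtain ⟨c, hc⟩ := hcon v (hv 0)
    rw [hc]
    exact Submodule.smul_mem _ _ (Submodule.mem_span_singleton_self a₂)
  have h1 := Submodule.finrank_mono hle
  have h2 := finrank_perpF_ge B hB ![u]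
  have h3 : finrank F (Submodule.span F {a₂}) ≤ 1 :=
    (finrank_span_le_card ({a₂} : Set V)).trans (by simp)
  omega

/-- abstract orthogonal tensor datum: `V = U ⊗ W` with symmetric forms on the factors, an overgroup
`H` containing the Siegel elements of both factors -/
structure OD (Q : QuadraticForm F (ι → F)) (H : Subgroup (GL ι F)) (U W : Type*)
    [AddCommGroup U] [Module F U] [FiniteDimensional F U]
    [AddCommGroup W] [Module F W] [FiniteDimensional F W] where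
  B₁ : LinearMap.BilinForm F U
  B₂ : LinearMap.BilinForm F W
  sym₁ : ∀ x y, B₁ x y = B₁ y x
  sym₂ : ∀ x y, B₂ x y = B₂ y x
  nd₁ : B₁.Nondegenerate
  nd₂ : B₂.Nondegenerate
  h2 : (2 : F) ≠ 0
  hodd : Fintype.card F % 2 = 1
  dU : 3 ≤ finrank F U
  dW : 3 ≤ finrank F W
  tp : U →ₗ[F] W →ₗ[F] (ι → F)
  polar_tp : ∀ u u' w w', polar ⇑Q (tp u w) (tp u' w') = B₁ u u' * B₂ w w'
  span_tp : Submodule.span F {v | ∃ u w, v = tp u w} = ⊤
  mhU : ∀ (e z : U) (he : B₁ e e = 0) (hez : B₁ e z = 0),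
    ∃ a : ↥(isometryGroup F ⇑Q), (a : GL ι F) ∈ H ∧
      ∀ u w, act Q a (tp u w) = tp (sieg B₁ sym₁ h2 e z he hez u) w
  mhW : ∀ (e z : W) (he : B₂ e e = 0) (hez : B₂ e z = 0),
    ∃ a : ↥(isometryGroup F ⇑Q), (a : GL ι F) ∈ H ∧
      ∀ u w, act Q a (tp u w) = tp u (sieg B₂ sym₂ h2 e z he hez w)

section ODsec

variable {U W : Type*} [AddCommGroup U] [Module F U] [FiniteDimensional F U]
  [AddCommGroup W] [Module F W] [FiniteDimensional F W]

/-- swapping the factors -/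
def OD.flip (T : OD Q H U W) : OD Q H W U where
  B₁ := T.B₂
  B₂ := T.B₁
  sym₁ := T.sym₂
  sym₂ := T.sym₁
  nd₁ := T.nd₂
  nd₂ := T.nd₁
  h2 := T.h2
  hodd := T.hodd
  dU := T.dW
  dW := T.dU
  tp := T.tp.flip
  polar_tp := by
    intro w w' u u'
    rw [LinearMap.flip_apply, LinearMap.flip_apply, T.polar_tp, mul_comm]
  span_tp := by
    rw [← T.span_tp]
    congr 1
    ext v
    constructor
    · rintro ⟨w, u, rfl⟩
      exact ⟨u, w, rfl⟩
    · rintro ⟨u, w, rfl⟩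
      exact ⟨w, u, rfl⟩
  mhU := by
    intro e z he hez
    obtain ⟨a, ha, hact⟩ := T.mhW e z he hez
    exact ⟨a, ha, fun w u => by rw [LinearMap.flip_apply, LinearMap.flip_apply, hact]⟩
  mhW := by
    intro e z he hez
    obtain ⟨a, ha, hact⟩ := T.mhU e z he hez
    exact ⟨a, ha, fun w u => by rw [LinearMap.flip_apply, LinearMap.flip_apply, hact]⟩

theorem OD.flip_tp (T : OD Q H U W) (w : W) (u : U) : T.flip.tp w u = T.tp u w := rfl

theorem OD.flip_B₁ (T : OD Q H U W) : T.flip.B₁ = T.B₂ := rfl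

theorem OD.flip_B₂ (T : OD Q H U W) : T.flip.B₂ = T.B₁ := rfl

theorem OD.tp_zero_left (T : OD Q H U W) (w : W) : T.tp 0 w = 0 := by
  rw [map_zero, LinearMap.zero_apply]

theorem OD.tp_zero_right (T : OD Q H U W) (u : U) : T.tp u 0 = 0 := map_zero _

theorem OD.two_Q (T : OD Q H U W) (u : U) (w : W) :
    2 * Q (T.tp u w) = T.B₁ u u * T.B₂ w w := by
  rw [← T.polar_tp, QuadraticMap.polar_self, two_nsmul, two_mul]

theorem OD.sing_right (T : OD Q H U W) (u : U) {w : W} (hw : T.B₂ w w = 0) :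
    Q (T.tp u w) = 0 := by
  have := T.two_Q u w
  rw [hw, mul_zero] at this
  rcases mul_eq_zero.mp this with h | h
  · exact absurd h T.h2
  · exact h

theorem OD.sing_left (T : OD Q H U W) {u : U} (w : W) (hu : T.B₁ u u = 0) :
    Q (T.tp u w) = 0 := by
  have := T.two_Q u w
  rw [hu, zero_mul] at this
  rcases mul_eq_zero.mp this with h | h
  · exact absurd h T.h2
  · exact h

/-- moving singular points of `U` inside `H` -/
theorem OD.moveU (T : OD Q H U W) (x x' : U) (hx0 : x ≠ 0) (hx'0 : x' ≠ 0)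
    (hx : T.B₁ x x = 0) (hx' : T.B₁ x' x' = 0) :
    ∃ (g : U ≃ₗ[F] U) (c : F), c ≠ 0 ∧ g x = c • x' ∧
      ∀ u w u' w', RR Q H (T.tp u w) (T.tp u' w') →
        RR Q H (T.tp (g u) w) (T.tp (g u') w') := by
  obtain ⟨e, z, he, hez, c, hc, hmv⟩ :=
    exists_sieg_move T.B₁ T.sym₁ T.nd₁ T.h2 T.dU x x' hx0 hx'0 hx hx'
  obtain ⟨a, ha, hact⟩ := T.mhU e z he hez
  refine ⟨sieg T.B₁ T.sym₁ T.h2 e z he hez, c, hc, hmv, ?_⟩
  intro u w u' w' h
  have := RR_conj a ha h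
  rwa [hact, hact] at this

theorem OD.moveW (T : OD Q H U W) (x x' : W) (hx0 : x ≠ 0) (hx'0 : x' ≠ 0)
    (hx : T.B₂ x x = 0) (hx' : T.B₂ x' x' = 0) :
    ∃ (g : W ≃ₗ[F] W) (c : F), c ≠ 0 ∧ g x = c • x' ∧
      ∀ u w u' w', RR Q H (T.tp u w) (T.tp u' w') →
        RR Q H (T.tp u (g w)) (T.tp u' (g w')) := by
  obtain ⟨g, c, hc, hg, h⟩ := T.flip.moveU x x' hx0 hx'0 hx hx'
  exact ⟨g, c, hc, hg, fun u w u' w' hr => h w u w' u' hr⟩

/-- singular `x`, `w`: same `U`-vector -/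
def OD.PS (T : OD Q H U W) : Prop :=
  ∀ x w b, T.B₁ x x = 0 → T.B₂ w w = 0 → RR Q H (T.tp x w) (T.tp x b)

/-- singular `x`, `w`: same `W`-vector -/
def OD.SP (T : OD Q H U W) : Prop :=
  ∀ x w a, T.B₁ x x = 0 → T.B₂ w w = 0 → RR Q H (T.tp x w) (T.tp a w)

/-- singular `w`: same `W`-vector -/
def OD.XS (T : OD Q H U W) : Prop :=
  ∀ a a' w, T.B₂ w w = 0 → RR Q H (T.tp a w) (T.tp a' w)

/-- singular `w`, orthogonal `U`-vectors -/
def OD.G1 (T : OD Q H U W) : Prop :=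
  ∀ u a₂ w b, T.B₂ w w = 0 → T.B₁ u a₂ = 0 → RR Q H (T.tp u w) (T.tp a₂ b)

theorem OD.flip_PS (T : OD Q H U W) : T.flip.PS ↔ T.SP := by
  constructor
  · intro h x w a hx hw
    exact h w x a hw hx
  · intro h w x a hw hx
    exact h x w a hx hw

theorem OD.flip_SP (T : OD Q H U W) : T.flip.SP ↔ T.PS := by
  constructor
  · intro h x w b hx hw
    exact h w x b hw hx
  · intro h w x b hw hx
    exact h x w b hx hw

/-- homogenisation: one long root element gives `PS` -/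
theorem OD.PS_of_start (T : OD Q H U W) (x₀ s₀ : U) (w₀ : W) (hx₀ : x₀ ≠ 0) (hw₀ : w₀ ≠ 0)
    (hx : T.B₁ x₀ x₀ = 0) (hw : T.B₂ w₀ w₀ = 0) (hxs : T.B₁ x₀ s₀ = 0)
    (hs : T.B₁ s₀ s₀ ≠ 0) (hst : RR Q H (T.tp x₀ w₀) (T.tp s₀ w₀)) : T.PS := by
  have hsym : RR Q H (T.tp s₀ w₀) (T.tp x₀ w₀) := RR_symm (T.sing_right s₀ hw) hst
  -- step A
  have hA : ∀ w', T.B₂ w' w' = 0 → T.B₂ w' w₀ ≠ 0 →
      RR Q H (T.tp x₀ w₀) (T.tp x₀ w') := by
    intro w' hw' hne
    have hw'0 : w' ≠ 0 := by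
      intro h
      rw [h, map_zero, LinearMap.zero_apply] at hne
      exact hne rfl
    obtain ⟨g, c, hc, hg, hmv⟩ := T.moveW w₀ w' hw₀ hw'0 hw hw'
    have h1 := hmv s₀ w₀ x₀ w₀ hsym
    rw [hg, map_smul, map_smul] at h1
    have h2 := RR_unsmul hc h1
    have key := RR_step (x := T.tp x₀ w₀) (y := T.tp s₀ w') (y' := T.tp x₀ w')
      (z := T.tp s₀ w₀) (T.sing_left w' hx)
      (by rw [T.polar_tp, hxs, zero_mul])
      (by rw [T.polar_tp, hx, zero_mul])
      h2 hst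
      (by rw [T.polar_tp, hxs, zero_mul])
    rw [T.polar_tp] at key
    have hk : T.B₁ s₀ s₀ * T.B₂ w' w₀ ≠ 0 := mul_ne_zero hs hne
    have := RR_smul (T.B₁ s₀ s₀ * T.B₂ w' w₀)⁻¹ key
    rwa [smul_smul, inv_mul_cancel₀ hk, one_smul] at this
  -- step B
  have hB : ∀ b, RR Q H (T.tp x₀ w₀) (T.tp x₀ b) := by
    apply RR_all_of_singular_nonorth T.B₂ T.sym₂ T.nd₂ T.h2 w₀ hw₀ hw (T.tp x₀ w₀)
      (T.sing_left w₀ hx) (T.tp x₀)
    · have := RR_self (H := H) (T.sing_left w₀ hx) (1 : F)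
      rwa [one_smul] at this
    · exact hA
  -- step C
  intro x w b hx' hw'
  by_cases hx0 : x = 0
  · rw [hx0, T.tp_zero_left]
    exact RR_zero_left _
  by_cases hw0 : w = 0
  · rw [hw0, T.tp_zero_right]
    exact RR_zero_left _
  obtain ⟨g₁, c₁, hc₁, hg₁, hmv₁⟩ := T.moveU x₀ x hx₀ hx0 hx hx'
  obtain ⟨g₂, c₂, hc₂, hg₂, hmv₂⟩ := T.moveW w₀ w hw₀ hw0 hw hw'
  have h1 : ∀ b, RR Q H (T.tp x w₀) (T.tp x b) := by
    intro b
    have h := hmv₁ x₀ w₀ x₀ b (hB b)
    rw [hg₁, map_smul, LinearMap.smul_apply, LinearMap.smul_apply] at h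
    exact RR_unsmul hc₁ h
  have h := hmv₂ x w₀ x (g₂.symm b) (h1 _)
  rw [hg₂, LinearEquiv.apply_symm_apply, map_smul] at h
  exact RR_unsmul_centre hc₂ h

/-- `PS ⇒ SP` -/
theorem OD.SP_of_PS (T : OD Q H U W) (h : T.PS) : T.SP := by
  obtain ⟨x₀, hx₀, hx⟩ := exists_singular T.B₁ T.hodd T.sym₁ T.nd₁ T.h2 T.dU
  obtain ⟨w₀, hw₀, hw⟩ := exists_singular T.B₂ T.hodd T.sym₂ T.nd₂ T.h2 T.dW
  obtain ⟨b₀, hb₀, hbb⟩ := exists_nonsing_perpF T.B₂ T.sym₂ T.nd₂ T.h2 ![w₀]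
    (by have := T.dW; omega)
  have hwb : T.B₂ w₀ b₀ = 0 := hb₀ 0
  rw [← T.flip_PS]
  exact T.flip.PS_of_start w₀ b₀ x₀ hw₀ hx₀ hw hx hwb hbb (h x₀ w₀ b₀ hx hw)

/-- `SP ⇒ XS` -/
theorem OD.XS_of_SP (T : OD Q H U W) (h : T.SP) : T.XS := by
  intro a a' w hw
  revert a'
  apply RR_all_of_singular T.B₁ T.hodd T.sym₁ T.nd₁ T.h2 T.dU (T.tp a w) (T.sing_right a hw)
    (T.tp.flip w)
  intro s hs
  rw [LinearMap.flip_apply]
  exact RR_symm (T.sing_right a hw) (h s w a hs hw)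

/-- `XS ⇒ G1` -/
theorem OD.G1_of_XS (T : OD Q H U W) (h : T.XS) : T.G1 := by
  intro u a₂ w b hw hua
  by_cases hw0 : w = 0
  · rw [hw0, T.tp_zero_right]
    exact RR_zero_left _
  by_cases ha0 : a₂ = 0
  · rw [ha0, T.tp_zero_left]
    exact RR_zero (T.sing_right u hw)
  obtain ⟨a₃, hua₃, hns⟩ := exists_perp_not_smul T.B₁ T.nd₁ T.dU u a₂
  have hli : LinearIndependent F ![a₂, a₃] := pair_indep_of_not_smul ha0 hns
  obtain ⟨a₁, ha₁⟩ := exists_prescribed T.B₁ T.nd₁ ![a₂, a₃] hli ![0, 1]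
  have h21 : T.B₁ a₂ a₁ = 0 := ha₁ 0
  have h31 : T.B₁ a₃ a₁ = 1 := ha₁ 1
  revert b
  apply RR_all_of_singular_nonorth T.B₂ T.sym₂ T.nd₂ T.h2 w hw0 hw (T.tp u w)
    (T.sing_right u hw) (T.tp a₂)
  · exact h u a₂ w hw
  · intro w' hw' hne
    have key := RR_step (x := T.tp u w) (y := T.tp a₃ w') (y' := T.tp a₂ w')
      (z := T.tp a₁ w) (T.sing_right a₂ hw')
      (by rw [T.polar_tp, hua₃, zero_mul])
      (by rw [T.polar_tp, hua, zero_mul])
      (h a₃ a₂ w' hw') (h u a₁ w hw)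
      (by rw [T.polar_tp, h21, zero_mul])
    rw [T.polar_tp, h31, one_mul] at key
    have := RR_smul (T.B₂ w' w)⁻¹ key
    rwa [smul_smul, inv_mul_cancel₀ hne, one_smul] at this

/-- the flipped `G1` -/
theorem OD.flip_G1 (T : OD Q H U W) (h : T.flip.G1) :
    ∀ x b₂ w a, T.B₁ x x = 0 → T.B₂ w b₂ = 0 → RR Q H (T.tp x w) (T.tp a b₂) := by
  intro x b₂ w a hx hwb
  exact h w b₂ x a hx hwb

/-- with `G1` and its flip, singular pure tensors are centres -/
theorem OD.isCentre_tp (T : OD Q H U W) (h1 : T.G1) (h2 : T.flip.G1) (x : U) (w : W)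
    (hx : T.B₁ x x = 0) (hw : T.B₂ w w = 0) : IsCentre Q H (T.tp x w) := by
  by_cases hx0 : x = 0
  · rw [hx0, T.tp_zero_left]
    exact isCentre_zero H
  by_cases hw0 : w = 0
  · rw [hw0, T.tp_zero_right]
    exact isCentre_zero H
  obtain ⟨us, hus⟩ := exists_partner T.B₁ T.nd₁ x hx0 1
  obtain ⟨ws, hws⟩ := exists_partner T.B₂ T.nd₂ w hw0 1
  have key : ∀ z : ι → F, ∃ z', RR Q H (T.tp x w) z' ∧
      z = polar ⇑Q (T.tp x w) z • T.tp us ws + z' := by
    intro z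
    have hz : z ∈ Submodule.span F {v | ∃ u w, v = T.tp u w} := by
      rw [T.span_tp]
      exact Submodule.mem_top
    induction hz using Submodule.span_induction with
    | mem v hv =>
      obtain ⟨u', w', rfl⟩ := hv
      set α := T.B₁ x u' with hα
      set β := T.B₂ w w' with hβ
      refine ⟨α • T.tp us (w' - β • ws) + T.tp (u' - α • us) w', ?_, ?_⟩
      · apply RR_add
        · apply RR_smul
          apply T.flip_G1 h2 x _ w us hx
          rw [map_sub, map_smul, hws, smul_eq_mul, mul_one, hβ, sub_self]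
        · apply h1 x _ w w' hw
          rw [map_sub, map_smul, hus, smul_eq_mul, mul_one, hα, sub_self]
      · rw [T.polar_tp, ← hα, ← hβ]
        simp only [map_sub, map_smul, LinearMap.sub_apply, LinearMap.smul_apply, smul_sub,
          smul_smul]
        module
    | zero =>
      refine ⟨0, RR_zero (T.sing_right x hw), ?_⟩
      simp [polar]
    | add a b _ _ ha hb =>
      obtain ⟨x', hx1, hx2⟩ := ha
      obtain ⟨y', hy1, hy2⟩ := hb
      refine ⟨x' + y', RR_add hx1 hy1, ?_⟩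
      rw [polar_add_right, add_smul]
      nth_rewrite 1 [hx2]
      nth_rewrite 1 [hy2]
      abel
    | smul c a _ ha =>
      obtain ⟨x', hx1, hx2⟩ := ha
      refine ⟨c • x', RR_smul c hx1, ?_⟩
      rw [polar_smul_right]
      nth_rewrite 1 [hx2]
      rw [smul_add, smul_smul, smul_eq_mul]
  refine ⟨T.sing_right x hw, fun hq z hxz => ?_⟩
  obtain ⟨z', hz1, hz2⟩ := key z
  rw [hxz, zero_smul, zero_add] at hz2
  obtain ⟨ha, hb, hmem⟩ := hz1 1
  have e : eich Q (T.tp x w) z hq hxz = eich Q (T.tp x w) ((1 : F) • z') ha hb := by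
    apply eich_congr rfl
    rw [one_smul, hz2]
  rw [e]
  exact hmem

/-- polar form against `y` vanishing on singular pure tensors vanishes identically -/
theorem OD.polar_zero_of_singular (T : OD Q H U W) (y : ι → F)
    (h : ∀ x w, T.B₁ x x = 0 → T.B₂ w w = 0 → polar ⇑Q (T.tp x w) y = 0) :
    ∀ u w, polar ⇑Q (T.tp u w) y = 0 := by
  have h1 : ∀ w, T.B₂ w w = 0 → ∀ u, polar ⇑Q (T.tp u w) y = 0 := by
    intro w hw
    have := eq_zero_of_singular T.B₁ T.hodd T.sym₁ T.nd₁ T.h2 T.dU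
      (((polarBilin Q).flip y) ∘ₗ (T.tp.flip w)) (fun s hs => by
        rw [LinearMap.comp_apply, LinearMap.flip_apply, LinearMap.flip_apply,
          polarBilin_apply_apply]
        exact h s w hs hw)
    intro u
    have e := LinearMap.congr_fun this u
    rwa [LinearMap.comp_apply, LinearMap.flip_apply, LinearMap.flip_apply,
      polarBilin_apply_apply, LinearMap.zero_apply] at e
  intro u
  have := eq_zero_of_singular T.B₂ T.hodd T.sym₂ T.nd₂ T.h2 T.dW
    (((polarBilin Q).flip y) ∘ₗ (T.tp u)) (fun s hs => by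
      rw [LinearMap.comp_apply, LinearMap.flip_apply, polarBilin_apply_apply]
      exact h1 s hs u)
  intro w
  have e := LinearMap.congr_fun this w
  rwa [LinearMap.comp_apply, LinearMap.flip_apply, polarBilin_apply_apply,
    LinearMap.zero_apply] at e

/-- if every singular pure tensor is a centre then `Ω ≤ H` -/
theorem OD.omega_le_of_centres (T : OD Q H U W) (Hy : Hyp Q)
    (hc : ∀ x w, T.B₁ x x = 0 → T.B₂ w w = 0 → IsCentre Q H (T.tp x w)) :
    Cfsg.Geo.omegaGL ⇑Q ≤ H := by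
  apply omegaGL_le Hy
  intro y hy
  by_cases hy0 : y = 0
  · rw [hy0]
    exact isCentre_zero H
  have h1 : ∃ x w, T.B₁ x x = 0 ∧ T.B₂ w w = 0 ∧ polar ⇑Q (T.tp x w) y ≠ 0 := by
    by_contra hcon
    push Not at hcon
    apply hy0
    have h3 := T.polar_zero_of_singular y hcon
    have h2 : ∀ z : ι → F, polar ⇑Q z y = 0 := by
      intro z
      have hz : z ∈ Submodule.span F {v | ∃ u w, v = T.tp u w} := by
        rw [T.span_tp]
        exact Submodule.mem_top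
      induction hz using Submodule.span_induction with
      | mem v hv =>
        obtain ⟨u', w', rfl⟩ := hv
        exact h3 u' w'
      | zero => simp [polar]
      | add a b _ _ ha hb => rw [polar_add_left, ha, hb, add_zero]
      | smul c a _ ha => rw [polar_smul_left, ha, smul_zero]
    exact Hy.nondeg.2 y (fun z => by
      have := h2 z
      rwa [← polarBilin_apply_apply] at this)
  obtain ⟨x, w, hx, hw, hxw⟩ := h1
  have hx0 : x ≠ 0 := by
    intro h
    rw [h, T.tp_zero_left] at hxw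
    apply hxw
    simp [polar]
  have hw0 : w ≠ 0 := by
    intro h
    rw [h, T.tp_zero_right] at hxw
    apply hxw
    simp [polar]
  obtain ⟨xs, hxs, hxss⟩ := singular_partner T.B₁ T.sym₁ T.nd₁ T.h2 x hx0 hx
  obtain ⟨ws, hws, hwss⟩ := singular_partner T.B₂ T.sym₂ T.nd₂ T.h2 w hw0 hw
  set c := polar ⇑Q (T.tp x w) y with hc'
  have hx' : IsCentre Q H (c⁻¹ • T.tp x w) := isCentre_smul _ (hc x w hx hw)
  have hcs : T.B₁ (c • xs) (c • xs) = 0 := by
    simp only [map_smul, LinearMap.smul_apply, hxss, smul_zero]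
  have hy₀ : IsCentre Q H (T.tp (c • xs) ws) := hc _ _ hcs hwss
  have e1 : polar ⇑Q (c⁻¹ • T.tp x w) y = 1 := by
    rw [polar_smul_left, ← hc', smul_eq_mul, inv_mul_cancel₀ hxw]
  have e2 : polar ⇑Q (c⁻¹ • T.tp x w) (T.tp (c • xs) ws) = 1 := by
    rw [polar_smul_left, T.polar_tp, map_smul, hxs, hws, smul_eq_mul, smul_eq_mul, mul_one, mul_one,
      inv_mul_cancel₀ hxw]
  obtain ⟨w', hew, hmove⟩ := move_partner (c⁻¹ • T.tp x w) (T.tp (c • xs) ws) y hx'.1
    (T.sing_right _ hwss) e2 hy e1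
  have hmem := hx'.2 hx'.1 w' hew
  have := isCentre_act (eich Q (c⁻¹ • T.tp x w) w' hx'.1 hew) hmem hy₀
  rwa [hmove] at this

/-- one long root element `e_{x₀ ⊗ w₀, s₀ ⊗ w₀}` (`x₀, w₀` singular, `s₀ ⊥ x₀` non-singular) in `H`
forces `Ω ≤ H` -/
theorem OD.omega_le (T : OD Q H U W) (Hy : Hyp Q) (x₀ s₀ : U) (w₀ : W) (hx₀ : x₀ ≠ 0)
    (hw₀ : w₀ ≠ 0) (hx : T.B₁ x₀ x₀ = 0) (hw : T.B₂ w₀ w₀ = 0) (hxs : T.B₁ x₀ s₀ = 0)
    (hs : T.B₁ s₀ s₀ ≠ 0) (hst : RR Q H (T.tp x₀ w₀) (T.tp s₀ w₀)) :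
    Cfsg.Geo.omegaGL ⇑Q ≤ H := by
  have hPS : T.PS := T.PS_of_start x₀ s₀ w₀ hx₀ hw₀ hx hw hxs hs hst
  have hSP : T.SP := T.SP_of_PS hPS
  have hXS : T.XS := T.XS_of_SP hSP
  have hXS' : T.flip.XS := T.flip.XS_of_SP (T.flip_SP.mpr hPS)
  have hG1 : T.G1 := T.G1_of_XS hXS
  have hG1' : T.flip.G1 := T.flip.G1_of_XS hXS'
  exact T.omega_le_of_centres Hy (fun x w hx hw => T.isCentre_tp hG1 hG1' x w hx hw)

end ODsec

end Cfsg.Agent.Lib.Helper1.TsC
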