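import Mathlib
import Cfsg.Agent.Lib.Helper1.TsC5

/-!
# `O(U) ⊗ O(W)`: elements `1 + L ⊗ (w wᵀ)` with `w` singular in a proper overgroup are trivial
-/

set_option autoImplicit false
set_option maxHeartbeats 4000000
set_option maxRecDepth 100000
set_option linter.unusedSimpArgs false
set_option linter.unusedVariables false
set_option linter.unusedSectionVars false
set_option linter.style.longLine false
set_option linter.deprecated false

namespace Cfsg.Agent.Lib.Helper1.TsC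

open Module QuadraticMap Matrix
open Cfsg
open Cfsg.Agent.Lib.Helper5.CartanDieudonne Cfsg.Agent.Lib.Helper5.Siegel
  Cfsg.Agent.Lib.Helper5.QuadIsom Cfsg.Agent.Lib.Helper5.Eichler
  Cfsg.Agent.Lib.Helper5.OmegaSimple Cfsg.Agent.Lib.Helper5.OrthSingularMax
open Cfsg.Agent.Lib.Helper1.UoA
open Cfsg.Agent.Lib.Helper1.TsA
open Cfsg.Agent.Lib.Helper1.TsB
open Cfsg.Agent.Lib.Helper8.Tns

local notation "Ξ" => Cfsg.Agent.Lib.Helper1.TsA.Xi

/-! ### general lemmas on skew operators -/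

section gen

variable {F : Type*} [Field F] {V : Type*} [AddCommGroup V] [Module F V]
  (B : LinearMap.BilinForm F V)

theorem nOp_add_right (x a b : V) : nOp B x (a + b) = nOp B x a + nOp B x b := by
  apply LinearMap.ext
  intro u
  simp only [nOp_apply, LinearMap.add_apply, map_add]
  module

theorem nOp_sub_right (x a b : V) : nOp B x (a - b) = nOp B x a - nOp B x b := by
  apply LinearMap.ext
  intro u
  simp only [nOp_apply, LinearMap.sub_apply, map_sub]
  module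

theorem nOp_smul_right (x a : V) (c : F) : nOp B x (c • a) = c • nOp B x a := by
  apply LinearMap.ext
  intro u
  simp only [nOp_apply, LinearMap.smul_apply, map_smul, smul_eq_mul]
  module

/-- the second-order term of the conjugates of a skew operator by Siegel elements -/
theorem conj_double (hS : ∀ x y, B x y = B y x) (h2 : (2 : F) ≠ 0) (θ : V →ₗ[F] V)
    (hsk : ∀ u v, B (θ u) v + B u (θ v) = 0) (x y : V) (hx : B x x = 0) (hxy : B x y = 0)
    (c : F) (hc : B x (c • y) = 0) (hc' : B x ((-c) • y) = 0) :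
    ((sieg B hS h2 x (c • y) hx hc : V ≃ₗ[F] V) : V →ₗ[F] V) ∘ₗ θ ∘ₗ
        (((sieg B hS h2 x (c • y) hx hc).symm : V ≃ₗ[F] V) : V →ₗ[F] V) +
      ((sieg B hS h2 x ((-c) • y) hx hc' : V ≃ₗ[F] V) : V →ₗ[F] V) ∘ₗ θ ∘ₗ
        (((sieg B hS h2 x ((-c) • y) hx hc').symm : V ≃ₗ[F] V) : V →ₗ[F] V) - θ - θ =
      c ^ 2 • nOp B x (B y y • θ x - (2 * B (θ x) y) • y) := by
  rw [sieg_coe B hS h2 x y hx hxy c hc, sieg_symm_coe B hS h2 x y hx hxy c hc,
    sieg_coe B hS h2 x y hx hxy (-c) hc', sieg_symm_coe B hS h2 x y hx hxy (-c) hc']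
  obtain ⟨N, hNdef⟩ : ∃ N : V →ₗ[F] V, N = nOp B x y := ⟨_, rfl⟩
  obtain ⟨M, hMdef⟩ : ∃ M : V →ₗ[F] V, M = -(B y y / 2) • rkV B x x := ⟨_, rfl⟩
  rw [← hNdef, ← hMdef]
  have e1 := conj_expand (F := F) N M θ c
  have e2 := conj_expand (F := F) N M θ (-c)
  have e1' : (1 + c • N + c ^ 2 • M) ∘ₗ θ ∘ₗ (1 - c • N + c ^ 2 • M) =
      (1 + c • N + c ^ 2 • M) * θ * (1 - c • N + c ^ 2 • M) := by
    rw [mul_assoc]
    rfl
  have e2' : (1 + (-c) • N + (-c) ^ 2 • M) ∘ₗ θ ∘ₗ (1 - (-c) • N + (-c) ^ 2 • M) =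
      (1 + (-c) • N + (-c) ^ 2 • M) * θ * (1 - (-c) • N + (-c) ^ 2 • M) := by
    rw [mul_assoc]
    rfl
  rw [e1', e2', e1, e2]
  have hθxx : B (θ x) x = 0 := by
    have h := hsk x x
    rw [hS x (θ x)] at h
    have h' : (2 : F) * B (θ x) x = 0 := by linear_combination h
    rcases mul_eq_zero.mp h' with h0 | h0
    · exact absurd h0 h2
    · exact h0
  have hθyy : B (θ y) y = 0 := by
    have h := hsk y y
    rw [hS y (θ y)] at h
    have h' : (2 : F) * B (θ y) y = 0 := by linear_combination h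
    rcases mul_eq_zero.mp h' with h0 | h0
    · exact absurd h0 h2
    · exact h0
  have hθyx : B (θ y) x = -B (θ x) y := by
    have h := hsk y x
    rw [hS y (θ x)] at h
    linear_combination h
  have hθux : ∀ u, B (θ u) x = -B u (θ x) := by
    intro u
    have h := hsk u x
    linear_combination h
  obtain ⟨hh, hhdef⟩ : ∃ hh : F, hh = B y y / 2 := ⟨_, rfl⟩
  have hβ : B y y = 2 * hh := by
    rw [hhdef]
    field_simp
  have hT4 : M * θ * M = 0 := by
    apply LinearMap.ext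
    intro u
    rw [hMdef]
    simp only [Module.End.mul_apply, LinearMap.smul_apply, rkV_apply, map_smul,
      LinearMap.zero_apply, hθxx, zero_smul, smul_zero]
  have hT2 : (2 : F) • (M * θ + θ * M - N * θ * N) =
      nOp B x (B y y • θ x - (2 * B (θ x) y) • y) := by
    apply LinearMap.ext
    intro u
    rw [hMdef, hNdef, ← hhdef, hβ]
    simp only [Module.End.mul_apply, LinearMap.smul_apply, LinearMap.add_apply,
      LinearMap.sub_apply, LinearMap.neg_apply, rkV_apply, nOp_apply, map_smul, map_sub, map_add,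
      map_neg, smul_eq_mul, hθxx, hθyy, hθyx, hθux, zero_smul, smul_zero, sub_zero, zero_sub]
    module
  calc θ + c • (N * θ - θ * N) + c ^ 2 • (M * θ + θ * M - N * θ * N) +
        c ^ 3 • (N * θ * M - M * θ * N) + c ^ 4 • (M * θ * M) +
      (θ + (-c) • (N * θ - θ * N) + (-c) ^ 2 • (M * θ + θ * M - N * θ * N) +
        (-c) ^ 3 • (N * θ * M - M * θ * N) + (-c) ^ 4 • (M * θ * M)) - θ - θ
      = c ^ 2 • ((2 : F) • (M * θ + θ * M - N * θ * N)) + c ^ 4 • ((2 : F) • (M * θ * M)) := by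
        module
    _ = c ^ 2 • nOp B x (B y y • θ x - (2 * B (θ x) y) • y) := by
        rw [hT2, hT4, smul_zero, smul_zero, add_zero]

variable [FiniteDimensional F V] [Fintype F]

/-- a non-zero skew operator moves some singular point -/
theorem exists_sing_not_eigen (hodd : Fintype.card F % 2 = 1) (hS : ∀ x y, B x y = B y x)
    (hB : B.Nondegenerate) (h2 : (2 : F) ≠ 0) (hd : 3 ≤ finrank F V) (L : V →ₗ[F] V)
    (hsk : ∀ u v, B (L u) v + B u (L v) = 0) (hL : L ≠ 0) :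
    ∃ x, x ≠ 0 ∧ B x x = 0 ∧ ∀ c : F, L x ≠ c • x := by
  by_contra hcon
  push Not at hcon
  apply hL
  apply eq_zero_of_singular B hodd hS hB h2 hd L
  intro s hs
  by_cases hs0 : s = 0
  · rw [hs0, map_zero]
  obtain ⟨s', hss', hs's'⟩ := singular_partner B hS hB h2 s hs0 hs
  obtain ⟨z, hzz, hsz, hs'z⟩ := exists_nonsing_perp_hyp B hS hB h2 hd s s' hs hs's' hss'
  have hs's : B s' s = 1 := by rw [hS, hss']
  have hzs : B z s = 0 := by rw [hS, hsz]
  have hzs' : B z s' = 0 := by rw [hS, hs'z]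
  have hs'0 : s' ≠ 0 := by
    intro h
    rw [h, map_zero] at hss'
    exact zero_ne_one hss'
  obtain ⟨lam, hlam⟩ := hcon s hs0 hs
  obtain ⟨lam', hlam'⟩ := hcon s' hs'0 hs's'
  have h1 : lam + lam' = 0 := by
    have := hsk s s'
    rw [hlam, hlam'] at this
    simp only [map_smul, LinearMap.smul_apply, smul_eq_mul, hss'] at this
    linear_combination this
  obtain ⟨hh, hhdef⟩ : ∃ hh : F, hh = B z z / 2 := ⟨_, rfl⟩
  have hh0 : hh ≠ 0 := by
    rw [hhdef]
    exact div_ne_zero hzz h2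
  have key : ∀ t : F, L (s + t • z - (t ^ 2 * hh) • s') = lam • (s + t • z - (t ^ 2 * hh) • s') := by
    intro t
    have hsing : B (s + t • z - (t ^ 2 * hh) • s') (s + t • z - (t ^ 2 * hh) • s') = 0 := by
      have := sing_hyp B hS h2 s s' z hs hs's' hss' hsz hs'z t
      have e : t ^ 2 * B z z / 2 = t ^ 2 * hh := by
        rw [hhdef]
        ring
      rwa [e] at this
    have hpair : B (s + t • z - (t ^ 2 * hh) • s') s' = 1 := by
      simp only [map_add, map_sub, map_smul, LinearMap.add_apply, LinearMap.sub_apply,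
        LinearMap.smul_apply, smul_eq_mul, hss', hzs', hs's', mul_zero, add_zero, sub_zero]
    have hne : s + t • z - (t ^ 2 * hh) • s' ≠ 0 := by
      intro h
      rw [h, map_zero, LinearMap.zero_apply] at hpair
      exact zero_ne_one hpair
    obtain ⟨mu, hmu⟩ := hcon _ hne hsing
    have h3 := hsk (s + t • z - (t ^ 2 * hh) • s') s'
    rw [hmu, hlam', map_smul, LinearMap.smul_apply, map_smul, hpair] at h3
    have h4 : mu = lam := by
      simp only [smul_eq_mul, mul_one] at h3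
      linear_combination h3 - h1
    rw [hmu, h4]
  have k1 := key 1
  have k2 := key (-1)
  have k3 : L ((2 : F) • s - (2 * hh) • s') = lam • ((2 : F) • s - (2 * hh) • s') := by
    have e : (2 : F) • s - (2 * hh) • s' =
        (s + (1 : F) • z - ((1 : F) ^ 2 * hh) • s') + (s + (-1 : F) • z - ((-1 : F) ^ 2 * hh) • s') := by
      module
    rw [e, map_add, k1, k2, smul_add]
  rw [map_sub, map_smul, map_smul, hlam, hlam'] at k3
  have k4 := congrArg (fun v => B v s) k3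
  simp only [map_sub, map_smul, LinearMap.sub_apply, LinearMap.smul_apply, smul_eq_mul, hs, hs's,
    mul_zero, mul_one, zero_sub, sub_zero] at k4
  have k5 : (4 : F) * hh * lam = 0 := by linear_combination k4 + 2 * hh * h1
  have h4 : (4 : F) ≠ 0 := by
    have : (4 : F) = 2 * 2 := by norm_num
    rw [this]
    exact mul_ne_zero h2 h2
  have hlam0 : lam = 0 := by
    rcases mul_eq_zero.mp k5 with h | h
    · rcases mul_eq_zero.mp h with h' | h'
      · exact absurd h' h4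
      · exact absurd h' hh0
    · exact h
  rw [hlam, hlam0, zero_smul]

/-- a pair of independent, mutually orthogonal singular vectors spans a totally singular plane -/
theorem finrank_ge_of_ts_pair (hB : B.Nondegenerate) (x l : V) (hli : LinearIndependent F ![x, l])
    (hx : B x x = 0) (hl : B l l = 0) (hxl : B x l = 0) (hlx : B l x = 0) :
    4 ≤ finrank F V := by
  have hr : Set.range ![x, l] = {x, l} := by
    ext v
    constructor
    · rintro ⟨i, rfl⟩
      fin_cases i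
      · simp
      · simp
    · rintro (rfl | rfl)
      · exact ⟨0, rfl⟩
      · exact ⟨1, rfl⟩
  have hfin : finrank F ↥(Submodule.span F ({x, l} : Set V)) = 2 := by
    rw [← hr, finrank_span_eq_card hli]
    simp
  have hts : ∀ a ∈ Submodule.span F ({x, l} : Set V), ∀ b ∈ Submodule.span F ({x, l} : Set V),
      B a b = 0 := by
    intro a ha b hb
    obtain ⟨s, t, rfl⟩ := Submodule.mem_span_pair.mp ha
    obtain ⟨s', t', rfl⟩ := Submodule.mem_span_pair.mp hb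
    simp only [map_add, map_smul, LinearMap.add_apply, LinearMap.smul_apply, smul_eq_mul, hx, hl,
      hxl, hlx, mul_zero, add_zero]
  have := finrank_add_le_of_orth B hB _ _ hts
  rw [hfin] at this
  omega

end gen

/-! ### the operators `L` with `1 + L ⊗ (w wᵀ) ∈ H` -/

section Lwsec

variable {I J : Type} [Fintype I] [DecidableEq I] [Fintype J] [DecidableEq J]
  {F : Type*} [Field F]
  {Q : QuadraticForm F (I × J → F)} {B₁ : LinearMap.BilinForm F (I → F)}
  {B₂ : LinearMap.BilinForm F (J → F)}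

/-- `H` consists of isometries and contains the Siegel elements of both factors -/
structure OH (hT : OT Q B₁ B₂) (h2 : (2 : F) ≠ 0) (H : Subgroup (GL (I × J) F)) : Prop where
  memU : ∀ (e z : I → F) (he : B₁ e e = 0) (hez : B₁ e z = 0),
    krL (sieg B₁ hT.sym₁ h2 e z he hez) (1 : (J → F) ≃ₗ[F] (J → F)) ∈ H
  memW : ∀ (e z : J → F) (he : B₂ e e = 0) (hez : B₂ e z = 0),
    krL (1 : (I → F) ≃ₗ[F] (I → F)) (sieg B₂ hT.sym₂ h2 e z he hez) ∈ H
  iso : ∀ g ∈ H, IsoQ Q g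

/-- the operators `L` such that `1 + L ⊗ (w wᵀ)` lies in `H` -/
def Lw (H : Subgroup (GL (I × J) F)) (B₂ : LinearMap.BilinForm F (J → F)) (w : J → F) :
    Set ((I → F) →ₗ[F] (I → F)) :=
  {L | ∃ g ∈ H, Acts g (Ξ B₂ L w w)}

variable {hT : OT Q B₁ B₂} {h2 : (2 : F) ≠ 0} {H : Subgroup (GL (I × J) F)}

theorem Lw_zero (w : J → F) : (0 : (I → F) →ₗ[F] (I → F)) ∈ Lw H B₂ w := by
  refine ⟨1, H.one_mem, ?_⟩
  have : Ξ B₂ (0 : (I → F) →ₗ[F] (I → F)) w w = 0 := by
    apply lin_ext_pt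
    intro u b
    rw [Xi_pt, LinearMap.zero_apply, pt_zero_left, smul_zero, LinearMap.zero_apply]
  rw [this]
  exact Acts_one

theorem Lw_add (w : J → F) (hw : B₂ w w = 0) {L L' : (I → F) →ₗ[F] (I → F)}
    (hL : L ∈ Lw H B₂ w) (hL' : L' ∈ Lw H B₂ w) : L + L' ∈ Lw H B₂ w := by
  obtain ⟨g, hg, hgA⟩ := hL
  obtain ⟨g', hg', hgA'⟩ := hL'
  refine ⟨g * g', H.mul_mem hg hg', ?_⟩
  have := hgA.mul_of_comp_zero hgA' (Xi_comp_zero B₂ L L' w w w w hw)
  rwa [← Xi_add_left] at this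

theorem Lw_neg (w : J → F) (hw : B₂ w w = 0) {L : (I → F) →ₗ[F] (I → F)}
    (hL : L ∈ Lw H B₂ w) : -L ∈ Lw H B₂ w := by
  obtain ⟨g, hg, hgA⟩ := hL
  refine ⟨g⁻¹, H.inv_mem hg, ?_⟩
  have := hgA.inv (Xi_comp_zero B₂ L L w w w w hw)
  rwa [← Xi_neg_left] at this

theorem Lw_sub (w : J → F) (hw : B₂ w w = 0) {L L' : (I → F) →ₗ[F] (I → F)}
    (hL : L ∈ Lw H B₂ w) (hL' : L' ∈ Lw H B₂ w) : L - L' ∈ Lw H B₂ w := by
  rw [sub_eq_add_neg]
  exact Lw_add w hw hL (Lw_neg w hw hL')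

theorem Lw_conj (hH : OH hT h2 H) (w : J → F) (e z : I → F) (he : B₁ e e = 0)
    (hez : B₁ e z = 0) {L : (I → F) →ₗ[F] (I → F)} (hL : L ∈ Lw H B₂ w) :
    ((sieg B₁ hT.sym₁ h2 e z he hez : (I → F) ≃ₗ[F] (I → F)) : (I → F) →ₗ[F] (I → F)) ∘ₗ L ∘ₗ
      (((sieg B₁ hT.sym₁ h2 e z he hez).symm : (I → F) ≃ₗ[F] (I → F)) :
        (I → F) →ₗ[F] (I → F)) ∈ Lw H B₂ w := by
  obtain ⟨g, hg, hgA⟩ := hL
  have hm := hH.memU e z he hez
  refine ⟨krL (sieg B₁ hT.sym₁ h2 e z he hez) 1 * g * (krL (sieg B₁ hT.sym₁ h2 e z he hez) 1)⁻¹,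
    H.mul_mem (H.mul_mem hm hg) (H.inv_mem hm), ?_⟩
  exact hgA.conj_krL (sieg B₁ hT.sym₁ h2 e z he hez) 1
    (fun v => Xi_conj (sieg B₁ hT.sym₁ h2 e z he hez) 1 (fun _ _ => rfl) L w w v)

theorem Lw_skew (hH : OH hT h2 H) (w : J → F) (hw0 : w ≠ 0) (hw : B₂ w w = 0)
    {L : (I → F) →ₗ[F] (I → F)} (hL : L ∈ Lw H B₂ w) :
    ∀ u u', B₁ (L u) u' + B₁ u (L u') = 0 := by
  obtain ⟨g, hg, hgA⟩ := hL
  obtain ⟨ws, hws, hwss⟩ := singular_partner B₂ hT.sym₂ hT.nd₂ h2 w hw0 hw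
  have hwsw : B₂ ws w = 1 := by rw [hT.sym₂, hws]
  intro u u'
  have hiso := (hH.iso g hg).polar_eq (pt u ws) (pt u' ws)
  rw [hgA (pt u ws), hgA (pt u' ws), Xi_pt, Xi_pt, hwsw, one_smul, one_smul] at hiso
  simp only [polar_add_left, polar_add_right, hT.polar_pt, hwss, hw, hws, hwsw, mul_zero, mul_one,
    zero_add, add_zero] at hiso
  linear_combination hiso

theorem Lw_double (hH : OH hT h2 H) (w : J → F) (hw0 : w ≠ 0) (hw : B₂ w w = 0)
    {L : (I → F) →ₗ[F] (I → F)} (hL : L ∈ Lw H B₂ w) (x y : I → F) (hx : B₁ x x = 0)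
    (hxy : B₁ x y = 0) (c : F) :
    c ^ 2 • nOp B₁ x (B₁ y y • L x - (2 * B₁ (L x) y) • y) ∈ Lw H B₂ w := by
  have hc : B₁ x (c • y) = 0 := by rw [map_smul, hxy, smul_zero]
  have hc' : B₁ x ((-c) • y) = 0 := by rw [map_smul, hxy, smul_zero]
  rw [← conj_double B₁ hT.sym₁ h2 L (Lw_skew hH w hw0 hw hL) x y hx hxy c hc hc']
  exact Lw_sub w hw (Lw_sub w hw (Lw_add w hw (Lw_conj hH w x (c • y) hx hc hL)
    (Lw_conj hH w x ((-c) • y) hx hc' hL)) hL) hL

theorem Lw_F (w : J → F) (hw : B₂ w w = 0) (h2 : (2 : F) ≠ 0) (X : (I → F) →ₗ[F] (I → F))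
    (h : ∀ c : F, c ^ 2 • X ∈ Lw H B₂ w) : ∀ t : F, t • X ∈ Lw H B₂ w := by
  intro t
  obtain ⟨i, hi⟩ : ∃ i : F, 2 * i = 1 := ⟨2⁻¹, mul_inv_cancel₀ h2⟩
  have e : t = ((t + 1) * i) ^ 2 - ((t - 1) * i) ^ 2 := by
    linear_combination (-(t * (2 * i + 1))) * hi
  have e' : (((t + 1) * i) ^ 2 - ((t - 1) * i) ^ 2) • X =
      ((t + 1) * i) ^ 2 • X - ((t - 1) * i) ^ 2 • X := sub_smul _ _ X
  rw [e, e']
  exact Lw_sub w hw (h _) (h _)

variable [Fintype F]

/-- a non-zero element of `Lw` produces a full root group -/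
theorem exists_start (hH : OH hT h2 H) (hodd : Fintype.card F % 2 = 1)
    (hI : Fintype.card I = 3 ∨ 5 ≤ Fintype.card I) (w : J → F) (hw0 : w ≠ 0) (hw : B₂ w w = 0)
    (L : (I → F) →ₗ[F] (I → F)) (hL : L ∈ Lw H B₂ w) (hL0 : L ≠ 0) :
    ∃ x s, x ≠ 0 ∧ B₁ x x = 0 ∧ B₁ x s = 0 ∧ B₁ s s ≠ 0 ∧
      ∀ t : F, t • nOp B₁ x s ∈ Lw H B₂ w := by
  have hsk := Lw_skew hH w hw0 hw hL
  have hd : 3 ≤ finrank F (I → F) := by
    rw [finrank_fintype_fun_eq_card]
    omega
  obtain ⟨x, hx0, hx, hne⟩ := exists_sing_not_eigen B₁ hodd hT.sym₁ hT.nd₁ h2 hd L hsk hL0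
  obtain ⟨l, hldef⟩ : ∃ l : I → F, l = L x := ⟨_, rfl⟩
  have hxl : B₁ x l = 0 := by
    have h := hsk x x
    rw [← hldef, hT.sym₁ l x] at h
    have h' : (2 : F) * B₁ x l = 0 := by linear_combination h
    rcases mul_eq_zero.mp h' with h0 | h0
    · exact absurd h0 h2
    · exact h0
  have hlx : B₁ l x = 0 := by rw [hT.sym₁, hxl]
  have hSy : ∀ y, B₁ x y = 0 → ∀ t : F,
      t • nOp B₁ x (B₁ y y • l - (2 * B₁ l y) • y) ∈ Lw H B₂ w := by
    intro y hy
    apply Lw_F w hw h2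
    intro c
    rw [hldef]
    exact Lw_double hH w hw0 hw hL x y hx hy c
  by_cases hl : B₁ l l = 0
  · -- the singular case
    have hli : LinearIndependent F ![x, l] := by
      apply pair_indep_of_not_smul hx0
      intro c
      rw [hldef]
      exact hne c
    have h5 : 5 ≤ Fintype.card I := by
      rcases hI with h3 | h5
      · exfalso
        have := finrank_ge_of_ts_pair B₁ hT.nd₁ x l hli hx hl hxl hlx
        rw [finrank_fintype_fun_eq_card] at this
        omega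
      · exact h5
    obtain ⟨y₁, hy₁⟩ := exists_prescribed B₁ hT.nd₁ ![x, l] hli ![0, 1]
    have hxy₁ : B₁ x y₁ = 0 := hy₁ 0
    have hly₁ : B₁ l y₁ = 1 := hy₁ 1
    obtain ⟨y₂, hy₂o, hy₂n⟩ := exists_nonsing_perpF B₁ hT.sym₁ hT.nd₁ h2 ![x, l]
      (by rw [finrank_fintype_fun_eq_card]; omega)
    have hxy₂ : B₁ x y₂ = 0 := hy₂o 0
    have hly₂ : B₁ l y₂ = 0 := hy₂o 1
    have hy₂l : B₁ y₂ l = 0 := by rw [hT.sym₁, hly₂]
    refine ⟨x, (2 * B₁ y₁ y₂) • l - (2 : F) • y₂, hx0, hx, ?_, ?_, ?_⟩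
    · simp only [map_sub, map_smul, smul_eq_mul, hxl, hxy₂, mul_zero, sub_zero]
    · simp only [map_sub, map_smul, LinearMap.sub_apply, LinearMap.smul_apply, smul_eq_mul, hl,
        hly₂, hy₂l, mul_zero, sub_zero, zero_sub]
      intro h
      apply hy₂n
      have h4 : (4 : F) ≠ 0 := by
        have : (4 : F) = 2 * 2 := by norm_num
        rw [this]
        exact mul_ne_zero h2 h2
      have h' : (4 : F) * B₁ y₂ y₂ = 0 := by linear_combination h
      rcases mul_eq_zero.mp h' with h0 | h0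
      · exact absurd h0 h4
      · exact h0
    · intro t
      have hxy₁₂ : B₁ x (y₁ + y₂) = 0 := by rw [map_add, hxy₁, hxy₂, add_zero]
      have e : (2 * B₁ y₁ y₂) • l - (2 : F) • y₂ =
          (B₁ (y₁ + y₂) (y₁ + y₂) • l - (2 * B₁ l (y₁ + y₂)) • (y₁ + y₂)) -
          (B₁ y₁ y₁ • l - (2 * B₁ l y₁) • y₁) - (B₁ y₂ y₂ • l - (2 * B₁ l y₂) • y₂) := by
        simp only [map_add, LinearMap.add_apply, hly₁, hly₂, hT.sym₁ y₂ y₁]
        module
      rw [e, nOp_sub_right, nOp_sub_right]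
      have e'' : ∀ X₁ X₂ X₃ : (I → F) →ₗ[F] (I → F), t • (X₁ - X₂ - X₃) = t • X₁ - t • X₂ - t • X₃ := by
        intro X₁ X₂ X₃
        module
      rw [e'']
      exact Lw_sub w hw (Lw_sub w hw (hSy _ hxy₁₂ t) (hSy _ hxy₁ t)) (hSy _ hxy₂ t)
  · -- the non-singular case
    obtain ⟨y, hyo, hyn⟩ := exists_nonsing_perpF B₁ hT.sym₁ hT.nd₁ h2 ![x]
      (by rw [finrank_fintype_fun_eq_card]; omega)
    have hxy : B₁ x y = 0 := hyo 0
    refine ⟨x, B₁ y y • l - (2 * B₁ l y) • y, hx0, hx, ?_, ?_, hSy y hxy⟩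
    · simp only [map_sub, map_smul, smul_eq_mul, hxl, hxy, mul_zero, sub_zero]
    · simp only [map_sub, map_smul, LinearMap.sub_apply, LinearMap.smul_apply, smul_eq_mul]
      rw [hT.sym₁ y l]
      intro h
      have h' : B₁ y y * B₁ y y * B₁ l l = 0 := by linear_combination h
      rcases mul_eq_zero.mp h' with h0 | h0
      · rcases mul_eq_zero.mp h0 with h1 | h1
        · exact hyn h1
        · exact hyn h1
      · exact hl h0

/-- the orthogonal tensor datum of an overgroup -/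
noncomputable def mkOD (hT : OT Q B₁ B₂) (h2 : (2 : F) ≠ 0) (hodd : Fintype.card F % 2 = 1)
    (H : Subgroup (GL (I × J) F)) (hH : OH hT h2 H) (hI3 : 3 ≤ Fintype.card I)
    (hJ3 : 3 ≤ Fintype.card J) : OD Q H (I → F) (J → F) where
  B₁ := B₁
  B₂ := B₂
  sym₁ := hT.sym₁
  sym₂ := hT.sym₂
  nd₁ := hT.nd₁
  nd₂ := hT.nd₂
  h2 := h2
  hodd := hodd
  dU := by rw [finrank_fintype_fun_eq_card]; exact hI3
  dW := by rw [finrank_fintype_fun_eq_card]; exact hJ3
  tp := ptB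
  polar_tp := hT.polar_pt
  span_tp := by
    rw [eq_top_iff]
    intro v _
    refine pt_induction (P := fun v => v ∈ Submodule.span F {v | ∃ u w, v = (ptB u) w})
      ?_ ?_ ?_ v
    · exact Submodule.zero_mem _
    · intro x y hx hy
      exact Submodule.add_mem _ hx hy
    · intro u w
      exact Submodule.subset_span ⟨u, w, rfl⟩
  mhU := by
    intro e z he hez
    refine ⟨⟨krL (sieg B₁ hT.sym₁ h2 e z he hez) 1,
      (hT.krL_iso' h2 _ _ (sieg_isom B₁ hT.sym₁ h2 e z he hez) (fun _ _ => rfl)).mem⟩,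
      hH.memU e z he hez, ?_⟩
    intro u w
    exact krL_pt _ _ u w
  mhW := by
    intro e z he hez
    refine ⟨⟨krL 1 (sieg B₂ hT.sym₂ h2 e z he hez),
      (hT.krL_iso' h2 _ _ (fun _ _ => rfl) (sieg_isom B₂ hT.sym₂ h2 e z he hez)).mem⟩,
      hH.memW e z he hez, ?_⟩
    intro u w
    exact krL_pt _ _ u w

/-- **(ZW)**: in an overgroup not containing `Ω`, elements `1 + L ⊗ (w wᵀ)` with `w` singular are
trivial -/
theorem ZW (hH : OH hT h2 H) (Hy : Hyp Q) (hodd : Fintype.card F % 2 = 1)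
    (hI : Fintype.card I = 3 ∨ 5 ≤ Fintype.card I) (hJ : 3 ≤ Fintype.card J)
    (hnot : ¬ Cfsg.Geo.omegaGL ⇑Q ≤ H) (w : J → F) (hw0 : w ≠ 0) (hw : B₂ w w = 0)
    (L : (I → F) →ₗ[F] (I → F)) (g : GL (I × J) F) (hgH : g ∈ H)
    (hgA : Acts g (Ξ B₂ L w w)) : L = 0 := by
  by_contra hL0
  apply hnot
  have hI3 : 3 ≤ Fintype.card I := by omega
  obtain ⟨x, s, hx0, hx, hxs, hss, hall⟩ := exists_start hH hodd hI w hw0 hw L ⟨g, hgH, hgA⟩ hL0
  apply (mkOD hT h2 hodd H hH hI3 hJ).omega_le Hy x s w hx0 hw0 hx hw hxs hss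
  intro c
  have hq : Q (pt x w) = 0 := hT.sing_right h2 x w hw
  have hp : polar ⇑Q (pt x w) (pt (c • s) w) = 0 := by
    rw [hT.polar_pt, hw, mul_zero]
  have hp' : polar ⇑Q (pt x w) (c • pt s w) = 0 := by
    rw [← pt_smul_left]
    exact hp
  refine ⟨hq, hp', ?_⟩
  obtain ⟨g', hg', hgA'⟩ := hall (-c)
  have hE := hT.Acts_eich x (c • s) w w hq hp
  have e1 : Ξ B₂ (rk B₁ (c • s) x) w w - Ξ B₂ (rk B₁ x (c • s)) w w -
      Q (pt (c • s) w) • Ξ B₂ (rk B₁ x x) w w = Ξ B₂ ((-c) • nOp B₁ x s) w w := by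
    rw [hT.sing_right h2 (c • s) w hw, zero_smul, sub_zero, ← Xi_sub_left]
    congr 1
    apply LinearMap.ext
    intro u
    simp only [LinearMap.sub_apply, LinearMap.smul_apply, rk_apply, nOp_apply, map_smul,
      smul_eq_mul]
    module
  rw [e1] at hE
  have e2 : eich Q (pt x w) (c • pt s w) hq hp' = eich Q (pt x w) (pt (c • s) w) hq hp :=
    eich_congr rfl (pt_smul_left c s w).symm hq hp' hq hp
  show ((eich Q (ptB x w) (c • ptB s w) hq hp' : ↥(isometryGroup F ⇑Q)) : GL (I × J) F) ∈ H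
  have e3 : ((eich Q (pt x w) (pt (c • s) w) hq hp : ↥(isometryGroup F ⇑Q)) : GL (I × J) F) = g' :=
    hE.ext hgA'
  have e4 : ((eich Q (ptB x w) (c • ptB s w) hq hp' : ↥(isometryGroup F ⇑Q)) : GL (I × J) F) =
      ((eich Q (pt x w) (c • pt s w) hq hp' : ↥(isometryGroup F ⇑Q)) : GL (I × J) F) := rfl
  rw [e4, e2, e3]
  exact hg'

end Lwsec

end Cfsg.Agent.Lib.Helper1.TsC
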