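import Mathlib
import Cfsg.Agent.Lib.Helper1.TsC7

/-!
# `O(U) ⊗ O(W)`: the stabiliser of `U ⊗ w` (`w` singular) in a proper overgroup is tensor
decomposable
-/

set_option autoImplicit false
set_option maxHeartbeats 4000000
set_option maxRecDepth 100000
set_option linter.unusedSimpArgs false
set_option linter.unusedVariables false
set_option linter.unusedSectionVars false
set_option linter.style.longLine false
set_option linter.deprecated false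

namespace Cfsg.Agent.Lib.Helper1.TsC

open Module QuadraticMap Matrix
open Cfsg
open Cfsg.Agent.Lib.Helper5.CartanDieudonne Cfsg.Agent.Lib.Helper5.Siegel
  Cfsg.Agent.Lib.Helper5.QuadIsom Cfsg.Agent.Lib.Helper5.Eichler
  Cfsg.Agent.Lib.Helper5.OmegaSimple Cfsg.Agent.Lib.Helper5.OrthSingularMax
open Cfsg.Agent.Lib.Helper1.UoA
open Cfsg.Agent.Lib.Helper1.TsA
open Cfsg.Agent.Lib.Helper1.TsB
open Cfsg.Agent.Lib.Helper8.Tns

local notation "Ξ" => Cfsg.Agent.Lib.Helper1.TsA.Xi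

variable {I J : Type} [Fintype I] [DecidableEq I] [Fintype J] [DecidableEq J]
  {F : Type*} [Field F] [Fintype F]
  {Q : QuadraticForm F (I × J → F)} {B₁ : LinearMap.BilinForm F (I → F)}
  {B₂ : LinearMap.BilinForm F (J → F)}
  {hT : OT Q B₁ B₂} {h2 : (2 : F) ≠ 0} {H : Subgroup (GL (I × J) F)}

/-- **(L3)** the unipotent radical of the stabiliser of `U ⊗ w` in `H` lies in `krSub` -/
theorem Ctx.rad_mem (C : Ctx hT h2 H) (w : J → F) (hw0 : w ≠ 0) (hw : B₂ w w = 0)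
    (r : GL (I × J) F) (hrH : r ∈ H)
    (hfix : ∀ x, (r : Matrix (I × J) (I × J) F) *ᵥ pt x w = pt x w)
    (hmove : ∀ (x : I → F) (a : J → F), B₂ w a = 0 → ∃ x'' : I → F,
      (r : Matrix (I × J) (I × J) F) *ᵥ pt x a = pt x a + pt x'' w) :
    r ∈ krSub I J F := by
  obtain ⟨ws, hws⟩ := exists_partner B₂ hT.nd₂ w hw0 1
  obtain ⟨i₀⟩ : Nonempty I := by
    rw [← Fintype.card_pos_iff]
    have := C.hI3
    omega
  obtain ⟨x₀, hx₀def⟩ : ∃ x₀ : I → F, x₀ = Pi.single i₀ (1 : F) := ⟨_, rfl⟩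
  have hx₀ : x₀ ≠ 0 := by
    rw [hx₀def]
    exact single_ne_zero' i₀
  obtain ⟨xp, hxp⟩ := exists_partner B₁ hT.nd₁ x₀ hx₀ 1
  have hR := Rad_slopeL hws r hfix hmove
  obtain ⟨Θ, hΘdef⟩ : ∃ Θ : (J → F) →ₗ[F] (I → F) →ₗ[F] (I → F), Θ = slopeL B₂ ws r := ⟨_, rfl⟩
  rw [← hΘdef] at hR
  have hsc := C.slope_scalar w hw0 hw r hrH Θ hR
  obtain ⟨φ, hφdef⟩ : ∃ φ : (J → F) →ₗ[F] F, φ = (B₁.flip xp) ∘ₗ (Θ.flip x₀) := ⟨_, rfl⟩
  have hφa : ∀ a, φ a = B₁ (Θ a x₀) xp := by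
    intro a
    rw [hφdef]
    rfl
  have hΘφ : ∀ a, B₂ w a = 0 → ∀ x, Θ a x = φ a • x := by
    intro a ha x
    obtain ⟨c, hc⟩ := hsc a ha
    rw [hφa, hc, LinearMap.smul_apply, LinearMap.id_apply, LinearMap.smul_apply,
      LinearMap.id_apply, map_smul, LinearMap.smul_apply, hxp, smul_eq_mul, mul_one]
  obtain ⟨z₀, hz₀⟩ := exists_repr B₂ hT.nd₂ φ
  have hφw : φ w = 0 := by
    rw [hφa, hΘdef, slopeL_apply, hfix, sub_self, map_zero, map_zero, LinearMap.zero_apply]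
  have hwz₀ : B₂ w z₀ = 0 := by rw [hz₀, hφw]
  have hsH : krL (1 : (I → F) ≃ₗ[F] (I → F)) (sieg B₂ hT.sym₂ h2 w z₀ hw hwz₀) ∈ H :=
    C.oh.memW w z₀ hw hwz₀
  have hζ1 := C.fix_perp w hw0 hw
    ((krL (1 : (I → F) ≃ₗ[F] (I → F)) (sieg B₂ hT.sym₂ h2 w z₀ hw hwz₀))⁻¹ * r)
    (H.mul_mem (H.inv_mem hsH) hrH) (by
      intro x a ha
      have haw : B₂ a w = 0 := by rw [hT.sym₂, ha]
      have e1 : (1 : (I → F) ≃ₗ[F] (I → F)) x = x := rfl
      have e2 : (r : Matrix (I × J) (I × J) F) *ᵥ pt x a =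
          (krL (1 : (I → F) ≃ₗ[F] (I → F)) (sieg B₂ hT.sym₂ h2 w z₀ hw hwz₀) :
            Matrix (I × J) (I × J) F) *ᵥ pt x a := by
        have h1 := hR.2 a ha x
        beta_reduce at h1
        rw [h1, hΘφ a ha, krL_pt, e1, sieg_apply, haw, hz₀, zero_smul, mul_zero, zero_smul,
          sub_zero, sub_zero, pt_add_right, pt_smul_right, pt_smul_left]
      rw [Units.val_mul, ← Matrix.mulVec_mulVec, e2, inv_mulVec_mulVec])
  have : r = krL (1 : (I → F) ≃ₗ[F] (I → F)) (sieg B₂ hT.sym₂ h2 w z₀ hw hwz₀) := by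
    have := congrArg (fun t => krL (1 : (I → F) ≃ₗ[F] (I → F))
      (sieg B₂ hT.sym₂ h2 w z₀ hw hwz₀) * t) hζ1
    simp only [mul_inv_cancel_left, mul_one] at this
    exact this
  rw [this]
  exact krL_mem _ _

/-- **(L4)** the stabiliser of `U ⊗ w` in `H` lies in `krSub` -/
theorem Ctx.stab_mem_aux (C : Ctx hT h2 H) (h : GL (I × J) F) (hh : h ∈ H) (w : J → F)
    (hw0 : w ≠ 0) (hw : B₂ w w = 0)
    (hmap : ∀ x : I → F, ∃ x' : I → F,
      (h : Matrix (I × J) (I × J) F) *ᵥ pt x w = pt x' w) : h ∈ krSub I J F := by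
  have hhiso := C.oh.iso h hh
  have hhinv := hhiso.inv.polar_eq
  obtain ⟨ws, hws, hwss⟩ := singular_partner B₂ hT.sym₂ hT.nd₂ h2 w hw0 hw
  -- the map `α`
  obtain ⟨αL, hαLdef⟩ : ∃ αL : (I → F) →ₗ[F] (I → F), αL =
      C₂ B₂ ws ∘ₗ Matrix.mulVecLin (h : Matrix (I × J) (I × J) F) ∘ₗ ptL w := ⟨_, rfl⟩
  have hαL : ∀ x, (h : Matrix (I × J) (I × J) F) *ᵥ pt x w = pt (αL x) w := by
    intro x
    obtain ⟨x', hx'⟩ := hmap x
    have : αL x = x' := by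
      rw [hαLdef]
      simp only [LinearMap.comp_apply, ptL_apply, Matrix.mulVecLin_apply]
      rw [hx', C₂_pt, hws, one_smul]
    rw [this, hx']
  have hαinj : Function.Injective αL := by
    rw [← LinearMap.ker_eq_bot, LinearMap.ker_eq_bot']
    intro x hx
    have h1 := hαL x
    rw [hx, pt_zero_left] at h1
    have h3 : pt x w = 0 := by
      have := congrArg (fun y => ((h⁻¹ : GL (I × J) F) : Matrix (I × J) (I × J) F) *ᵥ y) h1
      simp only [inv_mulVec_mulVec, Matrix.mulVec_zero] at this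
      exact this
    exact pt_left_injective hw0 (by rw [h3, pt_zero_left])
  obtain ⟨α, hα⟩ : ∃ α : (I → F) ≃ₗ[F] (I → F), ∀ x, α x = αL x :=
    ⟨LinearEquiv.ofInjectiveEndo αL hαinj, fun _ => rfl⟩
  have hα1 : ∀ x, (h : Matrix (I × J) (I × J) F) *ᵥ pt x w = pt (α x) w := by
    intro x
    rw [hα]
    exact hαL x
  have hα2 : ∀ x, ((h⁻¹ : GL (I × J) F) : Matrix (I × J) (I × J) F) *ᵥ pt x w =
      pt (α.symm x) w := by
    intro x
    have := hα1 (α.symm x)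
    rw [LinearEquiv.apply_symm_apply] at this
    rw [← this, inv_mulVec_mulVec]
  -- `h⁻¹` preserves `U ⊗ w^⊥`
  have hperp : ∀ (x : I → F) (a : J → F), B₂ w a = 0 →
      C₂ B₂ w (((h⁻¹ : GL (I × J) F) : Matrix (I × J) (I × J) F) *ᵥ pt x a) = 0 := by
    intro x a ha
    apply hT.eq_of_B₁
    intro q
    have haw : B₂ a w = 0 := by rw [hT.sym₂, ha]
    rw [map_zero, LinearMap.zero_apply, ← hT.polar_pt_right, hhiso.polar_inv, hα1, hT.polar_pt,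
      haw, mul_zero]
  -- the slopes are scalar
  have hslope : ∀ (z a : J → F), B₂ w z = 0 → B₂ w a = 0 → ∃ c : F, ∀ x,
      C₂ B₂ z (((h⁻¹ : GL (I × J) F) : Matrix (I × J) (I × J) F) *ᵥ pt x a) =
        c • α.symm x := by
    intro z a hz ha
    have hsH : krL (1 : (I → F) ≃ₗ[F] (I → F)) (sieg B₂ hT.sym₂ h2 w z hw hz) ∈ H :=
      C.oh.memW w z hw hz
    have hsA := Acts_krL_sieg (I := I) hT.sym₂ h2 w z hw hz
    obtain ⟨y, hy⟩ : ∃ y : GL (I × J) F,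
        y = h * krL (1 : (I → F) ≃ₗ[F] (I → F)) (sieg B₂ hT.sym₂ h2 w z hw hz) * h⁻¹ := ⟨_, rfl⟩
    have hyH : y ∈ H := by
      rw [hy]
      exact H.mul_mem (H.mul_mem hh hsH) (H.inv_mem hh)
    have hyw : ∀ x, (y : Matrix (I × J) (I × J) F) *ᵥ pt x w = pt x w := by
      intro x
      have e1 : (1 : (I → F) ≃ₗ[F] (I → F)) (α.symm x) = α.symm x := rfl
      rw [hy, Units.val_mul, Units.val_mul, ← Matrix.mulVec_mulVec, ← Matrix.mulVec_mulVec, hα2,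
        krL_pt, e1, sieg_apply]
      simp only [hz, hw, zero_smul, mul_zero, add_zero, sub_zero]
      rw [hα1, LinearEquiv.apply_symm_apply]
    have hy1 : ∀ (a' : J → F), B₂ w a' = 0 → ∀ x, (y : Matrix (I × J) (I × J) F) *ᵥ pt x a' =
        pt x a' + pt (α (C₂ B₂ z
          (((h⁻¹ : GL (I × J) F) : Matrix (I × J) (I × J) F) *ᵥ pt x a'))) w := by
      intro a' ha' x
      rw [hy, Units.val_mul, Units.val_mul, ← Matrix.mulVec_mulVec, ← Matrix.mulVec_mulVec,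
        hsA (((h⁻¹ : GL (I × J) F) : Matrix (I × J) (I × J) F) *ᵥ pt x a')]
      simp only [LinearMap.sub_apply, LinearMap.smul_apply, Xi_apply, hperp x a' ha',
        LinearMap.id_apply, pt_zero_left, smul_zero, sub_zero]
      rw [Matrix.mulVec_add, mulVec_inv_mulVec, hα1]
    have hR := Rad_slopeL hws y hyw (fun x a' ha' => ⟨_, hy1 a' ha' x⟩)
    obtain ⟨c, hc⟩ := C.slope_scalar w hw0 hw y hyH (slopeL B₂ ws y) hR a ha
    refine ⟨c, fun x => ?_⟩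
    have h1 : α (C₂ B₂ z (((h⁻¹ : GL (I × J) F) : Matrix (I × J) (I × J) F) *ᵥ pt x a)) =
        c • x := by
      have e1 := hR.2 a ha x
      beta_reduce at e1
      rw [hy1 a ha x, hc, LinearMap.smul_apply, LinearMap.id_apply] at e1
      exact pt_left_injective hw0 (add_left_cancel e1)
    apply α.injective
    rw [h1, map_smul, LinearEquiv.apply_symm_apply]
  -- the map `δ`
  obtain ⟨i₀⟩ : Nonempty I := by
    rw [← Fintype.card_pos_iff]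
    have := C.hI3
    omega
  obtain ⟨x₀, hx₀def⟩ : ∃ x₀ : I → F, x₀ = Pi.single i₀ (1 : F) := ⟨_, rfl⟩
  have hx₀ : x₀ ≠ 0 := by
    rw [hx₀def]
    exact single_ne_zero' i₀
  have hαx₀ : α.symm x₀ ≠ 0 := (LinearEquiv.map_ne_zero_iff α.symm).mpr hx₀
  obtain ⟨x₀', hx₀'⟩ := exists_partner B₁ hT.nd₁ _ hαx₀ 1
  obtain ⟨δ, hδdef⟩ : ∃ δ : (J → F) →ₗ[F] (J → F), δ = C₁ B₁ x₀' ∘ₗ
      Matrix.mulVecLin ((h⁻¹ : GL (I × J) F) : Matrix (I × J) (I × J) F) ∘ₗ ptR x₀ := ⟨_, rfl⟩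
  have hδa : ∀ a, δ a = C₁ B₁ x₀'
      (((h⁻¹ : GL (I × J) F) : Matrix (I × J) (I × J) F) *ᵥ pt x₀ a) := by
    intro a
    rw [hδdef]
    rfl
  have hδw : δ w = w := by
    rw [hδa, hα2, C₁_pt, hx₀', one_smul]
  have hδp : ∀ a, B₂ w a = 0 → B₂ w (δ a) = 0 := by
    intro a ha
    rw [hT.sym₂, hδa, ← hT.B₁_C₂_eq, hperp x₀ a ha, map_zero, LinearMap.zero_apply]
  have hδc : ∀ a, B₂ w a = 0 → ∀ x, ∃ ε : I → F,
      ((h⁻¹ : GL (I × J) F) : Matrix (I × J) (I × J) F) *ᵥ pt x a =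
        pt (α.symm x) (δ a) + pt ε w := by
    intro a ha x
    have : ∃ ε : I → F, ((h⁻¹ : GL (I × J) F) : Matrix (I × J) (I × J) F) *ᵥ pt x a -
        pt (α.symm x) (δ a) = pt ε w := by
      apply hT.exists_pt_of_C₂_zero hw0
      intro z hz
      obtain ⟨c, hc⟩ := hslope z a hz ha
      have e1 : B₂ (δ a) z = c := by
        rw [hδa, ← hT.B₁_C₂_eq, hc x₀, map_smul, LinearMap.smul_apply, hx₀', smul_eq_mul,
          mul_one]
      rw [map_sub, hc x, C₂_pt, e1, sub_self]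
    obtain ⟨ε, hε⟩ := this
    exact ⟨ε, by rw [← hε]; abel⟩
  -- the similitude relation
  have hS : ∀ (x x' : I → F) (a a' : J → F), B₂ w a = 0 → B₂ w a' = 0 →
      B₁ (α.symm x) (α.symm x') * B₂ (δ a) (δ a') = B₁ x x' * B₂ a a' := by
    intro x x' a a' ha ha'
    obtain ⟨ε, hε⟩ := hδc a ha x
    obtain ⟨ε', hε'⟩ := hδc a' ha' x'
    have h1 := hhinv (pt x a) (pt x' a')
    have h3 : B₂ (δ a) w = 0 := by rw [hT.sym₂, hδp a ha]
    rw [hε, hε'] at h1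
    simp only [polar_add_left, polar_add_right, hT.polar_pt, h3, hδp a' ha', hw,
      mul_zero, add_zero] at h1
    exact h1
  -- a hyperbolic pair in `w^⊥`
  obtain ⟨a₁, ha₁o, ha₁s⟩ := exists_perp_not_mem_span B₂ hT.nd₂ ![w]
    (by have := C.dW; omega)
  have hwa₁ : B₂ w a₁ = 0 := by simpa using ha₁o 0
  have hlia : LinearIndependent F ![w, a₁] := by
    apply pair_indep_of_not_smul hw0
    intro c hc
    apply ha₁s
    rw [hc]
    exact Submodule.smul_mem _ _ (Submodule.subset_span ⟨0, rfl⟩)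
  obtain ⟨a₂, ha₂⟩ := exists_prescribed B₂ hT.nd₂ ![w, a₁] hlia ![0, 1]
  have hwa₂ : B₂ w a₂ = 0 := by simpa using ha₂ 0
  have ha₁a₂ : B₂ a₁ a₂ = 1 := by simpa using ha₂ 1
  obtain ⟨x₂, hx₂⟩ := exists_partner B₁ hT.nd₁ x₀ hx₀ 1
  obtain ⟨ν, hνdef⟩ : ∃ ν : F, ν = B₂ (δ a₁) (δ a₂) := ⟨_, rfl⟩
  have hν1 : B₁ (α.symm x₀) (α.symm x₂) * ν = 1 := by
    have := hS x₀ x₂ a₁ a₂ hwa₁ hwa₂
    rw [hx₂, ha₁a₂, mul_one, ← hνdef] at this
    exact this
  have hν : ν ≠ 0 := by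
    intro h0
    rw [h0, mul_zero] at hν1
    exact zero_ne_one hν1
  have hμ : ∀ x x', B₁ (α.symm x) (α.symm x') = ν⁻¹ * B₁ x x' := by
    intro x x'
    have := hS x x' a₁ a₂ hwa₁ hwa₂
    rw [ha₁a₂, mul_one, ← hνdef] at this
    rw [← this, mul_comm, mul_assoc, mul_inv_cancel₀ hν, mul_one]
  have hδs : ∀ a a', B₂ w a = 0 → B₂ w a' = 0 → B₂ (δ a) (δ a') = ν * B₂ a a' := by
    intro a a' ha ha'
    have := hS x₀ x₂ a a' ha ha'
    rw [hμ, hx₂, mul_one, one_mul] at this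
    rw [← this, ← mul_assoc, mul_inv_cancel₀ hν, one_mul]
  obtain ⟨γ, hγs, hγw, hγp⟩ := exists_gamma_sym B₂ hT.sym₂ hT.nd₂ w ws hw hwss hws δ ν hν hδw
    hδp hδs
  -- the element `m' = α⁻¹ ⊗ γ`
  have hmiso : IsoQ Q (krL α.symm γ) :=
    hT.krL_iso h2 α.symm γ ν⁻¹ ν (inv_mul_cancel₀ hν) hμ hγs
  obtain ⟨r, hr⟩ : ∃ r : GL (I × J) F, r = h * krL α.symm γ := ⟨_, rfl⟩
  have hriso : IsoQ Q r := by
    rw [hr]
    exact hhiso.mul hmiso
  have hrfix : ∀ x, (r : Matrix (I × J) (I × J) F) *ᵥ pt x w = pt x w := by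
    intro x
    rw [hr, Units.val_mul, ← Matrix.mulVec_mulVec, krL_pt, hγw, hα1,
      LinearEquiv.apply_symm_apply]
  have hrmove : ∀ (x : I → F) (a : J → F), B₂ w a = 0 → ∃ x'' : I → F,
      (r : Matrix (I × J) (I × J) F) *ᵥ pt x a = pt x a + pt x'' w := by
    intro x a ha
    obtain ⟨c, hc⟩ := hγp a ha
    obtain ⟨ε, hε⟩ := hδc a ha x
    refine ⟨c • x - α ε, ?_⟩
    have e1 : pt (α.symm x) (δ a) =
        ((h⁻¹ : GL (I × J) F) : Matrix (I × J) (I × J) F) *ᵥ pt x a - pt ε w := by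
      rw [hε]
      abel
    rw [hr, Units.val_mul, ← Matrix.mulVec_mulVec, krL_pt, hc, pt_add_right, pt_smul_right, e1,
      Matrix.mulVec_add, Matrix.mulVec_sub, Matrix.mulVec_smul, mulVec_inv_mulVec, hα1, hα1,
      LinearEquiv.apply_symm_apply, pt_sub_left, pt_smul_left]
    abel
  have hrΩ : r ∈ Cfsg.Geo.omegaGL ⇑Q :=
    hT.rad_mem_omega_right h2 C.Hy w hw0 hw r hriso hrfix hrmove
  have hmΩ : krL α.symm γ ∈ Cfsg.Geo.omegaGL ⇑Q := by
    have e : krL α.symm γ = h⁻¹ * r := by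
      rw [hr]
      group
    rw [e]
    exact mul_mem (inv_mem (C.hHO hh)) hrΩ
  have hmH : krL α.symm γ ∈ H := C.hMH ⟨krL_mem _ _, hmΩ⟩
  have hrH : r ∈ H := by
    rw [hr]
    exact H.mul_mem hh hmH
  have hrK := C.rad_mem w hw0 hw r hrH hrfix hrmove
  have : h = r * (krL α.symm γ)⁻¹ := by
    rw [hr]
    group
  rw [this]
  exact (krSub I J F).mul_mem hrK ((krSub I J F).inv_mem (krL_mem _ _))

/-- **(L5)** an element of `H` mapping `U ⊗ w'` into `U ⊗ w` (`w, w'` singular) lies in `krSub` -/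
theorem Ctx.stab_mem (C : Ctx hT h2 H) (h : GL (I × J) F) (hh : h ∈ H) (w w' : J → F)
    (hw0 : w ≠ 0) (hw'0 : w' ≠ 0) (hw : B₂ w w = 0) (hw' : B₂ w' w' = 0)
    (hmap : ∀ x : I → F, ∃ x' : I → F,
      (h : Matrix (I × J) (I × J) F) *ᵥ pt x w' = pt x' w) : h ∈ krSub I J F := by
  obtain ⟨e, z, he, hez, c, hc, hmv⟩ := exists_sieg_move B₂ hT.sym₂ hT.nd₂ h2
    (by have := C.dW; omega) w w' hw0 hw'0 hw hw'
  have hmH : krL (1 : (I → F) ≃ₗ[F] (I → F)) (sieg B₂ hT.sym₂ h2 e z he hez) ∈ H :=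
    C.oh.memW e z he hez
  have h1 : h * krL (1 : (I → F) ≃ₗ[F] (I → F)) (sieg B₂ hT.sym₂ h2 e z he hez) ∈
      krSub I J F := by
    apply C.stab_mem_aux _ (H.mul_mem hh hmH) w hw0 hw
    intro x
    obtain ⟨x', hx'⟩ := hmap x
    refine ⟨c • x', ?_⟩
    have e1 : (1 : (I → F) ≃ₗ[F] (I → F)) x = x := rfl
    rw [Units.val_mul, ← Matrix.mulVec_mulVec, krL_pt, e1, hmv, pt_smul_right,
      Matrix.mulVec_smul, hx', pt_smul_left]
  have : h = h * krL (1 : (I → F) ≃ₗ[F] (I → F)) (sieg B₂ hT.sym₂ h2 e z he hez) *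
      (krL (1 : (I → F) ≃ₗ[F] (I → F)) (sieg B₂ hT.sym₂ h2 e z he hez))⁻¹ := by
    group
  rw [this]
  exact (krSub I J F).mul_mem h1 ((krSub I J F).inv_mem (krL_mem _ _))

end Cfsg.Agent.Lib.Helper1.TsC
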