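import Mathlib
import Cfsg.Agent.Lib.Helper1.TsC8

/-!
# `O(U) ⊗ O(W)`: conjugates of long root elements of `1 ⊗ O(W)` by elements outside `krSub`
-/

set_option autoImplicit false
set_option maxHeartbeats 4000000
set_option maxRecDepth 100000
set_option linter.unusedSimpArgs false
set_option linter.unusedVariables false
set_option linter.unusedSectionVars false
set_option linter.style.longLine false
set_option linter.deprecated false

namespace Cfsg.Agent.Lib.Helper1.TsC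

open Module QuadraticMap Matrix
open Cfsg
open Cfsg.Agent.Lib.Helper5.CartanDieudonne Cfsg.Agent.Lib.Helper5.Siegel
  Cfsg.Agent.Lib.Helper5.QuadIsom Cfsg.Agent.Lib.Helper5.Eichler
  Cfsg.Agent.Lib.Helper5.OmegaSimple Cfsg.Agent.Lib.Helper5.OrthSingularMax
open Cfsg.Agent.Lib.Helper1.UoA
open Cfsg.Agent.Lib.Helper1.TsA
open Cfsg.Agent.Lib.Helper1.TsB
open Cfsg.Agent.Lib.Helper8.Tns

local notation "Ξ" => Cfsg.Agent.Lib.Helper1.TsA.Xi

variable {I J : Type} [Fintype I] [DecidableEq I] [Fintype J] [DecidableEq J]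
  {F : Type*} [Field F]

/-! ### the nilpotent operator of a totally singular line -/

/-- `N_P = id ⊗ (p₁ p₂ᵀ - p₂ p₁ᵀ)` -/
def NP (B₂ : LinearMap.BilinForm F (J → F)) (p₁ p₂ : J → F) :
    (I × J → F) →ₗ[F] (I × J → F) :=
  Ξ B₂ LinearMap.id p₁ p₂ - Ξ B₂ LinearMap.id p₂ p₁

theorem NP_apply (B₂ : LinearMap.BilinForm F (J → F)) (p₁ p₂ : J → F) (t : I × J → F) :
    NP (I := I) B₂ p₁ p₂ t = pt (C₂ B₂ p₂ t) p₁ - pt (C₂ B₂ p₁ t) p₂ := by
  unfold NP
  rw [LinearMap.sub_apply, Xi_apply, Xi_apply, LinearMap.id_apply, LinearMap.id_apply]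

theorem NP_pt (B₂ : LinearMap.BilinForm F (J → F)) (p₁ p₂ : J → F) (u : I → F) (b : J → F) :
    NP B₂ p₁ p₂ (pt u b) = B₂ b p₂ • pt u p₁ - B₂ b p₁ • pt u p₂ := by
  rw [NP_apply, C₂_pt, C₂_pt, pt_smul_left, pt_smul_left]

theorem NP_sq (B₂ : LinearMap.BilinForm F (J → F)) (p₁ p₂ : J → F) (h11 : B₂ p₁ p₁ = 0)
    (h22 : B₂ p₂ p₂ = 0) (h12 : B₂ p₁ p₂ = 0) (h21 : B₂ p₂ p₁ = 0) (t : I × J → F) :
    NP (I := I) B₂ p₁ p₂ (NP B₂ p₁ p₂ t) = 0 := by
  rw [NP_apply, NP_apply, map_sub, map_sub, C₂_pt, C₂_pt, C₂_pt, C₂_pt, h11, h22, h12, h21]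
  simp [pt_zero_left]

theorem NP_mem (B₂ : LinearMap.BilinForm F (J → F)) (p₁ p₂ : J → F) (t : I × J → F) :
    NP (I := I) B₂ p₁ p₂ t ∈ Aw (I := I) p₁ ⊔ Aw (I := I) p₂ := by
  rw [NP_apply, sub_eq_add_neg, ← pt_neg_left']
  exact Submodule.add_mem _ (Submodule.mem_sup_left (mem_Aw.mpr ⟨_, rfl⟩))
    (Submodule.mem_sup_right (mem_Aw.mpr ⟨_, rfl⟩))

theorem Acts_xP {B₂ : LinearMap.BilinForm F (J → F)} (hS₂ : ∀ x y, B₂ x y = B₂ y x)
    (h2 : (2 : F) ≠ 0) (p₁ p₂ : J → F) (hp₁ : B₂ p₁ p₁ = 0) (hp₁₂ : B₂ p₁ p₂ = 0)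
    (hp₂ : B₂ p₂ p₂ = 0) :
    Acts (krL (1 : (I → F) ≃ₗ[F] (I → F)) (sieg B₂ hS₂ h2 p₁ p₂ hp₁ hp₁₂)) (NP B₂ p₁ p₂) := by
  apply (Acts_krL_sieg (I := I) hS₂ h2 p₁ p₂ hp₁ hp₁₂).congr
  unfold NP
  rw [hp₂, zero_div, zero_smul, sub_zero]

/-- an element of `krSub` fixing `U ⊗ p` pointwise has the form `1 ⊗ β'` -/
theorem kr_fix_form {B₂ : LinearMap.BilinForm F (J → F)} (hnd : B₂.Nondegenerate)
    (hI : Nonempty I) (α : GL I F) (β : GL J F) (p : J → F) (hp : p ≠ 0)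
    (hfix : ∀ u : I → F,
      ((kr α β : GL (I × J) F) : Matrix (I × J) (I × J) F) *ᵥ pt u p = pt u p) :
    ∃ β' : (J → F) →ₗ[F] (J → F), ∀ (x : I → F) (a : J → F),
      ((kr α β : GL (I × J) F) : Matrix (I × J) (I × J) F) *ᵥ pt x a = pt x (β' a) := by
  obtain ⟨i₀⟩ := hI
  have hx₀ : (Pi.single i₀ (1 : F) : I → F) ≠ 0 := single_ne_zero' i₀
  obtain ⟨q, hq⟩ := exists_partner B₂ hnd p hp 1
  obtain ⟨t, htdef⟩ : ∃ t : F, t = B₂ ((β : Matrix J J F) *ᵥ p) q := ⟨_, rfl⟩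
  have hαt : ∀ u : I → F, t • ((α : Matrix I I F) *ᵥ u) = u := by
    intro u
    have := congrArg (C₂ B₂ q) (hfix u)
    rw [kr_mulVec_pt, C₂_pt, C₂_pt, hq, one_smul, ← htdef] at this
    exact this
  have ht : t ≠ 0 := by
    intro h0
    have := hαt (Pi.single i₀ (1 : F))
    rw [h0, zero_smul] at this
    exact hx₀ this.symm
  have hα : ∀ x : I → F, (α : Matrix I I F) *ᵥ x = t⁻¹ • x := by
    intro x
    rw [← hαt x, smul_smul, inv_mul_cancel₀ ht, one_smul, hαt x]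
  refine ⟨t⁻¹ • Matrix.mulVecLin (β : Matrix J J F), fun x a => ?_⟩
  rw [kr_mulVec_pt, hα, LinearMap.smul_apply, Matrix.mulVecLin_apply, pt_smul_left,
    pt_smul_right]

section ctx

variable [Fintype F]
  {Q : QuadraticForm F (I × J → F)} {B₁ : LinearMap.BilinForm F (I → F)}
  {B₂ : LinearMap.BilinForm F (J → F)}
  {hT : OT Q B₁ B₂} {h2 : (2 : F) ≠ 0} {H : Subgroup (GL (I × J) F)}

theorem Ctx.neI (C : Ctx hT h2 H) : Nonempty I := by
  rw [← Fintype.card_pos_iff]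
  have := C.hI3
  omega

/-- if the conjugate `h⁻¹ (1 ⊗ ρ) h` of a Siegel element with non-singular vector has the form
`1 ⊗ β'`, then `h ∈ krSub` -/
theorem Ctx.conj_sieg_mem (C : Ctx hT h2 H) (h : GL (I × J) F) (hh : h ∈ H) (w₁ v : J → F)
    (hw₁0 : w₁ ≠ 0) (hw₁ : B₂ w₁ w₁ = 0) (hw₁v : B₂ w₁ v = 0) (hv : B₂ v v ≠ 0)
    (β' : (J → F) →ₗ[F] (J → F))
    (hyp : ∀ (x : I → F) (a : J → F),
      ((h⁻¹ * krL (1 : (I → F) ≃ₗ[F] (I → F)) (sieg B₂ hT.sym₂ h2 w₁ v hw₁ hw₁v) * h :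
        GL (I × J) F) : Matrix (I × J) (I × J) F) *ᵥ pt x a = pt x (β' a)) :
    h ∈ krSub I J F := by
  obtain ⟨i₀⟩ := C.neI
  have hvw₁ : B₂ v w₁ = 0 := by rw [hT.sym₂, hw₁v]
  have hxA := Acts_krL_sieg (I := I) hT.sym₂ h2 w₁ v hw₁ hw₁v
  obtain ⟨Nx, hNxdef⟩ : ∃ Nx : (I × J → F) →ₗ[F] (I × J → F), Nx =
      Ξ B₂ LinearMap.id w₁ v - Ξ B₂ LinearMap.id v w₁ -
        (B₂ v v / 2) • Ξ B₂ LinearMap.id w₁ w₁ := ⟨_, rfl⟩
  rw [← hNxdef] at hxA
  obtain ⟨y, hydef⟩ : ∃ y : GL (I × J) F,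
      y = h⁻¹ * krL (1 : (I → F) ≃ₗ[F] (I → F)) (sieg B₂ hT.sym₂ h2 w₁ v hw₁ hw₁v) * h :=
    ⟨_, rfl⟩
  rw [← hydef] at hyp
  have hyv : ∀ t : I × J → F,
      (y : Matrix (I × J) (I × J) F) *ᵥ t - t =
        ((h⁻¹ : GL (I × J) F) : Matrix (I × J) (I × J) F) *ᵥ
          Nx ((h : Matrix (I × J) (I × J) F) *ᵥ t) := by
    intro t
    rw [hydef, Units.val_mul, Units.val_mul, ← Matrix.mulVec_mulVec, ← Matrix.mulVec_mulVec,
      hxA ((h : Matrix (I × J) (I × J) F) *ᵥ t), Matrix.mulVec_add, inv_mulVec_mulVec,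
      add_sub_cancel_left]
  have hNx2 : ∀ t, Nx (Nx t) = -(B₂ v v) • pt (C₂ B₂ w₁ t) w₁ := by
    intro t
    have : Nx ∘ₗ Nx = -(B₂ v v) • Ξ B₂ LinearMap.id w₁ w₁ := by
      rw [hNxdef]
      simp only [LinearMap.sub_comp, LinearMap.comp_sub, LinearMap.smul_comp,
        LinearMap.comp_smul, Xi_comp, hw₁, hw₁v, hvw₁, zero_smul, smul_zero, sub_zero, zero_sub,
        LinearMap.id_comp]
      module
    have h1 := LinearMap.congr_fun this t
    rw [LinearMap.comp_apply, LinearMap.smul_apply, Xi_apply, LinearMap.id_apply] at h1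
    exact h1
  have hq : ∀ t : I × J → F,
      (y : Matrix (I × J) (I × J) F) *ᵥ ((y : Matrix (I × J) (I × J) F) *ᵥ t - t) -
        ((y : Matrix (I × J) (I × J) F) *ᵥ t - t) =
      ((h⁻¹ : GL (I × J) F) : Matrix (I × J) (I × J) F) *ᵥ
        (-(B₂ v v) • pt (C₂ B₂ w₁ ((h : Matrix (I × J) (I × J) F) *ᵥ t)) w₁) := by
    intro t
    rw [hyv ((y : Matrix (I × J) (I × J) F) *ᵥ t - t), hyv t, mulVec_inv_mulVec, hNx2]
  obtain ⟨ψ, hψdef⟩ : ∃ ψ : (J → F) →ₗ[F] (J → F),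
      ψ = (β' - LinearMap.id) ∘ₗ (β' - LinearMap.id) := ⟨_, rfl⟩
  have hψa : ∀ a, ψ a = β' (β' a - a) - (β' a - a) := by
    intro a
    rw [hψdef]
    rfl
  have hqpt : ∀ (x : I → F) (a : J → F), pt x (ψ a) =
      ((h⁻¹ : GL (I × J) F) : Matrix (I × J) (I × J) F) *ᵥ
        (-(B₂ v v) • pt (C₂ B₂ w₁ ((h : Matrix (I × J) (I × J) F) *ᵥ pt x a)) w₁) := by
    intro x a
    rw [← hq (pt x a), hyp, ← pt_sub_right, hyp, ← pt_sub_right, hψa]
  obtain ⟨ws, hws⟩ := exists_partner B₂ hT.nd₂ w₁ hw₁0 1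
  have hwsw₁ : B₂ ws w₁ = 1 := by rw [hT.sym₂, hws]
  have hx₀ : (Pi.single i₀ (1 : F) : I → F) ≠ 0 := single_ne_zero' i₀
  obtain ⟨a₀, ha₀⟩ : ∃ a₀, ψ a₀ ≠ 0 := by
    by_contra hcon
    push Not at hcon
    have hall : ∀ t : I × J → F,
        (y : Matrix (I × J) (I × J) F) *ᵥ ((y : Matrix (I × J) (I × J) F) *ᵥ t - t) -
          ((y : Matrix (I × J) (I × J) F) *ᵥ t - t) = 0 := by
      have : (Matrix.mulVecLin (y : Matrix (I × J) (I × J) F) - LinearMap.id) ∘ₗ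
          (Matrix.mulVecLin (y : Matrix (I × J) (I × J) F) - LinearMap.id) = 0 := by
        apply lin_ext_pt
        intro x a
        simp only [LinearMap.comp_apply, LinearMap.sub_apply, Matrix.mulVecLin_apply,
          LinearMap.id_apply, LinearMap.zero_apply]
        rw [hyp, ← pt_sub_right, hyp, ← pt_sub_right, ← hψa, hcon, pt_zero_right]
      intro t
      exact LinearMap.congr_fun this t
    have h5 := hq (((h⁻¹ : GL (I × J) F) : Matrix (I × J) (I × J) F) *ᵥ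
      pt (Pi.single i₀ (1 : F)) ws)
    rw [hall, mulVec_inv_mulVec, C₂_pt, hwsw₁, one_smul] at h5
    have h6 := congrArg (fun t => (h : Matrix (I × J) (I × J) F) *ᵥ t) h5
    simp only [Matrix.mulVec_zero, mulVec_inv_mulVec] at h6
    rcases smul_eq_zero.mp h6.symm with h7 | h7
    · exact hv (neg_eq_zero.mp h7)
    · exact pt_ne_zero hx₀ hw₁0 h7
  have hmap : ∀ x : I → F, ∃ x' : I → F,
      (h : Matrix (I × J) (I × J) F) *ᵥ pt x (ψ a₀) = pt x' w₁ := by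
    intro x
    refine ⟨-(B₂ v v) • C₂ B₂ w₁ ((h : Matrix (I × J) (I × J) F) *ᵥ pt x a₀), ?_⟩
    rw [hqpt x a₀, mulVec_inv_mulVec, pt_smul_left]
  have hw₀s : B₂ (ψ a₀) (ψ a₀) = 0 := by
    obtain ⟨x₁, hx₁⟩ := exists_nonsing B₁ hT.sym₁ hT.nd₁ h2 (by have := C.dU; omega)
    obtain ⟨x', hx'⟩ := hmap x₁
    have h1 := C.oh.iso h hh (pt x₁ (ψ a₀))
    rw [hx', hT.sing_right h2 x' w₁ hw₁] at h1
    have h3 := hT.two_Q_pt h2 x₁ (ψ a₀)
    rw [← h1, mul_zero] at h3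
    rcases mul_eq_zero.mp h3.symm with h4 | h4
    · exact absurd h4 hx₁
    · exact h4
  exact C.stab_mem h hh w₁ (ψ a₀) hw₁0 ha₀ hw₁ hw₀s hmap

/-- **(LL2')** if `h` maps a subspace fixed pointwise by a Siegel element `1 ⊗ ρ(p*, z)` (with `z`
non-singular) onto a subspace containing `U ⊗ p`, then `h ∈ krSub` -/
theorem Ctx.fix_sub_mem (C : Ctx hT h2 H) (h : GL (I × J) F) (hh : h ∈ H) (ps z : J → F)
    (hps0 : ps ≠ 0) (hps : B₂ ps ps = 0) (hpsz : B₂ ps z = 0) (hz : B₂ z z ≠ 0)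
    (Sf : Submodule F (I × J → F))
    (hfixS : ∀ v ∈ Sf, (krL (1 : (I → F) ≃ₗ[F] (I → F)) (sieg B₂ hT.sym₂ h2 ps z hps hpsz) :
      Matrix (I × J) (I × J) F) *ᵥ v = v)
    (p : J → F) (hp0 : p ≠ 0) (hp : B₂ p p = 0)
    (hsurj : ∀ u : I → F, ∃ v ∈ Sf, (h : Matrix (I × J) (I × J) F) *ᵥ v = pt u p) :
    h ∈ krSub I J F := by
  have hy₂H : krL (1 : (I → F) ≃ₗ[F] (I → F)) (sieg B₂ hT.sym₂ h2 ps z hps hpsz) ∈ H :=
    C.oh.memW ps z hps hpsz
  obtain ⟨y, hydef⟩ : ∃ y : GL (I × J) F,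
      y = h * krL (1 : (I → F) ≃ₗ[F] (I → F)) (sieg B₂ hT.sym₂ h2 ps z hps hpsz) * h⁻¹ :=
    ⟨_, rfl⟩
  have hyH : y ∈ H := by
    rw [hydef]
    exact H.mul_mem (H.mul_mem hh hy₂H) (H.inv_mem hh)
  have hyfix : ∀ u : I → F, (y : Matrix (I × J) (I × J) F) *ᵥ pt u p = pt u p := by
    intro u
    obtain ⟨v, hvS, hv⟩ := hsurj u
    rw [← hv, hydef, Units.val_mul, Units.val_mul, ← Matrix.mulVec_mulVec,
      ← Matrix.mulVec_mulVec, inv_mulVec_mulVec, hfixS v hvS]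
  have hyK : y ∈ krSub I J F :=
    C.stab_mem_aux y hyH p hp0 hp (fun x => ⟨x, hyfix x⟩)
  obtain ⟨α, β, hαβ⟩ := mem_krSub.mp hyK
  rw [hαβ] at hyfix
  obtain ⟨β', hβ'⟩ := kr_fix_form hT.nd₂ C.neI α β p hp0 hyfix
  rw [← hαβ] at hβ'
  have hinv : h⁻¹ ∈ krSub I J F := by
    apply C.conj_sieg_mem h⁻¹ (H.inv_mem hh) ps z hps0 hps hpsz hz β'
    intro x a
    rw [inv_inv, ← hydef]
    exact hβ' x a
  have := (krSub I J F).inv_mem hinv
  rwa [inv_inv] at this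

/-- **(G0)** conjugates of long root elements of `1 ⊗ O(W)` by elements of `H` outside `krSub` lie
outside `krSub` -/
theorem Ctx.conj_root_not_mem (C : Ctx hT h2 H) (hIJ : Fintype.card I < Fintype.card J)
    (hL : ∀ S : Submodule F (J → F), (∀ x ∈ S, ∀ y ∈ S, B₂ x y = 0) →
      2 * finrank F S < finrank F (J → F))
    (h : GL (I × J) F) (hh : h ∈ H) (hnk : h ∉ krSub I J F) (p₁ p₂ : J → F)
    (hp₁ : B₂ p₁ p₁ = 0) (hp₂ : B₂ p₂ p₂ = 0) (hp₁₂ : B₂ p₁ p₂ = 0)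
    (hli : LinearIndependent F ![p₁, p₂]) :
    h⁻¹ * krL (1 : (I → F) ≃ₗ[F] (I → F)) (sieg B₂ hT.sym₂ h2 p₁ p₂ hp₁ hp₁₂) * h ∉
      krSub I J F := by
  intro hmem
  obtain ⟨α, β, hy⟩ := mem_krSub.mp hmem
  obtain ⟨i₀⟩ := C.neI
  have hx₀ : (Pi.single i₀ (1 : F) : I → F) ≠ 0 := single_ne_zero' i₀
  have hp₂₁ : B₂ p₂ p₁ = 0 := by rw [hT.sym₂, hp₁₂]
  have hp₁0 : p₁ ≠ 0 := by
    intro h0
    have := hli.ne_zero 0
    exact this h0
  have hxH : krL (1 : (I → F) ≃ₗ[F] (I → F)) (sieg B₂ hT.sym₂ h2 p₁ p₂ hp₁ hp₁₂) ∈ H :=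
    C.oh.memW p₁ p₂ hp₁ hp₁₂
  have hgH : (kr α β : GL (I × J) F) ∈ H := by
    rw [← hy]
    exact H.mul_mem (H.mul_mem (H.inv_mem hh) hxH) hh
  have hgiso := (C.oh.iso _ hgH).polar_eq
  have hxA := Acts_xP (I := I) hT.sym₂ h2 p₁ p₂ hp₁ hp₁₂ hp₂
  have hyv : ∀ t : I × J → F,
      ((kr α β : GL (I × J) F) : Matrix (I × J) (I × J) F) *ᵥ t - t =
        ((h⁻¹ : GL (I × J) F) : Matrix (I × J) (I × J) F) *ᵥ
          NP B₂ p₁ p₂ ((h : Matrix (I × J) (I × J) F) *ᵥ t) := by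
    intro t
    rw [← hy, Units.val_mul, Units.val_mul, ← Matrix.mulVec_mulVec, ← Matrix.mulVec_mulVec,
      hxA ((h : Matrix (I × J) (I × J) F) *ᵥ t), Matrix.mulVec_add, inv_mulVec_mulVec,
      add_sub_cancel_left]
  have hsq : ∀ t : I × J → F,
      ((kr α β : GL (I × J) F) : Matrix (I × J) (I × J) F) *ᵥ
        (((kr α β : GL (I × J) F) : Matrix (I × J) (I × J) F) *ᵥ t - t) -
        (((kr α β : GL (I × J) F) : Matrix (I × J) (I × J) F) *ᵥ t - t) = 0 := by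
    intro t
    rw [hyv (((kr α β : GL (I × J) F) : Matrix (I × J) (I × J) F) *ᵥ t - t), hyv t,
      mulVec_inv_mulVec, NP_sq B₂ p₁ p₂ hp₁ hp₂ hp₁₂ hp₂₁, Matrix.mulVec_zero]
  have hq : ∀ t : I × J → F,
      ((kr α β : GL (I × J) F) : Matrix (I × J) (I × J) F) *ᵥ
        (((kr α β : GL (I × J) F) : Matrix (I × J) (I × J) F) *ᵥ t) -
        (2 : F) • (((kr α β : GL (I × J) F) : Matrix (I × J) (I × J) F) *ᵥ t) + t = 0 := by
    intro t
    have := hsq t
    rw [Matrix.mulVec_sub] at this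
    rw [← this, two_smul]
    abel
  obtain ⟨q₂, hq₂⟩ := exists_prescribed B₂ hT.nd₂ ![p₁, p₂] hli ![0, 1]
  have hp₁q₂ : B₂ p₁ q₂ = 0 := hq₂ 0
  have hp₂q₂ : B₂ p₂ q₂ = 1 := hq₂ 1
  have hq₂p₁ : B₂ q₂ p₁ = 0 := by rw [hT.sym₂, hp₁q₂]
  have hq₂p₂ : B₂ q₂ p₂ = 1 := by rw [hT.sym₂, hp₂q₂]
  have hNq : ∀ u : I → F, NP B₂ p₁ p₂ (pt u q₂) = pt u p₁ := by
    intro u
    rw [NP_pt, hq₂p₁, hq₂p₂, one_smul, zero_smul, sub_zero]
  have hmove : ∀ u : I → F,
      (h : Matrix (I × J) (I × J) F) *ᵥ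
        (((kr α β : GL (I × J) F) : Matrix (I × J) (I × J) F) *ᵥ
          (((h⁻¹ : GL (I × J) F) : Matrix (I × J) (I × J) F) *ᵥ pt u q₂) -
          ((h⁻¹ : GL (I × J) F) : Matrix (I × J) (I × J) F) *ᵥ pt u q₂) = pt u p₁ := by
    intro u
    rw [hyv, mulVec_inv_mulVec, mulVec_inv_mulVec, hNq]
  have hgne : ¬ ∀ t : I × J → F,
      ((kr α β : GL (I × J) F) : Matrix (I × J) (I × J) F) *ᵥ t = t := by
    intro hall
    have := hmove (Pi.single i₀ (1 : F))
    rw [hall, sub_self, Matrix.mulVec_zero] at this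
    exact pt_ne_zero hx₀ hp₁0 this.symm
  rcases quad_kr B₁ hT.nd₁ h2 α β hq with ⟨c, hc⟩ | ⟨c, hc⟩
  · -- the `I`-side is scalar
    obtain ⟨β', hβ'def⟩ : ∃ β' : (J → F) →ₗ[F] (J → F),
        β' = c • Matrix.mulVecLin (β : Matrix J J F) := ⟨_, rfl⟩
    have hβ'a : ∀ a, β' a = c • ((β : Matrix J J F) *ᵥ a) := by
      intro a
      rw [hβ'def]
      rfl
    have hyp : ∀ (x : I → F) (a : J → F),
        ((kr α β : GL (I × J) F) : Matrix (I × J) (I × J) F) *ᵥ pt x a = pt x (β' a) := by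
      intro x a
      rw [kr_mulVec_pt, hc, Matrix.smul_mulVec, Matrix.one_mulVec, pt_smul_left, hβ'a,
        pt_smul_right]
    obtain ⟨n, hndef⟩ : ∃ n : (J → F) →ₗ[F] (J → F), n = β' - LinearMap.id := ⟨_, rfl⟩
    have hna : ∀ a, n a = β' a - a := by
      intro a
      rw [hndef]
      rfl
    have hβn : ∀ a, β' a = a + n a := by
      intro a
      rw [hna]
      abel
    have hgn : ∀ (x : I → F) (a : J → F),
        ((kr α β : GL (I × J) F) : Matrix (I × J) (I × J) F) *ᵥ pt x a - pt x a =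
          pt x (n a) := by
      intro x a
      rw [hyp, ← pt_sub_right, hna]
    have hn2 : ∀ a, n (n a) = 0 := by
      intro a
      have := hsq (pt (Pi.single i₀ (1 : F)) a)
      rw [hgn, hgn] at this
      by_contra hne
      exact pt_ne_zero hx₀ hne this
    obtain ⟨x₁, hx₁⟩ := exists_nonsing B₁ hT.sym₁ hT.nd₁ h2 (by have := C.dU; omega)
    have hβiso : ∀ a b, B₂ (β' a) (β' b) = B₂ a b := by
      intro a b
      have := hgiso (pt x₁ a) (pt x₁ b)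
      rw [hyp, hyp, hT.polar_pt, hT.polar_pt] at this
      exact mul_left_cancel₀ hx₁ this
    have hstar : ∀ a b, B₂ (n a) b + B₂ a (n b) + B₂ (n a) (n b) = 0 := by
      intro a b
      have := hβiso a b
      rw [hβn a, hβn b] at this
      simp only [map_add, LinearMap.add_apply] at this
      linear_combination this
    have hts : ∀ a b, B₂ (n a) (n b) = 0 := by
      intro a b
      have := hstar a (n b)
      rw [hn2, map_zero, map_zero] at this
      linear_combination this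
    have hts' : ∀ x ∈ LinearMap.range n, ∀ y ∈ LinearMap.range n, B₂ x y = 0 := by
      rintro _ ⟨a, rfl⟩ _ ⟨b, rfl⟩
      exact hts a b
    obtain ⟨z, hzo, hzn⟩ := exists_nonsing_perp_ts B₂ hT.sym₂ hT.nd₂ h2 hL _ hts'
    obtain ⟨as, has⟩ : ∃ as, n as ≠ 0 := by
      by_contra hcon
      push Not at hcon
      apply hgne
      have : Matrix.mulVecLin ((kr α β : GL (I × J) F) : Matrix (I × J) (I × J) F) =
          LinearMap.id := by
        apply lin_ext_pt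
        intro x a
        rw [Matrix.mulVecLin_apply, LinearMap.id_apply, hyp, hβn, hcon, add_zero]
      intro t
      exact LinearMap.congr_fun this t
    have hpsz : B₂ (n as) z = 0 := hzo _ ⟨as, rfl⟩
    apply hnk
    apply C.fix_sub_mem h hh (n as) z has (hts as as) hpsz hzn
      (LinearMap.range (Matrix.mulVecLin ((kr α β : GL (I × J) F) : Matrix (I × J) (I × J) F) -
        LinearMap.id)) ?_ p₁ hp₁0 hp₁ ?_
    · rintro _ ⟨t, rfl⟩
      have : Matrix.mulVecLin (krL (1 : (I → F) ≃ₗ[F] (I → F))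
            (sieg B₂ hT.sym₂ h2 (n as) z (hts as as) hpsz) : Matrix (I × J) (I × J) F) ∘ₗ
          (Matrix.mulVecLin ((kr α β : GL (I × J) F) : Matrix (I × J) (I × J) F) -
            LinearMap.id) =
          (Matrix.mulVecLin ((kr α β : GL (I × J) F) : Matrix (I × J) (I × J) F) -
            LinearMap.id) := by
        apply lin_ext_pt
        intro x a
        have e1 : (1 : (I → F) ≃ₗ[F] (I → F)) x = x := rfl
        rw [LinearMap.comp_apply, LinearMap.sub_apply, Matrix.mulVecLin_apply,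
          Matrix.mulVecLin_apply, LinearMap.id_apply, hgn, krL_pt, e1, sieg_apply, hts a as,
          hzo (n a) ⟨a, rfl⟩]
        simp
      exact LinearMap.congr_fun this t
    · intro u
      refine ⟨_, ⟨((h⁻¹ : GL (I × J) F) : Matrix (I × J) (I × J) F) *ᵥ pt u q₂, rfl⟩, ?_⟩
      rw [LinearMap.sub_apply, Matrix.mulVecLin_apply, LinearMap.id_apply]
      exact hmove u
  · -- the `J`-side is scalar
    obtain ⟨α', hα'def⟩ : ∃ α' : (I → F) →ₗ[F] (I → F),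
        α' = c • Matrix.mulVecLin (α : Matrix I I F) := ⟨_, rfl⟩
    have hα'a : ∀ a, α' a = c • ((α : Matrix I I F) *ᵥ a) := by
      intro a
      rw [hα'def]
      rfl
    have hyp : ∀ (x : I → F) (a : J → F),
        ((kr α β : GL (I × J) F) : Matrix (I × J) (I × J) F) *ᵥ pt x a = pt (α' x) a := by
      intro x a
      rw [kr_mulVec_pt, hc, Matrix.smul_mulVec, Matrix.one_mulVec, pt_smul_right, hα'a,
        pt_smul_left]
    obtain ⟨A, hAdef⟩ : ∃ A : (I → F) →ₗ[F] (I → F), A = α' - LinearMap.id := ⟨_, rfl⟩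
    have hAa : ∀ a, A a = α' a - a := by
      intro a
      rw [hAdef]
      rfl
    have hαA : ∀ a, α' a = a + A a := by
      intro a
      rw [hAa]
      abel
    have hgA : ∀ (x : I → F) (a : J → F),
        ((kr α β : GL (I × J) F) : Matrix (I × J) (I × J) F) *ᵥ pt x a - pt x a =
          pt (A x) a := by
      intro x a
      rw [hyp, ← pt_sub_left, hAa]
    obtain ⟨b₁, hb₁⟩ := exists_nonsing B₂ hT.sym₂ hT.nd₂ h2 (by have := C.dW; omega)
    have hb₁0 : b₁ ≠ 0 := by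
      intro h0
      apply hb₁
      rw [h0, map_zero]
    have hA2 : ∀ u, A (A u) = 0 := by
      intro u
      have := hsq (pt u b₁)
      rw [hgA, hgA] at this
      have e : pt (A (A u)) b₁ = pt (0 : I → F) b₁ := by rw [this, pt_zero_left]
      exact pt_left_injective hb₁0 e
    have hαiso : ∀ u v, B₁ (α' u) (α' v) = B₁ u v := by
      intro u v
      have := hgiso (pt u b₁) (pt v b₁)
      rw [hyp, hyp, hT.polar_pt, hT.polar_pt] at this
      exact mul_right_cancel₀ hb₁ this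
    -- the rank of `A` is at most one
    have hrank : ∀ u₁ u₂ : I → F, ¬ LinearIndependent F ![A u₁, A u₂] := by
      intro u₁ u₂ hliA
      obtain ⟨S, hSdef⟩ : ∃ S : Submodule F (I × J → F), S = (Aw (I := I) p₁ ⊔ Aw (I := I) p₂).map
          (gL (h⁻¹ : GL (I × J) F) : (I × J → F) →ₗ[F] (I × J → F)) := ⟨_, rfl⟩
      have hSfin : finrank F ↥S ≤ Fintype.card I + Fintype.card I := by
        rw [hSdef, LinearEquiv.finrank_map_eq]
        have h1 : finrank F ↥(Aw (I := I) p₁ ⊔ Aw (I := I) p₂) ≤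
            finrank F ↥(Aw (I := I) p₁) + finrank F ↥(Aw (I := I) p₂) :=
          Submodule.finrank_add_le_finrank_add_finrank _ _
        have h3 := finrank_Aw_le (I := I) p₁
        have h4 := finrank_Aw_le (I := I) p₂
        omega
      have hmemS : ∀ t : I × J → F,
          ((kr α β : GL (I × J) F) : Matrix (I × J) (I × J) F) *ᵥ t - t ∈ S := by
        intro t
        rw [hyv, hSdef]
        exact Submodule.mem_map.mpr ⟨_, NP_mem B₂ p₁ p₂ _, rfl⟩
      obtain ⟨f, hfdef⟩ : ∃ f : (J → F) × (J → F) →ₗ[F] (I × J → F),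
          f = (ptR (A u₁)).coprod (ptR (A u₂)) := ⟨_, rfl⟩
      have hfa : ∀ b : (J → F) × (J → F), f b = pt (A u₁) b.1 + pt (A u₂) b.2 := by
        intro b
        rw [hfdef, LinearMap.coprod_apply, ptR_apply, ptR_apply]
      have hfS : ∀ b, f b ∈ S := by
        intro b
        rw [hfa, ← hgA, ← hgA]
        exact S.add_mem (hmemS _) (hmemS _)
      have hinj : Function.Injective (LinearMap.codRestrict S f hfS) := by
        rw [← LinearMap.ker_eq_bot, LinearMap.ker_codRestrict, LinearMap.ker_eq_bot']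
        intro b hb
        rw [hfa] at hb
        obtain ⟨e1, e2⟩ := pt_pair_zero B₁ hT.nd₁ hliA b.1 b.2 hb
        exact Prod.ext e1 e2
      have := LinearMap.finrank_le_finrank_of_injective hinj
      rw [Module.finrank_prod, finrank_fintype_fun_eq_card] at this
      omega
    obtain ⟨u₀, hu₀⟩ : ∃ u₀, A u₀ ≠ 0 := by
      by_contra hcon
      push Not at hcon
      apply hgne
      have : Matrix.mulVecLin ((kr α β : GL (I × J) F) : Matrix (I × J) (I × J) F) =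
          LinearMap.id := by
        apply lin_ext_pt
        intro x a
        rw [Matrix.mulVecLin_apply, LinearMap.id_apply, hyp, hαA, hcon, add_zero]
      intro t
      exact LinearMap.congr_fun this t
    obtain ⟨a, hadef⟩ : ∃ a : I → F, a = A u₀ := ⟨_, rfl⟩
    rw [← hadef] at hu₀
    have hAa0 : A a = 0 := by rw [hadef, hA2]
    have hφ : ∀ v, ∃ c : F, A v = c • a := by
      intro v
      by_contra hcon
      push Not at hcon
      apply hrank u₀ v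
      rw [← hadef]
      exact pair_indep_of_not_smul hu₀ hcon
    have haa : B₁ a a = 0 := by
      have := hαiso u₀ a
      rw [hαA u₀, hαA a, hAa0, add_zero, ← hadef] at this
      simp only [map_add, LinearMap.add_apply] at this
      linear_combination this
    have hu₀a : B₁ u₀ a = 0 := by
      have := hαiso u₀ u₀
      rw [hαA u₀, ← hadef] at this
      simp only [map_add, LinearMap.add_apply, haa, hT.sym₁ a u₀] at this
      have h' : (2 : F) * B₁ u₀ a = 0 := by linear_combination this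
      rcases mul_eq_zero.mp h' with h0 | h0
      · exact absurd h0 h2
      · exact h0
    have hall : ∀ v, B₁ a v = 0 := by
      intro v
      obtain ⟨cv, hcv⟩ := hφ v
      have := hαiso u₀ v
      rw [hαA u₀, hαA v, ← hadef, hcv] at this
      simp only [map_add, map_smul, LinearMap.add_apply, LinearMap.smul_apply, smul_eq_mul, haa,
        hu₀a, mul_zero, add_zero] at this
      linear_combination this
    exact hu₀ (hT.nd₁.1 a hall)

end ctx

end Cfsg.Agent.Lib.Helper1.TsC
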