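import Mathlib
import Cfsg.Agent.Lib.Helper1.TsC9

/-!
# `O(U) ⊗ O(W)`: long root subgroups `X_P`, the group `⟨X_P, h X_{P'} h⁻¹⟩`, an algebra lemma
-/

set_option autoImplicit false
set_option maxHeartbeats 4000000
set_option maxRecDepth 100000
set_option linter.unusedSimpArgs false
set_option linter.unusedVariables false
set_option linter.unusedSectionVars false
set_option linter.style.longLine false
set_option linter.deprecated false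

namespace Cfsg.Agent.Lib.Helper1.TsC

open Module QuadraticMap Matrix
open Cfsg
open Cfsg.Agent.Lib.Helper5.CartanDieudonne Cfsg.Agent.Lib.Helper5.Siegel
  Cfsg.Agent.Lib.Helper5.QuadIsom Cfsg.Agent.Lib.Helper5.Eichler
  Cfsg.Agent.Lib.Helper5.OmegaSimple Cfsg.Agent.Lib.Helper5.OrthSingularMax
open Cfsg.Agent.Lib.Helper1.UoA
open Cfsg.Agent.Lib.Helper1.TsA
open Cfsg.Agent.Lib.Helper1.TsB
open Cfsg.Agent.Lib.Helper8.Tns

local notation "Ξ" => Cfsg.Agent.Lib.Helper1.TsA.Xi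

/-! ### the algebra lemma -/

section alg

variable {F : Type*} [Field F] {V : Type*} [AddCommGroup V] [Module F V]
  (N N' : V →ₗ[F] V) (A : Submodule F V) (β₀ : V →ₗ[F] V →ₗ[F] F)

/-- operators preserving `A`, commuting with `T = N N'` on `A` and self-adjoint on `A` -/
def CC : Set (V →ₗ[F] V) :=
  {S | (∀ a ∈ A, S a ∈ A) ∧ (∀ a ∈ A, S (N (N' a)) = N (N' (S a))) ∧
    ∀ a ∈ A, ∀ a' ∈ A, β₀ (S a') a = β₀ a' (S a)}

theorem CC_one : (1 : V →ₗ[F] V) ∈ CC N N' A β₀ :=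
  ⟨fun a ha => ha, fun a _ => rfl, fun a _ a' _ => rfl⟩

theorem CC_zero : (0 : V →ₗ[F] V) ∈ CC N N' A β₀ := by
  refine ⟨fun a _ => A.zero_mem, fun a _ => ?_, fun a _ a' _ => ?_⟩
  · simp
  · simp

theorem CC_add {S S' : V →ₗ[F] V} (hS : S ∈ CC N N' A β₀) (hS' : S' ∈ CC N N' A β₀) :
    S + S' ∈ CC N N' A β₀ := by
  refine ⟨fun a ha => A.add_mem (hS.1 a ha) (hS'.1 a ha), fun a ha => ?_, fun a ha a' ha' => ?_⟩
  · rw [LinearMap.add_apply, LinearMap.add_apply, hS.2.1 a ha, hS'.2.1 a ha, map_add, map_add]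
  · rw [LinearMap.add_apply, LinearMap.add_apply, map_add, LinearMap.add_apply, map_add,
      hS.2.2 a ha a' ha', hS'.2.2 a ha a' ha']

theorem CC_smul (c : F) {S : V →ₗ[F] V} (hS : S ∈ CC N N' A β₀) : c • S ∈ CC N N' A β₀ := by
  refine ⟨fun a ha => A.smul_mem c (hS.1 a ha), fun a ha => ?_, fun a ha a' ha' => ?_⟩
  · rw [LinearMap.smul_apply, LinearMap.smul_apply, hS.2.1 a ha, map_smul, map_smul]
  · rw [LinearMap.smul_apply, LinearMap.smul_apply, map_smul, LinearMap.smul_apply, map_smul,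
      hS.2.2 a ha a' ha']

theorem CC_T (hNr : ∀ v, N v ∈ A)
    (hT : ∀ a ∈ A, ∀ a' ∈ A, β₀ (N (N' a')) a = β₀ a' (N (N' a))) {S : V →ₗ[F] V}
    (hS : S ∈ CC N N' A β₀) : (N ∘ₗ N') ∘ₗ S ∈ CC N N' A β₀ := by
  refine ⟨fun a _ => hNr _, fun a ha => ?_, fun a ha a' ha' => ?_⟩
  · simp only [LinearMap.comp_apply]
    rw [hS.2.1 a ha]
  · simp only [LinearMap.comp_apply]
    rw [hT a ha (S a') (hS.1 a' ha'), hS.2.2 _ (hNr _) a' ha', hS.2.1 a ha]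

/-- operators mapping `S₁ v + N' S₂ v` to expressions of the same form -/
def AA : Set (V →ₗ[F] V) :=
  {Φ | ∀ S₁ ∈ CC N N' A β₀, ∀ S₂ ∈ CC N N' A β₀, ∃ S₁' ∈ CC N N' A β₀, ∃ S₂' ∈ CC N N' A β₀,
    ∀ v ∈ A, Φ (S₁ v + N' (S₂ v)) = S₁' v + N' (S₂' v)}

theorem AA_one : (1 : V →ₗ[F] V) ∈ AA N N' A β₀ :=
  fun S₁ h₁ S₂ h₂ => ⟨S₁, h₁, S₂, h₂, fun v _ => rfl⟩

theorem AA_comp {Φ Ψ : V →ₗ[F] V} (hΦ : Φ ∈ AA N N' A β₀) (hΨ : Ψ ∈ AA N N' A β₀) :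
    Φ ∘ₗ Ψ ∈ AA N N' A β₀ := by
  intro S₁ h₁ S₂ h₂
  obtain ⟨T₁, ht₁, T₂, ht₂, hΨ'⟩ := hΨ S₁ h₁ S₂ h₂
  obtain ⟨R₁, hr₁, R₂, hr₂, hΦ'⟩ := hΦ T₁ ht₁ T₂ ht₂
  refine ⟨R₁, hr₁, R₂, hr₂, fun v hv => ?_⟩
  rw [LinearMap.comp_apply, hΨ' v hv, hΦ' v hv]

theorem AA_N (hNA : ∀ a ∈ A, N a = 0) (hNr : ∀ v, N v ∈ A)
    (hT : ∀ a ∈ A, ∀ a' ∈ A, β₀ (N (N' a')) a = β₀ a' (N (N' a))) (c : F) :
    (1 + c • N : V →ₗ[F] V) ∈ AA N N' A β₀ := by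
  intro S₁ h₁ S₂ h₂
  refine ⟨S₁ + c • ((N ∘ₗ N') ∘ₗ S₂), CC_add N N' A β₀ h₁ (CC_smul N N' A β₀ c
    (CC_T N N' A β₀ hNr hT h₂)), S₂, h₂, fun v hv => ?_⟩
  simp only [LinearMap.add_apply, Module.End.one_apply, LinearMap.smul_apply,
    LinearMap.comp_apply, map_add]
  rw [hNA _ (h₁.1 v hv)]
  module

theorem AA_N' (hN'2 : ∀ v, N' (N' v) = 0) (c : F) :
    (1 + c • N' : V →ₗ[F] V) ∈ AA N N' A β₀ := by
  intro S₁ h₁ S₂ h₂
  refine ⟨S₁, h₁, S₂ + c • S₁, CC_add N N' A β₀ h₂ (CC_smul N N' A β₀ c h₁), fun v hv => ?_⟩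
  simp only [LinearMap.add_apply, Module.End.one_apply, LinearMap.smul_apply, map_add, map_smul]
  rw [hN'2]
  module

theorem AA_apply {Φ : V →ₗ[F] V} (hΦ : Φ ∈ AA N N' A β₀) :
    ∃ S₁ ∈ CC N N' A β₀, ∃ S₂ ∈ CC N N' A β₀, ∀ v ∈ A, Φ v = S₁ v + N' (S₂ v) := by
  obtain ⟨S₁, h₁, S₂, h₂, h⟩ := hΦ 1 (CC_one N N' A β₀) 0 (CC_zero N N' A β₀)
  refine ⟨S₁, h₁, S₂, h₂, fun v hv => ?_⟩
  have := h v hv
  simpa using this

end alg

variable {I J : Type} [Fintype I] [DecidableEq I] [Fintype J] [DecidableEq J]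
  {F : Type*} [Field F]

/-! ### totally singular lines and their root groups -/

/-- `p₁, p₂` span a totally singular line -/
structure TSL (B₂ : LinearMap.BilinForm F (J → F)) (p₁ p₂ : J → F) : Prop where
  h11 : B₂ p₁ p₁ = 0
  h22 : B₂ p₂ p₂ = 0
  h12 : B₂ p₁ p₂ = 0
  li : LinearIndependent F ![p₁, p₂]

section tsl

variable {B₂ : LinearMap.BilinForm F (J → F)} {p₁ p₂ : J → F}

theorem TSL.smul (hP : TSL B₂ p₁ p₂) {c : F} (hc : c ≠ 0) : TSL B₂ p₁ (c • p₂) where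
  h11 := hP.h11
  h22 := by simp only [map_smul, LinearMap.smul_apply, hP.h22, smul_zero]
  h12 := by rw [map_smul, hP.h12, smul_zero]
  li := pair_indep_smul_right hP.li hc

theorem TSL.ne₁ (hP : TSL B₂ p₁ p₂) : p₁ ≠ 0 := hP.li.ne_zero 0

theorem TSL.ne₂ (hP : TSL B₂ p₁ p₂) : p₂ ≠ 0 := hP.li.ne_zero 1

theorem TSL.h21 (hP : TSL B₂ p₁ p₂) (hS₂ : ∀ x y, B₂ x y = B₂ y x) : B₂ p₂ p₁ = 0 := by
  rw [hS₂, hP.h12]

/-- `U ⊗ P` -/
def AP (I : Type) [Fintype I] [DecidableEq I] (p₁ p₂ : J → F) : Submodule F (I × J → F) :=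
  Aw (I := I) p₁ ⊔ Aw (I := I) p₂

theorem mem_AP {v : I × J → F} :
    v ∈ AP I p₁ p₂ ↔ ∃ u₁ u₂ : I → F, v = pt u₁ p₁ + pt u₂ p₂ := by
  unfold AP
  rw [Submodule.mem_sup]
  constructor
  · rintro ⟨a, ha, b, hb, rfl⟩
    obtain ⟨u₁, rfl⟩ := mem_Aw.mp ha
    obtain ⟨u₂, rfl⟩ := mem_Aw.mp hb
    exact ⟨u₁, u₂, rfl⟩
  · rintro ⟨u₁, u₂, rfl⟩
    exact ⟨_, mem_Aw.mpr ⟨u₁, rfl⟩, _, mem_Aw.mpr ⟨u₂, rfl⟩, rfl⟩

theorem pt_mem_AP₁ (u : I → F) : pt u p₁ ∈ AP I p₁ p₂ :=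
  Submodule.mem_sup_left (mem_Aw.mpr ⟨u, rfl⟩)

theorem pt_mem_AP₂ (u : I → F) : pt u p₂ ∈ AP I p₁ p₂ :=
  Submodule.mem_sup_right (mem_Aw.mpr ⟨u, rfl⟩)

theorem finrank_AP_le : finrank F ↥(AP I p₁ p₂) ≤ Fintype.card I + Fintype.card I := by
  unfold AP
  have h1 : finrank F ↥(Aw (I := I) p₁ ⊔ Aw (I := I) p₂) ≤
      finrank F ↥(Aw (I := I) p₁) + finrank F ↥(Aw (I := I) p₂) :=
    Submodule.finrank_add_le_finrank_add_finrank _ _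
  have h3 := finrank_Aw_le (I := I) p₁
  have h4 := finrank_Aw_le (I := I) p₂
  omega

theorem NP_AP (hP : TSL B₂ p₁ p₂) (hS₂ : ∀ x y, B₂ x y = B₂ y x) :
    ∀ a ∈ AP I p₁ p₂, NP B₂ p₁ p₂ a = 0 := by
  intro a ha
  obtain ⟨u₁, u₂, rfl⟩ := mem_AP.mp ha
  rw [map_add, NP_pt, NP_pt, hP.h11, hP.h22, hP.h12, hP.h21 hS₂]
  simp

variable (hS₂ : ∀ x y, B₂ x y = B₂ y x) (h2 : (2 : F) ≠ 0)

/-- the root elements `x_P(c) = 1 ⊗ ρ_{p₁, c p₂}` -/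
noncomputable def xP (I : Type) [Fintype I] [DecidableEq I] (hP : TSL B₂ p₁ p₂) (c : F) :
    GL (I × J) F :=
  krL (1 : (I → F) ≃ₗ[F] (I → F))
    (sieg B₂ hS₂ h2 p₁ (c • p₂) hP.h11 (by rw [map_smul, hP.h12, smul_zero]))

theorem Acts_xPc (hP : TSL B₂ p₁ p₂) (c : F) :
    Acts (xP hS₂ h2 I hP c) (c • NP B₂ p₁ p₂) := by
  unfold xP
  apply (Acts_xP (I := I) hS₂ h2 p₁ (c • p₂) hP.h11 (by rw [map_smul, hP.h12, smul_zero])
    (by simp only [map_smul, LinearMap.smul_apply, hP.h22, smul_zero])).congr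
  unfold NP
  rw [Xi_smul_p, Xi_smul_q, smul_sub]

theorem xP_mulVec (hP : TSL B₂ p₁ p₂) (c : F) (v : I × J → F) :
    (xP hS₂ h2 I hP c : Matrix (I × J) (I × J) F) *ᵥ v = v + c • NP B₂ p₁ p₂ v :=
  Acts_xPc hS₂ h2 hP c v

theorem xP_add (hP : TSL B₂ p₁ p₂) (c c' : F) :
    xP hS₂ h2 I hP c * xP hS₂ h2 I hP c' = xP hS₂ h2 I hP (c + c') := by
  have h0 : (c • NP (I := I) B₂ p₁ p₂) ∘ₗ (c' • NP B₂ p₁ p₂) = 0 := by
    apply LinearMap.ext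
    intro v
    rw [LinearMap.comp_apply, LinearMap.smul_apply, LinearMap.smul_apply, map_smul,
      NP_sq B₂ p₁ p₂ hP.h11 hP.h22 hP.h12 (hP.h21 hS₂), smul_zero, smul_zero,
      LinearMap.zero_apply]
  have h1 := (Acts_xPc hS₂ h2 hP c).mul_of_comp_zero (Acts_xPc hS₂ h2 hP c') h0
  rw [← add_smul] at h1
  exact h1.ext (Acts_xPc hS₂ h2 hP (c + c'))

theorem xP_zero (hP : TSL B₂ p₁ p₂) : xP hS₂ h2 I hP 0 = 1 := by
  have h1 := Acts_xPc (I := I) hS₂ h2 hP 0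
  rw [zero_smul] at h1
  exact h1.ext Acts_one

theorem xP_inv (hP : TSL B₂ p₁ p₂) (c : F) : (xP hS₂ h2 I hP c)⁻¹ = xP hS₂ h2 I hP (-c) := by
  apply inv_eq_of_mul_eq_one_right
  rw [xP_add, add_neg_cancel, xP_zero]

theorem xP_comm (hP : TSL B₂ p₁ p₂) (c c' : F) :
    xP hS₂ h2 I hP c * xP hS₂ h2 I hP c' = xP hS₂ h2 I hP c' * xP hS₂ h2 I hP c := by
  rw [xP_add, xP_add, add_comm]

/-- the root subgroup -/
def XsubP (I : Type) [Fintype I] [DecidableEq I] (hP : TSL B₂ p₁ p₂) :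
    Subgroup (GL (I × J) F) where
  carrier := {g | ∃ c : F, g = xP hS₂ h2 I hP c}
  mul_mem' := by
    rintro _ _ ⟨c, rfl⟩ ⟨c', rfl⟩
    exact ⟨c + c', xP_add hS₂ h2 hP c c'⟩
  one_mem' := ⟨0, (xP_zero hS₂ h2 hP).symm⟩
  inv_mem' := by
    rintro _ ⟨c, rfl⟩
    exact ⟨-c, xP_inv hS₂ h2 hP c⟩

theorem xP_sq (hP : TSL B₂ p₁ p₂) (c : F) :
    ((xP hS₂ h2 I hP c : Matrix (I × J) (I × J) F) - 1) *
      ((xP hS₂ h2 I hP c : Matrix (I × J) (I × J) F) - 1) = 0 := by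
  rw [Matrix.ext_iff_mulVec]
  intro v
  have e : ∀ v' : I × J → F, ((xP hS₂ h2 I hP c : Matrix (I × J) (I × J) F) - 1) *ᵥ v' =
      c • NP B₂ p₁ p₂ v' := by
    intro v'
    rw [Matrix.sub_mulVec, xP_mulVec, Matrix.one_mulVec, add_sub_cancel_left]
  rw [← Matrix.mulVec_mulVec, e, e, map_smul,
    NP_sq B₂ p₁ p₂ hP.h11 hP.h22 hP.h12 (hP.h21 hS₂), smul_zero, smul_zero, Matrix.zero_mulVec]

theorem xP_mem_krSub (hP : TSL B₂ p₁ p₂) (c : F) : xP hS₂ h2 I hP c ∈ krSub I J F :=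
  krL_mem _ _

/-- dual vectors of a totally singular line -/
theorem TSL.exists_dual (hP : TSL B₂ p₁ p₂) (hnd : B₂.Nondegenerate) :
    ∃ q₁ q₂ : J → F, B₂ p₁ q₁ = 1 ∧ B₂ p₂ q₁ = 0 ∧ B₂ p₁ q₂ = 0 ∧ B₂ p₂ q₂ = 1 := by
  obtain ⟨q₁, hq₁⟩ := exists_prescribed B₂ hnd ![p₁, p₂] hP.li ![1, 0]
  obtain ⟨q₂, hq₂⟩ := exists_prescribed B₂ hnd ![p₁, p₂] hP.li ![0, 1]
  exact ⟨q₁, q₂, hq₁ 0, hq₁ 1, hq₂ 0, hq₂ 1⟩

theorem xP_ne_one (hP : TSL B₂ p₁ p₂) (hnd : B₂.Nondegenerate) (hI : Nonempty I) {c : F}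
    (hc : c ≠ 0) : xP hS₂ h2 I hP c ≠ 1 := by
  intro h1
  obtain ⟨i₀⟩ := hI
  obtain ⟨q₁, q₂, -, -, h3, h4⟩ := hP.exists_dual hnd
  have := xP_mulVec hS₂ h2 hP c (pt (Pi.single i₀ (1 : F)) q₂)
  rw [h1, Units.val_one, Matrix.one_mulVec, NP_pt, hS₂ q₂ p₂, h4, hS₂ q₂ p₁, h3, one_smul,
    zero_smul, sub_zero] at this
  have h5 : c • pt (Pi.single i₀ (1 : F)) p₁ = 0 := by
    have := congrArg (fun t => t - pt (Pi.single i₀ (1 : F)) q₂) this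
    simp only [sub_self, add_sub_cancel_left] at this
    exact this.symm
  rcases smul_eq_zero.mp h5 with h6 | h6
  · exact hc h6
  · exact pt_ne_zero (single_ne_zero' i₀) hP.ne₁ h6

include hS₂ in
/-- every element of `U ⊗ P` is in the image of `N_P` -/
theorem AP_eq_NP (hP : TSL B₂ p₁ p₂) (hnd : B₂.Nondegenerate) (v : I × J → F)
    (hv : v ∈ AP I p₁ p₂) : ∃ t, v = NP B₂ p₁ p₂ t := by
  obtain ⟨q₁, q₂, h1, h2', h3, h4⟩ := hP.exists_dual hnd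
  obtain ⟨u₁, u₂, rfl⟩ := mem_AP.mp hv
  refine ⟨pt u₁ q₂ - pt u₂ q₁, ?_⟩
  rw [map_sub, NP_pt, NP_pt, hS₂ q₂ p₂, h4, hS₂ q₂ p₁, h3, hS₂ q₁ p₂, h2', hS₂ q₁ p₁, h1]
  simp

/-- a conjugation of root elements maps `U ⊗ P` into itself -/
theorem conj_xP_maps (hP : TSL B₂ p₁ p₂) (hnd : B₂.Nondegenerate) (g : GL (I × J) F) (c₁ c₂ : F)
    (hc₁ : c₁ ≠ 0) (hconj : g * xP hS₂ h2 I hP c₁ * g⁻¹ = xP hS₂ h2 I hP c₂) :
    ∀ v ∈ AP I p₁ p₂, (g : Matrix (I × J) (I × J) F) *ᵥ v ∈ AP I p₁ p₂ := by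
  intro v hv
  obtain ⟨t, rfl⟩ := AP_eq_NP hS₂ hP hnd v hv
  have e : g * xP hS₂ h2 I hP c₁ = xP hS₂ h2 I hP c₂ * g := by
    rw [← hconj]
    group
  have h1 := congrArg (fun m : GL (I × J) F => (m : Matrix (I × J) (I × J) F) *ᵥ t) e
  simp only [Units.val_mul, ← Matrix.mulVec_mulVec] at h1
  rw [xP_mulVec, xP_mulVec, Matrix.mulVec_add, Matrix.mulVec_smul] at h1
  have h3 : c₁ • ((g : Matrix (I × J) (I × J) F) *ᵥ NP B₂ p₁ p₂ t) =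
      c₂ • NP B₂ p₁ p₂ ((g : Matrix (I × J) (I × J) F) *ᵥ t) := add_left_cancel h1
  have h4 : (g : Matrix (I × J) (I × J) F) *ᵥ NP B₂ p₁ p₂ t =
      (c₁⁻¹ * c₂) • NP B₂ p₁ p₂ ((g : Matrix (I × J) (I × J) F) *ᵥ t) := by
    rw [← smul_smul, ← h3, smul_smul, inv_mul_cancel₀ hc₁, one_smul]
  rw [h4]
  exact Submodule.smul_mem _ _ (NP_mem B₂ p₁ p₂ _)

end tsl

/-! ### the group `⟨X_P, h X_{P'} h⁻¹⟩` -/

section kk

variable {B₂ : LinearMap.BilinForm F (J → F)} {p₁ p₂ p₁' p₂' : J → F}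
  (hS₂ : ∀ x y, B₂ x y = B₂ y x) (h2 : (2 : F) ≠ 0)

/-- the group generated by `X_P` and `h X_{P'} h⁻¹` -/
def KP (h : GL (I × J) F) (hP : TSL B₂ p₁ p₂) (hP' : TSL B₂ p₁' p₂') :
    Subgroup (GL (I × J) F) :=
  Subgroup.closure ({g | ∃ c : F, g = xP hS₂ h2 I hP c} ∪
    {g | ∃ c : F, g = h * xP hS₂ h2 I hP' c * h⁻¹})

/-- the conjugate `h N_{P'} h⁻¹` -/
def NPh (B₂ : LinearMap.BilinForm F (J → F)) (h : GL (I × J) F) (p₁' p₂' : J → F) :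
    (I × J → F) →ₗ[F] (I × J → F) :=
  Matrix.mulVecLin (h : Matrix (I × J) (I × J) F) ∘ₗ NP B₂ p₁' p₂' ∘ₗ
    Matrix.mulVecLin ((h⁻¹ : GL (I × J) F) : Matrix (I × J) (I × J) F)

theorem NPh_apply (h : GL (I × J) F) (v : I × J → F) :
    NPh B₂ h p₁' p₂' v = (h : Matrix (I × J) (I × J) F) *ᵥ
      NP B₂ p₁' p₂' (((h⁻¹ : GL (I × J) F) : Matrix (I × J) (I × J) F) *ᵥ v) := rfl

theorem conj_xP_mulVec (h : GL (I × J) F) (hP' : TSL B₂ p₁' p₂') (c : F) (v : I × J → F) :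
    ((h * xP hS₂ h2 I hP' c * h⁻¹ : GL (I × J) F) : Matrix (I × J) (I × J) F) *ᵥ v =
      v + c • NPh B₂ h p₁' p₂' v := by
  rw [Units.val_mul, Units.val_mul, ← Matrix.mulVec_mulVec, ← Matrix.mulVec_mulVec, xP_mulVec,
    Matrix.mulVec_add, mulVec_inv_mulVec, Matrix.mulVec_smul, NPh_apply]

include hS₂ in
theorem NPh_sq (h : GL (I × J) F) (hP' : TSL B₂ p₁' p₂') (v : I × J → F) :
    NPh B₂ h p₁' p₂' (NPh B₂ h p₁' p₂' v) = 0 := by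
  rw [NPh_apply, NPh_apply, inv_mulVec_mulVec,
    NP_sq B₂ p₁' p₂' hP'.h11 hP'.h22 hP'.h12 (hP'.h21 hS₂), Matrix.mulVec_zero]

theorem NPh_mem (h : GL (I × J) F) (v : I × J → F) :
    NPh B₂ h p₁' p₂' v ∈ (AP I p₁' p₂').map
      (gL h : (I × J → F) →ₗ[F] (I × J → F)) := by
  rw [NPh_apply]
  exact Submodule.mem_map.mpr ⟨_, NP_mem B₂ p₁' p₂' _, rfl⟩

include hS₂ in
theorem NPh_AP (h : GL (I × J) F) (hP' : TSL B₂ p₁' p₂') :
    ∀ v ∈ (AP I p₁' p₂').map (gL h : (I × J → F) →ₗ[F] (I × J → F)),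
      NPh B₂ h p₁' p₂' v = 0 := by
  intro v hv
  obtain ⟨a, ha, rfl⟩ := Submodule.mem_map.mp hv
  rw [NPh_apply, LinearEquiv.coe_coe, gL_apply, inv_mulVec_mulVec, NP_AP hP' hS₂ a ha,
    Matrix.mulVec_zero]

theorem KP_prop (h : GL (I × J) F) (hP : TSL B₂ p₁ p₂) (hP' : TSL B₂ p₁' p₂')
    (k : GL (I × J) F) (hk : k ∈ KP hS₂ h2 h hP hP') :
    (∀ v, (k : Matrix (I × J) (I × J) F) *ᵥ v - v ∈ AP I p₁ p₂ ⊔ (AP I p₁' p₂').map
      (gL h : (I × J → F) →ₗ[F] (I × J → F))) ∧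
    (∀ v ∈ AP I p₁ p₂ ⊓ (AP I p₁' p₂').map (gL h : (I × J → F) →ₗ[F] (I × J → F)),
      (k : Matrix (I × J) (I × J) F) *ᵥ v = v) := by
  obtain ⟨Q, hQdef⟩ : ∃ Q : GL (I × J) F → Prop, Q = fun g : GL (I × J) F =>
      (∀ v, (g : Matrix (I × J) (I × J) F) *ᵥ v - v ∈ AP I p₁ p₂ ⊔ (AP I p₁' p₂').map
        (gL h : (I × J → F) →ₗ[F] (I × J → F))) ∧
      (∀ v ∈ AP I p₁ p₂ ⊓ (AP I p₁' p₂').map (gL h : (I × J → F) →ₗ[F] (I × J → F)),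
        (g : Matrix (I × J) (I × J) F) *ᵥ v = v) := ⟨_, rfl⟩
  have hQ : ∀ g, Q g ↔ (∀ v, (g : Matrix (I × J) (I × J) F) *ᵥ v - v ∈ AP I p₁ p₂ ⊔
        (AP I p₁' p₂').map (gL h : (I × J → F) →ₗ[F] (I × J → F))) ∧
      (∀ v ∈ AP I p₁ p₂ ⊓ (AP I p₁' p₂').map (gL h : (I × J → F) →ₗ[F] (I × J → F)),
        (g : Matrix (I × J) (I × J) F) *ᵥ v = v) := by
    intro g
    rw [hQdef]
  have hgen1 : ∀ c : F, Q (xP hS₂ h2 I hP c) := by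
    intro c
    rw [hQ]
    constructor
    · intro v
      rw [xP_mulVec, add_sub_cancel_left]
      exact Submodule.mem_sup_left (Submodule.smul_mem _ _ (NP_mem B₂ p₁ p₂ _))
    · intro v hv
      rw [xP_mulVec, NP_AP hP hS₂ v hv.1, smul_zero, add_zero]
  have hgen2 : ∀ c : F, Q (h * xP hS₂ h2 I hP' c * h⁻¹) := by
    intro c
    rw [hQ]
    constructor
    · intro v
      rw [conj_xP_mulVec, add_sub_cancel_left]
      exact Submodule.mem_sup_right (Submodule.smul_mem _ _ (NPh_mem h v))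
    · intro v hv
      rw [conj_xP_mulVec, NPh_AP hS₂ h hP' v hv.2, smul_zero, add_zero]
  have hQone : Q 1 := by
    rw [hQ]
    constructor
    · intro v
      rw [Units.val_one, Matrix.one_mulVec, sub_self]
      exact Submodule.zero_mem _
    · intro v _
      rw [Units.val_one, Matrix.one_mulVec]
  have hQmul : ∀ g g', Q g → Q g' → Q (g * g') := by
    intro g g' hg hg'
    rw [hQ] at hg hg' ⊢
    constructor
    · intro v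
      have e : ((g * g' : GL (I × J) F) : Matrix (I × J) (I × J) F) *ᵥ v - v =
          ((g : Matrix (I × J) (I × J) F) *ᵥ
            ((g' : Matrix (I × J) (I × J) F) *ᵥ v - v) -
            ((g' : Matrix (I × J) (I × J) F) *ᵥ v - v)) +
          ((g' : Matrix (I × J) (I × J) F) *ᵥ v - v) +
          ((g : Matrix (I × J) (I × J) F) *ᵥ v - v) := by
        rw [Units.val_mul, ← Matrix.mulVec_mulVec, Matrix.mulVec_sub]
        abel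
      rw [e]
      exact Submodule.add_mem _ (Submodule.add_mem _ (hg.1 _) (hg'.1 v)) (hg.1 v)
    · intro v hv
      rw [Units.val_mul, ← Matrix.mulVec_mulVec, hg'.2 v hv, hg.2 v hv]
  have hmain : Q k ∧ Q k⁻¹ := by
    unfold KP at hk
    induction hk using Subgroup.closure_induction with
    | mem g hg =>
      rcases hg with ⟨c, rfl⟩ | ⟨c, rfl⟩
      · refine ⟨hgen1 c, ?_⟩
        rw [xP_inv]
        exact hgen1 (-c)
      · refine ⟨hgen2 c, ?_⟩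
        have : (h * xP hS₂ h2 I hP' c * h⁻¹)⁻¹ = h * xP hS₂ h2 I hP' (-c) * h⁻¹ := by
          rw [← xP_inv]
          group
        rw [this]
        exact hgen2 (-c)
    | one =>
      refine ⟨hQone, ?_⟩
      rw [inv_one]
      exact hQone
    | mul g g' _ _ hg hg' =>
      refine ⟨hQmul g g' hg.1 hg'.1, ?_⟩
      rw [_root_.mul_inv_rev]
      exact hQmul _ _ hg'.2 hg.2
    | inv g _ hg =>
      refine ⟨hg.2, ?_⟩
      rw [inv_inv]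
      exact hg.1
  exact (hQ k).mp hmain.1

/-- elements of `⟨X_P, h X_{P'} h⁻¹⟩` lie in the class `AA` -/
theorem KP_AA (h : GL (I × J) F) (hP : TSL B₂ p₁ p₂) (hP' : TSL B₂ p₁' p₂')
    (β₀ : (I × J → F) →ₗ[F] (I × J → F) →ₗ[F] F)
    (hT : ∀ a ∈ AP I p₁ p₂, ∀ a' ∈ AP I p₁ p₂,
      β₀ (NP B₂ p₁ p₂ (NPh B₂ h p₁' p₂' a')) a = β₀ a' (NP B₂ p₁ p₂ (NPh B₂ h p₁' p₂' a)))
    (k : GL (I × J) F) (hk : k ∈ KP hS₂ h2 h hP hP') :
    Matrix.mulVecLin (k : Matrix (I × J) (I × J) F) ∈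
      AA (NP B₂ p₁ p₂) (NPh B₂ h p₁' p₂') (AP I p₁ p₂) β₀ := by
  have hNA := NP_AP (I := I) hP hS₂
  have hNr : ∀ v, NP (I := I) B₂ p₁ p₂ v ∈ AP I p₁ p₂ := fun v => NP_mem B₂ p₁ p₂ v
  have hgen1 : ∀ c : F, Matrix.mulVecLin (xP hS₂ h2 I hP c : Matrix (I × J) (I × J) F) ∈
      AA (NP B₂ p₁ p₂) (NPh B₂ h p₁' p₂') (AP I p₁ p₂) β₀ := by
    intro c
    have e : Matrix.mulVecLin (xP hS₂ h2 I hP c : Matrix (I × J) (I × J) F) =
        1 + c • NP B₂ p₁ p₂ := by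
      apply LinearMap.ext
      intro v
      rw [Matrix.mulVecLin_apply, xP_mulVec]
      rfl
    rw [e]
    exact AA_N _ _ _ _ hNA hNr hT c
  have hgen2 : ∀ c : F, Matrix.mulVecLin
      ((h * xP hS₂ h2 I hP' c * h⁻¹ : GL (I × J) F) : Matrix (I × J) (I × J) F) ∈
      AA (NP B₂ p₁ p₂) (NPh B₂ h p₁' p₂') (AP I p₁ p₂) β₀ := by
    intro c
    have e : Matrix.mulVecLin
        ((h * xP hS₂ h2 I hP' c * h⁻¹ : GL (I × J) F) : Matrix (I × J) (I × J) F) =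
        1 + c • NPh B₂ h p₁' p₂' := by
      apply LinearMap.ext
      intro v
      rw [Matrix.mulVecLin_apply, conj_xP_mulVec]
      rfl
    rw [e]
    exact AA_N' _ _ _ _ (NPh_sq hS₂ h hP') c
  have hmain : Matrix.mulVecLin (k : Matrix (I × J) (I × J) F) ∈
        AA (NP B₂ p₁ p₂) (NPh B₂ h p₁' p₂') (AP I p₁ p₂) β₀ ∧
      Matrix.mulVecLin ((k⁻¹ : GL (I × J) F) : Matrix (I × J) (I × J) F) ∈
        AA (NP B₂ p₁ p₂) (NPh B₂ h p₁' p₂') (AP I p₁ p₂) β₀ := by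
    unfold KP at hk
    induction hk using Subgroup.closure_induction with
    | mem g hg =>
      rcases hg with ⟨c, rfl⟩ | ⟨c, rfl⟩
      · refine ⟨hgen1 c, ?_⟩
        rw [xP_inv]
        exact hgen1 (-c)
      · refine ⟨hgen2 c, ?_⟩
        have : (h * xP hS₂ h2 I hP' c * h⁻¹)⁻¹ = h * xP hS₂ h2 I hP' (-c) * h⁻¹ := by
          rw [← xP_inv]
          group
        rw [this]
        exact hgen2 (-c)
    | one =>
      have e : Matrix.mulVecLin ((1 : GL (I × J) F) : Matrix (I × J) (I × J) F) = 1 := by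
        rw [Units.val_one, Matrix.mulVecLin_one]
        rfl
      refine ⟨?_, ?_⟩
      · rw [e]
        exact AA_one _ _ _ _
      · rw [inv_one, e]
        exact AA_one _ _ _ _
    | mul g g' _ _ hg hg' =>
      refine ⟨?_, ?_⟩
      · rw [Units.val_mul, Matrix.mulVecLin_mul]
        exact AA_comp _ _ _ _ hg.1 hg'.1
      · rw [_root_.mul_inv_rev, Units.val_mul, Matrix.mulVecLin_mul]
        exact AA_comp _ _ _ _ hg'.2 hg.2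
    | inv g _ hg =>
      refine ⟨hg.2, ?_⟩
      rw [inv_inv]
      exact hg.1
  exact hmain.1

end kk

/-! ### an element stabilising `U ⊗ P` outside `X_P` -/

section nu

variable [Fintype F]
  {Q : QuadraticForm F (I × J → F)} {B₁ : LinearMap.BilinForm F (I → F)}
  {B₂ : LinearMap.BilinForm F (J → F)}
  {hT : OT Q B₁ B₂} {h2 : (2 : F) ≠ 0} {H : Subgroup (GL (I × J) F)}

theorem Ctx.xP_mem (C : Ctx hT h2 H) {p₁ p₂ : J → F} (hP : TSL B₂ p₁ p₂) (c : F) :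
    xP hT.sym₂ h2 I hP c ∈ H :=
  C.oh.memW _ _ _ _

theorem Ctx.KP_le (C : Ctx hT h2 H) {p₁ p₂ p₁' p₂' : J → F} (h : GL (I × J) F) (hh : h ∈ H)
    (hP : TSL B₂ p₁ p₂) (hP' : TSL B₂ p₁' p₂') : KP hT.sym₂ h2 h hP hP' ≤ H := by
  unfold KP
  rw [Subgroup.closure_le]
  rintro g (⟨c, rfl⟩ | ⟨c, rfl⟩)
  · exact C.xP_mem hP c
  · exact H.mul_mem (H.mul_mem hh (C.xP_mem hP' c)) (H.inv_mem hh)

/-- **(NU)** there is an element of `⟨X_P, h X_{P'} h⁻¹⟩` stabilising `U ⊗ P` outside `X_P` -/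
theorem Ctx.exists_stab_not_root (C : Ctx hT h2 H) (hIJ : Fintype.card I < Fintype.card J)
    (hL : ∀ S : Submodule F (J → F), (∀ x ∈ S, ∀ y ∈ S, B₂ x y = 0) →
      2 * finrank F S < finrank F (J → F))
    (h : GL (I × J) F) (hh : h ∈ H) (hnk : h ∉ krSub I J F) {p₁ p₂ p₁' p₂' : J → F}
    (hP : TSL B₂ p₁ p₂) (hP' : TSL B₂ p₁' p₂') :
    ∃ k ∈ KP hT.sym₂ h2 h hP hP',
      (∀ v ∈ AP I p₁ p₂, (k : Matrix (I × J) (I × J) F) *ᵥ v ∈ AP I p₁ p₂) ∧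
      (∀ v ∈ AP I p₁ p₂,
        ((k⁻¹ : GL (I × J) F) : Matrix (I × J) (I × J) F) *ᵥ v ∈ AP I p₁ p₂) ∧
      (∀ c : F, k ≠ xP hT.sym₂ h2 I hP c) := by
  classical
  by_contra hcon
  obtain ⟨i₀⟩ := C.neI
  obtain ⟨j₀⟩ : Nonempty J := by
    rw [← Fintype.card_pos_iff]
    have := C.hJ
    omega
  haveI : Nonempty (I × J) := ⟨(i₀, j₀)⟩
  have key : ∀ k ∈ KP hT.sym₂ h2 h hP hP',
      (∀ v ∈ AP I p₁ p₂, (k : Matrix (I × J) (I × J) F) *ᵥ v ∈ AP I p₁ p₂) →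
      (∀ v ∈ AP I p₁ p₂,
        ((k⁻¹ : GL (I × J) F) : Matrix (I × J) (I × J) F) *ᵥ v ∈ AP I p₁ p₂) →
      ∃ c : F, k = xP hT.sym₂ h2 I hP c := by
    intro k hk hst hst'
    by_contra hc
    push Not at hc
    exact hcon ⟨k, hk, hst, hst', hc⟩
  obtain ⟨p, hchar⟩ := CharP.exists F
  haveI := hchar
  haveI : Fact p.Prime := ⟨CharP.char_is_prime F p⟩
  have hp2 : p ≠ 2 := by
    intro h0
    apply h2
    have := CharP.cast_eq_zero F p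
    rw [h0] at this
    exact_mod_cast this
  haveI : CharP (Matrix (I × J) (I × J) F) p := inferInstance
  obtain ⟨K, hKdef⟩ : ∃ K : Subgroup (GL (I × J) F), K = KP hT.sym₂ h2 h hP hP' := ⟨_, rfl⟩
  obtain ⟨ρ, hρdef⟩ : ∃ ρ : K →* Matrix (I × J) (I × J) F,
      ρ = (Units.coeHom (Matrix (I × J) (I × J) F)).comp K.subtype := ⟨_, rfl⟩
  have hρa : ∀ k : K, ρ k = ((k : GL (I × J) F) : Matrix (I × J) (I × J) F) := by
    intro k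
    rw [hρdef]
    rfl
  have hρ : Function.Injective ρ := by
    intro k k' hkk
    rw [hρa, hρa] at hkk
    exact Subtype.ext (Units.ext hkk)
  obtain ⟨P, hPdef⟩ : ∃ P : Subgroup K, P = (XsubP hT.sym₂ h2 I hP).subgroupOf K := ⟨_, rfl⟩
  have hPmem : ∀ k : K, k ∈ P ↔ ∃ c : F, (k : GL (I × J) F) = xP hT.sym₂ h2 I hP c := by
    intro k
    rw [hPdef, Subgroup.mem_subgroupOf]
    exact Iff.rfl
  have hx1K : xP hT.sym₂ h2 I hP 1 ∈ K := by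
    rw [hKdef]
    exact Subgroup.subset_closure (Or.inl ⟨1, rfl⟩)
  have hPne : P ≠ ⊥ := by
    intro hbot
    have h1 : (⟨xP hT.sym₂ h2 I hP 1, hx1K⟩ : K) ∈ P := (hPmem _).mpr ⟨1, rfl⟩
    rw [hbot, Subgroup.mem_bot] at h1
    have h3 := congrArg Subtype.val h1
    exact xP_ne_one hT.sym₂ h2 hP hT.nd₂ ⟨i₀⟩ one_ne_zero h3
  have hPab : ∀ x ∈ P, ∀ y ∈ P, x * y = y * x := by
    intro x hx y hy
    obtain ⟨c, hc⟩ := (hPmem x).mp hx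
    obtain ⟨c', hc'⟩ := (hPmem y).mp hy
    apply Subtype.ext
    rw [Subgroup.coe_mul, Subgroup.coe_mul, hc, hc', xP_comm]
  have hquad : ∀ x ∈ P, (ρ x - 1) * (ρ x - 1) = 0 := by
    intro x hx
    obtain ⟨c, hc⟩ := (hPmem x).mp hx
    rw [hρa, hc]
    exact xP_sq hT.sym₂ h2 hP c
  have hb : ∀ g : K, ∀ x ∈ P, x ≠ 1 → g * x * g⁻¹ ∈ P → g ∈ P := by
    intro g x hx hx1 hgx
    obtain ⟨c, hc⟩ := (hPmem x).mp hx
    obtain ⟨c', hc'⟩ := (hPmem _).mp hgx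
    have hc0 : c ≠ 0 := by
      intro h0
      apply hx1
      apply Subtype.ext
      rw [hc, h0, xP_zero]
      rfl
    rw [Subgroup.coe_mul, Subgroup.coe_mul, Subgroup.coe_inv, hc] at hc'
    have hc'0 : c' ≠ 0 := by
      intro h0
      rw [h0, xP_zero] at hc'
      have : xP hT.sym₂ h2 I hP c = 1 := by
        have := congrArg (fun t => (g : GL (I × J) F)⁻¹ * t * (g : GL (I × J) F)) hc'
        simp only [mul_one, inv_mul_cancel] at this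
        rw [← this]
        group
      exact xP_ne_one hT.sym₂ h2 hP hT.nd₂ ⟨i₀⟩ hc0 this
    have hc'' : (g : GL (I × J) F)⁻¹ * xP hT.sym₂ h2 I hP c' * ((g : GL (I × J) F)⁻¹)⁻¹ =
        xP hT.sym₂ h2 I hP c := by
      rw [← hc']
      group
    rw [hPmem]
    apply key g.1 (by rw [← hKdef]; exact g.2)
    · exact conj_xP_maps hT.sym₂ h2 hP hT.nd₂ g.1 c c' hc0 hc'
    · exact conj_xP_maps hT.sym₂ h2 hP hT.nd₂ (g.1)⁻¹ c' c hc'0 hc''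
  have hPtop := NU_abs p hp2 ρ hρ P hPne hPab hquad hb
  have hcK : h * xP hT.sym₂ h2 I hP' 1 * h⁻¹ ∈ K := by
    rw [hKdef]
    exact Subgroup.subset_closure (Or.inr ⟨1, rfl⟩)
  have h5 : (⟨h * xP hT.sym₂ h2 I hP' 1 * h⁻¹, hcK⟩ : K) ∈ P := by
    rw [hPtop]
    exact Subgroup.mem_top _
  obtain ⟨c, hc⟩ := (hPmem _).mp h5
  have hnk' : h⁻¹ ∉ krSub I J F := by
    intro hmem
    apply hnk
    have := (krSub I J F).inv_mem hmem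
    rwa [inv_inv] at this
  have hP'1 := hP'.smul (one_ne_zero : (1 : F) ≠ 0)
  have := C.conj_root_not_mem hIJ hL h⁻¹ (H.inv_mem hh) hnk' p₁' ((1 : F) • p₂') hP'1.h11
    hP'1.h22 hP'1.h12 hP'1.li
  apply this
  rw [inv_inv]
  have e : h * krL (1 : (I → F) ≃ₗ[F] (I → F))
      (sieg B₂ hT.sym₂ h2 p₁' ((1 : F) • p₂') hP'1.h11 hP'1.h12) * h⁻¹ =
      xP hT.sym₂ h2 I hP c := hc
  rw [e]
  exact xP_mem_krSub hT.sym₂ h2 hP c

end nu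

end Cfsg.Agent.Lib.Helper1.TsC
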