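import Mathlib
import Cfsg.Agent.Lib.Helper1.TsC10

/-!
# `O(U) ⊗ O(W)`: analysis of a maximal triple `(h, P, P')`
-/

set_option autoImplicit false
set_option maxHeartbeats 4000000
set_option maxRecDepth 100000
set_option linter.unusedSimpArgs false
set_option linter.unusedVariables false
set_option linter.unusedSectionVars false
set_option linter.style.longLine false
set_option linter.deprecated false

namespace Cfsg.Agent.Lib.Helper1.TsC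

open Module QuadraticMap Matrix
open Cfsg
open Cfsg.Agent.Lib.Helper5.CartanDieudonne Cfsg.Agent.Lib.Helper5.Siegel
  Cfsg.Agent.Lib.Helper5.QuadIsom Cfsg.Agent.Lib.Helper5.Eichler
  Cfsg.Agent.Lib.Helper5.OmegaSimple Cfsg.Agent.Lib.Helper5.OrthSingularMax
open Cfsg.Agent.Lib.Helper1.UoA
open Cfsg.Agent.Lib.Helper1.TsA
open Cfsg.Agent.Lib.Helper1.TsB
open Cfsg.Agent.Lib.Helper8.Tns

local notation "Ξ" => Cfsg.Agent.Lib.Helper1.TsA.Xi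

variable {I J : Type} [Fintype I] [DecidableEq I] [Fintype J] [DecidableEq J]
  {F : Type*} [Field F]

section gen

variable {Q : QuadraticForm F (I × J → F)} {B₁ : LinearMap.BilinForm F (I → F)}
  {B₂ : LinearMap.BilinForm F (J → F)} {p₁ p₂ : J → F}

theorem C₂_AP (hP : TSL B₂ p₁ p₂) (hS₂ : ∀ x y, B₂ x y = B₂ y x) :
    ∀ a ∈ AP I p₁ p₂, C₂ B₂ p₁ a = 0 ∧ C₂ B₂ p₂ a = 0 := by
  intro a ha
  obtain ⟨u₁, u₂, rfl⟩ := mem_AP.mp ha
  constructor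
  · rw [map_add, C₂_pt, C₂_pt, hP.h11, hP.h21 hS₂, zero_smul, zero_smul, add_zero]
  · rw [map_add, C₂_pt, C₂_pt, hP.h12, hP.h22, zero_smul, zero_smul, add_zero]

theorem NP_zero_of_C₂ (v : I × J → F) (h1 : C₂ B₂ p₁ v = 0) (h2' : C₂ B₂ p₂ v = 0) :
    NP B₂ p₁ p₂ v = 0 := by
  rw [NP_apply, h1, h2', pt_zero_left, pt_zero_left, sub_zero]

theorem row_of_mem_AP {x : I → F} {w : J → F} (hx : x ≠ 0) (h : pt x w ∈ AP I p₁ p₂) :
    ∃ a b : F, w = a • p₁ + b • p₂ := by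
  obtain ⟨u₁, u₂, he⟩ := mem_AP.mp h
  obtain ⟨i, hi⟩ := Function.ne_iff.mp hx
  rw [Pi.zero_apply] at hi
  refine ⟨u₁ i / x i, u₂ i / x i, ?_⟩
  ext j
  have := congrFun he (i, j)
  rw [Pi.add_apply, pt_apply, pt_apply, pt_apply] at this
  rw [Pi.add_apply, Pi.smul_apply, Pi.smul_apply, smul_eq_mul, smul_eq_mul]
  field_simp
  linear_combination this

variable (hT : OT Q B₁ B₂)

include hT in
theorem polar_NP (v v' : I × J → F) :
    polar ⇑Q v (NP B₂ p₁ p₂ v') =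
      B₁ (C₂ B₂ p₁ v) (C₂ B₂ p₂ v') - B₁ (C₂ B₂ p₂ v) (C₂ B₂ p₁ v') := by
  rw [NP_apply, polar_sub_right, hT.polar_pt_right, hT.polar_pt_right]

include hT in
theorem NP_skew (v v' : I × J → F) :
    polar ⇑Q (NP B₂ p₁ p₂ v) v' + polar ⇑Q v (NP B₂ p₁ p₂ v') = 0 := by
  rw [polar_comm ⇑Q (NP B₂ p₁ p₂ v) v', polar_NP hT, polar_NP hT,
    hT.sym₁ (C₂ B₂ p₁ v') (C₂ B₂ p₂ v), hT.sym₁ (C₂ B₂ p₂ v') (C₂ B₂ p₁ v)]
  ring

include hT in
theorem NPh_skew (h : GL (I × J) F) (hh : IsoQ Q h) (p₁' p₂' : J → F) (v v' : I × J → F) :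
    polar ⇑Q (NPh B₂ h p₁' p₂' v) v' + polar ⇑Q v (NPh B₂ h p₁' p₂' v') = 0 := by
  rw [NPh_apply, NPh_apply]
  have e1 : polar ⇑Q ((h : Matrix (I × J) (I × J) F) *ᵥ NP B₂ p₁' p₂'
      (((h⁻¹ : GL (I × J) F) : Matrix (I × J) (I × J) F) *ᵥ v)) v' =
      polar ⇑Q (NP B₂ p₁' p₂' (((h⁻¹ : GL (I × J) F) : Matrix (I × J) (I × J) F) *ᵥ v))
        (((h⁻¹ : GL (I × J) F) : Matrix (I × J) (I × J) F) *ᵥ v') := by
    rw [← hh.polar_eq _ (((h⁻¹ : GL (I × J) F) : Matrix (I × J) (I × J) F) *ᵥ v'),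
      mulVec_inv_mulVec]
  have e2 : polar ⇑Q v ((h : Matrix (I × J) (I × J) F) *ᵥ NP B₂ p₁' p₂'
      (((h⁻¹ : GL (I × J) F) : Matrix (I × J) (I × J) F) *ᵥ v')) =
      polar ⇑Q (((h⁻¹ : GL (I × J) F) : Matrix (I × J) (I × J) F) *ᵥ v)
        (NP B₂ p₁' p₂' (((h⁻¹ : GL (I × J) F) : Matrix (I × J) (I × J) F) *ᵥ v')) := by
    rw [← hh.polar_eq (((h⁻¹ : GL (I × J) F) : Matrix (I × J) (I × J) F) *ᵥ v) _,
      mulVec_inv_mulVec]
  rw [e1, e2]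
  exact NP_skew hT _ _

include hT in
/-- `A^⊥` in terms of contractions -/
theorem perp_AP_iff (v : I × J → F) :
    (C₂ B₂ p₁ v = 0 ∧ C₂ B₂ p₂ v = 0) ↔ ∀ a ∈ AP I p₁ p₂, polar ⇑Q v a = 0 := by
  constructor
  · rintro ⟨h1, h2'⟩ a ha
    obtain ⟨u₁, u₂, rfl⟩ := mem_AP.mp ha
    rw [polar_add_right, hT.polar_pt_right, hT.polar_pt_right, h1, h2', map_zero,
      LinearMap.zero_apply, LinearMap.zero_apply, add_zero]
  · intro h
    constructor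
    · apply hT.eq_of_B₁
      intro u
      rw [← hT.polar_pt_right, h _ (pt_mem_AP₁ u), map_zero, LinearMap.zero_apply]
    · apply hT.eq_of_B₁
      intro u
      rw [← hT.polar_pt_right, h _ (pt_mem_AP₂ u), map_zero, LinearMap.zero_apply]

/-- the alternating form on `U ⊗ P` -/
def beta0 (B₁ : LinearMap.BilinForm F (I → F)) (B₂ : LinearMap.BilinForm F (J → F))
    (q₁ q₂ : J → F) : (I × J → F) →ₗ[F] (I × J → F) →ₗ[F] F :=
  B₁.compl₁₂ (C₂ B₂ q₁) (C₂ B₂ q₂) - B₁.compl₁₂ (C₂ B₂ q₂) (C₂ B₂ q₁)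

theorem beta0_apply (q₁ q₂ : J → F) (v v' : I × J → F) :
    beta0 B₁ B₂ q₁ q₂ v v' =
      B₁ (C₂ B₂ q₁ v) (C₂ B₂ q₂ v') - B₁ (C₂ B₂ q₂ v) (C₂ B₂ q₁ v') := by
  unfold beta0
  rw [LinearMap.sub_apply, LinearMap.sub_apply, LinearMap.compl₁₂_apply,
    LinearMap.compl₁₂_apply]

variable {q₁ q₂ : J → F} (h1 : B₂ p₁ q₁ = 1) (h2' : B₂ p₂ q₁ = 0) (h3 : B₂ p₁ q₂ = 0)
  (h4 : B₂ p₂ q₂ = 1)

include h1 h2' h3 h4 in
theorem C₂_dual_AP (u₁ u₂ : I → F) :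
    C₂ B₂ q₁ (pt u₁ p₁ + pt u₂ p₂) = u₁ ∧ C₂ B₂ q₂ (pt u₁ p₁ + pt u₂ p₂) = u₂ := by
  constructor
  · rw [map_add, C₂_pt, C₂_pt, h1, h2', one_smul, zero_smul, add_zero]
  · rw [map_add, C₂_pt, C₂_pt, h3, h4, one_smul, zero_smul, zero_add]

include h1 h2' h3 h4 in
theorem beta0_AP (u₁ u₂ u₁' u₂' : I → F) :
    beta0 B₁ B₂ q₁ q₂ (pt u₁ p₁ + pt u₂ p₂) (pt u₁' p₁ + pt u₂' p₂) =
      B₁ u₁ u₂' - B₁ u₂ u₁' := by
  rw [beta0_apply, (C₂_dual_AP h1 h2' h3 h4 u₁ u₂).1, (C₂_dual_AP h1 h2' h3 h4 u₁ u₂).2,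
    (C₂_dual_AP h1 h2' h3 h4 u₁' u₂').1, (C₂_dual_AP h1 h2' h3 h4 u₁' u₂').2]

include h1 h2' h3 h4 in
theorem C₂_dual_NP (w : I × J → F) :
    C₂ B₂ q₁ (NP B₂ p₁ p₂ w) = C₂ B₂ p₂ w ∧ C₂ B₂ q₂ (NP B₂ p₁ p₂ w) = - C₂ B₂ p₁ w := by
  constructor
  · rw [NP_apply, map_sub, C₂_pt, C₂_pt, h1, h2', one_smul, zero_smul, sub_zero]
  · rw [NP_apply, map_sub, C₂_pt, C₂_pt, h3, h4, one_smul, zero_smul, zero_sub]

include hT h1 h2' h3 h4 in
theorem beta0_NP_right (w : I × J → F) (a' : I × J → F) (ha' : a' ∈ AP I p₁ p₂) :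
    beta0 B₁ B₂ q₁ q₂ a' (NP B₂ p₁ p₂ w) = - polar ⇑Q w a' := by
  obtain ⟨u₁, u₂, rfl⟩ := mem_AP.mp ha'
  rw [beta0_apply, (C₂_dual_AP h1 h2' h3 h4 u₁ u₂).1, (C₂_dual_AP h1 h2' h3 h4 u₁ u₂).2,
    (C₂_dual_NP h1 h2' h3 h4 w).1, (C₂_dual_NP h1 h2' h3 h4 w).2, polar_add_right,
    hT.polar_pt_right, hT.polar_pt_right, map_neg, hT.sym₁ u₁, hT.sym₁ u₂]
  ring

include hT h1 h2' h3 h4 in
theorem beta0_NP_left (w : I × J → F) (a : I × J → F) (ha : a ∈ AP I p₁ p₂) :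
    beta0 B₁ B₂ q₁ q₂ (NP B₂ p₁ p₂ w) a = polar ⇑Q w a := by
  obtain ⟨u₁, u₂, rfl⟩ := mem_AP.mp ha
  rw [beta0_apply, (C₂_dual_AP h1 h2' h3 h4 u₁ u₂).1, (C₂_dual_AP h1 h2' h3 h4 u₁ u₂).2,
    (C₂_dual_NP h1 h2' h3 h4 w).1, (C₂_dual_NP h1 h2' h3 h4 w).2, polar_add_right,
    hT.polar_pt_right, hT.polar_pt_right, map_neg, LinearMap.neg_apply]
  ring

include hT h1 h2' h3 h4 in
/-- the hypothesis of `KP_AA` -/
theorem beta0_T (h : GL (I × J) F) (hh : IsoQ Q h) (p₁' p₂' : J → F) :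
    ∀ a ∈ AP I p₁ p₂, ∀ a' ∈ AP I p₁ p₂,
      beta0 B₁ B₂ q₁ q₂ (NP B₂ p₁ p₂ (NPh B₂ h p₁' p₂' a')) a =
        beta0 B₁ B₂ q₁ q₂ a' (NP B₂ p₁ p₂ (NPh B₂ h p₁' p₂' a)) := by
  intro a ha a' ha'
  rw [beta0_NP_left hT h1 h2' h3 h4 _ a ha, beta0_NP_right hT h1 h2' h3 h4 _ a' ha']
  have := NPh_skew hT h hh p₁' p₂' a' a
  rw [polar_comm ⇑Q a' _] at this
  linear_combination this

end gen

section trip

variable [Fintype F]
  {Q : QuadraticForm F (I × J → F)} {B₁ : LinearMap.BilinForm F (I → F)}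
  {B₂ : LinearMap.BilinForm F (J → F)}
  {hT : OT Q B₁ B₂} {h2 : (2 : F) ≠ 0} {H : Subgroup (GL (I × J) F)}

/-- maximality of the triple `(h, P, P')` -/
def TripleMax (H : Subgroup (GL (I × J) F)) (B₂ : LinearMap.BilinForm F (J → F))
    (h : GL (I × J) F) (p₁ p₂ p₁' p₂' : J → F) : Prop :=
  ∀ h₁ ∈ H, h₁ ∉ krSub I J F → ∀ r₁ r₂ r₁' r₂' : J → F, TSL B₂ r₁ r₂ → TSL B₂ r₁' r₂' →
    finrank F ↥(AP I r₁ r₂ ⊓ (AP I r₁' r₂').map (gL h₁ : (I × J → F) →ₗ[F] (I × J → F))) ≤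
    finrank F ↥(AP I p₁ p₂ ⊓ (AP I p₁' p₂').map (gL h : (I × J → F) →ₗ[F] (I × J → F)))

theorem Ctx.conj_xP_not_mem (C : Ctx hT h2 H) (hIJ : Fintype.card I < Fintype.card J)
    (hL : ∀ S : Submodule F (J → F), (∀ x ∈ S, ∀ y ∈ S, B₂ x y = 0) →
      2 * finrank F S < finrank F (J → F))
    (h : GL (I × J) F) (hh : h ∈ H) (hnk : h ∉ krSub I J F) {p₁ p₂ : J → F}
    (hP : TSL B₂ p₁ p₂) : h⁻¹ * xP hT.sym₂ h2 I hP 1 * h ∉ krSub I J F := by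
  have hP1 := hP.smul (one_ne_zero : (1 : F) ≠ 0)
  exact C.conj_root_not_mem hIJ hL h hh hnk p₁ ((1 : F) • p₂) hP1.h11 hP1.h22 hP1.h12 hP1.li

theorem Ctx.M1 (C : Ctx hT h2 H) (hIJ : Fintype.card I < Fintype.card J)
    (hL : ∀ S : Submodule F (J → F), (∀ x ∈ S, ∀ y ∈ S, B₂ x y = 0) →
      2 * finrank F S < finrank F (J → F))
    (h : GL (I × J) F) (hh : h ∈ H) (hnk : h ∉ krSub I J F) {p₁ p₂ p₁' p₂' : J → F}
    (hP : TSL B₂ p₁ p₂) (hP' : TSL B₂ p₁' p₂') (hmax : TripleMax H B₂ h p₁ p₂ p₁' p₂') :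
    ∀ v ∈ (AP I p₁' p₂').map (gL h : (I × J → F) →ₗ[F] (I × J → F)),
      C₂ B₂ p₁ v = 0 → C₂ B₂ p₂ v = 0 → v ∈ AP I p₁ p₂ := by
  obtain ⟨x, hxdef⟩ : ∃ x : GL (I × J) F, x = xP hT.sym₂ h2 I hP 1 := ⟨_, rfl⟩
  obtain ⟨y, hydef⟩ : ∃ y : GL (I × J) F, y = h⁻¹ * x * h := ⟨_, rfl⟩
  have hxH : x ∈ H := by
    rw [hxdef]
    exact C.xP_mem hP 1
  have hyH : y ∈ H := by
    rw [hydef]
    exact H.mul_mem (H.mul_mem (H.inv_mem hh) hxH) hh
  have hynk : y ∉ krSub I J F := by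
    rw [hydef, hxdef]
    exact C.conj_xP_not_mem hIJ hL h hh hnk hP
  obtain ⟨E, hEdef⟩ : ∃ E : Submodule F (I × J → F),
      E = (AP I p₁' p₂').map (gL h : (I × J → F) →ₗ[F] (I × J → F)) ⊓
        (LinearMap.ker (C₂ B₂ p₁) ⊓ LinearMap.ker (C₂ B₂ p₂)) := ⟨_, rfl⟩
  have hDE : AP I p₁ p₂ ⊓ (AP I p₁' p₂').map (gL h : (I × J → F) →ₗ[F] (I × J → F)) ≤ E := by
    intro v hv
    rw [hEdef]
    obtain ⟨hv1, hv2⟩ := Submodule.mem_inf.mp hv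
    have := C₂_AP hP hT.sym₂ v hv1
    exact Submodule.mem_inf.mpr ⟨hv2, Submodule.mem_inf.mpr
      ⟨LinearMap.mem_ker.mpr this.1, LinearMap.mem_ker.mpr this.2⟩⟩
  have hE2 : E ≤ (AP I p₁' p₂' ⊓ (AP I p₁' p₂').map
      (gL y : (I × J → F) →ₗ[F] (I × J → F))).map
      (gL h : (I × J → F) →ₗ[F] (I × J → F)) := by
    intro v hv
    rw [hEdef] at hv
    obtain ⟨hv1, hv2⟩ := Submodule.mem_inf.mp hv
    obtain ⟨hv3, hv4⟩ := Submodule.mem_inf.mp hv2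
    obtain ⟨a', ha', rfl⟩ := Submodule.mem_map.mp hv1
    refine Submodule.mem_map.mpr ⟨a', Submodule.mem_inf.mpr ⟨ha', ?_⟩, rfl⟩
    refine Submodule.mem_map.mpr ⟨a', ha', ?_⟩
    rw [LinearEquiv.coe_coe, gL_apply] at hv3 hv4 ⊢
    have hx : (x : Matrix (I × J) (I × J) F) *ᵥ ((h : Matrix (I × J) (I × J) F) *ᵥ a') =
        (h : Matrix (I × J) (I × J) F) *ᵥ a' := by
      rw [hxdef, xP_mulVec, NP_zero_of_C₂ _ (LinearMap.mem_ker.mp hv3) (LinearMap.mem_ker.mp hv4),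
        smul_zero, add_zero]
    rw [hydef, Units.val_mul, Units.val_mul, ← Matrix.mulVec_mulVec, ← Matrix.mulVec_mulVec, hx,
      inv_mulVec_mulVec]
  have hfin : finrank F ↥E ≤ finrank F ↥(AP I p₁ p₂ ⊓ (AP I p₁' p₂').map
      (gL h : (I × J → F) →ₗ[F] (I × J → F))) := by
    calc finrank F ↥E ≤ finrank F ↥((AP I p₁' p₂' ⊓ (AP I p₁' p₂').map
          (gL y : (I × J → F) →ₗ[F] (I × J → F))).map
          (gL h : (I × J → F) →ₗ[F] (I × J → F))) := Submodule.finrank_mono hE2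
      _ ≤ finrank F ↥(AP I p₁' p₂' ⊓ (AP I p₁' p₂').map
          (gL y : (I × J → F) →ₗ[F] (I × J → F))) := Submodule.finrank_map_le _ _
      _ ≤ _ := hmax y hyH hynk p₁' p₂' p₁' p₂' hP' hP'
  have hEq := Submodule.eq_of_le_of_finrank_le hDE hfin
  intro v hv h1 h2'
  have hvE : v ∈ E := by
    rw [hEdef]
    exact Submodule.mem_inf.mpr ⟨hv, Submodule.mem_inf.mpr
      ⟨LinearMap.mem_ker.mpr h1, LinearMap.mem_ker.mpr h2'⟩⟩
  rw [← hEq] at hvE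
  exact (Submodule.mem_inf.mp hvE).1

theorem Ctx.M3 (C : Ctx hT h2 H) (hIJ : Fintype.card I < Fintype.card J)
    (hL : ∀ S : Submodule F (J → F), (∀ x ∈ S, ∀ y ∈ S, B₂ x y = 0) →
      2 * finrank F S < finrank F (J → F))
    (h : GL (I × J) F) (hh : h ∈ H) (hnk : h ∉ krSub I J F) {p₁ p₂ p₁' p₂' : J → F}
    (hP : TSL B₂ p₁ p₂) (hP' : TSL B₂ p₁' p₂') (hmax : TripleMax H B₂ h p₁ p₂ p₁' p₂') :
    ∀ v ∈ AP I p₁ p₂, NPh B₂ h p₁' p₂' v ∈ AP I p₁ p₂ → NPh B₂ h p₁' p₂' v = 0 := by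
  obtain ⟨x', hx'def⟩ : ∃ x' : GL (I × J) F, x' = h * xP hT.sym₂ h2 I hP' 1 * h⁻¹ := ⟨_, rfl⟩
  have hx'H : x' ∈ H := by
    rw [hx'def]
    exact H.mul_mem (H.mul_mem hh (C.xP_mem hP' 1)) (H.inv_mem hh)
  have hnk' : h⁻¹ ∉ krSub I J F := by
    intro hmem
    apply hnk
    have := (krSub I J F).inv_mem hmem
    rwa [inv_inv] at this
  have hx'nk : x' ∉ krSub I J F := by
    have := C.conj_xP_not_mem hIJ hL h⁻¹ (H.inv_mem hh) hnk' hP'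
    rw [inv_inv] at this
    rw [hx'def]
    exact this
  have hx'v : ∀ v, (x' : Matrix (I × J) (I × J) F) *ᵥ v = v + NPh B₂ h p₁' p₂' v := by
    intro v
    rw [hx'def, conj_xP_mulVec, one_smul]
  have hDE : AP I p₁ p₂ ⊓ (AP I p₁' p₂').map (gL h : (I × J → F) →ₗ[F] (I × J → F)) ≤
      AP I p₁ p₂ ⊓ (AP I p₁ p₂).map (gL x' : (I × J → F) →ₗ[F] (I × J → F)) := by
    intro v hv
    obtain ⟨hv1, hv2⟩ := Submodule.mem_inf.mp hv
    refine Submodule.mem_inf.mpr ⟨hv1, Submodule.mem_map.mpr ⟨v, hv1, ?_⟩⟩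
    rw [LinearEquiv.coe_coe, gL_apply, hx'v, NPh_AP hT.sym₂ h hP' v hv2, add_zero]
  have hfin := hmax x' hx'H hx'nk p₁ p₂ p₁ p₂ hP hP
  have hEq := Submodule.eq_of_le_of_finrank_le hDE hfin
  intro v hv hNv
  have h1 : v + NPh B₂ h p₁' p₂' v ∈
      AP I p₁ p₂ ⊓ (AP I p₁ p₂).map (gL x' : (I × J → F) →ₗ[F] (I × J → F)) := by
    refine Submodule.mem_inf.mpr ⟨(AP I p₁ p₂).add_mem hv hNv, Submodule.mem_map.mpr ⟨v, hv, ?_⟩⟩
    rw [LinearEquiv.coe_coe, gL_apply, hx'v]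
  rw [← hEq] at h1
  have h3 := NPh_AP hT.sym₂ h hP' _ (Submodule.mem_inf.mp h1).2
  rw [map_add, NPh_sq hT.sym₂ h hP', add_zero] at h3
  exact h3

/-- **analysis of a maximal triple**: the intersection is trivial and `h (U ⊗ P')` lies in
`U ⊗ ⟨p₁, p₂, y₁, y₂⟩` -/
theorem Ctx.triple (C : Ctx hT h2 H) (hIJ : Fintype.card I < Fintype.card J)
    (hL : ∀ S : Submodule F (J → F), (∀ x ∈ S, ∀ y ∈ S, B₂ x y = 0) →
      2 * finrank F S < finrank F (J → F))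
    (h : GL (I × J) F) (hh : h ∈ H) (hnk : h ∉ krSub I J F) {p₁ p₂ p₁' p₂' : J → F}
    (hP : TSL B₂ p₁ p₂) (hP' : TSL B₂ p₁' p₂') (hmax : TripleMax H B₂ h p₁ p₂ p₁' p₂') :
    AP I p₁ p₂ ⊓ (AP I p₁' p₂').map (gL h : (I × J → F) →ₗ[F] (I × J → F)) = ⊥ ∧
    ∃ y₁ y₂ : J → F, (AP I p₁' p₂').map (gL h : (I × J → F) →ₗ[F] (I × J → F)) ≤
      AP I p₁ p₂ ⊔ (Aw (I := I) y₁ ⊔ Aw (I := I) y₂) := by
  classical
  obtain ⟨i₀⟩ := C.neI
  have M1 := C.M1 hIJ hL h hh hnk hP hP' hmax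
  have M3 := C.M3 hIJ hL h hh hnk hP hP' hmax
  obtain ⟨k, hkK, hkA, hkA', hknot⟩ := C.exists_stab_not_root hIJ hL h hh hnk hP hP'
  have hkH : k ∈ H := C.KP_le h hh hP hP' hkK
  obtain ⟨hk1, hk2⟩ := KP_prop hT.sym₂ h2 h hP hP' k hkK
  have hkiso : IsoQ Q k := C.oh.iso k hkH
  have hhiso : IsoQ Q h := C.oh.iso h hh
  have e1 : ∀ x : I → F, (1 : (I → F) ≃ₗ[F] (I → F)) x = x := fun _ => rfl
  -- a nonsingular vector perpendicular to `P`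
  obtain ⟨z, hzp, hzz⟩ := exists_nonsing_perpF B₂ hT.sym₂ hT.nd₂ h2 ![p₁, p₂] (by
    rw [finrank_fintype_fun_eq_card]
    have := C.hJ
    omega)
  have hz1 : B₂ p₁ z = 0 := hzp 0
  have hz2 : B₂ p₂ z = 0 := hzp 1
  -- (a) `k` is a Kronecker product
  have hkk : k ∈ krSub I J F := by
    apply C.fix_sub_mem k hkH p₁ z hP.ne₁ hP.h11 hz1 hzz (AP I p₁ p₂) ?_ p₁ hP.ne₁ hP.h11 ?_
    · intro v hv
      obtain ⟨u₁, u₂, rfl⟩ := mem_AP.mp hv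
      rw [Matrix.mulVec_add, krL_pt, krL_pt, sieg_apply, sieg_apply, hz1, hP.h11, hz2,
        hP.h21 hT.sym₂, e1, e1]
      simp
    · intro u
      exact ⟨_, hkA' _ (pt_mem_AP₁ u), mulVec_inv_mulVec k _⟩
  obtain ⟨α, β, hkab⟩ := mem_krSub.mp hkk
  -- (b) `k` preserves `A^⊥`
  have hkperp : ∀ v, C₂ B₂ p₁ v = 0 → C₂ B₂ p₂ v = 0 →
      C₂ B₂ p₁ ((k : Matrix (I × J) (I × J) F) *ᵥ v) = 0 ∧
      C₂ B₂ p₂ ((k : Matrix (I × J) (I × J) F) *ᵥ v) = 0 := by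
    intro v h1 h2'
    rw [perp_AP_iff hT]
    intro a ha
    have := hkiso.polar_eq v (((k⁻¹ : GL (I × J) F) : Matrix (I × J) (I × J) F) *ᵥ a)
    rw [mulVec_inv_mulVec] at this
    rw [this]
    exact (perp_AP_iff hT v).mp ⟨h1, h2'⟩ _ (hkA' a ha)
  have hstar : ∀ v, C₂ B₂ p₁ ((k : Matrix (I × J) (I × J) F) *ᵥ v - v) = 0 →
      C₂ B₂ p₂ ((k : Matrix (I × J) (I × J) F) *ᵥ v - v) = 0 →
      (k : Matrix (I × J) (I × J) F) *ᵥ v - v ∈ AP I p₁ p₂ := by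
    intro v h1 h2'
    obtain ⟨a, ha, a', ha', hsum⟩ := Submodule.mem_sup.mp (hk1 v)
    have hca := C₂_AP hP hT.sym₂ a ha
    have ha'e : a' = ((k : Matrix (I × J) (I × J) F) *ᵥ v - v) - a := by
      rw [← hsum]
      abel
    have ha'A : a' ∈ AP I p₁ p₂ := by
      apply M1 a' ha'
      · rw [ha'e, map_sub, h1, hca.1, sub_zero]
      · rw [ha'e, map_sub, h2', hca.2, sub_zero]
    rw [← hsum]
    exact (AP I p₁ p₂).add_mem ha ha'A
  -- (c) `α` is a scalar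
  have hkpt : ∀ (x : I → F) (b : J → F), (k : Matrix (I × J) (I × J) F) *ᵥ pt x b =
      pt ((α : Matrix I I F) *ᵥ x) ((β : Matrix J J F) *ᵥ b) := by
    intro x b
    rw [hkab, kr_mulVec_pt]
  have hCz : ∀ a ∈ AP I p₁ p₂, C₂ B₂ z a = 0 := by
    intro a ha
    obtain ⟨u₁, u₂, rfl⟩ := mem_AP.mp ha
    rw [map_add, C₂_pt, C₂_pt, hz1, hz2, zero_smul, zero_smul, add_zero]
  have hα : ∀ x : I → F, B₂ ((β : Matrix J J F) *ᵥ z) z • ((α : Matrix I I F) *ᵥ x) =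
      B₂ z z • x := by
    intro x
    have hc1 : C₂ B₂ p₁ (pt x z) = 0 := by rw [C₂_pt, hT.sym₂ z p₁, hz1, zero_smul]
    have hc2 : C₂ B₂ p₂ (pt x z) = 0 := by rw [C₂_pt, hT.sym₂ z p₂, hz2, zero_smul]
    have hk' := hkperp _ hc1 hc2
    have hmem := hstar (pt x z) (by rw [map_sub, hk'.1, hc1, sub_zero])
      (by rw [map_sub, hk'.2, hc2, sub_zero])
    have := hCz _ hmem
    rw [map_sub, hkpt, C₂_pt, C₂_pt, sub_eq_zero] at this
    exact this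
  obtain ⟨t, htdef⟩ : ∃ t : F, t = B₂ ((β : Matrix J J F) *ᵥ z) z := ⟨_, rfl⟩
  have hx₀ : (Pi.single i₀ (1 : F) : I → F) ≠ 0 := single_ne_zero' i₀
  have ht0 : t ≠ 0 := by
    intro h0
    have := hα (Pi.single i₀ 1)
    rw [← htdef, h0, zero_smul] at this
    have h5 := congrFun this i₀
    rw [Pi.zero_apply, Pi.smul_apply, Pi.single_eq_same, smul_eq_mul, mul_one] at h5
    exact hzz h5.symm
  obtain ⟨μ, hμdef⟩ : ∃ μ : F, μ = B₂ z z / t := ⟨_, rfl⟩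
  have hαx : ∀ x : I → F, (α : Matrix I I F) *ᵥ x = μ • x := by
    intro x
    have := hα x
    rw [← htdef] at this
    rw [hμdef, div_eq_inv_mul, mul_smul, ← this, smul_smul, inv_mul_cancel₀ ht0, one_smul]
  obtain ⟨g', hg'def⟩ : ∃ g' : (J → F) →ₗ[F] (J → F),
      g' = μ • Matrix.mulVecLin (β : Matrix J J F) := ⟨_, rfl⟩
  have hkg : ∀ (x : I → F) (b : J → F),
      (k : Matrix (I × J) (I × J) F) *ᵥ pt x b = pt x (g' b) := by
    intro x b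
    rw [hkpt, hαx, hg'def, LinearMap.smul_apply, Matrix.mulVecLin_apply, pt_smul_left,
      pt_smul_right]
  obtain ⟨x₁, hx₁⟩ : ∃ x₁ : I → F, B₁ (Pi.single i₀ 1) x₁ ≠ 0 := by
    by_contra hcon
    push Not at hcon
    exact hx₀ (hT.nd₁.1 (Pi.single i₀ 1) hcon)
  obtain ⟨x₀, hx₀def⟩ : ∃ x₀ : I → F, x₀ = Pi.single i₀ 1 := ⟨_, rfl⟩
  rw [← hx₀def] at hx₀ hx₁
  have hg'iso : ∀ b b', B₂ (g' b) (g' b') = B₂ b b' := by
    intro b b'
    have := hkiso.polar_eq (pt x₀ b) (pt x₁ b')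
    rw [hkg, hkg, hT.polar_pt, hT.polar_pt] at this
    exact mul_left_cancel₀ hx₁ this
  obtain ⟨a₁, b₁, hgp₁⟩ := row_of_mem_AP (p₁ := p₁) (p₂ := p₂) hx₀ (w := g' p₁) (by
    rw [← hkg]
    exact hkA _ (pt_mem_AP₁ _))
  obtain ⟨a₂, b₂, hgp₂⟩ := row_of_mem_AP (p₁ := p₁) (p₂ := p₂) hx₀ (w := g' p₂) (by
    rw [← hkg]
    exact hkA _ (pt_mem_AP₂ _))
  -- (d) `k` acts on `A` as a scalar
  obtain ⟨q₁, q₂, hd1, hd2, hd3, hd4⟩ := hP.exists_dual hT.nd₂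
  have hAA := KP_AA hT.sym₂ h2 h hP hP' (beta0 B₁ B₂ q₁ q₂)
    (beta0_T hT hd1 hd2 hd3 hd4 h hhiso p₁' p₂') k hkK
  obtain ⟨S₁, hS₁, S₂, hS₂, hkS⟩ := AA_apply _ _ _ _ hAA
  have hkS₁ : ∀ v ∈ AP I p₁ p₂, (k : Matrix (I × J) (I × J) F) *ᵥ v = S₁ v := by
    intro v hv
    have e := hkS v hv
    rw [Matrix.mulVecLin_apply] at e
    have hS₂v : S₂ v ∈ AP I p₁ p₂ := hS₂.1 v hv
    have hN : NPh B₂ h p₁' p₂' (S₂ v) ∈ AP I p₁ p₂ := by
      have : NPh B₂ h p₁' p₂' (S₂ v) = (k : Matrix (I × J) (I × J) F) *ᵥ v - S₁ v := by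
        rw [e]
        abel
      rw [this]
      exact (AP I p₁ p₂).sub_mem (hkA v hv) (hS₁.1 v hv)
    rw [e, M3 _ hS₂v hN, add_zero]
  have hsa : ∀ a ∈ AP I p₁ p₂, ∀ a' ∈ AP I p₁ p₂,
      beta0 B₁ B₂ q₁ q₂ ((k : Matrix (I × J) (I × J) F) *ᵥ a') a =
        beta0 B₁ B₂ q₁ q₂ a' ((k : Matrix (I × J) (I × J) F) *ᵥ a) := by
    intro a ha a' ha'
    rw [hkS₁ a ha, hkS₁ a' ha']
    exact hS₁.2.2 a ha a' ha'
  have hk₁ : ∀ x : I → F, (k : Matrix (I × J) (I × J) F) *ᵥ pt x p₁ =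
      pt (a₁ • x) p₁ + pt (b₁ • x) p₂ := by
    intro x
    rw [hkg, hgp₁, pt_add_right, pt_smul_right, pt_smul_right, pt_smul_left, pt_smul_left]
  have hk₂ : ∀ x : I → F, (k : Matrix (I × J) (I × J) F) *ᵥ pt x p₂ =
      pt (a₂ • x) p₁ + pt (b₂ • x) p₂ := by
    intro x
    rw [hkg, hgp₂, pt_add_right, pt_smul_right, pt_smul_right, pt_smul_left, pt_smul_left]
  have hβ := beta0_AP (B₁ := B₁) (I := I) hd1 hd2 hd3 hd4
  have hβ10 : ∀ u₁ u₂ x : I → F,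
      beta0 B₁ B₂ q₁ q₂ (pt u₁ p₁ + pt u₂ p₂) (pt x p₁) = - B₁ u₂ x := by
    intro u₁ u₂ x
    have := hβ u₁ u₂ x 0
    rw [pt_zero_left, add_zero, map_zero, zero_sub] at this
    exact this
  have hβ01 : ∀ u₁ u₂ x : I → F,
      beta0 B₁ B₂ q₁ q₂ (pt u₁ p₁ + pt u₂ p₂) (pt x p₂) = B₁ u₁ x := by
    intro u₁ u₂ x
    have := hβ u₁ u₂ 0 x
    rw [pt_zero_left, zero_add, map_zero, sub_zero] at this
    exact this
  have hβ10' : ∀ x u₁' u₂' : I → F,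
      beta0 B₁ B₂ q₁ q₂ (pt x p₁) (pt u₁' p₁ + pt u₂' p₂) = B₁ x u₂' := by
    intro x u₁' u₂'
    have := hβ x 0 u₁' u₂'
    rw [pt_zero_left, add_zero, map_zero, LinearMap.zero_apply, sub_zero] at this
    exact this
  have hβ01' : ∀ x u₁' u₂' : I → F,
      beta0 B₁ B₂ q₁ q₂ (pt x p₂) (pt u₁' p₁ + pt u₂' p₂) = - B₁ x u₁' := by
    intro x u₁' u₂'
    have := hβ 0 x u₁' u₂'
    rw [pt_zero_left, zero_add, map_zero, LinearMap.zero_apply, zero_sub] at this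
    exact this
  have hb₁ : b₁ = 0 := by
    have := hsa (pt x₁ p₁) (pt_mem_AP₁ _) (pt x₀ p₁) (pt_mem_AP₁ _)
    rw [hk₁, hk₁, hβ10, hβ10'] at this
    simp only [map_smul, LinearMap.smul_apply, smul_eq_mul] at this
    have h5 : b₁ * (2 * B₁ x₀ x₁) = 0 := by linear_combination -this
    rcases mul_eq_zero.mp h5 with h6 | h6
    · exact h6
    · exact absurd h6 (mul_ne_zero h2 hx₁)
  have ha₂ : a₂ = 0 := by
    have := hsa (pt x₁ p₂) (pt_mem_AP₂ _) (pt x₀ p₂) (pt_mem_AP₂ _)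
    rw [hk₂, hk₂, hβ01, hβ01'] at this
    simp only [map_smul, LinearMap.smul_apply, smul_eq_mul] at this
    have h5 : a₂ * (2 * B₁ x₀ x₁) = 0 := by linear_combination this
    rcases mul_eq_zero.mp h5 with h6 | h6
    · exact h6
    · exact absurd h6 (mul_ne_zero h2 hx₁)
  have hab : a₁ = b₂ := by
    have := hsa (pt x₁ p₂) (pt_mem_AP₂ _) (pt x₀ p₁) (pt_mem_AP₁ _)
    rw [hk₁, hk₂, hβ01, hβ10'] at this
    simp only [map_smul, LinearMap.smul_apply, smul_eq_mul] at this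
    exact mul_right_cancel₀ hx₁ this
  obtain ⟨lam, hlamdef⟩ : ∃ lam : F, lam = a₁ := ⟨_, rfl⟩
  have hgp₁' : g' p₁ = lam • p₁ := by
    rw [hgp₁, hb₁, zero_smul, add_zero, hlamdef]
  have hgp₂' : g' p₂ = lam • p₂ := by
    rw [hgp₂, ha₂, zero_smul, zero_add, hlamdef, hab]
  have hlam0 : lam ≠ 0 := by
    intro h0
    have := hg'iso p₁ q₁
    rw [hgp₁', h0, zero_smul, map_zero, LinearMap.zero_apply, hd1] at this
    exact zero_ne_one this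
  have hkA_eq : ∀ a ∈ AP I p₁ p₂, (k : Matrix (I × J) (I × J) F) *ᵥ a = lam • a := by
    intro a ha
    obtain ⟨u₁, u₂, rfl⟩ := mem_AP.mp ha
    rw [Matrix.mulVec_add, hkg, hkg, hgp₁', hgp₂', pt_smul_right, pt_smul_right, smul_add]
  -- (e) the scalar is not one
  have hlam1 : lam ≠ 1 := by
    intro h1
    rw [h1, one_smul] at hgp₁' hgp₂'
    have hmem : ∀ b, ∃ c₁ c₂ : F, g' b - b = c₁ • p₁ + c₂ • p₂ := by
      intro b
      apply row_of_mem_AP (I := I) hx₀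
      have e : pt x₀ (g' b - b) = (k : Matrix (I × J) (I × J) F) *ᵥ pt x₀ b - pt x₀ b := by
        rw [hkg, pt_sub_right]
      have f1 : B₂ (g' b) p₁ = B₂ b p₁ := by
        have := hg'iso b p₁
        rwa [hgp₁'] at this
      have f2 : B₂ (g' b) p₂ = B₂ b p₂ := by
        have := hg'iso b p₂
        rwa [hgp₂'] at this
      rw [e]
      apply hstar
      · rw [← e, C₂_pt, map_sub, LinearMap.sub_apply, f1, sub_self, zero_smul]
      · rw [← e, C₂_pt, map_sub, LinearMap.sub_apply, f2, sub_self, zero_smul]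
    choose φ₁ φ₂ hφ using hmem
    have hgb : ∀ b, g' b = b + (φ₁ b • p₁ + φ₂ b • p₂) := by
      intro b
      rw [← hφ b]
      abel
    have hrel : ∀ b b', φ₁ b' * B₂ b p₁ + φ₂ b' * B₂ b p₂ + φ₁ b * B₂ p₁ b' +
        φ₂ b * B₂ p₂ b' = 0 := by
      intro b b'
      have := hg'iso b b'
      rw [hgb b, hgb b'] at this
      simp only [map_add, map_smul, LinearMap.add_apply, LinearMap.smul_apply, smul_eq_mul,
        hP.h11, hP.h12, hP.h21 hT.sym₂, hP.h22, mul_zero, add_zero, zero_add] at this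
      linear_combination this
    have s1 : B₂ q₁ p₁ = 1 := by rw [hT.sym₂, hd1]
    have s2 : B₂ q₁ p₂ = 0 := by rw [hT.sym₂, hd2]
    have s3 : B₂ q₂ p₁ = 0 := by rw [hT.sym₂, hd3]
    have s4 : B₂ q₂ p₂ = 1 := by rw [hT.sym₂, hd4]
    have r11 : φ₁ q₁ = 0 := by
      have := hrel q₁ q₁
      rw [s1, s2, hd1, hd2] at this
      have h5 : φ₁ q₁ * 2 = 0 := by linear_combination this
      rcases mul_eq_zero.mp h5 with h6 | h6
      · exact h6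
      · exact absurd h6 h2
    have r22 : φ₂ q₂ = 0 := by
      have := hrel q₂ q₂
      rw [s3, s4, hd3, hd4] at this
      have h5 : φ₂ q₂ * 2 = 0 := by linear_combination this
      rcases mul_eq_zero.mp h5 with h6 | h6
      · exact h6
      · exact absurd h6 h2
    have rb1 : ∀ b, φ₁ b = - φ₂ q₁ * B₂ b p₂ := by
      intro b
      have := hrel b q₁
      rw [hd1, hd2, r11] at this
      linear_combination this
    have rb2 : ∀ b, φ₂ b = - φ₁ q₂ * B₂ b p₁ := by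
      intro b
      have := hrel b q₂
      rw [hd3, hd4, r22] at this
      linear_combination this
    have r12 : φ₂ q₁ = - φ₁ q₂ := by
      have := rb1 q₂
      rw [s4] at this
      linear_combination this
    apply hknot (φ₁ q₂)
    apply gl_ext_pt
    intro u w
    rw [hkg, xP_mulVec, NP_pt, hgb, rb1 w, rb2 w, r12, pt_add_right, pt_add_right, pt_smul_right,
      pt_smul_right]
    module
  -- (f) the intersection is trivial
  have hbot : AP I p₁ p₂ ⊓ (AP I p₁' p₂').map (gL h : (I × J → F) →ₗ[F] (I × J → F)) = ⊥ := by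
    rw [eq_bot_iff]
    intro v hv
    obtain ⟨hv1, hv2⟩ := Submodule.mem_inf.mp hv
    have e2 := hk2 v hv
    rw [hkA_eq v hv1] at e2
    have : (lam - 1) • v = 0 := by rw [sub_smul, e2, one_smul, sub_self]
    rcases smul_eq_zero.mp this with h0 | h0
    · exact absurd (sub_eq_zero.mp h0) hlam1
    · rw [h0]
      exact Submodule.zero_mem _
  refine ⟨hbot, g' q₁ - q₁, g' q₂ - q₂, ?_⟩
  -- (g)
  have hkinvA : ∀ a ∈ AP I p₁ p₂,
      ((k⁻¹ : GL (I × J) F) : Matrix (I × J) (I × J) F) *ᵥ a = lam⁻¹ • a := by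
    intro a ha
    have : (k : Matrix (I × J) (I × J) F) *ᵥ (lam⁻¹ • a) = a := by
      rw [Matrix.mulVec_smul, hkA_eq a ha, smul_smul, inv_mul_cancel₀ hlam0, one_smul]
    nth_rewrite 1 [← this]
    rw [inv_mulVec_mulVec]
  have hC₂k : ∀ v, C₂ B₂ p₁ ((k : Matrix (I × J) (I × J) F) *ᵥ v) = lam⁻¹ • C₂ B₂ p₁ v ∧
      C₂ B₂ p₂ ((k : Matrix (I × J) (I × J) F) *ᵥ v) = lam⁻¹ • C₂ B₂ p₂ v := by
    intro v
    have key : ∀ a ∈ AP I p₁ p₂, polar ⇑Q ((k : Matrix (I × J) (I × J) F) *ᵥ v) a =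
        lam⁻¹ * polar ⇑Q v a := by
      intro a ha
      have := hkiso.polar_eq v (((k⁻¹ : GL (I × J) F) : Matrix (I × J) (I × J) F) *ᵥ a)
      rw [mulVec_inv_mulVec] at this
      rw [this, hkinvA a ha, polar_smul_right, smul_eq_mul]
    constructor
    · apply hT.eq_of_B₁
      intro u
      rw [← hT.polar_pt_right, key _ (pt_mem_AP₁ u), map_smul, LinearMap.smul_apply,
        ← hT.polar_pt_right, smul_eq_mul]
    · apply hT.eq_of_B₁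
      intro u
      rw [← hT.polar_pt_right, key _ (pt_mem_AP₂ u), map_smul, LinearMap.smul_apply,
        ← hT.polar_pt_right, smul_eq_mul]
  have s1 : B₂ q₁ p₁ = 1 := by rw [hT.sym₂, hd1]
  have s2 : B₂ q₁ p₂ = 0 := by rw [hT.sym₂, hd2]
  have s3 : B₂ q₂ p₁ = 0 := by rw [hT.sym₂, hd3]
  have s4 : B₂ q₂ p₂ = 1 := by rw [hT.sym₂, hd4]
  have hrange : ∀ v, (k : Matrix (I × J) (I × J) F) *ᵥ v - v ∈
      AP I p₁ p₂ ⊔ (Aw (I := I) (g' q₁ - q₁) ⊔ Aw (I := I) (g' q₂ - q₂)) := by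
    apply pt_induction
    · rw [Matrix.mulVec_zero, sub_zero]
      exact Submodule.zero_mem _
    · intro x y hx hy
      have : (k : Matrix (I × J) (I × J) F) *ᵥ (x + y) - (x + y) =
          ((k : Matrix (I × J) (I × J) F) *ᵥ x - x) +
          ((k : Matrix (I × J) (I × J) F) *ᵥ y - y) := by
        rw [Matrix.mulVec_add]
        abel
      rw [this]
      exact Submodule.add_mem _ hx hy
    · intro u b
      obtain ⟨b₀, hb₀def⟩ : ∃ b₀ : J → F, b₀ = b - B₂ p₁ b • q₁ - B₂ p₂ b • q₂ := ⟨_, rfl⟩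
      have hb : b = b₀ + (B₂ p₁ b • q₁ + B₂ p₂ b • q₂) := by
        rw [hb₀def]
        abel
      have hb₀1 : B₂ b₀ p₁ = 0 := by
        rw [hb₀def, map_sub, map_sub, map_smul, map_smul, LinearMap.sub_apply,
          LinearMap.sub_apply, LinearMap.smul_apply, LinearMap.smul_apply, s1, s3,
          hT.sym₂ p₁ b]
        simp
      have hb₀2 : B₂ b₀ p₂ = 0 := by
        rw [hb₀def, map_sub, map_sub, map_smul, map_smul, LinearMap.sub_apply,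
          LinearMap.sub_apply, LinearMap.smul_apply, LinearMap.smul_apply, s2, s4,
          hT.sym₂ p₂ b]
        simp
      have hmem0 : (k : Matrix (I × J) (I × J) F) *ᵥ pt u b₀ - pt u b₀ ∈ AP I p₁ p₂ := by
        apply hstar
        · rw [map_sub, (hC₂k _).1, C₂_pt, hb₀1, zero_smul, smul_zero, sub_zero]
        · rw [map_sub, (hC₂k _).2, C₂_pt, hb₀2, zero_smul, smul_zero, sub_zero]
      have e3 : g' b = g' b₀ + (B₂ p₁ b • g' q₁ + B₂ p₂ b • g' q₂) := by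
        conv_lhs => rw [hb]
        rw [map_add, map_add, map_smul, map_smul]
      have e4 : pt u b = pt u b₀ + (B₂ p₁ b • pt u q₁ + B₂ p₂ b • pt u q₂) := by
        conv_lhs => rw [hb]
        rw [pt_add_right, pt_add_right, pt_smul_right, pt_smul_right]
      have e5 : (k : Matrix (I × J) (I × J) F) *ᵥ pt u b - pt u b =
          ((k : Matrix (I × J) (I × J) F) *ᵥ pt u b₀ - pt u b₀) +
          (B₂ p₁ b • pt u (g' q₁ - q₁) + B₂ p₂ b • pt u (g' q₂ - q₂)) := by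
        rw [hkg, hkg, e3, e4, pt_add_right, pt_add_right, pt_smul_right, pt_smul_right,
          pt_sub_right, pt_sub_right]
        module
      rw [e5]
      refine Submodule.add_mem _ (Submodule.mem_sup_left hmem0) (Submodule.mem_sup_right ?_)
      exact Submodule.add_mem _
        (Submodule.mem_sup_left ((Aw _).smul_mem _ (mem_Aw.mpr ⟨u, rfl⟩)))
        (Submodule.mem_sup_right ((Aw _).smul_mem _ (mem_Aw.mpr ⟨u, rfl⟩)))
  intro a' ha'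
  obtain ⟨w, hwdef⟩ : ∃ w : I × J → F,
      w = (k : Matrix (I × J) (I × J) F) *ᵥ a' - lam⁻¹ • a' := ⟨_, rfl⟩
  have hw1 : C₂ B₂ p₁ w = 0 := by
    rw [hwdef, map_sub, (hC₂k a').1, map_smul, sub_self]
  have hw2 : C₂ B₂ p₂ w = 0 := by
    rw [hwdef, map_sub, (hC₂k a').2, map_smul, sub_self]
  have hwsup : w ∈ AP I p₁ p₂ ⊔ (AP I p₁' p₂').map
      (gL h : (I × J → F) →ₗ[F] (I × J → F)) := by
    have : w = ((k : Matrix (I × J) (I × J) F) *ᵥ a' - a') + (1 - lam⁻¹) • a' := by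
      rw [hwdef]
      module
    rw [this]
    exact Submodule.add_mem _ (hk1 a') (Submodule.mem_sup_right (Submodule.smul_mem _ _ ha'))
  have hwA : w ∈ AP I p₁ p₂ := by
    obtain ⟨c, hc, c', hc', hsum⟩ := Submodule.mem_sup.mp hwsup
    have hcc := C₂_AP hP hT.sym₂ c hc
    have hc'e : c' = w - c := by
      rw [← hsum]
      abel
    have hc'A : c' ∈ AP I p₁ p₂ := by
      apply M1 c' hc'
      · rw [hc'e, map_sub, hw1, hcc.1, sub_zero]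
      · rw [hc'e, map_sub, hw2, hcc.2, sub_zero]
    rw [← hsum]
    exact (AP I p₁ p₂).add_mem hc hc'A
  have hne : (1 - lam⁻¹ : F) ≠ 0 := by
    intro h0
    apply hlam1
    have : lam⁻¹ = 1 := (sub_eq_zero.mp h0).symm
    rw [← inv_inv lam, this, inv_one]
  have hfin : a' = (1 - lam⁻¹)⁻¹ • (w - ((k : Matrix (I × J) (I × J) F) *ᵥ a' - a')) := by
    have : w - ((k : Matrix (I × J) (I × J) F) *ᵥ a' - a') = (1 - lam⁻¹) • a' := by
      rw [hwdef]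
      module
    rw [this, smul_smul, inv_mul_cancel₀ hne, one_smul]
  rw [hfin]
  exact Submodule.smul_mem _ _ (Submodule.sub_mem _ (Submodule.mem_sup_left hwA) (hrange a'))

end trip

end Cfsg.Agent.Lib.Helper1.TsC
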