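import Mathlib
import Cfsg.Agent.Lib.Helper1.TsC11

/-!
# `O(U) ⊗ O(W)`: an overgroup not containing `Ω` lies in the Kronecker group; maximality
-/

set_option autoImplicit false
set_option maxHeartbeats 4000000
set_option maxRecDepth 100000
set_option linter.unusedSimpArgs false
set_option linter.unusedVariables false
set_option linter.unusedSectionVars false
set_option linter.style.longLine false
set_option linter.deprecated false

namespace Cfsg.Agent.Lib.Helper1.TsC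

open Module QuadraticMap Matrix
open Cfsg
open Cfsg.Agent.Lib.Helper5.CartanDieudonne Cfsg.Agent.Lib.Helper5.Siegel
  Cfsg.Agent.Lib.Helper5.QuadIsom Cfsg.Agent.Lib.Helper5.Eichler
  Cfsg.Agent.Lib.Helper5.OmegaSimple Cfsg.Agent.Lib.Helper5.OrthSingularMax
open Cfsg.Agent.Lib.Helper1.UoA
open Cfsg.Agent.Lib.Helper1.TsA
open Cfsg.Agent.Lib.Helper1.TsB
open Cfsg.Agent.Lib.Helper8.Tns

local notation "Ξ" => Cfsg.Agent.Lib.Helper1.TsA.Xi

variable {I J : Type} [Fintype I] [DecidableEq I] [Fintype J] [DecidableEq J]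
  {F : Type*} [Field F]

section geo

variable [Fintype F] {B₂ : LinearMap.BilinForm F (J → F)}

/-- every singular vector lies on a totally singular line -/
theorem exists_TSL (hodd : Fintype.card F % 2 = 1) (hS : ∀ x y, B₂ x y = B₂ y x)
    (hB : B₂.Nondegenerate) (h2 : (2 : F) ≠ 0) (hd : 5 ≤ finrank F (J → F)) (s : J → F)
    (hs0 : s ≠ 0) (hs : B₂ s s = 0) : ∃ e, TSL B₂ s e := by
  obtain ⟨ss, hss1, hss⟩ := singular_partner B₂ hS hB h2 s hs0 hs
  obtain ⟨e, he0, he, hse, hsse⟩ := exists_singular_perp_hyp B₂ hodd hS hB h2 hd s ss hs hss hss1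
  refine ⟨e, hs, he, hse, ?_⟩
  apply pair_indep_of_not_smul hs0
  intro c hc
  have := hsse
  rw [hc, map_smul, hS ss s, hss1, smul_eq_mul, mul_one] at this
  rw [this, zero_smul] at hc
  exact he0 hc

omit [Fintype F] in
theorem rowv_pt (u : I → F) (w : J → F) (i : I) : rowv (pt u w) i = u i • w := by
  ext j
  rfl

omit [Fintype F] in
theorem rowv_add (v v' : I × J → F) (i : I) : rowv (v + v') i = rowv v i + rowv v' i := by
  ext j
  rfl

omit [Fintype F] in
/-- rows of elements of `U ⊗ ⟨p₁, p₂, y₁, y₂⟩` -/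
theorem rowv_mem_span4 {p₁ p₂ y₁ y₂ : J → F} {v : I × J → F}
    (hv : v ∈ AP I p₁ p₂ ⊔ (Aw (I := I) y₁ ⊔ Aw (I := I) y₂)) (i : I) :
    rowv v i ∈ Submodule.span F (Set.range ![p₁, p₂, y₁, y₂]) := by
  obtain ⟨a, ha, b, hb, rfl⟩ := Submodule.mem_sup.mp hv
  obtain ⟨b₁, hb₁, b₂, hb₂, rfl⟩ := Submodule.mem_sup.mp hb
  obtain ⟨u₁, u₂, rfl⟩ := mem_AP.mp ha
  obtain ⟨u₃, rfl⟩ := mem_Aw.mp hb₁
  obtain ⟨u₄, rfl⟩ := mem_Aw.mp hb₂
  rw [rowv_add, rowv_add, rowv_add, rowv_pt, rowv_pt, rowv_pt, rowv_pt]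
  refine Submodule.add_mem _ (Submodule.add_mem _ ?_ ?_) (Submodule.add_mem _ ?_ ?_)
  · exact Submodule.smul_mem _ _ (Submodule.subset_span ⟨0, rfl⟩)
  · exact Submodule.smul_mem _ _ (Submodule.subset_span ⟨1, rfl⟩)
  · exact Submodule.smul_mem _ _ (Submodule.subset_span ⟨2, rfl⟩)
  · exact Submodule.smul_mem _ _ (Submodule.subset_span ⟨3, rfl⟩)

omit [Fintype F] in
theorem finrank_span4_le (p₁ p₂ y₁ y₂ : J → F) :
    finrank F ↥(Submodule.span F (Set.range ![p₁, p₂, y₁, y₂])) ≤ 4 := by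
  have := finrank_range_le_card (R := F) ![p₁, p₂, y₁, y₂]
  simpa [Set.finrank] using this

/-- a row space of dimension at least three meeting every totally singular line's span in
codimension at most ... is impossible -/
theorem rows_big_false (hodd : Fintype.card F % 2 = 1) (hS : ∀ x y, B₂ x y = B₂ y x)
    (hB : B₂.Nondegenerate) (h2 : (2 : F) ≠ 0) (hd : 5 ≤ finrank F (J → F))
    (R : Submodule F (J → F)) (hR : 3 ≤ finrank F ↥R)
    (hdag : ∀ p₁ p₂, TSL B₂ p₁ p₂ → finrank F ↥(R ⊔ Submodule.span F {p₁, p₂}) ≤ 4) : False := by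
  have hsub1 : ∀ a b : J → F, Submodule.span F {a} ≤ Submodule.span F {a, b} := by
    intro a b
    apply Submodule.span_mono
    intro x hx
    rw [Set.mem_singleton_iff] at hx
    rw [hx]
    exact Set.mem_insert _ _
  have hsub2 : ∀ a b : J → F, Submodule.span F {b} ≤ Submodule.span F {a, b} := by
    intro a b
    apply Submodule.span_mono
    intro x hx
    rw [Set.mem_singleton_iff] at hx
    rw [hx]
    exact Set.mem_insert_of_mem _ rfl
  -- (b) singular vectors outside `R` are perpendicular to `R`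
  have hb : ∀ s, B₂ s s = 0 → s ∉ R → ∀ r ∈ R, B₂ s r = 0 := by
    intro s hs hsR
    have hs0 : s ≠ 0 := ne_zero_of_not_mem_span hsR
    obtain ⟨S, hSdef⟩ : ∃ S : Submodule F (J → F), S = R ⊔ Submodule.span F {s} := ⟨_, rfl⟩
    have hsS : s ∈ S := by
      rw [hSdef]
      exact Submodule.mem_sup_right (Submodule.mem_span_singleton_self s)
    have hRS : R < S := by
      refine lt_of_le_of_ne (by rw [hSdef]; exact le_sup_left) ?_
      intro heq
      apply hsR
      rw [heq]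
      exact hsS
    by_cases hex : ∃ p₂, B₂ p₂ p₂ = 0 ∧ B₂ s p₂ = 0 ∧ p₂ ∉ S
    · exfalso
      obtain ⟨p₂, hp₂, hsp₂, hp₂S⟩ := hex
      have hP : TSL B₂ s p₂ := ⟨hs, hp₂, hsp₂, pair_indep_of_not_smul hs0 (fun c hc => hp₂S (by
        rw [hc]
        exact S.smul_mem c hsS))⟩
      have h4 := hdag s p₂ hP
      have hST : S < S ⊔ Submodule.span F {p₂} := by
        refine lt_of_le_of_ne le_sup_left ?_
        intro heq
        apply hp₂S
        rw [heq]
        exact Submodule.mem_sup_right (Submodule.mem_span_singleton_self p₂)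
      have hle : S ⊔ Submodule.span F {p₂} ≤ R ⊔ Submodule.span F {s, p₂} := by
        rw [hSdef]
        refine sup_le (sup_le le_sup_left ?_) ?_
        · exact le_trans (hsub1 s p₂) le_sup_right
        · exact le_trans (hsub2 s p₂) le_sup_right
      have h1 := Submodule.finrank_lt_finrank_of_lt hRS
      have h2' := Submodule.finrank_lt_finrank_of_lt hST
      have h3 := Submodule.finrank_mono hle
      omega
    · push Not at hex
      intro r hr
      by_contra hsr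
      have hperp : ∀ b, B₂ s b = 0 → b ∈ S := by
        have := eq_zero_of_singular_perp B₂ hodd hS hB h2 hd s hs0 hs S.mkQ (by
          intro s' hs' hss'
          rw [Submodule.mkQ_apply, Submodule.Quotient.mk_eq_zero]
          exact hex s' hs' hss')
        intro b hb
        have h5 := this b hb
        rwa [Submodule.mkQ_apply, Submodule.Quotient.mk_eq_zero] at h5
      have hStop : S = ⊤ := by
        rw [eq_top_iff]
        intro b _
        have hrS : r ∈ S := by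
          rw [hSdef]
          exact Submodule.mem_sup_left hr
        have h5 : b - (B₂ s b / B₂ s r) • r ∈ S := by
          apply hperp
          rw [map_sub, map_smul, smul_eq_mul, div_mul_cancel₀ _ hsr, sub_self]
        have : b = (b - (B₂ s b / B₂ s r) • r) + (B₂ s b / B₂ s r) • r := by abel
        rw [this]
        exact S.add_mem h5 (S.smul_mem _ hrS)
      obtain ⟨e, hP⟩ := exists_TSL hodd hS hB h2 hd s hs0 hs
      have h4 := hdag s e hP
      have hle : S ≤ R ⊔ Submodule.span F {s, e} := by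
        rw [hSdef]
        exact sup_le le_sup_left (le_trans (hsub1 s e) le_sup_right)
      have h3 := Submodule.finrank_mono hle
      rw [hStop, finrank_top] at h3
      omega
  -- (c)
  have hR4 : finrank F ↥R ≤ 4 := by
    obtain ⟨s, hs0, hs⟩ := exists_singular B₂ hodd hS hB h2 (by omega)
    obtain ⟨e, hP⟩ := exists_TSL hodd hS hB h2 hd s hs0 hs
    exact le_trans (Submodule.finrank_mono le_sup_left) (hdag s e hP)
  obtain ⟨s₁, hs₁, hs₁R⟩ : ∃ s₁, B₂ s₁ s₁ = 0 ∧ s₁ ∉ R := by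
    by_contra hcon
    push Not at hcon
    have := eq_zero_of_singular B₂ hodd hS hB h2 (by omega) R.mkQ (by
      intro s hs
      rw [Submodule.mkQ_apply, Submodule.Quotient.mk_eq_zero]
      exact hcon s hs)
    have hRt : R = ⊤ := by
      rw [eq_top_iff]
      intro b _
      have h5 : R.mkQ b = 0 := by rw [this, LinearMap.zero_apply]
      rwa [Submodule.mkQ_apply, Submodule.Quotient.mk_eq_zero] at h5
    rw [hRt, finrank_top] at hR4
    omega
  have h1R := hb s₁ hs₁ hs₁R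
  obtain ⟨s₂, hs₂, r, hr, hs₂r⟩ : ∃ s₂, B₂ s₂ s₂ = 0 ∧ ∃ r ∈ R, B₂ s₂ r ≠ 0 := by
    by_contra hcon
    push Not at hcon
    have hR0 : ∀ r ∈ R, r = 0 := by
      intro r hr
      have := eq_zero_of_singular B₂ hodd hS hB h2 (by omega) (LinearMap.flip B₂ r) (by
        intro s hs
        rw [LinearMap.flip_apply]
        exact hcon s hs r hr)
      apply hB.1
      intro y
      have h5 : LinearMap.flip B₂ r y = 0 := by rw [this, LinearMap.zero_apply]
      rw [LinearMap.flip_apply] at h5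
      rw [hS]
      exact h5
    have : R = ⊥ := by
      rw [eq_bot_iff]
      intro r hr
      rw [hR0 r hr]
      exact Submodule.zero_mem _
    rw [this, finrank_bot] at hR
    omega
  have hs₂R : s₂ ∈ R := by
    by_contra hnot
    exact hs₂r (hb s₂ hs₂ hnot r hr)
  have h12 : B₂ s₁ s₂ = 0 := h1R s₂ hs₂R
  have hsum : B₂ (s₁ + s₂) (s₁ + s₂) = 0 := by
    simp only [map_add, LinearMap.add_apply, hs₁, hs₂, h12, hS s₂ s₁, add_zero]
  have hsumR : s₁ + s₂ ∉ R := by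
    intro hmem
    apply hs₁R
    have := R.sub_mem hmem hs₂R
    rwa [add_sub_cancel_right] at this
  have := hb (s₁ + s₂) hsum hsumR r hr
  rw [map_add, LinearMap.add_apply, h1R r hr, zero_add] at this
  exact hs₂r this

end geo

section fin

variable [Fintype F]
  {Q : QuadraticForm F (I × J → F)} {B₁ : LinearMap.BilinForm F (I → F)}
  {B₂ : LinearMap.BilinForm F (J → F)}
  {hT : OT Q B₁ B₂} {h2 : (2 : F) ≠ 0} {H : Subgroup (GL (I × J) F)}

/-- if the rows of `h (U ⊗ P')` span at most a plane then `h` is a Kronecker product -/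
theorem Ctx.rows_small (C : Ctx hT h2 H) (h : GL (I × J) F) (hh : h ∈ H) {p₁' p₂' : J → F}
    (hP' : TSL B₂ p₁' p₂') (R : Submodule F (J → F))
    (hrow : ∀ v ∈ (AP I p₁' p₂').map (gL h : (I × J → F) →ₗ[F] (I × J → F)),
      ∀ i, rowv v i ∈ R)
    (hR : finrank F ↥R ≤ 2) : h ∈ krSub I J F := by
  have hdW := C.dW
  obtain ⟨p, z, hcp, hcz, hp0, hp, hpz, hz⟩ := exists_sieg_pair' B₂ C.hodd hT.sym₂ hT.nd₂ h2
    (fun i => ((Module.finBasis F ↥R) i : J → F)) (by omega) (by omega)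
  have key : ∀ x : ↥R, B₂ (x : J → F) p = 0 ∧ B₂ (x : J → F) z = 0 := by
    intro x
    have hx : x ∈ Submodule.span F (Set.range (Module.finBasis F ↥R)) := by
      rw [Basis.span_eq]
      exact Submodule.mem_top
    induction hx using Submodule.span_induction with
    | mem y hy =>
      obtain ⟨i, rfl⟩ := hy
      exact ⟨hcp i, hcz i⟩
    | zero => simp
    | add y y' _ _ hy hy' =>
      simp [hy.1, hy.2, hy'.1, hy'.2]
    | smul c y _ hy =>
      simp [hy.1, hy.2]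
  have hfix : ∀ v ∈ (AP I p₁' p₂').map (gL h : (I × J → F) →ₗ[F] (I × J → F)),
      (krL (1 : (I → F) ≃ₗ[F] (I → F)) (sieg B₂ hT.sym₂ h2 p z hp hpz) :
        Matrix (I × J) (I × J) F) *ᵥ v = v := by
    intro v hv
    apply krL_fix_of_rows
    intro i
    obtain ⟨h1, h2'⟩ := key ⟨_, hrow v hv i⟩
    rw [sieg_apply, h1, h2']
    simp
  have hinv : h⁻¹ ∈ krSub I J F :=
    C.fix_sub_mem h⁻¹ (H.inv_mem hh) p z hp0 hp hpz hz _ hfix p₁' hP'.ne₁ hP'.h11 (by
      intro u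
      exact ⟨(h : Matrix (I × J) (I × J) F) *ᵥ pt u p₁',
        Submodule.mem_map.mpr ⟨_, pt_mem_AP₁ u, rfl⟩, inv_mulVec_mulVec h _⟩)
  have := (krSub I J F).inv_mem hinv
  rwa [inv_inv] at this

/-- **an overgroup of `(O(U) ⊗ O(W)) ∩ Ω` inside `Ω` not containing `Ω` is a group of
Kronecker products** -/
theorem Ctx.le_krSub (C : Ctx hT h2 H) (hIJ : Fintype.card I < Fintype.card J)
    (hL : ∀ S : Submodule F (J → F), (∀ x ∈ S, ∀ y ∈ S, B₂ x y = 0) →
      2 * finrank F S < finrank F (J → F)) : H ≤ krSub I J F := by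
  classical
  intro h₀ hh₀
  by_contra hnk₀
  have hdW := C.dW
  obtain ⟨s, hs0, hs⟩ := exists_singular B₂ C.hodd hT.sym₂ hT.nd₂ h2 (by omega)
  obtain ⟨e, hP₀⟩ := exists_TSL C.hodd hT.sym₂ hT.nd₂ h2 hdW s hs0 hs
  obtain ⟨Pd, hPddef⟩ : ∃ Pd : ℕ → Prop, Pd = fun n : ℕ =>
      ∃ (h : GL (I × J) F) (p₁ p₂ p₁' p₂' : J → F), h ∈ H ∧ h ∉ krSub I J F ∧ TSL B₂ p₁ p₂ ∧
        TSL B₂ p₁' p₂' ∧ finrank F ↥(AP I p₁ p₂ ⊓ (AP I p₁' p₂').map
          (gL h : (I × J → F) →ₗ[F] (I × J → F))) = n := ⟨_, rfl⟩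
  have hPd : ∀ n, Pd n ↔ ∃ (h : GL (I × J) F) (p₁ p₂ p₁' p₂' : J → F), h ∈ H ∧
      h ∉ krSub I J F ∧ TSL B₂ p₁ p₂ ∧ TSL B₂ p₁' p₂' ∧
      finrank F ↥(AP I p₁ p₂ ⊓ (AP I p₁' p₂').map
        (gL h : (I × J → F) →ₗ[F] (I × J → F))) = n := by
    intro n
    rw [hPddef]
  have hbound : ∀ n, Pd n → n ≤ Fintype.card I + Fintype.card I := by
    intro n hn
    obtain ⟨h, p₁, p₂, p₁', p₂', -, -, -, -, hd⟩ := (hPd n).mp hn
    rw [← hd]
    exact le_trans (Submodule.finrank_mono inf_le_left) finrank_AP_le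
  have hP0 : Pd (finrank F ↥(AP I s e ⊓ (AP I s e).map
      (gL h₀ : (I × J → F) →ₗ[F] (I × J → F)))) :=
    (hPd _).mpr ⟨h₀, s, e, s, e, hh₀, hnk₀, hP₀, hP₀, rfl⟩
  obtain ⟨n₀, hn₀def⟩ : ∃ n₀ : ℕ,
      n₀ = Nat.findGreatest Pd (Fintype.card I + Fintype.card I) := ⟨_, rfl⟩
  have hn₀ : Pd n₀ := by
    rw [hn₀def]
    exact Nat.findGreatest_spec (hbound _ hP0) hP0
  have hmaxn : ∀ n, Pd n → n ≤ n₀ := by
    intro n hn
    rw [hn₀def]
    exact Nat.le_findGreatest (hbound n hn) hn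
  obtain ⟨h, p₁, p₂, p₁', p₂', hh, hnk, hP, hP', hd⟩ := (hPd n₀).mp hn₀
  have hmax : TripleMax H B₂ h p₁ p₂ p₁' p₂' := by
    intro h₁ hh₁ hnk₁ r₁ r₂ r₁' r₂' hR hR'
    rw [hd]
    exact hmaxn _ ((hPd _).mpr ⟨h₁, r₁, r₂, r₁', r₂', hh₁, hnk₁, hR, hR', rfl⟩)
  obtain ⟨hbot, -⟩ := C.triple hIJ hL h hh hnk hP hP' hmax
  have hn₀0 : n₀ = 0 := by
    rw [← hd, hbot]
    exact finrank_bot F _
  have hall : ∀ r₁ r₂, TSL B₂ r₁ r₂ → ∃ y₁ y₂ : J → F,
      (AP I p₁' p₂').map (gL h : (I × J → F) →ₗ[F] (I × J → F)) ≤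
        AP I r₁ r₂ ⊔ (Aw (I := I) y₁ ⊔ Aw (I := I) y₂) := by
    intro r₁ r₂ hR
    have hmax' : TripleMax H B₂ h r₁ r₂ p₁' p₂' := by
      intro h₁ hh₁ hnk₁ t₁ t₂ t₁' t₂' hT₁ hT₁'
      have := hmaxn _ ((hPd _).mpr ⟨h₁, t₁, t₂, t₁', t₂', hh₁, hnk₁, hT₁, hT₁', rfl⟩)
      rw [hn₀0] at this
      exact le_trans this (Nat.zero_le _)
    exact (C.triple hIJ hL h hh hnk hR hP' hmax').2
  obtain ⟨R, hRdef⟩ : ∃ R : Submodule F (J → F), R = Submodule.span F
      {r | ∃ v ∈ (AP I p₁' p₂').map (gL h : (I × J → F) →ₗ[F] (I × J → F)),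
        ∃ i, r = rowv v i} := ⟨_, rfl⟩
  have hrow : ∀ v ∈ (AP I p₁' p₂').map (gL h : (I × J → F) →ₗ[F] (I × J → F)),
      ∀ i, rowv v i ∈ R := by
    intro v hv i
    rw [hRdef]
    exact Submodule.subset_span ⟨v, hv, i, rfl⟩
  have hdag : ∀ r₁ r₂, TSL B₂ r₁ r₂ →
      finrank F ↥(R ⊔ Submodule.span F {r₁, r₂}) ≤ 4 := by
    intro r₁ r₂ hR
    obtain ⟨y₁, y₂, hle⟩ := hall r₁ r₂ hR
    refine le_trans (Submodule.finrank_mono ?_) (finrank_span4_le r₁ r₂ y₁ y₂)
    refine sup_le ?_ ?_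
    · rw [hRdef, Submodule.span_le]
      rintro r ⟨v, hv, i, rfl⟩
      exact rowv_mem_span4 (hle hv) i
    · rw [Submodule.span_le]
      intro x hx
      rcases hx with rfl | hx
      · exact Submodule.subset_span ⟨0, rfl⟩
      · rw [Set.mem_singleton_iff] at hx
        rw [hx]
        exact Submodule.subset_span ⟨1, rfl⟩
  by_cases hR2 : finrank F ↥R ≤ 2
  · exact hnk (C.rows_small h hh hP' R hrow hR2)
  · exact rows_big_false C.hodd hT.sym₂ hT.nd₂ h2 hdW R (by omega) hdag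

/-- a long root element of `Ω` with centre `x ⊗ w`, `w` singular, is not a Kronecker product -/
theorem OT.eich_not_mem (hT : OT Q B₁ B₂) (h2 : (2 : F) ≠ 0) (hJ : 3 ≤ Fintype.card J)
    (x s : I → F) (w : J → F) (hw0 : w ≠ 0) (hw : B₂ w w = 0) (hs : B₁ s s ≠ 0) (hx0 : x ≠ 0)
    (hxs : B₁ x s = 0) (hx : Q (pt x w) = 0) (hxz : polar ⇑Q (pt x w) (pt s w) = 0) :
    ((eich Q (pt x w) (pt s w) hx hxz : ↥(isometryGroup F ⇑Q)) : GL (I × J) F) ∉
      krSub I J F := by
  intro hmem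
  obtain ⟨α, β, hy⟩ := mem_krSub.mp hmem
  have hE := hT.Acts_eich x s w w hx hxz
  have hQ0 : Q (pt s w) = 0 := hT.sing_right h2 s w hw
  have hSfin : finrank F (Submodule.span F (Set.range ![pt s w, pt x w])) < Fintype.card J := by
    have := finrank_range_le_card (R := F) ![pt s w, pt x w]
    rw [Fintype.card_fin] at this
    have h2' : finrank F (Submodule.span F (Set.range ![pt s w, pt x w])) ≤ 2 := this
    omega
  have hyS : ∀ v : I × J → F,
      ((kr α β : GL (I × J) F) : Matrix (I × J) (I × J) F) *ᵥ v - v ∈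
        Submodule.span F (Set.range ![pt s w, pt x w]) := by
    intro v
    rw [← hy, hE v, add_sub_cancel_left, hQ0, zero_smul, sub_zero, LinearMap.sub_apply, Xi_apply,
      Xi_apply, rk_apply, rk_apply, pt_smul_left, pt_smul_left]
    exact Submodule.sub_mem _ (Submodule.smul_mem _ _ (Submodule.subset_span ⟨0, rfl⟩))
      (Submodule.smul_mem _ _ (Submodule.subset_span ⟨1, rfl⟩))
  obtain ⟨c, hc⟩ := kr_scalar_of_small α β _ hSfin hyS
  have hli : LinearIndependent F ![x, s] := pair_indep_of_form B₁ hx0 hxs hs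
  obtain ⟨u, hu⟩ := exists_prescribed B₁ hT.nd₁ ![x, s] hli ![1, 0]
  have hxu : B₁ x u = 1 := by simpa using hu 0
  have hsu : B₁ s u = 0 := by simpa using hu 1
  have hu0 : u ≠ 0 := by
    intro h0
    rw [h0, map_zero] at hxu
    exact zero_ne_one hxu
  have hus : B₁ u s = 0 := by rw [hT.sym₁, hsu]
  have hli' : LinearIndependent F ![u, s] := pair_indep_of_form B₁ hu0 hus hs
  obtain ⟨t, ht⟩ := exists_prescribed B₁ hT.nd₁ ![u, s] hli' ![0, 1]
  have hut : B₁ u t = 0 := by simpa using ht 0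
  have hst : B₁ s t = 1 := by simpa using ht 1
  obtain ⟨b, hb⟩ := exists_partner B₂ hT.nd₂ w hw0 1
  have h1 := hE (pt u b)
  rw [hy, kr_mulVec_pt, hc, Matrix.smul_mulVec, Matrix.one_mulVec, hQ0, zero_smul, sub_zero,
    LinearMap.sub_apply, Xi_pt, Xi_pt, rk_apply, rk_apply, hT.sym₂ b w, hb, hT.sym₁ u x, hxu, hus,
    one_smul, one_smul, one_smul, zero_smul, pt_zero_left, sub_zero] at h1
  have h3 := congrArg (C₁ B₁ t) h1
  rw [map_add, C₁_pt, C₁_pt, C₁_pt, map_smul, LinearMap.smul_apply, hut, smul_zero, zero_smul,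
    zero_smul, zero_add, hst, one_smul] at h3
  exact hw0 h3.symm

/-- **Maximality of `(O(U) ⊗ O(W)) ∩ Ω` in `Ω(U ⊗ W)`** (odd dimensions), in coordinates -/
theorem OT.core (hT : OT Q B₁ B₂) (h2 : (2 : F) ≠ 0) (Hy : Hyp Q)
    (hodd : Fintype.card F % 2 = 1) (hI : Fintype.card I = 3 ∨ 5 ≤ Fintype.card I)
    (hJ : 5 ≤ Fintype.card J) (hJodd : Fintype.card J % 2 = 1)
    (hq : 5 ≤ Fintype.card F ∨ 5 ≤ Fintype.card I)
    (hIJ : Fintype.card I < Fintype.card J) :
    Cfsg.Geo.IsMaximalIn (Cfsg.Geo.omegaGL ⇑Q) (krSub I J F ⊓ Cfsg.Geo.omegaGL ⇑Q) := by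
  have hI3 : 3 ≤ Fintype.card I := by
    rcases hI with h | h <;> omega
  have hL : ∀ S : Submodule F (J → F), (∀ x ∈ S, ∀ y ∈ S, B₂ x y = 0) →
      2 * finrank F S < finrank F (J → F) := by
    intro S hS
    have := finrank_add_le_of_orth B₂ hT.nd₂ S S hS
    rw [finrank_fintype_fun_eq_card] at this ⊢
    omega
  refine ⟨lt_of_le_of_ne inf_le_right ?_, ?_⟩
  · intro heq
    obtain ⟨w, hw0, hw⟩ := exists_singular B₂ hodd hT.sym₂ hT.nd₂ h2 (by
      rw [finrank_fintype_fun_eq_card]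
      omega)
    obtain ⟨s, hs⟩ := exists_nonsing B₁ hT.sym₁ hT.nd₁ h2 (by
      rw [finrank_fintype_fun_eq_card]
      omega)
    obtain ⟨x, hxo, hxs⟩ := exists_perp_not_mem_span B₁ hT.nd₁ ![s] (by
      rw [finrank_fintype_fun_eq_card]
      omega)
    have hsx : B₁ s x = 0 := by simpa using hxo 0
    have hxs' : B₁ x s = 0 := by rw [hT.sym₁, hsx]
    have hx0 : x ≠ 0 := ne_zero_of_not_mem_span hxs
    have hx : Q (pt x w) = 0 := hT.sing_right h2 x w hw
    have hxz : polar ⇑Q (pt x w) (pt s w) = 0 := by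
      rw [hT.polar_pt, hw, mul_zero]
    have hmem := eich_mem_omegaGL Hy _ _ hx hxz
    rw [← heq] at hmem
    exact hT.eich_not_mem h2 (by omega) x s w hw0 hw hs hx0 hxs' hx hxz hmem.1
  · intro M hHM hMK
    by_cases hOM : Cfsg.Geo.omegaGL ⇑Q ≤ M
    · right
      exact le_antisymm hMK hOM
    · left
      have C : Ctx hT h2 M := ⟨Hy, hodd, hI, hJ, hq, hOM, hHM, hMK⟩
      exact le_antisymm (le_inf (C.le_krSub hIJ hL) hMK) hHM

end fin

end Cfsg.Agent.Lib.Helper1.TsC
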