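import Mathlib
import Cfsg.Prelude
import Cfsg.Agent.Lib.Helper1.TsC12
import Cfsg.Agent.Lib.Helper5.SpinorHyp2

/-!
# Maximality of `O ⊗ O` in `Ω` (odd dimensions): transfer to the statement
-/

set_option autoImplicit false
set_option maxHeartbeats 4000000
set_option maxRecDepth 100000
set_option linter.unusedSimpArgs false
set_option linter.unusedVariables false
set_option linter.unusedSectionVars false
set_option linter.style.longLine false
set_option linter.deprecated false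

namespace Cfsg.Agent.Lib.Helper1.TsC

open Module QuadraticMap Matrix
open Cfsg
open Cfsg.Agent.Lib.Helper5.CartanDieudonne Cfsg.Agent.Lib.Helper5.OrthSingularMax
  Cfsg.Agent.Lib.Helper5.OrthCard Cfsg.Agent.Lib.Helper5.OrthBridge
  Cfsg.Agent.Lib.Helper5.OmegaSimple
open Cfsg.Agent.Lib.Helper5.TensorSub Cfsg.Agent.Lib.Helper5.TensorFormSub
open Cfsg.Agent.Lib.Helper1.TsA
open Cfsg.Agent.Lib.Helper1.TsB
open Cfsg.Agent.Lib.Helper8.Tns

variable {F : Type*} [Field F]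

/-- **Maximality of the stabiliser of an orthogonal tensor decomposition (both factors of odd
dimension) in `Ω`**, for a bundled quadratic form on `ι → F` -/
theorem transfer_orth [Fintype F] {ι : Type} [Fintype ι] [DecidableEq ι]
    (Qf : QuadraticForm F (ι → F)) (hQnd : (polarBilin Qf).Nondegenerate)
    (hodd : Odd (Fintype.card F)) (n₁ n₂ : ℕ) (hI : n₁ = 3 ∨ 5 ≤ n₁) (hJ : 5 ≤ n₂)
    (hJodd : n₂ % 2 = 1) (hq : 5 ≤ Fintype.card F ∨ 5 ≤ n₁) (h12 : n₁ < n₂)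
    (e : ι ≃ Fin n₁ × Fin n₂) (P : Matrix.GeneralLinearGroup ι F)
    (f₁ : (Fin n₁ → F) → (Fin n₁ → F) → F) (f₂ : (Fin n₂ → F) → (Fin n₂ → F) → F)
    (hf₁ : Cfsg.Geo.IsSymmetricForm f₁) (hf₂ : Cfsg.Geo.IsSymmetricForm f₂)
    (hT : Cfsg.Geo.IsTensorFormStructure id (QuadraticMap.polar ⇑Qf) f₁ f₂ e P) :
    Cfsg.Geo.IsMaximalIn (Cfsg.Geo.omegaGL ⇑Qf)
      (Cfsg.Geo.tensorProductSubgroup n₁ n₂ e P ⊓ Cfsg.Geo.omegaGL ⇑Qf) := by
  have h2 : (2 : F) ≠ 0 := two_ne_zero_of_odd hodd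
  have hodd' : Fintype.card F % 2 = 1 := Nat.odd_iff.mp hodd
  obtain ⟨c, hc0, hc⟩ := hT
  obtain ⟨B₁, hB₁⟩ : ∃ B₁ : LinearMap.BilinForm F (Fin n₁ → F),
      B₁ = c • bilinOf f₁ hf₁.bilinear := ⟨_, rfl⟩
  obtain ⟨B₂, hB₂⟩ : ∃ B₂ : LinearMap.BilinForm F (Fin n₂ → F),
      B₂ = bilinOf f₂ hf₂.bilinear := ⟨_, rfl⟩
  have hB₁a : ∀ x y, B₁ x y = c * f₁ x y := by
    intro x y
    rw [hB₁]
    rfl
  have hB₂a : ∀ x y, B₂ x y = f₂ x y := by
    intro x y
    rw [hB₂]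
    rfl
  have hcard : Fintype.card ι = n₁ * n₂ := by
    have := Fintype.card_congr e
    rwa [Fintype.card_prod, Fintype.card_fin, Fintype.card_fin] at this
  have hn₁3 : 3 ≤ n₁ := by
    rcases hI with h | h <;> omega
  obtain ⟨Q₀, hQ₀⟩ : ∃ Q₀ : QuadraticForm F (Fin n₁ × Fin n₂ → F),
      Q₀ = Qf.comp (embL e P) := ⟨_, rfl⟩
  have hQ₀a : ∀ v, Q₀ v = Qf (emb e P v) := by
    intro v
    rw [hQ₀]
    rfl
  have hQ₀f : ⇑Q₀ = fun v : Fin n₁ × Fin n₂ → F => Qf (emb e P v) := funext hQ₀a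
  have hpol : ∀ v v', polar ⇑Q₀ v v' = polar ⇑Qf (emb e P v) (emb e P v') := by
    intro v v'
    unfold QuadraticMap.polar
    rw [hQ₀a, hQ₀a, hQ₀a, emb_add]
  have hOT : OT Q₀ B₁ B₂ := by
    refine ⟨?_, ?_, ?_, ?_, ?_⟩
    · intro x y
      rw [hB₁a, hB₁a, hf₁.symm]
    · intro x y
      rw [hB₂a, hB₂a, hf₂.symm]
    · rw [hB₁]
      exact smul_nondeg _ (bilinOf_nondeg_symm f₁ hf₁) c hc0
    · rw [hB₂]
      exact bilinOf_nondeg_symm f₂ hf₂
    · intro u u' w w'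
      rw [hpol, hB₁a, hB₂a]
      have := form_pt (f := QuadraticMap.polar ⇑Qf) (e := e) (P := P) hf₁.bilinear hf₂.bilinear hc
        u u' w w'
      rw [mul_assoc]
      exact this
  have hQ₀nd : (polarBilin Q₀).Nondegenerate := by
    constructor
    · intro x hx
      apply emb_eq_zero (e := e) (P := P)
      apply hQnd.1
      intro y
      obtain ⟨y', rfl⟩ := emb_surjective e P y
      have := hx y'
      rw [polarBilin_apply_apply, hpol] at this
      exact this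
    · intro x hx
      apply emb_eq_zero (e := e) (P := P)
      apply hQnd.2
      intro y
      obtain ⟨y', rfl⟩ := emb_surjective e P y
      have := hx y'
      rw [polarBilin_apply_apply, hpol] at this
      exact this
  have hHy : Hyp Q₀ := hyp_of_nondeg hQ₀nd (by
    rw [Fintype.card_prod, Fintype.card_fin, Fintype.card_fin]
    have : 3 * 5 ≤ n₁ * n₂ := Nat.mul_le_mul hn₁3 hJ
    omega)
  have hcore := hOT.core h2 hHy hodd' (by rw [Fintype.card_fin]; exact hI)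
    (by rw [Fintype.card_fin]; exact hJ) (by rw [Fintype.card_fin]; exact hJodd)
    (by rw [Fintype.card_fin]; exact hq) (by rw [Fintype.card_fin, Fintype.card_fin]; exact h12)
  have hmap := Cfsg.Agent.Lib.Helper8.Tns.isMaximalIn_map (Phi e P) hcore
  rw [Subgroup.map_inf _ _ _ (Phi e P).injective, hQ₀f, omegaGL_map_Phi,
    ← Cfsg.Agent.Lib.Helper8.Tns.kroneckerSubgroup_eq, ← tensor_eq] at hmap
  exact hmap

/-- **S5681** -/
theorem main_orth_odd [Fintype F] (hodd : Odd (Fintype.card F)) (m : ℕ) (hm : 6 ≤ m)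
    (n₁ n₂ : ℕ) (h1 : 3 ≤ n₁) (h12 : n₁ < n₂) (hex : ¬ (Fintype.card F = 3 ∧ n₁ = 3))
    (e : (Unit ⊕ (Fin m ⊕ Fin m)) ≃ Fin n₁ × Fin n₂)
    (P : Matrix.GeneralLinearGroup (Unit ⊕ (Fin m ⊕ Fin m)) F)
    (f₁ : (Fin n₁ → F) → (Fin n₁ → F) → F) (f₂ : (Fin n₂ → F) → (Fin n₂ → F) → F)
    (hf₁ : Cfsg.Geo.IsSymmetricForm f₁) (hf₂ : Cfsg.Geo.IsSymmetricForm f₂)
    (hT : Cfsg.Geo.IsTensorFormStructure id (QuadraticMap.polar (Cfsg.quadFormOdd m F)) f₁ f₂
      e P) :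
    Cfsg.Geo.IsMaximalIn (Cfsg.Geo.omegaGL (Cfsg.quadFormOdd m F))
      (Cfsg.Geo.tensorProductSubgroup n₁ n₂ e P ⊓ Cfsg.Geo.omegaGL (Cfsg.quadFormOdd m F)) := by
  have h2 : (2 : F) ≠ 0 := two_ne_zero_of_odd hodd
  have hcoe : ⇑(Cfsg.Agent.Lib.Helper5.SpinorHyp2.oddForm m F) = Cfsg.quadFormOdd m F :=
    Cfsg.Agent.Lib.Helper5.SpinorHyp2.coe_oddForm m
  have hcard : 2 * m + 1 = n₁ * n₂ := by
    have := Fintype.card_congr e
    rw [Fintype.card_sum, Fintype.card_sum, Fintype.card_fin, Fintype.card_prod,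
      Fintype.card_fin, Fintype.card_fin, Fintype.card_unit] at this
    omega
  have hn₁odd : n₁ % 2 = 1 := by
    by_contra hcon
    have h0 : n₁ % 2 = 0 := by omega
    have : (n₁ * n₂) % 2 = 0 := by
      rw [Nat.mul_mod, h0]
      simp
    omega
  have hn₂odd : n₂ % 2 = 1 := by
    by_contra hcon
    have h0 : n₂ % 2 = 0 := by omega
    have : (n₁ * n₂) % 2 = 0 := by
      rw [Nat.mul_mod, h0]
      simp
    omega
  have hqodd : Fintype.card F % 2 = 1 := Nat.odd_iff.mp hodd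
  have hF1 : 1 < Fintype.card F := Fintype.one_lt_card
  rw [← hcoe] at hT ⊢
  apply transfer_orth _ (Cfsg.Agent.Lib.Helper5.SpinorHyp2.oddForm_nondegenerate h2 m) hodd n₁ n₂
    (by omega) (by omega) hn₂odd ?_ h12 e P f₁ f₂ hf₁ hf₂ hT
  by_cases hq3 : Fintype.card F = 3
  · right
    have : n₁ ≠ 3 := fun h => hex ⟨hq3, h⟩
    omega
  · left
    omega

end Cfsg.Agent.Lib.Helper1.TsC
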