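import Mathlib
import Cfsg.Agent.Lib.Helper1.TsC13

/-!
# The cone lemma and commuting invariant families in dimension at least four (all odd `q`)
-/

set_option autoImplicit false
set_option maxHeartbeats 4000000
set_option maxRecDepth 100000
set_option linter.unusedSimpArgs false
set_option linter.unusedVariables false
set_option linter.unusedSectionVars false
set_option linter.style.longLine false
set_option linter.deprecated false

namespace Cfsg.Agent.Lib.Helper1.TsC

open Module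
open Cfsg.Agent.Lib.Helper1.TsA
open Cfsg.Agent.Lib.Helper1.TsB

variable {F : Type*} [Field F] {V : Type*} [AddCommGroup V] [Module F V]
  (B : LinearMap.BilinForm F V)

/-- a second non-singular vector in the complement of a hyperbolic pair, perpendicular to a
given one -/
theorem exists_perp_hyp_pair [FiniteDimensional F V] (hS : ∀ x y, B x y = B y x)
    (hB : B.Nondegenerate) (h2 : (2 : F) ≠ 0) (hd : 4 ≤ finrank F V) (x x' z₁ : V)
    (hx : B x x = 0) (hx' : B x' x' = 0) (hxx' : B x x' = 1) (hz1 : B x z₁ = 0)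
    (hz2 : B x' z₁ = 0) (hz : B z₁ z₁ ≠ 0) :
    ∃ z₂, B x z₂ = 0 ∧ B x' z₂ = 0 ∧ B z₁ z₂ = 0 ∧ B z₂ z₂ ≠ 0 := by
  have hx'x : B x' x = 1 := by rw [hS, hxx']
  have e1 : B (x + x') (x + x') = 2 := by
    simp only [map_add, LinearMap.add_apply, hx, hx', hxx', hx'x]
    norm_num
  have e2 : B (x - x') (x - x') = -2 := by
    simp only [map_sub, LinearMap.sub_apply, hx, hx', hxx', hx'x]
    norm_num
  have e3 : B (x + x') (x - x') = 0 := by
    simp only [map_add, map_sub, LinearMap.add_apply, LinearMap.sub_apply, hx, hx', hxx', hx'x]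
    norm_num
  have e4 : B (x + x') z₁ = 0 := by
    rw [map_add, LinearMap.add_apply, hz1, hz2, add_zero]
  have e5 : B (x - x') z₁ = 0 := by
    rw [map_sub, LinearMap.sub_apply, hz1, hz2, sub_zero]
  obtain ⟨v, h1, h3, h4, hv⟩ := orth_ext3 B hS hB h2 (x + x') (x - x') z₁
    (by rw [e1]; exact h2) (by rw [e2]; exact neg_ne_zero.mpr h2) hz e3 e4 e5 hd
  rw [map_add, LinearMap.add_apply] at h1
  rw [map_sub, LinearMap.sub_apply] at h3
  have h5 : (2 : F) * B x v = 0 := by linear_combination h1 + h3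
  have h6 : B x v = 0 := by
    rcases mul_eq_zero.mp h5 with h | h
    · exact absurd h h2
    · exact h
  have h7 : B x' v = 0 := by
    rw [h6, zero_add] at h1
    exact h1
  exact ⟨v, h6, h7, h4, hv⟩

variable [FiniteDimensional F V] [Fintype F]

/-- the relations forced on a form vanishing on the singular cone, at a hyperbolic pair;
dimension at least four is enough -/
theorem cone_aux' (hodd : Fintype.card F % 2 = 1) (hS : ∀ x y, B x y = B y x)
    (hB : B.Nondegenerate) (h2 : (2 : F) ≠ 0)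
    (hq : 5 ≤ Fintype.card F ∨ 4 ≤ finrank F V) (Θ : LinearMap.BilinForm F V)
    (hΘS : ∀ x y, Θ x y = Θ y x) (h : ∀ x, B x x = 0 → Θ x x = 0) (x x' : V)
    (hx : B x x = 0) (hx' : B x' x' = 0) (hxx' : B x x' = 1) :
    ∀ z, B x z = 0 → B x' z = 0 → Θ z z = Θ x x' * B z z ∧ Θ x z = 0 := by
  rcases hq with hq | hd4
  · exact cone_aux B hodd hS hB h2 (Or.inl hq) Θ hΘS h x x' hx hx' hxx'
  have hrel : ∀ z, B x z = 0 → B x' z = 0 → ∀ t : F,
      2 * t * Θ x z + t ^ 2 * (Θ z z - Θ x x' * B z z) - t ^ 3 * (B z z * Θ z x') = 0 := by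
    intro z hz1 hz2 t
    have h1 := h _ (sing_hyp B hS h2 x x' z hx hx' hxx' hz1 hz2 t)
    obtain ⟨s, hsdef⟩ : ∃ s : F, s = t ^ 2 * B z z / 2 := ⟨_, rfl⟩
    have hs2 : 2 * s = t ^ 2 * B z z := by
      rw [hsdef]
      field_simp
    rw [← hsdef] at h1
    simp only [map_add, map_sub, map_smul, LinearMap.add_apply, LinearMap.sub_apply,
      LinearMap.smul_apply, smul_eq_mul, h x hx, h x' hx', hΘS z x, hΘS x' x, hΘS x' z] at h1
    linear_combination h1 + (Θ x x' + t * Θ z x') * hs2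
  have ha : ∀ z, B x z = 0 → B x' z = 0 → Θ z z = Θ x x' * B z z := by
    intro z hz1 hz2
    have r1 := hrel z hz1 hz2 1
    have r2 := hrel z hz1 hz2 (-1)
    have : (2 : F) * (Θ z z - Θ x x' * B z z) = 0 := by linear_combination r1 + r2
    rcases mul_eq_zero.mp this with h3 | h3
    · exact absurd h3 h2
    · exact sub_eq_zero.mp h3
  have hb : ∀ z, B x z = 0 → B x' z = 0 → 2 * Θ x z = B z z * Θ z x' := by
    intro z hz1 hz2
    have r1 := hrel z hz1 hz2 1
    have e := ha z hz1 hz2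
    linear_combination r1 - e
  have hns : ∀ z₁, B x z₁ = 0 → B x' z₁ = 0 → B z₁ z₁ ≠ 0 → Θ x z₁ = 0 := by
    intro z₁ hz1 hz2 hz
    obtain ⟨z₂, hw1, hw2, h12, hw⟩ := exists_perp_hyp_pair B hS hB h2 hd4 x x' z₁ hx hx' hxx'
      hz1 hz2 hz
    have h21 : B z₂ z₁ = 0 := by rw [hS, h12]
    have e1 := hb z₁ hz1 hz2
    have e3 := hb (z₁ + z₂) (by rw [map_add, hz1, hw1, add_zero])
      (by rw [map_add, hz2, hw2, add_zero])
    have e4 := hb (z₁ - z₂) (by rw [map_sub, hz1, hw1, sub_zero])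
      (by rw [map_sub, hz2, hw2, sub_zero])
    simp only [map_add, map_sub, LinearMap.add_apply, LinearMap.sub_apply, h12, h21] at e3 e4
    have h5 : (2 : F) * (B z₂ z₂ * Θ z₁ x') = 0 := by linear_combination 2 * e1 - e3 - e4
    have h6 : Θ z₁ x' = 0 := by
      rcases mul_eq_zero.mp h5 with h | h
      · exact absurd h h2
      · rcases mul_eq_zero.mp h with h' | h'
        · exact absurd h' hw
        · exact h'
    rw [h6, mul_zero] at e1
    rcases mul_eq_zero.mp e1 with h | h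
    · exact absurd h h2
    · exact h
  intro z hz1 hz2
  refine ⟨ha z hz1 hz2, ?_⟩
  by_cases hz : B z z = 0
  · obtain ⟨n, hn, hxn, hx'n⟩ := exists_nonsing_perp_hyp B hS hB h2 (by omega) x x' hx hx' hxx'
    have hn0 := hns n hxn hx'n hn
    by_cases hp : B (z + n) (z + n) = 0
    · have hm : B (z - n) (z - n) ≠ 0 := by
        intro hm
        apply hn
        simp only [map_add, map_sub, LinearMap.add_apply, LinearMap.sub_apply, hz, hS n z] at hp hm
        have : (2 : F) * B n n = 0 := by linear_combination hp + hm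
        rcases mul_eq_zero.mp this with h' | h'
        · exact absurd h' h2
        · exact h'
      have := hns (z - n) (by rw [map_sub, hz1, hxn, sub_zero]) (by rw [map_sub, hz2, hx'n, sub_zero])
        hm
      rw [map_sub, hn0, sub_zero] at this
      exact this
    · have := hns (z + n) (by rw [map_add, hz1, hxn, add_zero]) (by rw [map_add, hz2, hx'n, add_zero])
        hp
      rw [map_add, hn0, add_zero] at this
      exact this
  · exact hns z hz1 hz2 hz

/-- a symmetric bilinear form vanishing on the singular cone is a multiple of the form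
(dimension at least four, or `q ≥ 5`) -/
theorem cone_lemma' (hodd : Fintype.card F % 2 = 1) (hS : ∀ x y, B x y = B y x)
    (hB : B.Nondegenerate) (h2 : (2 : F) ≠ 0) (hd : 3 ≤ finrank F V)
    (hq : 5 ≤ Fintype.card F ∨ 4 ≤ finrank F V) (Θ : LinearMap.BilinForm F V)
    (hΘS : ∀ x y, Θ x y = Θ y x) (h : ∀ x, B x x = 0 → Θ x x = 0) :
    ∃ c : F, ∀ u v, Θ u v = c * B u v := by
  obtain ⟨x, hx0, hx⟩ := exists_singular B hodd hS hB h2 hd
  obtain ⟨x', hxx', hx'⟩ := singular_partner B hS hB h2 x hx0 hx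
  have hx'x : B x' x = 1 := by rw [hS, hxx']
  have h1 := cone_aux' B hodd hS hB h2 hq Θ hΘS h x x' hx hx' hxx'
  have h1' := cone_aux' B hodd hS hB h2 hq Θ hΘS h x' x hx' hx hx'x
  refine ⟨Θ x x', ?_⟩
  have hpol : ∀ z z', B x z = 0 → B x' z = 0 → B x z' = 0 → B x' z' = 0 →
      Θ z z' = Θ x x' * B z z' := by
    intro z z' hz1 hz2 hz1' hz2'
    have e1 := (h1 z hz1 hz2).1
    have e2 := (h1 z' hz1' hz2').1
    have e3 := (h1 (z + z') (by rw [map_add, hz1, hz1', add_zero])
      (by rw [map_add, hz2, hz2', add_zero])).1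
    simp only [map_add, LinearMap.add_apply, hΘS z' z, hS z' z] at e3
    have : (2 : F) * (Θ z z' - Θ x x' * B z z') = 0 := by linear_combination e3 - e1 - e2
    rcases mul_eq_zero.mp this with h3 | h3
    · exact absurd h3 h2
    · exact sub_eq_zero.mp h3
  intro u v
  obtain ⟨z, hz1, hz2, hu⟩ := hyp_decomp B hS x x' hx hx' hxx' u
  obtain ⟨z', hz1', hz2', hv⟩ := hyp_decomp B hS x x' hx hx' hxx' v
  have a1 := (h1 z hz1 hz2).2
  have a2 := (h1 z' hz1' hz2').2
  have a3 := (h1' z hz2 hz1).2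
  have a4 := (h1' z' hz2' hz1').2
  have a5 := hpol z z' hz1 hz2 hz1' hz2'
  have hzx : B z x = 0 := by rw [hS, hz1]
  have hzx' : B z x' = 0 := by rw [hS, hz2]
  generalize B u x' = α at hu
  generalize B u x = β at hu
  generalize B v x' = γ at hv
  generalize B v x = δ at hv
  rw [hu, hv]
  simp only [map_add, map_smul, LinearMap.add_apply, LinearMap.smul_apply, smul_eq_mul,
    h x hx, h x' hx', hx, hx', hxx', hx'x, hΘS x' x, hΘS z x, hΘS z x', a1, a2, a3, a4, a5,
    hz1, hz2, hz1', hz2', hzx, hzx']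
  ring

/-- **a commuting family of self-adjoint operators, invariant under conjugation by Siegel
elements, consists of scalars** -/
theorem comm_invariant_scalar' (hodd : Fintype.card F % 2 = 1) (hS : ∀ x y, B x y = B y x)
    (hB : B.Nondegenerate) (h2 : (2 : F) ≠ 0) (hd : 3 ≤ finrank F V)
    (hq : 5 ≤ Fintype.card F ∨ 4 ≤ finrank F V) (SS : Set (V →ₗ[F] V))
    (hsa : ∀ θ ∈ SS, ∀ x y, B (θ x) y = B x (θ y))
    (hcomm : ∀ θ ∈ SS, ∀ θ' ∈ SS, θ ∘ₗ θ' = θ' ∘ₗ θ)
    (hconj : ∀ θ ∈ SS, ∀ (e z : V) (he : B e e = 0) (hez : B e z = 0),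
      ((sieg B hS h2 e z he hez : V ≃ₗ[F] V) : V →ₗ[F] V) ∘ₗ θ ∘ₗ
        (((sieg B hS h2 e z he hez).symm : V ≃ₗ[F] V) : V →ₗ[F] V) ∈ SS) :
    ∀ θ ∈ SS, ∃ c : F, θ = c • LinearMap.id := by
  obtain ⟨Sg, hSgdef⟩ : ∃ Sg : Submodule F (V →ₗ[F] V), Sg = Submodule.span F SS := ⟨_, rfl⟩
  have hsub : ∀ θ ∈ SS, θ ∈ Sg := by
    intro θ hθ
    rw [hSgdef]
    exact Submodule.subset_span hθ
  have hsaG : ∀ θ ∈ Sg, ∀ x y, B (θ x) y = B x (θ y) := by
    intro θ hθ
    rw [hSgdef] at hθ
    induction hθ using Submodule.span_induction with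
    | mem v hv => exact hsa v hv
    | zero =>
      intro x y
      simp
    | add a b _ _ ha hb =>
      intro x y
      rw [LinearMap.add_apply, LinearMap.add_apply, map_add, map_add, LinearMap.add_apply, ha, hb]
    | smul c a _ ha =>
      intro x y
      rw [LinearMap.smul_apply, LinearMap.smul_apply, map_smul, map_smul, LinearMap.smul_apply, ha]
  have hcomm1 : ∀ θ ∈ SS, ∀ θ' ∈ Sg, θ ∘ₗ θ' = θ' ∘ₗ θ := by
    intro θ hθ θ' hθ'
    rw [hSgdef] at hθ'
    induction hθ' using Submodule.span_induction with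
    | mem v hv => exact hcomm θ hθ v hv
    | zero => simp
    | add a b _ _ ha hb => rw [LinearMap.comp_add, LinearMap.add_comp, ha, hb]
    | smul c a _ ha => rw [LinearMap.comp_smul, LinearMap.smul_comp, ha]
  have hcommG : ∀ θ ∈ Sg, ∀ θ' ∈ Sg, θ ∘ₗ θ' = θ' ∘ₗ θ := by
    intro θ hθ θ' hθ'
    rw [hSgdef] at hθ
    induction hθ using Submodule.span_induction with
    | mem v hv => exact hcomm1 v hv θ' hθ'
    | zero => simp
    | add a b _ _ ha hb => rw [LinearMap.comp_add, LinearMap.add_comp, ha, hb]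
    | smul c a _ ha => rw [LinearMap.comp_smul, LinearMap.smul_comp, ha]
  have hconjG : ∀ θ ∈ Sg, ∀ (e z : V) (he : B e e = 0) (hez : B e z = 0),
      ((sieg B hS h2 e z he hez : V ≃ₗ[F] V) : V →ₗ[F] V) ∘ₗ θ ∘ₗ
        (((sieg B hS h2 e z he hez).symm : V ≃ₗ[F] V) : V →ₗ[F] V) ∈ Sg := by
    intro θ hθ e z he hez
    rw [hSgdef] at hθ
    induction hθ using Submodule.span_induction with
    | mem v hv => exact hsub _ (hconj v hv e z he hez)
    | zero =>
      simp only [LinearMap.zero_comp, LinearMap.comp_zero]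
      exact Sg.zero_mem
    | add a b _ _ ha hb =>
      rw [LinearMap.add_comp, LinearMap.comp_add]
      exact Sg.add_mem ha hb
    | smul c a _ ha =>
      rw [LinearMap.smul_comp, LinearMap.comp_smul]
      exact Sg.smul_mem c ha
  -- the quadratic form of `θ` vanishes on the singular cone
  have key1 : ∀ θ ∈ Sg, ∀ x, B x x = 0 → B (θ x) x = 0 := by
    intro θ hθ x hx
    by_contra ha
    have hx0 : x ≠ 0 := by
      intro h0
      apply ha
      rw [h0]
      simp
    obtain ⟨x', hxx', hx'⟩ := singular_partner B hS hB h2 x hx0 hx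
    have hx'x : B x' x = 1 := by rw [hS, hxx']
    -- a rank one element
    have hrk : B (θ x) x • rkV B x x ∈ Sg := by
      rcases hq with hq | hq
      · obtain ⟨y, hyc, hy⟩ := exists_nonsing_perpF B hS hB h2 ![x] (by omega)
        have hxy : B x y = 0 := by simpa using hyc 0
        have h4 := poly_extract hq Sg _ _ _ _ _
          (conj_family B hS h2 Sg hconjG θ hθ x y hx hxy)
        have e : (-(B y y / 2) • rkV B x x) * θ * (-(B y y / 2) • rkV B x x) =
            ((B y y / 2) ^ 2) • (B (θ x) x • rkV B x x) := by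
          apply LinearMap.ext
          intro u
          simp only [Module.End.mul_apply, LinearMap.smul_apply, rkV_apply, map_smul, map_neg,
            LinearMap.neg_apply, smul_eq_mul, neg_smul, smul_neg, LinearMap.smul_apply]
          module
        rw [e] at h4
        have hne : (B y y / 2) ^ 2 ≠ 0 := pow_ne_zero 2 (div_ne_zero hy h2)
        have h5 := Sg.smul_mem (((B y y / 2) ^ 2)⁻¹) h4
        rwa [smul_smul, inv_mul_cancel₀ hne, one_smul] at h5
      · -- dimension at least four: combine four conjugations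
        have hd4 : 4 ≤ finrank F V := hq
        obtain ⟨y₁, hy₁, hxy₁, hx'y₁⟩ := exists_nonsing_perp_hyp B hS hB h2 (by omega) x x' hx hx'
          hxx'
        obtain ⟨y₂, hxy₂, hx'y₂, hy₁₂, hy₂⟩ := exists_perp_hyp_pair B hS hB h2 hd4 x x' y₁ hx hx'
          hxx' hxy₁ hx'y₁ hy₁
        have hy₂₁ : B y₂ y₁ = 0 := by rw [hS, hy₁₂]
        have E1 := conj_even B hS h2 Sg hconjG θ hθ x y₁ hx hxy₁
        have E2 := conj_even B hS h2 Sg hconjG θ hθ x y₂ hx hxy₂
        have E3 := conj_even B hS h2 Sg hconjG θ hθ x (y₁ + y₂) hx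
          (by rw [map_add, hxy₁, hxy₂, add_zero])
        have E4 := conj_even B hS h2 Sg hconjG θ hθ x (y₁ - y₂) hx
          (by rw [map_sub, hxy₁, hxy₂, sub_zero])
        obtain ⟨k₁, hk₁⟩ : ∃ k₁ : F, k₁ = B y₁ y₁ / 2 := ⟨_, rfl⟩
        obtain ⟨k₂, hk₂⟩ : ∃ k₂ : F, k₂ = B y₂ y₂ / 2 := ⟨_, rfl⟩
        have hb₁ : B y₁ y₁ = 2 * k₁ := by
          rw [hk₁]
          field_simp
        have hb₂ : B y₂ y₂ = 2 * k₂ := by
          rw [hk₂]
          field_simp
        have hbp : B (y₁ + y₂) (y₁ + y₂) / 2 = k₁ + k₂ := by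
          simp only [map_add, LinearMap.add_apply, hy₁₂, hy₂₁, add_zero, zero_add]
          rw [hk₁, hk₂]
          ring
        have hbm : B (y₁ - y₂) (y₁ - y₂) / 2 = k₁ + k₂ := by
          simp only [map_sub, LinearMap.sub_apply, hy₁₂, hy₂₁, sub_zero, zero_sub, sub_neg_eq_add]
          rw [hk₁, hk₂]
          ring
        rw [← hk₁] at E1
        rw [← hk₂] at E2
        rw [hbp, nOp_add_right] at E3
        rw [hbm, nOp_sub_right] at E4
        have hRR : ∀ a b : F, (a • rkV B x x) * θ * (b • rkV B x x) =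
            (a * b * B (θ x) x) • rkV B x x := by
          intro a b
          apply LinearMap.ext
          intro u
          simp only [Module.End.mul_apply, LinearMap.smul_apply, rkV_apply, map_smul, smul_eq_mul]
          module
        rw [hRR] at E1 E2 E3 E4
        have hcomb := Sg.sub_mem (Sg.sub_mem (Sg.add_mem E3 E4) (Sg.smul_mem (2 : F) E1))
          (Sg.smul_mem (2 : F) E2)
        have e : (-(k₁ + k₂) • rkV B x x * θ + θ * (-(k₁ + k₂) • rkV B x x) -
            (nOp B x y₁ + nOp B x y₂) * θ * (nOp B x y₁ + nOp B x y₂) +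
            (-(k₁ + k₂) * -(k₁ + k₂) * B (θ x) x) • rkV B x x +
            (-(k₁ + k₂) • rkV B x x * θ + θ * (-(k₁ + k₂) • rkV B x x) -
            (nOp B x y₁ - nOp B x y₂) * θ * (nOp B x y₁ - nOp B x y₂) +
            (-(k₁ + k₂) * -(k₁ + k₂) * B (θ x) x) • rkV B x x) -
            (2 : F) • (-k₁ • rkV B x x * θ + θ * (-k₁ • rkV B x x) -
              nOp B x y₁ * θ * nOp B x y₁ + (-k₁ * -k₁ * B (θ x) x) • rkV B x x) -
            (2 : F) • (-k₂ • rkV B x x * θ + θ * (-k₂ • rkV B x x) -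
              nOp B x y₂ * θ * nOp B x y₂ + (-k₂ * -k₂ * B (θ x) x) • rkV B x x)) =
            (B y₁ y₁ * B y₂ y₂) • (B (θ x) x • rkV B x x) := by
          rw [hb₁, hb₂]
          simp only [mul_add, add_mul, mul_sub, sub_mul, smul_mul_assoc, mul_smul_comm]
          module
        rw [e] at hcomb
        have hne : B y₁ y₁ * B y₂ y₂ ≠ 0 := mul_ne_zero hy₁ hy₂
        have h5 := Sg.smul_mem ((B y₁ y₁ * B y₂ y₂)⁻¹) hcomb
        rwa [smul_smul, inv_mul_cancel₀ hne, one_smul] at h5
    -- a conjugate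
    obtain ⟨z₀, hz₀, hxz₀, hx'z₀⟩ := exists_nonsing_perp_hyp B hS hB h2 hd x x' hx hx' hxx'
    have h7 := hconjG _ hrk x' z₀ hx' hx'z₀
    rw [LinearMap.smul_comp, LinearMap.comp_smul,
      conj_rkV B _ (sieg_isom B hS h2 x' z₀ hx' hx'z₀)] at h7
    obtain ⟨kx, hkxdef⟩ : ∃ kx : V, kx = sieg B hS h2 x' z₀ hx' hx'z₀ x := ⟨_, rfl⟩
    rw [← hkxdef] at h7
    have hkx : B kx x = -(B z₀ z₀ / 2) := by
      rw [hkxdef, sieg_apply]
      simp only [map_sub, map_add, map_smul, LinearMap.sub_apply, LinearMap.add_apply,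
        LinearMap.smul_apply, smul_eq_mul, hx, hxx', hx'x, hS z₀ x, hxz₀, mul_zero, mul_one,
        zero_mul, add_zero, sub_zero, zero_sub]
    have h8 := hcommG _ hrk _ h7
    have h9 := LinearMap.congr_fun h8 x
    simp only [LinearMap.comp_apply, LinearMap.smul_apply, rkV_apply, map_smul, smul_eq_mul, hx,
      zero_smul, smul_zero, hS x kx, hkx, map_zero, LinearMap.zero_apply] at h9
    have hne : B (θ x) x * B (θ x) x * (B z₀ z₀ / 2) * (B z₀ z₀ / 2) ≠ 0 := by
      have h10 : B z₀ z₀ / 2 ≠ 0 := div_ne_zero hz₀ h2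
      exact mul_ne_zero (mul_ne_zero (mul_ne_zero ha ha) h10) h10
    have h12 : (B (θ x) x * B (θ x) x * (B z₀ z₀ / 2) * (B z₀ z₀ / 2)) • x = 0 := by
      refine Eq.trans ?_ h9
      module
    rcases smul_eq_zero.mp h12 with h11 | h11
    · exact hne h11
    · exact hx0 h11
  -- conclusion
  intro θ hθ
  obtain ⟨Θ, hΘdef⟩ : ∃ Θ : LinearMap.BilinForm F V, Θ = LinearMap.comp B θ := ⟨_, rfl⟩
  have hΘa : ∀ u v, Θ u v = B (θ u) v := by
    intro u v
    rw [hΘdef]
    rfl
  have hΘS : ∀ u v, Θ u v = Θ v u := by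
    intro u v
    rw [hΘa, hΘa, hsa θ hθ, hS]
  obtain ⟨c, hc⟩ := cone_lemma' B hodd hS hB h2 hd hq Θ hΘS (fun x hx => by
    rw [hΘa]
    exact key1 θ (hsub θ hθ) x hx)
  refine ⟨c, ?_⟩
  apply LinearMap.ext
  intro u
  have : θ u - c • u = 0 := by
    apply hB.1
    intro v
    rw [map_sub, map_smul, LinearMap.sub_apply, LinearMap.smul_apply, ← hΘa, hc, smul_eq_mul,
      sub_self]
  rw [LinearMap.smul_apply, LinearMap.id_apply]
  exact sub_eq_zero.mp this

end Cfsg.Agent.Lib.Helper1.TsC
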