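import Mathlib
import Cfsg.Agent.Lib.Helper1.TsD1

/-!
# `O(U) ⊗ O(W)` with generalised hypotheses on `U` (dimension four of minus type allowed): root groups from non-zero elements of `Lw`
-/

set_option autoImplicit false
set_option maxHeartbeats 4000000
set_option maxRecDepth 100000
set_option linter.unusedSimpArgs false
set_option linter.unusedVariables false
set_option linter.unusedSectionVars false
set_option linter.style.longLine false
set_option linter.deprecated false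

namespace Cfsg.Agent.Lib.Helper1.TsC

open Module QuadraticMap Matrix
open Cfsg
open Cfsg.Agent.Lib.Helper5.CartanDieudonne Cfsg.Agent.Lib.Helper5.Siegel
  Cfsg.Agent.Lib.Helper5.QuadIsom Cfsg.Agent.Lib.Helper5.Eichler
  Cfsg.Agent.Lib.Helper5.OmegaSimple Cfsg.Agent.Lib.Helper5.OrthSingularMax
open Cfsg.Agent.Lib.Helper1.UoA
open Cfsg.Agent.Lib.Helper1.TsA
open Cfsg.Agent.Lib.Helper1.TsB
open Cfsg.Agent.Lib.Helper8.Tns

local notation "Ξ" => Cfsg.Agent.Lib.Helper1.TsA.Xi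

variable {I J : Type} [Fintype I] [DecidableEq I] [Fintype J] [DecidableEq J]
  {F : Type*} [Field F] [Fintype F]
  {Q : QuadraticForm F (I × J → F)} {B₁ : LinearMap.BilinForm F (I → F)}
  {B₂ : LinearMap.BilinForm F (J → F)}

variable {hT : OT Q B₁ B₂} {h2 : (2 : F) ≠ 0} {H : Subgroup (GL (I × J) F)}

/-- a non-zero element of `Lw` produces a full root group -/
theorem exists_start' (hH : OH hT h2 H) (hodd : Fintype.card F % 2 = 1)
    (hI3 : 3 ≤ Fintype.card I)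
    (hts : 5 ≤ Fintype.card I ∨ ∀ x l : I → F, LinearIndependent F ![x, l] → B₁ x x = 0 →
      B₁ l l = 0 → B₁ x l = 0 → False) (w : J → F) (hw0 : w ≠ 0) (hw : B₂ w w = 0)
    (L : (I → F) →ₗ[F] (I → F)) (hL : L ∈ Lw H B₂ w) (hL0 : L ≠ 0) :
    ∃ x s, x ≠ 0 ∧ B₁ x x = 0 ∧ B₁ x s = 0 ∧ B₁ s s ≠ 0 ∧
      ∀ t : F, t • nOp B₁ x s ∈ Lw H B₂ w := by
  have hsk := Lw_skew hH w hw0 hw hL
  have hd : 3 ≤ finrank F (I → F) := by
    rw [finrank_fintype_fun_eq_card]
    omega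
  obtain ⟨x, hx0, hx, hne⟩ := exists_sing_not_eigen B₁ hodd hT.sym₁ hT.nd₁ h2 hd L hsk hL0
  obtain ⟨l, hldef⟩ : ∃ l : I → F, l = L x := ⟨_, rfl⟩
  have hxl : B₁ x l = 0 := by
    have h := hsk x x
    rw [← hldef, hT.sym₁ l x] at h
    have h' : (2 : F) * B₁ x l = 0 := by linear_combination h
    rcases mul_eq_zero.mp h' with h0 | h0
    · exact absurd h0 h2
    · exact h0
  have hlx : B₁ l x = 0 := by rw [hT.sym₁, hxl]
  have hSy : ∀ y, B₁ x y = 0 → ∀ t : F,
      t • nOp B₁ x (B₁ y y • l - (2 * B₁ l y) • y) ∈ Lw H B₂ w := by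
    intro y hy
    apply Lw_F w hw h2
    intro c
    rw [hldef]
    exact Lw_double hH w hw0 hw hL x y hx hy c
  by_cases hl : B₁ l l = 0
  · -- the singular case
    have hli : LinearIndependent F ![x, l] := by
      apply pair_indep_of_not_smul hx0
      intro c
      rw [hldef]
      exact hne c
    have h5 : 5 ≤ Fintype.card I := by
      rcases hts with h5 | hno
      · exact h5
      · exact (hno x l hli hx hl hxl).elim
    obtain ⟨y₁, hy₁⟩ := exists_prescribed B₁ hT.nd₁ ![x, l] hli ![0, 1]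
    have hxy₁ : B₁ x y₁ = 0 := hy₁ 0
    have hly₁ : B₁ l y₁ = 1 := hy₁ 1
    obtain ⟨y₂, hy₂o, hy₂n⟩ := exists_nonsing_perpF B₁ hT.sym₁ hT.nd₁ h2 ![x, l]
      (by rw [finrank_fintype_fun_eq_card]; omega)
    have hxy₂ : B₁ x y₂ = 0 := hy₂o 0
    have hly₂ : B₁ l y₂ = 0 := hy₂o 1
    have hy₂l : B₁ y₂ l = 0 := by rw [hT.sym₁, hly₂]
    refine ⟨x, (2 * B₁ y₁ y₂) • l - (2 : F) • y₂, hx0, hx, ?_, ?_, ?_⟩
    · simp only [map_sub, map_smul, smul_eq_mul, hxl, hxy₂, mul_zero, sub_zero]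
    · simp only [map_sub, map_smul, LinearMap.sub_apply, LinearMap.smul_apply, smul_eq_mul, hl,
        hly₂, hy₂l, mul_zero, sub_zero, zero_sub]
      intro h
      apply hy₂n
      have h4 : (4 : F) ≠ 0 := by
        have : (4 : F) = 2 * 2 := by norm_num
        rw [this]
        exact mul_ne_zero h2 h2
      have h' : (4 : F) * B₁ y₂ y₂ = 0 := by linear_combination h
      rcases mul_eq_zero.mp h' with h0 | h0
      · exact absurd h0 h4
      · exact h0
    · intro t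
      have hxy₁₂ : B₁ x (y₁ + y₂) = 0 := by rw [map_add, hxy₁, hxy₂, add_zero]
      have e : (2 * B₁ y₁ y₂) • l - (2 : F) • y₂ =
          (B₁ (y₁ + y₂) (y₁ + y₂) • l - (2 * B₁ l (y₁ + y₂)) • (y₁ + y₂)) -
          (B₁ y₁ y₁ • l - (2 * B₁ l y₁) • y₁) - (B₁ y₂ y₂ • l - (2 * B₁ l y₂) • y₂) := by
        simp only [map_add, LinearMap.add_apply, hly₁, hly₂, hT.sym₁ y₂ y₁]
        module
      rw [e, nOp_sub_right, nOp_sub_right]
      have e'' : ∀ X₁ X₂ X₃ : (I → F) →ₗ[F] (I → F), t • (X₁ - X₂ - X₃) = t • X₁ - t • X₂ - t • X₃ := by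
        intro X₁ X₂ X₃
        module
      rw [e'']
      exact Lw_sub w hw (Lw_sub w hw (hSy _ hxy₁₂ t) (hSy _ hxy₁ t)) (hSy _ hxy₂ t)
  · -- the non-singular case
    obtain ⟨y, hyo, hyn⟩ := exists_nonsing_perpF B₁ hT.sym₁ hT.nd₁ h2 ![x]
      (by rw [finrank_fintype_fun_eq_card]; omega)
    have hxy : B₁ x y = 0 := hyo 0
    refine ⟨x, B₁ y y • l - (2 * B₁ l y) • y, hx0, hx, ?_, ?_, hSy y hxy⟩
    · simp only [map_sub, map_smul, smul_eq_mul, hxl, hxy, mul_zero, sub_zero]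
    · simp only [map_sub, map_smul, LinearMap.sub_apply, LinearMap.smul_apply, smul_eq_mul]
      rw [hT.sym₁ y l]
      intro h
      have h' : B₁ y y * B₁ y y * B₁ l l = 0 := by linear_combination h
      rcases mul_eq_zero.mp h' with h0 | h0
      · rcases mul_eq_zero.mp h0 with h1 | h1
        · exact hyn h1
        · exact hyn h1
      · exact hl h0


/-- **(ZW)**: in an overgroup not containing `Ω`, elements `1 + L ⊗ (w wᵀ)` with `w` singular are
trivial -/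
theorem ZW' (hH : OH hT h2 H) (Hy : Hyp Q) (hodd : Fintype.card F % 2 = 1)
    (hI3 : 3 ≤ Fintype.card I)
    (hts : 5 ≤ Fintype.card I ∨ ∀ x l : I → F, LinearIndependent F ![x, l] → B₁ x x = 0 →
      B₁ l l = 0 → B₁ x l = 0 → False) (hJ : 3 ≤ Fintype.card J)
    (hnot : ¬ Cfsg.Geo.omegaGL ⇑Q ≤ H) (w : J → F) (hw0 : w ≠ 0) (hw : B₂ w w = 0)
    (L : (I → F) →ₗ[F] (I → F)) (g : GL (I × J) F) (hgH : g ∈ H)
    (hgA : Acts g (Ξ B₂ L w w)) : L = 0 := by
  by_contra hL0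
  apply hnot
  obtain ⟨x, s, hx0, hx, hxs, hss, hall⟩ := exists_start' hH hodd hI3 hts w hw0 hw L ⟨g, hgH, hgA⟩ hL0
  apply (mkOD hT h2 hodd H hH hI3 hJ).omega_le Hy x s w hx0 hw0 hx hw hxs hss
  intro c
  have hq : Q (pt x w) = 0 := hT.sing_right h2 x w hw
  have hp : polar ⇑Q (pt x w) (pt (c • s) w) = 0 := by
    rw [hT.polar_pt, hw, mul_zero]
  have hp' : polar ⇑Q (pt x w) (c • pt s w) = 0 := by
    rw [← pt_smul_left]
    exact hp
  refine ⟨hq, hp', ?_⟩
  obtain ⟨g', hg', hgA'⟩ := hall (-c)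
  have hE := hT.Acts_eich x (c • s) w w hq hp
  have e1 : Ξ B₂ (rk B₁ (c • s) x) w w - Ξ B₂ (rk B₁ x (c • s)) w w -
      Q (pt (c • s) w) • Ξ B₂ (rk B₁ x x) w w = Ξ B₂ ((-c) • nOp B₁ x s) w w := by
    rw [hT.sing_right h2 (c • s) w hw, zero_smul, sub_zero, ← Xi_sub_left]
    congr 1
    apply LinearMap.ext
    intro u
    simp only [LinearMap.sub_apply, LinearMap.smul_apply, rk_apply, nOp_apply, map_smul,
      smul_eq_mul]
    module
  rw [e1] at hE
  have e2 : eich Q (pt x w) (c • pt s w) hq hp' = eich Q (pt x w) (pt (c • s) w) hq hp :=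
    eich_congr rfl (pt_smul_left c s w).symm hq hp' hq hp
  show ((eich Q (ptB x w) (c • ptB s w) hq hp' : ↥(isometryGroup F ⇑Q)) : GL (I × J) F) ∈ H
  have e3 : ((eich Q (pt x w) (pt (c • s) w) hq hp : ↥(isometryGroup F ⇑Q)) : GL (I × J) F) = g' :=
    hE.ext hgA'
  have e4 : ((eich Q (ptB x w) (c • ptB s w) hq hp' : ↥(isometryGroup F ⇑Q)) : GL (I × J) F) =
      ((eich Q (pt x w) (c • pt s w) hq hp' : ↥(isometryGroup F ⇑Q)) : GL (I × J) F) := rfl
  rw [e4, e2, e3]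
  exact hg'


end Cfsg.Agent.Lib.Helper1.TsC
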