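import Mathlib
import Cfsg.Agent.Lib.Helper1.TsD2

/-!
# `O(U) ⊗ O(W)` with generalised hypotheses on `U` (dimension four of minus type allowed): the context, pure slopes
-/

set_option autoImplicit false
set_option maxHeartbeats 4000000
set_option maxRecDepth 100000
set_option linter.unusedSimpArgs false
set_option linter.unusedVariables false
set_option linter.unusedSectionVars false
set_option linter.style.longLine false
set_option linter.deprecated false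

namespace Cfsg.Agent.Lib.Helper1.TsC

open Module QuadraticMap Matrix
open Cfsg
open Cfsg.Agent.Lib.Helper5.CartanDieudonne Cfsg.Agent.Lib.Helper5.Siegel
  Cfsg.Agent.Lib.Helper5.QuadIsom Cfsg.Agent.Lib.Helper5.Eichler
  Cfsg.Agent.Lib.Helper5.OmegaSimple Cfsg.Agent.Lib.Helper5.OrthSingularMax
open Cfsg.Agent.Lib.Helper1.UoA
open Cfsg.Agent.Lib.Helper1.TsA
open Cfsg.Agent.Lib.Helper1.TsB
open Cfsg.Agent.Lib.Helper8.Tns

local notation "Ξ" => Cfsg.Agent.Lib.Helper1.TsA.Xi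

variable {I J : Type} [Fintype I] [DecidableEq I] [Fintype J] [DecidableEq J]
  {F : Type*} [Field F] [Fintype F]
  {Q : QuadraticForm F (I × J → F)} {B₁ : LinearMap.BilinForm F (I → F)}
  {B₂ : LinearMap.BilinForm F (J → F)}

/-- the standing hypotheses (generalised): a proper overgroup `H` of `(O(U) ⊗ O(W)) ∩ Ω` inside
`Ω`; `U` of dimension three, or at least five, or of dimension four without totally singular
lines -/
structure Ctq (hT : OT Q B₁ B₂) (h2 : (2 : F) ≠ 0) (H : Subgroup (GL (I × J) F)) : Prop where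
  Hy : Hyp Q
  hodd : Fintype.card F % 2 = 1
  hI3 : 3 ≤ Fintype.card I
  hts : 5 ≤ Fintype.card I ∨ ∀ x l : I → F, LinearIndependent F ![x, l] → B₁ x x = 0 →
    B₁ l l = 0 → B₁ x l = 0 → False
  hJ : 5 ≤ Fintype.card J
  hq : 5 ≤ Fintype.card F ∨ 4 ≤ Fintype.card I
  hnot : ¬ Cfsg.Geo.omegaGL ⇑Q ≤ H
  hMH : krSub I J F ⊓ Cfsg.Geo.omegaGL ⇑Q ≤ H
  hHO : H ≤ Cfsg.Geo.omegaGL ⇑Q

variable {hT : OT Q B₁ B₂} {h2 : (2 : F) ≠ 0} {H : Subgroup (GL (I × J) F)}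

theorem Ctq.oh (C : Ctq hT h2 H) : OH hT h2 H where
  memU := fun e z he hez => C.hMH ⟨krL_mem _ _, hT.sieg_left_mem h2 C.Hy e z he hez⟩
  memW := fun e z he hez => C.hMH ⟨krL_mem _ _, hT.sieg_right_mem h2 C.Hy e z he hez⟩
  iso := fun g hg => isoQ_of_mem_omegaGL (C.hHO hg)

theorem Ctq.dU (C : Ctq hT h2 H) : 3 ≤ finrank F (I → F) := by
  rw [finrank_fintype_fun_eq_card]
  exact C.hI3

theorem Ctq.dW (C : Ctq hT h2 H) : 5 ≤ finrank F (J → F) := by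
  rw [finrank_fintype_fun_eq_card]
  exact C.hJ

theorem Ctq.ZW (C : Ctq hT h2 H) (w : J → F) (hw0 : w ≠ 0) (hw : B₂ w w = 0)
    (L : (I → F) →ₗ[F] (I → F)) (g : GL (I × J) F) (hgH : g ∈ H)
    (hgA : Acts g (Ξ B₂ L w w)) : L = 0 :=
  TsC.ZW' C.oh C.Hy C.hodd C.hI3 C.hts (by have := C.hJ; omega) C.hnot w hw0 hw L g hgH hgA

/-- an element of `H` fixing `U ⊗ w^⊥` pointwise is trivial -/
theorem Ctq.fix_perp (C : Ctq hT h2 H) (w : J → F) (hw0 : w ≠ 0) (hw : B₂ w w = 0)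
    (ζ : GL (I × J) F) (hζH : ζ ∈ H)
    (hfix : ∀ (x : I → F) (a : J → F), B₂ w a = 0 →
      (ζ : Matrix (I × J) (I × J) F) *ᵥ pt x a = pt x a) : ζ = 1 := by
  obtain ⟨ws, hws⟩ := exists_partner B₂ hT.nd₂ w hw0 1
  have hζ := (C.oh.iso ζ hζH).polar_eq
  have hd : ∀ x : I → F, ∃ x' : I → F,
      (ζ : Matrix (I × J) (I × J) F) *ᵥ pt x ws - pt x ws = pt x' w := by
    intro x
    apply hT.exists_pt_of_C₂_zero hw0
    intro z hz
    apply hT.eq_of_B₁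
    intro q
    rw [map_zero, LinearMap.zero_apply, ← hT.polar_pt_right, polar_sub_left]
    have := hζ (pt x ws) (pt q z)
    rw [hfix q z hz] at this
    rw [this, sub_self]
  obtain ⟨τ, hτdef⟩ : ∃ τ : (I → F) →ₗ[F] (I → F), τ =
      C₂ B₂ ws ∘ₗ (Matrix.mulVecLin (ζ : Matrix (I × J) (I × J) F) - LinearMap.id) ∘ₗ
        ptL ws := ⟨_, rfl⟩
  have hτ : ∀ x, (ζ : Matrix (I × J) (I × J) F) *ᵥ pt x ws = pt x ws + pt (τ x) w := by
    intro x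
    obtain ⟨x', hx'⟩ := hd x
    have e1 : τ x = x' := by
      rw [hτdef]
      simp only [LinearMap.comp_apply, LinearMap.sub_apply, ptL_apply,
        Matrix.mulVecLin_apply, LinearMap.id_apply]
      rw [hx', C₂_pt, hws, one_smul]
    rw [e1, ← hx']
    abel
  have hζA : Acts ζ (Ξ B₂ τ w w) := by
    apply Acts_of_pt
    intro x w'
    have e1 : w' = (w' - B₂ w w' • ws) + B₂ w w' • ws := by abel
    have e2 : B₂ w (w' - B₂ w w' • ws) = 0 := by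
      rw [map_sub, map_smul, hws, smul_eq_mul, mul_one, sub_self]
    have e3 : pt x w' = pt x (w' - B₂ w w' • ws) + B₂ w w' • pt x ws := by
      rw [← pt_smul_right, ← pt_add_right, ← e1]
    rw [Xi_pt]
    calc (ζ : Matrix (I × J) (I × J) F) *ᵥ pt x w'
        = (ζ : Matrix (I × J) (I × J) F) *ᵥ
            (pt x (w' - B₂ w w' • ws) + B₂ w w' • pt x ws) := by rw [← e3]
      _ = pt x (w' - B₂ w w' • ws) + B₂ w w' • (pt x ws + pt (τ x) w) := by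
          rw [Matrix.mulVec_add, Matrix.mulVec_smul, hfix x _ e2, hτ x]
      _ = (pt x (w' - B₂ w w' • ws) + B₂ w w' • pt x ws) + B₂ w w' • pt (τ x) w := by module
      _ = pt x w' + B₂ w' w • pt (τ x) w := by
          rw [← e3, hT.sym₂ w' w]
  have hτ0 := C.ZW w hw0 hw τ ζ hζH hζA
  apply hζA.ext
  apply Acts_one.congr
  rw [hτ0]
  apply LinearMap.ext
  intro v
  rw [Xi_apply]
  simp [pt_zero_left]

/-- slopes of radical elements are self-adjoint -/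
theorem Ctq.slope_selfadj (C : Ctq hT h2 H) (w w₁ : J → F) (hw0 : w ≠ 0)
    (hw : B₂ w w = 0) (hww₁ : B₂ w w₁ = 0) (g : GL (I × J) F) (hgH : g ∈ H)
    (θ : (I → F) →ₗ[F] (I → F))
    (hgw : ∀ x, (g : Matrix (I × J) (I × J) F) *ᵥ pt x w = pt x w)
    (hg1 : ∀ x, (g : Matrix (I × J) (I × J) F) *ᵥ pt x w₁ = pt x w₁ + pt (θ x) w) :
    ∀ x y, B₁ (θ x) y = B₁ x (θ y) := by
  have hg := (C.oh.iso g hgH).polar_eq
  have hw₁w : B₂ w₁ w = 0 := by rw [hT.sym₂, hww₁]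
  have hsH : krL (1 : (I → F) ≃ₗ[F] (I → F)) (sieg B₂ hT.sym₂ h2 w w₁ hw hww₁) ∈ H :=
    C.oh.memW w w₁ hw hww₁
  have hs := Acts_krL_sieg (I := I) hT.sym₂ h2 w w₁ hw hww₁
  have hC2w : ∀ v, C₂ B₂ w ((g : Matrix (I × J) (I × J) F) *ᵥ v) = C₂ B₂ w v := by
    intro v
    apply hT.eq_of_B₁
    intro q
    rw [← hT.polar_pt_right, ← hT.polar_pt_right]
    have := hg v (pt q w)
    rw [hgw q] at this
    exact this
  have hC2w₁ : ∀ v, C₂ B₂ w₁ ((g : Matrix (I × J) (I × J) F) *ᵥ v) =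
      C₂ B₂ w₁ v - adj B₁ hT.nd₁ θ (C₂ B₂ w v) := by
    intro v
    apply hT.eq_of_B₁
    intro q
    rw [map_sub, LinearMap.sub_apply, adj_apply, ← hT.polar_pt_right, ← hT.polar_pt_right,
      ← hT.polar_pt_right]
    have e1 : pt q w₁ = (g : Matrix (I × J) (I × J) F) *ᵥ (pt q w₁ - pt (θ q) w) := by
      rw [Matrix.mulVec_sub, hg1 q, hgw (θ q)]
      abel
    have e2 : polar ⇑Q ((g : Matrix (I × J) (I × J) F) *ᵥ v) (pt q w₁) =
        polar ⇑Q ((g : Matrix (I × J) (I × J) F) *ᵥ v)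
          ((g : Matrix (I × J) (I × J) F) *ᵥ (pt q w₁ - pt (θ q) w)) := by rw [← e1]
    rw [e2, hg, polar_sub_right]
  have hconj : Acts (g * krL (1 : (I → F) ≃ₗ[F] (I → F)) (sieg B₂ hT.sym₂ h2 w w₁ hw hww₁) * g⁻¹)
      ((Ξ B₂ LinearMap.id w w₁ - Ξ B₂ LinearMap.id w₁ w -
        (B₂ w₁ w₁ / 2) • Ξ B₂ LinearMap.id w w) + Ξ B₂ (adj B₁ hT.nd₁ θ - θ) w w) := by
    apply hs.conj
    intro v
    simp only [LinearMap.add_apply, LinearMap.sub_apply, LinearMap.smul_apply, Xi_apply, hC2w,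
      hC2w₁, LinearMap.id_apply, map_sub, pt_sub_left, Matrix.mulVec_sub, Matrix.mulVec_smul,
      Matrix.mulVec_add, hgw, hg1]
    module
  have hZN : Ξ B₂ (adj B₁ hT.nd₁ θ - θ) w w ∘ₗ
      (Ξ B₂ LinearMap.id w w₁ - Ξ B₂ LinearMap.id w₁ w -
        (B₂ w₁ w₁ / 2) • Ξ B₂ LinearMap.id w w) = 0 := by
    simp only [LinearMap.comp_sub, LinearMap.comp_smul, Xi_comp, hw, hw₁w, zero_smul, smul_zero,
      sub_zero]
  have hζ := Acts.div_right hconj hs hZN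
  have hζH : g * krL (1 : (I → F) ≃ₗ[F] (I → F)) (sieg B₂ hT.sym₂ h2 w w₁ hw hww₁) * g⁻¹ *
      (krL (1 : (I → F) ≃ₗ[F] (I → F)) (sieg B₂ hT.sym₂ h2 w w₁ hw hww₁))⁻¹ ∈ H :=
    H.mul_mem (H.mul_mem (H.mul_mem hgH hsH) (H.inv_mem hgH)) (H.inv_mem hsH)
  have h0 := C.ZW w hw0 hw _ _ hζH hζ
  intro x y
  have e : adj B₁ hT.nd₁ θ = θ := sub_eq_zero.mp h0
  have := adj_apply B₁ hT.nd₁ θ x y
  rw [e] at this
  exact this

theorem Ctq.PureS_selfadj (C : Ctq hT h2 H) (w w₂ : J → F) (hw0 : w ≠ 0) (hw : B₂ w w = 0)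
    (hli : LinearIndependent F ![w, w₂]) (θ : (I → F) →ₗ[F] (I → F))
    (hθ : θ ∈ PureS H B₂ w w₂) : ∀ x y, B₁ (θ x) y = B₁ x (θ y) := by
  obtain ⟨g, hgH, hR⟩ := hθ
  obtain ⟨a, ha⟩ := exists_prescribed B₂ hT.nd₂ ![w, w₂] hli ![0, 1]
  have hwa : B₂ w a = 0 := ha 0
  have hw₂a : B₂ w₂ a = 1 := ha 1
  have haw₂ : B₂ a w₂ = 1 := by rw [hT.sym₂, hw₂a]
  apply C.slope_selfadj w a hw0 hw hwa g hgH θ hR.1
  intro x
  have := hR.2 a hwa x
  beta_reduce at this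
  rw [haw₂, one_smul] at this
  exact this

theorem Ctq.PureS_conjU (C : Ctq hT h2 H) (w w₂ : J → F) (e z : I → F) (he : B₁ e e = 0)
    (hez : B₁ e z = 0) (θ : (I → F) →ₗ[F] (I → F)) (hθ : θ ∈ PureS H B₂ w w₂) :
    ((sieg B₁ hT.sym₁ h2 e z he hez : (I → F) ≃ₗ[F] (I → F)) : (I → F) →ₗ[F] (I → F)) ∘ₗ θ ∘ₗ
      (((sieg B₁ hT.sym₁ h2 e z he hez).symm : (I → F) ≃ₗ[F] (I → F)) :
        (I → F) →ₗ[F] (I → F)) ∈ PureS H B₂ w w₂ := by
  obtain ⟨g, hgH, hR⟩ := hθ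
  have hm := C.oh.memU e z he hez
  refine ⟨_, H.mul_mem (H.mul_mem hm hgH) (H.inv_mem hm), ?_⟩
  apply (hR.conjU (sieg B₁ hT.sym₁ h2 e z he hez)).congr
  intro a _
  rw [LinearMap.smul_comp, LinearMap.comp_smul]

theorem Ctq.PureS_conjW (C : Ctq hT h2 H) (w w₂ : J → F) (e z : J → F) (he : B₂ e e = 0)
    (hez : B₂ e z = 0) (hwe : B₂ w e = 0) (hwz : B₂ w z = 0)
    (θ : (I → F) →ₗ[F] (I → F)) (hθ : θ ∈ PureS H B₂ w w₂) :
    θ ∈ PureS H B₂ w (sieg B₂ hT.sym₂ h2 e z he hez w₂) := by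
  obtain ⟨g, hgH, hR⟩ := hθ
  have hm := C.oh.memW e z he hez
  have hτw : sieg B₂ hT.sym₂ h2 e z he hez w = w := by
    rw [sieg_apply, hwe, hwz]
    simp
  refine ⟨_, H.mul_mem (H.mul_mem hm hgH) (H.inv_mem hm), ?_⟩
  apply (hR.conjW (sieg B₂ hT.sym₂ h2 e z he hez) (sieg_isom B₂ hT.sym₂ h2 e z he hez) hτw).congr
  intro a _
  rw [isom_symm_apply B₂ _ (sieg_isom B₂ hT.sym₂ h2 e z he hez)]

/-- the image of `x ⊗ ws` under a pure radical element -/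
theorem Ctq.pure_ws (C : Ctq hT h2 H) (w ws w₂ : J → F) (hw0 : w ≠ 0) (hws : B₂ w ws = 1)
    (g : GL (I × J) F) (hgH : g ∈ H) (θ : (I → F) →ₗ[F] (I → F))
    (hsa : ∀ x y, B₁ (θ x) y = B₁ x (θ y)) (hR : Rad B₂ w g (fun a => B₂ a w₂ • θ))
    (x : I → F) : ∃ c : I → F,
      (g : Matrix (I × J) (I × J) F) *ᵥ pt x ws = pt x ws - pt (θ x) w₂ + pt c w := by
  have hg := (C.oh.iso g hgH).polar_eq
  have hwsw : B₂ ws w = 1 := by rw [hT.sym₂, hws]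
  have : ∃ c : I → F, (g : Matrix (I × J) (I × J) F) *ᵥ pt x ws - pt x ws + pt (θ x) w₂ =
      pt c w := by
    apply hT.exists_pt_of_C₂_zero hw0
    intro z hz
    apply hT.eq_of_B₁
    intro q
    rw [map_zero, LinearMap.zero_apply, ← hT.polar_pt_right, polar_add_left, polar_sub_left]
    have h1 := hg (pt x ws) (pt q z)
    rw [hR.2 z hz q, LinearMap.smul_apply, pt_smul_left, polar_add_right, polar_smul_right] at h1
    have h3 := hg (pt x ws) (pt (θ q) w)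
    rw [hR.1] at h3
    rw [h3] at h1
    simp only [hT.polar_pt, hwsw, mul_one, smul_eq_mul] at h1 ⊢
    rw [hsa x q, hT.sym₂ w₂ z]
    linear_combination h1
  obtain ⟨c, hc⟩ := this
  refine ⟨c, ?_⟩
  rw [← hc]
  abel

/-- pure radical elements in two non-orthogonal directions have commuting slopes -/
theorem Ctq.PureS_comm (C : Ctq hT h2 H) (w w₂ w₂' : J → F) (hw0 : w ≠ 0) (hw : B₂ w w = 0)
    (hww₂ : B₂ w w₂ = 0) (hww₂' : B₂ w w₂' = 0) (hne : B₂ w₂ w₂' ≠ 0)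
    (θ θ' : (I → F) →ₗ[F] (I → F))
    (hsa : ∀ x y, B₁ (θ x) y = B₁ x (θ y)) (hsa' : ∀ x y, B₁ (θ' x) y = B₁ x (θ' y))
    (hθ : θ ∈ PureS H B₂ w w₂) (hθ' : θ' ∈ PureS H B₂ w w₂') : θ ∘ₗ θ' = θ' ∘ₗ θ := by
  obtain ⟨g, hgH, hR⟩ := hθ
  obtain ⟨g', hg'H, hR'⟩ := hθ'
  obtain ⟨ws, hws⟩ := exists_partner B₂ hT.nd₂ w hw0 1
  -- `g g'` and `g' g` agree on `U ⊗ w^⊥`
  have hcomm : g * g' = g' * g := by
    have h1 := C.fix_perp w hw0 hw ((g' * g)⁻¹ * (g * g'))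
      (H.mul_mem (H.inv_mem (H.mul_mem hg'H hgH)) (H.mul_mem hgH hg'H)) (by
        intro x a ha
        have e : ((g * g' : GL (I × J) F) : Matrix (I × J) (I × J) F) *ᵥ pt x a =
            ((g' * g : GL (I × J) F) : Matrix (I × J) (I × J) F) *ᵥ pt x a := by
          have e1 := (hR.mul hR').2 a ha x
          have e2 := (hR'.mul hR).2 a ha x
          beta_reduce at e1 e2
          rw [e1, e2, add_comm (B₂ a w₂ • θ)]
        rw [Units.val_mul, ← Matrix.mulVec_mulVec, e, inv_mulVec_mulVec])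
    have := congrArg (fun t => (g' * g) * t) h1
    simp only [mul_inv_cancel_left, mul_one] at this
    exact this
  apply LinearMap.ext
  intro x
  obtain ⟨c, hc⟩ := C.pure_ws w ws w₂ hw0 hws g hgH θ hsa hR x
  obtain ⟨c', hc'⟩ := C.pure_ws w ws w₂' hw0 hws g' hg'H θ' hsa' hR' x
  have e1 : ((g * g' : GL (I × J) F) : Matrix (I × J) (I × J) F) *ᵥ pt x ws =
      pt x ws - pt (θ x) w₂ + pt c w - (pt (θ' x) w₂' + B₂ w₂' w₂ • pt (θ (θ' x)) w) +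
        pt c' w := by
    rw [Units.val_mul, ← Matrix.mulVec_mulVec, hc', Matrix.mulVec_add, Matrix.mulVec_sub, hc,
      hR.2 w₂' hww₂', hR.1, LinearMap.smul_apply, pt_smul_left]
  have e2 : ((g' * g : GL (I × J) F) : Matrix (I × J) (I × J) F) *ᵥ pt x ws =
      pt x ws - pt (θ' x) w₂' + pt c' w - (pt (θ x) w₂ + B₂ w₂ w₂' • pt (θ' (θ x)) w) +
        pt c w := by
    rw [Units.val_mul, ← Matrix.mulVec_mulVec, hc, Matrix.mulVec_add, Matrix.mulVec_sub, hc',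
      hR'.2 w₂ hww₂, hR'.1, LinearMap.smul_apply, pt_smul_left]
  rw [hcomm, e2, hT.sym₂ w₂' w₂] at e1
  have e3 : B₂ w₂ w₂' • pt (θ (θ' x)) w = B₂ w₂ w₂' • pt (θ' (θ x)) w := by
    have := congrArg (fun t => t - (pt x ws - pt (θ' x) w₂' + pt c' w - pt (θ x) w₂ + pt c w)) e1
    beta_reduce at this
    have e4 : pt x ws - pt (θ' x) w₂' + pt c' w - (pt (θ x) w₂ + B₂ w₂ w₂' • pt (θ' (θ x)) w) +
        pt c w - (pt x ws - pt (θ' x) w₂' + pt c' w - pt (θ x) w₂ + pt c w) =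
        -(B₂ w₂ w₂' • pt (θ' (θ x)) w) := by abel
    have e5 : pt x ws - pt (θ x) w₂ + pt c w - (pt (θ' x) w₂' + B₂ w₂ w₂' • pt (θ (θ' x)) w) +
        pt c' w - (pt x ws - pt (θ' x) w₂' + pt c' w - pt (θ x) w₂ + pt c w) =
        -(B₂ w₂ w₂' • pt (θ (θ' x)) w) := by abel
    rw [e4, e5] at this
    exact (neg_injective this).symm
  have e6 : pt (θ (θ' x)) w = pt (θ' (θ x)) w := smul_right_injective _ hne e3
  exact pt_left_injective hw0 e6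

/-- a Siegel element of `w^⊥` moving `w₂` to a non-orthogonal vector -/
theorem Ctq.exists_move_nonorth (C : Ctq hT h2 H) (w w₂ : J → F) (hw : B₂ w w = 0)
    (hw₂ : B₂ w₂ w₂ = 0) (hww₂ : B₂ w w₂ = 0) (hli : LinearIndependent F ![w, w₂]) :
    ∃ (e z : J → F) (he : B₂ e e = 0) (hez : B₂ e z = 0), B₂ w e = 0 ∧ B₂ w z = 0 ∧
      B₂ w₂ (sieg B₂ hT.sym₂ h2 e z he hez w₂) ≠ 0 := by
  obtain ⟨e₀, he₀⟩ := exists_prescribed B₂ hT.nd₂ ![w, w₂] hli ![0, 1]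
  have hwe₀ : B₂ w e₀ = 0 := he₀ 0
  have hw₂e₀ : B₂ w₂ e₀ = 1 := he₀ 1
  have he₀w₂ : B₂ e₀ w₂ = 1 := by rw [hT.sym₂, hw₂e₀]
  obtain ⟨hh, hhdef⟩ : ∃ hh : F, hh = B₂ e₀ e₀ / 2 := ⟨_, rfl⟩
  have hβ : B₂ e₀ e₀ = 2 * hh := by
    rw [hhdef]
    field_simp
  obtain ⟨e, hedef⟩ : ∃ e : J → F, e = e₀ - hh • w₂ := ⟨_, rfl⟩
  have he : B₂ e e = 0 := by
    rw [hedef]
    simp only [map_sub, map_smul, LinearMap.sub_apply, LinearMap.smul_apply, smul_eq_mul, hw₂,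
      he₀w₂, hw₂e₀, hβ]
    ring
  have hwe : B₂ w e = 0 := by
    rw [hedef, map_sub, map_smul, hwe₀, hww₂, smul_zero, sub_zero]
  have hw₂e : B₂ w₂ e = 1 := by
    rw [hedef, map_sub, map_smul, hw₂e₀, hw₂, smul_zero, sub_zero]
  obtain ⟨z, hzo, hzn⟩ := exists_nonsing_perpF B₂ hT.sym₂ hT.nd₂ h2 ![e, w]
    (by have := C.dW; omega)
  have hez : B₂ e z = 0 := hzo 0
  have hwz : B₂ w z = 0 := hzo 1
  refine ⟨e, z, he, hez, hwe, hwz, ?_⟩
  rw [sieg_apply]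
  simp only [map_sub, map_add, map_smul, smul_eq_mul, hw₂, hw₂e, mul_one]
  intro h
  apply hzn
  have h' : B₂ z z / 2 = 0 := by linear_combination -h
  rcases div_eq_zero_iff.mp h' with h0 | h0
  · exact h0
  · exact absurd h0 h2

/-- pure slopes are scalar -/
theorem Ctq.PureS_scalar (C : Ctq hT h2 H) (w w₂ : J → F) (hw0 : w ≠ 0) (hw : B₂ w w = 0)
    (hw₂ : B₂ w₂ w₂ = 0) (hww₂ : B₂ w w₂ = 0) (hli : LinearIndependent F ![w, w₂])
    (θ : (I → F) →ₗ[F] (I → F)) (hθ : θ ∈ PureS H B₂ w w₂) : ∃ c : F, θ = c • LinearMap.id := by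
  obtain ⟨e, z, he, hez, hwe, hwz, hne⟩ := C.exists_move_nonorth w w₂ hw hw₂ hww₂ hli
  have hq : 5 ≤ Fintype.card F ∨ 4 ≤ finrank F (I → F) := by
    rw [finrank_fintype_fun_eq_card]
    exact C.hq
  have hww₂' : B₂ w (sieg B₂ hT.sym₂ h2 e z he hez w₂) = 0 := by
    rw [sieg_apply]
    simp only [map_sub, map_add, map_smul, hww₂, hwe, hwz, smul_zero, add_zero, sub_zero]
  apply comm_invariant_scalar' B₁ C.hodd hT.sym₁ hT.nd₁ h2 C.dU hq (PureS H B₂ w w₂)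
    (fun θ hθ => C.PureS_selfadj w w₂ hw0 hw hli θ hθ)
    (fun θ hθ θ' hθ' => C.PureS_comm w w₂ _ hw0 hw hww₂ hww₂' hne θ θ'
      (C.PureS_selfadj w w₂ hw0 hw hli θ hθ) (C.PureS_selfadj w w₂ hw0 hw hli θ' hθ') hθ
      (C.PureS_conjW w w₂ e z he hez hwe hwz θ' hθ'))
    (fun θ hθ e' z' he' hez' => C.PureS_conjU w w₂ e' z' he' hez' θ hθ) θ hθ

/-- purification: the slope at a singular `w₂ ⊥ w` of a radical element is, up to a non-zero
scalar, a pure slope -/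
theorem Ctq.purify (C : Ctq hT h2 H) (w w₂ : J → F) (hw : B₂ w w = 0)
    (hw₂ : B₂ w₂ w₂ = 0) (hww₂ : B₂ w w₂ = 0) (g : GL (I × J) F) (hgH : g ∈ H)
    (Θ : (J → F) →ₗ[F] (I → F) →ₗ[F] (I → F)) (hR : Rad B₂ w g (fun a => Θ a)) :
    ∃ κ : F, κ ≠ 0 ∧ κ • Θ w₂ ∈ PureS H B₂ w w₂ := by
  obtain ⟨c', hc'o, hc'n⟩ := exists_nonsing_perpF B₂ hT.sym₂ hT.nd₂ h2 ![w, w₂]
    (by have := C.dW; omega)
  have hwc' : B₂ w c' = 0 := hc'o 0
  have hw₂c' : B₂ w₂ c' = 0 := hc'o 1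
  have hw₂w : B₂ w₂ w = 0 := by rw [hT.sym₂, hww₂]
  obtain ⟨hh, hhdef⟩ : ∃ hh : F, hh = B₂ c' c' / 2 := ⟨_, rfl⟩
  have hβ : B₂ c' c' = 2 * hh := by
    rw [hhdef]
    field_simp
  have hcc : ∀ c : F, B₂ w₂ (c • c') = 0 := by
    intro c
    rw [map_smul, hw₂c', smul_zero]
  have hτw : ∀ c : F, sieg B₂ hT.sym₂ h2 w₂ (c • c') hw₂ (hcc c) w = w := by
    intro c
    rw [sieg_apply]
    simp only [map_smul, hwc', hww₂, smul_zero, zero_smul, mul_zero, add_zero, sub_zero]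
  have hτs : ∀ (c : F) (a : J → F), (sieg B₂ hT.sym₂ h2 w₂ (c • c') hw₂ (hcc c)).symm a =
      a - c • (B₂ a c' • w₂ - B₂ a w₂ • c') + c ^ 2 • (-hh • (B₂ a w₂ • w₂)) := by
    intro c a
    have := LinearMap.congr_fun (sieg_symm_coe B₂ hT.sym₂ h2 w₂ c' hw₂ hw₂c' c (hcc c)) a
    rw [← hhdef] at this
    simp only [LinearEquiv.coe_coe, LinearMap.add_apply, LinearMap.sub_apply,
      LinearMap.smul_apply, Module.End.one_apply, nOp_apply, rkV_apply] at this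
    exact this
  have hstep : ∀ c : F, Rad B₂ w (g * (krL (1 : (I → F) ≃ₗ[F] (I → F))
        (sieg B₂ hT.sym₂ h2 w₂ (c • c') hw₂ (hcc c)) * g⁻¹ *
        (krL (1 : (I → F) ≃ₗ[F] (I → F)) (sieg B₂ hT.sym₂ h2 w₂ (c • c') hw₂ (hcc c)))⁻¹))
      (fun a => Θ a + -Θ ((sieg B₂ hT.sym₂ h2 w₂ (c • c') hw₂ (hcc c)).symm a)) := by
    intro c
    exact hR.mul (hR.inv.conjW _ (sieg_isom B₂ hT.sym₂ h2 w₂ (c • c') hw₂ (hcc c)) (hτw c))
  have hmemH : ∀ c : F, g * (krL (1 : (I → F) ≃ₗ[F] (I → F))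
        (sieg B₂ hT.sym₂ h2 w₂ (c • c') hw₂ (hcc c)) * g⁻¹ *
        (krL (1 : (I → F) ≃ₗ[F] (I → F)) (sieg B₂ hT.sym₂ h2 w₂ (c • c') hw₂ (hcc c)))⁻¹) ∈ H := by
    intro c
    have hm := C.oh.memW w₂ (c • c') hw₂ (hcc c)
    exact H.mul_mem hgH (H.mul_mem (H.mul_mem hm (H.inv_mem hgH)) (H.inv_mem hm))
  refine ⟨B₂ c' c', hc'n, _, H.mul_mem (hmemH 1) (hmemH (-1)), ?_⟩
  apply ((hstep 1).mul (hstep (-1))).congr
  intro a _
  rw [hτs 1 a, hτs (-1) a, hβ]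
  have e : Θ a + -Θ (a - (1 : F) • (B₂ a c' • w₂ - B₂ a w₂ • c') +
        (1 : F) ^ 2 • (-hh • (B₂ a w₂ • w₂))) +
      (Θ a + -Θ (a - (-1 : F) • (B₂ a c' • w₂ - B₂ a w₂ • c') +
        (-1 : F) ^ 2 • (-hh • (B₂ a w₂ • w₂)))) =
      Θ ((2 * hh * B₂ a w₂) • w₂) := by
    rw [← map_neg, ← map_neg, ← map_add, ← map_add, ← map_add]
    congr 1
    module
  rw [e, map_smul, smul_smul]
  congr 1
  ring

/-- **slopes of radical elements are scalar** -/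
theorem Ctq.slope_scalar (C : Ctq hT h2 H) (w : J → F) (hw0 : w ≠ 0) (hw : B₂ w w = 0)
    (g : GL (I × J) F) (hgH : g ∈ H)
    (Θ : (J → F) →ₗ[F] (I → F) →ₗ[F] (I → F)) (hR : Rad B₂ w g (fun a => Θ a)) :
    ∀ a, B₂ w a = 0 → ∃ c : F, Θ a = c • LinearMap.id := by
  have hΘw : Θ w = 0 := by
    apply LinearMap.ext
    intro x
    have h1 := hR.2 w hw x
    rw [hR.1 x] at h1
    have h3 : pt (Θ w x) w = pt (0 : I → F) w := by
      rw [pt_zero_left]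
      have := congrArg (fun t => t - pt x w) h1
      simp only [sub_self, add_sub_cancel_left] at this
      exact this.symm
    rw [LinearMap.zero_apply]
    exact pt_left_injective hw0 h3
  obtain ⟨Sg, hSgdef⟩ : ∃ Sg : Submodule F ((I → F) →ₗ[F] (I → F)),
      Sg = Submodule.span F {(LinearMap.id : (I → F) →ₗ[F] (I → F))} := ⟨_, rfl⟩
  have hmemSg : ∀ L : (I → F) →ₗ[F] (I → F), L ∈ Sg ↔ ∃ c : F, L = c • LinearMap.id := by
    intro L
    rw [hSgdef, Submodule.mem_span_singleton]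
    constructor
    · rintro ⟨c, hc⟩
      exact ⟨c, hc.symm⟩
    · rintro ⟨c, hc⟩
      exact ⟨c, hc.symm⟩
  have key := eq_zero_of_singular_perp B₂ C.hodd hT.sym₂ hT.nd₂ h2 C.dW w hw0 hw
    (Sg.mkQ ∘ₗ Θ) (by
      intro s hs hws
      rw [LinearMap.comp_apply, Submodule.mkQ_apply, Submodule.Quotient.mk_eq_zero, hmemSg]
      by_cases hli : LinearIndependent F ![w, s]
      · obtain ⟨κ, hκ, hmem⟩ := C.purify w s hw hs hws g hgH Θ hR
        obtain ⟨c, hc⟩ := C.PureS_scalar w s hw0 hw hs hws hli _ hmem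
        refine ⟨κ⁻¹ * c, ?_⟩
        rw [← smul_smul, ← hc, smul_smul, inv_mul_cancel₀ hκ, one_smul]
      · -- `s` is a multiple of `w`
        have : ∃ c : F, s = c • w := by
          by_contra hcon
          push Not at hcon
          exact hli (pair_indep_of_not_smul hw0 hcon)
        obtain ⟨c, rfl⟩ := this
        refine ⟨0, ?_⟩
        rw [map_smul, hΘw, smul_zero, zero_smul])
  intro a ha
  have := key a ha
  rwa [LinearMap.comp_apply, Submodule.mkQ_apply, Submodule.Quotient.mk_eq_zero, hmemSg] at this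

end Cfsg.Agent.Lib.Helper1.TsC
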