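import Mathlib
import Cfsg.Agent.Lib.Helper1.TsD5

/-!
# `O(U) ⊗ O(W)` with generalised hypotheses on `U` (dimension four of minus type allowed): the group generated by two root groups
-/

set_option autoImplicit false
set_option maxHeartbeats 4000000
set_option maxRecDepth 100000
set_option linter.unusedSimpArgs false
set_option linter.unusedVariables false
set_option linter.unusedSectionVars false
set_option linter.style.longLine false
set_option linter.deprecated false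

namespace Cfsg.Agent.Lib.Helper1.TsC

open Module QuadraticMap Matrix
open Cfsg
open Cfsg.Agent.Lib.Helper5.CartanDieudonne Cfsg.Agent.Lib.Helper5.Siegel
  Cfsg.Agent.Lib.Helper5.QuadIsom Cfsg.Agent.Lib.Helper5.Eichler
  Cfsg.Agent.Lib.Helper5.OmegaSimple Cfsg.Agent.Lib.Helper5.OrthSingularMax
open Cfsg.Agent.Lib.Helper1.UoA
open Cfsg.Agent.Lib.Helper1.TsA
open Cfsg.Agent.Lib.Helper1.TsB
open Cfsg.Agent.Lib.Helper8.Tns

local notation "Ξ" => Cfsg.Agent.Lib.Helper1.TsA.Xi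

variable {I J : Type} [Fintype I] [DecidableEq I] [Fintype J] [DecidableEq J]
  {F : Type*} [Field F] [Fintype F]
  {Q : QuadraticForm F (I × J → F)} {B₁ : LinearMap.BilinForm F (I → F)}
  {B₂ : LinearMap.BilinForm F (J → F)}

variable {hT : OT Q B₁ B₂} {h2 : (2 : F) ≠ 0} {H : Subgroup (GL (I × J) F)}

theorem Ctq.xP_mem (C : Ctq hT h2 H) {p₁ p₂ : J → F} (hP : TSL B₂ p₁ p₂) (c : F) :
    xP hT.sym₂ h2 I hP c ∈ H :=
  C.oh.memW _ _ _ _

theorem Ctq.KP_le (C : Ctq hT h2 H) {p₁ p₂ p₁' p₂' : J → F} (h : GL (I × J) F) (hh : h ∈ H)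
    (hP : TSL B₂ p₁ p₂) (hP' : TSL B₂ p₁' p₂') : KP hT.sym₂ h2 h hP hP' ≤ H := by
  unfold KP
  rw [Subgroup.closure_le]
  rintro g (⟨c, rfl⟩ | ⟨c, rfl⟩)
  · exact C.xP_mem hP c
  · exact H.mul_mem (H.mul_mem hh (C.xP_mem hP' c)) (H.inv_mem hh)

/-- **(NU)** there is an element of `⟨X_P, h X_{P'} h⁻¹⟩` stabilising `U ⊗ P` outside `X_P` -/
theorem Ctq.exists_stab_not_root (C : Ctq hT h2 H) (hIJ : Fintype.card I < Fintype.card J)
    (hL : ∀ S : Submodule F (J → F), (∀ x ∈ S, ∀ y ∈ S, B₂ x y = 0) →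
      2 * finrank F S < finrank F (J → F))
    (h : GL (I × J) F) (hh : h ∈ H) (hnk : h ∉ krSub I J F) {p₁ p₂ p₁' p₂' : J → F}
    (hP : TSL B₂ p₁ p₂) (hP' : TSL B₂ p₁' p₂') :
    ∃ k ∈ KP hT.sym₂ h2 h hP hP',
      (∀ v ∈ AP I p₁ p₂, (k : Matrix (I × J) (I × J) F) *ᵥ v ∈ AP I p₁ p₂) ∧
      (∀ v ∈ AP I p₁ p₂,
        ((k⁻¹ : GL (I × J) F) : Matrix (I × J) (I × J) F) *ᵥ v ∈ AP I p₁ p₂) ∧
      (∀ c : F, k ≠ xP hT.sym₂ h2 I hP c) := by
  classical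
  by_contra hcon
  obtain ⟨i₀⟩ := C.neI
  obtain ⟨j₀⟩ : Nonempty J := by
    rw [← Fintype.card_pos_iff]
    have := C.hJ
    omega
  haveI : Nonempty (I × J) := ⟨(i₀, j₀)⟩
  have key : ∀ k ∈ KP hT.sym₂ h2 h hP hP',
      (∀ v ∈ AP I p₁ p₂, (k : Matrix (I × J) (I × J) F) *ᵥ v ∈ AP I p₁ p₂) →
      (∀ v ∈ AP I p₁ p₂,
        ((k⁻¹ : GL (I × J) F) : Matrix (I × J) (I × J) F) *ᵥ v ∈ AP I p₁ p₂) →
      ∃ c : F, k = xP hT.sym₂ h2 I hP c := by
    intro k hk hst hst'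
    by_contra hc
    push Not at hc
    exact hcon ⟨k, hk, hst, hst', hc⟩
  obtain ⟨p, hchar⟩ := CharP.exists F
  haveI := hchar
  haveI : Fact p.Prime := ⟨CharP.char_is_prime F p⟩
  have hp2 : p ≠ 2 := by
    intro h0
    apply h2
    have := CharP.cast_eq_zero F p
    rw [h0] at this
    exact_mod_cast this
  haveI : CharP (Matrix (I × J) (I × J) F) p := inferInstance
  obtain ⟨K, hKdef⟩ : ∃ K : Subgroup (GL (I × J) F), K = KP hT.sym₂ h2 h hP hP' := ⟨_, rfl⟩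
  obtain ⟨ρ, hρdef⟩ : ∃ ρ : K →* Matrix (I × J) (I × J) F,
      ρ = (Units.coeHom (Matrix (I × J) (I × J) F)).comp K.subtype := ⟨_, rfl⟩
  have hρa : ∀ k : K, ρ k = ((k : GL (I × J) F) : Matrix (I × J) (I × J) F) := by
    intro k
    rw [hρdef]
    rfl
  have hρ : Function.Injective ρ := by
    intro k k' hkk
    rw [hρa, hρa] at hkk
    exact Subtype.ext (Units.ext hkk)
  obtain ⟨P, hPdef⟩ : ∃ P : Subgroup K, P = (XsubP hT.sym₂ h2 I hP).subgroupOf K := ⟨_, rfl⟩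
  have hPmem : ∀ k : K, k ∈ P ↔ ∃ c : F, (k : GL (I × J) F) = xP hT.sym₂ h2 I hP c := by
    intro k
    rw [hPdef, Subgroup.mem_subgroupOf]
    exact Iff.rfl
  have hx1K : xP hT.sym₂ h2 I hP 1 ∈ K := by
    rw [hKdef]
    exact Subgroup.subset_closure (Or.inl ⟨1, rfl⟩)
  have hPne : P ≠ ⊥ := by
    intro hbot
    have h1 : (⟨xP hT.sym₂ h2 I hP 1, hx1K⟩ : K) ∈ P := (hPmem _).mpr ⟨1, rfl⟩
    rw [hbot, Subgroup.mem_bot] at h1
    have h3 := congrArg Subtype.val h1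
    exact xP_ne_one hT.sym₂ h2 hP hT.nd₂ ⟨i₀⟩ one_ne_zero h3
  have hPab : ∀ x ∈ P, ∀ y ∈ P, x * y = y * x := by
    intro x hx y hy
    obtain ⟨c, hc⟩ := (hPmem x).mp hx
    obtain ⟨c', hc'⟩ := (hPmem y).mp hy
    apply Subtype.ext
    rw [Subgroup.coe_mul, Subgroup.coe_mul, hc, hc', xP_comm]
  have hquad : ∀ x ∈ P, (ρ x - 1) * (ρ x - 1) = 0 := by
    intro x hx
    obtain ⟨c, hc⟩ := (hPmem x).mp hx
    rw [hρa, hc]
    exact xP_sq hT.sym₂ h2 hP c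
  have hb : ∀ g : K, ∀ x ∈ P, x ≠ 1 → g * x * g⁻¹ ∈ P → g ∈ P := by
    intro g x hx hx1 hgx
    obtain ⟨c, hc⟩ := (hPmem x).mp hx
    obtain ⟨c', hc'⟩ := (hPmem _).mp hgx
    have hc0 : c ≠ 0 := by
      intro h0
      apply hx1
      apply Subtype.ext
      rw [hc, h0, xP_zero]
      rfl
    rw [Subgroup.coe_mul, Subgroup.coe_mul, Subgroup.coe_inv, hc] at hc'
    have hc'0 : c' ≠ 0 := by
      intro h0
      rw [h0, xP_zero] at hc'
      have : xP hT.sym₂ h2 I hP c = 1 := by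
        have := congrArg (fun t => (g : GL (I × J) F)⁻¹ * t * (g : GL (I × J) F)) hc'
        simp only [mul_one, inv_mul_cancel] at this
        rw [← this]
        group
      exact xP_ne_one hT.sym₂ h2 hP hT.nd₂ ⟨i₀⟩ hc0 this
    have hc'' : (g : GL (I × J) F)⁻¹ * xP hT.sym₂ h2 I hP c' * ((g : GL (I × J) F)⁻¹)⁻¹ =
        xP hT.sym₂ h2 I hP c := by
      rw [← hc']
      group
    rw [hPmem]
    apply key g.1 (by rw [← hKdef]; exact g.2)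
    · exact conj_xP_maps hT.sym₂ h2 hP hT.nd₂ g.1 c c' hc0 hc'
    · exact conj_xP_maps hT.sym₂ h2 hP hT.nd₂ (g.1)⁻¹ c' c hc'0 hc''
  have hPtop := NU_abs p hp2 ρ hρ P hPne hPab hquad hb
  have hcK : h * xP hT.sym₂ h2 I hP' 1 * h⁻¹ ∈ K := by
    rw [hKdef]
    exact Subgroup.subset_closure (Or.inr ⟨1, rfl⟩)
  have h5 : (⟨h * xP hT.sym₂ h2 I hP' 1 * h⁻¹, hcK⟩ : K) ∈ P := by
    rw [hPtop]
    exact Subgroup.mem_top _
  obtain ⟨c, hc⟩ := (hPmem _).mp h5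
  have hnk' : h⁻¹ ∉ krSub I J F := by
    intro hmem
    apply hnk
    have := (krSub I J F).inv_mem hmem
    rwa [inv_inv] at this
  have hP'1 := hP'.smul (one_ne_zero : (1 : F) ≠ 0)
  have := C.conj_root_not_mem hIJ hL h⁻¹ (H.inv_mem hh) hnk' p₁' ((1 : F) • p₂') hP'1.h11
    hP'1.h22 hP'1.h12 hP'1.li
  apply this
  rw [inv_inv]
  have e : h * krL (1 : (I → F) ≃ₗ[F] (I → F))
      (sieg B₂ hT.sym₂ h2 p₁' ((1 : F) • p₂') hP'1.h11 hP'1.h12) * h⁻¹ =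
      xP hT.sym₂ h2 I hP c := hc
  rw [e]
  exact xP_mem_krSub hT.sym₂ h2 hP c

end Cfsg.Agent.Lib.Helper1.TsC
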