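import Mathlib
import Cfsg.Agent.Lib.Helper1.TsD7

/-!
# `O(U) ⊗ O(W)` with generalised hypotheses on `U` (dimension four of minus type allowed): overgroups lie in the Kronecker group
-/

set_option autoImplicit false
set_option maxHeartbeats 4000000
set_option maxRecDepth 100000
set_option linter.unusedSimpArgs false
set_option linter.unusedVariables false
set_option linter.unusedSectionVars false
set_option linter.style.longLine false
set_option linter.deprecated false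

namespace Cfsg.Agent.Lib.Helper1.TsC

open Module QuadraticMap Matrix
open Cfsg
open Cfsg.Agent.Lib.Helper5.CartanDieudonne Cfsg.Agent.Lib.Helper5.Siegel
  Cfsg.Agent.Lib.Helper5.QuadIsom Cfsg.Agent.Lib.Helper5.Eichler
  Cfsg.Agent.Lib.Helper5.OmegaSimple Cfsg.Agent.Lib.Helper5.OrthSingularMax
open Cfsg.Agent.Lib.Helper1.UoA
open Cfsg.Agent.Lib.Helper1.TsA
open Cfsg.Agent.Lib.Helper1.TsB
open Cfsg.Agent.Lib.Helper8.Tns

local notation "Ξ" => Cfsg.Agent.Lib.Helper1.TsA.Xi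

variable {I J : Type} [Fintype I] [DecidableEq I] [Fintype J] [DecidableEq J]
  {F : Type*} [Field F] [Fintype F]
  {Q : QuadraticForm F (I × J → F)} {B₁ : LinearMap.BilinForm F (I → F)}
  {B₂ : LinearMap.BilinForm F (J → F)}

variable {hT : OT Q B₁ B₂} {h2 : (2 : F) ≠ 0} {H : Subgroup (GL (I × J) F)}

/-- if the rows of `h (U ⊗ P')` span at most a plane then `h` is a Kronecker product -/
theorem Ctq.rows_small (C : Ctq hT h2 H) (h : GL (I × J) F) (hh : h ∈ H) {p₁' p₂' : J → F}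
    (hP' : TSL B₂ p₁' p₂') (R : Submodule F (J → F))
    (hrow : ∀ v ∈ (AP I p₁' p₂').map (gL h : (I × J → F) →ₗ[F] (I × J → F)),
      ∀ i, rowv v i ∈ R)
    (hR : finrank F ↥R ≤ 2) : h ∈ krSub I J F := by
  have hdW := C.dW
  obtain ⟨p, z, hcp, hcz, hp0, hp, hpz, hz⟩ := exists_sieg_pair' B₂ C.hodd hT.sym₂ hT.nd₂ h2
    (fun i => ((Module.finBasis F ↥R) i : J → F)) (by omega) (by omega)
  have key : ∀ x : ↥R, B₂ (x : J → F) p = 0 ∧ B₂ (x : J → F) z = 0 := by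
    intro x
    have hx : x ∈ Submodule.span F (Set.range (Module.finBasis F ↥R)) := by
      rw [Basis.span_eq]
      exact Submodule.mem_top
    induction hx using Submodule.span_induction with
    | mem y hy =>
      obtain ⟨i, rfl⟩ := hy
      exact ⟨hcp i, hcz i⟩
    | zero => simp
    | add y y' _ _ hy hy' =>
      simp [hy.1, hy.2, hy'.1, hy'.2]
    | smul c y _ hy =>
      simp [hy.1, hy.2]
  have hfix : ∀ v ∈ (AP I p₁' p₂').map (gL h : (I × J → F) →ₗ[F] (I × J → F)),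
      (krL (1 : (I → F) ≃ₗ[F] (I → F)) (sieg B₂ hT.sym₂ h2 p z hp hpz) :
        Matrix (I × J) (I × J) F) *ᵥ v = v := by
    intro v hv
    apply krL_fix_of_rows
    intro i
    obtain ⟨h1, h2'⟩ := key ⟨_, hrow v hv i⟩
    rw [sieg_apply, h1, h2']
    simp
  have hinv : h⁻¹ ∈ krSub I J F :=
    C.fix_sub_mem h⁻¹ (H.inv_mem hh) p z hp0 hp hpz hz _ hfix p₁' hP'.ne₁ hP'.h11 (by
      intro u
      exact ⟨(h : Matrix (I × J) (I × J) F) *ᵥ pt u p₁',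
        Submodule.mem_map.mpr ⟨_, pt_mem_AP₁ u, rfl⟩, inv_mulVec_mulVec h _⟩)
  have := (krSub I J F).inv_mem hinv
  rwa [inv_inv] at this

/-- **an overgroup of `(O(U) ⊗ O(W)) ∩ Ω` inside `Ω` not containing `Ω` is a group of
Kronecker products** -/
theorem Ctq.le_krSub (C : Ctq hT h2 H) (hIJ : Fintype.card I < Fintype.card J)
    (hL : ∀ S : Submodule F (J → F), (∀ x ∈ S, ∀ y ∈ S, B₂ x y = 0) →
      2 * finrank F S < finrank F (J → F)) : H ≤ krSub I J F := by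
  classical
  intro h₀ hh₀
  by_contra hnk₀
  have hdW := C.dW
  obtain ⟨s, hs0, hs⟩ := exists_singular B₂ C.hodd hT.sym₂ hT.nd₂ h2 (by omega)
  obtain ⟨e, hP₀⟩ := exists_TSL C.hodd hT.sym₂ hT.nd₂ h2 hdW s hs0 hs
  obtain ⟨Pd, hPddef⟩ : ∃ Pd : ℕ → Prop, Pd = fun n : ℕ =>
      ∃ (h : GL (I × J) F) (p₁ p₂ p₁' p₂' : J → F), h ∈ H ∧ h ∉ krSub I J F ∧ TSL B₂ p₁ p₂ ∧
        TSL B₂ p₁' p₂' ∧ finrank F ↥(AP I p₁ p₂ ⊓ (AP I p₁' p₂').map
          (gL h : (I × J → F) →ₗ[F] (I × J → F))) = n := ⟨_, rfl⟩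
  have hPd : ∀ n, Pd n ↔ ∃ (h : GL (I × J) F) (p₁ p₂ p₁' p₂' : J → F), h ∈ H ∧
      h ∉ krSub I J F ∧ TSL B₂ p₁ p₂ ∧ TSL B₂ p₁' p₂' ∧
      finrank F ↥(AP I p₁ p₂ ⊓ (AP I p₁' p₂').map
        (gL h : (I × J → F) →ₗ[F] (I × J → F))) = n := by
    intro n
    rw [hPddef]
  have hbound : ∀ n, Pd n → n ≤ Fintype.card I + Fintype.card I := by
    intro n hn
    obtain ⟨h, p₁, p₂, p₁', p₂', -, -, -, -, hd⟩ := (hPd n).mp hn
    rw [← hd]
    exact le_trans (Submodule.finrank_mono inf_le_left) finrank_AP_le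
  have hP0 : Pd (finrank F ↥(AP I s e ⊓ (AP I s e).map
      (gL h₀ : (I × J → F) →ₗ[F] (I × J → F)))) :=
    (hPd _).mpr ⟨h₀, s, e, s, e, hh₀, hnk₀, hP₀, hP₀, rfl⟩
  obtain ⟨n₀, hn₀def⟩ : ∃ n₀ : ℕ,
      n₀ = Nat.findGreatest Pd (Fintype.card I + Fintype.card I) := ⟨_, rfl⟩
  have hn₀ : Pd n₀ := by
    rw [hn₀def]
    exact Nat.findGreatest_spec (hbound _ hP0) hP0
  have hmaxn : ∀ n, Pd n → n ≤ n₀ := by
    intro n hn
    rw [hn₀def]
    exact Nat.le_findGreatest (hbound n hn) hn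
  obtain ⟨h, p₁, p₂, p₁', p₂', hh, hnk, hP, hP', hd⟩ := (hPd n₀).mp hn₀
  have hmax : TripleMax H B₂ h p₁ p₂ p₁' p₂' := by
    intro h₁ hh₁ hnk₁ r₁ r₂ r₁' r₂' hR hR'
    rw [hd]
    exact hmaxn _ ((hPd _).mpr ⟨h₁, r₁, r₂, r₁', r₂', hh₁, hnk₁, hR, hR', rfl⟩)
  obtain ⟨hbot, -⟩ := C.triple hIJ hL h hh hnk hP hP' hmax
  have hn₀0 : n₀ = 0 := by
    rw [← hd, hbot]
    exact finrank_bot F _
  have hall : ∀ r₁ r₂, TSL B₂ r₁ r₂ → ∃ y₁ y₂ : J → F,
      (AP I p₁' p₂').map (gL h : (I × J → F) →ₗ[F] (I × J → F)) ≤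
        AP I r₁ r₂ ⊔ (Aw (I := I) y₁ ⊔ Aw (I := I) y₂) := by
    intro r₁ r₂ hR
    have hmax' : TripleMax H B₂ h r₁ r₂ p₁' p₂' := by
      intro h₁ hh₁ hnk₁ t₁ t₂ t₁' t₂' hT₁ hT₁'
      have := hmaxn _ ((hPd _).mpr ⟨h₁, t₁, t₂, t₁', t₂', hh₁, hnk₁, hT₁, hT₁', rfl⟩)
      rw [hn₀0] at this
      exact le_trans this (Nat.zero_le _)
    exact (C.triple hIJ hL h hh hnk hR hP' hmax').2
  obtain ⟨R, hRdef⟩ : ∃ R : Submodule F (J → F), R = Submodule.span F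
      {r | ∃ v ∈ (AP I p₁' p₂').map (gL h : (I × J → F) →ₗ[F] (I × J → F)),
        ∃ i, r = rowv v i} := ⟨_, rfl⟩
  have hrow : ∀ v ∈ (AP I p₁' p₂').map (gL h : (I × J → F) →ₗ[F] (I × J → F)),
      ∀ i, rowv v i ∈ R := by
    intro v hv i
    rw [hRdef]
    exact Submodule.subset_span ⟨v, hv, i, rfl⟩
  have hdag : ∀ r₁ r₂, TSL B₂ r₁ r₂ →
      finrank F ↥(R ⊔ Submodule.span F {r₁, r₂}) ≤ 4 := by
    intro r₁ r₂ hR
    obtain ⟨y₁, y₂, hle⟩ := hall r₁ r₂ hR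
    refine le_trans (Submodule.finrank_mono ?_) (finrank_span4_le r₁ r₂ y₁ y₂)
    refine sup_le ?_ ?_
    · rw [hRdef, Submodule.span_le]
      rintro r ⟨v, hv, i, rfl⟩
      exact rowv_mem_span4 (hle hv) i
    · rw [Submodule.span_le]
      intro x hx
      rcases hx with rfl | hx
      · exact Submodule.subset_span ⟨0, rfl⟩
      · rw [Set.mem_singleton_iff] at hx
        rw [hx]
        exact Submodule.subset_span ⟨1, rfl⟩
  by_cases hR2 : finrank F ↥R ≤ 2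
  · exact hnk (C.rows_small h hh hP' R hrow hR2)
  · exact rows_big_false C.hodd hT.sym₂ hT.nd₂ h2 hdW R (by omega) hdag

end Cfsg.Agent.Lib.Helper1.TsC
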