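import Mathlib
import Cfsg.Prelude
import Cfsg.Agent.Lib.Helper1.TsD8

/-!
# Maximality of `O ⊗ O` in `Ω` with generalised hypotheses: core, transfer, the minus-type case
-/

set_option autoImplicit false
set_option maxHeartbeats 4000000
set_option maxRecDepth 100000
set_option linter.unusedSimpArgs false
set_option linter.unusedVariables false
set_option linter.unusedSectionVars false
set_option linter.style.longLine false
set_option linter.deprecated false

namespace Cfsg.Agent.Lib.Helper1.TsC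

open Module QuadraticMap Matrix
open Cfsg
open Cfsg.Agent.Lib.Helper5.CartanDieudonne Cfsg.Agent.Lib.Helper5.OrthSingularMax
  Cfsg.Agent.Lib.Helper5.OrthCard Cfsg.Agent.Lib.Helper5.OrthBridge
  Cfsg.Agent.Lib.Helper5.OmegaSimple
open Cfsg.Agent.Lib.Helper5.TensorSub Cfsg.Agent.Lib.Helper5.TensorFormSub
open Cfsg.Agent.Lib.Helper1.TsA
open Cfsg.Agent.Lib.Helper1.TsB
open Cfsg.Agent.Lib.Helper8.Tns

section coresec

variable {I J : Type} [Fintype I] [DecidableEq I] [Fintype J] [DecidableEq J]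
  {F : Type*} [Field F] [Fintype F]
  {Q : QuadraticForm F (I × J → F)} {B₁ : LinearMap.BilinForm F (I → F)}
  {B₂ : LinearMap.BilinForm F (J → F)}

/-- **Maximality of `(O(U) ⊗ O(W)) ∩ Ω` in `Ω(U ⊗ W)`**, in coordinates, generalised
hypotheses -/
theorem OT.core' (hT : OT Q B₁ B₂) (h2 : (2 : F) ≠ 0) (Hy : Hyp Q)
    (hodd : Fintype.card F % 2 = 1) (hI3 : 3 ≤ Fintype.card I)
    (hts : 5 ≤ Fintype.card I ∨ ∀ x l : I → F, LinearIndependent F ![x, l] → B₁ x x = 0 →
      B₁ l l = 0 → B₁ x l = 0 → False)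
    (hJ : 5 ≤ Fintype.card J)
    (hL : ∀ S : Submodule F (J → F), (∀ x ∈ S, ∀ y ∈ S, B₂ x y = 0) →
      2 * finrank F S < finrank F (J → F))
    (hq : 5 ≤ Fintype.card F ∨ 4 ≤ Fintype.card I)
    (hIJ : Fintype.card I < Fintype.card J) :
    Cfsg.Geo.IsMaximalIn (Cfsg.Geo.omegaGL ⇑Q) (krSub I J F ⊓ Cfsg.Geo.omegaGL ⇑Q) := by
  refine ⟨lt_of_le_of_ne inf_le_right ?_, ?_⟩
  · intro heq
    obtain ⟨w, hw0, hw⟩ := exists_singular B₂ hodd hT.sym₂ hT.nd₂ h2 (by
      rw [finrank_fintype_fun_eq_card]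
      omega)
    obtain ⟨s, hs⟩ := exists_nonsing B₁ hT.sym₁ hT.nd₁ h2 (by
      rw [finrank_fintype_fun_eq_card]
      omega)
    obtain ⟨x, hxo, hxs⟩ := exists_perp_not_mem_span B₁ hT.nd₁ ![s] (by
      rw [finrank_fintype_fun_eq_card]
      omega)
    have hsx : B₁ s x = 0 := by simpa using hxo 0
    have hxs' : B₁ x s = 0 := by rw [hT.sym₁, hsx]
    have hx0 : x ≠ 0 := ne_zero_of_not_mem_span hxs
    have hx : Q (pt x w) = 0 := hT.sing_right h2 x w hw
    have hxz : polar ⇑Q (pt x w) (pt s w) = 0 := by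
      rw [hT.polar_pt, hw, mul_zero]
    have hmem := eich_mem_omegaGL Hy _ _ hx hxz
    rw [← heq] at hmem
    exact hT.eich_not_mem h2 (by omega) x s w hw0 hw hs hx0 hxs' hx hxz hmem.1
  · intro M hHM hMK
    by_cases hOM : Cfsg.Geo.omegaGL ⇑Q ≤ M
    · right
      exact le_antisymm hMK hOM
    · left
      have C : Ctq hT h2 M := ⟨Hy, hodd, hI3, hts, hJ, hq, hOM, hHM, hMK⟩
      exact le_antisymm (le_inf (C.le_krSub hIJ hL) hMK) hHM

end coresec

variable {F : Type*} [Field F]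

/-- a totally singular independent pair spans a totally singular plane -/
theorem no_ts_pair {V : Type*} [AddCommGroup V] [Module F V] [FiniteDimensional F V]
    (B : LinearMap.BilinForm F V) (hS : ∀ x y, B x y = B y x)
    (hL : ∀ S : Submodule F V, (∀ x ∈ S, ∀ y ∈ S, B x y = 0) → 2 * finrank F S < finrank F V)
    (hd : finrank F V ≤ 4) :
    ∀ x l : V, LinearIndependent F ![x, l] → B x x = 0 → B l l = 0 → B x l = 0 → False := by
  intro x l hli hx hl hxl
  have hlx : B l x = 0 := by rw [hS, hxl]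
  have hts : ∀ u ∈ Submodule.span F (Set.range ![x, l]),
      ∀ v ∈ Submodule.span F (Set.range ![x, l]), B u v = 0 := by
    have h1 : ∀ v ∈ Submodule.span F (Set.range ![x, l]), B x v = 0 ∧ B l v = 0 := by
      intro v hv
      induction hv using Submodule.span_induction with
      | mem y hy =>
        obtain ⟨i, rfl⟩ := hy
        fin_cases i
        · exact ⟨hx, hlx⟩
        · exact ⟨hxl, hl⟩
      | zero => simp
      | add a b _ _ ha hb => simp [ha.1, ha.2, hb.1, hb.2]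
      | smul c a _ ha => simp [ha.1, ha.2]
    intro u hu v hv
    induction hu using Submodule.span_induction with
    | mem y hy =>
      obtain ⟨i, rfl⟩ := hy
      fin_cases i
      · exact (h1 v hv).1
      · exact (h1 v hv).2
    | zero => simp
    | add a b _ _ ha hb => simp [ha, hb]
    | smul c a _ ha => simp [ha]
  have h2 := hL _ hts
  have h3 : finrank F ↥(Submodule.span F (Set.range ![x, l])) = 2 := by
    rw [finrank_span_eq_card hli, Fintype.card_fin]
  omega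

/-- **Maximality of the stabiliser of an orthogonal tensor decomposition in `Ω`**, for a bundled
quadratic form on `ι → F`; generalised hypotheses on the factors -/
theorem transfer_orth' [Fintype F] {ι : Type} [Fintype ι] [DecidableEq ι]
    (Qf : QuadraticForm F (ι → F)) (hQnd : (polarBilin Qf).Nondegenerate)
    (hodd : Odd (Fintype.card F)) (n₁ n₂ : ℕ)
    (e : ι ≃ Fin n₁ × Fin n₂) (P : Matrix.GeneralLinearGroup ι F)
    (f₁ : (Fin n₁ → F) → (Fin n₁ → F) → F) (f₂ : (Fin n₂ → F) → (Fin n₂ → F) → F)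
    (hf₁ : Cfsg.Geo.IsSymmetricForm f₁) (hf₂ : Cfsg.Geo.IsSymmetricForm f₂)
    (hT : Cfsg.Geo.IsTensorFormStructure id (QuadraticMap.polar ⇑Qf) f₁ f₂ e P)
    (hI3 : 3 ≤ n₁)
    (hts : 5 ≤ n₁ ∨ ∀ x l : Fin n₁ → F, LinearIndependent F ![x, l] → f₁ x x = 0 →
      f₁ l l = 0 → f₁ x l = 0 → False)
    (hJ : 5 ≤ n₂)
    (hL : ∀ S : Submodule F (Fin n₂ → F), (∀ x ∈ S, ∀ y ∈ S, f₂ x y = 0) →
      2 * finrank F S < n₂)
    (hq : 5 ≤ Fintype.card F ∨ 4 ≤ n₁) (h12 : n₁ < n₂) :
    Cfsg.Geo.IsMaximalIn (Cfsg.Geo.omegaGL ⇑Qf)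
      (Cfsg.Geo.tensorProductSubgroup n₁ n₂ e P ⊓ Cfsg.Geo.omegaGL ⇑Qf) := by
  have h2 : (2 : F) ≠ 0 := two_ne_zero_of_odd hodd
  have hodd' : Fintype.card F % 2 = 1 := Nat.odd_iff.mp hodd
  obtain ⟨c, hc0, hc⟩ := hT
  obtain ⟨B₁, hB₁⟩ : ∃ B₁ : LinearMap.BilinForm F (Fin n₁ → F),
      B₁ = c • bilinOf f₁ hf₁.bilinear := ⟨_, rfl⟩
  obtain ⟨B₂, hB₂⟩ : ∃ B₂ : LinearMap.BilinForm F (Fin n₂ → F),
      B₂ = bilinOf f₂ hf₂.bilinear := ⟨_, rfl⟩
  have hB₁a : ∀ x y, B₁ x y = c * f₁ x y := by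
    intro x y
    rw [hB₁]
    rfl
  have hB₂a : ∀ x y, B₂ x y = f₂ x y := by
    intro x y
    rw [hB₂]
    rfl
  have hB₁z : ∀ x y, B₁ x y = 0 → f₁ x y = 0 := by
    intro x y h
    rw [hB₁a] at h
    rcases mul_eq_zero.mp h with h' | h'
    · exact absurd h' hc0
    · exact h'
  obtain ⟨Q₀, hQ₀⟩ : ∃ Q₀ : QuadraticForm F (Fin n₁ × Fin n₂ → F),
      Q₀ = Qf.comp (embL e P) := ⟨_, rfl⟩
  have hQ₀a : ∀ v, Q₀ v = Qf (emb e P v) := by
    intro v
    rw [hQ₀]
    rfl
  have hQ₀f : ⇑Q₀ = fun v : Fin n₁ × Fin n₂ → F => Qf (emb e P v) := funext hQ₀a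
  have hpol : ∀ v v', polar ⇑Q₀ v v' = polar ⇑Qf (emb e P v) (emb e P v') := by
    intro v v'
    unfold QuadraticMap.polar
    rw [hQ₀a, hQ₀a, hQ₀a, emb_add]
  have hOT : OT Q₀ B₁ B₂ := by
    refine ⟨?_, ?_, ?_, ?_, ?_⟩
    · intro x y
      rw [hB₁a, hB₁a, hf₁.symm]
    · intro x y
      rw [hB₂a, hB₂a, hf₂.symm]
    · rw [hB₁]
      exact smul_nondeg _ (bilinOf_nondeg_symm f₁ hf₁) c hc0
    · rw [hB₂]
      exact bilinOf_nondeg_symm f₂ hf₂
    · intro u u' w w'
      rw [hpol, hB₁a, hB₂a]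
      have := form_pt (f := QuadraticMap.polar ⇑Qf) (e := e) (P := P) hf₁.bilinear hf₂.bilinear hc
        u u' w w'
      rw [mul_assoc]
      exact this
  have hQ₀nd : (polarBilin Q₀).Nondegenerate := by
    constructor
    · intro x hx
      apply emb_eq_zero (e := e) (P := P)
      apply hQnd.1
      intro y
      obtain ⟨y', rfl⟩ := emb_surjective e P y
      have := hx y'
      rw [polarBilin_apply_apply, hpol] at this
      exact this
    · intro x hx
      apply emb_eq_zero (e := e) (P := P)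
      apply hQnd.2
      intro y
      obtain ⟨y', rfl⟩ := emb_surjective e P y
      have := hx y'
      rw [polarBilin_apply_apply, hpol] at this
      exact this
  have hHy : Hyp Q₀ := hyp_of_nondeg hQ₀nd (by
    rw [Fintype.card_prod, Fintype.card_fin, Fintype.card_fin]
    have : 3 * 5 ≤ n₁ * n₂ := Nat.mul_le_mul hI3 hJ
    omega)
  have hcore := hOT.core' h2 hHy hodd' (by rw [Fintype.card_fin]; exact hI3)
    (by
      rw [Fintype.card_fin]
      rcases hts with h5 | hno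
      · exact Or.inl h5
      · right
        intro x l hli hx hl hxl
        exact hno x l hli (hB₁z _ _ hx) (hB₁z _ _ hl) (hB₁z _ _ hxl))
    (by rw [Fintype.card_fin]; exact hJ)
    (by
      intro S hS
      rw [finrank_fintype_fun_eq_card, Fintype.card_fin]
      apply hL S
      intro x hx y hy
      rw [← hB₂a]
      exact hS x hx y hy)
    (by rw [Fintype.card_fin]; exact hq)
    (by rw [Fintype.card_fin, Fintype.card_fin]; exact h12)
  have hmap := Cfsg.Agent.Lib.Helper8.Tns.isMaximalIn_map (Phi e P) hcore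
  rw [Subgroup.map_inf _ _ _ (Phi e P).injective, hQ₀f, omegaGL_map_Phi,
    ← Cfsg.Agent.Lib.Helper8.Tns.kroneckerSubgroup_eq, ← tensor_eq] at hmap
  exact hmap

/-- totally singular subspaces of a symmetric non-degenerate form have at most half the
dimension -/
theorem ts_le_half {κ : Type} [Fintype κ] [DecidableEq κ] (f : (κ → F) → (κ → F) → F)
    (hf : Cfsg.Geo.IsSymmetricForm f) (S : Submodule F (κ → F))
    (hS : ∀ x ∈ S, ∀ y ∈ S, f x y = 0) : 2 * finrank F S ≤ Fintype.card κ := by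
  have := finrank_add_le_of_orth (bilinOf f hf.bilinear) (bilinOf_nondeg_symm f hf) S S hS
  rw [finrank_fintype_fun_eq_card] at this
  omega

/-- **S5709** -/
theorem main_orth_minus [Fintype F] {n : ℕ} (hn : 13 ≤ n) (Q : (Fin n → F) → F)
    (hQ : Cfsg.Geo.IsNondegenerateQuadraticForm Q) (hodd : Odd (Fintype.card F)) (n₁ n₂ : ℕ)
    (h1 : 3 ≤ n₁) (h1o : Odd n₁) (h2 : 4 ≤ n₂) (h2e : Even n₂)
    (hex : ¬ (Fintype.card F = 3 ∧ n₁ = 3)) (e : (Fin n) ≃ Fin n₁ × Fin n₂)
    (P : Matrix.GeneralLinearGroup (Fin n) F) (f₁ : (Fin n₁ → F) → (Fin n₁ → F) → F)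
    (f₂ : (Fin n₂ → F) → (Fin n₂ → F) → F) (hf₁ : Cfsg.Geo.IsSymmetricForm f₁)
    (hf₂ : Cfsg.Geo.IsSymmetricForm f₂)
    (hf₂m : ¬ Cfsg.Geo.IsPlusTypeOn (fun v : Fin n₂ → F => f₂ v v) ⊤)
    (hT : Cfsg.Geo.IsTensorFormStructure id (QuadraticMap.polar Q) f₁ f₂ e P) :
    Cfsg.Geo.IsMaximalIn (Cfsg.Geo.omegaGL Q)
      (Cfsg.Geo.tensorProductSubgroup n₁ n₂ e P ⊓ Cfsg.Geo.omegaGL Q) := by
  have hcard : n = n₁ * n₂ := by
    have := Fintype.card_congr e
    rwa [Fintype.card_fin, Fintype.card_prod, Fintype.card_fin, Fintype.card_fin] at this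
  have hqodd : Fintype.card F % 2 = 1 := Nat.odd_iff.mp hodd
  have hF1 : 1 < Fintype.card F := Fintype.one_lt_card
  have hn₁odd : n₁ % 2 = 1 := Nat.odd_iff.mp h1o
  have hn₂even : n₂ % 2 = 0 := Nat.even_iff.mp h2e
  have hL₁ : ∀ S : Submodule F (Fin n₁ → F), (∀ x ∈ S, ∀ y ∈ S, f₁ x y = 0) →
      2 * finrank F S < n₁ := by
    intro S hS
    have := ts_le_half f₁ hf₁ S hS
    rw [Fintype.card_fin] at this
    omega
  have hL₂ : ∀ S : Submodule F (Fin n₂ → F), (∀ x ∈ S, ∀ y ∈ S, f₂ x y = 0) →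
      2 * finrank F S < n₂ := by
    intro S hS
    have h3 := ts_le_half f₂ hf₂ S hS
    rw [Fintype.card_fin] at h3
    have h4 : 2 * finrank F S ≠ n₂ := by
      intro h5
      apply hf₂m
      refine ⟨S, le_top, fun w hw => hS w hw w hw, ?_⟩
      rw [finrank_top, finrank_fintype_fun_eq_card, Fintype.card_fin]
      exact h5
    omega
  have hQnd := toQF_nondegenerate Q hQ
  have hcoe : ⇑(toQF Q hQ) = Q := rfl
  rw [← hcoe] at hT ⊢
  rcases Nat.lt_or_ge n₁ n₂ with h12 | h21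
  · -- `n₁ < n₂`
    have hn₂5 : 5 ≤ n₂ := by
      by_contra hcon
      have h4 : n₂ = 4 := by omega
      have h3 : n₁ = 3 := by omega
      rw [h3, h4] at hcard
      omega
    apply transfer_orth' (toQF Q hQ) hQnd hodd n₁ n₂ e P f₁ f₂ hf₁ hf₂ hT h1 ?_ hn₂5 hL₂ ?_ h12
    · by_cases h5 : 5 ≤ n₁
      · exact Or.inl h5
      · right
        have hL' : ∀ S : Submodule F (Fin n₁ → F),
            (∀ x ∈ S, ∀ y ∈ S, (bilinOf f₁ hf₁.bilinear) x y = 0) →
            2 * finrank F S < finrank F (Fin n₁ → F) := by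
          intro S hS
          rw [finrank_fintype_fun_eq_card, Fintype.card_fin]
          exact hL₁ S hS
        exact no_ts_pair (bilinOf f₁ hf₁.bilinear) (fun x y => hf₁.symm x y) hL' (by
          rw [finrank_fintype_fun_eq_card, Fintype.card_fin]
          omega)
    · by_cases hq3 : Fintype.card F = 3
      · right
        have : n₁ ≠ 3 := fun h => hex ⟨hq3, h⟩
        omega
      · left
        omega
  · -- `n₂ < n₁`
    have h21' : n₂ < n₁ := by omega
    rw [Cfsg.Agent.Lib.Helper5.TensorSwap.tensor_swap]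
    have hT' := Cfsg.Agent.Lib.Helper5.TensorSwap.form_swap e P hT
    apply transfer_orth' (toQF Q hQ) hQnd hodd n₂ n₁ (e.trans (Equiv.prodComm _ _)) P f₂ f₁ hf₂
      hf₁ hT' (by omega) ?_ (by omega) hL₁ (Or.inr h2) h21'
    by_cases h5 : 5 ≤ n₂
    · exact Or.inl h5
    · right
      have hL' : ∀ S : Submodule F (Fin n₂ → F),
          (∀ x ∈ S, ∀ y ∈ S, (bilinOf f₂ hf₂.bilinear) x y = 0) →
          2 * finrank F S < finrank F (Fin n₂ → F) := by
        intro S hS
        rw [finrank_fintype_fun_eq_card, Fintype.card_fin]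
        exact hL₂ S hS
      exact no_ts_pair (bilinOf f₂ hf₂.bilinear) (fun x y => hf₂.symm x y) hL' (by
        rw [finrank_fintype_fun_eq_card, Fintype.card_fin]
        omega)

end Cfsg.Agent.Lib.Helper1.TsC
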