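import Mathlib
import Cfsg.Prelude
import Cfsg.Agent.Lib.Helper1.TsA5
import Cfsg.Agent.Lib.Helper5.HermBridge
import Cfsg.Agent.Lib.Helper5.HermEich
import Cfsg.Agent.Lib.Helper5.SUCentres
import Cfsg.Agent.Lib.Helper5.HermPair
import Cfsg.Agent.Lib.Helper5.SUTransv
import Cfsg.Agent.Lib.Helper5.HermBasis

/-!
# Unitary tensor products `SU(U) ⊗ SU(W) ≤ SU(U ⊗ W)`: coordinates

The standard hermitian form on `ι → F` as a sesquilinear map, contractions of `V = U ⊗ W`,
the operators `Ξ`, the groups `GU(V)`, `SU(V)`, and the action of root elements.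
-/

set_option autoImplicit false
set_option maxHeartbeats 4000000
set_option maxRecDepth 100000
set_option linter.unusedSimpArgs false
set_option linter.unusedVariables false
set_option linter.unusedSectionVars false
set_option linter.style.longLine false
set_option linter.deprecated false

namespace Cfsg.Agent.Lib.Helper1.TsU

open Module Matrix
open Cfsg
open Cfsg.Agent.Lib.Helper5.Herm Cfsg.Agent.Lib.Helper5.HermBridge
  Cfsg.Agent.Lib.Helper5.HermTv Cfsg.Agent.Lib.Helper5.HermEich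
open Cfsg.Agent.Lib.Helper1.TsA
open Cfsg.Agent.Lib.Helper8.Tns

variable {F : Type*} [Field F] [Fintype F] {q : ℕ} (hF : Fintype.card F = q ^ 2)

local notation "σ" => Cfsg.Agent.Lib.Helper5.HermBridge.sigma hF

/-! ### the standard hermitian form -/

/-- the standard hermitian form on `ι → F`: linear in the first, semilinear in the second
argument -/
noncomputable def hB (ι : Type) [Fintype ι] : (ι → F) →ₗ[F] (ι → F) →ₛₗ[Cfsg.Agent.Lib.Helper5.HermBridge.sigma hF] F :=
  LinearMap.mk₂'ₛₗ (RingHom.id F) (Cfsg.Agent.Lib.Helper5.HermBridge.sigma hF) (fun x y => ∑ i, x i * (y i) ^ q)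
    (fun x x' y => by simp only [Pi.add_apply, add_mul, Finset.sum_add_distrib])
    (fun c x y => by
      simp only [Pi.smul_apply, smul_eq_mul, RingHom.id_apply, Finset.mul_sum, mul_assoc])
    (fun x y y' => by
      simp only [Pi.add_apply, pow_q_add hF, mul_add, Finset.sum_add_distrib])
    (fun c x y => by
      simp only [Pi.smul_apply, smul_eq_mul, mul_pow, Cfsg.Agent.Lib.Helper5.HermBridge.sigma_apply, Finset.mul_sum]
      exact Finset.sum_congr rfl fun i _ => by ring)

theorem hB_apply {ι : Type} [Fintype ι] (x y : ι → F) :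
    hB hF ι x y = ∑ i, x i * (y i) ^ q := rfl

theorem hB_fin (n : ℕ) (x y : Fin n → F) : hB hF (Fin n) x y = hermForm n F q x y := rfl

theorem sig_sig (c : F) : σ (σ c) = c := Cfsg.Agent.Lib.Helper5.HermBridge.sigma_sigma hF c

theorem hB_conj {ι : Type} [Fintype ι] (x y : ι → F) : σ (hB hF ι x y) = hB hF ι y x := by
  rw [hB_apply, hB_apply, map_sum]
  refine Finset.sum_congr rfl fun i _ => ?_
  rw [map_mul, Cfsg.Agent.Lib.Helper5.HermBridge.sigma_apply, Cfsg.Agent.Lib.Helper5.HermBridge.sigma_apply, pow_q_pow_q hF, mul_comm]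

theorem hB_single_right {ι : Type} [Fintype ι] [DecidableEq ι] (x : ι → F) (i : ι) :
    hB hF ι x (Pi.single i 1) = x i := by
  rw [hB_apply, Finset.sum_eq_single i]
  · simp
  · intro j _ hj
    simp [hj, q_ne_zero hF]
  · intro h
    exact absurd (Finset.mem_univ _) h

theorem hB_nondeg {ι : Type} [Fintype ι] [DecidableEq ι] (x : ι → F)
    (h : ∀ y, hB hF ι x y = 0) : x = 0 := by
  ext i
  have := h (Pi.single i 1)
  rwa [hB_single_right] at this

theorem hB_nondeg' {ι : Type} [Fintype ι] [DecidableEq ι] (x : ι → F)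
    (h : ∀ y, hB hF ι y x = 0) : x = 0 := by
  apply hB_nondeg hF
  intro y
  rw [← hB_conj, h, map_zero]

theorem hB_eq_zero_symm {ι : Type} [Fintype ι] {x y : ι → F} (h : hB hF ι x y = 0) :
    hB hF ι y x = 0 := by
  rw [← hB_conj, h, map_zero]

theorem hB_self_fixed {ι : Type} [Fintype ι] (x : ι → F) : σ (hB hF ι x x) = hB hF ι x x :=
  hB_conj hF x x

/-! ### pure tensors -/

variable {I J : Type} [Fintype I] [DecidableEq I] [Fintype J] [DecidableEq J]

theorem hB_pt (x x' : I → F) (y y' : J → F) :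
    hB hF (I × J) (pt x y) (pt x' y') = hB hF I x x' * hB hF J y y' := by
  rw [hB_apply, hB_apply, hB_apply, Fintype.sum_prod_type, Finset.sum_mul_sum]
  refine Finset.sum_congr rfl fun i _ => Finset.sum_congr rfl fun j _ => ?_
  rw [pt_apply, pt_apply, mul_pow]
  ring

/-- contraction of the `W`-factor against `u` -/
noncomputable def Cw (hF : Fintype.card F = q ^ 2) (u : J → F) : (I × J → F) →ₗ[F] (I → F) where
  toFun v i := ∑ j, v (i, j) * (u j) ^ q
  map_add' v v' := by
    ext i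
    simp only [Pi.add_apply, add_mul, Finset.sum_add_distrib]
  map_smul' c v := by
    ext i
    simp only [Pi.smul_apply, smul_eq_mul, RingHom.id_apply, Finset.mul_sum, mul_assoc]

theorem Cw_apply (u : J → F) (v : I × J → F) (i : I) :
    Cw hF u v i = ∑ j, v (i, j) * (u j) ^ q := rfl

theorem Cw_pt (u : J → F) (x : I → F) (y : J → F) :
    Cw hF u (pt x y) = hB hF J y u • x := by
  ext i
  rw [Cw_apply, Pi.smul_apply, smul_eq_mul, hB_apply, Finset.sum_mul]
  refine Finset.sum_congr rfl fun j _ => ?_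
  rw [pt_apply]
  ring

theorem Cw_add_right (u u' : J → F) (v : I × J → F) :
    Cw hF (u + u') v = Cw hF u v + Cw hF u' v := by
  ext i
  simp only [Cw_apply, Pi.add_apply, pow_q_add hF, mul_add, Finset.sum_add_distrib]

theorem Cw_smul_right (c : F) (u : J → F) (v : I × J → F) :
    Cw hF (c • u) v = σ c • Cw hF u v := by
  ext i
  simp only [Cw_apply, Pi.smul_apply, smul_eq_mul, mul_pow, Cfsg.Agent.Lib.Helper5.HermBridge.sigma_apply, Finset.mul_sum]
  exact Finset.sum_congr rfl fun j _ => by ring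

theorem Cw_zero_right (v : I × J → F) : Cw hF (0 : J → F) v = 0 := by
  have := Cw_smul_right hF (0 : F) (0 : J → F) v
  rwa [zero_smul, map_zero, zero_smul] at this

theorem Cw_neg_right (u : J → F) (v : I × J → F) : Cw hF (-u) v = -Cw hF u v := by
  have := Cw_smul_right hF (-1 : F) u v
  rwa [neg_one_smul, map_neg, map_one, neg_one_smul] at this

theorem Cw_sub_right (u u' : J → F) (v : I × J → F) :
    Cw hF (u - u') v = Cw hF u v - Cw hF u' v := by
  rw [sub_eq_add_neg, Cw_add_right, Cw_neg_right, ← sub_eq_add_neg]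

/-- contraction of the `U`-factor against `x` -/
noncomputable def Cu (hF : Fintype.card F = q ^ 2) (x : I → F) : (I × J → F) →ₗ[F] (J → F) where
  toFun v j := ∑ i, v (i, j) * (x i) ^ q
  map_add' v v' := by
    ext j
    simp only [Pi.add_apply, add_mul, Finset.sum_add_distrib]
  map_smul' c v := by
    ext j
    simp only [Pi.smul_apply, smul_eq_mul, RingHom.id_apply, Finset.mul_sum, mul_assoc]

theorem Cu_apply (x : I → F) (v : I × J → F) (j : J) :
    Cu hF x v j = ∑ i, v (i, j) * (x i) ^ q := rfl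

theorem Cu_pt (x : I → F) (x' : I → F) (y : J → F) :
    Cu hF x (pt x' y) = hB hF I x' x • y := by
  ext j
  rw [Cu_apply, Pi.smul_apply, smul_eq_mul, hB_apply, Finset.sum_mul]
  refine Finset.sum_congr rfl fun i _ => ?_
  rw [pt_apply]
  ring

theorem Cu_add_right (x x' : I → F) (v : I × J → F) :
    Cu hF (x + x') v = Cu hF x v + Cu hF x' v := by
  ext j
  simp only [Cu_apply, Pi.add_apply, pow_q_add hF, mul_add, Finset.sum_add_distrib]

theorem Cu_smul_right (c : F) (x : I → F) (v : I × J → F) :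
    Cu hF (c • x) v = σ c • Cu hF x v := by
  ext j
  simp only [Cu_apply, Pi.smul_apply, smul_eq_mul, mul_pow, Cfsg.Agent.Lib.Helper5.HermBridge.sigma_apply, Finset.mul_sum]
  exact Finset.sum_congr rfl fun i _ => by ring

/-- `B(v, x ⊗ u) = B₁(C_u v, x)` -/
theorem hB_pt_right (v : I × J → F) (x : I → F) (u : J → F) :
    hB hF (I × J) v (pt x u) = hB hF I (Cw hF u v) x := by
  rw [hB_apply, hB_apply, Fintype.sum_prod_type]
  refine Finset.sum_congr rfl fun i _ => ?_
  rw [Cw_apply, Finset.sum_mul]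
  refine Finset.sum_congr rfl fun j _ => ?_
  rw [pt_apply, mul_pow]
  ring

/-- `B(v, x ⊗ u) = B₂(C_x v, u)` -/
theorem hB_pt_right' (v : I × J → F) (x : I → F) (u : J → F) :
    hB hF (I × J) v (pt x u) = hB hF J (Cu hF x v) u := by
  rw [hB_apply, hB_apply, Fintype.sum_prod_type, Finset.sum_comm]
  refine Finset.sum_congr rfl fun j _ => ?_
  rw [Cu_apply, Finset.sum_mul]
  refine Finset.sum_congr rfl fun i _ => ?_
  rw [pt_apply, mul_pow]
  ring

theorem hB_pt_left (v : I × J → F) (x : I → F) (u : J → F) :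
    hB hF (I × J) (pt x u) v = hB hF I x (Cw hF u v) := by
  rw [← hB_conj, hB_pt_right, hB_conj]

theorem hB_Cw_eq (v : I × J → F) (x : I → F) (u : J → F) :
    hB hF I (Cw hF u v) x = hB hF J (Cu hF x v) u := by
  rw [← hB_pt_right, hB_pt_right']

/-! ### the operators `Ξ` -/

/-- `Ξ(L, u, u') v = L(C_{u'} v) ⊗ u` -/
noncomputable def Xs (L : (I → F) →ₗ[F] (I → F)) (u u' : J → F) :
    (I × J → F) →ₗ[F] (I × J → F) :=
  ptL u ∘ₗ L ∘ₗ Cw hF u'

theorem Xs_apply (L : (I → F) →ₗ[F] (I → F)) (u u' : J → F) (v : I × J → F) :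
    Xs hF L u u' v = pt (L (Cw hF u' v)) u := rfl

theorem Xs_pt (L : (I → F) →ₗ[F] (I → F)) (u u' : J → F) (x : I → F) (y : J → F) :
    Xs hF L u u' (pt x y) = hB hF J y u' • pt (L x) u := by
  rw [Xs_apply, Cw_pt, map_smul, pt_smul_left]

theorem Cw_Xs (L : (I → F) →ₗ[F] (I → F)) (u u' z : J → F) (v : I × J → F) :
    Cw hF z (Xs hF L u u' v) = hB hF J u z • L (Cw hF u' v) := by
  rw [Xs_apply, Cw_pt]

theorem Xs_comp (L L' : (I → F) →ₗ[F] (I → F)) (u u' z z' : J → F) :
    Xs hF L u u' ∘ₗ Xs hF L' z z' = hB hF J z u' • Xs hF (L ∘ₗ L') u z' := by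
  apply LinearMap.ext
  intro v
  rw [LinearMap.comp_apply, Xs_apply, Cw_Xs, map_smul, pt_smul_left, LinearMap.smul_apply,
    Xs_apply, LinearMap.comp_apply]

theorem Xs_comp_zero (L L' : (I → F) →ₗ[F] (I → F)) (u u' z z' : J → F)
    (h : hB hF J z u' = 0) : Xs hF L u u' ∘ₗ Xs hF L' z z' = 0 := by
  rw [Xs_comp, h, zero_smul]

theorem Xs_add_left (L L' : (I → F) →ₗ[F] (I → F)) (u u' : J → F) :
    Xs hF (L + L') u u' = Xs hF L u u' + Xs hF L' u u' := by
  apply LinearMap.ext
  intro v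
  simp only [Xs_apply, LinearMap.add_apply, pt_add_left]

theorem Xs_smul_left (c : F) (L : (I → F) →ₗ[F] (I → F)) (u u' : J → F) :
    Xs hF (c • L) u u' = c • Xs hF L u u' := by
  apply LinearMap.ext
  intro v
  simp only [Xs_apply, LinearMap.smul_apply, pt_smul_left]

theorem Xs_zero_left (u u' : J → F) :
    Xs hF (0 : (I → F) →ₗ[F] (I → F)) u u' = 0 := by
  apply LinearMap.ext
  intro v
  simp only [Xs_apply, LinearMap.zero_apply, pt_zero_left]

theorem Xs_neg_left (L : (I → F) →ₗ[F] (I → F)) (u u' : J → F) :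
    Xs hF (-L) u u' = -Xs hF L u u' := by
  apply LinearMap.ext
  intro v
  rw [Xs_apply, LinearMap.neg_apply, LinearMap.neg_apply, Xs_apply, pt_neg_left']

theorem Xs_sub_left (L L' : (I → F) →ₗ[F] (I → F)) (u u' : J → F) :
    Xs hF (L - L') u u' = Xs hF L u u' - Xs hF L' u u' := by
  rw [sub_eq_add_neg, Xs_add_left, Xs_neg_left, ← sub_eq_add_neg]

theorem Xs_add_u (L : (I → F) →ₗ[F] (I → F)) (u z u' : J → F) :
    Xs hF L (u + z) u' = Xs hF L u u' + Xs hF L z u' := by
  apply LinearMap.ext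
  intro v
  simp only [Xs_apply, LinearMap.add_apply, pt_add_right]

theorem Xs_smul_u (c : F) (L : (I → F) →ₗ[F] (I → F)) (u u' : J → F) :
    Xs hF L (c • u) u' = c • Xs hF L u u' := by
  apply LinearMap.ext
  intro v
  simp only [Xs_apply, LinearMap.smul_apply, pt_smul_right]

theorem Xs_add_u' (L : (I → F) →ₗ[F] (I → F)) (u u' z : J → F) :
    Xs hF L u (u' + z) = Xs hF L u u' + Xs hF L u z := by
  apply LinearMap.ext
  intro v
  simp only [Xs_apply, LinearMap.add_apply, Cw_add_right, map_add, pt_add_left]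

theorem Xs_smul_u' (c : F) (L : (I → F) →ₗ[F] (I → F)) (u u' : J → F) :
    Xs hF L u (c • u') = σ c • Xs hF L u u' := by
  apply LinearMap.ext
  intro v
  simp only [Xs_apply, LinearMap.smul_apply, Cw_smul_right, map_smul, pt_smul_left]

/-- rank one operators `x y^* : u ↦ B₁(u, y) x` -/
noncomputable def rkh (x y : I → F) : (I → F) →ₗ[F] (I → F) :=
  ((hB hF I).flip y).smulRight x

theorem rkh_apply (x y u : I → F) : rkh hF x y u = hB hF I u y • x := rfl

/-! ### the groups -/

/-- the isometry group of the standard hermitian form on `ι → F` inside `GL` -/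
noncomputable def GUV (ι : Type) [Fintype ι] [DecidableEq ι] : Subgroup (GL ι F) :=
  preserving (Units.coeHom (Matrix ι ι F)) (fun v w => hB hF ι v w)

theorem mem_GUV {ι : Type} [Fintype ι] [DecidableEq ι] {g : GL ι F} :
    g ∈ GUV hF ι ↔ ∀ v w, hB hF ι ((g : Matrix ι ι F) *ᵥ v) ((g : Matrix ι ι F) *ᵥ w) =
      hB hF ι v w := Iff.rfl

/-- the special unitary group -/
noncomputable def SUV (ι : Type) [Fintype ι] [DecidableEq ι] : Subgroup (GL ι F) :=
  GUV hF ι ⊓ Cfsg.Geo.specialLinear ι F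

theorem mem_SL {ι : Type} [Fintype ι] [DecidableEq ι] (g : GL ι F) :
    g ∈ Cfsg.Geo.specialLinear ι F ↔ (g : Matrix ι ι F).det = 1 := by
  unfold Cfsg.Geo.specialLinear
  rw [MonoidHom.mem_ker]
  constructor
  · intro h
    have := congrArg Units.val h
    simpa using this
  · intro h
    ext
    simpa using h

theorem mem_SUV {ι : Type} [Fintype ι] [DecidableEq ι] {g : GL ι F} :
    g ∈ SUV hF ι ↔ g ∈ GUV hF ι ∧ (g : Matrix ι ι F).det = 1 := by
  unfold SUV
  rw [Subgroup.mem_inf, mem_SL]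

theorem GUV_fin (n : ℕ) : GUV hF (Fin n) = Cfsg.GU n F q := rfl

theorem hB_inv_left {ι : Type} [Fintype ι] [DecidableEq ι] {g : GL ι F} (hg : g ∈ GUV hF ι)
    (v w : ι → F) :
    hB hF ι (((g⁻¹ : GL ι F) : Matrix ι ι F) *ᵥ v) w = hB hF ι v ((g : Matrix ι ι F) *ᵥ w) := by
  have := (mem_GUV hF).mp hg (((g⁻¹ : GL ι F) : Matrix ι ι F) *ᵥ v) w
  rw [mulVec_inv_mulVec] at this
  exact this.symm

/-- Kronecker products of isometries are isometries -/
theorem kr_mem_GUV {α : GL I F} {β : GL J F} (hα : α ∈ GUV hF I) (hβ : β ∈ GUV hF J) :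
    kr α β ∈ GUV hF (I × J) := by
  intro v w
  revert w
  refine pt_induction (P := fun v => ∀ w, hB hF (I × J) ((kr α β : Matrix (I × J) (I × J) F) *ᵥ v)
    ((kr α β : Matrix (I × J) (I × J) F) *ᵥ w) = hB hF (I × J) v w) ?_ ?_ ?_ v
  · intro w
    rw [Matrix.mulVec_zero, map_zero, LinearMap.zero_apply, LinearMap.zero_apply]
  · intro x y hx hy w
    rw [Matrix.mulVec_add, map_add, LinearMap.add_apply, hx, hy, map_add, LinearMap.add_apply]
  · intro x y w
    refine pt_induction (P := fun w => hB hF (I × J) ((kr α β : Matrix (I × J) (I × J) F) *ᵥ pt x y)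
      ((kr α β : Matrix (I × J) (I × J) F) *ᵥ w) = hB hF (I × J) (pt x y) w) ?_ ?_ ?_ w
    · rw [Matrix.mulVec_zero, map_zero, map_zero]
    · intro w w' hw hw'
      rw [Matrix.mulVec_add, map_add, hw, hw', map_add]
    · intro x' y'
      rw [kr_mulVec_pt, kr_mulVec_pt, hB_pt, hB_pt, (mem_GUV hF).mp hα x x',
        (mem_GUV hF).mp hβ y y']

theorem kr_mem_SUV {α : GL I F} {β : GL J F} (hα : α ∈ GUV hF I) (hβ : β ∈ GUV hF J)
    (hd : (α : Matrix I I F).det ^ Fintype.card J * (β : Matrix J J F).det ^ Fintype.card I = 1) :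
    kr α β ∈ krSub I J F ⊓ SUV hF (I × J) := by
  refine ⟨kr_mem _ _, ?_⟩
  exact (mem_SUV hF).mpr ⟨kr_mem_GUV hF hα hβ, by rw [det_kr, hd]⟩

end Cfsg.Agent.Lib.Helper1.TsU
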