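import Mathlib
import Cfsg.Agent.Lib.Helper1.TsU1

/-!
# Unitary tensor products: geometry of the standard hermitian space
-/

set_option autoImplicit false
set_option maxHeartbeats 4000000
set_option maxRecDepth 100000
set_option linter.unusedSimpArgs false
set_option linter.unusedVariables false
set_option linter.unusedSectionVars false
set_option linter.style.longLine false
set_option linter.deprecated false

namespace Cfsg.Agent.Lib.Helper1.TsU

open Module Matrix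
open Cfsg
open Cfsg.Agent.Lib.Helper5.Herm Cfsg.Agent.Lib.Helper5.HermBridge
  Cfsg.Agent.Lib.Helper5.HermTv Cfsg.Agent.Lib.Helper5.HermEich
open Cfsg.Agent.Lib.Helper1.TsA
open Cfsg.Agent.Lib.Helper8.Tns

variable {F : Type*} [Field F] [Fintype F] {q : ℕ} (hF : Fintype.card F = q ^ 2)

local notation "σ" => Cfsg.Agent.Lib.Helper5.HermBridge.sigma hF

/-! ### the field -/

theorem sig_ne_id : σ ≠ RingHom.id F := Cfsg.Agent.Lib.Helper5.HermBridge.sigma_ne_id hF

/-- a nonzero element of trace `d` -/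
theorem exTr_ne (d : F) (hd : σ d = d) : ∃ κ : F, κ ≠ 0 ∧ κ + σ κ = d :=
  Cfsg.Agent.Lib.Helper5.HermWitt.exists_trace (sig_ne_id hF) (sig_sig hF) d hd

/-- a nonzero element of trace zero -/
theorem exT0 : ∃ c : F, c ≠ 0 ∧ σ c = -c := by
  obtain ⟨c, hc0, hc⟩ := exTr_ne hF 0 (map_zero _)
  exact ⟨c, hc0, by linear_combination hc⟩

theorem exNorm (d : F) (hd0 : d ≠ 0) (hd : σ d = d) : ∃ t : F, t * σ t = d :=
  Cfsg.Agent.Lib.Helper5.HermBasis.exists_norm (sig_ne_id hF) (sig_sig hF) d hd0 hd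

theorem exNotFixed : ∃ t : F, σ t ≠ t := by
  by_contra hcon
  push Not at hcon
  apply sig_ne_id hF
  ext a
  rw [hcon a]
  rfl

/-- an element of nonzero trace -/
theorem exTrNe : ∃ ω : F, ω + σ ω ≠ 0 := by
  obtain ⟨κ, _, hκ⟩ := exTr_ne hF 1 (map_one _)
  exact ⟨κ, by rw [hκ]; exact one_ne_zero⟩

/-- an element of norm one different from one -/
theorem exNormOne : ∃ η : F, η * σ η = 1 ∧ η ≠ 1 := by
  obtain ⟨s, hs⟩ := exNotFixed hF
  have hs0 : s ≠ 0 := by
    rintro rfl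
    exact hs (map_zero _)
  have hσs0 : σ s ≠ 0 := by
    intro h
    apply hs0
    have := congrArg σ h
    rwa [sig_sig, map_zero] at this
  refine ⟨s / σ s, ?_, ?_⟩
  · rw [map_div₀, sig_sig]
    field_simp
  · intro h
    rw [div_eq_one_iff_eq hσs0] at h
    exact hs h.symm

theorem sig_ne_zero {c : F} (hc : c ≠ 0) : σ c ≠ 0 := by
  intro h
  apply hc
  have := congrArg σ h
  rwa [sig_sig, map_zero] at this

theorem sig_inv_T0 {c : F} (hc : σ c = -c) : σ c⁻¹ = -c⁻¹ := by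
  rw [map_inv₀, hc, inv_neg]

/-- every element is `s ε + t` with `s, t` fixed, when `ε` is not fixed -/
theorem fixed_decomp (ε : F) (hε : σ ε ≠ ε) (l : F) :
    ∃ s t : F, σ s = s ∧ σ t = t ∧ l = s * ε + t := by
  have hne : ε - σ ε ≠ 0 := sub_ne_zero.mpr (Ne.symm hε)
  have hne' : σ ε - ε ≠ 0 := sub_ne_zero.mpr hε
  have hs : σ ((l - σ l) / (ε - σ ε)) = (l - σ l) / (ε - σ ε) := by
    rw [map_div₀, map_sub, map_sub, sig_sig, sig_sig]
    field_simp
    ring
  refine ⟨(l - σ l) / (ε - σ ε), l - (l - σ l) / (ε - σ ε) * ε, hs, ?_, by ring⟩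
  rw [map_sub, map_mul, hs]
  field_simp
  ring

/-! ### the hermitian space `Fin n → F` -/

variable {n : ℕ}

local notation "B" => hB hF (Fin n)

theorem ex_partner (x : Fin n → F) (hx0 : x ≠ 0) (hx : B x x = 0) :
    ∃ y : Fin n → F, B y y = 0 ∧ B x y = 1 :=
  Cfsg.Agent.Lib.Helper5.HermTv.exists_partner hF n x hx0 hx

theorem ex_hyp (hn : 2 ≤ n) : ∃ x y : Fin n → F, B x x = 0 ∧ B y y = 0 ∧ B x y = 1 :=
  exists_hyp_pair hF n hn

theorem ne_zero_of_hB_left {x y : Fin n → F} (h : B x y ≠ 0) : x ≠ 0 := by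
  rintro rfl
  exact h (by rw [map_zero, LinearMap.zero_apply])

theorem ne_zero_of_hB_right {x y : Fin n → F} (h : B x y ≠ 0) : y ≠ 0 := by
  rintro rfl
  exact h (by rw [map_zero])

theorem ex_iso_nonorth (hn : 2 ≤ n) (x : Fin n → F) (hx0 : x ≠ 0) :
    ∃ u : Fin n → F, B u u = 0 ∧ B x u ≠ 0 := by
  obtain ⟨e, f, he, hf, hef⟩ := ex_hyp hF hn
  have he0 : e ≠ 0 := ne_zero_of_hB_left hF (by rw [hef]; exact one_ne_zero)
  have hOP : Cfsg.Agent.Lib.Helper5.HermPair.OrthoPair q (⊤ : Submodule F (Fin n → F)) ⊥ := by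
    refine ⟨?_, ?_⟩
    · intro a _ b hb
      rw [Submodule.mem_bot] at hb
      rw [hb]
      exact hermForm_zero_right hF n a
    · intro x
      exact ⟨x, Submodule.mem_top, 0, Submodule.zero_mem _, add_zero x⟩
  obtain ⟨u, _, hu, hxu⟩ := hOP.exists_iso_nonorth hF e Submodule.mem_top he0 he x
    Submodule.mem_top hx0
  exact ⟨u, hu, hxu⟩

/-- every nonzero vector is `x + l y` for a hyperbolic pair `x, y` -/
theorem ex_hyp_decomp (hn : 2 ≤ n) (c : Fin n → F) (hc0 : c ≠ 0) :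
    ∃ (x y : Fin n → F) (l : F), B x x = 0 ∧ B y y = 0 ∧ B x y = 1 ∧ c = x + l • y := by
  obtain ⟨u, hu, hcu⟩ := ex_iso_nonorth hF hn c hc0
  obtain ⟨β, hβ⟩ : ∃ β : F, β = B c u := ⟨_, rfl⟩
  rw [← hβ] at hcu
  have hσβ : σ β ≠ 0 := sig_ne_zero hF hcu
  obtain ⟨μ, -, hμ⟩ := exTr_ne hF (-(B c c)) (by rw [map_neg, hB_self_fixed])
  obtain ⟨t, ht⟩ : ∃ t : F, t = μ / σ β := ⟨_, rfl⟩
  have htβ : t * σ β = μ := by
    rw [ht]
    field_simp
  have huc : B u c = σ β := by rw [hβ, hB_conj]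
  have hx : B (c + t • u) (c + t • u) = 0 := by
    simp only [map_add, LinearMap.add_apply, map_smul, LinearMap.smul_apply,
      LinearMap.map_smulₛₗ, smul_eq_mul, hu, ← hβ, huc]
    have e1 : σ t * β = σ μ := by
      rw [← htβ, map_mul, sig_sig]
    linear_combination hμ + e1 + htβ
  have hxu : B (c + t • u) u = β := by
    simp only [map_add, LinearMap.add_apply, map_smul, LinearMap.smul_apply, smul_eq_mul, hu,
      ← hβ]
    ring
  refine ⟨c + t • u, σ β⁻¹ • u, -t / σ β⁻¹, hx, ?_, ?_, ?_⟩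
  · simp only [map_smul, LinearMap.smul_apply, LinearMap.map_smulₛₗ, smul_eq_mul, hu, mul_zero]
  · simp only [LinearMap.map_smulₛₗ, smul_eq_mul, hxu, sig_sig]
    exact inv_mul_cancel₀ hcu
  · have h1 : σ β⁻¹ ≠ 0 := sig_ne_zero hF (inv_ne_zero hcu)
    rw [smul_smul, div_mul_cancel₀ _ h1]
    module

/-- two isotropic vectors have a common non-orthogonal isotropic vector -/
theorem ex_iso_nonorth2 (x y : Fin n → F) (hx0 : x ≠ 0) (hy0 : y ≠ 0) (hx : B x x = 0)
    (hy : B y y = 0) : ∃ z : Fin n → F, B z z = 0 ∧ B x z ≠ 0 ∧ B y z ≠ 0 := by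
  obtain ⟨z₁, hz₁, hxz₁⟩ := ex_partner hF x hx0 hx
  obtain ⟨z₂, hz₂, hyz₂⟩ := ex_partner hF y hy0 hy
  by_cases h1 : B y z₁ = 0
  swap
  · exact ⟨z₁, hz₁, by rw [hxz₁]; exact one_ne_zero, h1⟩
  by_cases h2 : B x z₂ = 0
  swap
  · exact ⟨z₂, hz₂, h2, by rw [hyz₂]; exact one_ne_zero⟩
  obtain ⟨γ, hγ⟩ : ∃ γ : F, γ = B z₁ z₂ := ⟨_, rfl⟩
  have hγ' : B z₂ z₁ = σ γ := by rw [hγ, hB_conj]
  obtain ⟨t, ht0, ht⟩ : ∃ t : F, t ≠ 0 ∧ σ t * γ + t * σ γ = 0 := by
    by_cases hγ0 : γ = 0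
    · exact ⟨1, one_ne_zero, by rw [hγ0, map_zero, mul_zero, mul_zero, add_zero]⟩
    · obtain ⟨τ, hτ0, hτ⟩ := exT0 hF
      have hσγ : σ γ ≠ 0 := sig_ne_zero hF hγ0
      refine ⟨τ / σ γ, div_ne_zero hτ0 hσγ, ?_⟩
      rw [map_div₀, sig_sig, hτ]
      field_simp
      ring
  refine ⟨z₁ + t • z₂, ?_, ?_, ?_⟩
  · simp only [map_add, LinearMap.add_apply, map_smul, LinearMap.smul_apply,
      LinearMap.map_smulₛₗ, smul_eq_mul, hz₁, hz₂, ← hγ, hγ']
    linear_combination ht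
  · simp only [map_add, LinearMap.map_smulₛₗ, smul_eq_mul, hxz₁, h2, mul_zero, add_zero]
    exact one_ne_zero
  · simp only [map_add, LinearMap.map_smulₛₗ, smul_eq_mul, hyz₂, h1, mul_one, zero_add]
    exact sig_ne_zero hF ht0

/-! ### transvections and transitivity on isotropic points -/

/-- the unitary transvection with isotropic centre `v` -/
noncomputable def tvG (v : Fin n → F) (c : F) (hv : B v v = 0) (hc : σ c = -c) :
    ↥(Cfsg.GU n F q) :=
  qtv hF n v c ((qcond_iso n hv c).mpr hc)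

theorem tvG_act (v : Fin n → F) (c : F) (hv : B v v = 0) (hc : σ c = -c) (x : Fin n → F) :
    gact n (tvG hF v c hv hc) x = x + (c * B x v) • v :=
  gact_qtv hF n v c _ x

theorem tvG_det (v : Fin n → F) (c : F) (hv : B v v = 0) (hc : σ c = -c) :
    (((tvG hF v c hv hc : ↥(Cfsg.GU n F q)) : GL (Fin n) F) : Matrix (Fin n) (Fin n) F).det =
      1 := by
  unfold tvG
  rw [qtv_coe, Cfsg.Agent.Lib.Helper5.HermGen.det_tv]
  have : hermForm n F q v v = 0 := hv
  rw [this, mul_zero, add_zero]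

theorem gact_def (A : ↥(Cfsg.GU n F q)) (x : Fin n → F) :
    gact n A x = ((A : GL (Fin n) F) : Matrix (Fin n) (Fin n) F) *ᵥ x := rfl

theorem GU_mem_GUV (A : ↥(Cfsg.GU n F q)) : (A : GL (Fin n) F) ∈ GUV hF (Fin n) := A.2

theorem hB_gact (A : ↥(Cfsg.GU n F q)) (x y : Fin n → F) :
    B (gact n A x) (gact n A y) = B x y := herm_gact n A x y

/-- two non-orthogonal isotropic points are conjugate under `SU` -/
theorem SU_move2 (x y : Fin n → F) (hx : B x x = 0) (hy : B y y = 0) (hxy : B x y ≠ 0) :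
    ∃ A : ↥(Cfsg.GU n F q),
      ((A : GL (Fin n) F) : Matrix (Fin n) (Fin n) F).det = 1 ∧
        ∃ μ : F, μ ≠ 0 ∧ gact n A x = μ • y := by
  obtain ⟨d, hd0, hd⟩ := exT0 hF
  obtain ⟨β, hβ⟩ : ∃ β : F, β = B x y := ⟨_, rfl⟩
  rw [← hβ] at hxy
  have hσβ : σ β ≠ 0 := sig_ne_zero hF hxy
  have hyx : B y x = σ β := by rw [hβ, hB_conj]
  have hne : d * β * σ β ≠ 0 := mul_ne_zero (mul_ne_zero hd0 hxy) hσβ
  have hc : σ (-(d * β * σ β)⁻¹) = -(-(d * β * σ β)⁻¹) := by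
    rw [map_neg, map_inv₀, map_mul, map_mul, sig_sig, hd]
    have : -d * σ β * β = -(d * β * σ β) := by ring
    rw [this, inv_neg]
  refine ⟨tvG hF x (-(d * β * σ β)⁻¹) hx hc * tvG hF y d hy hd, ?_, d * β, mul_ne_zero hd0 hxy, ?_⟩
  · rw [Subgroup.coe_mul, Units.val_mul, Matrix.det_mul, tvG_det, tvG_det, mul_one]
  · rw [gact_mul, tvG_act, tvG_act]
    simp only [map_add, LinearMap.add_apply, map_smul, LinearMap.smul_apply, smul_eq_mul, hx,
      ← hβ, hyx]
    have e1 : -(d * β * σ β)⁻¹ * (0 + d * β * σ β) = -1 := by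
      rw [zero_add, neg_mul, inv_mul_cancel₀ hne]
    rw [e1]
    module

/-- `SU` is transitive on isotropic points -/
theorem SU_trans_pts (x y : Fin n → F) (hx0 : x ≠ 0) (hy0 : y ≠ 0) (hx : B x x = 0)
    (hy : B y y = 0) :
    ∃ A : ↥(Cfsg.GU n F q),
      ((A : GL (Fin n) F) : Matrix (Fin n) (Fin n) F).det = 1 ∧
        ∃ μ : F, μ ≠ 0 ∧ gact n A x = μ • y := by
  by_cases hxy : B x y = 0
  swap
  · exact SU_move2 hF x y hx hy hxy
  obtain ⟨z, hz, hxz, hyz⟩ := ex_iso_nonorth2 hF x y hx0 hy0 hx hy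
  have hzy : B z y ≠ 0 := by
    intro h
    exact hyz (hB_eq_zero_symm hF h)
  obtain ⟨A₁, hA₁, μ₁, hμ₁, h1⟩ := SU_move2 hF x z hx hz hxz
  obtain ⟨A₂, hA₂, μ₂, hμ₂, h2⟩ := SU_move2 hF z y hz hy hzy
  refine ⟨A₂ * A₁, ?_, μ₁ * μ₂, mul_ne_zero hμ₁ hμ₂, ?_⟩
  · rw [Subgroup.coe_mul, Units.val_mul, Matrix.det_mul, hA₁, hA₂, mul_one]
  · rw [gact_mul, h1, gact_smul, h2, smul_smul]

theorem ex_unit_perp (hn : 3 ≤ n) (x : Fin n → F) (hx0 : x ≠ 0) (hx : B x x = 0) :
    ∃ r : Fin n → F, B r r = 1 ∧ B r x = 0 :=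
  exists_unit_perp hF n hn x hx0 hx

/-- a hyperbolic partner and a unit vector orthogonal to both -/
theorem ex_partner_perp (hn : 3 ≤ n) (l : Fin n → F) (hl0 : l ≠ 0) (hl : B l l = 0) :
    ∃ l' r : Fin n → F, B l' l' = 0 ∧ B l l' = 1 ∧ B r r = 1 ∧ B r l = 0 ∧ B r l' = 0 := by
  obtain ⟨r, hr, hrl⟩ := ex_unit_perp hF hn l hl0 hl
  obtain ⟨l₁, hl₁, hll₁⟩ := ex_partner hF l hl0 hl
  have hlr : B l r = 0 := hB_eq_zero_symm hF hrl
  have hl₁l : B l₁ l = 1 := by rw [← hB_conj, hll₁, map_one]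
  obtain ⟨ρ, hρ⟩ : ∃ ρ : F, ρ = B l₁ r := ⟨_, rfl⟩
  have hrl₁ : B r l₁ = σ ρ := by rw [hρ, hB_conj]
  obtain ⟨l₂, hl₂def⟩ : ∃ l₂ : Fin n → F, l₂ = l₁ - ρ • r := ⟨_, rfl⟩
  have h1 : B l₂ r = 0 := by
    rw [hl₂def]
    simp only [map_sub, LinearMap.sub_apply, map_smul, LinearMap.smul_apply, smul_eq_mul, hr,
      ← hρ]
    ring
  have h2 : B l l₂ = 1 := by
    rw [hl₂def]
    simp only [map_sub, LinearMap.map_smulₛₗ, smul_eq_mul, hll₁, hlr, mul_zero, sub_zero]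
  have h2' : B l₂ l = 1 := by rw [← hB_conj, h2, map_one]
  have h1' : B r l₂ = 0 := hB_eq_zero_symm hF h1
  obtain ⟨t, -, ht⟩ := exTr_ne hF (-(B l₂ l₂)) (by rw [map_neg, hB_self_fixed])
  refine ⟨l₂ + t • l, r, ?_, ?_, hr, hrl, ?_⟩
  · simp only [map_add, LinearMap.add_apply, map_smul, LinearMap.smul_apply,
      LinearMap.map_smulₛₗ, smul_eq_mul, hl, h2, h2']
    linear_combination ht
  · simp only [map_add, LinearMap.map_smulₛₗ, smul_eq_mul, hl, h2, mul_zero, add_zero]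
  · simp only [map_add, LinearMap.map_smulₛₗ, smul_eq_mul, h1', hrl, mul_zero, add_zero]

/-! ### nondegeneracy consequences -/

theorem ex_prescribed1 (a : Fin n → F) (ha : a ≠ 0) (κ : F) : ∃ z : Fin n → F, B z a = κ := by
  obtain ⟨p, hp⟩ : ∃ p, B p a ≠ 0 := by
    by_contra hcon
    push Not at hcon
    exact ha (hB_nondeg' hF a hcon)
  refine ⟨(κ / B p a) • p, ?_⟩
  rw [map_smul, LinearMap.smul_apply, smul_eq_mul, div_mul_cancel₀ _ hp]

/-- a vector orthogonal to everything orthogonal to `x` is a multiple of `x` -/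
theorem double_perp (x : Fin n → F) (hx0 : x ≠ 0) (y : Fin n → F)
    (h : ∀ z, B z x = 0 → B z y = 0) : ∃ c : F, y = c • x := by
  obtain ⟨p, hp⟩ := ex_prescribed1 hF x hx0 1
  refine ⟨B y p, ?_⟩
  have h1 : ∀ u, B u (y - B y p • x) = 0 := by
    intro u
    have h2 : B (u - B u x • p) x = 0 := by
      simp only [map_sub, LinearMap.sub_apply, map_smul, LinearMap.smul_apply, smul_eq_mul, hp]
      ring
    have h3 := h _ h2
    simp only [map_sub, LinearMap.sub_apply, map_smul, LinearMap.smul_apply, smul_eq_mul] at h3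
    simp only [map_sub, LinearMap.map_smulₛₗ, smul_eq_mul, hB_conj]
    linear_combination h3
  exact sub_eq_zero.mp (hB_nondeg' hF _ h1)

theorem ex_prescribed2 (a b : Fin n → F) (hli : LinearIndependent F ![a, b]) (κ κ' : F) :
    ∃ z : Fin n → F, B z a = κ ∧ B z b = κ' := by
  have ha : a ≠ 0 := by
    have := hli.ne_zero 0
    simpa using this
  obtain ⟨p, hp⟩ := ex_prescribed1 hF a ha 1
  obtain ⟨r, hra, hrb⟩ : ∃ r, B r a = 0 ∧ B r b ≠ 0 := by
    by_contra hcon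
    push Not at hcon
    obtain ⟨c, hc⟩ := double_perp hF a ha b hcon
    rw [LinearIndependent.pair_iff] at hli
    have := hli c (-1) (by rw [hc]; module)
    exact one_ne_zero (neg_eq_zero.mp this.2)
  refine ⟨((κ' - κ * B p b) / B r b) • r + κ • p, ?_, ?_⟩
  · simp only [map_add, LinearMap.add_apply, map_smul, LinearMap.smul_apply, smul_eq_mul, hra,
      hp]
    ring
  · simp only [map_add, LinearMap.add_apply, map_smul, LinearMap.smul_apply, smul_eq_mul]
    rw [div_mul_cancel₀ _ hrb]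
    ring

/-! ### torus elements -/

/-- an element of `SU` scaling the isotropic vector `w` by `l` -/
theorem ex_torus (hn : 3 ≤ n) (w : Fin n → F) (hw0 : w ≠ 0) (hw : B w w = 0) (l : F)
    (hl : l ≠ 0) :
    ∃ A : ↥(Cfsg.GU n F q),
      ((A : GL (Fin n) F) : Matrix (Fin n) (Fin n) F).det = 1 ∧ gact n A w = l • w := by
  obtain ⟨w', hw', hww'⟩ := ex_partner hF w hw0 hw
  obtain ⟨r, hr, hrw⟩ := ex_unit_perp hF hn w hw0 hw
  have hσl : σ l ≠ 0 := sig_ne_zero hF hl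
  have hw'w : B w' w = 1 := by rw [← hB_conj, hww', map_one]
  have h1 : B (l • w) (l • w) = 0 := by
    simp only [map_smul, LinearMap.smul_apply, LinearMap.map_smulₛₗ, smul_eq_mul, hw, mul_zero]
  have h2 : B ((σ l)⁻¹ • w') ((σ l)⁻¹ • w') = 0 := by
    simp only [map_smul, LinearMap.smul_apply, LinearMap.map_smulₛₗ, smul_eq_mul, hw', mul_zero]
  have h3 : B (l • w) ((σ l)⁻¹ • w') = 1 := by
    simp only [map_smul, LinearMap.smul_apply, LinearMap.map_smulₛₗ, smul_eq_mul, hww', mul_one,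
      map_inv₀, sig_sig]
    exact inv_mul_cancel₀ hl
  have h3' : B ((σ l)⁻¹ • w') (l • w) = 1 := by rw [← hB_conj, h3, map_one]
  obtain ⟨g, hg1, hg2⟩ := witt_pair hF n w w' (l • w) ((σ l)⁻¹ • w')
    (Cfsg.Agent.Lib.Helper5.SUTransv.li_hyp_pair hF n hw hw' hww')
    (Cfsg.Agent.Lib.Helper5.SUTransv.li_hyp_pair hF n h1 h2 h3)
    (by show B w w = B (l • w) (l • w); rw [hw, h1])
    (by show B w' w' = B ((σ l)⁻¹ • w') ((σ l)⁻¹ • w'); rw [hw', h2])
    (by show B w' w = B ((σ l)⁻¹ • w') (l • w); rw [hw'w, h3'])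
  obtain ⟨c, hc, hdet⟩ := Cfsg.Agent.Lib.Helper5.HermPair.det_fix hF g r
    (by show B r r ≠ 0; rw [hr]; exact one_ne_zero)
  refine ⟨qtv hF n r c hc * g, hdet, ?_⟩
  rw [gact_mul, hg1, gact_qtv]
  have : hermForm n F q (l • w) r = 0 := by
    show B (l • w) r = 0
    rw [map_smul, LinearMap.smul_apply, hB_eq_zero_symm hF hrw, smul_zero]
  rw [this, mul_zero, zero_smul, add_zero]

/-! ### operators with all isotropic vectors as eigenvectors -/

theorem lemmaE (hn : 2 ≤ n) (L : (Fin n → F) →ₗ[F] (Fin n → F))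
    (h : ∀ x, B x x = 0 → ∃ c : F, L x = c • x) : ∃ c : F, L = c • LinearMap.id := by
  -- two non-orthogonal isotropic vectors have the same eigenvalue
  have key : ∀ (x z : Fin n → F) (a b : F), B x x = 0 → B z z = 0 → B x z ≠ 0 → L x = a • x →
      L z = b • z → a = b := by
    intro x z a b hx hz hxz hLx hLz
    obtain ⟨β, hβ⟩ : ∃ β : F, β = B x z := ⟨_, rfl⟩
    rw [← hβ] at hxz
    have hzx : B z x = σ β := by rw [hβ, hB_conj]
    have hσβ : σ β ≠ 0 := sig_ne_zero hF hxz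
    obtain ⟨τ, hτ0, hτ⟩ := exT0 hF
    obtain ⟨t, ht⟩ : ∃ t : F, t = τ / σ β := ⟨_, rfl⟩
    have ht0 : t ≠ 0 := by
      rw [ht]
      exact div_ne_zero hτ0 hσβ
    have htβ : t * σ β = τ := by
      rw [ht]
      field_simp
    have hiso : B (x + t • z) (x + t • z) = 0 := by
      simp only [map_add, LinearMap.add_apply, map_smul, LinearMap.smul_apply,
        LinearMap.map_smulₛₗ, smul_eq_mul, hx, hz, ← hβ, hzx]
      have e1 : σ t * β = σ τ := by rw [← htβ, map_mul, sig_sig]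
      linear_combination htβ + e1 + hτ
    obtain ⟨ν, hν⟩ := h _ hiso
    rw [map_add, map_smul, hLx, hLz] at hν
    have e0 : (a - ν) • x + (t * (b - ν)) • z = 0 := by
      have : (a - ν) • x + (t * (b - ν)) • z = a • x + t • b • z - ν • (x + t • z) := by module
      rw [this, hν, sub_self]
    have e1 := congrArg (fun v => B v z) e0
    simp only [map_add, LinearMap.add_apply, map_smul, LinearMap.smul_apply, smul_eq_mul, hz,
      ← hβ, map_zero, LinearMap.zero_apply, mul_zero, add_zero] at e1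
    have e2 := congrArg (fun v => B x v) e0
    simp only [map_add, LinearMap.map_smulₛₗ, smul_eq_mul, hx, ← hβ, map_zero, mul_zero,
      zero_add] at e2
    have ha : a = ν := by
      rcases mul_eq_zero.mp e1 with h1 | h1
      · exact sub_eq_zero.mp h1
      · exact absurd h1 hxz
    have hb : b = ν := by
      rcases mul_eq_zero.mp e2 with h1 | h1
      · have h2 : t * (b - ν) = 0 := by
          have := congrArg σ h1
          rwa [sig_sig, map_zero] at this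
        rcases mul_eq_zero.mp h2 with h3 | h3
        · exact absurd h3 ht0
        · exact sub_eq_zero.mp h3
      · exact absurd h1 hxz
    rw [ha, hb]
  obtain ⟨x₀, y₀, hx₀, hy₀, hx₀y₀⟩ := ex_hyp hF hn
  have hx₀0 : x₀ ≠ 0 := ne_zero_of_hB_left hF (by rw [hx₀y₀]; exact one_ne_zero)
  obtain ⟨c₀, hc₀⟩ := h x₀ hx₀
  have hall : ∀ z, B z z = 0 → L z = c₀ • z := by
    intro z hz
    by_cases hz0 : z = 0
    · rw [hz0, map_zero, smul_zero]
    obtain ⟨b, hb⟩ := h z hz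
    obtain ⟨z', hz', hx₀z', hzz'⟩ := ex_iso_nonorth2 hF x₀ z hx₀0 hz0 hx₀ hz
    obtain ⟨b', hb'⟩ := h z' hz'
    have e1 := key x₀ z' c₀ b' hx₀ hz' hx₀z' hc₀ hb'
    have e2 := key z z' b b' hz hz' hzz' hb hb'
    rw [hb, e2, ← e1]
  refine ⟨c₀, ?_⟩
  apply LinearMap.ext
  intro c
  rw [LinearMap.smul_apply, LinearMap.id_apply]
  by_cases hc0 : c = 0
  · rw [hc0, map_zero, smul_zero]
  obtain ⟨x, y, l, hx, hy, _, rfl⟩ := ex_hyp_decomp hF hn c hc0
  rw [map_add, map_smul, hall x hx, hall y hy]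
  module

end Cfsg.Agent.Lib.Helper1.TsU
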