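import Mathlib
import Cfsg.Agent.Lib.Helper1.TsU2

/-!
# Unitary tensor products: centres of transvections in an overgroup, I

The set `C` of isotropic vectors `v` of `V = U ⊗ W` such that the overgroup `H` contains all
unitary transvections with centre `v`; its closure properties; doubly isotropic pure tensors
and pure tensors `c ⊗ ℓ` with `ℓ` isotropic.
-/

set_option autoImplicit false
set_option maxHeartbeats 4000000
set_option maxRecDepth 100000
set_option linter.unusedSimpArgs false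
set_option linter.unusedVariables false
set_option linter.unusedSectionVars false
set_option linter.style.longLine false
set_option linter.deprecated false

namespace Cfsg.Agent.Lib.Helper1.TsU

open Module Matrix
open Cfsg
open Cfsg.Agent.Lib.Helper5.Herm Cfsg.Agent.Lib.Helper5.HermBridge
  Cfsg.Agent.Lib.Helper5.HermTv Cfsg.Agent.Lib.Helper5.HermEich
open Cfsg.Agent.Lib.Helper1.TsA
open Cfsg.Agent.Lib.Helper8.Tns

variable {F : Type*} [Field F] [Fintype F] {q : ℕ} (hF : Fintype.card F = q ^ 2)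

local notation "σ" => Cfsg.Agent.Lib.Helper5.HermBridge.sigma hF

variable {a b : ℕ} (H : Subgroup (GL (Fin a × Fin b) F))

local notation "B₁" => hB hF (Fin a)
local notation "B₂" => hB hF (Fin b)
local notation "BV" => hB hF (Fin a × Fin b)

/-- `v` is isotropic and `H` contains all transvections with centre `v` -/
def InC (v : Fin a × Fin b → F) : Prop :=
  BV v v = 0 ∧ ∀ c : F, σ c = -c → ∃ g ∈ H, Acts g (c • rkh hF v v)

theorem InC_zero : InC hF H 0 := by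
  refine ⟨by simp, fun c _ => ⟨1, H.one_mem, ?_⟩⟩
  have : c • rkh hF (0 : Fin a × Fin b → F) 0 = 0 := by
    apply LinearMap.ext
    intro u
    rw [LinearMap.smul_apply, rkh_apply, smul_zero, smul_zero, LinearMap.zero_apply]
  rw [this]
  exact Acts_one

variable {H}

theorem InC.smul {v : Fin a × Fin b → F} (hv : InC hF H v) (l : F) : InC hF H (l • v) := by
  refine ⟨?_, fun c hc => ?_⟩
  · simp only [map_smul, LinearMap.smul_apply, LinearMap.map_smulₛₗ, smul_eq_mul, hv.1,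
      mul_zero]
  · obtain ⟨g, hgH, hg⟩ := hv.2 (c * (l * σ l)) (by
      rw [map_mul, map_mul, sig_sig, hc]
      ring)
    refine ⟨g, hgH, hg.congr ?_⟩
    apply LinearMap.ext
    intro u
    simp only [LinearMap.smul_apply, rkh_apply, LinearMap.map_smulₛₗ, smul_eq_mul]
    module

theorem InC.act (hHG : H ≤ GUV hF (Fin a × Fin b)) {v : Fin a × Fin b → F} (hv : InC hF H v)
    {h : GL (Fin a × Fin b) F} (hh : h ∈ H) :
    InC hF H ((h : Matrix (Fin a × Fin b) (Fin a × Fin b) F) *ᵥ v) := by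
  have hiso := (mem_GUV hF).mp (hHG hh)
  refine ⟨by rw [hiso, hv.1], fun c hc => ?_⟩
  obtain ⟨g, hgH, hg⟩ := hv.2 c hc
  refine ⟨h * g * h⁻¹, H.mul_mem (H.mul_mem hh hgH) (H.inv_mem hh), hg.conj ?_⟩
  intro u
  simp only [LinearMap.smul_apply, rkh_apply, Matrix.mulVec_smul, hiso]

theorem InC.hyp (hHG : H ≤ GUV hF (Fin a × Fin b)) {u v : Fin a × Fin b → F}
    (hu : InC hF H u) (hv : InC hF H v) (c : F) (hc : σ c = -c) :
    InC hF H (v + (c * BV v u) • u) := by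
  obtain ⟨g, hgH, hg⟩ := hu.2 c hc
  have := hv.act hF hHG hgH
  rw [hg v, LinearMap.smul_apply, rkh_apply, smul_smul] at this
  exact this

/-- a vector of `C` plus an element of `C` orthogonal... : the general move along a centre -/
theorem InC.move (hHG : H ≤ GUV hF (Fin a × Fin b)) {u v : Fin a × Fin b → F}
    (hu : InC hF H u) (hv : InC hF H v) (hτ : σ (BV v u) = -BV v u) (hτ0 : BV v u ≠ 0) :
    InC hF H (v + u) := by
  have := hu.hyp hF hHG hv (BV v u)⁻¹ (sig_inv_T0 hF hτ)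
  rwa [inv_mul_cancel₀ hτ0, one_smul] at this

/-! ### elements of the tensor product group -/

theorem kr_mem_H (hMH : krSub (Fin a) (Fin b) F ⊓ SUV hF (Fin a × Fin b) ≤ H)
    (A : ↥(Cfsg.GU a F q)) (A' : ↥(Cfsg.GU b F q))
    (hA : ((A : GL (Fin a) F) : Matrix (Fin a) (Fin a) F).det = 1)
    (hA' : ((A' : GL (Fin b) F) : Matrix (Fin b) (Fin b) F).det = 1) :
    kr (A : GL (Fin a) F) (A' : GL (Fin b) F) ∈ H := by
  apply hMH
  apply kr_mem_SUV hF (GU_mem_GUV hF A) (GU_mem_GUV hF A')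
  rw [hA, hA', one_pow, one_pow, one_mul]

/-- doubly isotropic pure tensors -/
theorem InC_dip (hMH : krSub (Fin a) (Fin b) F ⊓ SUV hF (Fin a × Fin b) ≤ H)
    (hHG : H ≤ GUV hF (Fin a × Fin b))
    (x₀ : Fin a → F) (w₀ : Fin b → F) (hx₀0 : x₀ ≠ 0) (hw₀0 : w₀ ≠ 0) (hx₀ : B₁ x₀ x₀ = 0)
    (hw₀ : B₂ w₀ w₀ = 0) (h0 : InC hF H (pt x₀ w₀))
    (x : Fin a → F) (w : Fin b → F) (hx : B₁ x x = 0) (hw : B₂ w w = 0) :
    InC hF H (pt x w) := by
  by_cases hx0 : x = 0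
  · rw [hx0, pt_zero_left]
    exact InC_zero hF H
  by_cases hw0 : w = 0
  · rw [hw0, pt_zero_right]
    exact InC_zero hF H
  obtain ⟨A, hA, μ, hμ, hAx⟩ := SU_trans_pts hF x₀ x hx₀0 hx0 hx₀ hx
  obtain ⟨A', hA', μ', hμ', hAw⟩ := SU_trans_pts hF w₀ w hw₀0 hw0 hw₀ hw
  have h1 := h0.act hF hHG (kr_mem_H hF hMH A A' hA hA')
  rw [kr_mulVec_pt, ← gact_def, ← gact_def, hAx, hAw, pt_smul_left, pt_smul_right, smul_smul]
    at h1
  have h2 := h1.smul hF (μ * μ')⁻¹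
  rwa [smul_smul, inv_mul_cancel₀ (mul_ne_zero hμ hμ'), one_smul] at h2

/-! ### pure tensors `c ⊗ ℓ` with `ℓ` isotropic -/

section TC

variable (hHG : H ≤ GUV hF (Fin a × Fin b))
  (hDIP : ∀ (x : Fin a → F) (w : Fin b → F), hB hF (Fin a) x x = 0 → hB hF (Fin b) w w = 0 →
    InC hF H (pt x w))

include hHG hDIP in
theorem TC_step (x y : Fin a → F) (l : Fin b → F) (hx : B₁ x x = 0) (hy : B₁ y y = 0)
    (hxy : B₁ x y = 1) (m n : Fin b → F) (hm : InC hF H (pt x l + pt y m)) (hn : B₂ n n = 0)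
    (c : F) (hc : σ c = -c) : InC hF H (pt x l + pt y (m + (c * B₂ l n) • n)) := by
  have h1 := (hDIP y n hy hn).hyp hF hHG hm c hc
  have e : BV (pt x l + pt y m) (pt y n) = B₂ l n := by
    rw [map_add, LinearMap.add_apply, hB_pt, hB_pt, hxy, hy, one_mul, zero_mul, add_zero]
  rw [e] at h1
  rw [pt_add_right, pt_smul_right, ← add_assoc]
  exact h1

include hHG hDIP in
theorem TC_step2 (x y : Fin a → F) (l l' r : Fin b → F) (hx : B₁ x x = 0) (hy : B₁ y y = 0)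
    (hxy : B₁ x y = 1) (hl : B₂ l l = 0) (hl' : B₂ l' l' = 0) (hll' : B₂ l l' = 1)
    (hr : B₂ r r = 1) (hrl : B₂ r l = 0) (hrl' : B₂ r l' = 0)
    (m : Fin b → F) (hm : InC hF H (pt x l + pt y m))
    (c κ ρ : F) (hc : σ c = -c) (hκ : κ + σ κ + ρ * σ ρ = 0) :
    InC hF H (pt x l + pt y (m + c • (l' + κ • l + ρ • r))) := by
  have hlr : B₂ l r = 0 := hB_eq_zero_symm hF hrl
  have hl'r : B₂ l' r = 0 := hB_eq_zero_symm hF hrl'
  have hl'l : B₂ l' l = 1 := by rw [← hB_conj, hll', map_one]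
  have hn : B₂ (l' + κ • l + ρ • r) (l' + κ • l + ρ • r) = 0 := by
    simp only [map_add, LinearMap.add_apply, map_smul, LinearMap.smul_apply,
      LinearMap.map_smulₛₗ, smul_eq_mul, hl, hl', hll', hr, hrl, hrl', hlr, hl'r, hl'l]
    linear_combination hκ
  have hln : B₂ l (l' + κ • l + ρ • r) = 1 := by
    simp only [map_add, LinearMap.map_smulₛₗ, smul_eq_mul, hl, hll', hlr, mul_zero, add_zero]
  have := TC_step hF hHG hDIP x y l hx hy hxy m _ hm hn c hc
  rwa [hln, mul_one] at this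

include hHG hDIP in
/-- **(TC)** `(x + λ y) ⊗ ℓ ∈ C` for a hyperbolic pair `x, y` and `ℓ` isotropic -/
theorem TC (hb : 3 ≤ b) (x y : Fin a → F) (l : Fin b → F) (hx : B₁ x x = 0) (hy : B₁ y y = 0)
    (hxy : B₁ x y = 1) (hl0 : l ≠ 0) (hl : B₂ l l = 0) (lam : F) :
    InC hF H (pt (x + lam • y) l) := by
  obtain ⟨l', r, hl', hll', hr, hrl, hrl'⟩ := ex_partner_perp hF hb l hl0 hl
  obtain ⟨ω, hω⟩ := exTrNe hF
  obtain ⟨κ₂, -, hκ₂⟩ := exTr_ne hF (-1) (by rw [map_neg, map_one])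
  obtain ⟨κ₃, -, hκ₃⟩ := exTr_ne hF (-(ω * σ ω)) (by
    rw [map_neg, map_mul, sig_sig]
    ring)
  obtain ⟨κ₄, -, hκ₄⟩ := exTr_ne hF (-((1 + ω) * σ (1 + ω))) (by
    rw [map_neg, map_mul, sig_sig]
    ring)
  obtain ⟨κ₀, hκ₀def⟩ : ∃ κ₀ : F, κ₀ = -κ₂ - κ₃ + κ₄ := ⟨_, rfl⟩
  have hκ₀ : κ₀ + σ κ₀ = -(ω + σ ω) := by
    rw [hκ₀def]
    simp only [map_add, map_sub, map_neg, map_one, map_mul] at hκ₄ ⊢
    linear_combination (-1 : F) * hκ₂ - hκ₃ + hκ₄
  -- the basic moves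
  have hS : ∀ c₀ κ₁ : F, σ c₀ = -c₀ → σ κ₁ = -κ₁ → ∀ m : Fin b → F,
      InC hF H (pt x l + pt y m) → InC hF H (pt x l + pt y (m + (c₀ * (κ₁ + κ₀)) • l)) := by
    intro c₀ κ₁ hc₀ hκ₁ m hm
    have hc₀' : σ (-c₀) = -(-c₀) := by rw [map_neg, hc₀]
    have m1 := TC_step2 hF hHG hDIP x y l l' r hx hy hxy hl hl' hll' hr hrl hrl' m hm c₀ κ₁ 0 hc₀
      (by rw [hκ₁]; ring)
    have m2 := TC_step2 hF hHG hDIP x y l l' r hx hy hxy hl hl' hll' hr hrl hrl' _ m1 (-c₀) κ₂ 1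
      hc₀' (by rw [map_one]; linear_combination hκ₂)
    have m3 := TC_step2 hF hHG hDIP x y l l' r hx hy hxy hl hl' hll' hr hrl hrl' _ m2 (-c₀) κ₃ ω
      hc₀' (by linear_combination hκ₃)
    have m4 := TC_step2 hF hHG hDIP x y l l' r hx hy hxy hl hl' hll' hr hrl hrl' _ m3 c₀ κ₄
      (1 + ω) hc₀ (by linear_combination hκ₄)
    have e : m + c₀ • (l' + κ₁ • l + (0 : F) • r) + -c₀ • (l' + κ₂ • l + (1 : F) • r) +
        -c₀ • (l' + κ₃ • l + ω • r) + c₀ • (l' + κ₄ • l + (1 + ω) • r) =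
        m + (c₀ * (κ₁ + κ₀)) • l := by
      rw [hκ₀def]
      module
    rwa [e] at m4
  obtain ⟨c₁, hc₁0, hc₁⟩ := exT0 hF
  obtain ⟨ε, hεdef⟩ : ∃ ε : F, ε = c₁ * κ₀ := ⟨_, rfl⟩
  have hε : σ ε ≠ ε := by
    intro h
    rw [hεdef, map_mul, hc₁] at h
    have h1 : c₁ * (κ₀ + σ κ₀) = 0 := by linear_combination (-1 : F) * h
    rcases mul_eq_zero.mp h1 with h2 | h2
    · exact hc₁0 h2
    · rw [hκ₀] at h2
      exact hω (neg_eq_zero.mp h2)
  -- the moves `s ε + t` with `s ≠ 0`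
  have hS2 : ∀ s t : F, σ s = s → σ t = t → s ≠ 0 → ∀ m : Fin b → F,
      InC hF H (pt x l + pt y m) → InC hF H (pt x l + pt y (m + (s * ε + t) • l)) := by
    intro s t hs ht hs0 m hm
    have h1 := hS (s * c₁) (t / (s * c₁)) (by rw [map_mul, hs, hc₁]; ring) (by
      rw [map_div₀, map_mul, hs, ht, hc₁]
      rw [mul_neg, div_neg]) m hm
    have e : s * c₁ * (t / (s * c₁) + κ₀) = s * ε + t := by
      rw [hεdef]
      have : s * c₁ ≠ 0 := mul_ne_zero hs0 hc₁0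
      field_simp
      ring
    rwa [e] at h1
  have hS3 : ∀ lam' : F, ∀ m : Fin b → F,
      InC hF H (pt x l + pt y m) → InC hF H (pt x l + pt y (m + lam' • l)) := by
    intro lam' m hm
    obtain ⟨s, t, hs, ht, hst⟩ := fixed_decomp hF ε hε lam'
    by_cases hs0 : s = 0
    · have h1 := hS2 1 t (map_one _) ht one_ne_zero m hm
      have h2 := hS2 (-1) 0 (by rw [map_neg, map_one]) (map_zero _)
        (neg_ne_zero.mpr one_ne_zero) _ h1
      have e : m + ((1 : F) * ε + t) • l + ((-1 : F) * ε + 0) • l = m + lam' • l := by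
        rw [hst, hs0]
        module
      rwa [e] at h2
    · rw [hst]
      exact hS2 s t hs ht hs0 m hm
  have h0 : InC hF H (pt x l + pt y 0) := by
    rw [pt_zero_right, add_zero]
    exact hDIP x l hx hl
  have := hS3 lam 0 h0
  rwa [zero_add, pt_smul_right, ← pt_smul_left, ← pt_add_left] at this

include hHG hDIP in
/-- all pure tensors `c ⊗ ℓ` with `ℓ` isotropic lie in `C` -/
theorem InC_pure (ha : 2 ≤ a) (hb : 3 ≤ b) (c : Fin a → F) (l : Fin b → F) (hl : B₂ l l = 0) :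
    InC hF H (pt c l) := by
  by_cases hc0 : c = 0
  · rw [hc0, pt_zero_left]
    exact InC_zero hF H
  by_cases hl0 : l = 0
  · rw [hl0, pt_zero_right]
    exact InC_zero hF H
  obtain ⟨x, y, lam, hx, hy, hxy, rfl⟩ := ex_hyp_decomp hF ha c hc0
  exact TC hF hHG hDIP hb x y l hx hy hxy hl0 hl lam

end TC

end Cfsg.Agent.Lib.Helper1.TsU
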