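import Mathlib
import Cfsg.Agent.Lib.Helper1.TsU3
import Cfsg.Agent.Lib.Helper1.TsA7

/-!
# Unitary tensor products: centres of transvections in an overgroup, II

Column moves, connectivity inside a hyperbolic plane of `W`, and the induction over orthogonal
frames: if `C` contains all pure tensors `c ⊗ ℓ` (`ℓ` isotropic) then it contains all isotropic
vectors of `V`.
-/

set_option autoImplicit false
set_option maxHeartbeats 4000000
set_option maxRecDepth 100000
set_option linter.unusedSimpArgs false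
set_option linter.unusedVariables false
set_option linter.unusedSectionVars false
set_option linter.style.longLine false
set_option linter.deprecated false

namespace Cfsg.Agent.Lib.Helper1.TsU

open Module Matrix
open Cfsg
open Cfsg.Agent.Lib.Helper5.Herm Cfsg.Agent.Lib.Helper5.HermBridge
  Cfsg.Agent.Lib.Helper5.HermTv Cfsg.Agent.Lib.Helper5.HermEich
open Cfsg.Agent.Lib.Helper1.TsA
open Cfsg.Agent.Lib.Helper8.Tns

variable {F : Type*} [Field F] [Fintype F] {q : ℕ} (hF : Fintype.card F = q ^ 2)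

local notation "σ" => Cfsg.Agent.Lib.Helper5.HermBridge.sigma hF

variable {a b : ℕ} {H : Subgroup (GL (Fin a × Fin b) F)}

local notation "B₁" => hB hF (Fin a)
local notation "B₂" => hB hF (Fin b)
local notation "BV" => hB hF (Fin a × Fin b)

section moves

variable (hHG : H ≤ GUV hF (Fin a × Fin b))
  (hPure : ∀ (c : Fin a → F) (l : Fin b → F), hB hF (Fin b) l l = 0 → InC hF H (pt c l))

include hHG hPure in
/-- column move along an isotropic `ℓ` -/
theorem InC.col {v : Fin a × Fin b → F} (hv : InC hF H v) (l : Fin b → F) (hl : B₂ l l = 0)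
    (c : Fin a → F) (hτ : σ (B₁ (Cw hF l v) c) = -B₁ (Cw hF l v) c)
    (hτ0 : B₁ (Cw hF l v) c ≠ 0) : InC hF H (v + pt c l) := by
  apply (hPure c l hl).move hF hHG hv
  · rw [hB_pt_right]
    exact hτ
  · rw [hB_pt_right]
    exact hτ0

include hHG hPure in
/-- column move along an isotropic `ℓ`, allowing `τ = 0` -/
theorem InC.col' {v : Fin a × Fin b → F} (hv : InC hF H v) (l : Fin b → F) (hl : B₂ l l = 0)
    (hne : Cw hF l v ≠ 0)
    (c : Fin a → F) (hτ : σ (B₁ (Cw hF l v) c) = -B₁ (Cw hF l v) c) :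
    InC hF H (v + pt c l) := by
  by_cases hτ0 : B₁ (Cw hF l v) c = 0
  swap
  · exact hv.col hF hHG hPure l hl c hτ hτ0
  obtain ⟨t₀, ht₀0, ht₀⟩ := exT0 hF
  obtain ⟨z, hz⟩ := ex_prescribed1 hF (Cw hF l v) hne (σ t₀)
  have hz' : B₁ (Cw hF l v) z = t₀ := by rw [← hB_conj, hz, sig_sig]
  have h1 := hv.col hF hHG hPure l hl z (by rw [hz', ht₀]) (by rw [hz']; exact ht₀0)
  have hC : Cw hF l (v + pt z l) = Cw hF l v := by
    rw [map_add, Cw_pt, hl, zero_smul, add_zero]
  have h2 := h1.col hF hHG hPure l hl (c - z) (by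
    rw [hC, map_sub, hτ0, hz', zero_sub, map_neg, ht₀]) (by
    rw [hC, map_sub, hτ0, hz', zero_sub]
    exact neg_ne_zero.mpr ht₀0)
  have e : v + pt z l + pt (c - z) l = v + pt c l := by
    rw [pt_sub_left]
    abel
  rwa [e] at h2

end moves

/-! ### connectivity inside a hyperbolic plane -/

/-- a hyperbolic pair `w, w'` of `W` and a vector `v''` of `U ⊗ ⟨w, w'⟩^⊥` -/
structure HP (w w' : Fin b → F) (v'' : Fin a × Fin b → F) : Prop where
  hw : hB hF (Fin b) w w = 0
  hw' : hB hF (Fin b) w' w' = 0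
  hww' : hB hF (Fin b) w w' = 1
  h1 : Cw hF w v'' = 0
  h2 : Cw hF w' v'' = 0

/-- `a ⊗ w + a' ⊗ w' + v''` -/
def vec (w w' : Fin b → F) (v'' : Fin a × Fin b → F) (x x' : Fin a → F) : Fin a × Fin b → F :=
  pt x w + pt x' w' + v''

variable {hF}

theorem HP.hw'w {w w' : Fin b → F} {v'' : Fin a × Fin b → F} (P : HP hF w w' v'') :
    B₂ w' w = 1 := by
  rw [← hB_conj, P.hww', map_one]

theorem HP.symm {w w' : Fin b → F} {v'' : Fin a × Fin b → F} (P : HP hF w w' v'') :
    HP hF w' w v'' := ⟨P.hw', P.hw, P.hw'w, P.h2, P.h1⟩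

theorem vec_symm (w w' : Fin b → F) (v'' : Fin a × Fin b → F) (x x' : Fin a → F) :
    vec w w' v'' x x' = vec w' w v'' x' x := by
  unfold vec
  abel

theorem HP.Cw_vec {w w' : Fin b → F} {v'' : Fin a × Fin b → F} (P : HP hF w w' v'')
    (x x' : Fin a → F) : Cw hF w (vec w w' v'' x x') = x' := by
  unfold vec
  rw [map_add, map_add, Cw_pt, Cw_pt, P.hw, P.hw'w, P.h1, zero_smul, one_smul, zero_add, add_zero]

theorem HP.vec_iso {w w' : Fin b → F} {v'' : Fin a × Fin b → F} (P : HP hF w w' v'')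
    (x x' : Fin a → F) :
    BV (vec w w' v'' x x') (vec w w' v'' x x') = B₁ x x' + B₁ x' x + BV v'' v'' := by
  unfold vec
  have t11 : BV (pt x w) (pt x w) = 0 := by rw [hB_pt, P.hw, mul_zero]
  have t12 : BV (pt x w) (pt x' w') = B₁ x x' := by rw [hB_pt, P.hww', mul_one]
  have t21 : BV (pt x' w') (pt x w) = B₁ x' x := by rw [hB_pt, P.hw'w, mul_one]
  have t22 : BV (pt x' w') (pt x' w') = 0 := by rw [hB_pt, P.hw', mul_zero]
  have t13 : BV (pt x w) v'' = 0 := by rw [hB_pt_left, P.h1, map_zero]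
  have t23 : BV (pt x' w') v'' = 0 := by rw [hB_pt_left, P.h2, map_zero]
  have t31 : BV v'' (pt x w) = 0 := by rw [hB_pt_right, P.h1, map_zero, LinearMap.zero_apply]
  have t32 : BV v'' (pt x' w') = 0 := by rw [hB_pt_right, P.h2, map_zero, LinearMap.zero_apply]
  simp only [map_add, LinearMap.add_apply, t11, t12, t21, t22, t13, t23, t31, t32]
  ring

/-- the condition for `vec x x'` to be isotropic -/
def IsoP (v'' : Fin a × Fin b → F) (x x' : Fin a → F) : Prop :=
  hB hF (Fin a) x x' + hB hF (Fin a) x' x + hB hF (Fin a × Fin b) v'' v'' = 0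

section path

variable (hHG : H ≤ GUV hF (Fin a × Fin b))
  (hPure : ∀ (c : Fin a → F) (l : Fin b → F), hB hF (Fin b) l l = 0 → InC hF H (pt c l))

include hHG hPure in
/-- **(M1)** the `w`-column can be changed freely when the `w'`-column is nonzero -/
theorem HP.M1 {w w' : Fin b → F} {v'' : Fin a × Fin b → F} (P : HP hF w w' v'')
    (x y x' : Fin a → F) (hx' : x' ≠ 0) (h1 : IsoP (hF := hF) v'' x x')
    (h2 : IsoP (hF := hF) v'' y x')
    (h : InC hF H (vec w w' v'' x x')) : InC hF H (vec w w' v'' y x') := by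
  have e : vec w w' v'' y x' = vec w w' v'' x x' + pt (y - x) w := by
    unfold vec
    rw [pt_sub_left]
    abel
  rw [e]
  apply h.col' hF hHG hPure w P.hw
  · rw [P.Cw_vec]
    exact hx'
  · rw [P.Cw_vec]
    unfold IsoP at h1 h2
    have e1 : σ (B₁ x' (y - x)) = B₁ (y - x) x' := hB_conj hF _ _
    rw [e1]
    simp only [map_sub, LinearMap.sub_apply]
    linear_combination h2 - h1

include hHG hPure in
/-- **(M2)** the `w'`-column can be changed freely when the `w`-column is nonzero -/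
theorem HP.M2 {w w' : Fin b → F} {v'' : Fin a × Fin b → F} (P : HP hF w w' v'')
    (x x' y' : Fin a → F) (hx : x ≠ 0) (h1 : IsoP (hF := hF) v'' x x')
    (h2 : IsoP (hF := hF) v'' x y')
    (h : InC hF H (vec w w' v'' x x')) : InC hF H (vec w w' v'' x y') := by
  rw [vec_symm] at h ⊢
  refine P.symm.M1 hHG hPure x' y' x hx ?_ ?_ h
  · unfold IsoP at h1 ⊢
    linear_combination h1
  · unfold IsoP at h2 ⊢
    linear_combination h2

include hHG hPure in
theorem HP.pathA {w w' : Fin b → F} {v'' : Fin a × Fin b → F} (P : HP hF w w' v'')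
    (x x' y y' : Fin a → F) (hx' : x' ≠ 0) (hy' : y' ≠ 0)
    (hli : LinearIndependent F ![x', y'])
    (h1 : IsoP (hF := hF) v'' x x') (h2 : IsoP (hF := hF) v'' y y')
    (h : InC hF H (vec w w' v'' x x')) : InC hF H (vec w w' v'' y y') := by
  obtain ⟨κ, hκ0, hκ⟩ := exTr_ne hF (-(BV v'' v'')) (by rw [map_neg, hB_self_fixed])
  obtain ⟨z, hz1, hz2⟩ := ex_prescribed2 hF x' y' hli κ κ
  have hz0 : z ≠ 0 := by
    rintro rfl
    rw [map_zero, LinearMap.zero_apply] at hz1
    exact hκ0 hz1.symm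
  have hz1' : B₁ x' z = σ κ := by rw [← hB_conj, hz1]
  have hz2' : B₁ y' z = σ κ := by rw [← hB_conj, hz2]
  have i1 : IsoP (hF := hF) v'' z x' := by
    unfold IsoP
    rw [hz1, hz1']
    linear_combination hκ
  have i2 : IsoP (hF := hF) v'' z y' := by
    unfold IsoP
    rw [hz2, hz2']
    linear_combination hκ
  have s1 := P.M1 hHG hPure x z x' hx' h1 i1 h
  have s2 := P.M2 hHG hPure z x' y' hz0 i1 i2 s1
  exact P.M1 hHG hPure z y y' hy' i2 h2 s2

/-- a vector independent of a given nonzero vector -/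
theorem ex_indep (hF : Fintype.card F = q ^ 2) (ha : 2 ≤ a) (x : Fin a → F) (hx : x ≠ 0) :
    ∃ z : Fin a → F, LinearIndependent F ![x, z] := by
  obtain ⟨e, f, he, hf, hef⟩ := ex_hyp hF ha
  by_cases h : ∃ c : F, e = c • x
  · obtain ⟨c, hc⟩ := h
    refine ⟨f, pair_indep_of_not_smul hx ?_⟩
    intro d hd
    have hc0 : c ≠ 0 := by
      rintro rfl
      rw [zero_smul] at hc
      rw [hc, map_zero, LinearMap.zero_apply] at hef
      exact zero_ne_one hef
    have h1 : hB hF (Fin a) x x = 0 := by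
      rw [hc] at he
      simp only [map_smul, LinearMap.smul_apply, LinearMap.map_smulₛₗ, smul_eq_mul] at he
      rcases mul_eq_zero.mp he with h2 | h2
      · exact absurd h2 (sig_ne_zero hF hc0)
      · rcases mul_eq_zero.mp h2 with h3 | h3
        · exact absurd h3 hc0
        · exact h3
    rw [hc, hd] at hef
    simp only [map_smul, LinearMap.smul_apply, LinearMap.map_smulₛₗ, smul_eq_mul, h1,
      mul_zero] at hef
    exact zero_ne_one hef
  · push Not at h
    exact ⟨e, pair_indep_of_not_smul hx h⟩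

include hHG hPure in
theorem HP.pathB (ha : 2 ≤ a) {w w' : Fin b → F} {v'' : Fin a × Fin b → F} (P : HP hF w w' v'')
    (x x' y y' : Fin a → F) (hx' : x' ≠ 0) (hy' : y' ≠ 0)
    (h1 : IsoP (hF := hF) v'' x x') (h2 : IsoP (hF := hF) v'' y y')
    (h : InC hF H (vec w w' v'' x x')) : InC hF H (vec w w' v'' y y') := by
  by_cases hli : LinearIndependent F ![x', y']
  · exact P.pathA hHG hPure x x' y y' hx' hy' hli h1 h2 h
  obtain ⟨μ, hμ⟩ : ∃ μ : F, y' = μ • x' := by
    by_contra hcon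
    push Not at hcon
    exact hli (pair_indep_of_not_smul hx' hcon)
  have hμ0 : μ ≠ 0 := by
    rintro rfl
    rw [zero_smul] at hμ
    exact hy' hμ
  obtain ⟨z', hz'⟩ := ex_indep hF ha x' hx'
  have hz'0 : z' ≠ 0 := by
    have := hz'.ne_zero 1
    simpa using this
  have hli2 : LinearIndependent F ![z', y'] := by
    rw [hμ]
    exact pair_indep_smul_right (pair_swap hz') hμ0
  obtain ⟨κ, -, hκ⟩ := exTr_ne hF (-(BV v'' v'')) (by rw [map_neg, hB_self_fixed])
  obtain ⟨z, hz⟩ := ex_prescribed1 hF z' hz'0 κ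
  have i1 : IsoP (hF := hF) v'' z z' := by
    unfold IsoP
    have : B₁ z' z = σ κ := by rw [← hB_conj, hz]
    rw [hz, this]
    linear_combination hκ
  have s1 := P.pathA hHG hPure x x' z z' hx' hz'0 hz' h1 i1 h
  exact P.pathA hHG hPure z z' y y' hz'0 hy' hli2 i1 h2 s1

include hHG hPure in
theorem HP.pathC (ha : 2 ≤ a) {w w' : Fin b → F} {v'' : Fin a × Fin b → F} (P : HP hF w w' v'')
    (x x' y y' : Fin a → F) (hxx' : x ≠ 0 ∨ x' ≠ 0) (hy' : y' ≠ 0)
    (h1 : IsoP (hF := hF) v'' x x') (h2 : IsoP (hF := hF) v'' y y')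
    (h : InC hF H (vec w w' v'' x x')) : InC hF H (vec w w' v'' y y') := by
  by_cases hx' : x' = 0
  swap
  · exact P.pathB hHG hPure ha x x' y y' hx' hy' h1 h2 h
  have hx : x ≠ 0 := hxx'.resolve_right (not_not.mpr hx')
  obtain ⟨t, ht0, ht⟩ := exT0 hF
  have i1 : IsoP (hF := hF) v'' x (t • x) := by
    unfold IsoP at h1 ⊢
    simp only [hx', map_zero, LinearMap.zero_apply, add_zero, zero_add] at h1
    simp only [map_smul, LinearMap.smul_apply, LinearMap.map_smulₛₗ, smul_eq_mul, ht, h1]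
    ring
  have s1 := P.M2 hHG hPure x x' (t • x) hx h1 i1 h
  exact P.pathB hHG hPure ha x (t • x) y y' (smul_ne_zero ht0 hx) hy' i1 h2 s1

include hHG hPure in
/-- connectivity of the isotropic vectors with a fixed `⟨w, w'⟩^⊥`-component -/
theorem HP.path (ha : 2 ≤ a) {w w' : Fin b → F} {v'' : Fin a × Fin b → F} (P : HP hF w w' v'')
    (x x' y y' : Fin a → F) (hxx' : x ≠ 0 ∨ x' ≠ 0) (hyy' : y ≠ 0 ∨ y' ≠ 0)
    (h1 : IsoP (hF := hF) v'' x x') (h2 : IsoP (hF := hF) v'' y y')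
    (h : InC hF H (vec w w' v'' x x')) : InC hF H (vec w w' v'' y y') := by
  by_cases hy' : y' = 0
  swap
  · exact P.pathC hHG hPure ha x x' y y' hxx' hy' h1 h2 h
  have hy : y ≠ 0 := hyy'.resolve_right (not_not.mpr hy')
  obtain ⟨t, ht0, ht⟩ := exT0 hF
  have i1 : IsoP (hF := hF) v'' y (t • y) := by
    unfold IsoP at h2 ⊢
    simp only [hy', map_zero, LinearMap.zero_apply, add_zero, zero_add] at h2
    simp only [map_smul, LinearMap.smul_apply, LinearMap.map_smulₛₗ, smul_eq_mul, ht, h2]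
    ring
  have s1 := P.pathC hHG hPure ha x x' y (t • y) hxx' (smul_ne_zero ht0 hy) h1 i1 h
  exact P.M2 hHG hPure y (t • y) y' hy i1 h2 s1

end path

/-! ### merging two orthogonal anisotropic vectors into a hyperbolic pair -/

variable (hF)

theorem merge (g g' : Fin b → F) (hgg' : B₂ g g' = 0) (hg : B₂ g g ≠ 0) (hg' : B₂ g' g' ≠ 0) :
    ∃ (w w' : Fin b → F) (m₁ m₂ m₃ m₄ p₁ p₂ p₃ p₄ : F), B₂ w w = 0 ∧ B₂ w' w' = 0 ∧
      B₂ w w' = 1 ∧ w = m₁ • g + m₂ • g' ∧ w' = m₃ • g + m₄ • g' ∧ g = p₁ • w + p₂ • w' ∧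
      g' = p₃ • w + p₄ • w' := by
  obtain ⟨ν, hν⟩ : ∃ ν : F, ν = B₂ g g := ⟨_, rfl⟩
  obtain ⟨ν', hν'⟩ : ∃ ν' : F, ν' = B₂ g' g' := ⟨_, rfl⟩
  rw [← hν] at hg
  rw [← hν'] at hg'
  have hg'g : B₂ g' g = 0 := hB_eq_zero_symm hF hgg'
  have hσν : σ ν = ν := by rw [hν, hB_self_fixed]
  have hσν' : σ ν' = ν' := by rw [hν', hB_self_fixed]
  obtain ⟨t, ht⟩ := exNorm hF (-ν / ν') (div_ne_zero (neg_ne_zero.mpr hg) hg') (by
    rw [map_div₀, map_neg, hσν, hσν'])
  have ht' : t * σ t * ν' = -ν := by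
    rw [ht]
    field_simp
  obtain ⟨η, hη, hη1⟩ := exNormOne hF
  have ht0 : t ≠ 0 := by
    rintro rfl
    rw [zero_mul, zero_mul] at ht'
    exact hg (neg_eq_zero.mp ht'.symm)
  obtain ⟨β, hβ⟩ : ∃ β : F, β = ν * (1 - σ η) := ⟨_, rfl⟩
  have hση1 : σ η ≠ 1 := by
    intro h
    apply hη1
    have := congrArg σ h
    rwa [sig_sig, map_one] at this
  have hβ0 : β ≠ 0 := by
    rw [hβ]
    exact mul_ne_zero hg (sub_ne_zero.mpr (Ne.symm hση1))
  have h1η : 1 - η ≠ 0 := sub_ne_zero.mpr (Ne.symm hη1)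
  obtain ⟨s, hs⟩ : ∃ s : F, s = σ β⁻¹ := ⟨_, rfl⟩
  have hs0 : s ≠ 0 := by
    rw [hs]
    exact sig_ne_zero hF (inv_ne_zero hβ0)
  have hσs : σ s * β = 1 := by
    rw [hs, sig_sig]
    exact inv_mul_cancel₀ hβ0
  have hk : t * (1 - η) ≠ 0 := mul_ne_zero ht0 h1η
  refine ⟨g + t • g', s • (g + (η * t) • g'), 1, t, s, s * (η * t),
    1 - t * (t * (1 - η))⁻¹, t * (t * (1 - η))⁻¹ * s⁻¹,
    (t * (1 - η))⁻¹, -(t * (1 - η))⁻¹ * s⁻¹, ?_, ?_, ?_, ?_, ?_, ?_, ?_⟩
  · simp only [map_add, LinearMap.add_apply, map_smul, LinearMap.smul_apply,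
      LinearMap.map_smulₛₗ, smul_eq_mul, hgg', hg'g, ← hν, ← hν']
    linear_combination ht'
  · simp only [map_add, LinearMap.add_apply, map_smul, LinearMap.smul_apply,
      LinearMap.map_smulₛₗ, smul_eq_mul, hgg', hg'g, ← hν, ← hν', map_mul]
    linear_combination (s * σ s) * (η * σ η) * ht' - (s * σ s * ν) * hη
  · simp only [map_add, LinearMap.add_apply, map_smul, LinearMap.smul_apply,
      LinearMap.map_smulₛₗ, smul_eq_mul, hgg', hg'g, ← hν, ← hν', map_mul]
    have : σ s * (ν + t * (σ η * σ t * ν')) = σ s * β := by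
      rw [hβ]
      linear_combination (σ s * σ η) * ht'
    linear_combination this + hσs
  · module
  · module
  · have e1 : t * (1 - η) * (t * (1 - η))⁻¹ = 1 := mul_inv_cancel₀ hk
    have e2 : s * s⁻¹ = 1 := mul_inv_cancel₀ hs0
    linear_combination (norm := module) (t * e1) • g' -
      (t * (t * (1 - η))⁻¹ * e2) • (g + (η * t) • g')
  · have e1 : t * (1 - η) * (t * (1 - η))⁻¹ = 1 := mul_inv_cancel₀ hk
    have e2 : s * s⁻¹ = 1 := mul_inv_cancel₀ hs0
    linear_combination (norm := module) (-e1) • g' +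
      ((t * (1 - η))⁻¹ * e2) • (g + (η * t) • g')

end Cfsg.Agent.Lib.Helper1.TsU
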