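import Mathlib
import Cfsg.Agent.Lib.Helper1.TsU4
import Cfsg.Agent.Lib.Helper5.TensorFormSub

/-!
# Unitary tensor products: centres of transvections in an overgroup, III

The induction over orthogonal frames, and the conclusion: an overgroup of the tensor product
group containing a transvection whose centre is a doubly isotropic pure tensor contains `SU(V)`.
-/

set_option autoImplicit false
set_option maxHeartbeats 4000000
set_option maxRecDepth 100000
set_option linter.unusedSimpArgs false
set_option linter.unusedVariables false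
set_option linter.unusedSectionVars false
set_option linter.style.longLine false
set_option linter.deprecated false

namespace Cfsg.Agent.Lib.Helper1.TsU

open Module Matrix
open Cfsg
open Cfsg.Agent.Lib.Helper5.Herm Cfsg.Agent.Lib.Helper5.HermBridge
  Cfsg.Agent.Lib.Helper5.HermTv Cfsg.Agent.Lib.Helper5.HermEich
open Cfsg.Agent.Lib.Helper1.TsA
open Cfsg.Agent.Lib.Helper8.Tns

variable {F : Type*} [Field F] [Fintype F] {q : ℕ} (hF : Fintype.card F = q ^ 2)

local notation "σ" => Cfsg.Agent.Lib.Helper5.HermBridge.sigma hF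

variable {a b : ℕ} {H : Subgroup (GL (Fin a × Fin b) F)}

local notation "B₁" => hB hF (Fin a)
local notation "B₂" => hB hF (Fin b)
local notation "BV" => hB hF (Fin a × Fin b)

section frames

variable (hHG : H ≤ GUV hF (Fin a × Fin b))
  (hPure : ∀ (c : Fin a → F) (l : Fin b → F), hB hF (Fin b) l l = 0 → InC hF H (pt c l))

include hHG hPure in
/-- a pure tensor `c ⊗ g` with `c` isotropic and `g` anisotropic lies in `C` -/
theorem frame_base (ha : 2 ≤ a) (hb : 2 ≤ b) (gs : Fin b → F) (cs : Fin a → F)
    (hgs : B₂ gs gs ≠ 0) (hiso : BV (pt cs gs) (pt cs gs) = 0) : InC hF H (pt cs gs) := by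
  by_cases hcs : cs = 0
  · rw [hcs, pt_zero_left]
    exact InC_zero hF H
  have hc : B₁ cs cs = 0 := by
    rw [hB_pt] at hiso
    rcases mul_eq_zero.mp hiso with h | h
    · exact h
    · exact absurd h hgs
  have hgs0 : gs ≠ 0 := ne_zero_of_hB_left hF hgs
  obtain ⟨l, l', lam, hl, hl', hll', hg⟩ := ex_hyp_decomp hF hb gs hgs0
  have P : HP hF l l' (0 : Fin a × Fin b → F) := ⟨hl, hl', hll', map_zero _, map_zero _⟩
  have h0 : InC hF H (vec l l' (0 : Fin a × Fin b → F) cs 0) := by
    unfold vec
    rw [pt_zero_left, add_zero, add_zero]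
    exact hPure cs l hl
  have h1 := P.M2 hHG hPure cs 0 (lam • cs) hcs (by
    unfold IsoP
    simp) (by
    unfold IsoP
    simp only [map_smul, LinearMap.smul_apply, LinearMap.map_smulₛₗ, smul_eq_mul, hc, mul_zero,
      map_zero, LinearMap.zero_apply, add_zero]) h0
  have e : vec l l' (0 : Fin a × Fin b → F) cs (lam • cs) = pt cs gs := by
    unfold vec
    rw [hg, pt_add_right, pt_smul_right, pt_smul_left, add_zero]
  rwa [e] at h1

include hHG hPure in
/-- induction over orthogonal frames of anisotropic vectors -/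
theorem frame_ind (ha : 2 ≤ a) (hb : 2 ≤ b) : ∀ (d : ℕ) (g : Fin d → (Fin b → F))
    (c : Fin d → (Fin a → F)) (gs : Fin b → F) (cs : Fin a → F),
    (∀ i j, i ≠ j → B₂ (g i) (g j) = 0) → (∀ i, B₂ (g i) gs = 0) → (∀ i, B₂ (g i) (g i) ≠ 0) →
    B₂ gs gs ≠ 0 →
    BV (∑ i, pt (c i) (g i) + pt cs gs) (∑ i, pt (c i) (g i) + pt cs gs) = 0 →
    InC hF H (∑ i, pt (c i) (g i) + pt cs gs) := by
  intro d
  induction d with
  | zero =>
    intro g c gs cs _ _ _ hgs hiso
    rw [Finset.univ_eq_empty, Finset.sum_empty, zero_add] at hiso ⊢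
    exact frame_base hF hHG hPure ha hb gs cs hgs hiso
  | succ d ih =>
    intro g c gs cs horth hperp haniso hgs hiso
    obtain ⟨gA, hgA⟩ : ∃ gA : Fin b → F, gA = g (Fin.last d) := ⟨_, rfl⟩
    obtain ⟨cA, hcA⟩ : ∃ cA : Fin a → F, cA = c (Fin.last d) := ⟨_, rfl⟩
    obtain ⟨v'', hv''⟩ : ∃ v'' : Fin a × Fin b → F,
      v'' = ∑ i : Fin d, pt (c i.castSucc) (g i.castSucc) := ⟨_, rfl⟩
    have hsum : ∑ i, pt (c i) (g i) + pt cs gs = v'' + pt cA gA + pt cs gs := by
      rw [Fin.sum_univ_castSucc, hv'', hgA, hcA]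
    rw [hsum] at hiso ⊢
    have hne : ∀ i : Fin d, i.castSucc ≠ Fin.last d := fun i => (Fin.castSucc_lt_last i).ne
    have h0A : ∀ i : Fin d, B₂ (g i.castSucc) gA = 0 := by
      intro i
      rw [hgA]
      exact horth _ _ (hne i)
    have h0s : ∀ i : Fin d, B₂ (g i.castSucc) gs = 0 := fun i => hperp _
    have hAs : B₂ gA gs = 0 := by
      rw [hgA]
      exact hperp _
    have hA : B₂ gA gA ≠ 0 := by
      rw [hgA]
      exact haniso _
    obtain ⟨w, w', m₁, m₂, m₃, m₄, p₁, p₂, p₃, p₄, hw, hw', hww', hwdef, hw'def, hgAw, hgsw⟩ :=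
      merge hF gA gs hAs hA hgs
    have h0w : ∀ i : Fin d, B₂ (g i.castSucc) w = 0 := by
      intro i
      rw [hwdef]
      simp only [map_add, LinearMap.map_smulₛₗ, smul_eq_mul, h0A i, h0s i, mul_zero, add_zero]
    have h0w' : ∀ i : Fin d, B₂ (g i.castSucc) w' = 0 := by
      intro i
      rw [hw'def]
      simp only [map_add, LinearMap.map_smulₛₗ, smul_eq_mul, h0A i, h0s i, mul_zero, add_zero]
    have hC1 : Cw hF w v'' = 0 := by
      rw [hv'', map_sum]
      apply Finset.sum_eq_zero
      intro i _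
      rw [Cw_pt, h0w i, zero_smul]
    have hC2 : Cw hF w' v'' = 0 := by
      rw [hv'', map_sum]
      apply Finset.sum_eq_zero
      intro i _
      rw [Cw_pt, h0w' i, zero_smul]
    have P : HP hF w w' v'' := ⟨hw, hw', hww', hC1, hC2⟩
    obtain ⟨x, hx⟩ : ∃ x : Fin a → F, x = p₁ • cA + p₃ • cs := ⟨_, rfl⟩
    obtain ⟨x', hx'⟩ : ∃ x' : Fin a → F, x' = p₂ • cA + p₄ • cs := ⟨_, rfl⟩
    have hvec : v'' + pt cA gA + pt cs gs = vec w w' v'' x x' := by
      unfold vec
      rw [hx, hx']
      nth_rewrite 1 [hgAw, hgsw]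
      simp only [pt_add_left, pt_add_right, pt_smul_left, pt_smul_right]
      abel
    rw [hvec] at hiso ⊢
    have hI : IsoP (hF := hF) v'' x x' := by
      unfold IsoP
      rw [← P.vec_iso, hiso]
    by_cases hzero : x = 0 ∧ x' = 0
    · -- the plane component vanishes
      have e : vec w w' v'' x x' = ∑ i : Fin d, pt (c i.castSucc) (g i.castSucc) + pt 0 gA := by
        unfold vec
        rw [hzero.1, hzero.2, pt_zero_left, pt_zero_left, pt_zero_left, zero_add, zero_add,
          add_zero, hv'']
      rw [e] at hiso ⊢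
      apply ih (fun i => g i.castSucc) (fun i => c i.castSucc) gA 0 _ h0A (fun i => haniso _) hA
        hiso
      intro i j hij
      exact horth _ _ (fun h => hij (Fin.castSucc_inj.mp h))
    · have hxx' : x ≠ 0 ∨ x' ≠ 0 := by
        by_contra hcon
        push Not at hcon
        exact hzero hcon
      obtain ⟨ν, hν⟩ : ∃ ν : F, ν = -(BV v'' v'') := ⟨_, rfl⟩
      have hσν : σ ν = ν := by rw [hν, map_neg, hB_self_fixed]
      -- the target `(c*, β c*)`
      obtain ⟨cst, β, hcst0, hβtr, hIt⟩ : ∃ (cst : Fin a → F) (β : F), cst ≠ 0 ∧ β + σ β ≠ 0 ∧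
          IsoP (hF := hF) v'' cst (β • cst) := by
        by_cases hν0 : ν = 0
        · obtain ⟨e, f, he, hf, hef⟩ := ex_hyp hF ha
          obtain ⟨β, hβ⟩ := exTrNe hF
          refine ⟨e, β, ne_zero_of_hB_left hF (by rw [hef]; exact one_ne_zero), hβ, ?_⟩
          unfold IsoP
          simp only [map_smul, LinearMap.smul_apply, LinearMap.map_smulₛₗ, smul_eq_mul, he,
            mul_zero, zero_add]
          rw [hν0] at hν
          linear_combination hν
        · have ha0 : 0 < a := by omega
          obtain ⟨β, -, hβ⟩ := exTr_ne hF ν hσν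
          refine ⟨Pi.single (⟨0, ha0⟩ : Fin a) 1, β, ?_, by rw [hβ]; exact hν0, ?_⟩
          · intro h
            have := congrFun h ⟨0, ha0⟩
            simp at this
          · unfold IsoP
            simp only [map_smul, LinearMap.smul_apply, LinearMap.map_smulₛₗ, smul_eq_mul,
              hB_single_right, Pi.single_eq_same]
            linear_combination hβ + hν
      have hgst : B₂ (w + β • w') (w + β • w') ≠ 0 := by
        simp only [map_add, LinearMap.add_apply, map_smul, LinearMap.smul_apply,
          LinearMap.map_smulₛₗ, smul_eq_mul, hw, hw', hww', P.hw'w]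
        intro h
        apply hβtr
        linear_combination h
      have e : vec w w' v'' cst (β • cst) =
          ∑ i : Fin d, pt (c i.castSucc) (g i.castSucc) + pt cst (w + β • w') := by
        unfold vec
        rw [pt_add_right, pt_smul_right, pt_smul_left, hv'']
        abel
      have hisot : BV (vec w w' v'' cst (β • cst)) (vec w w' v'' cst (β • cst)) = 0 := by
        rw [P.vec_iso]
        exact hIt
      have h1 : InC hF H (vec w w' v'' cst (β • cst)) := by
        rw [e] at hisot ⊢
        apply ih (fun i => g i.castSucc) (fun i => c i.castSucc) (w + β • w') cst _ _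
          (fun i => haniso _) hgst hisot
        · intro i j hij
          exact horth _ _ (fun h => hij (Fin.castSucc_inj.mp h))
        · intro i
          simp only [map_add, LinearMap.map_smulₛₗ, smul_eq_mul, h0w i, h0w' i, mul_zero,
            add_zero]
      exact P.path hHG hPure ha cst (β • cst) x x' (Or.inl hcst0) hxx' hIt hI h1

theorem sum_cols (v : Fin a × Fin b → F) :
    v = ∑ j, pt (fun i => v (i, j)) (Pi.single j (1 : F)) := by
  ext ⟨i, j⟩
  rw [Finset.sum_apply]
  simp only [pt_apply]
  rw [Finset.sum_eq_single j]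
  · simp
  · intro k _ hk
    rw [Pi.single_eq_of_ne hk.symm, mul_zero]
  · intro h
    exact absurd (Finset.mem_univ j) h

include hHG hPure in
/-- all isotropic vectors lie in `C` -/
theorem InC_all (ha : 2 ≤ a) (hb : 2 ≤ b) (v : Fin a × Fin b → F) (hv : BV v v = 0) :
    InC hF H v := by
  obtain ⟨b', rfl⟩ : ∃ b', b = b' + 1 := ⟨b - 1, by omega⟩
  have hs := sum_cols v
  rw [Fin.sum_univ_castSucc] at hs
  have hsingle : ∀ i j : Fin (b' + 1),
      hB hF (Fin (b' + 1)) (Pi.single i (1 : F)) (Pi.single j (1 : F)) =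
      if i = j then 1 else 0 := by
    intro i j
    rw [hB_single_right]
    by_cases hij : i = j
    · rw [hij, if_pos rfl, Pi.single_eq_same]
    · rw [if_neg hij, Pi.single_eq_of_ne (Ne.symm hij)]
  rw [hs] at hv ⊢
  apply frame_ind hF hHG hPure ha hb b' (fun j => Pi.single j.castSucc (1 : F))
    (fun j => fun i => v (i, j.castSucc)) (Pi.single (Fin.last b') (1 : F))
    (fun i => v (i, Fin.last b')) _ _ _ _ hv
  · intro i j hij
    rw [hsingle, if_neg (fun h => hij (Fin.castSucc_inj.mp h))]
  · intro i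
    rw [hsingle, if_neg (Fin.castSucc_lt_last i).ne]
  · intro i
    rw [hsingle, if_pos rfl]
    exact one_ne_zero
  · rw [hsingle, if_pos rfl]
    exact one_ne_zero

end frames

end Cfsg.Agent.Lib.Helper1.TsU
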