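import Mathlib
import Cfsg.Agent.Lib.Helper1.TsU5

/-!
# Unitary tensor products: transfer to `Fin n` and the closure theorem
-/

set_option autoImplicit false
set_option maxHeartbeats 4000000
set_option maxRecDepth 100000
set_option linter.unusedSimpArgs false
set_option linter.unusedVariables false
set_option linter.unusedSectionVars false
set_option linter.style.longLine false
set_option linter.deprecated false

namespace Cfsg.Agent.Lib.Helper1.TsU

open Module Matrix
open Cfsg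
open Cfsg.Agent.Lib.Helper5.Herm Cfsg.Agent.Lib.Helper5.HermBridge
  Cfsg.Agent.Lib.Helper5.HermTv Cfsg.Agent.Lib.Helper5.HermEich
open Cfsg.Agent.Lib.Helper5.TensorSub
open Cfsg.Agent.Lib.Helper1.TsA
open Cfsg.Agent.Lib.Helper8.Tns

variable {F : Type*} [Field F] [Fintype F] {q : ℕ} (hF : Fintype.card F = q ^ 2)

local notation "σ" => Cfsg.Agent.Lib.Helper5.HermBridge.sigma hF

variable {a b n : ℕ} {H : Subgroup (GL (Fin a × Fin b) F)}

local notation "B₁" => hB hF (Fin a)
local notation "B₂" => hB hF (Fin b)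
local notation "BV" => hB hF (Fin a × Fin b)
local notation "emb'" => Cfsg.Agent.Lib.Helper5.TensorFormSub.emb

section transfer

variable (e : Fin n ≃ Fin a × Fin b) (P : GL (Fin n) F)
  (hform : ∀ v v' : Fin a × Fin b → F,
    hermForm n F q (Cfsg.Agent.Lib.Helper5.TensorFormSub.emb e P v)
      (Cfsg.Agent.Lib.Helper5.TensorFormSub.emb e P v') = hB hF (Fin a × Fin b) v v')

theorem det_Phi (x : GL (Fin a × Fin b) F) :
    ((Phi e P x : GL (Fin n) F) : Matrix (Fin n) (Fin n) F).det =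
      (x : Matrix (Fin a × Fin b) (Fin a × Fin b) F).det := by
  rw [coe_Phi, Matrix.det_mul, Matrix.det_mul, Matrix.det_submatrix_equiv_self]
  have h1 : (P : Matrix (Fin n) (Fin n) F).det *
      ((P⁻¹ : GL (Fin n) F) : Matrix (Fin n) (Fin n) F).det = 1 := by
    rw [← Matrix.det_mul, ← Units.val_mul, mul_inv_cancel, Units.val_one, Matrix.det_one]
  linear_combination (x : Matrix (Fin a × Fin b) (Fin a × Fin b) F).det * h1

include hform in
theorem Phi_mem_GU_iff (x : GL (Fin a × Fin b) F) :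
    Phi e P x ∈ Cfsg.GU n F q ↔ x ∈ GUV hF (Fin a × Fin b) := by
  constructor
  · intro h
    rw [mem_GUV]
    intro v v'
    rw [← hform, ← hform, ← Cfsg.Agent.Lib.Helper5.TensorFormSub.Phi_emb,
      ← Cfsg.Agent.Lib.Helper5.TensorFormSub.Phi_emb]
    exact h _ _
  · intro h u u'
    obtain ⟨v, rfl⟩ := Cfsg.Agent.Lib.Helper5.TensorFormSub.emb_surjective e P u
    obtain ⟨v', rfl⟩ := Cfsg.Agent.Lib.Helper5.TensorFormSub.emb_surjective e P u'
    show hermForm n F q (((Phi e P x : GL (Fin n) F) : Matrix (Fin n) (Fin n) F) *ᵥ _)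
      (((Phi e P x : GL (Fin n) F) : Matrix (Fin n) (Fin n) F) *ᵥ _) = _
    rw [Cfsg.Agent.Lib.Helper5.TensorFormSub.Phi_emb,
      Cfsg.Agent.Lib.Helper5.TensorFormSub.Phi_emb, hform, hform]
    exact (mem_GUV hF).mp h v v'

include hform in
/-- the special unitary group of `V` corresponds to `SU_n` -/
theorem SUV_map_Phi :
    (SUV hF (Fin a × Fin b)).map (Phi e P).toMonoidHom =
      Cfsg.GU n F q ⊓ Cfsg.Geo.specialLinear (Fin n) F := by
  ext g
  rw [Subgroup.mem_map, Cfsg.Agent.Lib.Helper5.SUCentres.mem_SU_iff]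
  constructor
  · rintro ⟨x, hx, rfl⟩
    rw [mem_SUV] at hx
    refine ⟨(Phi_mem_GU_iff hF e P hform x).mpr hx.1, ?_⟩
    show ((Phi e P x : GL (Fin n) F) : Matrix (Fin n) (Fin n) F).det = 1
    rw [det_Phi, hx.2]
  · rintro ⟨h1, h2⟩
    refine ⟨(Phi e P).symm g, ?_, (Phi e P).apply_symm_apply g⟩
    rw [mem_SUV]
    constructor
    · rw [← Phi_mem_GU_iff hF e P hform, MulEquiv.apply_symm_apply]
      exact h1
    · rw [← det_Phi e P, MulEquiv.apply_symm_apply]
      exact h2

include hform in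
/-- if all isotropic vectors of `V` are centres of transvections of `H` then `SU(V) ≤ H` -/
theorem SUV_le_of_InC (hn : 3 ≤ n) (h32 : ¬ (n = 3 ∧ q = 2))
    (hall : ∀ v : Fin a × Fin b → F, BV v v = 0 → InC hF H v) :
    SUV hF (Fin a × Fin b) ≤ H := by
  have hcen : ∀ v, hermForm n F q v v = 0 →
      Cfsg.Agent.Lib.Helper5.SUCentres.IsCentre hF n (H.map (Phi e P).toMonoidHom) v := by
    intro v hv
    refine ⟨hv, fun c hc => ?_⟩
    obtain ⟨v', rfl⟩ := Cfsg.Agent.Lib.Helper5.TensorFormSub.emb_surjective e P v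
    have hv' : BV v' v' = 0 := by rw [← hform]; exact hv
    have hc' : σ c = -c := (qcond_iso n hv c).mp hc
    obtain ⟨g, hgH, hg⟩ := (hall v' hv').2 c hc'
    rw [Subgroup.mem_map]
    refine ⟨g, hgH, ?_⟩
    apply Units.ext
    rw [Matrix.ext_iff_mulVec]
    intro u
    obtain ⟨u', rfl⟩ := Cfsg.Agent.Lib.Helper5.TensorFormSub.emb_surjective e P u
    have e1 : (((qtv hF n (emb' e P v') c hc : ↥(Cfsg.GU n F q)) : GL (Fin n) F) :
        Matrix (Fin n) (Fin n) F) *ᵥ emb' e P u' =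
        emb' e P u' + (c * hermForm n F q (emb' e P u') (emb' e P v')) • emb' e P v' :=
      gact_qtv hF n _ c hc _
    rw [e1]
    show ((Phi e P g : GL (Fin n) F) : Matrix (Fin n) (Fin n) F) *ᵥ emb' e P u' = _
    rw [Cfsg.Agent.Lib.Helper5.TensorFormSub.Phi_emb, hg u', LinearMap.smul_apply, rkh_apply,
      Cfsg.Agent.Lib.Helper5.TensorFormSub.emb_add, Cfsg.Agent.Lib.Helper5.TensorFormSub.emb_smul,
      Cfsg.Agent.Lib.Helper5.TensorFormSub.emb_smul, hform, smul_smul]
  have hle := Cfsg.Agent.Lib.Helper5.SUCentres.SU_le hF hn h32 hcen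
  rw [← SUV_map_Phi hF e P hform] at hle
  intro x hx
  obtain ⟨y, hy, hxy⟩ := Subgroup.mem_map.mp (hle (Subgroup.mem_map_of_mem _ hx))
  have : y = x := (Phi e P).injective hxy
  rw [← this]
  exact hy

end transfer

/-- the standard identification `Fin (a * b) ≃ Fin a × Fin b` is an isometry -/
theorem hform_std (v v' : Fin a × Fin b → F) :
    hermForm (a * b) F q
      (Cfsg.Agent.Lib.Helper5.TensorFormSub.emb (finProdFinEquiv.symm : Fin (a * b) ≃ Fin a × Fin b)
        (1 : GL (Fin (a * b)) F) v)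
      (Cfsg.Agent.Lib.Helper5.TensorFormSub.emb (finProdFinEquiv.symm : Fin (a * b) ≃ Fin a × Fin b)
        (1 : GL (Fin (a * b)) F) v') = hB hF (Fin a × Fin b) v v' := by
  unfold Cfsg.Agent.Lib.Helper5.TensorFormSub.emb
  rw [Units.val_one, Matrix.one_mulVec, Matrix.one_mulVec, hB_apply]
  unfold hermForm
  exact Equiv.sum_comp (finProdFinEquiv.symm : Fin (a * b) ≃ Fin a × Fin b)
    (fun p => v p * (v' p) ^ q)

/-- **the closure theorem**: an overgroup of the tensor product group containing the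
transvections with centre a doubly isotropic pure tensor contains `SU(V)` -/
theorem closure_main (ha : 2 ≤ a) (hb : 3 ≤ b)
    (hMH : krSub (Fin a) (Fin b) F ⊓ SUV hF (Fin a × Fin b) ≤ H)
    (hHG : H ≤ GUV hF (Fin a × Fin b))
    (x₀ : Fin a → F) (w₀ : Fin b → F) (hx₀0 : x₀ ≠ 0) (hw₀0 : w₀ ≠ 0) (hx₀ : B₁ x₀ x₀ = 0)
    (hw₀ : B₂ w₀ w₀ = 0) (h0 : InC hF H (pt x₀ w₀)) : SUV hF (Fin a × Fin b) ≤ H := by
  have hDIP := InC_dip hF hMH hHG x₀ w₀ hx₀0 hw₀0 hx₀ hw₀ h0
  have hPure := InC_pure hF hHG hDIP ha hb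
  have hall := InC_all hF hHG hPure ha (by omega)
  have hn : 3 ≤ a * b := by nlinarith
  exact SUV_le_of_InC hF (finProdFinEquiv.symm : Fin (a * b) ≃ Fin a × Fin b)
    (1 : GL (Fin (a * b)) F) (hform_std hF) hn (by
      rintro ⟨h1, _⟩
      nlinarith) hall

end Cfsg.Agent.Lib.Helper1.TsU
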