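import Mathlib
import Cfsg.Agent.Lib.Helper1.TsU6

/-!
# Unitary tensor products: the set `𝓛` of operators `L` with `1 + Ξ(L, w, w) ∈ H`
-/

set_option autoImplicit false
set_option maxHeartbeats 4000000
set_option maxRecDepth 100000
set_option linter.unusedSimpArgs false
set_option linter.unusedVariables false
set_option linter.unusedSectionVars false
set_option linter.style.longLine false
set_option linter.deprecated false

namespace Cfsg.Agent.Lib.Helper1.TsU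

open Module Matrix
open Cfsg
open Cfsg.Agent.Lib.Helper5.Herm Cfsg.Agent.Lib.Helper5.HermBridge
  Cfsg.Agent.Lib.Helper5.HermTv Cfsg.Agent.Lib.Helper5.HermEich
open Cfsg.Agent.Lib.Helper1.TsA
open Cfsg.Agent.Lib.Helper8.Tns

variable {F : Type*} [Field F] [Fintype F] {q : ℕ} (hF : Fintype.card F = q ^ 2)

local notation "σ" => Cfsg.Agent.Lib.Helper5.HermBridge.sigma hF

variable {a b n : ℕ} (H : Subgroup (GL (Fin a × Fin b) F))

local notation "B₁" => hB hF (Fin a)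
local notation "B₂" => hB hF (Fin b)
local notation "BV" => hB hF (Fin a × Fin b)

/-- the standing hypotheses: `H` is a proper overgroup of the tensor product group in `SU(V)` -/
structure Ctx : Prop where
  hMH : krSub (Fin a) (Fin b) F ⊓ SUV hF (Fin a × Fin b) ≤ H
  hHG : H ≤ SUV hF (Fin a × Fin b)
  hnot : ¬ SUV hF (Fin a × Fin b) ≤ H
  ha : 2 ≤ a
  hb : 5 ≤ b
  hex : a = 2 → 3 ≤ q

variable {hF H}

theorem Ctx.hHGU (C : Ctx hF H) : H ≤ GUV hF (Fin a × Fin b) :=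
  fun _ hg => ((mem_SUV hF).mp (C.hHG hg)).1

theorem Ctx.iso (C : Ctx hF H) {g : GL (Fin a × Fin b) F} (hg : g ∈ H)
    (v v' : Fin a × Fin b → F) :
    BV ((g : Matrix (Fin a × Fin b) (Fin a × Fin b) F) *ᵥ v)
      ((g : Matrix (Fin a × Fin b) (Fin a × Fin b) F) *ᵥ v') = BV v v' :=
  (mem_GUV hF).mp (C.hHGU hg) v v'

theorem Ctx.kr_mem (C : Ctx hF H) (A : ↥(Cfsg.GU a F q)) (A' : ↥(Cfsg.GU b F q))
    (hA : ((A : GL (Fin a) F) : Matrix (Fin a) (Fin a) F).det = 1)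
    (hA' : ((A' : GL (Fin b) F) : Matrix (Fin b) (Fin b) F).det = 1) :
    kr (A : GL (Fin a) F) (A' : GL (Fin b) F) ∈ H := kr_mem_H hF C.hMH A A' hA hA'

variable (hF)

/-! ### Eichler elements of `GU` -/

/-- the Eichler (Siegel) element `v ↦ v + B(v, x) z + (b B(v, x) - B(v, z)) x` -/
noncomputable def eiG (x z : Fin n → F) (c : F) (hx : hB hF (Fin n) x x = 0)
    (hzx : hB hF (Fin n) z x = 0) (hc : c + σ c + hB hF (Fin n) z z = 0) : ↥(Cfsg.GU n F q) :=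
  eich hF n x z c ⟨hx, hzx, hc⟩

theorem eiG_act (x z : Fin n → F) (c : F) (hx : hB hF (Fin n) x x = 0)
    (hzx : hB hF (Fin n) z x = 0) (hc : c + σ c + hB hF (Fin n) z z = 0) (v : Fin n → F) :
    gact n (eiG hF x z c hx hzx hc) v =
      v + hB hF (Fin n) v x • z + (c * hB hF (Fin n) v x - hB hF (Fin n) v z) • x :=
  gact_eich hF n x z c _ v

theorem eiG_det (x z : Fin n → F) (c : F) (hx : hB hF (Fin n) x x = 0)
    (hzx : hB hF (Fin n) z x = 0) (hc : c + σ c + hB hF (Fin n) z z = 0) :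
    (((eiG hF x z c hx hzx hc : ↥(Cfsg.GU n F q)) : GL (Fin n) F) :
      Matrix (Fin n) (Fin n) F).det = 1 :=
  det_eich hF n x z c _

/-! ### contractions and Kronecker products -/

theorem Cw_kr (α : GL (Fin a) F) (β : GL (Fin b) F) (hβ : β ∈ GUV hF (Fin b)) (u : Fin b → F)
    (v : Fin a × Fin b → F) :
    Cw hF ((β : Matrix (Fin b) (Fin b) F) *ᵥ u)
      ((kr α β : Matrix (Fin a × Fin b) (Fin a × Fin b) F) *ᵥ v) =
      (α : Matrix (Fin a) (Fin a) F) *ᵥ Cw hF u v := by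
  refine pt_induction (P := fun v => Cw hF ((β : Matrix (Fin b) (Fin b) F) *ᵥ u)
      ((kr α β : Matrix (Fin a × Fin b) (Fin a × Fin b) F) *ᵥ v) =
      (α : Matrix (Fin a) (Fin a) F) *ᵥ Cw hF u v) ?_ ?_ ?_ v
  · rw [Matrix.mulVec_zero, map_zero, map_zero, Matrix.mulVec_zero]
  · intro x y hx hy
    rw [Matrix.mulVec_add, map_add, hx, hy, map_add, Matrix.mulVec_add]
  · intro x y
    rw [kr_mulVec_pt, Cw_pt, Cw_pt, (mem_GUV hF).mp hβ, Matrix.mulVec_smul]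

theorem one_mem_GUV : (1 : GL (Fin b) F) ∈ GUV hF (Fin b) := (GUV hF (Fin b)).one_mem

theorem Cw_kr_left (α : GL (Fin a) F) (u : Fin b → F) (v : Fin a × Fin b → F) :
    Cw hF u ((kr α (1 : GL (Fin b) F) : Matrix (Fin a × Fin b) (Fin a × Fin b) F) *ᵥ v) =
      (α : Matrix (Fin a) (Fin a) F) *ᵥ Cw hF u v := by
  have := Cw_kr hF α (1 : GL (Fin b) F) (one_mem_GUV hF) u v
  rwa [Units.val_one, Matrix.one_mulVec] at this

theorem Cw_kr_right (β : GL (Fin b) F) (hβ : β ∈ GUV hF (Fin b)) (u : Fin b → F)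
    (v : Fin a × Fin b → F) :
    Cw hF ((β : Matrix (Fin b) (Fin b) F) *ᵥ u)
      ((kr (1 : GL (Fin a) F) β : Matrix (Fin a × Fin b) (Fin a × Fin b) F) *ᵥ v) =
      Cw hF u v := by
  have := Cw_kr hF (1 : GL (Fin a) F) β hβ u v
  rwa [Units.val_one, Matrix.one_mulVec] at this

/-- the root elements `1 ⊗ t_{w,c}` -/
theorem Acts_root (w : Fin b → F) (c : F) (hw : B₂ w w = 0) (hc : σ c = -c) :
    Acts (kr (1 : GL (Fin a) F) ((tvG hF w c hw hc : ↥(Cfsg.GU b F q)) : GL (Fin b) F))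
      (c • Xs hF LinearMap.id w w) := by
  apply Acts_of_pt
  intro x y
  rw [kr_mulVec_pt, Units.val_one, Matrix.one_mulVec, ← gact_def, tvG_act, pt_add_right,
    LinearMap.smul_apply, Xs_pt, LinearMap.id_apply, pt_smul_right, smul_smul]

/-- the Eichler elements `1 ⊗ E_{w,z,c}` -/
theorem Acts_eich (w z : Fin b → F) (c : F) (hw : B₂ w w = 0) (hzw : B₂ z w = 0)
    (hc : c + σ c + B₂ z z = 0) :
    Acts (kr (1 : GL (Fin a) F) ((eiG hF w z c hw hzw hc : ↥(Cfsg.GU b F q)) : GL (Fin b) F))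
      (Xs hF LinearMap.id z w - Xs hF LinearMap.id w z + c • Xs hF LinearMap.id w w) := by
  apply Acts_of_pt
  intro x y
  rw [kr_mulVec_pt, Units.val_one, Matrix.one_mulVec, ← gact_def, eiG_act]
  simp only [LinearMap.add_apply, LinearMap.sub_apply, LinearMap.smul_apply, Xs_pt,
    LinearMap.id_apply, pt_add_right, pt_smul_right]
  module

/-! ### the set `𝓛` -/

variable (H)

/-- the operators `L` such that `1 + Ξ(L, w, w) ∈ H` -/
def LL (w : Fin b → F) : Set ((Fin a → F) →ₗ[F] (Fin a → F)) :=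
  {L | ∃ g ∈ H, Acts g (Xs hF L w w)}

variable {H}

theorem LL_zero (w : Fin b → F) : (0 : (Fin a → F) →ₗ[F] (Fin a → F)) ∈ LL hF H w :=
  ⟨1, H.one_mem, by rw [Xs_zero_left]; exact Acts_one⟩

theorem LL_add {w : Fin b → F} (hw : B₂ w w = 0) {L L' : (Fin a → F) →ₗ[F] (Fin a → F)}
    (hL : L ∈ LL hF H w) (hL' : L' ∈ LL hF H w) : L + L' ∈ LL hF H w := by
  obtain ⟨g, hgH, hg⟩ := hL
  obtain ⟨g', hgH', hg'⟩ := hL'
  refine ⟨g * g', H.mul_mem hgH hgH', ?_⟩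
  rw [Xs_add_left]
  exact hg.mul_of_comp_zero hg' (Xs_comp_zero hF _ _ _ _ _ _ hw)

theorem LL_neg {w : Fin b → F} (hw : B₂ w w = 0) {L : (Fin a → F) →ₗ[F] (Fin a → F)}
    (hL : L ∈ LL hF H w) : -L ∈ LL hF H w := by
  obtain ⟨g, hgH, hg⟩ := hL
  refine ⟨g⁻¹, H.inv_mem hgH, ?_⟩
  rw [Xs_neg_left]
  exact hg.inv (Xs_comp_zero hF _ _ _ _ _ _ hw)

theorem LL_sub {w : Fin b → F} (hw : B₂ w w = 0) {L L' : (Fin a → F) →ₗ[F] (Fin a → F)}
    (hL : L ∈ LL hF H w) (hL' : L' ∈ LL hF H w) : L - L' ∈ LL hF H w := by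
  rw [sub_eq_add_neg]
  exact LL_add hF hw hL (LL_neg hF hw hL')

/-- elements of `𝓛` are skew-hermitian -/
theorem LL_skew (C : Ctx hF H) {w : Fin b → F} (hw0 : w ≠ 0) (hw : B₂ w w = 0)
    {L : (Fin a → F) →ₗ[F] (Fin a → F)} (hL : L ∈ LL hF H w) (x y : Fin a → F) :
    B₁ (L x) y = -B₁ x (L y) := by
  obtain ⟨g, hgH, hg⟩ := hL
  obtain ⟨w', hw', hww'⟩ := ex_partner hF w hw0 hw
  have hw'w : B₂ w' w = 1 := by rw [← hB_conj, hww', map_one]
  have h1 := C.iso hgH (pt x w') (pt y w')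
  rw [hg, hg, Xs_pt, Xs_pt, hw'w, one_smul, one_smul] at h1
  simp only [map_add, LinearMap.add_apply, hB_pt, hw, hw', hww', hw'w, mul_zero, mul_one,
    add_zero, zero_add] at h1
  linear_combination h1

/-- conjugation by `A ⊗ 1` -/
theorem LL_conj (C : Ctx hF H) {w : Fin b → F} (A : ↥(Cfsg.GU a F q))
    (hA : ((A : GL (Fin a) F) : Matrix (Fin a) (Fin a) F).det = 1)
    {L L' : (Fin a → F) →ₗ[F] (Fin a → F)} (hLL' : ∀ y, L' (gact a A y) = gact a A (L y))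
    (hL : L ∈ LL hF H w) : L' ∈ LL hF H w := by
  obtain ⟨g, hgH, hg⟩ := hL
  have hm : kr (A : GL (Fin a) F) ((1 : ↥(Cfsg.GU b F q)) : GL (Fin b) F) ∈ H :=
    C.kr_mem A 1 hA (by rw [Subgroup.coe_one, Units.val_one, Matrix.det_one])
  rw [Subgroup.coe_one] at hm
  refine ⟨_, H.mul_mem (H.mul_mem hm hgH) (H.inv_mem hm), hg.conj ?_⟩
  intro v
  rw [Xs_apply, Xs_apply, kr_mulVec_pt, Units.val_one, Matrix.one_mulVec, Cw_kr_left,
    ← gact_def, ← gact_def, hLL']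

/-- scaling by norms -/
theorem LL_norm (C : Ctx hF H) {w : Fin b → F} (hw0 : w ≠ 0) (hw : B₂ w w = 0) (l : F)
    {L : (Fin a → F) →ₗ[F] (Fin a → F)} (hL : L ∈ LL hF H w) :
    (l * σ l) • L ∈ LL hF H w := by
  by_cases hl : l = 0
  · rw [hl, zero_mul, zero_smul]
    exact LL_zero hF w
  obtain ⟨g, hgH, hg⟩ := hL
  obtain ⟨A', hA', hA'w⟩ := ex_torus hF (by have := C.hb; omega) w hw0 hw l hl
  have hm : kr ((1 : ↥(Cfsg.GU a F q)) : GL (Fin a) F) (A' : GL (Fin b) F) ∈ H :=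
    C.kr_mem 1 A' (by rw [Subgroup.coe_one, Units.val_one, Matrix.det_one]) hA'
  rw [Subgroup.coe_one] at hm
  refine ⟨_, H.mul_mem (H.mul_mem hm hgH) (H.inv_mem hm), hg.conj ?_⟩
  intro v
  have hσl : σ l ≠ 0 := sig_ne_zero hF hl
  have e1 : Cw hF w ((kr (1 : GL (Fin a) F) (A' : GL (Fin b) F) :
      Matrix (Fin a × Fin b) (Fin a × Fin b) F) *ᵥ v) = (σ l)⁻¹ • Cw hF w v := by
    have h1 := Cw_kr_right hF (A' : GL (Fin b) F) (GU_mem_GUV hF A') w v
    rw [← gact_def, hA'w, Cw_smul_right] at h1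
    rw [← h1, smul_smul, inv_mul_cancel₀ hσl, one_smul]
  rw [Xs_smul_left, LinearMap.smul_apply, Xs_apply, Xs_apply, kr_mulVec_pt, Units.val_one,
    Matrix.one_mulVec, ← gact_def, hA'w, e1, map_smul, pt_smul_left, pt_smul_right, smul_smul]
  congr 1
  field_simp

/-- scaling by nonzero fixed elements -/
theorem LL_fixed (C : Ctx hF H) {w : Fin b → F} (hw0 : w ≠ 0) (hw : B₂ w w = 0) (s : F)
    (hs : σ s = s) {L : (Fin a → F) →ₗ[F] (Fin a → F)} (hL : L ∈ LL hF H w) :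
    s • L ∈ LL hF H w := by
  by_cases hs0 : s = 0
  · rw [hs0, zero_smul]
    exact LL_zero hF w
  obtain ⟨l, hl⟩ := exNorm hF s hs0 hs
  rw [← hl]
  exact LL_norm hF C hw0 hw l hL

/-- scalars of trace zero lie in `𝓛` -/
theorem LL_T0 (C : Ctx hF H) {w : Fin b → F} (hw : B₂ w w = 0) (c : F) (hc : σ c = -c) :
    c • (LinearMap.id : (Fin a → F) →ₗ[F] (Fin a → F)) ∈ LL hF H w := by
  have hm : kr ((1 : ↥(Cfsg.GU a F q)) : GL (Fin a) F)
      ((tvG hF w c hw hc : ↥(Cfsg.GU b F q)) : GL (Fin b) F) ∈ H :=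
    C.kr_mem 1 _ (by rw [Subgroup.coe_one, Units.val_one, Matrix.det_one]) (tvG_det hF w c hw hc)
  rw [Subgroup.coe_one] at hm
  refine ⟨_, hm, ?_⟩
  rw [Xs_smul_left]
  exact Acts_root hF w c hw hc

end Cfsg.Agent.Lib.Helper1.TsU
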