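import Mathlib
import Cfsg.Agent.Lib.Helper1.TsU7

/-!
# Unitary tensor products: **(ZW)** if `1 + Ξ(L, w, w) ∈ H` then `L` is a scalar
-/

set_option autoImplicit false
set_option maxHeartbeats 4000000
set_option maxRecDepth 100000
set_option linter.unusedSimpArgs false
set_option linter.unusedVariables false
set_option linter.unusedSectionVars false
set_option linter.style.longLine false
set_option linter.deprecated false

namespace Cfsg.Agent.Lib.Helper1.TsU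

open Module Matrix
open Cfsg
open Cfsg.Agent.Lib.Helper5.Herm Cfsg.Agent.Lib.Helper5.HermBridge
  Cfsg.Agent.Lib.Helper5.HermTv Cfsg.Agent.Lib.Helper5.HermEich
open Cfsg.Agent.Lib.Helper1.TsA
open Cfsg.Agent.Lib.Helper8.Tns

variable {F : Type*} [Field F] [Fintype F] {q : ℕ} (hF : Fintype.card F = q ^ 2)

local notation "σ" => Cfsg.Agent.Lib.Helper5.HermBridge.sigma hF

variable {a b n : ℕ} {H : Subgroup (GL (Fin a × Fin b) F)}

local notation "B₁" => hB hF (Fin a)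
local notation "B₂" => hB hF (Fin b)
local notation "BV" => hB hF (Fin a × Fin b)

theorem rkh_smul_left {I : Type} [Fintype I] [DecidableEq I] (l : F) (x y : I → F) :
    rkh hF (l • x) y = l • rkh hF x y := by
  apply LinearMap.ext
  intro u
  rw [LinearMap.smul_apply, rkh_apply, rkh_apply, smul_comm]

theorem rkh_smul_right {I : Type} [Fintype I] [DecidableEq I] (l : F) (x y : I → F) :
    rkh hF x (l • y) = σ l • rkh hF x y := by
  apply LinearMap.ext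
  intro u
  rw [LinearMap.smul_apply, rkh_apply, rkh_apply, LinearMap.map_smulₛₗ, smul_eq_mul, mul_smul]

theorem Xs_rkh (x : Fin a → F) (w : Fin b → F) :
    Xs hF (rkh hF x x) w w = rkh hF (pt x w) (pt x w) := by
  apply LinearMap.ext
  intro v
  rw [Xs_apply, rkh_apply, rkh_apply, pt_smul_left, hB_pt_right]

/-- a rank one element of `𝓛` contradicts properness of `H` -/
theorem LL_rank_one_false (C : Ctx hF H) {w : Fin b → F} (hw0 : w ≠ 0) (hw : B₂ w w = 0)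
    (x : Fin a → F) (hx0 : x ≠ 0) (hx : B₁ x x = 0) (γ : F) (hγ : γ ≠ 0)
    (h : γ • rkh hF x x ∈ LL hF H w) : False := by
  -- `γ` has trace zero
  have hγT : σ γ = -γ := by
    obtain ⟨x', hx', hxx'⟩ := ex_partner hF x hx0 hx
    have hx'x : B₁ x' x = 1 := by rw [← hB_conj, hxx', map_one]
    have := LL_skew hF C hw0 hw h x' x'
    simp only [LinearMap.smul_apply, rkh_apply, map_smul, LinearMap.smul_apply,
      LinearMap.map_smulₛₗ, smul_eq_mul, hx'x, hxx', mul_one, map_one] at this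
    linear_combination this
  apply C.hnot
  apply closure_main hF C.ha (by have := C.hb; omega) C.hMH C.hHGU x w hx0 hw0 hx hw
  refine ⟨by rw [hB_pt, hx, zero_mul], fun c hc => ?_⟩
  have hfix : σ (c / γ) = c / γ := by
    rw [map_div₀, hc, hγT, neg_div_neg_eq]
  have h1 := LL_fixed hF C hw0 hw (c / γ) hfix h
  rw [smul_smul, div_mul_cancel₀ _ hγ] at h1
  obtain ⟨g, hgH, hg⟩ := h1
  refine ⟨g, hgH, hg.congr ?_⟩
  rw [Xs_smul_left, Xs_rkh]

/-- the operator `t L t⁻¹ - L` for the transvection `t = t_{x,c}` -/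
noncomputable def DD (L : (Fin a → F) →ₗ[F] (Fin a → F)) (x : Fin a → F) (c : F) :
    (Fin a → F) →ₗ[F] (Fin a → F) :=
  -c • (rkh hF (L x) x + rkh hF x (L x)) - (c ^ 2 * hB hF (Fin a) (L x) x) • rkh hF x x

theorem LL_DD (C : Ctx hF H) {w : Fin b → F} (hw0 : w ≠ 0) (hw : B₂ w w = 0)
    {L : (Fin a → F) →ₗ[F] (Fin a → F)} (hL : L ∈ LL hF H w) (x : Fin a → F)
    (hx : B₁ x x = 0) (c : F) (hc : σ c = -c) : DD hF L x c ∈ LL hF H w := by
  have h1 : L + DD hF L x c ∈ LL hF H w := by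
    apply LL_conj hF C (tvG hF x c hx hc) (tvG_det hF x c hx hc) _ hL
    intro y
    have s1 : B₁ (L y) x = -B₁ y (L x) := LL_skew hF C hw0 hw hL y x
    have s2 : B₁ x (L x) = -B₁ (L x) x := by
      have := LL_skew hF C hw0 hw hL x x
      linear_combination this
    rw [tvG_act, tvG_act, s1]
    unfold DD
    simp only [LinearMap.add_apply, LinearMap.sub_apply, LinearMap.smul_apply, rkh_apply,
      map_add, map_smul, LinearMap.add_apply, LinearMap.smul_apply, smul_eq_mul, hx, s2]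
    module
  have := LL_sub hF hw h1 hL
  rwa [add_sub_cancel_left] at this

/-- **(R1)** an element of `𝓛` with an isotropic eigenvector of nonzero trace eigenvalue -/
theorem LL_R1 (C : Ctx hF H) {w : Fin b → F} (hw0 : w ≠ 0) (hw : B₂ w w = 0)
    {L : (Fin a → F) →ₗ[F] (Fin a → F)} (hL : L ∈ LL hF H w) (x : Fin a → F) (hx0 : x ≠ 0)
    (hx : B₁ x x = 0) (l : F) (hLx : L x = l • x) (hl : l + σ l ≠ 0) : False := by
  obtain ⟨c, hc0, hc⟩ := exT0 hF
  have h1 := LL_DD hF C hw0 hw hL x hx c hc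
  have e : DD hF L x c = (-c * (l + σ l)) • rkh hF x x := by
    unfold DD
    rw [hLx, rkh_smul_left, rkh_smul_right]
    simp only [map_smul, LinearMap.smul_apply, smul_eq_mul, hx, mul_zero, zero_smul, sub_zero]
    module
  rw [e] at h1
  exact LL_rank_one_false hF C hw0 hw x hx0 hx _ (mul_ne_zero (neg_ne_zero.mpr hc0) hl) h1

/-- **(R2)** the case `q ≥ 3` -/
theorem LL_R2 (C : Ctx hF H) (hq : 3 ≤ q) {w : Fin b → F} (hw0 : w ≠ 0) (hw : B₂ w w = 0)
    {L : (Fin a → F) →ₗ[F] (Fin a → F)} (hL : L ∈ LL hF H w) (x : Fin a → F) (hx0 : x ≠ 0)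
    (hx : B₁ x x = 0) (hγ : B₁ (L x) x ≠ 0) : False := by
  obtain ⟨c, hc0, hc⟩ := exT0 hF
  obtain ⟨s, hs, hs0, hs1⟩ := exists_fixed_ne hF hq
  have hs' : σ s = s := hs
  have h1 := LL_fixed hF C hw0 hw s hs' (LL_DD hF C hw0 hw hL x hx c hc)
  have h2 := LL_DD hF C hw0 hw hL x hx (s * c) (by rw [map_mul, hs', hc]; ring)
  have h3 := LL_sub hF hw h1 h2
  have e : s • DD hF L x c - DD hF L x (s * c) =
      (s * (s - 1) * c ^ 2 * B₁ (L x) x) • rkh hF x x := by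
    unfold DD
    module
  rw [e] at h3
  refine LL_rank_one_false hF C hw0 hw x hx0 hx _ ?_ h3
  exact mul_ne_zero (mul_ne_zero (mul_ne_zero hs0 (sub_ne_zero.mpr hs1)) (pow_ne_zero 2 hc0)) hγ

/-- conjugating by an element of `SU(U)` fixing `x` -/
theorem LL_conj_fix (C : Ctx hF H) {w : Fin b → F} (hw : B₂ w w = 0) (A : ↥(Cfsg.GU a F q))
    (hA : ((A : GL (Fin a) F) : Matrix (Fin a) (Fin a) F).det = 1)
    {L : (Fin a → F) →ₗ[F] (Fin a → F)} (hL : L ∈ LL hF H w) (x : Fin a → F)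
    (hAx : gact a A x = x) :
    ∃ L' ∈ LL hF H w, L' x = gact a A (L x) - L x := by
  obtain ⟨L₁, hL₁⟩ : ∃ L₁ : (Fin a → F) →ₗ[F] (Fin a → F),
      L₁ = ((gL (A : GL (Fin a) F)) : (Fin a → F) →ₗ[F] (Fin a → F)) ∘ₗ L ∘ₗ
        ((gL (A : GL (Fin a) F)).symm : (Fin a → F) →ₗ[F] (Fin a → F)) := ⟨_, rfl⟩
  have h1 : L₁ ∈ LL hF H w := by
    apply LL_conj hF C A hA _ hL
    intro y
    rw [hL₁]
    simp only [LinearMap.comp_apply, LinearEquiv.coe_coe]
    have : gact a A y = gL (A : GL (Fin a) F) y := rfl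
    rw [this, LinearEquiv.symm_apply_apply]
    rfl
  refine ⟨L₁ - L, LL_sub hF hw h1 hL, ?_⟩
  rw [LinearMap.sub_apply, hL₁]
  simp only [LinearMap.comp_apply, LinearEquiv.coe_coe]
  have e1 : (gL (A : GL (Fin a) F)).symm x = x := by
    rw [LinearEquiv.symm_apply_eq]
    exact hAx.symm
  rw [e1]
  rfl

/-- **(R3)** the case `a ≥ 3` -/
theorem LL_R3 (C : Ctx hF H) (ha3 : 3 ≤ a) {w : Fin b → F} (hw0 : w ≠ 0) (hw : B₂ w w = 0)
    {L : (Fin a → F) →ₗ[F] (Fin a → F)} (hL : L ∈ LL hF H w) (x : Fin a → F) (hx0 : x ≠ 0)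
    (hx : B₁ x x = 0) (hγ : B₁ (L x) x ≠ 0) : False := by
  obtain ⟨γ, hγdef⟩ : ∃ γ : F, γ = B₁ (L x) x := ⟨_, rfl⟩
  rw [← hγdef] at hγ
  have hγT : σ γ = -γ := by
    have := LL_skew hF C hw0 hw hL x x
    rw [hγdef, hB_conj]
    linear_combination this
  obtain ⟨r, hr, hrx⟩ := ex_unit_perp hF ha3 x hx0 hx
  obtain ⟨θ, hθ⟩ := exTrNe hF
  -- the parameters of the three Eichler elements
  obtain ⟨b₂, -, hb₂⟩ := exTr_ne hF (-(θ * σ θ)) (by rw [map_neg, map_mul, sig_sig]; ring)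
  obtain ⟨b₃, -, hb₃⟩ := exTr_ne hF (-((1 + θ) * σ (1 + θ))) (by
    rw [map_neg, map_mul, sig_sig]; ring)
  obtain ⟨b₁, hb₁, hne⟩ : ∃ b₁ : F, b₁ + σ b₁ = -1 ∧
      (b₁ + b₂ - b₃) - σ (b₁ + b₂ - b₃) ≠ 0 := by
    obtain ⟨b₀, -, hb₀⟩ := exTr_ne hF (-1) (by rw [map_neg, map_one])
    by_cases h : (b₀ + b₂ - b₃) - σ (b₀ + b₂ - b₃) = 0
    swap
    · exact ⟨b₀, hb₀, h⟩
    obtain ⟨τ, hτ0, hτ⟩ := exT0 hF
    refine ⟨b₀ + τ, by rw [map_add, hτ]; linear_combination hb₀, ?_⟩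
    have e1 : (b₀ + τ + b₂ - b₃) - σ (b₀ + τ + b₂ - b₃) = 2 * τ := by
      simp only [map_add, map_sub, hτ] at h ⊢
      linear_combination h
    rw [e1]
    have e2 : (2 : F) * (b₀ + b₂ - b₃) = θ + σ θ := by
      simp only [map_add, map_sub, map_neg, map_one, map_mul] at h hb₃ ⊢
      linear_combination h + hb₀ + hb₂ - hb₃
    have h2 : (2 : F) ≠ 0 := by
      intro h2
      rw [h2, zero_mul] at e2
      exact hθ e2.symm
    exact mul_ne_zero h2 hτ0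
  have hN1 : b₁ + σ b₁ + B₁ r r = 0 := by rw [hr]; linear_combination hb₁
  have hθr : B₁ (θ • r) x = 0 := by rw [map_smul, LinearMap.smul_apply, hrx, smul_zero]
  have hN2 : b₂ + σ b₂ + B₁ (θ • r) (θ • r) = 0 := by
    simp only [map_smul, LinearMap.smul_apply, LinearMap.map_smulₛₗ, smul_eq_mul, hr]
    linear_combination hb₂
  have h3r : B₁ (r + θ • r) x = 0 := by rw [map_add, LinearMap.add_apply, hrx, hθr, add_zero]
  have hN3 : b₃ + σ b₃ + B₁ (r + θ • r) (r + θ • r) = 0 := by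
    simp only [map_add, LinearMap.add_apply, map_smul, LinearMap.smul_apply,
      LinearMap.map_smulₛₗ, smul_eq_mul, hr, map_one] at hb₃ ⊢
    linear_combination hb₃
  have fix : ∀ (z : Fin a → F) (c : F) (hzx : B₁ z x = 0) (hc : c + σ c + B₁ z z = 0),
      gact a (eiG hF x z c hx hzx hc) x = x := by
    intro z c hzx hc
    rw [eiG_act, hx, hB_eq_zero_symm hF hzx]
    simp
  obtain ⟨L₁, hL₁, e₁⟩ := LL_conj_fix hF C hw (eiG hF x r b₁ hx hrx hN1) (eiG_det hF _ _ _ _ _ _)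
    hL x (fix _ _ _ _)
  obtain ⟨L₂, hL₂, e₂⟩ := LL_conj_fix hF C hw (eiG hF x (θ • r) b₂ hx hθr hN2)
    (eiG_det hF _ _ _ _ _ _) hL x (fix _ _ _ _)
  obtain ⟨L₃, hL₃, e₃⟩ := LL_conj_fix hF C hw (eiG hF x (r + θ • r) b₃ hx h3r hN3)
    (eiG_det hF _ _ _ _ _ _) hL x (fix _ _ _ _)
  have hL' : L₁ + L₂ - L₃ ∈ LL hF H w := LL_sub hF hw (LL_add hF hw hL₁ hL₂) hL₃
  have hval : (L₁ + L₂ - L₃) x = ((b₁ + b₂ - b₃) * γ) • x := by
    rw [LinearMap.sub_apply, LinearMap.add_apply, e₁, e₂, e₃, eiG_act, eiG_act, eiG_act, ← hγdef]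
    simp only [map_add, map_smul, LinearMap.map_smulₛₗ, smul_eq_mul]
    module
  refine LL_R1 hF C hw0 hw hL' x hx0 hx _ hval ?_
  intro h
  apply hne
  have : γ * ((b₁ + b₂ - b₃) - σ (b₁ + b₂ - b₃)) = 0 := by
    rw [map_mul, hγT] at h
    linear_combination h
  rcases mul_eq_zero.mp this with h1 | h1
  · exact absurd h1 hγ
  · exact h1

/-- **(R4)** the case where `B₁(L x, x) = 0` throughout -/
theorem LL_R4 (C : Ctx hF H) {w : Fin b → F} (hw0 : w ≠ 0) (hw : B₂ w w = 0)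
    {L : (Fin a → F) →ₗ[F] (Fin a → F)} (hL : L ∈ LL hF H w) (x : Fin a → F) (hx0 : x ≠ 0)
    (hx : B₁ x x = 0) (h0 : B₁ (L x) x = 0) (hne : ∀ c : F, L x ≠ c • x) : False := by
  obtain ⟨z, hzx, hzy⟩ : ∃ z, B₁ z x = 0 ∧ B₁ z (L x) ≠ 0 := by
    by_contra hcon
    push Not at hcon
    obtain ⟨c, hc⟩ := double_perp hF x hx0 (L x) hcon
    exact hne c hc
  obtain ⟨β, hβ⟩ : ∃ β : F, β = B₁ (L x) z := ⟨_, rfl⟩
  have hβ0 : β ≠ 0 := by
    rw [hβ]
    intro h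
    exact hzy (hB_eq_zero_symm hF h)
  obtain ⟨ω, hω⟩ := exTrNe hF
  obtain ⟨μ, hμ⟩ : ∃ μ : F, μ = σ (-ω / β) := ⟨_, rfl⟩
  have hσμ : σ μ * β = -ω := by
    rw [hμ, sig_sig]
    field_simp
  have hμzx : B₁ (μ • z) x = 0 := by rw [map_smul, LinearMap.smul_apply, hzx, smul_zero]
  obtain ⟨c, -, hc⟩ := exTr_ne hF (-(B₁ (μ • z) (μ • z))) (by rw [map_neg, hB_self_fixed])
  have hN : c + σ c + B₁ (μ • z) (μ • z) = 0 := by linear_combination hc
  obtain ⟨L₁, hL₁, e₁⟩ := LL_conj_fix hF C hw (eiG hF x (μ • z) c hx hμzx hN)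
    (eiG_det hF _ _ _ _ _ _) hL x (by
      rw [eiG_act, hx, hB_eq_zero_symm hF hμzx]
      simp)
  have hval : L₁ x = ω • x := by
    rw [e₁, eiG_act, h0]
    simp only [LinearMap.map_smulₛₗ, smul_eq_mul, ← hβ, hσμ]
    module
  exact LL_R1 hF C hw0 hw hL₁ x hx0 hx ω hval hω

/-- **(ZW)** if `1 + Ξ(L, w, w) ∈ H` with `w` isotropic then `L` is a scalar -/
theorem Ctx.ZW (C : Ctx hF H) {w : Fin b → F} (hw0 : w ≠ 0) (hw : B₂ w w = 0)
    {L : (Fin a → F) →ₗ[F] (Fin a → F)} (hL : L ∈ LL hF H w) :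
    ∃ c : F, L = c • LinearMap.id := by
  by_contra hns
  by_cases hA : ∃ L' ∈ LL hF H w, ∃ x : Fin a → F, B₁ x x = 0 ∧ B₁ (L' x) x ≠ 0
  · obtain ⟨L', hL', x, hx, hγ⟩ := hA
    have hx0 : x ≠ 0 := ne_zero_of_hB_right hF hγ
    by_cases hq : 3 ≤ q
    · exact LL_R2 hF C hq hw0 hw hL' x hx0 hx hγ
    · have ha3 : 3 ≤ a := by
        by_contra hcon
        have ha2 : a = 2 := by have := C.ha; omega
        exact hq (C.hex ha2)
      exact LL_R3 hF C ha3 hw0 hw hL' x hx0 hx hγ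
  · push Not at hA
    obtain ⟨x, hx, hne⟩ : ∃ x : Fin a → F, B₁ x x = 0 ∧ ∀ c : F, L x ≠ c • x := by
      by_contra hcon
      push Not at hcon
      exact hns (lemmaE hF C.ha L hcon)
    have hx0 : x ≠ 0 := by
      rintro rfl
      exact hne 0 (by rw [map_zero, smul_zero])
    exact LL_R4 hF C hw0 hw hL x hx0 hx (hA L hL x hx) hne

end Cfsg.Agent.Lib.Helper1.TsU
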