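import Mathlib
import Cfsg.Agent.Lib.Helper1.TsU8

/-!
# Unitary tensor products: the point-local lemma, part 1 (slopes are scalar, the radical)
-/

set_option autoImplicit false
set_option maxHeartbeats 4000000
set_option maxRecDepth 100000
set_option linter.unusedSimpArgs false
set_option linter.unusedVariables false
set_option linter.unusedSectionVars false
set_option linter.style.longLine false
set_option linter.deprecated false

namespace Cfsg.Agent.Lib.Helper1.TsU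

open Module Matrix
open Cfsg
open Cfsg.Agent.Lib.Helper5.Herm Cfsg.Agent.Lib.Helper5.HermBridge
  Cfsg.Agent.Lib.Helper5.HermTv Cfsg.Agent.Lib.Helper5.HermEich
open Cfsg.Agent.Lib.Helper1.TsA
open Cfsg.Agent.Lib.Helper8.Tns

variable {F : Type*} [Field F] [Fintype F] {q : ℕ} (hF : Fintype.card F = q ^ 2)

local notation "σ" => Cfsg.Agent.Lib.Helper5.HermBridge.sigma hF

/-! ### adjoints and representing vectors -/

section adj

variable {ι : Type} [Fintype ι] [DecidableEq ι]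

theorem hB_single_left (c : F) (j : ι) (z : ι → F) :
    hB hF ι (Pi.single j c) z = c * (z j) ^ q := by
  rw [hB_apply, Finset.sum_eq_single j]
  · simp
  · intro i _ hi
    simp [hi]
  · intro h
    exact absurd (Finset.mem_univ _) h

theorem hB_ext_left {x x' : ι → F} (h : ∀ y, hB hF ι x y = hB hF ι x' y) : x = x' := by
  apply sub_eq_zero.mp
  apply hB_nondeg hF
  intro y
  rw [map_sub, LinearMap.sub_apply, h, sub_self]

/-- the adjoint of an operator with respect to the hermitian form -/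
noncomputable def adjH (hF : Fintype.card F = q ^ 2) (θ : (ι → F) →ₗ[F] (ι → F)) :
    (ι → F) →ₗ[F] (ι → F) :=
  LinearMap.pi (fun j => (hB hF ι).flip (θ (Pi.single j 1)))

theorem adjH_apply (θ : (ι → F) →ₗ[F] (ι → F)) (y : ι → F) (j : ι) :
    adjH hF θ y j = hB hF ι y (θ (Pi.single j 1)) := rfl

theorem adjH_spec (θ : (ι → F) →ₗ[F] (ι → F)) (x y : ι → F) :
    hB hF ι (θ x) y = hB hF ι x (adjH hF θ y) := by
  have h1 : (hB hF ι).flip y ∘ₗ θ = (hB hF ι).flip (adjH hF θ y) := by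
    apply LinearMap.pi_ext
    intro j c
    simp only [LinearMap.comp_apply, LinearMap.flip_apply]
    rw [hB_single_left, adjH_apply, ← Cfsg.Agent.Lib.Helper5.HermBridge.sigma_apply hF, hB_conj]
    have e : (Pi.single j c : ι → F) = c • Pi.single j (1 : F) := by
      ext i
      by_cases hi : i = j
      · subst hi
        simp
      · simp [hi]
    rw [e, map_smul, map_smul, LinearMap.smul_apply, smul_eq_mul]
  exact LinearMap.congr_fun h1 x

theorem adjH_spec' (θ : (ι → F) →ₗ[F] (ι → F)) (x y : ι → F) :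
    hB hF ι (adjH hF θ y) x = hB hF ι y (θ x) := by
  rw [← hB_conj, ← adjH_spec, hB_conj]

theorem adjH_smul (c : F) (θ : (ι → F) →ₗ[F] (ι → F)) :
    adjH hF (c • θ) = σ c • adjH hF θ := by
  apply LinearMap.ext
  intro y
  funext j
  rw [adjH_apply, LinearMap.smul_apply, LinearMap.smul_apply, Pi.smul_apply, adjH_apply,
    LinearMap.map_smulₛₗ, smul_eq_mul]

/-- every linear form is represented by a vector -/
theorem ex_repr (φ : (ι → F) →ₗ[F] F) : ∃ z : ι → F, ∀ x, φ x = hB hF ι x z := by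
  refine ⟨fun j => σ (φ (Pi.single j 1)), fun x => ?_⟩
  have h1 : φ = (hB hF ι).flip (fun j => σ (φ (Pi.single j 1))) := by
    apply LinearMap.pi_ext
    intro j c
    rw [LinearMap.flip_apply, hB_single_left, ← Cfsg.Agent.Lib.Helper5.HermBridge.sigma_apply hF,
      sig_sig]
    have e : (Pi.single j c : ι → F) = c • Pi.single j (1 : F) := by
      ext i
      by_cases hi : i = j
      · subst hi
        simp
      · simp [hi]
    rw [e, map_smul, smul_eq_mul]
  exact LinearMap.congr_fun h1 x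

end adj

/-- a matrix `M` with `(M - 1) ^ k = 0` has determinant one -/
theorem det_unip {ι : Type} [Fintype ι] [DecidableEq ι] {K : Type*} [Field K]
    (M : Matrix ι ι K) (k : ℕ) (hM : (M - 1) ^ k = 0) : M.det = 1 := by
  have hN : IsNilpotent (M - 1) := ⟨k, hM⟩
  have h1 := Matrix.isNilpotent_charpoly_sub_pow_of_isNilpotent hN
  have h2 : (M - 1).charpoly = Polynomial.X ^ Fintype.card ι := sub_eq_zero.mp h1.eq_zero
  have h3 := Matrix.eval_charpoly (M - 1) (-1)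
  rw [h2, Polynomial.eval_pow, Polynomial.eval_X] at h3
  have e : Matrix.scalar ι (-1 : K) - (M - 1) = -M := by
    ext i j
    by_cases hij : i = j
    · subst hij
      simp
      ring
    · simp [hij, Matrix.one_apply_ne hij]
  rw [e, Matrix.det_neg] at h3
  have h4 : (-1 : K) ^ Fintype.card ι ≠ 0 := pow_ne_zero _ (neg_ne_zero.mpr one_ne_zero)
  have h5 : (-1 : K) ^ Fintype.card ι * (M.det - 1) = 0 := by linear_combination -h3
  rcases mul_eq_zero.mp h5 with h | h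
  · exact absurd h h4
  · exact sub_eq_zero.mp h

variable {a b n : ℕ} {H : Subgroup (GL (Fin a × Fin b) F)}

local notation "B₁" => hB hF (Fin a)
local notation "B₂" => hB hF (Fin b)
local notation "BV" => hB hF (Fin a × Fin b)

/-! ### contractions -/

/-- a vector all of whose contractions with `w^⊥` vanish lies in `U ⊗ w` -/
theorem exists_pt_of_Cw_zero {w : Fin b → F} (hw0 : w ≠ 0) (v : Fin a × Fin b → F)
    (h : ∀ z, B₂ z w = 0 → Cw hF z v = 0) : ∃ u : Fin a → F, v = pt u w := by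
  have h1 : ∀ i : Fin a, ∃ c : F, (fun j => v (i, j)) = c • w := by
    intro i
    apply double_perp hF w hw0
    intro z hz
    apply hB_eq_zero_symm hF
    have := congrFun (h z hz) i
    rw [Cw_apply] at this
    rw [hB_apply]
    exact this
  choose c hc using h1
  refine ⟨c, ?_⟩
  funext ⟨i, j⟩
  rw [pt_apply]
  have := congrFun (hc i) j
  rw [Pi.smul_apply, smul_eq_mul] at this
  exact this

/-- an isometry fixing `U ⊗ w` pointwise commutes with contraction by `w` -/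
theorem Cw_fix {g : GL (Fin a × Fin b) F}
    (hg : ∀ v v', BV ((g : Matrix (Fin a × Fin b) (Fin a × Fin b) F) *ᵥ v)
      ((g : Matrix (Fin a × Fin b) (Fin a × Fin b) F) *ᵥ v') = BV v v')
    {w : Fin b → F}
    (hfix : ∀ x, (g : Matrix (Fin a × Fin b) (Fin a × Fin b) F) *ᵥ pt x w = pt x w)
    (v : Fin a × Fin b → F) :
    Cw hF w ((g : Matrix (Fin a × Fin b) (Fin a × Fin b) F) *ᵥ v) = Cw hF w v := by
  apply hB_ext_left hF
  intro x
  rw [← hB_pt_right, ← hB_pt_right]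
  have := hg v (pt x w)
  rw [hfix] at this
  exact this

/-- vectors of `U ⊗ w^⊥` are sums of pure tensors -/
theorem decomp_of_Cw_zero {w : Fin b → F} (v : Fin a × Fin b → F) (h : Cw hF w v = 0) :
    ∃ f : Fin a → Fin b → F, (∀ i, B₂ (f i) w = 0) ∧
      v = ∑ i, pt (Pi.single i (1 : F)) (f i) := by
  refine ⟨fun i j => v (i, j), ?_, ?_⟩
  · intro i
    have := congrFun h i
    rw [Cw_apply] at this
    rw [hB_apply]
    exact this
  · funext ⟨i, j⟩
    rw [Finset.sum_apply, Finset.sum_eq_single i]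
    · rw [pt_apply, Pi.single_eq_same, one_mul]
    · intro i' _ hi'
      rw [pt_apply, Pi.single_eq_of_ne (Ne.symm hi'), zero_mul]
    · intro h
      exact absurd (Finset.mem_univ _) h

/-- an element acting as an isometry on pure tensors is an isometry -/
theorem mem_GUV_of_pt {g : GL (Fin a × Fin b) F}
    (h : ∀ (x x' : Fin a → F) (y y' : Fin b → F),
      BV ((g : Matrix (Fin a × Fin b) (Fin a × Fin b) F) *ᵥ pt x y)
        ((g : Matrix (Fin a × Fin b) (Fin a × Fin b) F) *ᵥ pt x' y') = BV (pt x y) (pt x' y')) :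
    g ∈ GUV hF (Fin a × Fin b) := by
  rw [mem_GUV]
  intro v w
  revert w
  refine pt_induction (P := fun v => ∀ w, BV ((g : Matrix (Fin a × Fin b) (Fin a × Fin b) F) *ᵥ v)
    ((g : Matrix (Fin a × Fin b) (Fin a × Fin b) F) *ᵥ w) = BV v w) ?_ ?_ ?_ v
  · intro w
    rw [Matrix.mulVec_zero, map_zero, LinearMap.zero_apply, LinearMap.zero_apply]
  · intro x y hx hy w
    rw [Matrix.mulVec_add, map_add, LinearMap.add_apply, hx, hy, map_add, LinearMap.add_apply]
  · intro x y w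
    refine pt_induction (P := fun w => BV ((g : Matrix (Fin a × Fin b) (Fin a × Fin b) F) *ᵥ pt x y)
      ((g : Matrix (Fin a × Fin b) (Fin a × Fin b) F) *ᵥ w) = BV (pt x y) w) ?_ ?_ ?_ w
    · rw [Matrix.mulVec_zero, map_zero, map_zero]
    · intro w w' hw hw'
      rw [Matrix.mulVec_add, map_add, hw, hw', map_add]
    · intro x' y'
      exact h x x' y y'

/-- dividing by an element acting by `N` -/
theorem Acts_div_right {g s : GL (Fin a × Fin b) F}
    {N Z : (Fin a × Fin b → F) →ₗ[F] (Fin a × Fin b → F)}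
    (ha : Acts g (N + Z)) (hs : Acts s N) (hZN : Z ∘ₗ N = 0) : Acts (g * s⁻¹) Z := by
  intro t
  obtain ⟨t', ht'⟩ : ∃ t' : Fin a × Fin b → F,
      t' = ((s⁻¹ : GL (Fin a × Fin b) F) : Matrix (Fin a × Fin b) (Fin a × Fin b) F) *ᵥ t :=
    ⟨_, rfl⟩
  have h1 : t = t' + N t' := by
    have := hs t'
    rw [ht', mulVec_inv_mulVec, ← ht'] at this
    exact this
  have hZ : Z t = Z t' := by
    rw [h1, map_add]
    have : Z (N t') = 0 := LinearMap.congr_fun hZN t'
    rw [this, add_zero]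
  rw [Units.val_mul, ← Matrix.mulVec_mulVec, ← ht', ha t', LinearMap.add_apply, hZ]
  rw [h1]
  abel

variable {hF}

theorem Ctx.kr1_mem (C : Ctx hF H) (A' : ↥(Cfsg.GU b F q))
    (hA' : ((A' : GL (Fin b) F) : Matrix (Fin b) (Fin b) F).det = 1) :
    kr (1 : GL (Fin a) F) (A' : GL (Fin b) F) ∈ H := by
  have hm : kr ((1 : ↥(Cfsg.GU a F q)) : GL (Fin a) F) (A' : GL (Fin b) F) ∈ H :=
    C.kr_mem 1 A' (by rw [Subgroup.coe_one, Units.val_one, Matrix.det_one]) hA'
  rwa [Subgroup.coe_one] at hm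

/-! ### slopes -/

/-- the skew part of a slope lies in `𝓛` -/
theorem Ctx.slope_adj (C : Ctx hF H) {w w₁ : Fin b → F} (hw0 : w ≠ 0) (hw : B₂ w w = 0)
    (hw₁w : B₂ w₁ w = 0) {g : GL (Fin a × Fin b) F} (hgH : g ∈ H)
    (θ : (Fin a → F) →ₗ[F] (Fin a → F))
    (hgw : ∀ x, (g : Matrix (Fin a × Fin b) (Fin a × Fin b) F) *ᵥ pt x w = pt x w)
    (hg1 : ∀ x, (g : Matrix (Fin a × Fin b) (Fin a × Fin b) F) *ᵥ pt x w₁ =
      pt x w₁ + pt (θ x) w) :
    θ - adjH hF θ ∈ LL hF H w := by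
  obtain ⟨c, _, hc⟩ := exTr_ne hF (-(B₂ w₁ w₁)) (by rw [map_neg, hB_self_fixed])
  have hc' : c + σ c + B₂ w₁ w₁ = 0 := by rw [hc]; ring
  have hsH := C.kr1_mem (eiG hF w w₁ c hw hw₁w hc') (eiG_det hF w w₁ c hw hw₁w hc')
  have hs := Acts_eich (a := a) hF w w₁ c hw hw₁w hc'
  have hCw := Cw_fix hF (C.iso hgH) hgw
  have hCw₁ : ∀ v, Cw hF w₁ ((g : Matrix (Fin a × Fin b) (Fin a × Fin b) F) *ᵥ v) =
      Cw hF w₁ v - adjH hF θ (Cw hF w v) := by
    intro v
    apply hB_ext_left hF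
    intro x
    rw [map_sub, LinearMap.sub_apply, adjH_spec', ← hB_pt_right, ← hB_pt_right, ← hB_pt_right]
    have e1 : pt x w₁ = (g : Matrix (Fin a × Fin b) (Fin a × Fin b) F) *ᵥ
        (pt x w₁ - pt (θ x) w) := by
      rw [Matrix.mulVec_sub, hg1 x, hgw (θ x)]
      abel
    have e2 : BV ((g : Matrix (Fin a × Fin b) (Fin a × Fin b) F) *ᵥ v) (pt x w₁) =
        BV ((g : Matrix (Fin a × Fin b) (Fin a × Fin b) F) *ᵥ v)
          ((g : Matrix (Fin a × Fin b) (Fin a × Fin b) F) *ᵥ (pt x w₁ - pt (θ x) w)) := by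
      rw [← e1]
    rw [e2, C.iso hgH, map_sub]
  have hconj : Acts (g * kr (1 : GL (Fin a) F)
      ((eiG hF w w₁ c hw hw₁w hc' : ↥(Cfsg.GU b F q)) : GL (Fin b) F) * g⁻¹)
      ((Xs hF LinearMap.id w₁ w - Xs hF LinearMap.id w w₁ + c • Xs hF LinearMap.id w w) +
        Xs hF (θ - adjH hF θ) w w) := by
    apply hs.conj
    intro v
    simp only [LinearMap.add_apply, LinearMap.sub_apply, LinearMap.smul_apply, Xs_apply, hCw,
      hCw₁, LinearMap.id_apply, map_sub, pt_sub_left, Matrix.mulVec_sub, Matrix.mulVec_smul,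
      Matrix.mulVec_add, hgw, hg1]
    module
  have hZN : Xs hF (θ - adjH hF θ) w w ∘ₗ
      (Xs hF LinearMap.id w₁ w - Xs hF LinearMap.id w w₁ + c • Xs hF LinearMap.id w w) = 0 := by
    simp only [LinearMap.comp_sub, LinearMap.comp_add, LinearMap.comp_smul, Xs_comp, hw, hw₁w,
      zero_smul, smul_zero, sub_zero, add_zero]
  exact ⟨_, H.mul_mem (H.mul_mem (H.mul_mem hgH hsH) (H.inv_mem hgH)) (H.inv_mem hsH),
    Acts_div_right hconj hs hZN⟩

/-- slopes of radical elements are scalar -/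
theorem Ctx.slope_scalar1 (C : Ctx hF H) {w w₁ : Fin b → F} (hw0 : w ≠ 0) (hw : B₂ w w = 0)
    (hw₁w : B₂ w₁ w = 0) {g : GL (Fin a × Fin b) F} (hgH : g ∈ H)
    (θ : (Fin a → F) →ₗ[F] (Fin a → F))
    (hgw : ∀ x, (g : Matrix (Fin a × Fin b) (Fin a × Fin b) F) *ᵥ pt x w = pt x w)
    (hg1 : ∀ x, (g : Matrix (Fin a × Fin b) (Fin a × Fin b) F) *ᵥ pt x w₁ =
      pt x w₁ + pt (θ x) w) :
    ∃ c : F, θ = c • LinearMap.id := by
  obtain ⟨c₁, hc₁⟩ := Ctx.ZW hF C hw0 hw (C.slope_adj hw0 hw hw₁w hgH θ hgw hg1)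
  obtain ⟨l, hl⟩ := exNotFixed hF
  have hw₁w' : B₂ (l • w₁) w = 0 := by
    rw [map_smul, LinearMap.smul_apply, hw₁w, smul_zero]
  have hg1' : ∀ x, (g : Matrix (Fin a × Fin b) (Fin a × Fin b) F) *ᵥ pt x (l • w₁) =
      pt x (l • w₁) + pt ((l • θ) x) w := by
    intro x
    rw [pt_smul_right, Matrix.mulVec_smul, hg1, smul_add, LinearMap.smul_apply, pt_smul_left]
  obtain ⟨c₂, hc₂⟩ := Ctx.ZW hF C hw0 hw (C.slope_adj hw0 hw hw₁w' hgH (l • θ) hgw hg1')
  rw [adjH_smul] at hc₂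
  have hne : l - σ l ≠ 0 := by
    intro h
    exact hl (sub_eq_zero.mp h).symm
  have h3 : (l - σ l) • adjH hF θ = (c₂ - l * c₁) • LinearMap.id := by
    linear_combination (norm := module) hc₂ - l • hc₁
  have h4 : adjH hF θ = ((l - σ l)⁻¹ * (c₂ - l * c₁)) • LinearMap.id := by
    rw [mul_smul, ← h3, smul_smul, inv_mul_cancel₀ hne, one_smul]
  refine ⟨c₁ + (l - σ l)⁻¹ * (c₂ - l * c₁), ?_⟩
  have h5 : θ = c₁ • LinearMap.id + adjH hF θ := by
    rw [← hc₁]
    abel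
  rw [h5, h4, ← add_smul]

/-! ### the radical -/

/-- an element of `H` fixing `U ⊗ w^⊥` pointwise is a root element of `1 ⊗ SU(W)` -/
theorem Ctx.fix_perp (C : Ctx hF H) {w : Fin b → F} (hw0 : w ≠ 0) (hw : B₂ w w = 0)
    {ζ : GL (Fin a × Fin b) F} (hζH : ζ ∈ H)
    (hfix : ∀ (x : Fin a → F) (y : Fin b → F), B₂ y w = 0 →
      (ζ : Matrix (Fin a × Fin b) (Fin a × Fin b) F) *ᵥ pt x y = pt x y) :
    ζ ∈ krSub (Fin a) (Fin b) F := by
  obtain ⟨ws, hwss, hws⟩ := ex_partner hF w hw0 hw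
  have hwsw : B₂ ws w = 1 := by rw [← hB_conj, hws, map_one]
  obtain ⟨L, hLdef⟩ : ∃ L : (Fin a → F) →ₗ[F] (Fin a → F), L = Cw hF ws ∘ₗ
      (Matrix.mulVecLin (ζ : Matrix (Fin a × Fin b) (Fin a × Fin b) F) - LinearMap.id) ∘ₗ
        ptL ws := ⟨_, rfl⟩
  have hLx : ∀ x, L x = Cw hF ws
      ((ζ : Matrix (Fin a × Fin b) (Fin a × Fin b) F) *ᵥ pt x ws - pt x ws) := by
    intro x
    rw [hLdef]
    rfl
  have hζws : ∀ x, (ζ : Matrix (Fin a × Fin b) (Fin a × Fin b) F) *ᵥ pt x ws =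
      pt x ws + pt (L x) w := by
    intro x
    obtain ⟨u, hu⟩ := exists_pt_of_Cw_zero hF hw0
      ((ζ : Matrix (Fin a × Fin b) (Fin a × Fin b) F) *ᵥ pt x ws - pt x ws) (by
      intro z hz
      apply hB_ext_left hF
      intro x'
      rw [map_zero, LinearMap.zero_apply, ← hB_pt_right, map_sub, LinearMap.sub_apply]
      have := C.iso hζH (pt x ws) (pt x' z)
      rw [hfix x' z hz] at this
      rw [this, sub_self])
    have : L x = u := by rw [hLx, hu, Cw_pt, hws, one_smul]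
    rw [this, ← hu]
    abel
  have hA : Acts ζ (Xs hF L w w) := by
    apply Acts_of_pt
    intro x y
    have hy' : B₂ (y - B₂ y w • ws) w = 0 := by
      rw [map_sub, LinearMap.sub_apply, map_smul, LinearMap.smul_apply, hwsw, smul_eq_mul,
        mul_one, sub_self]
    have e1 : pt x y = pt x (y - B₂ y w • ws) + B₂ y w • pt x ws := by
      rw [pt_sub_right, pt_smul_right]
      abel
    rw [Xs_pt]
    nth_rewrite 1 [e1]
    rw [Matrix.mulVec_add, Matrix.mulVec_smul, hfix x _ hy', hζws, pt_sub_right, pt_smul_right]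
    module
  have hLL : L ∈ LL hF H w := ⟨ζ, hζH, hA⟩
  obtain ⟨c, hc⟩ := Ctx.ZW hF C hw0 hw hLL
  obtain ⟨x₀, y₀, _, _, hxy⟩ := ex_hyp hF C.ha
  have hsk := LL_skew hF C hw0 hw hLL x₀ y₀
  rw [hc] at hsk
  simp only [LinearMap.smul_apply, LinearMap.id_apply, map_smul, LinearMap.map_smulₛₗ,
    smul_eq_mul, hxy, mul_one] at hsk
  have hcσ : σ c = -c := by linear_combination hsk
  have := Acts.ext hA ((Acts_root (a := a) hF w c hw hcσ).congr (by rw [hc, Xs_smul_left]))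
  rw [this]
  exact Cfsg.Agent.Lib.Helper8.Tns.kr_mem _ _

/-- the unipotent radical of the stabiliser of `U ⊗ w` in `H` lies in `krSub` -/
theorem Ctx.rad_mem (C : Ctx hF H) {w : Fin b → F} (hw0 : w ≠ 0) (hw : B₂ w w = 0)
    {r : GL (Fin a × Fin b) F} (hrH : r ∈ H)
    (hfix : ∀ x, (r : Matrix (Fin a × Fin b) (Fin a × Fin b) F) *ᵥ pt x w = pt x w)
    (hmove : ∀ (x : Fin a → F) (y : Fin b → F), B₂ y w = 0 → ∃ x'' : Fin a → F,
      (r : Matrix (Fin a × Fin b) (Fin a × Fin b) F) *ᵥ pt x y = pt x y + pt x'' w) :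
    r ∈ krSub (Fin a) (Fin b) F := by
  obtain ⟨ws, hwss, hws⟩ := ex_partner hF w hw0 hw
  obtain ⟨Θ, hΘ⟩ : ∃ Θ : (Fin b → F) →ₗ[F] (Fin a → F) →ₗ[F] (Fin a → F), ∀ y x,
      Θ y x = Cw hF ws ((r : Matrix (Fin a × Fin b) (Fin a × Fin b) F) *ᵥ pt x y - pt x y) := by
    refine ⟨LinearMap.mk₂ F (fun y x => Cw hF ws
      ((r : Matrix (Fin a × Fin b) (Fin a × Fin b) F) *ᵥ pt x y - pt x y)) ?_ ?_ ?_ ?_,
      fun y x => rfl⟩
    · intro y y' x
      rw [pt_add_right, Matrix.mulVec_add, ← map_add]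
      congr 1
      abel
    · intro c y x
      rw [pt_smul_right, Matrix.mulVec_smul, ← smul_sub, map_smul]
    · intro y x x'
      rw [pt_add_left, Matrix.mulVec_add, ← map_add]
      congr 1
      abel
    · intro c y x
      rw [pt_smul_left, Matrix.mulVec_smul, ← smul_sub, map_smul]
  have hΘr : ∀ y, B₂ y w = 0 → ∀ x,
      (r : Matrix (Fin a × Fin b) (Fin a × Fin b) F) *ᵥ pt x y = pt x y + pt (Θ y x) w := by
    intro y hy x
    obtain ⟨x'', hx''⟩ := hmove x y hy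
    rw [hΘ, hx'', add_sub_cancel_left, Cw_pt, hws, one_smul]
  have hsc : ∀ y, B₂ y w = 0 → ∃ c : F, Θ y = c • LinearMap.id :=
    fun y hy => C.slope_scalar1 hw0 hw hy hrH (Θ y) hfix (hΘr y hy)
  obtain ⟨x₀, y₀, _, _, hxy⟩ := ex_hyp hF C.ha
  obtain ⟨φ, hφ⟩ : ∃ φ : (Fin b → F) →ₗ[F] F, ∀ y, φ y = B₁ (Θ y x₀) y₀ :=
    ⟨((hB hF (Fin a)).flip y₀) ∘ₗ (Θ.flip x₀), fun y => rfl⟩
  have hΘφ : ∀ y, B₂ y w = 0 → ∀ x, Θ y x = φ y • x := by
    intro y hy x
    obtain ⟨c, hc⟩ := hsc y hy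
    rw [hφ, hc]
    simp only [LinearMap.smul_apply, LinearMap.id_apply, map_smul, smul_eq_mul, hxy, mul_one]
  obtain ⟨z₀, hz₀⟩ := ex_repr hF φ
  have hφw : φ w = 0 := by
    rw [hφ, hΘ, hfix, sub_self, map_zero, map_zero, LinearMap.zero_apply]
  have hwz₀ : B₂ w z₀ = 0 := by rw [← hz₀, hφw]
  have hzw : B₂ (-z₀) w = 0 := by
    rw [map_neg, LinearMap.neg_apply, hB_eq_zero_symm hF hwz₀, neg_zero]
  obtain ⟨c, _, hc⟩ := exTr_ne hF (-(B₂ (-z₀) (-z₀))) (by rw [map_neg, hB_self_fixed])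
  have hc' : c + σ c + B₂ (-z₀) (-z₀) = 0 := by rw [hc]; ring
  have hsH := C.kr1_mem (eiG hF w (-z₀) c hw hzw hc') (eiG_det hF w (-z₀) c hw hzw hc')
  have hs := Acts_eich (a := a) hF w (-z₀) c hw hzw hc'
  have hζ : (kr (1 : GL (Fin a) F)
      ((eiG hF w (-z₀) c hw hzw hc' : ↥(Cfsg.GU b F q)) : GL (Fin b) F))⁻¹ * r ∈
      krSub (Fin a) (Fin b) F := by
    apply C.fix_perp hw0 hw (H.mul_mem (H.inv_mem hsH) hrH)
    intro x y hy
    have e2 : (r : Matrix (Fin a × Fin b) (Fin a × Fin b) F) *ᵥ pt x y =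
        ((kr (1 : GL (Fin a) F)
          ((eiG hF w (-z₀) c hw hzw hc' : ↥(Cfsg.GU b F q)) : GL (Fin b) F) :
            GL (Fin a × Fin b) F) : Matrix (Fin a × Fin b) (Fin a × Fin b) F) *ᵥ pt x y := by
      rw [hΘr y hy, hΘφ y hy, hs (pt x y), hz₀]
      simp only [LinearMap.add_apply, LinearMap.sub_apply, LinearMap.smul_apply, Xs_pt,
        LinearMap.id_apply, hy, zero_smul, smul_zero, map_neg, pt_smul_left, sub_neg_eq_add,
        zero_add, add_zero, neg_smul]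
    rw [Units.val_mul, ← Matrix.mulVec_mulVec, e2, inv_mulVec_mulVec]
  have : r = kr (1 : GL (Fin a) F)
      ((eiG hF w (-z₀) c hw hzw hc' : ↥(Cfsg.GU b F q)) : GL (Fin b) F) *
      ((kr (1 : GL (Fin a) F)
        ((eiG hF w (-z₀) c hw hzw hc' : ↥(Cfsg.GU b F q)) : GL (Fin b) F))⁻¹ * r) := by
    group
  rw [this]
  exact (krSub (Fin a) (Fin b) F).mul_mem (Cfsg.Agent.Lib.Helper8.Tns.kr_mem _ _) hζ

end Cfsg.Agent.Lib.Helper1.TsU
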