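import Mathlib
import Cfsg.Agent.Lib.Helper1.TsU9

/-!
# Unitary tensor products: the point-local lemma, part 2 (the stabiliser of `U ⊗ w`)
-/

set_option autoImplicit false
set_option maxHeartbeats 4000000
set_option maxRecDepth 100000
set_option linter.unusedSimpArgs false
set_option linter.unusedVariables false
set_option linter.unusedSectionVars false
set_option linter.style.longLine false
set_option linter.deprecated false

namespace Cfsg.Agent.Lib.Helper1.TsU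

open Module Matrix
open Cfsg
open Cfsg.Agent.Lib.Helper5.Herm Cfsg.Agent.Lib.Helper5.HermBridge
  Cfsg.Agent.Lib.Helper5.HermTv Cfsg.Agent.Lib.Helper5.HermEich
open Cfsg.Agent.Lib.Helper1.TsA
open Cfsg.Agent.Lib.Helper8.Tns

variable {F : Type*} [Field F] [Fintype F] {q : ℕ} (hF : Fintype.card F = q ^ 2)

local notation "σ" => Cfsg.Agent.Lib.Helper5.HermBridge.sigma hF

section gamma

variable {n : ℕ}

local notation "B" => hB hF (Fin n)

/-- the projection onto `⟨w, ws⟩^⊥` -/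
noncomputable def piH (hF : Fintype.card F = q ^ 2) (w ws : Fin n → F) :
    (Fin n → F) →ₗ[F] (Fin n → F) :=
  LinearMap.id - ((hB hF (Fin n)).flip ws).smulRight w - ((hB hF (Fin n)).flip w).smulRight ws

theorem piH_apply (w ws x : Fin n → F) : piH hF w ws x = x - B x ws • w - B x w • ws := rfl

theorem form_decomp_herm {w ws : Fin n → F} (hw : B w w = 0) (hwss : B ws ws = 0)
    (hws : B w ws = 1) (x x' : Fin n → F) :
    B x x' = B x ws * B w x' + B x w * B ws x' + B (piH hF w ws x) (piH hF w ws x') := by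
  have hwsw : B ws w = 1 := by rw [← hB_conj, hws, map_one]
  rw [piH_apply, piH_apply]
  simp only [map_sub, map_smul, LinearMap.sub_apply, LinearMap.smul_apply, LinearMap.map_smulₛₗ,
    smul_eq_mul, hw, hwss, hws, hwsw, hB_conj]
  ring

/-- extension of a similitude of `w^⊥` (modulo `w`) to a similitude of the whole space -/
theorem exists_gamma_herm {w ws : Fin n → F} (hw : B w w = 0) (hwss : B ws ws = 0)
    (hws : B w ws = 1) (δ : (Fin n → F) →ₗ[F] (Fin n → F)) (ν : F) (hν : ν ≠ 0) (hνσ : σ ν = ν)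
    (hδw : δ w = w) (hδp : ∀ x, B x w = 0 → B (δ x) w = 0)
    (hδs : ∀ x x', B x w = 0 → B x' w = 0 → B (δ x) (δ x') = ν * B x x') :
    ∃ γ : GL (Fin n) F,
      (∀ x x', B ((γ : Matrix (Fin n) (Fin n) F) *ᵥ x) ((γ : Matrix (Fin n) (Fin n) F) *ᵥ x') =
        ν * B x x') ∧
      (γ : Matrix (Fin n) (Fin n) F) *ᵥ w = w ∧
      ∀ x, B x w = 0 → ∃ c : F, (γ : Matrix (Fin n) (Fin n) F) *ᵥ x = δ x + c • w := by
  have hwsw : B ws w = 1 := by rw [← hB_conj, hws, map_one]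
  obtain ⟨γL, hγL⟩ : ∃ γL : (Fin n → F) →ₗ[F] (Fin n → F), γL =
      ((hB hF (Fin n)).flip ws).smulRight w + ν • ((hB hF (Fin n)).flip w).smulRight ws +
        piH hF w ws ∘ₗ δ ∘ₗ piH hF w ws := ⟨_, rfl⟩
  have hγa : ∀ x, γL x = B x ws • w + (ν * B x w) • ws +
      piH hF w ws (δ (piH hF w ws x)) := by
    intro x
    rw [hγL]
    simp [mul_smul]
  have hp1 : ∀ x, B (piH hF w ws x) w = 0 := by
    intro x
    rw [piH_apply]
    simp only [map_sub, map_smul, LinearMap.sub_apply, LinearMap.smul_apply, smul_eq_mul, hw,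
      hwsw]
    ring
  have hp2 : ∀ x, B (piH hF w ws x) ws = 0 := by
    intro x
    rw [piH_apply]
    simp only [map_sub, map_smul, LinearMap.sub_apply, LinearMap.smul_apply, smul_eq_mul, hwss,
      hws]
    ring
  have hg1 : ∀ x, B (γL x) ws = B x ws := by
    intro x
    rw [hγa]
    simp only [map_add, map_smul, LinearMap.add_apply, LinearMap.smul_apply, smul_eq_mul,
      hwss, hws, hp2]
    ring
  have hg2 : ∀ x, B (γL x) w = ν * B x w := by
    intro x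
    rw [hγa]
    simp only [map_add, map_smul, LinearMap.add_apply, LinearMap.smul_apply, smul_eq_mul, hw,
      hwsw, hp1]
    ring
  have hg1' : ∀ x, B ws (γL x) = B ws x := by
    intro x
    rw [← hB_conj, hg1, hB_conj]
  have hg2' : ∀ x, B w (γL x) = ν * B w x := by
    intro x
    rw [← hB_conj, hg2, map_mul, hνσ, hB_conj]
  have hg3 : ∀ x, piH hF w ws (γL x) = piH hF w ws (δ (piH hF w ws x)) := by
    intro x
    rw [piH_apply (x := γL x), hg1, hg2]
    nth_rewrite 1 [hγa]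
    module
  have hsim : ∀ x x', B (γL x) (γL x') = ν * B x x' := by
    intro x x'
    rw [form_decomp_herm hF hw hwss hws (γL x) (γL x'), hg1, hg2, hg2', hg1', hg3, hg3]
    have e1 := form_decomp_herm hF hw hwss hws (δ (piH hF w ws x)) (δ (piH hF w ws x'))
    rw [hδp _ (hp1 x), hB_eq_zero_symm hF (hδp _ (hp1 x')), hδs _ _ (hp1 x) (hp1 x')] at e1
    have e2 := form_decomp_herm hF hw hwss hws x x'
    linear_combination (-1 : F) * e1 - ν * e2
  have hinj : Function.Injective γL := by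
    rw [← LinearMap.ker_eq_bot, LinearMap.ker_eq_bot']
    intro x hx
    apply hB_nondeg hF
    intro x'
    have := hsim x x'
    rw [hx, map_zero, LinearMap.zero_apply] at this
    rcases mul_eq_zero.mp this.symm with h | h
    · exact absurd h hν
    · exact h
  refine ⟨glOf (LinearEquiv.ofInjectiveEndo γL hinj), ?_, ?_, ?_⟩
  · intro x x'
    rw [glOf_mulVec, glOf_mulVec]
    exact hsim x x'
  · rw [glOf_mulVec]
    show γL w = w
    rw [hγa, hws, hw]
    have : piH hF w ws w = 0 := by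
      rw [piH_apply, hws, hw]
      simp
    rw [this, map_zero, map_zero]
    simp
  · intro x hx
    refine ⟨B x ws - B (δ x) ws, ?_⟩
    rw [glOf_mulVec]
    show γL x = _
    rw [hγa, hx]
    have e1 : piH hF w ws x = x - B x ws • w := by
      rw [piH_apply, hx]
      simp
    have e2 : δ (piH hF w ws x) = δ x - B x ws • w := by
      rw [e1, map_sub, map_smul, hδw]
    have e3 : B (δ x - B x ws • w) w = 0 := by
      rw [map_sub, LinearMap.sub_apply, map_smul, LinearMap.smul_apply, hw, hδp x hx]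
      simp
    rw [e2, piH_apply, e3]
    simp only [map_sub, map_smul, LinearMap.sub_apply, LinearMap.smul_apply, smul_eq_mul, hwsw,
      hws, mul_one]
    module

end gamma

variable {a b n : ℕ} {H : Subgroup (GL (Fin a × Fin b) F)}

local notation "B₁" => hB hF (Fin a)
local notation "B₂" => hB hF (Fin b)
local notation "BV" => hB hF (Fin a × Fin b)

variable {hF}

/-- **(L4)** the stabiliser of `U ⊗ w` in `H` lies in `krSub` -/
theorem Ctx.stab_mem_aux (C : Ctx hF H) {h : GL (Fin a × Fin b) F} (hh : h ∈ H)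
    {w : Fin b → F} (hw0 : w ≠ 0) (hw : B₂ w w = 0)
    (hmap : ∀ x : Fin a → F, ∃ x' : Fin a → F,
      (h : Matrix (Fin a × Fin b) (Fin a × Fin b) F) *ᵥ pt x w = pt x' w) :
    h ∈ krSub (Fin a) (Fin b) F := by
  have hhG := C.hHGU hh
  have hhinv : ∀ v v', BV (((h⁻¹ : GL (Fin a × Fin b) F) :
      Matrix (Fin a × Fin b) (Fin a × Fin b) F) *ᵥ v)
      (((h⁻¹ : GL (Fin a × Fin b) F) : Matrix (Fin a × Fin b) (Fin a × Fin b) F) *ᵥ v') =
      BV v v' := (mem_GUV hF).mp ((GUV hF (Fin a × Fin b)).inv_mem hhG)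
  obtain ⟨ws, hwss, hws⟩ := ex_partner hF w hw0 hw
  have hwsw : B₂ ws w = 1 := by rw [← hB_conj, hws, map_one]
  -- the map `α`
  obtain ⟨αL, hαLdef⟩ : ∃ αL : (Fin a → F) →ₗ[F] (Fin a → F), αL =
      Cw hF ws ∘ₗ Matrix.mulVecLin (h : Matrix (Fin a × Fin b) (Fin a × Fin b) F) ∘ₗ ptL w :=
    ⟨_, rfl⟩
  have hαL : ∀ x, (h : Matrix (Fin a × Fin b) (Fin a × Fin b) F) *ᵥ pt x w = pt (αL x) w := by
    intro x
    obtain ⟨x', hx'⟩ := hmap x
    have : αL x = x' := by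
      rw [hαLdef]
      simp only [LinearMap.comp_apply, ptL_apply, Matrix.mulVecLin_apply]
      rw [hx', Cw_pt, hws, one_smul]
    rw [this, hx']
  have hαinj : Function.Injective αL := by
    rw [← LinearMap.ker_eq_bot, LinearMap.ker_eq_bot']
    intro x hx
    have h1 := hαL x
    rw [hx, pt_zero_left] at h1
    have h3 : pt x w = 0 := by
      have := congrArg (fun y => ((h⁻¹ : GL (Fin a × Fin b) F) :
        Matrix (Fin a × Fin b) (Fin a × Fin b) F) *ᵥ y) h1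
      simp only [inv_mulVec_mulVec, Matrix.mulVec_zero] at this
      exact this
    exact pt_left_injective hw0 (by rw [h3, pt_zero_left])
  obtain ⟨α, hα⟩ : ∃ α : (Fin a → F) ≃ₗ[F] (Fin a → F), ∀ x, α x = αL x :=
    ⟨LinearEquiv.ofInjectiveEndo αL hαinj, fun _ => rfl⟩
  have hα1 : ∀ x, (h : Matrix (Fin a × Fin b) (Fin a × Fin b) F) *ᵥ pt x w = pt (α x) w := by
    intro x
    rw [hα]
    exact hαL x
  have hα2 : ∀ x, ((h⁻¹ : GL (Fin a × Fin b) F) : Matrix (Fin a × Fin b) (Fin a × Fin b) F) *ᵥ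
      pt x w = pt (α.symm x) w := by
    intro x
    have := hα1 (α.symm x)
    rw [LinearEquiv.apply_symm_apply] at this
    rw [← this, inv_mulVec_mulVec]
  -- `h⁻¹` preserves `U ⊗ w^⊥`
  have hperp : ∀ (x : Fin a → F) (y : Fin b → F), B₂ y w = 0 →
      Cw hF w (((h⁻¹ : GL (Fin a × Fin b) F) :
        Matrix (Fin a × Fin b) (Fin a × Fin b) F) *ᵥ pt x y) = 0 := by
    intro x y hy
    apply hB_ext_left hF
    intro x'
    rw [map_zero, LinearMap.zero_apply, ← hB_pt_right, hB_inv_left hF hhG, hα1, hB_pt, hy,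
      mul_zero]
  -- the slopes are scalar
  have hslope : ∀ (z y : Fin b → F), B₂ z w = 0 → B₂ y w = 0 → ∃ c : F, ∀ x,
      Cw hF z (((h⁻¹ : GL (Fin a × Fin b) F) :
        Matrix (Fin a × Fin b) (Fin a × Fin b) F) *ᵥ pt x y) = c • α.symm x := by
    intro z y hz hy
    obtain ⟨cz, _, hcz⟩ := exTr_ne hF (-(B₂ z z)) (by rw [map_neg, hB_self_fixed])
    have hcz' : cz + σ cz + B₂ z z = 0 := by rw [hcz]; ring
    have hsH := C.kr1_mem (eiG hF w z cz hw hz hcz') (eiG_det hF w z cz hw hz hcz')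
    have hsA := Acts_eich (a := a) hF w z cz hw hz hcz'
    obtain ⟨s, hsdef⟩ : ∃ s : GL (Fin a × Fin b) F, s = kr (1 : GL (Fin a) F)
      ((eiG hF w z cz hw hz hcz' : ↥(Cfsg.GU b F q)) : GL (Fin b) F) := ⟨_, rfl⟩
    rw [← hsdef] at hsH hsA
    obtain ⟨y', hy'⟩ : ∃ y' : GL (Fin a × Fin b) F, y' = h * s * h⁻¹ := ⟨_, rfl⟩
    have hyH : y' ∈ H := by
      rw [hy']
      exact H.mul_mem (H.mul_mem hh hsH) (H.inv_mem hh)
    have hwz : B₂ w z = 0 := hB_eq_zero_symm hF hz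
    have hyw : ∀ x, (y' : Matrix (Fin a × Fin b) (Fin a × Fin b) F) *ᵥ pt x w = pt x w := by
      intro x
      rw [hy', Units.val_mul, Units.val_mul, ← Matrix.mulVec_mulVec, ← Matrix.mulVec_mulVec, hα2,
        hsA (pt _ w)]
      simp only [LinearMap.add_apply, LinearMap.sub_apply, LinearMap.smul_apply, Xs_pt, hw, hwz,
        zero_smul, smul_zero, sub_zero, add_zero]
      rw [hα1, LinearEquiv.apply_symm_apply]
    obtain ⟨θ, hθ⟩ : ∃ θ : (Fin a → F) →ₗ[F] (Fin a → F), ∀ x, θ x =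
        -(α (Cw hF z (((h⁻¹ : GL (Fin a × Fin b) F) :
          Matrix (Fin a × Fin b) (Fin a × Fin b) F) *ᵥ pt x y))) :=
      ⟨-((α : (Fin a → F) →ₗ[F] (Fin a → F)) ∘ₗ Cw hF z ∘ₗ
        Matrix.mulVecLin ((h⁻¹ : GL (Fin a × Fin b) F) :
          Matrix (Fin a × Fin b) (Fin a × Fin b) F) ∘ₗ ptL y), fun x => rfl⟩
    have hy1 : ∀ x, (y' : Matrix (Fin a × Fin b) (Fin a × Fin b) F) *ᵥ pt x y =
        pt x y + pt (θ x) w := by
      intro x
      rw [hy', Units.val_mul, Units.val_mul, ← Matrix.mulVec_mulVec, ← Matrix.mulVec_mulVec,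
        hsA (((h⁻¹ : GL (Fin a × Fin b) F) :
          Matrix (Fin a × Fin b) (Fin a × Fin b) F) *ᵥ pt x y)]
      simp only [LinearMap.add_apply, LinearMap.sub_apply, LinearMap.smul_apply, Xs_apply,
        hperp x y hy, LinearMap.id_apply, map_zero, pt_zero_left, smul_zero, zero_sub, add_zero]
      rw [Matrix.mulVec_add, mulVec_inv_mulVec, Matrix.mulVec_neg, hα1, hθ, pt_neg_left']
    obtain ⟨c, hc⟩ := C.slope_scalar1 hw0 hw hy hyH θ hyw hy1
    refine ⟨-c, fun x => ?_⟩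
    apply α.injective
    have h1 := hθ x
    rw [hc] at h1
    simp only [LinearMap.smul_apply, LinearMap.id_apply] at h1
    rw [map_smul, LinearEquiv.apply_symm_apply, neg_smul, h1, neg_neg]
  -- the map `δ`
  obtain ⟨x₀, y₀, _, _, hxy₀⟩ := ex_hyp hF C.ha
  have hx₀ : x₀ ≠ 0 := ne_zero_of_hB_left hF (by rw [hxy₀]; exact one_ne_zero)
  have hαx₀ : α.symm x₀ ≠ 0 := (LinearEquiv.map_ne_zero_iff α.symm).mpr hx₀
  obtain ⟨x₀', hx₀''⟩ := ex_prescribed1 hF (α.symm x₀) hαx₀ 1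
  have hx₀' : B₁ (α.symm x₀) x₀' = 1 := by rw [← hB_conj, hx₀'', map_one]
  obtain ⟨δ, hδdef⟩ : ∃ δ : (Fin b → F) →ₗ[F] (Fin b → F), δ = Cu hF x₀' ∘ₗ
      Matrix.mulVecLin ((h⁻¹ : GL (Fin a × Fin b) F) :
        Matrix (Fin a × Fin b) (Fin a × Fin b) F) ∘ₗ ptR x₀ := ⟨_, rfl⟩
  have hδa : ∀ y, δ y = Cu hF x₀'
      (((h⁻¹ : GL (Fin a × Fin b) F) : Matrix (Fin a × Fin b) (Fin a × Fin b) F) *ᵥ pt x₀ y) := by
    intro y
    rw [hδdef]
    rfl
  have hδw : δ w = w := by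
    rw [hδa, hα2, Cu_pt, hx₀', one_smul]
  have hδp : ∀ y, B₂ y w = 0 → B₂ (δ y) w = 0 := by
    intro y hy
    rw [hδa, ← hB_Cw_eq, hperp x₀ y hy, map_zero, LinearMap.zero_apply]
  have hδc : ∀ y, B₂ y w = 0 → ∀ x, ∃ ε : Fin a → F,
      ((h⁻¹ : GL (Fin a × Fin b) F) : Matrix (Fin a × Fin b) (Fin a × Fin b) F) *ᵥ pt x y =
        pt (α.symm x) (δ y) + pt ε w := by
    intro y hy x
    have : ∃ ε : Fin a → F, ((h⁻¹ : GL (Fin a × Fin b) F) :
        Matrix (Fin a × Fin b) (Fin a × Fin b) F) *ᵥ pt x y - pt (α.symm x) (δ y) = pt ε w := by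
      apply exists_pt_of_Cw_zero hF hw0
      intro z hz
      obtain ⟨c, hc⟩ := hslope z y hz hy
      have e1 : B₂ (δ y) z = c := by
        rw [hδa, ← hB_Cw_eq, hc x₀, map_smul, LinearMap.smul_apply, hx₀', smul_eq_mul, mul_one]
      rw [map_sub, hc x, Cw_pt, e1, sub_self]
    obtain ⟨ε, hε⟩ := this
    exact ⟨ε, by rw [← hε]; abel⟩
  -- the similitude relation
  have hS : ∀ (x x' : Fin a → F) (y y' : Fin b → F), B₂ y w = 0 → B₂ y' w = 0 →
      B₁ (α.symm x) (α.symm x') * B₂ (δ y) (δ y') = B₁ x x' * B₂ y y' := by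
    intro x x' y y' hy hy'
    obtain ⟨ε, hε⟩ := hδc y hy x
    obtain ⟨ε', hε'⟩ := hδc y' hy' x'
    have h1 := hhinv (pt x y) (pt x' y')
    rw [hε, hε'] at h1
    simp only [map_add, LinearMap.add_apply, hB_pt, hδp y hy,
      hB_eq_zero_symm hF (hδp y' hy'), hw, mul_zero, add_zero] at h1
    exact h1
  -- a unit vector in `w^⊥`
  obtain ⟨_, r₀, _, _, hrr, hrw, _⟩ := ex_partner_perp hF (by have := C.hb; omega) w hw0 hw
  obtain ⟨ν, hνdef⟩ : ∃ ν : F, ν = B₂ (δ r₀) (δ r₀) := ⟨_, rfl⟩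
  have hνσ : σ ν = ν := by rw [hνdef, hB_self_fixed]
  have hν1 : B₁ (α.symm x₀) (α.symm y₀) * ν = 1 := by
    have := hS x₀ y₀ r₀ r₀ hrw hrw
    rw [hxy₀, hrr, mul_one, ← hνdef] at this
    exact this
  have hν : ν ≠ 0 := by
    intro h0
    rw [h0, mul_zero] at hν1
    exact zero_ne_one hν1
  have hμ : ∀ x x', B₁ (α.symm x) (α.symm x') = ν⁻¹ * B₁ x x' := by
    intro x x'
    have := hS x x' r₀ r₀ hrw hrw
    rw [hrr, mul_one, ← hνdef] at this
    rw [← this, mul_comm, mul_assoc, mul_inv_cancel₀ hν, mul_one]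
  have hδs : ∀ y y', B₂ y w = 0 → B₂ y' w = 0 → B₂ (δ y) (δ y') = ν * B₂ y y' := by
    intro y y' hy hy'
    have := hS x₀ y₀ y y' hy hy'
    rw [hμ, hxy₀, mul_one, one_mul] at this
    rw [← this, ← mul_assoc, mul_inv_cancel₀ hν, one_mul]
  obtain ⟨γ, hγs, hγw, hγp⟩ := exists_gamma_herm hF hw hwss hws δ ν hν hνσ hδw hδp hδs
  -- the element `m' = α⁻¹ ⊗ γ`
  obtain ⟨m', hm'⟩ : ∃ m' : GL (Fin a × Fin b) F, m' = kr (glOf α.symm) γ := ⟨_, rfl⟩
  have hmG : m' ∈ GUV hF (Fin a × Fin b) := by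
    apply mem_GUV_of_pt hF
    intro x x' y y'
    rw [hm', kr_mulVec_pt, kr_mulVec_pt, glOf_mulVec, glOf_mulVec, hB_pt, hB_pt, hμ, hγs]
    field_simp
  obtain ⟨r, hr⟩ : ∃ r : GL (Fin a × Fin b) F, r = h * m' := ⟨_, rfl⟩
  have hrG : r ∈ GUV hF (Fin a × Fin b) := by
    rw [hr]
    exact (GUV hF (Fin a × Fin b)).mul_mem hhG hmG
  have hrfix : ∀ x, (r : Matrix (Fin a × Fin b) (Fin a × Fin b) F) *ᵥ pt x w = pt x w := by
    intro x
    rw [hr, hm', Units.val_mul, ← Matrix.mulVec_mulVec, kr_mulVec_pt, glOf_mulVec, hγw, hα1,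
      LinearEquiv.apply_symm_apply]
  have hrmove : ∀ (x : Fin a → F) (y : Fin b → F), B₂ y w = 0 → ∃ x'' : Fin a → F,
      (r : Matrix (Fin a × Fin b) (Fin a × Fin b) F) *ᵥ pt x y = pt x y + pt x'' w := by
    intro x y hy
    obtain ⟨c, hc⟩ := hγp y hy
    obtain ⟨ε, hε⟩ := hδc y hy x
    refine ⟨c • x - α ε, ?_⟩
    have e1 : pt (α.symm x) (δ y) =
        ((h⁻¹ : GL (Fin a × Fin b) F) : Matrix (Fin a × Fin b) (Fin a × Fin b) F) *ᵥ pt x y -
          pt ε w := by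
      rw [hε]
      abel
    rw [hr, hm', Units.val_mul, ← Matrix.mulVec_mulVec, kr_mulVec_pt, glOf_mulVec, hc,
      pt_add_right, pt_smul_right, e1, Matrix.mulVec_add, Matrix.mulVec_sub, Matrix.mulVec_smul,
      mulVec_inv_mulVec, hα1, hα1, LinearEquiv.apply_symm_apply, pt_sub_left, pt_smul_left]
    abel
  -- `r` is unipotent, hence of determinant one
  have hN1 : ∀ v, Cw hF w ((r : Matrix (Fin a × Fin b) (Fin a × Fin b) F) *ᵥ v - v) = 0 := by
    intro v
    rw [map_sub, Cw_fix hF ((mem_GUV hF).mp hrG) hrfix, sub_self]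
  have hN2 : ∀ v, Cw hF w v = 0 → ∃ u : Fin a → F,
      (r : Matrix (Fin a × Fin b) (Fin a × Fin b) F) *ᵥ v - v = pt u w := by
    intro v hv
    obtain ⟨f, hf, hvf⟩ := decomp_of_Cw_zero hF v hv
    choose g hg using fun i => hrmove (Pi.single i 1) (f i) (hf i)
    refine ⟨∑ i, g i, ?_⟩
    have e1 : pt (∑ i, g i) w = ∑ i, pt (g i) w := by
      exact map_sum (ptL (I := Fin a) (F := F) w) g Finset.univ
    rw [e1]
    nth_rewrite 2 [hvf]
    nth_rewrite 1 [hvf]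
    rw [Matrix.mulVec_sum, ← Finset.sum_sub_distrib]
    refine Finset.sum_congr rfl fun i _ => ?_
    rw [hg i, add_sub_cancel_left]
  have hcube : ((r : Matrix (Fin a × Fin b) (Fin a × Fin b) F) - 1) ^ 3 = 0 := by
    rw [Matrix.ext_iff_mulVec]
    intro v
    have e0 : ∀ v' : Fin a × Fin b → F,
        ((r : Matrix (Fin a × Fin b) (Fin a × Fin b) F) - 1) *ᵥ v' =
          (r : Matrix (Fin a × Fin b) (Fin a × Fin b) F) *ᵥ v' - v' := by
      intro v'
      rw [Matrix.sub_mulVec, Matrix.one_mulVec]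
    rw [pow_succ, pow_two, ← Matrix.mulVec_mulVec, ← Matrix.mulVec_mulVec, e0 v, Matrix.zero_mulVec]
    obtain ⟨u, hu⟩ := hN2 _ (hN1 v)
    rw [e0 (_ - v), hu, e0, hrfix, sub_self]
  have hrdet : (r : Matrix (Fin a × Fin b) (Fin a × Fin b) F).det = 1 := det_unip _ 3 hcube
  have hrS : r ∈ SUV hF (Fin a × Fin b) := (mem_SUV hF).mpr ⟨hrG, hrdet⟩
  have hmS : m' ∈ SUV hF (Fin a × Fin b) := by
    have e : m' = h⁻¹ * r := by
      rw [hr]
      group
    rw [e]
    exact mul_mem (inv_mem (C.hHG hh)) hrS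
  have hmK : m' ∈ krSub (Fin a) (Fin b) F := by
    rw [hm']
    exact Cfsg.Agent.Lib.Helper8.Tns.kr_mem _ _
  have hmH : m' ∈ H := C.hMH ⟨hmK, hmS⟩
  have hrH : r ∈ H := by
    rw [hr]
    exact H.mul_mem hh hmH
  have hrK := C.rad_mem hw0 hw hrH hrfix hrmove
  have : h = r * m'⁻¹ := by
    rw [hr]
    group
  rw [this]
  exact (krSub (Fin a) (Fin b) F).mul_mem hrK ((krSub (Fin a) (Fin b) F).inv_mem hmK)

/-- **(L5)** an element of `H` mapping `U ⊗ w'` into `U ⊗ w` (`w, w'` isotropic) lies in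
`krSub` -/
theorem Ctx.stab_mem (C : Ctx hF H) {h : GL (Fin a × Fin b) F} (hh : h ∈ H)
    {w w' : Fin b → F} (hw0 : w ≠ 0) (hw'0 : w' ≠ 0) (hw : B₂ w w = 0) (hw' : B₂ w' w' = 0)
    (hmap : ∀ x : Fin a → F, ∃ x' : Fin a → F,
      (h : Matrix (Fin a × Fin b) (Fin a × Fin b) F) *ᵥ pt x w' = pt x' w) :
    h ∈ krSub (Fin a) (Fin b) F := by
  obtain ⟨A, hA, μ, hμ, hAw⟩ := SU_trans_pts hF w w' hw0 hw'0 hw hw'
  have hmH := C.kr1_mem A hA
  have h1 : h * kr (1 : GL (Fin a) F) (A : GL (Fin b) F) ∈ krSub (Fin a) (Fin b) F := by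
    apply C.stab_mem_aux (H.mul_mem hh hmH) hw0 hw
    intro x
    obtain ⟨x', hx'⟩ := hmap x
    refine ⟨μ • x', ?_⟩
    rw [Units.val_mul, ← Matrix.mulVec_mulVec, kr_mulVec_pt, Units.val_one, Matrix.one_mulVec,
      ← gact_def, hAw, pt_smul_right, Matrix.mulVec_smul, hx', pt_smul_left]
  have : h = h * kr (1 : GL (Fin a) F) (A : GL (Fin b) F) *
      (kr (1 : GL (Fin a) F) (A : GL (Fin b) F))⁻¹ := by
    group
  rw [this]
  exact (krSub (Fin a) (Fin b) F).mul_mem h1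
    ((krSub (Fin a) (Fin b) F).inv_mem (Cfsg.Agent.Lib.Helper8.Tns.kr_mem _ _))

end Cfsg.Agent.Lib.Helper1.TsU
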