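import Mathlib
import Cfsg.Agent.Lib.Helper1.TsU10

/-!
# Unitary tensor products: fusion control, step 1 of the global argument, isotropic vectors
-/

set_option autoImplicit false
set_option maxHeartbeats 4000000
set_option maxRecDepth 100000
set_option linter.unusedSimpArgs false
set_option linter.unusedVariables false
set_option linter.unusedSectionVars false
set_option linter.style.longLine false
set_option linter.deprecated false

namespace Cfsg.Agent.Lib.Helper1.TsU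

open Module Matrix
open Cfsg
open Cfsg.Agent.Lib.Helper5.Herm Cfsg.Agent.Lib.Helper5.HermBridge
  Cfsg.Agent.Lib.Helper5.HermTv Cfsg.Agent.Lib.Helper5.HermEich
open Cfsg.Agent.Lib.Helper1.TsA
open Cfsg.Agent.Lib.Helper8.Tns

variable {F : Type*} [Field F] [Fintype F] {q : ℕ} (hF : Fintype.card F = q ^ 2)

local notation "σ" => Cfsg.Agent.Lib.Helper5.HermBridge.sigma hF

/-! ### isotropic vectors orthogonal to three given vectors -/

section geom

variable {n : ℕ}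

local notation "B" => hB hF (Fin n)

/-- a nonzero vector orthogonal to `k < n` given vectors -/
theorem ex_ne_zero_perp (k : ℕ) (c : Fin k → (Fin n → F)) (hk : k < n) :
    ∃ v : Fin n → F, v ≠ 0 ∧ ∀ i, B v (c i) = 0 := by
  have hk' : k < Module.finrank F ↥(⊤ : Submodule F (Fin n → F)) := by
    rw [finrank_top, finrank_fintype_fun_eq_card, Fintype.card_fin]
    exact hk
  obtain ⟨v, _, hv0, hv⟩ := Cfsg.Agent.Lib.Helper5.HermPair.exists_ne_zero_perp hF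
    (⊤ : Submodule F (Fin n → F)) k c hk'
  refine ⟨v, hv0, fun i => ?_⟩
  rw [hB_fin]
  exact hv i

/-- a nonzero isotropic vector orthogonal to three given vectors -/
theorem ex_iso_perp3 (hn : 5 ≤ n) (c₁ c₂ c₃ : Fin n → F) :
    ∃ p : Fin n → F, p ≠ 0 ∧ B p p = 0 ∧ B p c₁ = 0 ∧ B p c₂ = 0 ∧ B p c₃ = 0 := by
  obtain ⟨e, he0, he⟩ := ex_ne_zero_perp hF 3 ![c₁, c₂, c₃] (by omega)
  have he1 : B e c₁ = 0 := he 0
  have he2 : B e c₂ = 0 := he 1
  have he3 : B e c₃ = 0 := he 2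
  by_cases hee : B e e = 0
  · exact ⟨e, he0, hee, he1, he2, he3⟩
  obtain ⟨f, hf0, hf⟩ := ex_ne_zero_perp hF 4 ![c₁, c₂, c₃, e] (by omega)
  have hf1 : B f c₁ = 0 := hf 0
  have hf2 : B f c₂ = 0 := hf 1
  have hf3 : B f c₃ = 0 := hf 2
  have hfe : B f e = 0 := hf 3
  have hef : B e f = 0 := hB_eq_zero_symm hF hfe
  by_cases hff : B f f = 0
  · exact ⟨f, hf0, hff, hf1, hf2, hf3⟩
  -- `e, f` orthogonal and anisotropic
  have hd0 : -(B e e) / B f f ≠ 0 := div_ne_zero (neg_ne_zero.mpr hee) hff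
  have hdσ : σ (-(B e e) / B f f) = -(B e e) / B f f := by
    rw [map_div₀, map_neg, hB_self_fixed, hB_self_fixed]
  obtain ⟨l, hl⟩ := exNorm hF _ hd0 hdσ
  refine ⟨e + l • f, ?_, ?_, ?_, ?_, ?_⟩
  · intro h0
    have h1 : B (e + l • f) e = 0 := by rw [h0, map_zero, LinearMap.zero_apply]
    rw [map_add, LinearMap.add_apply, map_smul, LinearMap.smul_apply, hfe, smul_zero,
      add_zero] at h1
    exact hee h1
  · simp only [map_add, LinearMap.add_apply, map_smul, LinearMap.smul_apply,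
      LinearMap.map_smulₛₗ, smul_eq_mul, hef, hfe, mul_zero, add_zero, zero_add]
    have : σ l * (l * B f f) = (l * σ l) * B f f := by ring
    rw [this, hl]
    field_simp
    ring
  · rw [map_add, LinearMap.add_apply, map_smul, LinearMap.smul_apply, he1, hf1, smul_zero,
      add_zero]
  · rw [map_add, LinearMap.add_apply, map_smul, LinearMap.smul_apply, he2, hf2, smul_zero,
      add_zero]
  · rw [map_add, LinearMap.add_apply, map_smul, LinearMap.smul_apply, he3, hf3, smul_zero,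
      add_zero]

/-- a totally isotropic line through an isotropic vector, with a unit vector orthogonal to it -/
theorem ex_line (hn : 5 ≤ n) (u : Fin n → F) (hu0 : u ≠ 0) (hu : B u u = 0) :
    ∃ u₂ r : Fin n → F, B u₂ u₂ = 0 ∧ B u₂ u = 0 ∧ B u u₂ = 0 ∧ (∀ c : F, u₂ ≠ c • u) ∧
      B r r = 1 ∧ B r u = 0 ∧ B r u₂ = 0 := by
  obtain ⟨u', r, hu'u', huu', hrr, hru, hru'⟩ := ex_partner_perp hF (by omega) u hu0 hu
  obtain ⟨u₂, hu₂0, hu₂, h1, h2, h3⟩ := ex_iso_perp3 hF hn u u' r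
  refine ⟨u₂, r, hu₂, h1, hB_eq_zero_symm hF h1, ?_, hrr, hru, hB_eq_zero_symm hF h3⟩
  intro c hc
  rw [hc, map_smul, LinearMap.smul_apply, huu', smul_eq_mul, mul_one] at h2
  rw [h2, zero_smul] at hc
  exact hu₂0 hc

end geom

variable {a b : ℕ} {H : Subgroup (GL (Fin a × Fin b) F)}

local notation "B₁" => hB hF (Fin a)
local notation "B₂" => hB hF (Fin b)
local notation "BV" => hB hF (Fin a × Fin b)

/-! ### root elements -/

/-- the root elements `x_w(c) = 1 ⊗ t_w(c)` -/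
noncomputable def Xw (a : ℕ) (w : Fin b → F) (c : F) (hw : hB hF (Fin b) w w = 0)
    (hc : σ c = -c) : GL (Fin a × Fin b) F :=
  kr (1 : GL (Fin a) F) ((tvG hF w c hw hc : ↥(Cfsg.GU b F q)) : GL (Fin b) F)

theorem Xw_mulVec (w : Fin b → F) (c : F) (hw : B₂ w w = 0) (hc : σ c = -c)
    (v : Fin a × Fin b → F) :
    (Xw hF a w c hw hc : Matrix (Fin a × Fin b) (Fin a × Fin b) F) *ᵥ v =
      v + c • pt (Cw hF w v) w := by
  have := Acts_root (a := a) hF w c hw hc v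
  rw [LinearMap.smul_apply, Xs_apply, LinearMap.id_apply] at this
  exact this

theorem Xw_mem_krSub (w : Fin b → F) (c : F) (hw : B₂ w w = 0) (hc : σ c = -c) :
    Xw hF a w c hw hc ∈ krSub (Fin a) (Fin b) F := Cfsg.Agent.Lib.Helper8.Tns.kr_mem _ _

variable {hF}

theorem Ctx.Xw_mem (C : Ctx hF H) (w : Fin b → F) (c : F) (hw : B₂ w w = 0) (hc : σ c = -c) :
    Xw hF a w c hw hc ∈ H := C.kr1_mem _ (tvG_det hF w c hw hc)

theorem Ctx.Xw_ne_one (C : Ctx hF H) {w : Fin b → F} (hw0 : w ≠ 0) {c : F} (hc0 : c ≠ 0)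
    (hw : B₂ w w = 0) (hc : σ c = -c) : Xw hF a w c hw hc ≠ 1 := by
  intro h2
  obtain ⟨ws, _, hws⟩ := ex_partner hF w hw0 hw
  have hwsw : B₂ ws w = 1 := by rw [← hB_conj, hws, map_one]
  obtain ⟨x₀, y₀, _, _, hxy⟩ := ex_hyp hF C.ha
  have hx₀ : x₀ ≠ 0 := ne_zero_of_hB_left hF (by rw [hxy]; exact one_ne_zero)
  have h3 := Xw_mulVec (a := a) hF w c hw hc (pt x₀ ws)
  rw [h2, Units.val_one, Matrix.one_mulVec, Cw_pt, hwsw, one_smul] at h3
  have h4 : c • pt x₀ w = 0 := by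
    have := congrArg (fun t => t - pt x₀ ws) h3
    simp only [sub_self, add_sub_cancel_left] at this
    exact this.symm
  rcases smul_eq_zero.mp h4 with h5 | h5
  · exact hc0 h5
  · exact pt_ne_zero hx₀ hw0 h5

/-! ### fusion control -/

/-- conjugates of root elements by elements outside the Kronecker group are outside it -/
theorem Ctx.conj_not_mem (C : Ctx hF H) (hab : a < b) {h : GL (Fin a × Fin b) F} (hh : h ∈ H)
    (hnk : h ∉ krSub (Fin a) (Fin b) F) {w : Fin b → F} (hw0 : w ≠ 0) (hw : B₂ w w = 0)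
    {c : F} (hc0 : c ≠ 0) (hc : σ c = -c) :
    h⁻¹ * Xw hF a w c hw hc * h ∉ krSub (Fin a) (Fin b) F := by
  intro hmem
  obtain ⟨α, β, hy⟩ := mem_krSub.mp hmem
  have hyv : ∀ v : Fin a × Fin b → F,
      ((kr α β : GL (Fin a × Fin b) F) : Matrix (Fin a × Fin b) (Fin a × Fin b) F) *ᵥ v - v =
        ((h⁻¹ : GL (Fin a × Fin b) F) : Matrix (Fin a × Fin b) (Fin a × Fin b) F) *ᵥ
          (c • pt (Cw hF w ((h : Matrix (Fin a × Fin b) (Fin a × Fin b) F) *ᵥ v)) w) := by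
    intro v
    rw [← hy, Units.val_mul, Units.val_mul, ← Matrix.mulVec_mulVec, ← Matrix.mulVec_mulVec,
      Xw_mulVec, Matrix.mulVec_add, inv_mulVec_mulVec, add_sub_cancel_left]
  have hS : finrank F (Bw (h⁻¹ : GL (Fin a × Fin b) F) w) < Fintype.card (Fin b) := by
    unfold Bw
    rw [LinearEquiv.finrank_map_eq]
    have := finrank_Aw_le (I := Fin a) (F := F) w
    simp only [Fintype.card_fin] at this ⊢
    omega
  obtain ⟨c₀, hc₀⟩ := kr_scalar_of_small α β (Bw (h⁻¹ : GL (Fin a × Fin b) F) w) hS (fun v => by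
    rw [hyv, ← pt_smul_left]
    exact mem_Bw.mpr ⟨_, rfl⟩)
  have hyp : ∀ (u : Fin a → F) (p : Fin b → F),
      ((kr α β : GL (Fin a × Fin b) F) : Matrix (Fin a × Fin b) (Fin a × Fin b) F) *ᵥ pt u p =
        pt u (c₀ • ((β : Matrix (Fin b) (Fin b) F) *ᵥ p)) := by
    intro u p
    rw [kr_mulVec_pt, hc₀, Matrix.smul_mulVec, Matrix.one_mulVec, pt_smul_left, pt_smul_right]
  have hex1 : ∃ p₀ : Fin b → F, c₀ • ((β : Matrix (Fin b) (Fin b) F) *ᵥ p₀) - p₀ ≠ 0 := by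
    by_contra hcon
    push Not at hcon
    have h1 : kr α β = 1 := by
      apply gl_ext_pt
      intro u p
      rw [hyp, sub_eq_zero.mp (hcon p), Units.val_one, Matrix.one_mulVec]
    rw [h1] at hy
    have h2 : Xw hF a w c hw hc = 1 := by
      have : Xw hF a w c hw hc = h * (h⁻¹ * Xw hF a w c hw hc * h) * h⁻¹ := by group
      rw [this, hy]
      group
    exact C.Xw_ne_one hw0 hc0 hw hc h2
  obtain ⟨p₀, hp₀⟩ := hex1
  have hmap : ∀ u : Fin a → F, ∃ u' : Fin a → F,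
      (h : Matrix (Fin a × Fin b) (Fin a × Fin b) F) *ᵥ
        pt u (c₀ • ((β : Matrix (Fin b) (Fin b) F) *ᵥ p₀) - p₀) = pt u' w := by
    intro u
    refine ⟨c • Cw hF w ((h : Matrix (Fin a × Fin b) (Fin a × Fin b) F) *ᵥ pt u p₀), ?_⟩
    have h3 := hyv (pt u p₀)
    rw [hyp, ← pt_sub_right] at h3
    rw [h3, mulVec_inv_mulVec, pt_smul_left]
  have hw₀ : B₂ (c₀ • ((β : Matrix (Fin b) (Fin b) F) *ᵥ p₀) - p₀)
      (c₀ • ((β : Matrix (Fin b) (Fin b) F) *ᵥ p₀) - p₀) = 0 := by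
    obtain ⟨x₀, y₀, _, _, hxy⟩ := ex_hyp hF C.ha
    obtain ⟨u₁, hu₁⟩ := hmap x₀
    obtain ⟨u₂, hu₂⟩ := hmap y₀
    have := C.iso hh (pt x₀ (c₀ • ((β : Matrix (Fin b) (Fin b) F) *ᵥ p₀) - p₀))
      (pt y₀ (c₀ • ((β : Matrix (Fin b) (Fin b) F) *ᵥ p₀) - p₀))
    rw [hu₁, hu₂, hB_pt, hB_pt, hw, mul_zero, hxy, one_mul] at this
    exact this.symm
  exact hnk (C.stab_mem hh hw0 hp₀ hw hw₀ hmap)

/-! ### step 1 of the global argument -/

/-- **Step 1**: for a pair with maximal intersection, `h (U ⊗ u') ∩ (U ⊗ u)^⊥ ⊆ U ⊗ u` -/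
theorem Ctx.S1_of_max (C : Ctx hF H) (hab : a < b) {h : GL (Fin a × Fin b) F} (hh : h ∈ H)
    (hnk : h ∉ krSub (Fin a) (Fin b) F) {u u' : Fin b → F} (hu0 : u ≠ 0) (hu : B₂ u u = 0)
    (hu'0 : u' ≠ 0) (hu' : B₂ u' u' = 0)
    (hmax : ∀ (h₁ : GL (Fin a × Fin b) F) (u₁ u₁' : Fin b → F), h₁ ∈ H →
      h₁ ∉ krSub (Fin a) (Fin b) F → u₁ ≠ 0 → B₂ u₁ u₁ = 0 → u₁' ≠ 0 → B₂ u₁' u₁' = 0 →
      finrank F ↥(Aw (I := Fin a) u₁ ⊓ Bw h₁ u₁') ≤ finrank F ↥(Aw (I := Fin a) u ⊓ Bw h u')) :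
    ∀ v ∈ Bw h u', Cw hF u v = 0 → v ∈ Aw (I := Fin a) u := by
  obtain ⟨c, hc0, hc⟩ := exT0 hF
  have hxH := C.Xw_mem u c hu hc
  obtain ⟨y, hydef⟩ : ∃ y : GL (Fin a × Fin b) F, y = h⁻¹ * Xw hF a u c hu hc * h := ⟨_, rfl⟩
  have hyH : y ∈ H := by
    rw [hydef]
    exact H.mul_mem (H.mul_mem (H.inv_mem hh) hxH) hh
  have hynk : y ∉ krSub (Fin a) (Fin b) F := by
    rw [hydef]
    exact C.conj_not_mem hab hh hnk hu0 hu hc0 hc
  have hle := hmax y u' u' hyH hynk hu'0 hu' hu'0 hu'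
  obtain ⟨E, hEdef⟩ : ∃ E : Submodule F (Fin a × Fin b → F),
      E = Bw h u' ⊓ LinearMap.ker (Cw (I := Fin a) hF u) := ⟨_, rfl⟩
  have hE1 : Aw (I := Fin a) u ⊓ Bw h u' ≤ E := by
    intro v hv
    rw [hEdef]
    obtain ⟨x, rfl⟩ := mem_Aw.mp hv.1
    refine ⟨hv.2, LinearMap.mem_ker.mpr ?_⟩
    rw [Cw_pt, hu, zero_smul]
  have hE2 : E ≤ (Aw (I := Fin a) u' ⊓ Bw y u').map
      (gL h : (Fin a × Fin b → F) →ₗ[F] (Fin a × Fin b → F)) := by
    intro v hv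
    rw [hEdef] at hv
    obtain ⟨x₁, hx₁⟩ := mem_Bw.mp hv.1
    have hv0 : Cw hF u v = 0 := LinearMap.mem_ker.mp hv.2
    rw [Submodule.mem_map]
    refine ⟨pt x₁ u', ⟨mem_Aw.mpr ⟨x₁, rfl⟩, mem_Bw.mpr ⟨x₁, ?_⟩⟩, ?_⟩
    · rw [hydef, Units.val_mul, Units.val_mul, ← Matrix.mulVec_mulVec, ← Matrix.mulVec_mulVec,
        hx₁, Xw_mulVec, hv0, pt_zero_left, smul_zero, add_zero, ← hx₁, inv_mulVec_mulVec]
    · rw [LinearEquiv.coe_coe, gL_apply, hx₁]
  have hfin : finrank F ↥E ≤ finrank F ↥(Aw (I := Fin a) u ⊓ Bw h u') := by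
    calc finrank F ↥E ≤ finrank F ↥((Aw (I := Fin a) u' ⊓ Bw y u').map
          (gL h : (Fin a × Fin b → F) →ₗ[F] (Fin a × Fin b → F))) := Submodule.finrank_mono hE2
      _ = finrank F ↥(Aw (I := Fin a) u' ⊓ Bw y u') := LinearEquiv.finrank_map_eq _ _
      _ ≤ _ := hle
  have hEeq : Aw (I := Fin a) u ⊓ Bw h u' = E := Submodule.eq_of_le_of_finrank_le hE1 hfin
  intro v hv hv0
  have : v ∈ E := by
    rw [hEdef]
    exact ⟨hv, LinearMap.mem_ker.mpr hv0⟩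
  rw [← hEeq] at this
  exact this.1

end Cfsg.Agent.Lib.Helper1.TsU
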