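import Mathlib
import Cfsg.Agent.Lib.Helper1.FrobeniusTheorem

/-!
# A non-cyclic elementary abelian `2`-subgroup controlling its own fusion is the whole group
-/

set_option autoImplicit false
set_option maxHeartbeats 4000000
set_option linter.unusedSimpArgs false
set_option linter.unusedVariables false
set_option linter.unusedSectionVars false
set_option linter.style.longLine false

namespace Cfsg.Agent.Lib.Helper1.TsU

open scoped Pointwise

/-- a subgroup `P` of exponent two with two distinct involutions, such that `g x g⁻¹ ∈ P`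
for some `1 ≠ x ∈ P` forces `g ∈ P`, is the whole group -/
theorem NU_two {G : Type*} [Group G] [Finite G] (P : Subgroup G)
    (hP2 : ∀ x ∈ P, x * x = 1) (x₁ x₂ : G) (hx₁ : x₁ ∈ P) (hx₂ : x₂ ∈ P) (h1 : x₁ ≠ 1)
    (h2 : x₂ ≠ 1) (h12 : x₁ ≠ x₂)
    (hb : ∀ g : G, ∀ x ∈ P, x ≠ 1 → g * x * g⁻¹ ∈ P → g ∈ P) : P = ⊤ := by
  by_contra hne
  have hPbot : P ≠ ⊥ := by
    intro h0
    rw [h0, Subgroup.mem_bot] at hx₁
    exact h1 hx₁
  have hFC : Cfsg.IsFrobeniusComplement P := by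
    refine ⟨hPbot, hne, fun g hg => ?_⟩
    rw [eq_bot_iff]
    intro x hx
    rw [Subgroup.mem_bot]
    by_contra hx1
    obtain ⟨hxP, hxg⟩ := Subgroup.mem_inf.mp hx
    have hx' : g⁻¹ * x * g ∈ P := Cfsg.Agent.Lib.Helper1.mem_conj_smul_iff'.mp hxg
    have hx'1 : g⁻¹ * x * g ≠ 1 := by
      intro h0
      apply hx1
      have : x = g * (g⁻¹ * x * g) * g⁻¹ := by group
      rw [this, h0]
      group
    apply hg
    apply hb g (g⁻¹ * x * g) hx' hx'1
    have : g * (g⁻¹ * x * g) * g⁻¹ = x := by group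
    rw [this]
    exact hxP
  obtain ⟨N, hNset, hNn, hNc⟩ := frobenius_theorem P hFC
  have hdisj : ∀ n : G, n ∈ N → n ∈ P → n = 1 := by
    intro n hnN hnP
    have := hNc.disjoint
    rw [Subgroup.disjoint_def] at this
    exact this hnN hnP
  -- elements of `P` act fixed point freely on `N`
  have hfpf : ∀ x ∈ P, x ≠ 1 → ∀ n ∈ N, x * n * x⁻¹ = n → n = 1 := by
    intro x hx hx1 n hn hxn
    apply hdisj n hn
    apply hb n x hx hx1
    have : n * x * n⁻¹ = x := by
      have e : x * n = n * x := by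
        have := congrArg (fun t => t * x) hxn
        simpa using this
      calc n * x * n⁻¹ = x * n * n⁻¹ := by rw [e]
        _ = x := by group
    rw [this]
    exact hx
  -- involutions of `P` invert `N`
  have hinv : ∀ x ∈ P, x ≠ 1 → ∀ n ∈ N, x * n * x⁻¹ = n⁻¹ := by
    intro x hx hx1
    have hxx : x⁻¹ = x := by
      have := hP2 x hx
      exact inv_eq_of_mul_eq_one_left this
    obtain ⟨φ, hφ⟩ : ∃ φ : N → N, ∀ n : N, (φ n : G) = (n : G)⁻¹ * (x * (n : G) * x⁻¹) :=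
      ⟨fun n => ⟨(n : G)⁻¹ * (x * (n : G) * x⁻¹),
        N.mul_mem (N.inv_mem n.2) (hNn.conj_mem _ n.2 x)⟩, fun n => rfl⟩
    have hφinj : Function.Injective φ := by
      intro n m hnm
      have h3 : (n : G)⁻¹ * (x * (n : G) * x⁻¹) = (m : G)⁻¹ * (x * (m : G) * x⁻¹) := by
        rw [← hφ, ← hφ, hnm]
      have h4 : x * ((m : G) * (n : G)⁻¹) * x⁻¹ = (m : G) * (n : G)⁻¹ := by
        have e1 : x * (n : G) * x⁻¹ = (n : G) * ((m : G)⁻¹ * (x * (m : G) * x⁻¹)) := by
          rw [← h3]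
          group
        have e2 : x * ((m : G) * (n : G)⁻¹) * x⁻¹ =
            (x * (m : G) * x⁻¹) * (x * (n : G) * x⁻¹)⁻¹ := by group
        rw [e2, e1]
        group
      have h5 := hfpf x hx hx1 _ (N.mul_mem m.2 (N.inv_mem n.2)) h4
      apply Subtype.ext
      have : (m : G) = (n : G) := by
        have := congrArg (fun t => t * (n : G)) h5
        simpa using this
      exact this.symm
    have hφsurj : Function.Surjective φ := Finite.injective_iff_surjective.mp hφinj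
    intro n hn
    obtain ⟨m, hm⟩ := hφsurj ⟨n, hn⟩
    have hnm : n = (m : G)⁻¹ * (x * (m : G) * x⁻¹) := by
      rw [← hφ, hm]
    rw [hnm, hxx]
    have e1 : x * ((m : G)⁻¹ * (x * (m : G) * x)) * x =
        x * (m : G)⁻¹ * x * (m : G) * (x * x) := by group
    have e2 : ((m : G)⁻¹ * (x * (m : G) * x))⁻¹ = x⁻¹ * (m : G)⁻¹ * x⁻¹ * (m : G) := by group
    rw [e1, e2, hP2 x hx, hxx, mul_one]
  -- the product of two involutions centralises `N`
  have hx12P : x₁ * x₂ ∈ P := P.mul_mem hx₁ hx₂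
  have hx12 : x₁ * x₂ ≠ 1 := by
    intro h0
    apply h12
    have e : x₂⁻¹ = x₂ := inv_eq_of_mul_eq_one_left (hP2 x₂ hx₂)
    rw [← e]
    exact eq_inv_of_mul_eq_one_left h0
  have hNbot : N = ⊥ := by
    rw [eq_bot_iff]
    intro n hn
    rw [Subgroup.mem_bot]
    apply hfpf (x₁ * x₂) hx12P hx12 n hn
    have e1 : x₁ * x₂ * n * (x₁ * x₂)⁻¹ = x₁ * (x₂ * n * x₂⁻¹) * x₁⁻¹ := by group
    rw [e1, hinv x₂ hx₂ h2 n hn]
    have e2 : x₁ * n⁻¹ * x₁⁻¹ = (x₁ * n * x₁⁻¹)⁻¹ := by group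
    rw [e2, hinv x₁ hx₁ h1 n hn, inv_inv]
  rw [hNbot] at hNc
  exact hne (Subgroup.isComplement'_bot_left.mp hNc)

end Cfsg.Agent.Lib.Helper1.TsU
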