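import Mathlib
import Cfsg.Agent.Lib.Helper1.TsU11
import Cfsg.Agent.Lib.Helper1.TsUNU2
import Cfsg.Agent.Lib.Helper1.TsB12

/-!
# Unitary tensor products: totally isotropic lines, the groups `P_L`, rank analysis
-/

set_option autoImplicit false
set_option maxHeartbeats 4000000
set_option maxRecDepth 100000
set_option linter.unusedSimpArgs false
set_option linter.unusedVariables false
set_option linter.unusedSectionVars false
set_option linter.style.longLine false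
set_option linter.deprecated false

namespace Cfsg.Agent.Lib.Helper1.TsU

open Module Matrix
open Cfsg
open Cfsg.Agent.Lib.Helper5.Herm Cfsg.Agent.Lib.Helper5.HermBridge
  Cfsg.Agent.Lib.Helper5.HermTv Cfsg.Agent.Lib.Helper5.HermEich
open Cfsg.Agent.Lib.Helper1.TsA
open Cfsg.Agent.Lib.Helper8.Tns

variable {F : Type*} [Field F] [Fintype F] {q : ℕ} (hF : Fintype.card F = q ^ 2)

local notation "σ" => Cfsg.Agent.Lib.Helper5.HermBridge.sigma hF

variable {a b : ℕ} {H : Subgroup (GL (Fin a × Fin b) F)}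

local notation "B₁" => hB hF (Fin a)
local notation "B₂" => hB hF (Fin b)
local notation "BV" => hB hF (Fin a × Fin b)

/-! ### totally isotropic lines -/

/-- `⟨w₁, w₂⟩` is a totally isotropic line -/
structure TIL (w₁ w₂ : Fin b → F) : Prop where
  h0 : w₁ ≠ 0
  h11 : B₂ w₁ w₁ = 0
  h22 : B₂ w₂ w₂ = 0
  h12 : B₂ w₁ w₂ = 0
  h21 : B₂ w₂ w₁ = 0
  hli : ∀ c : F, w₂ ≠ c • w₁

variable {hF}

theorem TIL.li {w₁ w₂ : Fin b → F} (T : TIL hF w₁ w₂) : LinearIndependent F ![w₁, w₂] :=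
  pair_indep_of_not_smul T.h0 T.hli

theorem TIL.h0' {w₁ w₂ : Fin b → F} (T : TIL hF w₁ w₂) : w₂ ≠ 0 := by
  have := T.hli 0
  rwa [zero_smul] at this

theorem TIL.ex_dual {w₁ w₂ : Fin b → F} (T : TIL hF w₁ w₂) :
    ∃ q₁ q₂ : Fin b → F, B₂ q₁ w₁ = 1 ∧ B₂ q₁ w₂ = 0 ∧ B₂ q₂ w₁ = 0 ∧ B₂ q₂ w₂ = 1 := by
  obtain ⟨q₁, h1, h2⟩ := ex_prescribed2 hF w₁ w₂ T.li 1 0
  obtain ⟨q₂, h3, h4⟩ := ex_prescribed2 hF w₁ w₂ T.li 0 1
  exact ⟨q₁, q₂, h1, h2, h3, h4⟩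

/-- `(L^⊥)^⊥ = L` -/
theorem TIL.double_perp {w₁ w₂ : Fin b → F} (T : TIL hF w₁ w₂) (z : Fin b → F)
    (h : ∀ p, B₂ p w₁ = 0 → B₂ p w₂ = 0 → B₂ p z = 0) :
    ∃ c₁ c₂ : F, z = c₁ • w₁ + c₂ • w₂ := by
  obtain ⟨q₁, q₂, h1, h2, h3, h4⟩ := T.ex_dual
  refine ⟨σ (B₂ q₁ z), σ (B₂ q₂ z), ?_⟩
  apply sub_eq_zero.mp
  apply hB_nondeg' hF
  intro p
  have hp := h (p - B₂ p w₁ • q₁ - B₂ p w₂ • q₂) (by
    simp only [map_sub, map_smul, LinearMap.sub_apply, LinearMap.smul_apply, smul_eq_mul, h1, h3]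
    ring) (by
    simp only [map_sub, map_smul, LinearMap.sub_apply, LinearMap.smul_apply, smul_eq_mul, h2, h4]
    ring)
  simp only [map_sub, map_smul, LinearMap.sub_apply, LinearMap.smul_apply, smul_eq_mul] at hp
  simp only [map_sub, map_add, LinearMap.map_smulₛₗ, smul_eq_mul, sig_sig]
  linear_combination hp

variable (hF)

include hF in
/-- independent vectors have independent pure tensors -/
theorem pt_pair_zero {z₁ z₂ : Fin b → F} (hli : LinearIndependent F ![z₁, z₂])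
    (x₁ x₂ : Fin a → F) (h : pt x₁ z₁ + pt x₂ z₂ = 0) : x₁ = 0 ∧ x₂ = 0 := by
  obtain ⟨p, hp1, hp2⟩ := ex_prescribed2 hF z₁ z₂ hli 1 0
  obtain ⟨p', hp3, hp4⟩ := ex_prescribed2 hF z₁ z₂ hli 0 1
  have e1 : B₂ z₁ p = 1 := by rw [← hB_conj, hp1, map_one]
  have e2 : B₂ z₂ p = 0 := hB_eq_zero_symm hF hp2
  have e3 : B₂ z₁ p' = 0 := hB_eq_zero_symm hF hp3
  have e4 : B₂ z₂ p' = 1 := by rw [← hB_conj, hp4, map_one]
  constructor
  · have := congrArg (Cw hF p) h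
    rw [map_add, Cw_pt, Cw_pt, e1, e2, one_smul, zero_smul, add_zero, map_zero] at this
    exact this
  · have := congrArg (Cw hF p') h
    rw [map_add, Cw_pt, Cw_pt, e3, e4, one_smul, zero_smul, zero_add, map_zero] at this
    exact this

theorem pt_right_inj {x : Fin a → F} (hx : x ≠ 0) {y y' : Fin b → F} (h : pt x y = pt x y') :
    y = y' := by
  by_contra hne
  have h1 : pt x (y - y') = 0 := by rw [pt_sub_right, h, sub_self]
  exact pt_ne_zero hx (sub_ne_zero.mpr hne) h1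

variable {hF}

/-- independence of three pure tensors -/
theorem TIL.pt_triple_zero {w₁ w₂ : Fin b → F} (T : TIL hF w₁ w₂) {y : Fin b → F}
    (hy : ∀ c₁ c₂ : F, y ≠ c₁ • w₁ + c₂ • w₂) (x₁ x₂ x₃ : Fin a → F)
    (h : pt x₁ w₁ + pt x₂ w₂ + pt x₃ y = 0) : x₁ = 0 ∧ x₂ = 0 ∧ x₃ = 0 := by
  obtain ⟨p, hp1, hp2, hp3⟩ : ∃ p, B₂ p w₁ = 0 ∧ B₂ p w₂ = 0 ∧ B₂ p y ≠ 0 := by
    by_contra hcon
    push Not at hcon
    obtain ⟨c₁, c₂, hc⟩ := T.double_perp y hcon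
    exact hy c₁ c₂ hc
  have e1 : B₂ w₁ p = 0 := hB_eq_zero_symm hF hp1
  have e2 : B₂ w₂ p = 0 := hB_eq_zero_symm hF hp2
  have e3 : B₂ y p ≠ 0 := by
    intro h0
    exact hp3 (hB_eq_zero_symm hF h0)
  have hx₃ : x₃ = 0 := by
    have := congrArg (Cw hF p) h
    rw [map_add, map_add, Cw_pt, Cw_pt, Cw_pt, e1, e2, zero_smul, zero_smul, zero_add, zero_add,
      map_zero] at this
    rcases smul_eq_zero.mp this with h0 | h0
    · exact absurd h0 e3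
    · exact h0
  rw [hx₃, pt_zero_left, add_zero] at h
  obtain ⟨h1, h2⟩ := pt_pair_zero hF T.li x₁ x₂ h
  exact ⟨h1, h2, hx₃⟩

/-- vectors of `U ⊗ L^⊥` are sums of pure tensors -/
theorem decomp_of_Cw_zero2 {w₁ w₂ : Fin b → F} (v : Fin a × Fin b → F) (h1 : Cw hF w₁ v = 0)
    (h2 : Cw hF w₂ v = 0) :
    ∃ f : Fin a → Fin b → F, (∀ i, B₂ (f i) w₁ = 0) ∧ (∀ i, B₂ (f i) w₂ = 0) ∧
      v = ∑ i, pt (Pi.single i (1 : F)) (f i) := by
  refine ⟨fun i j => v (i, j), ?_, ?_, ?_⟩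
  · intro i
    have := congrFun h1 i
    rw [Cw_apply] at this
    rw [hB_apply]
    exact this
  · intro i
    have := congrFun h2 i
    rw [Cw_apply] at this
    rw [hB_apply]
    exact this
  · funext ⟨i, j⟩
    rw [Finset.sum_apply, Finset.sum_eq_single i]
    · rw [pt_apply, Pi.single_eq_same, one_mul]
    · intro i' _ hi'
      rw [pt_apply, Pi.single_eq_of_ne (Ne.symm hi'), zero_mul]
    · intro h
      exact absurd (Finset.mem_univ _) h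

/-! ### elements of the form `1 ⊗ β` -/

/-- an element of `H` fixing `U ⊗ w` pointwise (`w` isotropic) has the form `1 ⊗ β` -/
theorem Ctx.pure_of_fix (C : Ctx hF H) {g : GL (Fin a × Fin b) F} (hg : g ∈ H)
    {w : Fin b → F} (hw0 : w ≠ 0) (hw : B₂ w w = 0)
    (hfix : ∀ x, (g : Matrix (Fin a × Fin b) (Fin a × Fin b) F) *ᵥ pt x w = pt x w) :
    ∃ βt : (Fin b → F) →ₗ[F] (Fin b → F), ∀ x p,
      (g : Matrix (Fin a × Fin b) (Fin a × Fin b) F) *ᵥ pt x p = pt x (βt p) := by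
  have hK := C.stab_mem_aux hg hw0 hw (fun x => ⟨x, hfix x⟩)
  obtain ⟨α, β, hαβ⟩ := mem_krSub.mp hK
  obtain ⟨ws, _, hws⟩ := ex_partner hF w hw0 hw
  obtain ⟨t, htdef⟩ : ∃ t : F, t = B₂ ((β : Matrix (Fin b) (Fin b) F) *ᵥ w) ws := ⟨_, rfl⟩
  have hαt : ∀ x, t • ((α : Matrix (Fin a) (Fin a) F) *ᵥ x) = x := by
    intro x
    have := congrArg (Cw hF ws) (hfix x)
    rw [hαβ, kr_mulVec_pt, Cw_pt, Cw_pt, hws, one_smul, ← htdef] at this
    exact this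
  obtain ⟨x₀, y₀, _, _, hxy⟩ := ex_hyp hF C.ha
  have hx₀ : x₀ ≠ 0 := ne_zero_of_hB_left hF (by rw [hxy]; exact one_ne_zero)
  have ht : t ≠ 0 := by
    intro h0
    have := hαt x₀
    rw [h0, zero_smul] at this
    exact hx₀ this.symm
  have hα : ∀ x, (α : Matrix (Fin a) (Fin a) F) *ᵥ x = t⁻¹ • x := by
    intro x
    rw [← hαt x, smul_smul, inv_mul_cancel₀ ht, one_smul, hαt x]
  refine ⟨t⁻¹ • Matrix.mulVecLin (β : Matrix (Fin b) (Fin b) F), fun x p => ?_⟩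
  rw [hαβ, kr_mulVec_pt, hα, pt_smul_left, LinearMap.smul_apply, Matrix.mulVecLin_apply,
    pt_smul_right]

/-- **rank analysis**: if a conjugate `k x_w(c) k⁻¹` has the form `1 ⊗ β`, then `k ∈ krSub` -/
theorem Ctx.conj_root_pure (C : Ctx hF H) {k : GL (Fin a × Fin b) F} (hk : k ∈ H)
    {w : Fin b → F} (hw0 : w ≠ 0) (hw : B₂ w w = 0) {c : F} (hc0 : c ≠ 0) (hc : σ c = -c)
    (βt : (Fin b → F) →ₗ[F] (Fin b → F))
    (hg : ∀ x p, ((k * Xw hF a w c hw hc * k⁻¹ : GL (Fin a × Fin b) F) :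
      Matrix (Fin a × Fin b) (Fin a × Fin b) F) *ᵥ pt x p = pt x (βt p)) :
    k ∈ krSub (Fin a) (Fin b) F := by
  obtain ⟨g, hgdef⟩ : ∃ g : GL (Fin a × Fin b) F, g = k * Xw hF a w c hw hc * k⁻¹ := ⟨_, rfl⟩
  rw [← hgdef] at hg
  have hgH : g ∈ H := by
    rw [hgdef]
    exact H.mul_mem (H.mul_mem hk (C.Xw_mem w c hw hc)) (H.inv_mem hk)
  have hgv : ∀ v, (g : Matrix (Fin a × Fin b) (Fin a × Fin b) F) *ᵥ v - v =
      c • ((k : Matrix (Fin a × Fin b) (Fin a × Fin b) F) *ᵥ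
        pt (Cw hF w (((k⁻¹ : GL (Fin a × Fin b) F) :
          Matrix (Fin a × Fin b) (Fin a × Fin b) F) *ᵥ v)) w) := by
    intro v
    rw [hgdef, Units.val_mul, Units.val_mul, ← Matrix.mulVec_mulVec, ← Matrix.mulVec_mulVec,
      Xw_mulVec, Matrix.mulVec_add, mulVec_inv_mulVec, add_sub_cancel_left, Matrix.mulVec_smul]
  obtain ⟨ws, _, hws⟩ := ex_partner hF w hw0 hw
  have hwsw : B₂ ws w = 1 := by rw [← hB_conj, hws, map_one]
  obtain ⟨x₀, y₀, _, _, hxy⟩ := ex_hyp hF C.ha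
  have hx₀ : x₀ ≠ 0 := ne_zero_of_hB_left hF (by rw [hxy]; exact one_ne_zero)
  have hsurj : ∀ x, c • ((k : Matrix (Fin a × Fin b) (Fin a × Fin b) F) *ᵥ pt x w) =
      (g : Matrix (Fin a × Fin b) (Fin a × Fin b) F) *ᵥ
        ((k : Matrix (Fin a × Fin b) (Fin a × Fin b) F) *ᵥ pt x ws) -
        (k : Matrix (Fin a × Fin b) (Fin a × Fin b) F) *ᵥ pt x ws := by
    intro x
    rw [hgv, inv_mulVec_mulVec, Cw_pt, hwsw, one_smul]
  have hex : ∃ p₁, βt p₁ - p₁ ≠ 0 := by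
    by_contra hcon
    push Not at hcon
    have hg1 : ∀ v, (g : Matrix (Fin a × Fin b) (Fin a × Fin b) F) *ᵥ v = v := by
      intro v
      refine pt_induction
        (P := fun v => (g : Matrix (Fin a × Fin b) (Fin a × Fin b) F) *ᵥ v = v) ?_ ?_ ?_ v
      · rw [Matrix.mulVec_zero]
      · intro x y hx hy
        rw [Matrix.mulVec_add, hx, hy]
      · intro x p
        rw [hg, sub_eq_zero.mp (hcon p)]
    have h1 := hsurj x₀
    rw [hg1, sub_self] at h1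
    rcases smul_eq_zero.mp h1 with h2 | h2
    · exact hc0 h2
    · have h3 : pt x₀ w = 0 := by
        have := congrArg (fun t => ((k⁻¹ : GL (Fin a × Fin b) F) :
          Matrix (Fin a × Fin b) (Fin a × Fin b) F) *ᵥ t) h2
        simp only [inv_mulVec_mulVec, Matrix.mulVec_zero] at this
        exact this
      exact pt_ne_zero hx₀ hw0 h3
  obtain ⟨p₁, hp₁⟩ := hex
  obtain ⟨z₁, hz₁def⟩ : ∃ z₁ : Fin b → F, z₁ = βt p₁ - p₁ := ⟨_, rfl⟩
  have hz₁0 : z₁ ≠ 0 := by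
    rw [hz₁def]
    exact hp₁
  -- all `βt p - p` are multiples of `z₁`
  have hall : ∀ p₂, ∃ c₂ : F, βt p₂ - p₂ = c₂ • z₁ := by
    intro p₂
    by_contra hcon
    push Not at hcon
    have hli : LinearIndependent F ![z₁, βt p₂ - p₂] := pair_indep_of_not_smul hz₁0 hcon
    obtain ⟨Ψ, hΨ⟩ : ∃ Ψ : (Fin a → F) × (Fin a → F) →ₗ[F] (Fin a → F), ∀ x₁ x₂,
        Ψ (x₁, x₂) = Cw hF w (((k⁻¹ : GL (Fin a × Fin b) F) :
          Matrix (Fin a × Fin b) (Fin a × Fin b) F) *ᵥ (pt x₁ p₁ + pt x₂ p₂)) :=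
      ⟨(Cw hF w ∘ₗ Matrix.mulVecLin ((k⁻¹ : GL (Fin a × Fin b) F) :
          Matrix (Fin a × Fin b) (Fin a × Fin b) F)) ∘ₗ
          ((ptL (I := Fin a) p₁).coprod (ptL (I := Fin a) p₂)), fun x₁ x₂ => rfl⟩
    have hinj : Function.Injective Ψ := by
      rw [← LinearMap.ker_eq_bot, LinearMap.ker_eq_bot']
      rintro ⟨x₁, x₂⟩ hm
      rw [hΨ] at hm
      have h1 := hgv (pt x₁ p₁ + pt x₂ p₂)
      rw [hm, pt_zero_left, Matrix.mulVec_zero, smul_zero, Matrix.mulVec_add, hg, hg] at h1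
      have h2 : pt x₁ z₁ + pt x₂ (βt p₂ - p₂) = 0 := by
        rw [hz₁def, pt_sub_right, pt_sub_right, ← h1]
        abel
      obtain ⟨e1, e2⟩ := pt_pair_zero hF hli x₁ x₂ h2
      rw [e1, e2]
      rfl
    have h3 := LinearMap.finrank_le_finrank_of_injective hinj
    rw [Module.finrank_prod, finrank_fintype_fun_eq_card, Fintype.card_fin] at h3
    have := C.ha
    omega
  -- `βt z₁ = z₁`
  have hg2 : ∀ v, (g : Matrix (Fin a × Fin b) (Fin a × Fin b) F) *ᵥ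
      ((g : Matrix (Fin a × Fin b) (Fin a × Fin b) F) *ᵥ v - v) =
      (g : Matrix (Fin a × Fin b) (Fin a × Fin b) F) *ᵥ v - v := by
    intro v
    have e : ∀ y : Fin a → F, Cw hF w (((k⁻¹ : GL (Fin a × Fin b) F) :
        Matrix (Fin a × Fin b) (Fin a × Fin b) F) *ᵥ
        (c • ((k : Matrix (Fin a × Fin b) (Fin a × Fin b) F) *ᵥ pt y w))) = 0 := by
      intro y
      rw [Matrix.mulVec_smul, inv_mulVec_mulVec, map_smul, Cw_pt, hw, zero_smul, smul_zero]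
    rw [hgv v]
    have h1 := hgv (c • ((k : Matrix (Fin a × Fin b) (Fin a × Fin b) F) *ᵥ
      pt (Cw hF w (((k⁻¹ : GL (Fin a × Fin b) F) :
          Matrix (Fin a × Fin b) (Fin a × Fin b) F) *ᵥ v)) w))
    rw [e, pt_zero_left, Matrix.mulVec_zero, smul_zero] at h1
    exact sub_eq_zero.mp h1
  have hβz : βt z₁ = z₁ := by
    have h1 := hg2 (pt x₀ p₁)
    rw [hg, ← pt_sub_right, ← hz₁def, hg] at h1
    exact pt_right_inj hx₀ h1
  have hβiso : ∀ p p', B₂ (βt p) (βt p') = B₂ p p' := by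
    intro p p'
    have := C.iso hgH (pt x₀ p) (pt y₀ p')
    rw [hg, hg, hB_pt, hB_pt, hxy, one_mul, one_mul] at this
    exact this
  have hz₁iso : B₂ z₁ z₁ = 0 := by
    have h1 := hβiso p₁ z₁
    rw [hβz] at h1
    have e : βt p₁ = p₁ + z₁ := by
      rw [hz₁def]
      abel
    rw [e, map_add, LinearMap.add_apply] at h1
    linear_combination h1
  have hAz : ∀ v, ∃ x'' : Fin a → F,
      (g : Matrix (Fin a × Fin b) (Fin a × Fin b) F) *ᵥ v - v = pt x'' z₁ := by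
    intro v
    refine pt_induction (P := fun v => ∃ x'' : Fin a → F,
      (g : Matrix (Fin a × Fin b) (Fin a × Fin b) F) *ᵥ v - v = pt x'' z₁) ?_ ?_ ?_ v
    · exact ⟨0, by rw [Matrix.mulVec_zero, sub_zero, pt_zero_left]⟩
    · rintro v v' ⟨x₁, h1⟩ ⟨x₂, h2⟩
      refine ⟨x₁ + x₂, ?_⟩
      rw [Matrix.mulVec_add, pt_add_left, ← h1, ← h2]
      abel
    · intro x' p
      obtain ⟨c₂, hc₂⟩ := hall p
      exact ⟨c₂ • x', by rw [hg, ← pt_sub_right, hc₂, pt_smul_right, pt_smul_left]⟩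
  have hmap : ∀ x, ∃ x' : Fin a → F,
      (k : Matrix (Fin a × Fin b) (Fin a × Fin b) F) *ᵥ pt x w = pt x' z₁ := by
    intro x
    obtain ⟨x'', hx''⟩ := hAz ((k : Matrix (Fin a × Fin b) (Fin a × Fin b) F) *ᵥ pt x ws)
    refine ⟨c⁻¹ • x'', ?_⟩
    have h1 := hsurj x
    rw [hx''] at h1
    rw [pt_smul_left, ← h1, smul_smul, inv_mul_cancel₀ hc0, one_smul]
  exact C.stab_mem hk hz₁0 hw0 hz₁iso hw hmap

end Cfsg.Agent.Lib.Helper1.TsU
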