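import Mathlib
import Cfsg.Agent.Lib.Helper1.TsU12

/-!
# Unitary tensor products: the groups `P_L` and `⟨P_L, h x_{u'}(c) h⁻¹⟩`
-/

set_option autoImplicit false
set_option maxHeartbeats 4000000
set_option maxRecDepth 100000
set_option linter.unusedSimpArgs false
set_option linter.unusedVariables false
set_option linter.unusedSectionVars false
set_option linter.style.longLine false
set_option linter.deprecated false

namespace Cfsg.Agent.Lib.Helper1.TsU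

open Module Matrix
open Cfsg
open Cfsg.Agent.Lib.Helper5.Herm Cfsg.Agent.Lib.Helper5.HermBridge
  Cfsg.Agent.Lib.Helper5.HermTv Cfsg.Agent.Lib.Helper5.HermEich
open Cfsg.Agent.Lib.Helper1.TsA
open Cfsg.Agent.Lib.Helper8.Tns

variable {F : Type*} [Field F] [Fintype F] {q : ℕ} (hF : Fintype.card F = q ^ 2)

local notation "σ" => Cfsg.Agent.Lib.Helper5.HermBridge.sigma hF

variable {a b : ℕ} (H : Subgroup (GL (Fin a × Fin b) F))

local notation "B₁" => hB hF (Fin a)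
local notation "B₂" => hB hF (Fin b)
local notation "BV" => hB hF (Fin a × Fin b)

/-- the subgroup of `H` fixing `(U ⊗ L)^⊥` pointwise -/
def PLine (w₁ w₂ : Fin b → F) : Subgroup (GL (Fin a × Fin b) F) where
  carrier := {g | g ∈ H ∧ ∀ v, Cw hF w₁ v = 0 → Cw hF w₂ v = 0 →
    (g : Matrix (Fin a × Fin b) (Fin a × Fin b) F) *ᵥ v = v}
  mul_mem' := by
    rintro g g' ⟨hg, hfix⟩ ⟨hg', hfix'⟩
    refine ⟨H.mul_mem hg hg', fun v h1 h2 => ?_⟩
    rw [Units.val_mul, ← Matrix.mulVec_mulVec, hfix' v h1 h2, hfix v h1 h2]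
  one_mem' := ⟨H.one_mem, fun v _ _ => by rw [Units.val_one, Matrix.one_mulVec]⟩
  inv_mem' := by
    rintro g ⟨hg, hfix⟩
    refine ⟨H.inv_mem hg, fun v h1 h2 => ?_⟩
    have := hfix v h1 h2
    nth_rewrite 1 [← this]
    exact inv_mulVec_mulVec g v

variable {hF H}

theorem mem_PLine {w₁ w₂ : Fin b → F} {g : GL (Fin a × Fin b) F} :
    g ∈ PLine hF H w₁ w₂ ↔ g ∈ H ∧ ∀ v, Cw hF w₁ v = 0 → Cw hF w₂ v = 0 →
      (g : Matrix (Fin a × Fin b) (Fin a × Fin b) F) *ᵥ v = v := Iff.rfl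

theorem mem_PLine_of_pt {w₁ w₂ : Fin b → F} {g : GL (Fin a × Fin b) F} (hg : g ∈ H)
    (h : ∀ (x : Fin a → F) (p : Fin b → F), B₂ p w₁ = 0 → B₂ p w₂ = 0 →
      (g : Matrix (Fin a × Fin b) (Fin a × Fin b) F) *ᵥ pt x p = pt x p) :
    g ∈ PLine hF H w₁ w₂ := by
  refine ⟨hg, fun v h1 h2 => ?_⟩
  obtain ⟨f, hf1, hf2, hvf⟩ := decomp_of_Cw_zero2 (hF := hF) v h1 h2
  rw [hvf, Matrix.mulVec_sum]
  refine Finset.sum_congr rfl fun i _ => ?_
  exact h _ _ (hf1 i) (hf2 i)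

theorem Ctx.Xw_mem_PLine₁ (C : Ctx hF H) {w₁ w₂ : Fin b → F} (T : TIL hF w₁ w₂) (c : F)
    (hc : σ c = -c) : Xw hF a w₁ c T.h11 hc ∈ PLine hF H w₁ w₂ := by
  refine ⟨C.Xw_mem _ _ _ _, fun v h1 _ => ?_⟩
  rw [Xw_mulVec, h1, pt_zero_left, smul_zero, add_zero]

theorem Ctx.Xw_mem_PLine₂ (C : Ctx hF H) {w₁ w₂ : Fin b → F} (T : TIL hF w₁ w₂) (c : F)
    (hc : σ c = -c) : Xw hF a w₂ c T.h22 hc ∈ PLine hF H w₁ w₂ := by
  refine ⟨C.Xw_mem _ _ _ _, fun v _ h2 => ?_⟩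
  rw [Xw_mulVec, h2, pt_zero_left, smul_zero, add_zero]

theorem TIL.fix₁ {w₁ w₂ : Fin b → F} (T : TIL hF w₁ w₂) {g : GL (Fin a × Fin b) F}
    (hg : g ∈ PLine hF H w₁ w₂) (x : Fin a → F) :
    (g : Matrix (Fin a × Fin b) (Fin a × Fin b) F) *ᵥ pt x w₁ = pt x w₁ :=
  hg.2 _ (by rw [Cw_pt, T.h11, zero_smul]) (by rw [Cw_pt, T.h12, zero_smul])

theorem TIL.fix₂ {w₁ w₂ : Fin b → F} (T : TIL hF w₁ w₂) {g : GL (Fin a × Fin b) F}
    (hg : g ∈ PLine hF H w₁ w₂) (x : Fin a → F) :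
    (g : Matrix (Fin a × Fin b) (Fin a × Fin b) F) *ᵥ pt x w₂ = pt x w₂ :=
  hg.2 _ (by rw [Cw_pt, T.h21, zero_smul]) (by rw [Cw_pt, T.h22, zero_smul])

/-- elements of `P_L` move vectors inside `(U ⊗ L)^⊥` -/
theorem Ctx.PLine_sq (C : Ctx hF H) {w₁ w₂ : Fin b → F} (T : TIL hF w₁ w₂)
    {g g' : GL (Fin a × Fin b) F} (hg : g ∈ PLine hF H w₁ w₂) (hg' : g' ∈ PLine hF H w₁ w₂)
    (v : Fin a × Fin b → F) :
    (g : Matrix (Fin a × Fin b) (Fin a × Fin b) F) *ᵥ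
      ((g' : Matrix (Fin a × Fin b) (Fin a × Fin b) F) *ᵥ v - v) =
      (g' : Matrix (Fin a × Fin b) (Fin a × Fin b) F) *ᵥ v - v := by
  apply hg.2
  · rw [map_sub, Cw_fix hF (C.iso hg'.1) (T.fix₁ hg'), sub_self]
  · rw [map_sub, Cw_fix hF (C.iso hg'.1) (T.fix₂ hg'), sub_self]

theorem Ctx.PLine_comm (C : Ctx hF H) {w₁ w₂ : Fin b → F} (T : TIL hF w₁ w₂)
    {g g' : GL (Fin a × Fin b) F} (hg : g ∈ PLine hF H w₁ w₂) (hg' : g' ∈ PLine hF H w₁ w₂) :
    g * g' = g' * g := by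
  apply Units.ext
  rw [Units.val_mul, Units.val_mul, Matrix.ext_iff_mulVec]
  intro v
  rw [← Matrix.mulVec_mulVec, ← Matrix.mulVec_mulVec]
  have e1 : (g : Matrix (Fin a × Fin b) (Fin a × Fin b) F) *ᵥ
      ((g' : Matrix (Fin a × Fin b) (Fin a × Fin b) F) *ᵥ v) =
      (g : Matrix (Fin a × Fin b) (Fin a × Fin b) F) *ᵥ v +
        ((g' : Matrix (Fin a × Fin b) (Fin a × Fin b) F) *ᵥ v - v) := by
    have h1 := C.PLine_sq T hg hg' v
    rw [Matrix.mulVec_sub] at h1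
    rw [← h1]
    abel
  have e2 : (g' : Matrix (Fin a × Fin b) (Fin a × Fin b) F) *ᵥ
      ((g : Matrix (Fin a × Fin b) (Fin a × Fin b) F) *ᵥ v) =
      (g' : Matrix (Fin a × Fin b) (Fin a × Fin b) F) *ᵥ v +
        ((g : Matrix (Fin a × Fin b) (Fin a × Fin b) F) *ᵥ v - v) := by
    have h1 := C.PLine_sq T hg' hg v
    rw [Matrix.mulVec_sub] at h1
    rw [← h1]
    abel
  rw [e1, e2]
  abel

theorem Ctx.PLine_quad (C : Ctx hF H) {w₁ w₂ : Fin b → F} (T : TIL hF w₁ w₂)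
    {g : GL (Fin a × Fin b) F} (hg : g ∈ PLine hF H w₁ w₂) :
    ((g : Matrix (Fin a × Fin b) (Fin a × Fin b) F) - 1) *
      ((g : Matrix (Fin a × Fin b) (Fin a × Fin b) F) - 1) = 0 := by
  rw [Matrix.ext_iff_mulVec]
  intro v
  rw [← Matrix.mulVec_mulVec, Matrix.zero_mulVec, Matrix.sub_mulVec, Matrix.one_mulVec,
    Matrix.sub_mulVec, Matrix.one_mulVec, C.PLine_sq T hg hg v, sub_self]

theorem Ctx.PLine_pure (C : Ctx hF H) {w₁ w₂ : Fin b → F} (T : TIL hF w₁ w₂)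
    {g : GL (Fin a × Fin b) F} (hg : g ∈ PLine hF H w₁ w₂) :
    ∃ βt : (Fin b → F) →ₗ[F] (Fin b → F), ∀ x p,
      (g : Matrix (Fin a × Fin b) (Fin a × Fin b) F) *ᵥ pt x p = pt x (βt p) :=
  C.pure_of_fix hg.1 T.h0 T.h11 (T.fix₁ hg)

/-- elements of `P_L` move vectors into `U ⊗ L` -/
theorem Ctx.PLine_move (C : Ctx hF H) {w₁ w₂ : Fin b → F} (T : TIL hF w₁ w₂)
    {g : GL (Fin a × Fin b) F} (hg : g ∈ PLine hF H w₁ w₂) (v : Fin a × Fin b → F) :
    (g : Matrix (Fin a × Fin b) (Fin a × Fin b) F) *ᵥ v - v ∈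
      Aw (I := Fin a) w₁ ⊔ Aw (I := Fin a) w₂ := by
  obtain ⟨βt, hβ⟩ := C.PLine_pure T hg
  obtain ⟨x₀, y₀, _, _, hxy⟩ := ex_hyp hF C.ha
  have hspan : ∀ p, ∃ c₁ c₂ : F, βt p - p = c₁ • w₁ + c₂ • w₂ := by
    intro p
    apply T.double_perp
    intro p' h1 h2
    have hfix : (g : Matrix (Fin a × Fin b) (Fin a × Fin b) F) *ᵥ pt x₀ p' = pt x₀ p' :=
      hg.2 _ (by rw [Cw_pt, h1, zero_smul]) (by rw [Cw_pt, h2, zero_smul])
    have := C.iso hg.1 (pt x₀ p') (pt y₀ p)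
    rw [hfix, hβ, hB_pt, hB_pt, hxy, one_mul, one_mul] at this
    rw [map_sub, this, sub_self]
  refine pt_induction (P := fun v => (g : Matrix (Fin a × Fin b) (Fin a × Fin b) F) *ᵥ v - v ∈
      Aw (I := Fin a) w₁ ⊔ Aw (I := Fin a) w₂) ?_ ?_ ?_ v
  · rw [Matrix.mulVec_zero, sub_zero]
    exact Submodule.zero_mem _
  · intro v v' hv hv'
    have e : (g : Matrix (Fin a × Fin b) (Fin a × Fin b) F) *ᵥ (v + v') - (v + v') =
        ((g : Matrix (Fin a × Fin b) (Fin a × Fin b) F) *ᵥ v - v) +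
        ((g : Matrix (Fin a × Fin b) (Fin a × Fin b) F) *ᵥ v' - v') := by
      rw [Matrix.mulVec_add]
      abel
    rw [e]
    exact Submodule.add_mem _ hv hv'
  · intro x p
    obtain ⟨c₁, c₂, hc⟩ := hspan p
    rw [hβ, ← pt_sub_right, hc, pt_add_right, pt_smul_right, pt_smul_right, ← pt_smul_left,
      ← pt_smul_left]
    exact Submodule.add_mem _ (Submodule.mem_sup_left (mem_Aw.mpr ⟨_, rfl⟩))
      (Submodule.mem_sup_right (mem_Aw.mpr ⟨_, rfl⟩))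

variable (hF H)

/-- the group generated by `P_L` and a further element -/
def GLine (w₁ w₂ : Fin b → F) (Y : GL (Fin a × Fin b) F) : Subgroup (GL (Fin a × Fin b) F) :=
  Subgroup.closure ((PLine hF H w₁ w₂ : Set (GL (Fin a × Fin b) F)) ∪ {Y})

variable {hF H}

theorem PLine_le_GLine (w₁ w₂ : Fin b → F) (Y : GL (Fin a × Fin b) F) :
    PLine hF H w₁ w₂ ≤ GLine hF H w₁ w₂ Y :=
  fun _ hg => Subgroup.subset_closure (Or.inl hg)

theorem mem_GLine_self (w₁ w₂ : Fin b → F) (Y : GL (Fin a × Fin b) F) :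
    Y ∈ GLine hF H w₁ w₂ Y := Subgroup.subset_closure (Or.inr rfl)

theorem GLine_le {w₁ w₂ : Fin b → F} {Y : GL (Fin a × Fin b) F} (hY : Y ∈ H) :
    GLine hF H w₁ w₂ Y ≤ H := by
  unfold GLine
  rw [Subgroup.closure_le]
  rintro g (hg | hg)
  · exact hg.1
  · rw [Set.mem_singleton_iff.mp hg]
    exact hY

/-- elements of `⟨P_L, h x_{u'}(c) h⁻¹⟩` move vectors into `U ⊗ L + h (U ⊗ u')` -/
theorem Ctx.GLine_prop (C : Ctx hF H) {w₁ w₂ : Fin b → F} (T : TIL hF w₁ w₂)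
    (h : GL (Fin a × Fin b) F) {u' : Fin b → F} (hu' : B₂ u' u' = 0) {c₀ : F}
    (hc₀ : σ c₀ = -c₀) {k : GL (Fin a × Fin b) F}
    (hk : k ∈ GLine hF H w₁ w₂ (h * Xw hF a u' c₀ hu' hc₀ * h⁻¹)) (v : Fin a × Fin b → F) :
    (k : Matrix (Fin a × Fin b) (Fin a × Fin b) F) *ᵥ v - v ∈
      Aw (I := Fin a) w₁ ⊔ Aw (I := Fin a) w₂ ⊔ Bw h u' := by
  revert v
  unfold GLine at hk
  induction hk using Subgroup.closure_induction with
  | mem g hg =>
    intro v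
    rcases hg with hg | hg
    · exact Submodule.mem_sup_left (C.PLine_move T hg v)
    · rw [Set.mem_singleton_iff.mp hg]
      apply Submodule.mem_sup_right
      rw [Units.val_mul, Units.val_mul, ← Matrix.mulVec_mulVec, ← Matrix.mulVec_mulVec,
        Xw_mulVec, Matrix.mulVec_add, mulVec_inv_mulVec, add_sub_cancel_left, ← pt_smul_left]
      exact mem_Bw.mpr ⟨_, rfl⟩
  | one =>
    intro v
    rw [Units.val_one, Matrix.one_mulVec, sub_self]
    exact Submodule.zero_mem _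
  | mul g g' _ _ hg hg' =>
    intro v
    have e : ((g * g' : GL (Fin a × Fin b) F) : Matrix (Fin a × Fin b) (Fin a × Fin b) F) *ᵥ v -
        v = ((g : Matrix (Fin a × Fin b) (Fin a × Fin b) F) *ᵥ
          ((g' : Matrix (Fin a × Fin b) (Fin a × Fin b) F) *ᵥ v) -
          (g' : Matrix (Fin a × Fin b) (Fin a × Fin b) F) *ᵥ v) +
        ((g' : Matrix (Fin a × Fin b) (Fin a × Fin b) F) *ᵥ v - v) := by
      rw [Units.val_mul, ← Matrix.mulVec_mulVec]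
      abel
    rw [e]
    exact Submodule.add_mem _ (hg _) (hg' v)
  | inv g _ hg =>
    intro v
    have e : ((g⁻¹ : GL (Fin a × Fin b) F) : Matrix (Fin a × Fin b) (Fin a × Fin b) F) *ᵥ v - v =
        -((g : Matrix (Fin a × Fin b) (Fin a × Fin b) F) *ᵥ
          (((g⁻¹ : GL (Fin a × Fin b) F) : Matrix (Fin a × Fin b) (Fin a × Fin b) F) *ᵥ v) -
          ((g⁻¹ : GL (Fin a × Fin b) F) : Matrix (Fin a × Fin b) (Fin a × Fin b) F) *ᵥ v) := by
      rw [mulVec_inv_mulVec]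
      abel
    rw [e]
    exact Submodule.neg_mem _ (hg _)

/-- **(NU)** there is an element of `⟨P_L, h x_{u'}(c) h⁻¹⟩` outside `P_L` fusing two elements
of `P_L` -/
theorem Ctx.exists_k (C : Ctx hF H) {w₁ w₂ : Fin b → F} (T : TIL hF w₁ w₂)
    {h : GL (Fin a × Fin b) F} (hh : h ∈ H) (hnk : h ∉ krSub (Fin a) (Fin b) F)
    {u' : Fin b → F} (hu'0 : u' ≠ 0) (hu' : B₂ u' u' = 0) {c₀ : F} (hc₀0 : c₀ ≠ 0)
    (hc₀ : σ c₀ = -c₀) :
    ∃ k ∈ GLine hF H w₁ w₂ (h * Xw hF a u' c₀ hu' hc₀ * h⁻¹), k ∉ PLine hF H w₁ w₂ ∧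
      ∃ x ∈ PLine hF H w₁ w₂, x ≠ 1 ∧ k * x * k⁻¹ ∈ PLine hF H w₁ w₂ := by
  classical
  by_contra hcon
  push Not at hcon
  obtain ⟨Y, hYdef⟩ : ∃ Y : GL (Fin a × Fin b) F, Y = h * Xw hF a u' c₀ hu' hc₀ * h⁻¹ :=
    ⟨_, rfl⟩
  rw [← hYdef] at hcon
  have hYH : Y ∈ H := by
    rw [hYdef]
    exact H.mul_mem (H.mul_mem hh (C.Xw_mem _ _ _ _)) (H.inv_mem hh)
  obtain ⟨K, hKdef⟩ : ∃ K : Subgroup (GL (Fin a × Fin b) F), K = GLine hF H w₁ w₂ Y :=
    ⟨_, rfl⟩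
  rw [← hKdef] at hcon
  obtain ⟨P, hPdef⟩ : ∃ P : Subgroup K, P = (PLine hF H w₁ w₂).subgroupOf K := ⟨_, rfl⟩
  have hPmem : ∀ k : K, k ∈ P ↔ (k : GL (Fin a × Fin b) F) ∈ PLine hF H w₁ w₂ := by
    intro k
    rw [hPdef, Subgroup.mem_subgroupOf]
  have hPK : PLine hF H w₁ w₂ ≤ K := by
    rw [hKdef]
    exact PLine_le_GLine w₁ w₂ Y
  have hYK : Y ∈ K := by
    rw [hKdef]
    exact mem_GLine_self w₁ w₂ Y
  have hx₁P := C.Xw_mem_PLine₁ T c₀ hc₀
  have hx₂P := C.Xw_mem_PLine₂ T c₀ hc₀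
  have hx₁1 := C.Xw_ne_one T.h0 hc₀0 T.h11 hc₀
  have hx₂1 := C.Xw_ne_one T.h0' hc₀0 T.h22 hc₀
  have hb : ∀ g : K, ∀ x ∈ P, x ≠ 1 → g * x * g⁻¹ ∈ P → g ∈ P := by
    intro g x hx hx1 hgx
    by_contra hgP
    rw [hPmem] at hgP hx hgx
    apply hcon g.1 g.2 hgP x.1 hx
    · intro h0
      apply hx1
      exact Subtype.ext h0
    · rw [Subgroup.coe_mul, Subgroup.coe_mul, Subgroup.coe_inv] at hgx
      exact hgx
  have hPtop : P = ⊤ := by
    obtain ⟨p, hchar⟩ := CharP.exists F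
    haveI := hchar
    haveI : Fact p.Prime := ⟨CharP.char_is_prime F p⟩
    by_cases hp2 : p = 2
    · -- characteristic two
      have h2 : (2 : F) = 0 := by
        have := CharP.cast_eq_zero F p
        rw [hp2] at this
        exact_mod_cast this
      have hP2 : ∀ x ∈ P, x * x = 1 := by
        intro x hx
        rw [hPmem] at hx
        apply Subtype.ext
        apply Units.ext
        rw [Subgroup.coe_mul, Units.val_mul, Subgroup.coe_one, Units.val_one]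
        obtain ⟨M, hM⟩ : ∃ M : Matrix (Fin a × Fin b) (Fin a × Fin b) F,
          M = ((x : GL (Fin a × Fin b) F) : Matrix (Fin a × Fin b) (Fin a × Fin b) F) := ⟨_, rfl⟩
        have hq := C.PLine_quad T hx
        rw [← hM] at hq ⊢
        have hMM : M + M = 0 := by rw [← two_smul F M, h2, zero_smul]
        have h11 : (1 : Matrix (Fin a × Fin b) (Fin a × Fin b) F) + 1 = 0 := by
          rw [← two_smul F (1 : Matrix (Fin a × Fin b) (Fin a × Fin b) F), h2, zero_smul]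
        have e : M * M = (M - 1) * (M - 1) + (M + M) - 1 := by noncomm_ring
        rw [e, hq, hMM, zero_add, zero_sub]
        exact neg_eq_of_add_eq_zero_left h11
      have hne12 : (⟨Xw hF a w₁ c₀ T.h11 hc₀, hPK hx₁P⟩ : K) ≠
          ⟨Xw hF a w₂ c₀ T.h22 hc₀, hPK hx₂P⟩ := by
        intro h0
        have h1 : Xw hF a w₁ c₀ T.h11 hc₀ = Xw hF a w₂ c₀ T.h22 hc₀ := congrArg Subtype.val h0
        obtain ⟨q₁, q₂, e1, e2, e3, e4⟩ := T.ex_dual
        obtain ⟨x₀, y₀, _, _, hxy⟩ := ex_hyp hF C.ha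
        have hx₀ : x₀ ≠ 0 := ne_zero_of_hB_left hF (by rw [hxy]; exact one_ne_zero)
        have h3 := Xw_mulVec (a := a) hF w₁ c₀ T.h11 hc₀ (pt x₀ q₁)
        rw [h1, Xw_mulVec, Cw_pt, Cw_pt, e1, e2, one_smul, zero_smul, pt_zero_left, smul_zero]
          at h3
        have h4 : c₀ • pt x₀ w₁ = 0 := by
          have := congrArg (fun t => t - pt x₀ q₁) h3
          simp only [add_zero, sub_self, add_sub_cancel_left] at this
          exact this.symm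
        rcases smul_eq_zero.mp h4 with h5 | h5
        · exact hc₀0 h5
        · exact pt_ne_zero hx₀ T.h0 h5
      exact NU_two P hP2 ⟨_, hPK hx₁P⟩ ⟨_, hPK hx₂P⟩ ((hPmem _).mpr hx₁P) ((hPmem _).mpr hx₂P)
        (by
          intro h0
          exact hx₁1 (congrArg Subtype.val h0)) (by
          intro h0
          exact hx₂1 (congrArg Subtype.val h0)) hne12 hb
    · -- odd characteristic
      obtain ⟨ρ, hρdef⟩ : ∃ ρ : K →* Matrix (Fin a × Fin b) (Fin a × Fin b) F,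
          ρ = (Units.coeHom (Matrix (Fin a × Fin b) (Fin a × Fin b) F)).comp K.subtype :=
        ⟨_, rfl⟩
      have hρa : ∀ k : K, ρ k = ((k : GL (Fin a × Fin b) F) :
          Matrix (Fin a × Fin b) (Fin a × Fin b) F) := by
        intro k
        rw [hρdef]
        rfl
      have hρ : Function.Injective ρ := by
        intro k k' hkk
        rw [hρa, hρa] at hkk
        exact Subtype.ext (Units.ext hkk)
      haveI : Nonempty (Fin a × Fin b) :=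
        ⟨(⟨0, by have := C.ha; omega⟩, ⟨0, by have := C.hb; omega⟩)⟩
      haveI : CharP (Matrix (Fin a × Fin b) (Fin a × Fin b) F) p := inferInstance
      have hPne : P ≠ ⊥ := by
        intro hbot
        have h1 : (⟨Xw hF a w₁ c₀ T.h11 hc₀, hPK hx₁P⟩ : K) ∈ P := (hPmem _).mpr hx₁P
        rw [hbot, Subgroup.mem_bot] at h1
        exact hx₁1 (congrArg Subtype.val h1)
      have hPab : ∀ x ∈ P, ∀ y ∈ P, x * y = y * x := by
        intro x hx y hy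
        rw [hPmem] at hx hy
        apply Subtype.ext
        rw [Subgroup.coe_mul, Subgroup.coe_mul]
        exact C.PLine_comm T hx hy
      have hquad : ∀ x ∈ P, (ρ x - 1) * (ρ x - 1) = 0 := by
        intro x hx
        rw [hPmem] at hx
        rw [hρa]
        exact C.PLine_quad T hx
      exact Cfsg.Agent.Lib.Helper1.TsB.NU_abs p hp2 ρ hρ P hPne hPab hquad hb
  have h5 : (⟨Y, hYK⟩ : K) ∈ P := by
    rw [hPtop]
    exact Subgroup.mem_top _
  rw [hPmem] at h5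
  obtain ⟨βt, hβ⟩ := C.PLine_pure T h5
  apply hnk
  apply C.conj_root_pure hh hu'0 hu' hc₀0 hc₀ βt
  rw [← hYdef]
  exact hβ

end Cfsg.Agent.Lib.Helper1.TsU
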