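import Mathlib
import Cfsg.Agent.Lib.Helper1.TsU13

/-!
# Unitary tensor products: the analysis of a maximal triple, and the global argument
-/

set_option autoImplicit false
set_option maxHeartbeats 4000000
set_option maxRecDepth 100000
set_option linter.unusedSimpArgs false
set_option linter.unusedVariables false
set_option linter.unusedSectionVars false
set_option linter.style.longLine false
set_option linter.deprecated false

namespace Cfsg.Agent.Lib.Helper1.TsU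

open Module Matrix
open Cfsg
open Cfsg.Agent.Lib.Helper5.Herm Cfsg.Agent.Lib.Helper5.HermBridge
  Cfsg.Agent.Lib.Helper5.HermTv Cfsg.Agent.Lib.Helper5.HermEich
open Cfsg.Agent.Lib.Helper1.TsA
open Cfsg.Agent.Lib.Helper8.Tns

variable {F : Type*} [Field F] [Fintype F] {q : ℕ} {hF : Fintype.card F = q ^ 2}

local notation "σ" => Cfsg.Agent.Lib.Helper5.HermBridge.sigma hF

variable {a b : ℕ} {H : Subgroup (GL (Fin a × Fin b) F)}

local notation "B₁" => hB hF (Fin a)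
local notation "B₂" => hB hF (Fin b)
local notation "BV" => hB hF (Fin a × Fin b)

/-- `z` lies on the line `⟨u, u₂⟩` -/
def InL (u u₂ z : Fin b → F) : Prop := ∃ c₁ c₂ : F, z = c₁ • u + c₂ • u₂

theorem TIL.perp_of_InL {w₁ w₂ : Fin b → F} (T : TIL hF w₁ w₂) {z p : Fin b → F}
    (hz : InL w₁ w₂ z) (h1 : B₂ p w₁ = 0) (h2 : B₂ p w₂ = 0) : B₂ p z = 0 := by
  obtain ⟨c₁, c₂, rfl⟩ := hz
  rw [map_add, LinearMap.map_smulₛₗ, LinearMap.map_smulₛₗ, h1, h2, smul_zero, smul_zero, add_zero]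

theorem TIL.iso_of_InL {w₁ w₂ : Fin b → F} (T : TIL hF w₁ w₂) {z : Fin b → F}
    (hz : InL w₁ w₂ z) : B₂ z z = 0 := by
  obtain ⟨c₁, c₂, rfl⟩ := hz
  simp only [map_add, LinearMap.add_apply, map_smul, LinearMap.smul_apply, LinearMap.map_smulₛₗ,
    smul_eq_mul, T.h11, T.h12, T.h21, T.h22, mul_zero, add_zero]

theorem TIL.Cw_of_InL {w₁ w₂ : Fin b → F} (T : TIL hF w₁ w₂) {z : Fin b → F}
    (hz : InL w₁ w₂ z) (v : Fin a × Fin b → F) (h1 : Cw hF w₁ v = 0) (h2 : Cw hF w₂ v = 0) :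
    Cw hF z v = 0 := by
  obtain ⟨c₁, c₂, rfl⟩ := hz
  rw [Cw_add_right, Cw_smul_right, Cw_smul_right, h1, h2, smul_zero, smul_zero, add_zero]

/-- the vectors `β p - p` lie on the line, for `1 ⊗ β ∈ P_L` -/
theorem Ctx.PLine_span (C : Ctx hF H) {w₁ w₂ : Fin b → F} (T : TIL hF w₁ w₂)
    {g : GL (Fin a × Fin b) F} (hg : g ∈ PLine hF H w₁ w₂)
    (βt : (Fin b → F) →ₗ[F] (Fin b → F))
    (hβ : ∀ x p, (g : Matrix (Fin a × Fin b) (Fin a × Fin b) F) *ᵥ pt x p = pt x (βt p))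
    (p : Fin b → F) : InL w₁ w₂ (βt p - p) := by
  obtain ⟨x₀, y₀, _, _, hxy⟩ := ex_hyp hF C.ha
  apply T.double_perp
  intro p' h1 h2
  have hfix : (g : Matrix (Fin a × Fin b) (Fin a × Fin b) F) *ᵥ pt x₀ p' = pt x₀ p' :=
    hg.2 _ (by rw [Cw_pt, h1, zero_smul]) (by rw [Cw_pt, h2, zero_smul])
  have := C.iso hg.1 (pt x₀ p') (pt y₀ p)
  rw [hfix, hβ, hB_pt, hB_pt, hxy, one_mul, one_mul] at this
  rw [map_sub, this, sub_self]

/-- conjugates of root elements of `P_L` by Kronecker elements of the group `⟨P_L, Y⟩` -/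
theorem Ctx.pt_mem_of_conj (C : Ctx hF H) {w₁ w₂ : Fin b → F} (T : TIL hF w₁ w₂)
    (h : GL (Fin a × Fin b) F) {u' : Fin b → F} (hu' : B₂ u' u' = 0) {c₀ : F} (hc₀0 : c₀ ≠ 0)
    (hc₀ : σ c₀ = -c₀) {k' : GL (Fin a × Fin b) F}
    (hk' : k' ∈ GLine hF H w₁ w₂ (h * Xw hF a u' c₀ hu' hc₀ * h⁻¹))
    (α' : GL (Fin a) F) (β' : GL (Fin b) F) (hkαβ : k' = kr α' β') {w : Fin b → F}
    (hw0 : w ≠ 0) (hw : B₂ w w = 0) (hXP : Xw hF a w c₀ hw hc₀ ∈ PLine hF H w₁ w₂)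
    (x : Fin a → F) :
    pt x ((β' : Matrix (Fin b) (Fin b) F) *ᵥ w) ∈
      Aw (I := Fin a) w₁ ⊔ Aw (I := Fin a) w₂ ⊔ Bw h u' := by
  obtain ⟨ws, _, hws⟩ := ex_partner hF w hw0 hw
  have hwsw : B₂ ws w = 1 := by rw [← hB_conj, hws, map_one]
  have hgG : k' * Xw hF a w c₀ hw hc₀ * k'⁻¹ ∈
      GLine hF H w₁ w₂ (h * Xw hF a u' c₀ hu' hc₀ * h⁻¹) :=
    Subgroup.mul_mem _ (Subgroup.mul_mem _ hk' (PLine_le_GLine _ _ _ hXP)) (Subgroup.inv_mem _ hk')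
  have h1 := C.GLine_prop T h hu' hc₀ hgG
    ((k' : Matrix (Fin a × Fin b) (Fin a × Fin b) F) *ᵥ
      pt (((α'⁻¹ : GL (Fin a) F) : Matrix (Fin a) (Fin a) F) *ᵥ x) ws)
  have e : ((k' * Xw hF a w c₀ hw hc₀ * k'⁻¹ : GL (Fin a × Fin b) F) :
      Matrix (Fin a × Fin b) (Fin a × Fin b) F) *ᵥ
      ((k' : Matrix (Fin a × Fin b) (Fin a × Fin b) F) *ᵥ
        pt (((α'⁻¹ : GL (Fin a) F) : Matrix (Fin a) (Fin a) F) *ᵥ x) ws) -
      (k' : Matrix (Fin a × Fin b) (Fin a × Fin b) F) *ᵥ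
        pt (((α'⁻¹ : GL (Fin a) F) : Matrix (Fin a) (Fin a) F) *ᵥ x) ws =
      c₀ • pt x ((β' : Matrix (Fin b) (Fin b) F) *ᵥ w) := by
    rw [Units.val_mul, Units.val_mul, ← Matrix.mulVec_mulVec, ← Matrix.mulVec_mulVec,
      inv_mulVec_mulVec, Xw_mulVec, Matrix.mulVec_add, add_sub_cancel_left, Cw_pt, hwsw, one_smul,
      Matrix.mulVec_smul, hkαβ, kr_mulVec_pt, mulVec_inv_mulVec]
  rw [e] at h1
  have h3 := Submodule.smul_mem _ c₀⁻¹ h1
  rwa [smul_smul, inv_mul_cancel₀ hc₀0, one_smul] at h3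

/-- **Steps 2, 3**: the structure of a triple satisfying the conclusion of step 1 -/
theorem Ctx.line_analysis (C : Ctx hF H) {u u₂ r : Fin b → F} (T : TIL hF u u₂)
    (hrr : B₂ r r = 1) (hru : B₂ r u = 0) (hru₂ : B₂ r u₂ = 0)
    {h : GL (Fin a × Fin b) F} (hh : h ∈ H) (hnk : h ∉ krSub (Fin a) (Fin b) F)
    {u' : Fin b → F} (hu'0 : u' ≠ 0) (hu' : B₂ u' u' = 0)
    (hS1 : ∀ v ∈ Bw h u', Cw hF u v = 0 → v ∈ Aw (I := Fin a) u) :
    (Aw (I := Fin a) u ⊔ Aw (I := Fin a) u₂) ⊓ Bw h u' = ⊥ ∧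
      ∃ y : Fin b → F, ¬ InL u u₂ y ∧
        ∀ v ∈ Bw h u', ∃ x₁ x₂ x₃ : Fin a → F, v = pt x₁ u + pt x₂ u₂ + pt x₃ y := by
  obtain ⟨c₀, hc₀0, hc₀⟩ := exT0 hF
  obtain ⟨k, hkG, hkP, x, hxP, hx1, hkx⟩ := C.exists_k T hh hnk hu'0 hu' hc₀0 hc₀
  have hYH : h * Xw hF a u' c₀ hu' hc₀ * h⁻¹ ∈ H :=
    H.mul_mem (H.mul_mem hh (C.Xw_mem _ _ _ _)) (H.inv_mem hh)
  have hkH : k ∈ H := GLine_le hYH hkG
  have hk1 := fun v => C.GLine_prop T h hu' hc₀ hkG v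
  obtain ⟨x₀, y₀, _, _, hxy⟩ := ex_hyp hF C.ha
  have hx₀ : x₀ ≠ 0 := ne_zero_of_hB_left hF (by rw [hxy]; exact one_ne_zero)
  -- (a) `k` is a Kronecker product
  have hkK : k ∈ krSub (Fin a) (Fin b) F := by
    obtain ⟨βx, hβx⟩ := C.PLine_pure T hxP
    have hex : ∃ p₁, βx p₁ - p₁ ≠ 0 := by
      by_contra hcon
      push Not at hcon
      apply hx1
      apply gl_ext_pt
      intro x' p
      rw [hβx, sub_eq_zero.mp (hcon p), Units.val_one, Matrix.one_mulVec]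
    obtain ⟨p₁, hp₁⟩ := hex
    obtain ⟨w, hwdef⟩ : ∃ w : Fin b → F, w = βx p₁ - p₁ := ⟨_, rfl⟩
    have hw0 : w ≠ 0 := by
      rw [hwdef]
      exact hp₁
    have hwL : InL u u₂ w := by
      rw [hwdef]
      exact C.PLine_span T hxP βx hβx p₁
    have hw : B₂ w w = 0 := T.iso_of_InL hwL
    have hkw : ∀ x'' : Fin a → F,
        (k : Matrix (Fin a × Fin b) (Fin a × Fin b) F) *ᵥ pt x'' w ∈
          Aw (I := Fin a) u ⊔ Aw (I := Fin a) u₂ := by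
      intro x''
      have e : (k : Matrix (Fin a × Fin b) (Fin a × Fin b) F) *ᵥ pt x'' w =
          ((k * x * k⁻¹ : GL (Fin a × Fin b) F) :
            Matrix (Fin a × Fin b) (Fin a × Fin b) F) *ᵥ
            ((k : Matrix (Fin a × Fin b) (Fin a × Fin b) F) *ᵥ pt x'' p₁) -
            (k : Matrix (Fin a × Fin b) (Fin a × Fin b) F) *ᵥ pt x'' p₁ := by
        rw [Units.val_mul, Units.val_mul, ← Matrix.mulVec_mulVec, ← Matrix.mulVec_mulVec,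
          inv_mulVec_mulVec, hβx, ← Matrix.mulVec_sub, ← pt_sub_right, ← hwdef]
      rw [e]
      exact C.PLine_move T hkx _
    have hy'P : k * Xw hF a w c₀ hw hc₀ * k⁻¹ ∈ PLine hF H u u₂ := by
      refine ⟨H.mul_mem (H.mul_mem hkH (C.Xw_mem _ _ _ _)) (H.inv_mem hkH), fun v h1 h2 => ?_⟩
      have hC : Cw hF w (((k⁻¹ : GL (Fin a × Fin b) F) :
          Matrix (Fin a × Fin b) (Fin a × Fin b) F) *ᵥ v) = 0 := by
        apply hB_ext_left hF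
        intro x''
        rw [map_zero, LinearMap.zero_apply, ← hB_pt_right, hB_inv_left hF (C.hHGU hkH)]
        obtain ⟨a₁, ha₁, a₂, ha₂, hsum⟩ := Submodule.mem_sup.mp (hkw x'')
        obtain ⟨x₁, rfl⟩ := mem_Aw.mp ha₁
        obtain ⟨x₂, rfl⟩ := mem_Aw.mp ha₂
        rw [← hsum, map_add, hB_pt_right, hB_pt_right, h1, h2]
        simp only [map_zero, LinearMap.zero_apply, add_zero]
      rw [Units.val_mul, Units.val_mul, ← Matrix.mulVec_mulVec, ← Matrix.mulVec_mulVec,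
        Xw_mulVec, hC, pt_zero_left, smul_zero, add_zero, mulVec_inv_mulVec]
    obtain ⟨βy, hβy⟩ := C.PLine_pure T hy'P
    exact C.conj_root_pure hkH hw0 hw hc₀0 hc₀ βy hβy
  obtain ⟨α, β, hkαβ⟩ := mem_krSub.mp hkK
  have hkpt : ∀ (x : Fin a → F) (p : Fin b → F),
      (k : Matrix (Fin a × Fin b) (Fin a × Fin b) F) *ᵥ pt x p =
        pt ((α : Matrix (Fin a) (Fin a) F) *ᵥ x) ((β : Matrix (Fin b) (Fin b) F) *ᵥ p) := by
    intro x p
    rw [hkαβ, kr_mulVec_pt]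
  have hk'G : k⁻¹ ∈ GLine hF H u u₂ (h * Xw hF a u' c₀ hu' hc₀ * h⁻¹) :=
    Subgroup.inv_mem _ hkG
  have hk'αβ : k⁻¹ = kr α⁻¹ β⁻¹ := by rw [hkαβ, kr_inv]
  have hX₁ := C.Xw_mem_PLine₁ T c₀ hc₀
  have hX₂ := C.Xw_mem_PLine₂ T c₀ hc₀
  -- (b) a vector `y` off the line with `U ⊗ y ⊆ U ⊗ L + B`
  have hy : ∃ y : Fin b → F, ¬ InL u u₂ y ∧ ∀ x : Fin a → F,
      pt x y ∈ Aw (I := Fin a) u ⊔ Aw (I := Fin a) u₂ ⊔ Bw h u' := by
    by_cases h1 : InL u u₂ ((β : Matrix (Fin b) (Fin b) F) *ᵥ u)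
    swap
    · exact ⟨_, h1, fun x => C.pt_mem_of_conj T h hu' hc₀0 hc₀ hkG α β hkαβ T.h0 T.h11 hX₁ x⟩
    by_cases h2 : InL u u₂ ((β : Matrix (Fin b) (Fin b) F) *ᵥ u₂)
    swap
    · exact ⟨_, h2, fun x => C.pt_mem_of_conj T h hu' hc₀0 hc₀ hkG α β hkαβ T.h0' T.h22 hX₂ x⟩
    by_cases h3 : InL u u₂ (((β⁻¹ : GL (Fin b) F) : Matrix (Fin b) (Fin b) F) *ᵥ u)
    swap
    · exact ⟨_, h3, fun x => C.pt_mem_of_conj T h hu' hc₀0 hc₀ hk'G α⁻¹ β⁻¹ hk'αβ T.h0 T.h11 hX₁ x⟩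
    by_cases h4 : InL u u₂ (((β⁻¹ : GL (Fin b) F) : Matrix (Fin b) (Fin b) F) *ᵥ u₂)
    swap
    · exact ⟨_, h4, fun x => C.pt_mem_of_conj T h hu' hc₀0 hc₀ hk'G α⁻¹ β⁻¹ hk'αβ T.h0' T.h22 hX₂ x⟩
    -- `β` preserves `L^⊥`
    have hperp : ∀ p, B₂ p u = 0 → B₂ p u₂ = 0 → ∀ z, InL u u₂
        (((β⁻¹ : GL (Fin b) F) : Matrix (Fin b) (Fin b) F) *ᵥ z) →
        B₂ ((β : Matrix (Fin b) (Fin b) F) *ᵥ p) z = 0 := by
      intro p hp1 hp2 z hz
      have := C.iso hkH (pt (((α⁻¹ : GL (Fin a) F) : Matrix (Fin a) (Fin a) F) *ᵥ x₀) p)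
        (pt (((α⁻¹ : GL (Fin a) F) : Matrix (Fin a) (Fin a) F) *ᵥ y₀)
          (((β⁻¹ : GL (Fin b) F) : Matrix (Fin b) (Fin b) F) *ᵥ z))
      rw [hkpt, hkpt, mulVec_inv_mulVec, mulVec_inv_mulVec, mulVec_inv_mulVec, hB_pt, hB_pt, hxy,
        one_mul, T.perp_of_InL hz hp1 hp2, mul_zero] at this
      exact this
    -- `α` is scalar
    obtain ⟨t, htdef⟩ : ∃ t : F, t = B₂ ((β : Matrix (Fin b) (Fin b) F) *ᵥ r) r := ⟨_, rfl⟩
    have hαt : ∀ x : Fin a → F, t • ((α : Matrix (Fin a) (Fin a) F) *ᵥ x) = x := by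
      intro x
      have hm := hk1 (pt x r)
      obtain ⟨a₁, ha₁, b₁, hb₁, hsum⟩ := Submodule.mem_sup.mp hm
      have hCa : Cw hF u a₁ = 0 := by
        obtain ⟨a₂, ha₂, a₃, ha₃, hs⟩ := Submodule.mem_sup.mp ha₁
        obtain ⟨x₁, rfl⟩ := mem_Aw.mp ha₂
        obtain ⟨x₂, rfl⟩ := mem_Aw.mp ha₃
        rw [← hs, map_add, Cw_pt, Cw_pt, T.h11, T.h21, zero_smul, zero_smul, add_zero]
      have hCsum : Cw hF u ((k : Matrix (Fin a × Fin b) (Fin a × Fin b) F) *ᵥ pt x r - pt x r) =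
          0 := by
        rw [hkpt, map_sub, Cw_pt, Cw_pt, hru, hperp r hru hru₂ u h3, zero_smul, zero_smul,
          sub_zero]
      have hCb : Cw hF u b₁ = 0 := by
        rw [← hsum, map_add, hCa, zero_add] at hCsum
        exact hCsum
      have hb₁A := hS1 b₁ hb₁ hCb
      have hCr : Cw hF r ((k : Matrix (Fin a × Fin b) (Fin a × Fin b) F) *ᵥ pt x r - pt x r) =
          0 := by
        rw [← hsum]
        obtain ⟨a₂, ha₂, a₃, ha₃, hs⟩ := Submodule.mem_sup.mp ha₁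
        obtain ⟨x₁, rfl⟩ := mem_Aw.mp ha₂
        obtain ⟨x₂, rfl⟩ := mem_Aw.mp ha₃
        obtain ⟨x₃, rfl⟩ := mem_Aw.mp hb₁A
        rw [← hs, map_add, map_add, Cw_pt, Cw_pt, Cw_pt, hB_eq_zero_symm hF hru,
          hB_eq_zero_symm hF hru₂]
        simp only [zero_smul, add_zero]
      rw [hkpt, map_sub, Cw_pt, Cw_pt, hrr, one_smul, ← htdef] at hCr
      exact sub_eq_zero.mp hCr
    have ht : t ≠ 0 := by
      intro h0
      have := hαt x₀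
      rw [h0, zero_smul] at this
      exact hx₀ this.symm
    have hα : ∀ x : Fin a → F, (α : Matrix (Fin a) (Fin a) F) *ᵥ x = t⁻¹ • x := by
      intro x
      rw [← hαt x, smul_smul, inv_mul_cancel₀ ht, one_smul, hαt x]
    obtain ⟨β', hβ'def⟩ : ∃ β' : (Fin b → F) →ₗ[F] (Fin b → F),
        β' = t⁻¹ • Matrix.mulVecLin (β : Matrix (Fin b) (Fin b) F) := ⟨_, rfl⟩
    have hβ'a : ∀ p, β' p = t⁻¹ • ((β : Matrix (Fin b) (Fin b) F) *ᵥ p) := by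
      intro p
      rw [hβ'def]
      rfl
    have hk' : ∀ (x : Fin a → F) (p : Fin b → F),
        (k : Matrix (Fin a × Fin b) (Fin a × Fin b) F) *ᵥ pt x p = pt x (β' p) := by
      intro x p
      rw [hkpt, hα, hβ'a, pt_smul_left, pt_smul_right]
    have hβ'iso : ∀ p p', B₂ (β' p) (β' p') = B₂ p p' := by
      intro p p'
      have := C.iso hkH (pt x₀ p) (pt y₀ p')
      rw [hk', hk', hB_pt, hB_pt, hxy, one_mul, one_mul] at this
      exact this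
    have hβ'surj : ∀ z, ∃ z', β' z' = z := by
      intro z
      refine ⟨t • (((β⁻¹ : GL (Fin b) F) : Matrix (Fin b) (Fin b) F) *ᵥ z), ?_⟩
      rw [hβ'a, Matrix.mulVec_smul, mulVec_inv_mulVec, smul_smul, inv_mul_cancel₀ ht, one_smul]
    by_cases hall : ∀ p, InL u u₂ (β' p - p)
    · -- then `k ∈ P_L`
      exfalso
      apply hkP
      apply mem_PLine_of_pt hkH
      intro x p hp1 hp2
      rw [hk']
      congr 1
      apply sub_eq_zero.mp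
      apply hB_nondeg hF
      intro z
      obtain ⟨z', rfl⟩ := hβ'surj z
      rw [map_sub, LinearMap.sub_apply, hβ'iso]
      have e := T.perp_of_InL (hall z') hp1 hp2
      rw [map_sub] at e
      linear_combination -e
    · push Not at hall
      obtain ⟨p₀, hp₀⟩ := hall
      refine ⟨β' p₀ - p₀, hp₀, fun x => ?_⟩
      have := hk1 (pt x p₀)
      rwa [hk', ← pt_sub_right] at this
  obtain ⟨y, hyL, hyS⟩ := hy
  -- (c) the dimension count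
  obtain ⟨Φ, hΦ⟩ : ∃ Φ : (Fin a → F) × (Fin a → F) × (Fin a → F) →ₗ[F] (Fin a × Fin b → F),
      ∀ x₁ x₂ x₃, Φ (x₁, x₂, x₃) = pt x₁ u + (pt x₂ u₂ + pt x₃ y) :=
    ⟨(ptL (I := Fin a) u).coprod ((ptL (I := Fin a) u₂).coprod (ptL (I := Fin a) y)),
      fun x₁ x₂ x₃ => rfl⟩
  have hΦinj : Function.Injective Φ := by
    rw [← LinearMap.ker_eq_bot, LinearMap.ker_eq_bot']
    rintro ⟨x₁, x₂, x₃⟩ hm
    rw [hΦ, ← add_assoc] at hm
    obtain ⟨e1, e2, e3⟩ := T.pt_triple_zero (fun c₁ c₂ hc => hyL ⟨c₁, c₂, hc⟩) x₁ x₂ x₃ hm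
    rw [e1, e2, e3]
    rfl
  have hΦle : LinearMap.range Φ ≤ Aw (I := Fin a) u ⊔ Aw (I := Fin a) u₂ ⊔ Bw h u' := by
    rintro v ⟨⟨x₁, x₂, x₃⟩, rfl⟩
    rw [hΦ]
    exact Submodule.add_mem _
      (Submodule.mem_sup_left (Submodule.mem_sup_left (mem_Aw.mpr ⟨_, rfl⟩)))
      (Submodule.add_mem _
        (Submodule.mem_sup_left (Submodule.mem_sup_right (mem_Aw.mpr ⟨_, rfl⟩))) (hyS x₃))
  have hΦfin : finrank F ↥(LinearMap.range Φ) = a + (a + a) := by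
    rw [LinearMap.finrank_range_of_inj hΦinj, Module.finrank_prod, Module.finrank_prod,
      finrank_fintype_fun_eq_card, Fintype.card_fin]
  have hAL : finrank F ↥(Aw (I := Fin a) u ⊔ Aw (I := Fin a) u₂) ≤ a + a := by
    have h1 := Submodule.finrank_add_le_finrank_add_finrank (Aw (I := Fin a) u)
      (Aw (I := Fin a) u₂)
    have h2 := finrank_Aw_le (I := Fin a) (F := F) u
    have h3 := finrank_Aw_le (I := Fin a) (F := F) u₂
    rw [Fintype.card_fin] at h2 h3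
    omega
  have hBf : finrank F ↥(Bw (I := Fin a) h u') ≤ a := by
    unfold Bw
    rw [LinearEquiv.finrank_map_eq]
    have := finrank_Aw_le (I := Fin a) (F := F) u'
    rwa [Fintype.card_fin] at this
  have hSf : finrank F ↥(Aw (I := Fin a) u ⊔ Aw (I := Fin a) u₂ ⊔ Bw h u') ≤ a + (a + a) := by
    have h1 := Submodule.finrank_add_le_finrank_add_finrank
      (Aw (I := Fin a) u ⊔ Aw (I := Fin a) u₂) (Bw h u')
    omega
  have hReq : LinearMap.range Φ = Aw (I := Fin a) u ⊔ Aw (I := Fin a) u₂ ⊔ Bw h u' :=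
    Submodule.eq_of_le_of_finrank_le hΦle (by rw [hΦfin]; exact hSf)
  constructor
  · have h1 := Submodule.finrank_sup_add_finrank_inf_eq
      (Aw (I := Fin a) u ⊔ Aw (I := Fin a) u₂) (Bw h u')
    rw [← hReq, hΦfin] at h1
    have h2 : finrank F ↥((Aw (I := Fin a) u ⊔ Aw (I := Fin a) u₂) ⊓ Bw h u') = 0 := by omega
    exact Submodule.finrank_eq_zero.mp h2
  · refine ⟨y, hyL, fun v hv => ?_⟩
    have hv' : v ∈ LinearMap.range Φ := by
      rw [hReq]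
      exact Submodule.mem_sup_right hv
    obtain ⟨⟨x₁, x₂, x₃⟩, rfl⟩ := hv'
    exact ⟨x₁, x₂, x₃, by rw [hΦ, add_assoc]⟩

end Cfsg.Agent.Lib.Helper1.TsU
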