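import Mathlib
import Cfsg.Agent.Lib.Helper1.TsU14

/-!
# Unitary tensor products: the global argument and maximality in coordinates
-/

set_option autoImplicit false
set_option maxHeartbeats 4000000
set_option maxRecDepth 100000
set_option linter.unusedSimpArgs false
set_option linter.unusedVariables false
set_option linter.unusedSectionVars false
set_option linter.style.longLine false
set_option linter.deprecated false

namespace Cfsg.Agent.Lib.Helper1.TsU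

open Module Matrix
open Cfsg
open Cfsg.Agent.Lib.Helper5.Herm Cfsg.Agent.Lib.Helper5.HermBridge
  Cfsg.Agent.Lib.Helper5.HermTv Cfsg.Agent.Lib.Helper5.HermEich
open Cfsg.Agent.Lib.Helper5.TensorSub
open Cfsg.Agent.Lib.Helper1.TsA
open Cfsg.Agent.Lib.Helper8.Tns

variable {F : Type*} [Field F] [Fintype F] {q : ℕ} {hF : Fintype.card F = q ^ 2}

local notation "σ" => Cfsg.Agent.Lib.Helper5.HermBridge.sigma hF

variable {a b : ℕ} {H : Subgroup (GL (Fin a × Fin b) F)}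

local notation "B₁" => hB hF (Fin a)
local notation "B₂" => hB hF (Fin b)
local notation "BV" => hB hF (Fin a × Fin b)
local notation "emb'" => Cfsg.Agent.Lib.Helper5.TensorFormSub.emb

/-- **the global argument**: a proper overgroup of the tensor product group in `SU(V)` lies in
the Kronecker group -/
theorem Ctx.le_krSub (C : Ctx hF H) (hab : a < b) : H ≤ krSub (Fin a) (Fin b) F := by
  classical
  intro h₀ hh₀
  by_contra hnk₀
  obtain ⟨e₀, f₀, he₀, _, hef₀⟩ := ex_hyp (n := b) hF (by have := C.hb; omega)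
  have he₀0 : e₀ ≠ 0 := ne_zero_of_hB_left hF (by rw [hef₀]; exact one_ne_zero)
  obtain ⟨Pd, hPddef⟩ : ∃ Pd : ℕ → Prop, Pd = fun n : ℕ =>
      ∃ (h : GL (Fin a × Fin b) F) (u u' : Fin b → F), h ∈ H ∧ h ∉ krSub (Fin a) (Fin b) F ∧
        u ≠ 0 ∧ B₂ u u = 0 ∧ u' ≠ 0 ∧ B₂ u' u' = 0 ∧
        finrank F ↥(Aw (I := Fin a) u ⊓ Bw h u') = n := ⟨_, rfl⟩
  have hPd : ∀ n, Pd n ↔ ∃ (h : GL (Fin a × Fin b) F) (u u' : Fin b → F), h ∈ H ∧
      h ∉ krSub (Fin a) (Fin b) F ∧ u ≠ 0 ∧ B₂ u u = 0 ∧ u' ≠ 0 ∧ B₂ u' u' = 0 ∧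
      finrank F ↥(Aw (I := Fin a) u ⊓ Bw h u') = n := by
    intro n
    rw [hPddef]
  have hbound : ∀ n, Pd n → n ≤ a := by
    intro n hn
    obtain ⟨h, u, u', -, -, -, -, -, -, hd⟩ := (hPd n).mp hn
    rw [← hd]
    have := finrank_Aw_le (I := Fin a) (F := F) u
    rw [Fintype.card_fin] at this
    exact le_trans (Submodule.finrank_mono inf_le_left) this
  have hP0 : Pd (finrank F ↥(Aw (I := Fin a) e₀ ⊓ Bw h₀ e₀)) :=
    (hPd _).mpr ⟨h₀, _, _, hh₀, hnk₀, he₀0, he₀, he₀0, he₀, rfl⟩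
  obtain ⟨n₀, hn₀def⟩ : ∃ n₀ : ℕ, n₀ = Nat.findGreatest Pd a := ⟨_, rfl⟩
  have hn₀ : Pd n₀ := by
    rw [hn₀def]
    exact Nat.findGreatest_spec (hbound _ hP0) hP0
  have hmaxn : ∀ n, Pd n → n ≤ n₀ := by
    intro n hn
    rw [hn₀def]
    exact Nat.le_findGreatest (hbound n hn) hn
  obtain ⟨h, u, u', hh, hnk, hu0, hu, hu'0, hu', hd⟩ := (hPd n₀).mp hn₀
  have hmax : ∀ (h₁ : GL (Fin a × Fin b) F) (u₁ u₁' : Fin b → F), h₁ ∈ H →
      h₁ ∉ krSub (Fin a) (Fin b) F → u₁ ≠ 0 → B₂ u₁ u₁ = 0 → u₁' ≠ 0 → B₂ u₁' u₁' = 0 →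
      finrank F ↥(Aw (I := Fin a) u₁ ⊓ Bw h₁ u₁') ≤ finrank F ↥(Aw (I := Fin a) u ⊓ Bw h u') := by
    intro h₁ u₁ u₁' hh₁ hnk₁ hu₁0 hu₁ hu₁'0 hu₁'
    rw [hd]
    exact hmaxn _ ((hPd _).mpr ⟨h₁, u₁, u₁', hh₁, hnk₁, hu₁0, hu₁, hu₁'0, hu₁', rfl⟩)
  have hS1 := C.S1_of_max hab hh hnk hu0 hu hu'0 hu' hmax
  obtain ⟨u₂, r, hu₂, hu₂u, huu₂, hli, hrr, hru, hru₂⟩ := ex_line hF C.hb u hu0 hu
  have T : TIL hF u u₂ := ⟨hu0, hu, hu₂, huu₂, hu₂u, hli⟩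
  obtain ⟨hbot, y, hyL, hB⟩ := C.line_analysis T hrr hru hru₂ hh hnk hu'0 hu' hS1
  have hn₀0 : n₀ = 0 := by
    rw [← hd]
    have h1 : Aw (I := Fin a) u ⊓ Bw h u' ≤
        (Aw (I := Fin a) u ⊔ Aw (I := Fin a) u₂) ⊓ Bw h u' := inf_le_inf_right _ le_sup_left
    rw [hbot] at h1
    rw [le_bot_iff.mp h1]
    exact finrank_bot F _
  obtain ⟨p, hp0, hp, hpu, hpu₂, hpy⟩ := ex_iso_perp3 hF C.hb u u₂ y
  have hS1' : ∀ v ∈ Bw h u', Cw hF p v = 0 → v ∈ Aw (I := Fin a) p := by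
    apply C.S1_of_max hab hh hnk hp0 hp hu'0 hu'
    intro h₂ v₂ v₂' hh₂ hnk₂ hv₂0 hv₂ hv₂'0 hv₂'
    have := hmaxn _ ((hPd _).mpr ⟨h₂, v₂, v₂', hh₂, hnk₂, hv₂0, hv₂, hv₂'0, hv₂', rfl⟩)
    rw [hn₀0] at this
    exact le_trans this (Nat.zero_le _)
  apply hnk
  apply C.stab_mem hh hp0 hu'0 hp hu'
  intro x
  have hv : (h : Matrix (Fin a × Fin b) (Fin a × Fin b) F) *ᵥ pt x u' ∈ Bw h u' :=
    mem_Bw.mpr ⟨x, rfl⟩
  obtain ⟨x₁, x₂, x₃, hx⟩ := hB _ hv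
  have hC : Cw hF p ((h : Matrix (Fin a × Fin b) (Fin a × Fin b) F) *ᵥ pt x u') = 0 := by
    rw [hx, map_add, map_add, Cw_pt, Cw_pt, Cw_pt, hB_eq_zero_symm hF hpu,
      hB_eq_zero_symm hF hpu₂, hB_eq_zero_symm hF hpy]
    simp only [zero_smul, add_zero]
  obtain ⟨x', hx'⟩ := mem_Aw.mp (hS1' _ hv hC)
  exact ⟨x', hx'.symm⟩

variable (hF)

/-- a transvection with pure isotropic centre lies in `SU(V)` but not in the Kronecker group -/
theorem exists_not_mem_krSub (ha : 2 ≤ a) (hb : 2 ≤ b) :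
    ∃ g ∈ SUV hF (Fin a × Fin b), g ∉ krSub (Fin a) (Fin b) F := by
  obtain ⟨x₀, x₀', hx₀, _, hxx'⟩ := ex_hyp hF ha
  obtain ⟨w₀, ws, hw₀, _, hww⟩ := ex_hyp hF hb
  have hx'x : B₁ x₀' x₀ = 1 := by rw [← hB_conj, hxx', map_one]
  have hwsw : B₂ ws w₀ = 1 := by rw [← hB_conj, hww, map_one]
  have hx₀0 : x₀ ≠ 0 := ne_zero_of_hB_left hF (by rw [hxx']; exact one_ne_zero)
  have hw₀0 : w₀ ≠ 0 := ne_zero_of_hB_left hF (by rw [hww]; exact one_ne_zero)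
  obtain ⟨c, hc0, hc⟩ := exT0 hF
  obtain ⟨v₀, hv₀def⟩ : ∃ v₀ : Fin a × Fin b → F, v₀ = pt x₀ w₀ := ⟨_, rfl⟩
  have hv₀ : BV v₀ v₀ = 0 := by rw [hv₀def, hB_pt, hx₀, zero_mul]
  have hv₀' : hB hF (Fin (a * b))
      (emb' (finProdFinEquiv.symm : Fin (a * b) ≃ Fin a × Fin b) (1 : GL (Fin (a * b)) F) v₀)
      (emb' (finProdFinEquiv.symm : Fin (a * b) ≃ Fin a × Fin b) (1 : GL (Fin (a * b)) F) v₀) =
      0 := by
    rw [hB_fin, hform_std hF, hv₀]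
  obtain ⟨t, htdef⟩ : ∃ t : ↥(Cfsg.GU (a * b) F q), t = tvG hF _ c hv₀' hc := ⟨_, rfl⟩
  have htS : (t : GL (Fin (a * b)) F) ∈
      Cfsg.GU (a * b) F q ⊓ Cfsg.Geo.specialLinear (Fin (a * b)) F := by
    rw [Cfsg.Agent.Lib.Helper5.SUCentres.mem_SU_iff]
    refine ⟨t.2, ?_⟩
    rw [htdef]
    exact tvG_det hF _ c hv₀' hc
  rw [← SUV_map_Phi hF (finProdFinEquiv.symm : Fin (a * b) ≃ Fin a × Fin b)
    (1 : GL (Fin (a * b)) F) (hform_std hF)] at htS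
  obtain ⟨g, hgS, hgt⟩ := Subgroup.mem_map.mp htS
  have hgt' : Phi (finProdFinEquiv.symm : Fin (a * b) ≃ Fin a × Fin b)
      (1 : GL (Fin (a * b)) F) g = (t : GL (Fin (a * b)) F) := hgt
  have hgv : ∀ v, (g : Matrix (Fin a × Fin b) (Fin a × Fin b) F) *ᵥ v =
      v + (c * BV v v₀) • v₀ := by
    intro v
    apply Cfsg.Agent.Lib.Helper5.TensorFormSub.emb_injective
      (finProdFinEquiv.symm : Fin (a * b) ≃ Fin a × Fin b) (1 : GL (Fin (a * b)) F)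
    rw [← Cfsg.Agent.Lib.Helper5.TensorFormSub.Phi_emb, hgt',
      Cfsg.Agent.Lib.Helper5.TensorFormSub.emb_add,
      Cfsg.Agent.Lib.Helper5.TensorFormSub.emb_smul, ← hform_std hF v v₀, htdef, ← hB_fin]
    exact tvG_act hF _ c hv₀' hc _
  refine ⟨g, hgS, ?_⟩
  intro hmem
  obtain ⟨α, β, hαβ⟩ := mem_krSub.mp hmem
  have hv₀0 : v₀ ≠ 0 := by
    rw [hv₀def]
    exact pt_ne_zero hx₀0 hw₀0
  have hS : finrank F ↥(Submodule.span F ({v₀} : Set (Fin a × Fin b → F))) <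
      Fintype.card (Fin b) := by
    rw [finrank_span_singleton (K := F) hv₀0, Fintype.card_fin]
    omega
  obtain ⟨c', hc'⟩ := kr_scalar_of_small α β
    (Submodule.span F ({v₀} : Set (Fin a × Fin b → F))) hS (fun v => by
      rw [← hαβ, hgv, add_sub_cancel_left]
      exact Submodule.smul_mem _ _ (Submodule.subset_span rfl))
  have h1 := hgv (pt x₀' ws)
  rw [hαβ, kr_mulVec_pt, hc', Matrix.smul_mulVec, Matrix.one_mulVec, pt_smul_left,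
    ← pt_smul_right, hv₀def, hB_pt, hx'x, hwsw, mul_one, mul_one] at h1
  have h3 := congrArg (Cu hF x₀) h1
  rw [map_add, map_smul, Cu_pt, Cu_pt, Cu_pt, hx'x, hx₀, one_smul, one_smul, zero_smul,
    smul_zero, add_zero] at h3
  rw [h3] at h1
  have h5 : c • pt x₀ w₀ = 0 := by
    have := congrArg (fun t => t - pt x₀' ws) h1
    simp only [sub_self, add_sub_cancel_left] at this
    exact this.symm
  rcases smul_eq_zero.mp h5 with h6 | h6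
  · exact hc0 h6
  · rw [← hv₀def] at h6
    exact hv₀0 h6

/-- **Maximality of `SU(U) ⊗ SU(W)` in `SU(U ⊗ W)`**, in coordinates -/
theorem core_U (ha : 2 ≤ a) (hb : 5 ≤ b) (hab : a < b) (hex : a = 2 → 3 ≤ q) :
    Cfsg.Geo.IsMaximalIn (SUV hF (Fin a × Fin b))
      (krSub (Fin a) (Fin b) F ⊓ SUV hF (Fin a × Fin b)) := by
  refine ⟨lt_of_le_of_ne inf_le_right ?_, ?_⟩
  · intro heq
    obtain ⟨g, hg, hgn⟩ := exists_not_mem_krSub hF ha (by omega : 2 ≤ b)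
    rw [← heq] at hg
    exact hgn hg.1
  · intro M hHM hMK
    by_cases hnot : SUV hF (Fin a × Fin b) ≤ M
    · right
      exact le_antisymm hMK hnot
    · left
      apply le_antisymm _ hHM
      have C : Ctx hF M := ⟨hHM, hMK, hnot, ha, hb, hex⟩
      exact le_inf (C.le_krSub hab) hMK

end Cfsg.Agent.Lib.Helper1.TsU
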