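import Mathlib
import Cfsg.Agent.Lib.Helper1.TsU15
import Cfsg.Agent.Lib.Helper8.Su1
import Cfsg.Agent.Lib.Helper8.Tns9
import Cfsg.Agent.Lib.Helper5.UnitaryFormTwo

/-!
# Unitary tensor products: transfer of the maximality theorem to `SU_n(q)`
-/

set_option autoImplicit false
set_option maxHeartbeats 4000000
set_option maxRecDepth 100000
set_option linter.unusedSimpArgs false
set_option linter.unusedVariables false
set_option linter.unusedSectionVars false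
set_option linter.style.longLine false
set_option linter.deprecated false

namespace Cfsg.Agent.Lib.Helper1.TsU

open Module Matrix
open Cfsg
open Cfsg.Agent.Lib.Helper5.Herm Cfsg.Agent.Lib.Helper5.HermBridge
  Cfsg.Agent.Lib.Helper5.HermTv Cfsg.Agent.Lib.Helper5.HermEich
open Cfsg.Agent.Lib.Helper5.TensorSub
open Cfsg.Agent.Lib.Helper1.TsA
open Cfsg.Agent.Lib.Helper8.Tns

variable {F : Type*} [Field F] [Fintype F] {q : ℕ} (hF : Fintype.card F = q ^ 2)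

local notation "σ" => Cfsg.Agent.Lib.Helper5.HermBridge.sigma hF

variable {a b n : ℕ}

local notation "emb'" => Cfsg.Agent.Lib.Helper5.TensorFormSub.emb

/-- changing the base point of `Phi` by an element of its image -/
theorem Phi_conj (e : Fin n ≃ Fin a × Fin b) (P : GL (Fin n) F) (M x : GL (Fin a × Fin b) F) :
    Phi e (Phi e P M * P) x = Phi e P (M * x * M⁻¹) := by
  rw [map_mul, map_mul, map_inv]
  show (MulAut.conj (Phi e P M * P)) (Cfsg.Geo.glReindex e.symm x) =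
    Phi e P M * (MulAut.conj P) (Cfsg.Geo.glReindex e.symm x) * (Phi e P M)⁻¹
  rw [MulAut.conj_apply, MulAut.conj_apply, _root_.mul_inv_rev]
  group

/-- the tensor product subgroup does not change under a Kronecker change of basis -/
theorem tensor_conj_eq (e : Fin n ≃ Fin a × Fin b) (P : GL (Fin n) F) (g₁ : GL (Fin a) F)
    (g₂ : GL (Fin b) F) :
    Cfsg.Geo.tensorProductSubgroup a b e (Phi e P (kron g₁ g₂) * P) =
      Cfsg.Geo.tensorProductSubgroup a b e P := by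
  ext g
  rw [mem_tensor, mem_tensor]
  constructor
  · rintro ⟨x, y, rfl⟩
    refine ⟨g₁ * x * g₁⁻¹, g₂ * y * g₂⁻¹, ?_⟩
    rw [Phi_conj, kron_mul, kron_mul, kron_inv]
  · rintro ⟨x, y, rfl⟩
    refine ⟨g₁⁻¹ * x * g₁, g₂⁻¹ * y * g₂, ?_⟩
    rw [Phi_conj, kron_mul, kron_mul, ← kron_inv]
    congr 1
    group

include hF in
/-- **Maximality of `SU_{n₁}(q) ⊗ SU_{n₂}(q)` in `SU_n(q)`** -/
theorem transfer_U (n₁ n₂ : ℕ) (h1 : 2 ≤ n₁) (hb : 5 ≤ n₂) (h12 : n₁ < n₂)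
    (hex : n₁ = 2 → 3 ≤ q)
    (e : Fin n ≃ Fin n₁ × Fin n₂) (P : GL (Fin n) F)
    (f₁ : (Fin n₁ → F) → (Fin n₁ → F) → F) (f₂ : (Fin n₂ → F) → (Fin n₂ → F) → F)
    (hf₁ : Cfsg.Geo.IsUnitaryFormPow q f₁) (hf₂ : Cfsg.Geo.IsUnitaryFormPow q f₂)
    (hT : Cfsg.Geo.IsTensorFormStructure (fun x : F => x ^ q) (Cfsg.hermForm n F q) f₁ f₂ e P) :
    Cfsg.Geo.IsMaximalIn (Cfsg.GU n F q ⊓ Cfsg.Geo.specialLinear (Fin n) F)
      (Cfsg.Geo.tensorProductSubgroup n₁ n₂ e P ⊓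
        (Cfsg.GU n F q ⊓ Cfsg.Geo.specialLinear (Fin n) F)) := by
  classical
  obtain ⟨c, hc0, hc⟩ := hT
  have hpt := Cfsg.Agent.Lib.Helper5.UnitaryFormTwo.form_pt_pow hF e P hf₁ hf₂ hc
  obtain ⟨T₁, hT₁⟩ := Cfsg.Agent.Lib.Helper8.Su.exists_std hF hf₁
  obtain ⟨T₂, hT₂⟩ := Cfsg.Agent.Lib.Helper8.Su.exists_std hF hf₂
  -- the multiplier is fixed by the involution
  have hcfix : σ c = c := by
    have h1' : (0 : ℕ) < n₁ := by omega
    have h2' : (0 : ℕ) < n₂ := by omega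
    have hx : hermForm n₁ F q (Pi.single ⟨0, h1'⟩ 1) (Pi.single ⟨0, h1'⟩ 1) = 1 := by
      rw [← hB_fin hF, hB_single_right]
      simp
    have hy : hermForm n₂ F q (Pi.single ⟨0, h2'⟩ 1) (Pi.single ⟨0, h2'⟩ 1) = 1 := by
      rw [← hB_fin hF, hB_single_right]
      simp
    have h3 := hpt ((T₁ : Matrix (Fin n₁) (Fin n₁) F) *ᵥ Pi.single ⟨0, h1'⟩ 1)
      ((T₁ : Matrix (Fin n₁) (Fin n₁) F) *ᵥ Pi.single ⟨0, h1'⟩ 1)
      ((T₂ : Matrix (Fin n₂) (Fin n₂) F) *ᵥ Pi.single ⟨0, h2'⟩ 1)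
      ((T₂ : Matrix (Fin n₂) (Fin n₂) F) *ᵥ Pi.single ⟨0, h2'⟩ 1)
    rw [hT₁, hT₂, hx, hy, mul_one, mul_one] at h3
    rw [← h3, ← hB_fin hF]
    exact hB_self_fixed hF _
  obtain ⟨s, hs⟩ := exNorm hF c⁻¹ (inv_ne_zero hc0) (by rw [map_inv₀, hcfix])
  have hs0 : s ≠ 0 := by
    rintro rfl
    rw [zero_mul] at hs
    exact inv_ne_zero hc0 hs.symm
  obtain ⟨S, hSdef⟩ : ∃ S : GL (Fin n₁) F,
      S = glOf (LinearEquiv.smulOfNeZero F (Fin n₁ → F) s hs0) := ⟨_, rfl⟩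
  have hS : ∀ x : Fin n₁ → F, (S : Matrix (Fin n₁) (Fin n₁) F) *ᵥ x = s • x := by
    intro x
    rw [hSdef, glOf_mulVec]
    rfl
  obtain ⟨g₁, hg₁def⟩ : ∃ g₁ : GL (Fin n₁) F, g₁ = T₁ * S := ⟨_, rfl⟩
  have hg₁ : ∀ x x' : Fin n₁ → F, f₁ ((g₁ : Matrix (Fin n₁) (Fin n₁) F) *ᵥ x)
      ((g₁ : Matrix (Fin n₁) (Fin n₁) F) *ᵥ x') = c⁻¹ * hB hF (Fin n₁) x x' := by
    intro x x'
    rw [hg₁def, Units.val_mul, ← Matrix.mulVec_mulVec, ← Matrix.mulVec_mulVec, hT₁, hS, hS,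
      ← hB_fin hF]
    simp only [map_smul, LinearMap.smul_apply, LinearMap.map_smulₛₗ, smul_eq_mul]
    linear_combination (hB hF (Fin n₁) x x') * hs
  obtain ⟨M, hM⟩ : ∃ M : GL (Fin n₁ × Fin n₂) F, M = kron g₁ T₂ := ⟨_, rfl⟩
  obtain ⟨P', hP'⟩ : ∃ P' : GL (Fin n) F, P' = Phi e P M * P := ⟨_, rfl⟩
  have hemb : ∀ v : Fin n₁ × Fin n₂ → F, emb' e P' v =
      emb' e P ((M : Matrix (Fin n₁ × Fin n₂) (Fin n₁ × Fin n₂) F) *ᵥ v) := by
    intro v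
    rw [← Cfsg.Agent.Lib.Helper5.TensorFormSub.Phi_emb, hP']
    unfold Cfsg.Agent.Lib.Helper5.TensorFormSub.emb
    rw [Units.val_mul, Matrix.mulVec_mulVec]
  have hMpt : ∀ (x : Fin n₁ → F) (y : Fin n₂ → F),
      (M : Matrix (Fin n₁ × Fin n₂) (Fin n₁ × Fin n₂) F) *ᵥ pt x y =
        pt ((g₁ : Matrix (Fin n₁) (Fin n₁) F) *ᵥ x) ((T₂ : Matrix (Fin n₂) (Fin n₂) F) *ᵥ y) := by
    intro x y
    rw [hM]
    exact Cfsg.Agent.Lib.Helper8.Tns.kron_mulVec_pt _ _ x y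
  have hform : ∀ v v' : Fin n₁ × Fin n₂ → F,
      hermForm n F q (emb' e P' v) (emb' e P' v') = hB hF (Fin n₁ × Fin n₂) v v' := by
    intro v
    refine pt_induction (P := fun v => ∀ v', hermForm n F q (emb' e P' v) (emb' e P' v') =
      hB hF (Fin n₁ × Fin n₂) v v') ?_ ?_ ?_ v
    · intro v'
      rw [Cfsg.Agent.Lib.Helper5.TensorFormSub.emb_zero, ← hB_fin hF, map_zero, map_zero,
        LinearMap.zero_apply, LinearMap.zero_apply]
    · intro x y hx hy v'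
      rw [Cfsg.Agent.Lib.Helper5.TensorFormSub.emb_add, ← hB_fin hF, map_add,
        LinearMap.add_apply, hB_fin, hB_fin, hx, hy, map_add, LinearMap.add_apply]
    · intro x y v'
      refine pt_induction (P := fun v' => hermForm n F q (emb' e P' (pt x y)) (emb' e P' v') =
        hB hF (Fin n₁ × Fin n₂) (pt x y) v') ?_ ?_ ?_ v'
      · rw [Cfsg.Agent.Lib.Helper5.TensorFormSub.emb_zero, ← hB_fin hF, map_zero, map_zero]
      · intro w w' hw hw'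
        rw [Cfsg.Agent.Lib.Helper5.TensorFormSub.emb_add, ← hB_fin hF, map_add, hB_fin, hB_fin,
          hw, hw', map_add]
      · intro x' y'
        rw [hemb, hemb, hMpt, hMpt, hB_pt]
        have h4 := hpt ((g₁ : Matrix (Fin n₁) (Fin n₁) F) *ᵥ x)
          ((g₁ : Matrix (Fin n₁) (Fin n₁) F) *ᵥ x')
          ((T₂ : Matrix (Fin n₂) (Fin n₂) F) *ᵥ y) ((T₂ : Matrix (Fin n₂) (Fin n₂) F) *ᵥ y')
        rw [hg₁, hT₂] at h4
        refine h4.trans ?_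
        rw [hB_fin, hB_fin, ← mul_assoc, ← mul_assoc, mul_inv_cancel₀ hc0, one_mul]
  have hcore := core_U hF h1 hb h12 hex
  have hmap := Cfsg.Agent.Lib.Helper8.Tns.isMaximalIn_map (Phi e P') hcore
  rw [Subgroup.map_inf _ _ _ (Phi e P').injective, SUV_map_Phi hF e P' hform,
    ← Cfsg.Agent.Lib.Helper8.Tns.kroneckerSubgroup_eq, ← tensor_eq, hP', hM,
    tensor_conj_eq] at hmap
  exact hmap

end Cfsg.Agent.Lib.Helper1.TsU
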