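import Mathlib
import Cfsg.Agent.Lib.Helper5.Tw6Ev.Defs
import Cfsg.Agent.Lib.Helper5.ChevSymPCore
import Cfsg.Agent.Lib.Helper5.Tw2E6U

set_option autoImplicit false

/-!
# Farm 2E6EV (S2182), unit F : the fusion `x₆₆(1) x₆₈(1) ∼ x₇₁(1) x₆₆(1) x₆₈(1)` in `²E₆(q)`

With `s + s^q = 1` the element `x₅₀(s) x₄₈(s^q)` of `²E₆(q)` conjugates the one into the other.
-/

namespace Cfsg.Agent.Lib.Helper1.Tw6Ev

open Cfsg Cfsg.Lie Cfsg.Agent.Lib.Helper5.ChevSym Cfsg.Agent.Lib.Helper5.ChevSymP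
  Cfsg.Agent.Lib.Helper5.ChevStruct Cfsg.Agent.Lib.Helper5.Tw2E6 Cfsg.Agent.Lib.Helper5.Tw6Ev

/-- the 78 columns -/
def colsF : List ℕ := List.range 78

set_option maxRecDepth 1000000 in
theorem suppF_le : ∀ r < 72, ∀ c ∈ supp chevE6 r, c ∈ colsF := by decide +kernel

theorem facts_F : commOK chevE6 48 50 = true ∧ gE6.pr.getD 50 0 = 48 ∧ gE6.pr.getD 48 0 = 50 ∧
    (gE6.eps.getD 50 1 = 1 ∨ gE6.eps.getD 50 1 = -1) ∧
    (gE6.eps.getD 48 1 = 1 ∨ gE6.eps.getD 48 1 = -1) ∧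
    chevE6.IsPosRoot 50 ∧ chevE6.IsPosRoot 48 := by
  decide +kernel

/-- variables `s = 0`, `s' = 1` -/
def fw1 : List (ℕ × PolyP) :=
  [(50, [([1, 0], 1)]), (48, [([0, 1], 1)]), (66, [([], 1)]), (68, [([], 1)])]

def fw2 : List (ℕ × PolyP) :=
  [(71, [([1, 0], 1), ([0, 1], 1)]), (66, [([], 1)]), (68, [([], 1)]),
   (50, [([1, 0], 1)]), (48, [([0, 1], 1)])]

set_option maxRecDepth 1000000 in
theorem chk_F : ∀ col ∈ colsF,
    vecEqP 2 (wordColP chevE6 2 fw1 col) (wordColP chevE6 2 fw2 col) = true := by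
  decide +kernel

section

variable {K : Type*} [Field K]

/-- the identity `x₅₀(s) x₄₈(s') x₆₆(1) x₆₈(1) = x₇₁(s + s') x₆₆(1) x₆₈(1) x₅₀(s) x₄₈(s')` -/
theorem ident_F (hp : ((2 : ℕ) : K) = 0) (s s' : K) :
    xGL chevE6 hE6 50 s * xGL chevE6 hE6 48 s' * (xGL chevE6 hE6 66 1 * xGL chevE6 hE6 68 1)
      = xGL chevE6 hE6 71 (s + s') * (xGL chevE6 hE6 66 1 * xGL chevE6 hE6 68 1) *
        (xGL chevE6 hE6 50 s * xGL chevE6 hE6 48 s') := by
  have h := wordMat_eq_of_colsP chevE6 2 [s, s'] hp fw1 fw2 colsF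
    (fun rp hrp => suppF_le rp.1 (by
      simp only [fw1, fw2, List.cons_append, List.nil_append, List.mem_cons, List.not_mem_nil,
        or_false] at hrp
      rcases hrp with rfl | rfl | rfl | rfl | rfl | rfl | rfl | rfl | rfl <;> decide)) chk_F
  have e1 : evalWP [s, s'] fw1 = [(50, s), (48, s'), (66, 1), (68, 1)] := by
    simp [evalWP, fw1, evalPolyP, evalMonoP, monoVal]
  have e2 : evalWP [s, s'] fw2 = [(71, s + s'), (66, 1), (68, 1), (50, s), (48, s')] := by
    simp [evalWP, fw2, evalPolyP, evalMonoP, monoVal]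
  rw [e1, e2] at h
  apply Units.ext
  have a1 : xGL chevE6 hE6 50 s * xGL chevE6 hE6 48 s' *
      (xGL chevE6 hE6 66 1 * xGL chevE6 hE6 68 1)
      = wordGL chevE6 hE6 [(50, s), (48, s'), (66, 1), (68, 1)] := by
    simp [wordGL, mul_assoc]
  have a2 : xGL chevE6 hE6 71 (s + s') * (xGL chevE6 hE6 66 1 * xGL chevE6 hE6 68 1) *
        (xGL chevE6 hE6 50 s * xGL chevE6 hE6 48 s')
      = wordGL chevE6 hE6 [(71, s + s'), (66, 1), (68, 1), (50, s), (48, s')] := by
    simp [wordGL, mul_assoc]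
  rw [a1, a2, wordGL_val, wordGL_val]
  exact h

end

section

variable {K : Type*} [Field K] [Fintype K] [CharP K 2] {q : ℕ}
  (hK : Fintype.card K = q ^ 2) (f : K →+* K) (hf : ∀ x, f x = x ^ q) (hf2 : ∀ x, f (f x) = x)

include hK hf in
/-- some element is moved by the Frobenius map -/
theorem exists_moved : ∃ a : K, f a ≠ a := by
  classical
  by_contra hall
  have hall : ∀ a : K, f a = a := fun a => by
    by_contra h
    exact hall ⟨a, h⟩
  have hq1 : 1 < q := by
    have h1 : 1 < Fintype.card K := Fintype.one_lt_card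
    rw [hK] at h1
    by_contra hq
    have : q ≤ 1 := by omega
    have : q ^ 2 ≤ 1 := by
      calc q ^ 2 ≤ 1 ^ 2 := Nat.pow_le_pow_left this 2
        _ = 1 := by norm_num
    omega
  obtain ⟨g, hg⟩ := IsCyclic.exists_generator (α := Kˣ)
  have hord : orderOf g = Fintype.card Kˣ := by
    rw [orderOf_eq_card_of_forall_mem_zpowers hg, Nat.card_eq_fintype_card]
  have hg1 : g ^ (q - 1) = 1 := by
    have h1 : (g : K) ^ q = g := by rw [← hf]; exact hall _
    apply Units.ext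
    rw [Units.val_pow_eq_pow_val, Units.val_one]
    have h2 : (g : K) ^ (q - 1) * g = 1 * g := by
      rw [← pow_succ, Nat.sub_add_cancel hq1.le, h1, one_mul]
    exact mul_right_cancel₀ g.ne_zero h2
  have hdvd := orderOf_dvd_of_pow_eq_one hg1
  rw [hord, Fintype.card_units, hK] at hdvd
  have hle := Nat.le_of_dvd (by omega) hdvd
  have : q ^ 2 = q * q := sq q
  have : q * q ≥ 2 * q := Nat.mul_le_mul_right q hq1
  omega

include hK hf hf2 in
/-- an element of trace `1` -/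
theorem exists_trace_one : ∃ s : K, s + f s = 1 := by
  obtain ⟨a, ha⟩ := exists_moved hK f hf
  have hne : a + f a ≠ 0 := by
    intro h0
    apply ha
    have : f a = -a := eq_neg_of_add_eq_zero_right h0
    rw [this, CharTwo.neg_eq]
  refine ⟨a / (a + f a), ?_⟩
  rw [map_div₀, map_add, hf2, add_comm (f a) a, ← add_div, div_self hne]

include hK hf hf2 in
/-- Unit F: the fusion that does not happen in `F₄(q)` -/
theorem F_trace_fuse : ∃ g ∈ twistedE6 K q, g * yE K 1 * g⁻¹ = yE K 2 := by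
  obtain ⟨s, hs⟩ := exists_trace_one hK f hf hf2
  obtain ⟨hc, p1, p2, e1, e2, pos1, pos2⟩ := facts_F
  have hp : ((2 : ℕ) : K) = 0 := CharP.cast_eq_zero K 2
  have hm1 : ((-1 : ℤ) : K) = 1 := by
    rw [Int.cast_neg, Int.cast_one, CharTwo.neg_eq]
  have he1 : ((gE6.eps.getD 50 1 : ℤ) : K) = 1 := by
    rcases e1 with h | h <;> rw [h]
    · exact Int.cast_one
    · exact hm1
  have he2 : ((gE6.eps.getD 48 1 : ℤ) : K) = 1 := by
    rcases e2 with h | h <;> rw [h]
    · exact Int.cast_one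
    · exact hm1
  refine ⟨xGL chevE6 hE6 50 s * xGL chevE6 hE6 48 (f s), ?_, ?_⟩
  · apply pos_fix_le_twisted f hf hf2
    rw [Subgroup.mem_inf]
    refine ⟨mul_mem (xGL_mem_pos chevE6 hE6 50 pos1 s) (xGL_mem_pos chevE6 hE6 48 pos2 (f s)), ?_⟩
    rw [mem_sigmaFix]
    have hw : xGL chevE6 hE6 50 s * xGL chevE6 hE6 48 (f s)
        = wordGL chevE6 hE6 [(50, s), (48, f s)] := by simp [wordGL]
    rw [hw, sigma_wordGL chevE6 hE6 gE6 chkGraphPerm_gE6 (fun r hr => chkGraph_gE6 r hr) f _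
      (by simp only [List.mem_cons, List.not_mem_nil, or_false]; rintro p (rfl | rfl)
          · show 50 < chevE6.nroots
            decide
          · show 48 < chevE6.nroots
            decide)]
    simp only [List.map_cons, List.map_nil, p1, p2, he1, he2, one_mul, hf2]
    simp only [wordGL, List.map_cons, List.map_nil, List.prod_cons, List.prod_nil, mul_one]
    exact (xGL_commute chevE6 hE6 _ _ hc _ _).eq
  · have h := ident_F hp s (f s)
    rw [hs] at h
    show _ * (xGL chevE6 hE6 66 1 * xGL chevE6 hE6 68 1) * _⁻¹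
      = xGL chevE6 hE6 71 1 * (xGL chevE6 hE6 66 1 * xGL chevE6 hE6 68 1)
    rw [h]
    group

end

end Cfsg.Agent.Lib.Helper1.Tw6Ev
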