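import Mathlib
import Cfsg.Prelude.Def_ChevE6
import Cfsg.Agent.Lib.Helper2.RankGen

set_option autoImplicit false

/-! rank certificates for products of root elements of `chevE6`, characteristic 2 (generated) -/

namespace Cfsg.Agent.Lib.Helper1.Tw6EvRank

open Cfsg Cfsg.Lie Cfsg.Agent.Lib.Helper5.ChevSym Cfsg.Agent.Lib.Helper5.ChevSymP
  Cfsg.Agent.Lib.Helper2.RankGen

/-- the roots of the representative `y0` (rank of `y0 - 1` is 22) -/
def ys0 : List ℕ := [71]
def basis0 : List ℕ :=
  [1, 6, 7, 8, 9, 10, 11, 12, 13, 14, 15, 16, 22, 23, 24, 25, 26, 27, 28, 29, 30, 31]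
def combo0 : List (List ℕ) :=
  [[], [1], [], [], [], [], [6], [7], [8], [9], [10], [11], [12], [13], [14], [15], [16], [], [], [], [], [], [22], [23], [24], [25], [26], [27], [28], [29], [30], [31], [], [], [], [], [], [], [], [], [], [], [], [], [], [], [], [], [], [], [], [], [], [], [], [], [], [], [], [], [], [], [], [], [], [], [], [], [], [], [], [], [], [], [], [], [], []]
def rowsL0 : List (List ℕ) :=
  [[0, 77], [76], [75], [74], [73], [72], [71], [70], [69], [68], [67], [61], [60], [59], [58], [57], [56], [55], [54], [53], [52], [0]]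
def colA0 : List ℕ :=
  [1, 31, 30, 29, 28, 27, 26, 25, 24, 23, 22, 16, 15, 14, 13, 12, 11, 10, 9, 8, 7, 6]

set_option maxRecDepth 1000000 in
theorem chkUp0 : chkUp chevE6 (sW ys0) basis0 combo0 = true := by decide +kernel

set_option maxRecDepth 1000000 in
theorem chkLow0 : chkLow chevE6 (sW ys0) rowsL0 colA0 = true := by decide +kernel

theorem basis0_length : basis0.length = 22 := by decide
theorem colA0_length : colA0.length = 22 := by decide

/-- the roots of the representative `y1` (rank of `y1 - 1` is 32) -/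
def ys1 : List ℕ := [66, 68]
def basis1 : List ℕ :=
  [0, 2, 6, 7, 8, 9, 10, 11, 12, 13, 14, 15, 16, 17, 18, 19, 20, 21, 22, 23, 25, 27, 28, 32, 34, 35, 36, 39, 41, 43, 46, 54]
def combo1 : List (List ℕ) :=
  [[0], [], [2], [], [2], [0, 2], [6], [7], [8], [9], [10], [11], [12], [13], [14], [15], [16], [17], [18], [19], [20], [21], [22], [23], [], [25], [], [27], [28], [27], [], [], [32], [], [34], [35], [36], [34], [], [39], [35], [41], [], [43], [], [], [46], [], [43], [46], [], [], [], [], [54], [], [54], [], [], [], [], [], [], [], [], [], [], [], [], [], [], [], [], [], [], [], [], []]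
def rowsL1 : List (List ℕ) :=
  [[0, 2, 74], [54, 77], [46, 76], [43, 75], [2, 72], [35, 71], [34, 69], [27, 66], [73], [70], [68], [67], [65], [64], [63], [62], [61], [60], [58], [55], [54], [51], [47], [46], [44], [43], [42], [35], [34], [27], [2], [0]]
def colA1 : List ℕ :=
  [2, 54, 46, 43, 0, 35, 34, 27, 41, 39, 36, 32, 28, 25, 23, 22, 21, 20, 19, 18, 17, 16, 15, 14, 13, 12, 10, 8, 7, 6, 11, 9]

set_option maxRecDepth 1000000 in
theorem chkUp1 : chkUp chevE6 (sW ys1) basis1 combo1 = true := by decide +kernel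

set_option maxRecDepth 1000000 in
theorem chkLow1 : chkLow chevE6 (sW ys1) rowsL1 colA1 = true := by decide +kernel

theorem basis1_length : basis1.length = 32 := by decide
theorem colA1_length : colA1.length = 32 := by decide

/-- the roots of the representative `y2` (rank of `y2 - 1` is 38) -/
def ys2 : List ℕ := [54, 64, 69]
def basis2 : List ℕ :=
  [0, 2, 3, 6, 7, 8, 9, 10, 11, 12, 13, 14, 15, 16, 17, 18, 19, 20, 21, 22, 23, 24, 25, 26, 27, 28, 29, 30, 32, 33, 34, 35, 36, 37, 38, 39, 40, 42]
def combo2 : List (List ℕ) :=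
  [[0], [], [2], [3], [0, 2], [0], [6], [7], [8], [9], [10], [11], [12], [13], [14], [15], [16], [17], [18], [19], [20], [21], [22], [23], [24], [25], [26], [27], [28], [29], [30], [], [32], [33], [34], [35], [36], [37], [38], [39], [40], [21], [42], [20], [35], [15, 25, 30], [], [], [39], [], [], [15, 25, 30], [], [18, 32, 38], [], [], [], [], [18, 32, 38], [], [], [], [42], [40], [], [15, 25, 30], [], [], [18, 32, 38], [], [], [], [], [], [], [], [], []]
def rowsL2 : List (List ℕ) :=
  [[1, 60, 70, 75], [2, 60, 70], [53, 77], [45, 76], [40, 74], [39, 73], [35, 72], [42, 71], [18, 68], [15, 65], [20, 61], [21, 59], [18, 53], [15, 45], [0, 1], [69], [67], [66], [64], [60], [57], [56], [55], [54], [50], [49], [47], [46], [42], [40], [39], [35], [21], [20], [18], [15], [2], [0]]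
def colA2 : List ℕ :=
  [3, 2, 38, 30, 40, 39, 35, 42, 32, 25, 20, 21, 18, 15, 23, 33, 37, 26, 29, 0, 17, 36, 34, 19, 14, 28, 27, 16, 24, 22, 11, 10, 12, 9, 7, 6, 13, 8]

set_option maxRecDepth 1000000 in
theorem chkUp2 : chkUp chevE6 (sW ys2) basis2 combo2 = true := by decide +kernel

set_option maxRecDepth 1000000 in
theorem chkLow2 : chkLow chevE6 (sW ys2) rowsL2 colA2 = true := by decide +kernel

theorem basis2_length : basis2.length = 38 := by decide
theorem colA2_length : colA2.length = 38 := by decide

section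
variable {K : Type*} [Field K]

/-- `rank (y0 - 1) = 22` -/
theorem rank_y0 (hp : ((2 : ℕ) : K) = 0) :
    ((ys0.map fun r => chevE6.x K r 1).prod - 1).rank = 22 := by
  apply le_antisymm
  · have := rank_le_prod hp chevE6 ys0 basis0 combo0 chkUp0
    rwa [basis0_length] at this
  · have := rank_ge_prod hp chevE6 ys0 rowsL0 colA0 chkLow0
    rwa [colA0_length] at this

/-- `rank (y1 - 1) = 32` -/
theorem rank_y1 (hp : ((2 : ℕ) : K) = 0) :
    ((ys1.map fun r => chevE6.x K r 1).prod - 1).rank = 32 := by
  apply le_antisymm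
  · have := rank_le_prod hp chevE6 ys1 basis1 combo1 chkUp1
    rwa [basis1_length] at this
  · have := rank_ge_prod hp chevE6 ys1 rowsL1 colA1 chkLow1
    rwa [colA1_length] at this

/-- `rank (y2 - 1) = 38` -/
theorem rank_y2 (hp : ((2 : ℕ) : K) = 0) :
    ((ys2.map fun r => chevE6.x K r 1).prod - 1).rank = 38 := by
  apply le_antisymm
  · have := rank_le_prod hp chevE6 ys2 basis2 combo2 chkUp2
    rwa [basis2_length] at this
  · have := rank_ge_prod hp chevE6 ys2 rowsL2 colA2 chkLow2
    rwa [colA2_length] at this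

end

end Cfsg.Agent.Lib.Helper1.Tw6EvRank
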