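import Mathlib
import Cfsg.Agent.Lib.Helper5.Tw6Ev.Defs
import Cfsg.Agent.Lib.Helper1.Tw6EvRank

set_option autoImplicit false

/-!
# Farm 2E6EV (S2182), unit R : the representatives `yE 0, yE 1, yE 3` have ranks `22, 32, 38`
and are pairwise not conjugate in `GL`.
-/

namespace Cfsg.Agent.Lib.Helper1.Tw6Ev

open Cfsg Cfsg.Lie Cfsg.Agent.Lib.Helper5.ChevSym Cfsg.Agent.Lib.Helper5.ChevStruct
  Cfsg.Agent.Lib.Helper5.Tw2E6 Cfsg.Agent.Lib.Helper5.Tw6Ev Cfsg.Agent.Lib.Helper2.RankGen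
  Cfsg.Agent.Lib.Helper1.Tw6EvRank

variable {K : Type*} [Field K]

/-- the exact ranks -/
theorem rank_yE [CharP K 2] :
    ((yE K 0 : Matrix chevE6.Idx chevE6.Idx K) - 1).rank = 22 ∧
    ((yE K 1 : Matrix chevE6.Idx chevE6.Idx K) - 1).rank = 32 ∧
    ((yE K 3 : Matrix chevE6.Idx chevE6.Idx K) - 1).rank = 38 := by
  have hp : ((2 : ℕ) : K) = 0 := CharP.cast_eq_zero K 2
  refine ⟨?_, ?_, ?_⟩
  · have := rank_y0 (K := K) hp
    simpa [yE, ys0] using this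
  · have := rank_y1 (K := K) hp
    simpa [yE, ys1] using this
  · have := rank_y2 (K := K) hp
    simpa [yE, ys2, mul_assoc] using this

theorem fin4_sep (r : Fin 4 → ℕ) (r0 : r 0 = 22) (r1 : r 1 = 32) (r3 : r 3 = 38)
    (k l : Fin 4) (hk : k ≠ 2) (hl : l ≠ 2) (hkl : r l = r k) : k = l := by
  fin_cases k <;> fin_cases l <;> simp_all

/-- Unit R: ranks `22, 32, 38` of `y - 1` -/
theorem R_not_conj [CharP K 2] (k l : Fin 4) (hk : k ≠ 2) (hl : l ≠ 2) (h : GL chevE6.Idx K)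
    (e : h * yE K k * h⁻¹ = yE K l) : k = l := by
  obtain ⟨h0, h1, h3⟩ := rank_yE (K := K)
  have hr := rank_conj h (yE K k)
  rw [e] at hr
  exact fin4_sep (fun k => ((yE K k : Matrix chevE6.Idx chevE6.Idx K) - 1).rank) h0 h1 h3 k l
    hk hl hr

end Cfsg.Agent.Lib.Helper1.Tw6Ev
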