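import Mathlib
import Cfsg.Agent.Lib.Helper1.TwAutA2b
import Cfsg.Agent.Lib.Helper4.TwAutA2a

/-!
# TWOUT unit A2b, final verbatim statements

`mem_diag_iff` and `mapsT_diag`, obtained from the conditional versions of `TwAutA2b` and
helper4's A2a (`mem_borel_iff`).
-/

namespace Cfsg.Agent.Lib.Helper1.TwAut

open Cfsg Cfsg.Lie Cfsg.Agent.Lib.Helper5.ChevStruct Cfsg.Agent.Lib.Helper5.ChevSym
open Cfsg.Agent.Lib.Helper5.TwAut Cfsg.Agent.Lib.Helper5.RankOneHom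

variable {K : Type*} [Field K] [Fintype K] (D : ChevalleyDatum) (hD : D ∈ Seven) (G : GraphData)
  (hp : checkGraphPerm D G = true) (f : K →+* K) (rho : Equiv.Perm (Fin D.rank))
  (orbs : List (List ℕ)) (G1 : Subgroup (GL D.Idx K)) (m : ℕ)
  (hyp : TwAutHyp D hD G hp f rho orbs G1 m)

include hyp in
/-- A2b : `H ∩ G1 = N_{G1}(U ∩ G1) ∩ N_{G1}(V ∩ G1)` -/
theorem mem_diag_iff (g : GL D.Idx K) (hg : g ∈ G1) :
    g ∈ D.diagonalSubgroup K ↔
      (∀ u ∈ D.posUnipotent K ⊓ G1, g * u * g⁻¹ ∈ D.posUnipotent K) ∧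
      (∀ v ∈ D.negUnipotent K ⊓ G1, g * v * g⁻¹ ∈ D.negUnipotent K) :=
  mem_diag_iff_of D hD G hp f rho orbs G1 m hyp
    (fun g hg => Cfsg.Agent.Lib.Helper4.TwAut.mem_borel_iff D hD G hp f rho orbs G1 m hyp g hg) g hg

include hyp in
/-- A2b' -/
theorem mapsT_diag (θ : ↥G1 ≃* ↥G1)
    (hU : MapsT G1 θ (D.posUnipotent K) (D.posUnipotent K))
    (hV : MapsT G1 θ (D.negUnipotent K) (D.negUnipotent K)) :
    MapsT G1 θ (D.diagonalSubgroup K) (D.diagonalSubgroup K) :=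
  mapsT_diag_of D hD G hp f rho orbs G1 m hyp
    (fun g hg => Cfsg.Agent.Lib.Helper4.TwAut.mem_borel_iff D hD G hp f rho orbs G1 m hyp g hg)
    θ hU hV

end Cfsg.Agent.Lib.Helper1.TwAut
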