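import Mathlib
import Cfsg.Agent.Lib.Helper5.TwAutDefs2
import Cfsg.Agent.Lib.Helper5.ChevTwistCell
import Cfsg.Agent.Lib.Helper7.AutA3
import Cfsg.Agent.Lib.Helper1.TwAutT1
import Cfsg.Agent.Lib.Helper1.TwAutA14

set_option autoImplicit false
set_option linter.unusedVariables false
set_option linter.unusedSectionVars false

/-!
TWISTED-OUT farm, unit A3 (the big cell) and the verbatim A4.
-/

namespace Cfsg.Agent.Lib.Helper1.TwAut

open Cfsg Cfsg.Lie Cfsg.Agent.Lib.Helper5.ChevStruct Cfsg.Agent.Lib.Helper5.ChevSym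
open Cfsg.Agent.Lib.Helper5.TwAut Cfsg.Agent.Lib.Helper5.RankOneHom
open Cfsg.Agent.Lib.Helper5.StChar

variable {K : Type*} [Field K] [Fintype K] (D : ChevalleyDatum) (hD : D ∈ Seven) (G : GraphData)
  (hp : checkGraphPerm D G = true) (f : K →+* K) (rho : Equiv.Perm (Fin D.rank))
  (orbs : List (List ℕ)) (G1 : Subgroup (GL D.Idx K)) (m : ℕ)
  (hyp : TwAutHyp D hD G hp f rho orbs G1 m)

include hyp in
/-- positivity of `v(p_i)` propagates along a `ρ`-orbit, for a `ρ`-stable word `v` -/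
theorem pos_of_pos_node (v : List ℕ) (hv : StableW D G v) (J : List ℕ) (hJ : J ∈ orbs)
    (j : ℕ) (hj : j ∈ J) (hpos : D.IsPosRoot (wAct D v (D.simple j))) :
    ∀ i ∈ J, D.IsPosRoot (wAct D v (D.simple i)) := by
  have hwd := hyp.bn.hO.wd J hJ
  have hnd := hyp.bn.hO.nodup J hJ
  have hcyc := hyp.hcyc J hJ
  -- one step
  have step : ∀ k < J.length, D.IsPosRoot (wAct D v (D.simple (J.getD k 0))) →
      D.IsPosRoot (wAct D v (D.simple (J.getD ((k + 1) % J.length) 0))) := by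
    intro k hk hpk
    have hik : J.getD k 0 ∈ J := by
      rw [List.getD_eq_getElem _ _ hk]
      exact List.getElem_mem hk
    have hikr : J.getD k 0 < D.rank := hwd _ hik
    have h1 := hcyc k hk
    have h2 := (hyp.bn.hrho ⟨J.getD k 0, hikr⟩).1
    have h3 : rhoN D.rank rho (J.getD k 0) = (rho ⟨J.getD k 0, hikr⟩).val := by
      unfold rhoN
      rw [dif_pos hikr]
    rw [← h1, h3, ← h2, hv.2 _ (simple_lt D hD _ hikr)]
    exact pr_pos D hD G hp hyp.bn.hS _ hpk
  -- all positions reachable from the position of `j`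
  have hjl : J.idxOf j < J.length := List.idxOf_lt_length_iff.2 hj
  have hjj : J.getD (J.idxOf j) 0 = j := by
    rw [List.getD_eq_getElem _ _ hjl]
    exact List.getElem_idxOf hjl
  have hlen : 0 < J.length := lt_of_le_of_lt (Nat.zero_le _) hjl
  have hall : ∀ n : ℕ, D.IsPosRoot (wAct D v (D.simple (J.getD ((J.idxOf j + n) % J.length) 0))) := by
    intro n
    induction n with
    | zero =>
      rw [Nat.add_zero, Nat.mod_eq_of_lt hjl, hjj]
      exact hpos
    | succ n ih =>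
      have := step ((J.idxOf j + n) % J.length) (Nat.mod_lt _ hlen) ih
      have e : ((J.idxOf j + n) % J.length + 1) % J.length = (J.idxOf j + (n + 1)) % J.length := by
        rw [Nat.add_mod, Nat.mod_mod, ← Nat.add_mod, Nat.add_assoc]
      rwa [e] at this
  intro i hi
  have hil : J.idxOf i < J.length := List.idxOf_lt_length_iff.2 hi
  have hii : J.getD (J.idxOf i) 0 = i := by
    rw [List.getD_eq_getElem _ _ hil]
    exact List.getElem_idxOf hil
  -- choose `n` with `idx j + n ≡ idx i`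
  have := hall (J.idxOf i + (J.length - J.idxOf j))
  have e : (J.idxOf j + (J.idxOf i + (J.length - J.idxOf j))) % J.length = J.idxOf i := by
    have : J.idxOf j + (J.idxOf i + (J.length - J.idxOf j)) = J.idxOf i + J.length := by omega
    rw [this, Nat.add_mod_right, Nat.mod_eq_of_lt hil]
  rw [e, hii] at this
  exact this

include hyp in
/-- `x_J(1) ≠ 1` -/
theorem xT_one_ne_one (J : List ℕ) (hJ : J ∈ orbs) : xT D hD f J (1 : K) ≠ 1 := by
  intro h
  have h0 : xT D hD f J (0 : K) = 1 := by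
    have h1 := xT_add D hD G hp f rho orbs G1 m hyp J hJ 0 0
    rw [add_zero] at h1
    have h2 : xT D hD f J (0 : K) * xT D hD f J (0 : K) = xT D hD f J (0 : K) * 1 := by
      rw [mul_one]; exact h1.symm
    exact mul_left_cancel h2
  have := xT_injective D hD G hp f rho orbs G1 m hyp J hJ 1 0 (h.trans h0.symm)
  exact one_ne_zero this

include hyp in
/-- A3 : a conjugate of `U ∩ G1` meeting `U` trivially -/
theorem disjoint_conj_T (Js : List (List ℕ)) (hJs : ∀ J ∈ Js, J ∈ orbs)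
    (hw : checkW0 D Js.flatten = true) (g : GL D.Idx K) (hg : g ∈ G1)
    (hdisj : ∀ u ∈ D.posUnipotent K ⊓ G1, g * u * g⁻¹ ∈ D.posUnipotent K → u = 1) :
    ∃ u ∈ D.posUnipotent K ⊓ G1, ∃ b ∈ D.borelSubgroup K ⊓ G1,
      g = u * wGL D hD Js.flatten * b := by
  set w := Js.flatten with hwdef
  obtain ⟨hwd, -, -⟩ := checkW0_spec D w hw
  obtain ⟨Js', hJs', b, hb, u₂, hu₂, e⟩ := twisted_cell D hD G hp hyp.bn.hG hyp.bn.hS f rho
    hyp.bn.hrho orbs hyp.bn.hO G1 hyp.bn.hG1 hyp.bn.hn g hg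
  set v := Js'.flatten with hvdef
  have hst := stable_flatten D hD G orbs hyp.bn.hO Js' hJs'
  have hv : Wd D v := hst.1
  have hnvG : wGL D hD v ∈ G1 := wGL_flatten_mem D hD orbs G1 hyp.bn.hn Js' hJs'
  have hnwG : wGL D hD w ∈ G1 := wGL_flatten_mem D hD orbs G1 hyp.bn.hn Js hJs
  -- `v` makes all fundamental roots non-positive
  have hneg : ∀ j < D.rank, ¬ D.IsPosRoot (wAct D v (D.simple j)) := by
    intro j hj hpj
    obtain ⟨J, hJ, hjJ⟩ := hyp.bn.hO.cover j hj
    have hallpos := pos_of_pos_node D hD G hp f rho orbs G1 m hyp v hst J hJ j hjJ hpj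
    have hJwd := hyp.bn.hO.wd J hJ
    obtain ⟨ε, hε, hconj⟩ := wGL_conj_word (K := K) D hD v hv J (fun i => D.simple i)
      (fun i hi => simple_lt D hD i (hJwd i hi))
    have h3 : wGL D hD v * xT D hD f J 1 * (wGL D hD v)⁻¹ ∈ D.posUnipotent K := by
      unfold xT
      rw [hconj]
      unfold wordGL
      apply Subgroup.list_prod_mem
      intro y hy
      rw [List.mem_map] at hy
      obtain ⟨q, hq, rfl⟩ := hy
      rw [List.mem_map] at hq
      obtain ⟨i, hi, rfl⟩ := hq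
      exact xGL_mem_pos D hD _ (hallpos i hi) _
    have hxG : xT D hD f J (1 : K) ∈ G1 :=
      xT_mem D hD G hp f rho orbs G1 m hyp J hJ 1 (inK_props D hD G hp f rho orbs G1 m hyp J hJ).2.1
    have hxU : xT D hD f J (1 : K) ∈ D.posUnipotent K := by
      unfold xT wordGL
      apply Subgroup.list_prod_mem
      intro y hy
      rw [List.mem_map] at hy
      obtain ⟨q, hq, rfl⟩ := hy
      rw [List.mem_map] at hq
      obtain ⟨i, hi, rfl⟩ := hq
      exact xGL_mem_pos D hD _ (simple_pos D hD i (hJwd i hi)) _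
    have hu : u₂⁻¹ * xT D hD f J 1 * u₂ ∈ D.posUnipotent K ⊓ G1 :=
      mul_mem (mul_mem (inv_mem hu₂) ⟨hxU, hxG⟩) hu₂
    have hconjg : g * (u₂⁻¹ * xT D hD f J 1 * u₂) * g⁻¹
        = b * (wGL D hD v * xT D hD f J 1 * (wGL D hD v)⁻¹) * b⁻¹ := by
      rw [e]
      group
    have h4 : g * (u₂⁻¹ * xT D hD f J 1 * u₂) * g⁻¹ ∈ D.posUnipotent K := by
      rw [hconjg]
      exact ((Subgroup.mem_normalizer_iff.1 (borel_le_normalizer_pos D hD hb.1)) _).1 h3
    have h5 := hdisj _ hu h4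
    have h6 : xT D hD f J (1 : K) = 1 := by
      have : xT D hD f J (1 : K) = u₂ * (u₂⁻¹ * xT D hD f J 1 * u₂) * u₂⁻¹ := by group
      rw [this, h5]
      group
    exact xT_one_ne_one D hD G hp f rho orbs G1 m hyp J hJ h6
  -- so `v` and `w` have the same action on the roots
  have hp1 := wPerm_eq_w0 D hD w hw v hv hneg
  have hp2 := wPerm_eq_w0 D hD w hw w hwd
    (Cfsg.Agent.Lib.Helper7.ChevAut.w0_simple_not_pos D hD w hw)
  have hact := (wPerm_eq_iff D hD v w hv hwd).1 (hp1.trans hp2.symm)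
  have hh1 := hrel_of_act_eq (F := K) D hD v w hv hwd hact
  -- `b * h₁ ∈ B ∩ G1`
  have hbhB : b * (wGL D hD v * (wGL D hD w)⁻¹) ∈ D.borelSubgroup K :=
    mul_mem hb.1 (diagonal_le_borel D hh1)
  have hbhG : b * (wGL D hD v * (wGL D hD w)⁻¹) ∈ G1 :=
    mul_mem hb.2 (mul_mem hnvG (inv_mem hnwG))
  have hbhfix : b * (wGL D hD v * (wGL D hD w)⁻¹) ∈ sigmaFix D G hp f := by
    have := hbhG
    rw [hyp.bn.hG1] at this
    exact this.2
  obtain ⟨u₁, hu₁, h₂, hh₂, e2⟩ := borel_fix D hD G hp hyp.bn.hG hyp.bn.hS f rho hyp.bn.hrho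
    _ hbhB hbhfix
  have hu₁G : u₁ ∈ G1 := by
    rw [hyp.bn.hG1]
    exact ⟨borel_le_group D hD (pos_le_borel D hu₁.1), hu₁.2⟩
  have hh₂G : h₂ ∈ G1 := by
    rw [hyp.bn.hG1]
    exact ⟨borel_le_group D hD (diagonal_le_borel D hh₂.1), hh₂.2⟩
  have hwN := wGL_mem (F := K) D hD w hwd
  have hh3 := (conj_monomial_diag_mem D hD _ hwN _ hh₂.1).2
  refine ⟨u₁, ⟨hu₁.1, hu₁G⟩, ((wGL D hD w)⁻¹ * h₂ * wGL D hD w) * u₂, ⟨?_, ?_⟩, ?_⟩
  · exact mul_mem (diagonal_le_borel D hh3) (pos_le_borel D hu₂.1)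
  · exact G1.mul_mem (G1.mul_mem (G1.mul_mem (G1.inv_mem hnwG) hh₂G) hnwG) hu₂.2
  · calc g = b * (wGL D hD v * (wGL D hD w)⁻¹) * wGL D hD w * u₂ := by rw [e]; group
      _ = u₁ * h₂ * wGL D hD w * u₂ := by rw [← e2]
      _ = u₁ * wGL D hD w * ((wGL D hD w)⁻¹ * h₂ * wGL D hD w * u₂) := by group

include hyp in
/-- A4 : some inner twist of `θ` preserves both `U ∩ G1` and `V ∩ G1` -/
theorem exists_conj_mapsT_pos_neg (θ : ↥G1 ≃* ↥G1) :
    ∃ x : ↥G1,
      MapsT G1 (θ.trans (MulAut.conj x)) (D.posUnipotent K) (D.posUnipotent K) ∧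
      MapsT G1 (θ.trans (MulAut.conj x)) (D.negUnipotent K) (D.negUnipotent K) :=
  exists_conj_mapsT_pos_neg_of D hD G hp f rho orbs G1 m hyp
    (fun Js hJs hw g hg hdisj =>
      disjoint_conj_T D hD G hp f rho orbs G1 m hyp Js hJs hw g hg hdisj) θ

end Cfsg.Agent.Lib.Helper1.TwAut
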