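import Mathlib
import Cfsg.Prelude.Def_SolvableStructure
import Cfsg.Agent.Lib.Helper1.SolvStructMisc
set_option autoImplicit false
universe u v
open Cfsg
open scoped Pointwise
namespace Cfsg.Agent.Lib.Helper1
variable {G : Type u} [Group G]

theorem mulEquiv_inf_of_complement (A B U : Subgroup G) [hBn : B.Normal]
    (hAB : A ⊓ B = ⊥) (hBU : B ⊓ U = ⊥) (hBU' : B ⊔ U = ⊤) :
    Nonempty (A ≃* ↥((A ⊔ B) ⊓ U)) := by
  obtain ⟨D, hD⟩ : ∃ D : Subgroup G, D = (A ⊔ B) ⊓ U := ⟨_, rfl⟩
  rw [← hD]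
  obtain ⟨π, hπ⟩ : ∃ π : G →* G ⧸ B, π = QuotientGroup.mk' B := ⟨_, rfl⟩
  have hker : π.ker = B := by rw [hπ]; exact QuotientGroup.ker_mk' B
  have hinjA : Function.Injective (π.comp A.subtype) := by
    rw [← MonoidHom.ker_eq_bot_iff, eq_bot_iff]
    intro a ha
    rw [MonoidHom.mem_ker, MonoidHom.comp_apply] at ha
    have h1 : (a : G) ∈ π.ker := ha
    rw [hker] at h1
    have h2 : (a : G) ∈ A ⊓ B := Subgroup.mem_inf.mpr ⟨a.2, h1⟩
    rw [hAB, Subgroup.mem_bot] at h2
    rw [Subgroup.mem_bot]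
    exact Subtype.ext h2
  have hinjD : Function.Injective (π.comp D.subtype) := by
    rw [← MonoidHom.ker_eq_bot_iff, eq_bot_iff]
    intro d hd
    rw [MonoidHom.mem_ker, MonoidHom.comp_apply] at hd
    have h1 : (d : G) ∈ π.ker := hd
    rw [hker] at h1
    have hDU : D ≤ U := by rw [hD]; exact inf_le_right
    have hdU : (d : G) ∈ U := hDU d.2
    have h2 : (d : G) ∈ B ⊓ U := Subgroup.mem_inf.mpr ⟨h1, hdU⟩
    rw [hBU, Subgroup.mem_bot] at h2
    rw [Subgroup.mem_bot]
    exact Subtype.ext h2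
  have hDB : D ⊔ B = A ⊔ B := by
    apply le_antisymm
    · apply sup_le _ le_sup_right
      rw [hD]; exact inf_le_left
    · intro x hx
      have hx' : x ∈ B ⊔ U := by rw [hBU']; exact Subgroup.mem_top x
      rw [Subgroup.mem_sup_of_normal_left] at hx'
      obtain ⟨b, hb, u, hu, rfl⟩ := hx'
      have huAB : u ∈ A ⊔ B := by
        have : u = b⁻¹ * (b * u) := by group
        rw [this]
        exact Subgroup.mul_mem _ (Subgroup.inv_mem _ (Subgroup.mem_sup_right hb)) hx
      have huD : u ∈ D := by rw [hD]; exact Subgroup.mem_inf.mpr ⟨huAB, hu⟩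
      exact Subgroup.mul_mem _ (Subgroup.mem_sup_right hb) (Subgroup.mem_sup_left huD)
  have hBmap : B.map π = ⊥ := by
    rw [Subgroup.map_eq_bot_iff, hker]
  have hrange : (π.comp A.subtype).range = (π.comp D.subtype).range := by
    rw [MonoidHom.range_comp, MonoidHom.range_comp, Subgroup.range_subtype, Subgroup.range_subtype]
    have h1 : A.map π = (A ⊔ B).map π := by rw [Subgroup.map_sup, hBmap, sup_bot_eq]
    have h2 : D.map π = (D ⊔ B).map π := by rw [Subgroup.map_sup, hBmap, sup_bot_eq]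
    rw [h1, h2, hDB]
  exact ⟨(MonoidHom.ofInjective hinjA).trans
    ((MulEquiv.subgroupCongr hrange).trans (MonoidHom.ofInjective hinjD).symm)⟩

theorem corefree_maximal_two_minimal_normal [Finite G] (U : Subgroup G) (hU : IsCoatom U)
    (hcore : U.normalCore = ⊥) (A B : Subgroup G) [hAn : A.Normal] [hBn : B.Normal]
    (hA : A ≠ ⊥) (hB : B ≠ ⊥)
    (hAmin : ∀ K : Subgroup G, K.Normal → K ≤ A → K = ⊥ ∨ K = A)
    (hBmin : ∀ K : Subgroup G, K.Normal → K ≤ B → K = ⊥ ∨ K = B) (hAB : A ≠ B) :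
    Subgroup.centralizer (B : Set G) = A ∧ Subgroup.centralizer (A : Set G) = B ∧
      Subgroup.IsComplement' A U ∧ Subgroup.IsComplement' B U ∧ ¬ IsMulCommutative A ∧
      Nonempty (A ≃* B) ∧ Nonempty (A ≃* ↥((A ⊔ B) ⊓ U)) := by
  have hinf : A ⊓ B = ⊥ := by
    have hn : (A ⊓ B).Normal := Subgroup.normal_inf_normal A B
    rcases hAmin _ hn inf_le_left with h | h
    · exact h
    · exfalso
      have hAleB : A ≤ B := by rw [← h]; exact inf_le_right
      exact hAB ((hBmin A hAn hAleB).resolve_left hA)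
  have hdis : Disjoint A B := disjoint_iff.mpr hinf
  have hAcB : A ≤ Subgroup.centralizer (B : Set G) := by
    intro a ha
    rw [Subgroup.mem_centralizer_iff]
    intro b hb
    exact (Subgroup.commute_of_normal_of_disjoint _ _ hAn hBn hdis a b ha hb).symm
  have hBcA : B ≤ Subgroup.centralizer (A : Set G) := Subgroup.le_centralizer_iff.mp hAcB
  -- generic
  have key : ∀ (X Y : Subgroup G) [X.Normal] [Y.Normal], X ≠ ⊥ → Y ≠ ⊥ →
      X ≤ Subgroup.centralizer (Y : Set G) →
      Subgroup.centralizer (Y : Set G) = X ∧ Subgroup.IsComplement' X U := by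
    intro X Y hXn hYn hX hY hXY
    obtain ⟨h1, h2⟩ := corefree_maximal_centralizer U hU hcore Y hY
    have hCne : Subgroup.centralizer (Y : Set G) ≠ ⊥ := by
      intro h
      rw [h, le_bot_iff] at hXY
      exact hX hXY
    have hmin := (h2.resolve_left hCne).2
    have hXeq : X = Subgroup.centralizer (Y : Set G) := (hmin X hXn hXY).resolve_left hX
    refine ⟨hXeq.symm, ?_⟩
    have hXU : X ⊓ U = ⊥ := by rw [hXeq]; exact h1
    have hXnotU : ¬ X ≤ U := by
      intro h
      have h3 : X ≤ U.normalCore := Subgroup.normal_le_normalCore.mpr h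
      rw [hcore, le_bot_iff] at h3
      exact hX h3
    have hsup : X ⊔ U = ⊤ := by
      apply hU.2
      apply lt_of_le_of_ne le_sup_right
      intro h
      apply hXnotU
      rw [h]; exact le_sup_left
    apply Subgroup.isComplement'_of_disjoint_and_mul_eq_univ (disjoint_iff.mpr hXU)
    rw [← Subgroup.normal_mul, hsup, Subgroup.coe_top]
  obtain ⟨hCB, hcA⟩ := key A B hA hB hAcB
  obtain ⟨hCA, hcB⟩ := key B A hB hA hBcA
  have e1 := mulEquiv_inf_of_complement A B U hinf hcB.disjoint.eq_bot hcB.sup_eq_top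
  have e2 := mulEquiv_inf_of_complement B A U (by rw [inf_comm]; exact hinf)
    hcA.disjoint.eq_bot hcA.sup_eq_top
  refine ⟨hCB, hCA, hcA, hcB, ?_, ?_, e1⟩
  · intro hcomm
    apply hA
    rw [eq_bot_iff, ← hinf]
    apply le_inf le_rfl
    rw [← hCA]
    intro a ha
    rw [Subgroup.mem_centralizer_iff]
    intro a' ha'
    have := mul_comm' (⟨a', ha'⟩ : A) ⟨a, ha⟩
    exact congrArg Subtype.val this
  · obtain ⟨f1⟩ := e1
    obtain ⟨f2⟩ := e2
    have hsc : (B ⊔ A) ⊓ U = (A ⊔ B) ⊓ U := by rw [sup_comm]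
    exact ⟨f1.trans ((MulEquiv.subgroupCongr hsc.symm).trans f2.symm)⟩

end Cfsg.Agent.Lib.Helper1
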