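import Mathlib
import Cfsg.Agent.Lib.Helper3.TwoMod4Base

set_option autoImplicit false
set_option maxHeartbeats 1000000

/-! # Piece A3 of S3401: `Q` fixes exactly two points, hence `N` is doubly transitive -/

namespace Cfsg.Agent.Lib.Helper1.TwoMod4

open MulAction Cfsg.Agent.Lib.Helper3.TwoMod4

variable {G : Type*} [Group G] [Finite G] {Ω : Type*} [Fintype Ω] [MulAction G Ω]

theorem twoTrans_of_fix (N : Subgroup G) (D : Dat Ω N)
    (hfix : ∀ c : Ω, (∀ x ∈ D.Q, x • c = c) → c = D.a ∨ c = D.a')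
    (htr : ∀ c d : Ω, ∃ x ∈ N, x • c = d) : TwoTrans Ω N := by
  classical
  set Na : Subgroup G := N ⊓ stabilizer G D.a with hNa
  have hQNa : D.Q ≤ Na :=
    fun x hx => ⟨D.hSN (D.hQS hx), mem_stabilizer_iff.2 (D.hQa x hx)⟩
  have claim : ∀ b : Ω, b ≠ D.a → ∃ g ∈ Na, g • b = D.a' := by
    intro b hb
    -- orbit-stabilizer in `↥Na`
    have hos : Nat.card (orbit (↥Na) b) * Nat.card (stabilizer (↥Na) b) = Nat.card Na := by
      rw [← Nat.card_prod]
      exact Nat.card_congr (orbitProdStabilizerEquivGroup (↥Na) b)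
    have hstabeq : stabilizer (↥Na) b = (stabilizer G b).subgroupOf Na := by
      ext ⟨g, hg⟩
      simp only [mem_stabilizer_iff, Subgroup.mem_subgroupOf]
      rfl
    have hcardstab : Nat.card (stabilizer (↥Na) b) =
        Nat.card (N ⊓ stabilizer G D.a ⊓ stabilizer G b : Subgroup G) := by
      rw [hstabeq]
      have h1 : (stabilizer G b).subgroupOf Na = (stabilizer G b ⊓ Na).subgroupOf Na :=
        (Subgroup.inf_subgroupOf_right _ _).symm
      rw [h1]
      have h2 : stabilizer G b ⊓ Na = N ⊓ stabilizer G D.a ⊓ stabilizer G b := by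
        rw [inf_comm]
      rw [← h2]
      exact Nat.card_congr (Subgroup.subgroupOfEquivOfLe inf_le_right).toEquiv
    have hdvd : 2 ^ D.q ∣ Nat.card (stabilizer (↥Na) b) := by
      rw [hcardstab]; exact D.hstab2 D.a b hb.symm
    have hndvd : ¬ 2 ^ (D.q + 1) ∣ Nat.card Na := D.hstab D.a
    have hodd : ¬ 2 ∣ Nat.card (orbit (↥Na) b) := by
      intro h2
      apply hndvd
      rw [← hos, pow_succ, mul_comm (2 ^ D.q) 2]
      exact Nat.mul_dvd_mul h2 hdvd
    -- the 2-group `P = Q ∩ Na` acts on the orbit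
    set P : Subgroup (↥Na) := D.Q.subgroupOf Na with hP
    have hPp : IsPGroup 2 P := by
      have hQp : IsPGroup 2 D.Q := IsPGroup.of_card D.hQcard
      exact hQp.comap_subtype
    haveI : Fact (Nat.Prime 2) := ⟨Nat.prime_two⟩
    obtain ⟨δ, hδ⟩ := hPp.nonempty_fixed_point_of_prime_not_dvd_card (orbit (↥Na) b) hodd
    have hδfix : ∀ x ∈ D.Q, x • (δ : Ω) = δ := by
      intro x hx
      have hxP : (⟨x, hQNa hx⟩ : ↥Na) ∈ P := by
        rw [hP, Subgroup.mem_subgroupOf]; exact hx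
      have := hδ ⟨⟨x, hQNa hx⟩, hxP⟩
      have h3 := congrArg Subtype.val this
      exact h3
    obtain ⟨g, hg⟩ := δ.2
    have hgb : (g : G) • b = (δ : Ω) := hg
    rcases hfix δ hδfix with h | h
    · exfalso
      apply hb
      have h4 : (g : G) • b = D.a := by rw [hgb, h]
      have h5 : (g : G) • D.a = D.a := mem_stabilizer_iff.1 g.2.2
      have h6 : (g : G) • b = (g : G) • D.a := by rw [h4, h5]
      exact MulAction.injective (g : G) h6
    · exact ⟨g, g.2, by rw [hgb, h]⟩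
  intro a1 b1 c1 d1 hab hcd
  obtain ⟨n1, hn1, hn1a⟩ := htr a1 D.a
  obtain ⟨n2, hn2, hn2c⟩ := htr c1 D.a
  have hb' : n1 • b1 ≠ D.a := by
    intro h
    rw [← hn1a] at h
    exact hab (MulAction.injective n1 h).symm
  have hd' : n2 • d1 ≠ D.a := by
    intro h
    rw [← hn2c] at h
    exact hcd (MulAction.injective n2 h).symm
  obtain ⟨h1, hh1, hh1b⟩ := claim _ hb'
  obtain ⟨h2, hh2, hh2d⟩ := claim _ hd'
  have hh1a : h1 • D.a = D.a := mem_stabilizer_iff.1 hh1.2
  have hh2a : h2 • D.a = D.a := mem_stabilizer_iff.1 hh2.2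
  refine ⟨(h2 * n2)⁻¹ * (h1 * n1), ?_, ?_, ?_⟩
  · exact N.mul_mem (N.inv_mem (N.mul_mem hh2.1 hn2)) (N.mul_mem hh1.1 hn1)
  · have e1 : (h1 * n1) • a1 = D.a := by rw [mul_smul, hn1a, hh1a]
    have e2 : (h2 * n2) • c1 = D.a := by rw [mul_smul, hn2c, hh2a]
    rw [mul_smul, e1, ← e2, inv_smul_smul]
  · have e1 : (h1 * n1) • b1 = D.a' := by rw [mul_smul, hh1b]
    have e2 : (h2 * n2) • d1 = D.a' := by rw [mul_smul, hh2d]
    rw [mul_smul, e1, ← e2, inv_smul_smul]

end Cfsg.Agent.Lib.Helper1.TwoMod4
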