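import Mathlib
import Cfsg.Agent.Lib.Helper3.TwoMod4Base

set_option autoImplicit false
set_option maxHeartbeats 1000000

/-! # Piece B of S3401: the least normal subgroup of a doubly transitive group -/

namespace Cfsg.Agent.Lib.Helper1.TwoMod4

open MulAction Cfsg.Agent.Lib.Helper3.TwoMod4

variable {G : Type*} [Group G] [Finite G] {Ω : Type*} [Fintype Ω] [MulAction G Ω]

theorem exists_min [FaithfulSMul G Ω] (H : Subgroup G) (hH : TwoTrans Ω H) (hn2 : 2 < Fintype.card Ω)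
    (hA : ∀ N : Subgroup G, N ≤ H → (∀ h ∈ H, ∀ x ∈ N, h * x * h⁻¹ ∈ N) → N ≠ ⊥ → TwoTrans Ω N) :
    ∃ M : Subgroup G, M ≤ H ∧ (∀ h ∈ H, ∀ x ∈ M, h * x * h⁻¹ ∈ M) ∧ M ≠ ⊥ ∧ TwoTrans Ω M ∧
      (∀ N : Subgroup G, N ≤ H → (∀ h ∈ H, ∀ x ∈ N, h * x * h⁻¹ ∈ N) → N ≠ ⊥ → M ≤ N) ∧
      (∀ g ∈ H, (∀ x ∈ M, g * x = x * g) → g = 1) := by
  classical
  obtain ⟨a, b, c, hab, hac, hbc⟩ := Fintype.two_lt_card_iff.1 hn2
  have hHbot : H ≠ ⊥ := by
    intro h
    obtain ⟨g, hg, hga, -⟩ := hH a b b a hab hab.symm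
    rw [h, Subgroup.mem_bot] at hg
    rw [hg, one_smul] at hga
    exact hab hga
  let P : Subgroup G → Prop := fun N =>
    N ≤ H ∧ (∀ h ∈ H, ∀ x ∈ N, h * x * h⁻¹ ∈ N) ∧ N ≠ ⊥
  have hPH : P H := ⟨le_refl H, fun h hh x hx => H.mul_mem (H.mul_mem hh hx) (H.inv_mem hh), hHbot⟩
  have hex : ∃ k, ∃ N : Subgroup G, P N ∧ Nat.card N = k := ⟨_, H, hPH, rfl⟩
  obtain ⟨M, hPM, hMk⟩ := Nat.find_spec hex
  have hmin : ∀ N, P N → Nat.card M ≤ Nat.card N := fun N hN => by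
    rw [hMk]; exact Nat.find_min' hex ⟨N, hN, rfl⟩
  obtain ⟨hMH, hMinv, hMbot⟩ := hPM
  have hMtt : TwoTrans Ω M := hA M hMH hMinv hMbot
  -- the centralizer of `M` in `H`
  set C : Subgroup G := H ⊓ Subgroup.centralizer (M : Set G) with hC
  have hCH : C ≤ H := inf_le_left
  have hCinv : ∀ h ∈ H, ∀ x ∈ C, h * x * h⁻¹ ∈ C := by
    intro h hh x hx
    have hx := Subgroup.mem_inf.1 hx
    refine Subgroup.mem_inf.2 ⟨H.mul_mem (H.mul_mem hh hx.1) (H.inv_mem hh), ?_⟩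
    rw [Subgroup.mem_centralizer_iff]
    intro m hm
    have hm' : h⁻¹ * m * h ∈ M := by
      have := hMinv h⁻¹ (H.inv_mem hh) m hm
      rwa [inv_inv] at this
    have hc : (h⁻¹ * m * h) * x = x * (h⁻¹ * m * h) :=
      (Subgroup.mem_centralizer_iff.1 hx.2) _ hm'
    calc m * (h * x * h⁻¹) = h * ((h⁻¹ * m * h) * x) * h⁻¹ := by group
      _ = h * (x * (h⁻¹ * m * h)) * h⁻¹ := by rw [hc]
      _ = (h * x * h⁻¹) * m := by group
  have hCbot : C = ⊥ := by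
    by_contra hne
    have hCtt : TwoTrans Ω C := hA C hCH hCinv hne
    obtain ⟨m, hm, hma, hmb⟩ := hMtt a b a c hab hac
    obtain ⟨x, hx, hxa, -⟩ := hCtt a c b a hac hab.symm
    have hx := Subgroup.mem_inf.1 hx
    have hcomm : m * x = x * m := (Subgroup.mem_centralizer_iff.1 hx.2) m hm
    have : m • b = b := by
      calc m • b = m • x • a := by rw [hxa]
        _ = (m * x) • a := by rw [mul_smul]
        _ = (x * m) • a := by rw [hcomm]
        _ = x • m • a := by rw [mul_smul]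
        _ = b := by rw [hma, hxa]
    rw [hmb] at this
    exact hbc this.symm
  refine ⟨M, hMH, hMinv, hMbot, hMtt, ?_, ?_⟩
  · intro N hNH hNinv hNbot
    have hinfinv : ∀ h ∈ H, ∀ x ∈ M ⊓ N, h * x * h⁻¹ ∈ M ⊓ N :=
      fun h hh x hx => ⟨hMinv h hh x hx.1, hNinv h hh x hx.2⟩
    have hinfbot : M ⊓ N ≠ ⊥ := by
      intro hbot
      apply hNbot
      rw [eq_bot_iff]
      intro n hn
      have hnC : n ∈ C := by
        refine Subgroup.mem_inf.2 ⟨hNH hn, ?_⟩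
        rw [Subgroup.mem_centralizer_iff]
        intro m hm
        have h1 : n * m * n⁻¹ * m⁻¹ ∈ M :=
          M.mul_mem (hMinv n (hNH hn) m hm) (M.inv_mem hm)
        have h2 : n * m * n⁻¹ * m⁻¹ ∈ N := by
          have h3 : m * n⁻¹ * m⁻¹ ∈ N := hNinv m (hMH hm) n⁻¹ (N.inv_mem hn)
          have h4 : n * (m * n⁻¹ * m⁻¹) ∈ N := N.mul_mem hn h3
          have h5 : n * (m * n⁻¹ * m⁻¹) = n * m * n⁻¹ * m⁻¹ := by group
          rwa [h5] at h4
        have h6 : n * m * n⁻¹ * m⁻¹ ∈ M ⊓ N := ⟨h1, h2⟩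
        rw [hbot, Subgroup.mem_bot] at h6
        have h7 : n * m = m * n := by
          calc n * m = (n * m * n⁻¹ * m⁻¹) * (m * n) := by group
            _ = m * n := by rw [h6, one_mul]
        exact h7.symm
      rw [hCbot] at hnC
      exact hnC
    have hle : Nat.card M ≤ Nat.card (M ⊓ N : Subgroup G) :=
      hmin (M ⊓ N) ⟨inf_le_left.trans hMH, hinfinv, hinfbot⟩
    have heq : M ⊓ N = M := Subgroup.eq_of_le_of_card_ge inf_le_left hle
    exact inf_eq_left.1 heq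
  · intro g hg hgM
    have hgC : g ∈ C := by
      refine Subgroup.mem_inf.2 ⟨hg, ?_⟩
      rw [Subgroup.mem_centralizer_iff]
      intro m hm
      exact (hgM m hm).symm
    rw [hCbot, Subgroup.mem_bot] at hgC
    exact hgC

end Cfsg.Agent.Lib.Helper1.TwoMod4
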