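import Mathlib
import Cfsg.Prelude
import Cfsg.Agent.Lib.Helper1.Rh12
import Cfsg.Agent.Lib.Helper5.HermPerp

set_option autoImplicit false
set_option maxHeartbeats 4000000
set_option linter.unusedVariables false
set_option linter.unusedSectionVars false
set_option linter.style.longLine false
set_option linter.unusedSimpArgs false
set_option linter.deprecated false

/-! Two-generation of `SU_n(q)`, part 1: frames (bases with a monomial Gram matrix) of the standard
hermitian space, and the monomial elements of `SU_n(q)` relative to a frame. -/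

namespace Cfsg.Agent.Lib.Helper1.Un

open Matrix Cfsg Cfsg.Agent.Lib.Helper5.Herm Cfsg.Agent.Lib.Helper5.HermTv
  Cfsg.Agent.Lib.Helper5.HermEich Cfsg.Agent.Lib.Helper5.HermSU Cfsg.Agent.Lib.Helper1.Rh
  Cfsg.Agent.Lib.Helper5 Cfsg.Agent.Lib.Helper5.SUReg Cfsg.Agent.Lib.Helper5.HermPerp

/-- a basis `col 0, …, col (n-1)` of the hermitian space `F^n` whose Gram matrix is the
permutation matrix of the involution `τ` -/
structure Fr (F : Type*) [Field F] [Fintype F] (q n : ℕ) (τ : ℕ → ℕ) where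
  hF : Fintype.card F = q ^ 2
  hτ : ∀ j, j < n → τ j < n ∧ τ (τ j) = j
  col : ℕ → Fin n → F
  gram : ∀ i j, i < n → j < n → hermForm n F q (col i) (col j) = if j = τ i then 1 else 0
  decomp : ∀ x : Fin n → F, x = ∑ j : Fin n, hermForm n F q x (col (τ j.val)) • col j.val

variable {F : Type*} [Field F] [Fintype F] {q n : ℕ} {τ : ℕ → ℕ}

theorem exists_fr (hF : Fintype.card F = q ^ 2) (hτ : ∀ j, j < n → τ j < n ∧ τ (τ j) = j) :
    Nonempty (Fr F q n τ) := by
  classical
  have hσ2 : ∀ a : F, HermBridge.sigma hF (HermBridge.sigma hF a) = a := HermBridge.sigma_sigma hF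
  have hσne : HermBridge.sigma hF ≠ RingHom.id F := HermBridge.sigma_ne_id hF
  have htl : ∀ j : Fin n, τ j.val < n := fun j => (hτ j.val j.2).1
  set tF : Fin n → Fin n := fun j => ⟨τ j.val, htl j⟩ with htF
  have htt : ∀ j : Fin n, tF (tF j) = j := by
    intro j
    apply Fin.ext
    show τ (τ j.val) = j.val
    exact (hτ j.val j.2).2
  have hswap : ∀ i j : Fin n, i = tF j ↔ j = tF i := by
    intro i j
    constructor
    · rintro rfl; rw [htt]
    · rintro rfl; rw [htt]
  set Hm : Matrix (Fin n) (Fin n) F := Matrix.of fun i j => if j = tF i then 1 else 0 with hHm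
  have hHH : Hm * Hm = 1 := by
    ext i k
    rw [Matrix.mul_apply, Matrix.one_apply]
    simp only [hHm, Matrix.of_apply, ite_mul, one_mul, zero_mul, Finset.sum_ite_eq',
      Finset.mem_univ, if_true]
    rw [htt]
    by_cases hik : i = k
    · rw [if_pos hik.symm, if_pos hik]
    · rw [if_neg (fun h => hik h.symm), if_neg hik]
  have hadj : adj (HermBridge.sigma hF) Hm = Hm := by
    ext i j
    rw [adj_apply]
    simp only [hHm, Matrix.of_apply]
    by_cases h : i = tF j
    · rw [if_pos h, if_pos ((hswap i j).mp h), map_one]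
    · rw [if_neg h, if_neg (fun h' => h ((hswap i j).mpr h')), map_zero]
  obtain ⟨P, P', hP'P, hPH⟩ := exists_adj_mul_self (HermBridge.sigma hF) hσne hσ2 Hm Hm hadj hHH
  have hPP' : P * P' = 1 := mul_eq_one_comm.mp hP'P
  set colF : Fin n → Fin n → F := fun j k => P k j with hcolF
  set col : ℕ → Fin n → F := fun j => if hj : j < n then colF ⟨j, hj⟩ else 0 with hcol
  have hcolj : ∀ j : Fin n, col j.val = colF j := by
    intro j
    simp only [hcol]
    rw [dif_pos j.2]
  have hgramF : ∀ i j : Fin n, hermForm n F q (colF i) (colF j) = if i = tF j then 1 else 0 := by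
    intro i j
    have h1 : (adj (HermBridge.sigma hF) P * P) j i = Hm j i := by rw [hPH]
    rw [Matrix.mul_apply] at h1
    simp only [adj_apply, HermBridge.sigma_apply] at h1
    rw [show Hm j i = if i = tF j then 1 else 0 from rfl] at h1
    rw [← h1]
    unfold hermForm
    exact Finset.sum_congr rfl fun k _ => mul_comm _ _
  refine ⟨⟨hF, hτ, col, ?_, ?_⟩⟩
  · intro i j hi hj
    have h1 := hgramF ⟨i, hi⟩ ⟨j, hj⟩
    rw [← hcolj ⟨i, hi⟩, ← hcolj ⟨j, hj⟩] at h1
    rw [h1]
    have h2 : (⟨i, hi⟩ : Fin n) = tF ⟨j, hj⟩ ↔ j = τ i := by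
      rw [hswap]
      constructor
      · intro h; exact congrArg Fin.val h
      · intro h; exact Fin.ext h
    by_cases h : j = τ i
    · rw [if_pos h, if_pos (h2.mpr h)]
    · rw [if_neg h, if_neg (fun h' => h (h2.mp h'))]
  · intro x
    set a := P' *ᵥ x with ha
    have hx : x = P *ᵥ a := by rw [ha, mulVec_mulVec, hPP', one_mulVec]
    have hcoef : ∀ i : Fin n, hermForm n F q x (colF i) = a (tF i) := by
      intro i
      have h1 : hermForm n F q x (colF i) = (adj (HermBridge.sigma hF) P *ᵥ x) i := by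
        unfold hermForm
        rw [mulVec, dotProduct]
        exact Finset.sum_congr rfl fun k _ => by rw [adj_apply, HermBridge.sigma_apply, mul_comm]
      rw [h1, hx, mulVec_mulVec, hPH]
      rw [mulVec, dotProduct]
      simp only [hHm, Matrix.of_apply, ite_mul, one_mul, zero_mul, Finset.sum_ite_eq',
        Finset.mem_univ, if_true]
    have hcoef' : ∀ j : Fin n, hermForm n F q x (col (τ j.val)) = a j := by
      intro j
      have := hcoef (tF j)
      rw [htt] at this
      rw [← this, ← hcolj (tF j)]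
    conv_lhs => rw [hx]
    ext k
    rw [mulVec, dotProduct, Finset.sum_apply]
    refine Finset.sum_congr rfl fun j _ => ?_
    rw [Pi.smul_apply, hcoef' j, hcolj j, smul_eq_mul, mul_comm]

namespace Fr

variable (W : Fr F q n τ)

/-- the involution on `Fin n` -/
def tF (j : Fin n) : Fin n := ⟨τ j.val, (W.hτ j.val j.2).1⟩

theorem tF_val (j : Fin n) : (W.tF j).val = τ j.val := rfl

theorem tF_tF (j : Fin n) : W.tF (W.tF j) = j := by
  apply Fin.ext
  show τ (τ j.val) = j.val
  exact (W.hτ j.val j.2).2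

theorem gramF (i j : Fin n) :
    hermForm n F q (W.col i.val) (W.col j.val) = if j = W.tF i then 1 else 0 := by
  rw [W.gram i.val j.val i.2 j.2]
  by_cases h : j.val = τ i.val
  · rw [if_pos h, if_pos (Fin.ext h)]
  · rw [if_neg h, if_neg (fun h' => h (congrArg Fin.val h'))]

/-- the matrix with columns `col j` -/
def P : Matrix (Fin n) (Fin n) F := Matrix.of fun i j => W.col j.val i

/-- the inverse matrix -/
def P' : Matrix (Fin n) (Fin n) F := Matrix.of fun j i => (W.col (τ j.val) i) ^ q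

theorem P_mul_P' : W.P * W.P' = 1 := by
  classical
  have hq0 : q ≠ 0 := q_ne_zero W.hF
  ext i l
  rw [Matrix.mul_apply, Matrix.one_apply]
  have h1 := congrFun (W.decomp (Pi.single l 1)) i
  rw [Finset.sum_apply] at h1
  have h2 : ∀ j : Fin n, (hermForm n F q (Pi.single l 1) (W.col (τ j.val)) • W.col j.val) i
      = W.P i j * W.P' j l := by
    intro j
    rw [hermForm_single_left, Pi.smul_apply, smul_eq_mul, mul_comm]
    rfl
  rw [Finset.sum_congr rfl fun j _ => h2 j] at h1
  rw [← h1, Pi.single_apply]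

theorem P'_mul_P : W.P' * W.P = 1 := mul_eq_one_comm.mp W.P_mul_P'

theorem P_mulVec_single (j : Fin n) : W.P *ᵥ Pi.single j 1 = W.col j.val := by
  classical
  ext i
  rw [mulVec, dotProduct]
  simp only [Pi.single_apply, mul_ite, mul_one, mul_zero, Finset.sum_ite_eq', Finset.mem_univ,
    if_true]
  rfl

theorem P'_mulVec_col (j : Fin n) : W.P' *ᵥ W.col j.val = Pi.single j 1 := by
  rw [← W.P_mulVec_single j, mulVec_mulVec, W.P'_mul_P, one_mulVec]

/-- the monomial matrix -/
def Dm (π : Equiv.Perm (Fin n)) (c : Fin n → F) : Matrix (Fin n) (Fin n) F :=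
  Matrix.of fun i j => if i = π j then c j else 0

theorem Dm_mulVec_single (π : Equiv.Perm (Fin n)) (c : Fin n → F) (j : Fin n) :
    Dm π c *ᵥ Pi.single j 1 = c j • Pi.single (π j) 1 := by
  classical
  ext i
  rw [mulVec, dotProduct]
  simp only [Pi.single_apply, mul_ite, mul_one, mul_zero, Finset.sum_ite_eq', Finset.mem_univ,
    if_true, Pi.smul_apply, smul_eq_mul]
  rfl

theorem Dm_eq (π : Equiv.Perm (Fin n)) (c : Fin n → F) :
    Dm π c = (Matrix.diagonal c).submatrix (π⁻¹ : Equiv.Perm (Fin n)) id := by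
  ext i j
  simp only [Dm, Matrix.of_apply, Matrix.submatrix_apply, id_eq, Matrix.diagonal_apply]
  by_cases h : i = π j
  · have h1 : (π⁻¹ : Equiv.Perm (Fin n)) i = j := by rw [h]; simp
    rw [if_pos h, if_pos h1, h1]
  · rw [if_neg h, if_neg]
    intro h'
    apply h
    rw [← h']; simp

theorem det_Dm (π : Equiv.Perm (Fin n)) (c : Fin n → F) :
    (Dm π c).det = ((Equiv.Perm.sign π : ℤˣ) : ℤ) * ∏ j, c j := by
  rw [Dm_eq, Matrix.det_permute, Matrix.det_diagonal, Equiv.Perm.sign_inv]

/-- the monomial matrix in the frame -/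
def Mm (π : Equiv.Perm (Fin n)) (c : Fin n → F) : Matrix (Fin n) (Fin n) F :=
  W.P * Dm π c * W.P'

theorem Mm_mulVec_col (π : Equiv.Perm (Fin n)) (c : Fin n → F) (j : Fin n) :
    W.Mm π c *ᵥ W.col j.val = c j • W.col (π j).val := by
  unfold Mm
  rw [← mulVec_mulVec, ← mulVec_mulVec, W.P'_mulVec_col, Dm_mulVec_single, mulVec_smul,
    W.P_mulVec_single]

theorem det_Mm (π : Equiv.Perm (Fin n)) (c : Fin n → F) :
    (W.Mm π c).det = ((Equiv.Perm.sign π : ℤˣ) : ℤ) * ∏ j, c j := by
  unfold Mm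
  rw [Matrix.det_mul, Matrix.det_mul, mul_comm (W.P.det), mul_assoc, ← Matrix.det_mul, W.P_mul_P',
    Matrix.det_one, mul_one, det_Dm]

/-- a matrix preserving the form on a frame preserves it everywhere -/
theorem isom_of_basis (A : Matrix (Fin n) (Fin n) F)
    (hA : ∀ i j : Fin n, hermForm n F q (A *ᵥ W.col i.val) (A *ᵥ W.col j.val)
      = hermForm n F q (W.col i.val) (W.col j.val)) (u v : Fin n → F) :
    hermForm n F q (A *ᵥ u) (A *ᵥ v) = hermForm n F q u v := by
  have hF := W.hF
  have key : ∀ (f g : Fin n → Fin n → F), (∀ i j, hermForm n F q (f i) (g j)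
      = hermForm n F q (W.col i.val) (W.col j.val)) →
      hermForm n F q (∑ i : Fin n, hermForm n F q u (W.col (τ i.val)) • f i)
        (∑ j : Fin n, hermForm n F q v (W.col (τ j.val)) • g j)
      = ∑ i : Fin n, ∑ j : Fin n, hermForm n F q u (W.col (τ i.val)) *
          ((hermForm n F q v (W.col (τ j.val))) ^ q *
            hermForm n F q (W.col i.val) (W.col j.val)) := by
    intro f g hfg
    rw [hermForm_sum_left hF]
    refine Finset.sum_congr rfl fun i _ => ?_
    rw [hermForm_sum_right hF]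
    refine Finset.sum_congr rfl fun j _ => ?_
    rw [hermForm_smul_left, hermForm_smul_right, hfg]
  have e1 : A *ᵥ u = ∑ i : Fin n, hermForm n F q u (W.col (τ i.val)) • (A *ᵥ W.col i.val) := by
    conv_lhs => rw [W.decomp u]
    rw [Matrix.mulVec_sum]
    exact Finset.sum_congr rfl fun i _ => by rw [mulVec_smul]
  have e2 : A *ᵥ v = ∑ i : Fin n, hermForm n F q v (W.col (τ i.val)) • (A *ᵥ W.col i.val) := by
    conv_lhs => rw [W.decomp v]
    rw [Matrix.mulVec_sum]
    exact Finset.sum_congr rfl fun i _ => by rw [mulVec_smul]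
  rw [e1, e2, key (fun i => A *ᵥ W.col i.val) (fun j => A *ᵥ W.col j.val) hA]
  conv_rhs => rw [W.decomp u, W.decomp v]
  rw [key (fun i => W.col i.val) (fun j => W.col j.val) (fun i j => rfl)]

theorem Mm_isom (π : Equiv.Perm (Fin n)) (c : Fin n → F)
    (hπ : ∀ j : Fin n, π (W.tF j) = W.tF (π j))
    (hc : ∀ j : Fin n, c j * (c (W.tF j)) ^ q = 1) (u v : Fin n → F) :
    hermForm n F q (W.Mm π c *ᵥ u) (W.Mm π c *ᵥ v) = hermForm n F q u v := by
  apply W.isom_of_basis
  intro i j
  rw [Mm_mulVec_col, Mm_mulVec_col, hermForm_smul_left, hermForm_smul_right, W.gramF, W.gramF]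
  by_cases h : j = W.tF i
  · rw [if_pos h, if_pos (by rw [h, hπ]), mul_one, h, hc]
  · rw [if_neg h, if_neg, mul_zero, mul_zero]
    intro h'
    apply h
    rw [← hπ] at h'
    exact π.injective h'

/-- the monomial element of `SU_n(q)` -/
noncomputable def mono (π : Equiv.Perm (Fin n)) (c : Fin n → F)
    (hπ : ∀ j : Fin n, π (W.tF j) = W.tF (π j))
    (hc : ∀ j : Fin n, c j * (c (W.tF j)) ^ q = 1)
    (hdet : (((Equiv.Perm.sign π : ℤˣ) : ℤ) : F) * ∏ j, c j = 1) : ↥(Cfsg.SU n F q) :=
  ⟨⟨W.Mm π c, by rw [det_Mm]; exact hdet⟩, fun u v => W.Mm_isom π c hπ hc u v⟩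

theorem act_mono (π : Equiv.Perm (Fin n)) (c : Fin n → F)
    (hπ : ∀ j : Fin n, π (W.tF j) = W.tF (π j))
    (hc : ∀ j : Fin n, c j * (c (W.tF j)) ^ q = 1)
    (hdet : (((Equiv.Perm.sign π : ℤˣ) : ℤ) : F) * ∏ j, c j = 1) (j : Fin n) :
    act (W.mono π c hπ hc hdet) (W.col j.val) = c j • W.col (π j).val :=
  W.Mm_mulVec_col π c j

/-- extensionality on a frame -/
theorem ext_act {g h : ↥(Cfsg.SU n F q)}
    (H : ∀ j, j < n → act g (W.col j) = act h (W.col j)) : g = h := by
  apply Rh.ext_act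
  intro x
  rw [W.decomp x]
  show g.1.1 *ᵥ _ = h.1.1 *ᵥ _
  rw [Matrix.mulVec_sum, Matrix.mulVec_sum]
  refine Finset.sum_congr rfl fun j _ => ?_
  rw [mulVec_smul, mulVec_smul]
  congr 1
  exact H j.val j.2

/-- elements acting diagonally on a frame commute -/
theorem diag_commute {g h : ↥(Cfsg.SU n F q)}
    (hg : ∀ j, j < n → ∃ a : F, act g (W.col j) = a • W.col j)
    (hh : ∀ j, j < n → ∃ a : F, act h (W.col j) = a • W.col j) : g * h = h * g := by
  apply W.ext_act
  intro j hj
  obtain ⟨a, ha⟩ := hg j hj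
  obtain ⟨b, hb⟩ := hh j hj
  rw [act_mul, act_mul, ha, hb, act_smul, act_smul, ha, hb, smul_smul, smul_smul, mul_comm]

theorem mem_of_all (S : Submodule F (Fin n → F)) (hS : ∀ j, j < n → W.col j ∈ S)
    (x : Fin n → F) : x ∈ S := by
  rw [W.decomp x]
  exact Submodule.sum_mem _ fun j _ => S.smul_mem _ (hS j.val j.2)

/-- membership of the vectors perpendicular to `col i₀` -/
theorem mem_of_perp (S : Submodule F (Fin n → F)) {i₀ : ℕ} (hi₀ : i₀ < n)
    (hS : ∀ j, j < n → j ≠ τ i₀ → W.col j ∈ S)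
    {x : Fin n → F} (hx : hermForm n F q x (W.col i₀) = 0) : x ∈ S := by
  rw [W.decomp x]
  refine Submodule.sum_mem _ fun j _ => ?_
  by_cases hj : j.val = τ i₀
  · have : τ j.val = i₀ := by rw [hj]; exact (W.hτ i₀ hi₀).2
    rw [this, hx, zero_smul]
    exact S.zero_mem
  · exact S.smul_mem _ (hS j.val j.2 hj)

theorem col_ne_zero {j : ℕ} (hj : j < n) : W.col j ≠ 0 := by
  intro h
  have h1 := W.gram j (τ j) hj (W.hτ j hj).1
  rw [if_pos rfl, h, hermForm_zero_left] at h1
  exact zero_ne_one h1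

end Fr

end Cfsg.Agent.Lib.Helper1.Un
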