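import Mathlib
import Cfsg.Prelude
import Cfsg.Agent.Lib.Helper1.Un1

set_option autoImplicit false
set_option maxHeartbeats 4000000
set_option linter.unusedVariables false
set_option linter.unusedSectionVars false
set_option linter.style.longLine false
set_option linter.unusedSimpArgs false
set_option linter.deprecated false

/-! Two-generation of `SU_n(q)`, part 2: root subgroups `{rhoS a (t • u) d}` with the parameter
`t`, and the extraction of a full root subgroup from a torus element `s` and a product `x * nn` of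
a root element and a monomial element. -/

namespace Cfsg.Agent.Lib.Helper1.Un

open Matrix Cfsg Cfsg.Agent.Lib.Helper5.Herm Cfsg.Agent.Lib.Helper5.HermTv
  Cfsg.Agent.Lib.Helper5.HermEich Cfsg.Agent.Lib.Helper5.HermSU Cfsg.Agent.Lib.Helper1.Rh
  Cfsg.Agent.Lib.Helper5 Cfsg.Agent.Lib.Helper5.SUReg Cfsg.Agent.Lib.Helper5.HermPerp

variable {F : Type*} [Field F] [Fintype F] {q n : ℕ}

section ugt

variable (hF : Fintype.card F = q ^ 2)

/-- `g` is the element `rhoS a (t • u) d` for some admissible `d`, which is `0` if `z` holds -/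
def UGt (z : Prop) (a u : Fin n → F) (t : F) (g : ↥(Cfsg.SU n F q)) : Prop :=
  ∃ d : F, (z → d = 0) ∧ EHyp n q a (t • u) d ∧ g = rhoS hF a (t • u) d

variable {hF}

theorem ehyp_neg' (hF : Fintype.card F = q ^ 2) {a b : Fin n → F} {c : F}
    (H : EHyp n q a b c) : EHyp n q a (-b) (c ^ q) :=
  ehyp_of_neg hF (by rwa [neg_neg, pow_q_pow_q hF])

theorem ehyp_of_smul_left {a b : Fin n → F} {c l : F} (hl : l ≠ 0)
    (H : EHyp n q (l • a) b c) : EHyp n q a b c where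
  hx := by
    have h1 := H.hx
    rw [hermForm_smul_left, hermForm_smul_right] at h1
    rcases mul_eq_zero.mp h1 with h | h
    · exact absurd h hl
    · rcases mul_eq_zero.mp h with h | h
      · exact absurd h (pow_ne_zero _ hl)
      · exact h
  hwx := by
    have h1 := H.hwx
    rw [hermForm_smul_right] at h1
    rcases mul_eq_zero.mp h1 with h | h
    · exact absurd h (pow_ne_zero _ hl)
    · exact h
  hb := H.hb

theorem UGt.conj {z : Prop} {a u : Fin n → F} {t : F} {g : ↥(Cfsg.SU n F q)}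
    (hg : UGt hF z a u t g) {h : ↥(Cfsg.SU n F q)} {a' u' : Fin n → F} {α β : F} (hα : α ≠ 0)
    (ha : act h a = α • a') (hu : act h u = β • u') :
    UGt hF z a' u' (α ^ q * β * t) (h * g * h⁻¹) := by
  obtain ⟨d, hz, E, rfl⟩ := hg
  have E' := ehyp_act h E
  rw [ha, act_smul, hu] at E'
  have E'' : EHyp n q a' (t • β • u') d := ehyp_of_smul_left hα E'
  have e1 : α ^ q • t • β • u' = (α ^ q * β * t) • u' := by
    rw [smul_smul, smul_smul]; congr 1; ring
  refine ⟨α ^ (q + 1) * d, fun h' => by rw [hz h', mul_zero], ?_, ?_⟩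
  · have := ehyp_smul_right hF E'' α
    rwa [e1] at this
  · rw [conj_rhoS, ha, act_smul, hu, rhoS_smul_left hF E'' α, e1]

theorem UGt.mul {z : Prop} {a u : Fin n → F} {t t' : F} {g g' : ↥(Cfsg.SU n F q)}
    (hz : z → hermForm n F q u u = 0)
    (hg : UGt hF z a u t g) (hg' : UGt hF z a u t' g') : UGt hF z a u (t + t') (g * g') := by
  obtain ⟨d, hd, E, rfl⟩ := hg
  obtain ⟨d', hd', E', rfl⟩ := hg'
  have e1 : t • u + t' • u = (t + t') • u := by rw [add_smul]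
  refine ⟨d + d' - hermForm n F q (t' • u) (t • u), ?_, ?_, ?_⟩
  · intro h
    rw [hd h, hd' h, hermForm_smul_left, hermForm_smul_right, hz h]
    ring
  · have := ehyp_add hF E E'
    rwa [e1] at this
  · rw [rhoS_mul hF E E', e1]

theorem UGt.inv {z : Prop} {a u : Fin n → F} {t : F} {g : ↥(Cfsg.SU n F q)}
    (hg : UGt hF z a u t g) : UGt hF z a u (-t) g⁻¹ := by
  obtain ⟨d, hd, E, rfl⟩ := hg
  have e1 : -(t • u) = (-t) • u := by rw [neg_smul]
  refine ⟨d ^ q, ?_, ?_, ?_⟩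
  · intro h
    rw [hd h, zero_pow (q_ne_zero hF)]
  · have := ehyp_neg' hF E
    rwa [e1] at this
  · rw [rhoS_inv, e1]

theorem UGt.one (z : Prop) {a : Fin n → F} (u : Fin n → F) (ha : hermForm n F q a a = 0) :
    UGt hF z a u 0 1 := by
  refine ⟨0, fun _ => rfl, ?_, ?_⟩
  · rw [zero_smul]
    exact ehyp_zero ha (by rw [zero_pow (q_ne_zero hF), add_zero])
  · rw [zero_smul, rhoS_zero_zero]

theorem UGt.congr {z : Prop} {a u : Fin n → F} {t t' : F} {g : ↥(Cfsg.SU n F q)}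
    (hg : UGt hF z a u t g) (h : t = t') : UGt hF z a u t' g := by rwa [← h]

theorem UGt.iso {z : Prop} {a u : Fin n → F} {t : F} {g : ↥(Cfsg.SU n F q)}
    (hg : UGt hF z a u t g) : hermForm n F q a a = 0 := by
  obtain ⟨d, hd, E, rfl⟩ := hg
  exact E.hx

/-- every element of the root subgroup lies in `H` -/
def Full (hF : Fintype.card F = q ^ 2) (H : Subgroup ↥(Cfsg.SU n F q)) (z : Prop)
    (a u : Fin n → F) : Prop :=
  ∀ t g, UGt hF z a u t g → g ∈ H

variable {H : Subgroup ↥(Cfsg.SU n F q)}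

theorem act_inv_of_smul {h : ↥(Cfsg.SU n F q)} {x y : Fin n → F} {α : F} (hα : α ≠ 0)
    (hx : act h x = α • y) : act h⁻¹ y = α⁻¹ • x := by
  have h1 : x = act h⁻¹ (α • y) := (act_eq_iff h x _).mp hx
  rw [act_smul] at h1
  rw [h1, smul_smul, inv_mul_cancel₀ hα, one_smul]

theorem Full.conj {z : Prop} {a u a' u' : Fin n → F} (hf : Full hF H z a u)
    {h : ↥(Cfsg.SU n F q)} (hh : h ∈ H) {α β : F} (hα : α ≠ 0) (hβ : β ≠ 0)
    (ha : act h a = α • a') (hu : act h u = β • u') : Full hF H z a' u' := by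
  intro t g hg
  have h1 := hg.conj (h := h⁻¹) (inv_ne_zero hα) (act_inv_of_smul hα ha) (act_inv_of_smul hβ hu)
  rw [inv_inv] at h1
  have h2 := hf _ _ h1
  have h3 : g = h * (h⁻¹ * g * h) * h⁻¹ := by group
  rw [h3]
  exact H.mul_mem (H.mul_mem hh h2) (H.inv_mem hh)

/-- for `z` true the element is determined by the parameter -/
theorem full_of_exists_true {a u : Fin n → F}
    (hall : ∀ t, ∃ g ∈ H, UGt hF True a u t g) : Full hF H True a u := by
  intro t g hg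
  obtain ⟨g', hg'H, d', hd', E', rfl⟩ := hall t
  obtain ⟨d, hd, E, rfl⟩ := hg
  rw [hd trivial]
  rw [hd' trivial] at hg'H
  exact hg'H

/-- for a vector `u` of norm one the commutators give the centre -/
theorem full_of_exists_false {a u : Fin n → F} (huu : hermForm n F q u u = 1)
    (hall : ∀ t, ∃ g ∈ H, UGt hF False a u t g) : Full hF H False a u := by
  have hC : ∀ d : F, d + d ^ q = 0 → rhoS hF a 0 d ∈ H := by
    intro d hd
    have hdq : d ^ q = -d := by linear_combination hd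
    obtain ⟨l, hl⟩ := exists_sub_conj hF d hdq
    obtain ⟨g₁, hg₁, c, -, hc, rfl⟩ := hall (-l)
    obtain ⟨g₂, hg₂, c', -, hc', rfl⟩ := hall 1
    have h1 := rhoS_comm hF hc hc'
    have h2 : hermForm n F q ((-l) • u) ((1 : F) • u) - hermForm n F q ((1 : F) • u) ((-l) • u)
        = d := by
      rw [hermForm_smul_left, hermForm_smul_right, hermForm_smul_left, hermForm_smul_right, huu,
        pow_q_neg hF, one_pow]
      linear_combination hl
    rw [h2] at h1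
    have h3 : rhoS hF a 0 d = rhoS hF a ((-l) • u) c * rhoS hF a ((1 : F) • u) c'
        * (rhoS hF a ((1 : F) • u) c' * rhoS hF a ((-l) • u) c)⁻¹ := by
      rw [h1]; group
    rw [h3]
    exact H.mul_mem (H.mul_mem hg₁ hg₂) (H.inv_mem (H.mul_mem hg₂ hg₁))
  intro t g hg
  obtain ⟨d, -, E, rfl⟩ := hg
  obtain ⟨g', hg'H, d', -, E', rfl⟩ := hall t
  have ht : (d - d') + (d - d') ^ q = 0 := by
    rw [pow_q_sub hF]
    linear_combination E.hb - E'.hb
  have := rhoS_mul_tv hF E' ht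
  rw [show d' + (d - d') = d by ring] at this
  rw [← this]
  exact H.mul_mem hg'H (hC _ ht)

/-- from one nontrivial element of the root subgroup to all parameters, by a torus element -/
theorem exists_all (z : Prop) {a u : Fin n → F} (hz : z → hermForm n F q u u = 0)
    {s : ↥(Cfsg.SU n F q)} (hs : s ∈ H) {α β : F} (hα : α ≠ 0)
    (ha : act s a = α • a) (hu : act s u = β • u) (hord : q ≤ orderOf (α ^ q * β))
    {ν : F} (hν : ν ≠ 0) {g₀ : ↥(Cfsg.SU n F q)} (hg₀ : g₀ ∈ H) (hg₀' : UGt hF z a u ν g₀) :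
    ∀ t, ∃ g ∈ H, UGt hF z a u t g := by
  have haa := hg₀'.iso
  set X : AddSubgroup F :=
    { carrier := {t | ∃ g ∈ H, UGt hF z a u (t * ν) g}
      zero_mem' := ⟨1, H.one_mem, by rw [zero_mul]; exact UGt.one z u haa⟩
      add_mem' := by
        rintro t t' ⟨g, hg, hgu⟩ ⟨g', hg', hgu'⟩
        exact ⟨g * g', H.mul_mem hg hg', (UGt.mul hz hgu hgu').congr (by ring)⟩
      neg_mem' := by
        rintro t ⟨g, hg, hgu⟩
        exact ⟨g⁻¹, H.inv_mem hg, hgu.inv.congr (by ring)⟩ } with hX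
  have h1 : (1 : F) ∈ X := ⟨g₀, hg₀, by rw [one_mul]; exact hg₀'⟩
  have hq2 : 2 ≤ q := two_le_q hF
  have hμ0 : α ^ q * β ≠ 0 := by
    intro h0
    rw [h0] at hord
    have : orderOf (0 : F) = 0 := by
      rw [orderOf_eq_zero_iff']
      intro k hk
      rw [zero_pow (by omega)]
      exact zero_ne_one
    omega
  have hμ : ∀ x ∈ X, α ^ q * β * x ∈ X := by
    rintro t ⟨g, hg, hgu⟩
    exact ⟨s * g * s⁻¹, H.mul_mem (H.mul_mem hs hg) (H.inv_mem hs),
      (hgu.conj hα ha hu).congr (by ring)⟩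
  have hXtop := field_gen hF X h1 hμ0 hμ hord
  intro t
  have ht : t / ν ∈ X := by rw [hXtop]; trivial
  obtain ⟨g, hg, hgu⟩ := ht
  exact ⟨g, hg, hgu.congr (by field_simp)⟩

/-- the key step: a nontrivial root element from the two generators -/
theorem main_step (z : Prop) {e0 u0 fl u1 : Fin n → F}
    (hz0 : z → hermForm n F q u0 u0 = 0) (hz1 : z → hermForm n F q u1 u1 = 0)
    {s x nn : ↥(Cfsg.SU n F q)} (hs : s ∈ H) (hb : x * nn ∈ H)
    (hT : s * (nn⁻¹ * s * nn * s⁻¹) = (nn⁻¹ * s * nn * s⁻¹) * s)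
    (hx : UGt hF z e0 u0 1 x)
    {α₀ β₀ α₁ β₁ γ δ : F} (hα₀ : α₀ ≠ 0) (hα₁ : α₁ ≠ 0) (hγ : γ ≠ 0) (hδ : δ ≠ 0)
    (hs0 : act s e0 = α₀ • e0) (hs0u : act s u0 = β₀ • u0)
    (hs1 : act s fl = α₁ • fl) (hs1u : act s u1 = β₁ • u1)
    (hn0 : act nn fl = γ • e0) (hn1 : act nn u1 = δ • u0)
    (hμ : α₀ ^ q * β₀ ≠ 1) (hord : q ≤ orderOf (α₁ ^ q * β₁)) :
    ∀ t, ∃ g ∈ H, UGt hF z fl u1 t g := by
  have hq2 : 2 ≤ q := two_le_q hF
  set T := nn⁻¹ * s * nn * s⁻¹ with hTdef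
  set X := nn⁻¹ * (x⁻¹ * (s * x * s⁻¹)) * nn with hXdef
  set b := x * nn with hbdef
  have e1 : b⁻¹ * s * b * s⁻¹ = X * T := by
    rw [hbdef, hXdef, hTdef]; group
  have e2 : s * T * s⁻¹ = T := by rw [hT]; group
  have e3 : s * (X * T) * s⁻¹ * (X * T)⁻¹ = (s * X * s⁻¹) * X⁻¹ := by
    have : s * (X * T) * s⁻¹ * (X * T)⁻¹ = (s * X * s⁻¹) * (s * T * s⁻¹) * T⁻¹ * X⁻¹ := by group
    rw [this, e2]; group
  have hy : (s * X * s⁻¹) * X⁻¹ ∈ H := by
    rw [← e3, ← e1]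
    have hg1 : b⁻¹ * s * b * s⁻¹ ∈ H :=
      H.mul_mem (H.mul_mem (H.mul_mem (H.inv_mem hb) hs) hb) (H.inv_mem hs)
    exact H.mul_mem (H.mul_mem (H.mul_mem hs hg1) (H.inv_mem hs)) (H.inv_mem hg1)
  -- parameters
  have p1 : UGt hF z e0 u0 (α₀ ^ q * β₀ * 1) (s * x * s⁻¹) := hx.conj hα₀ hs0 hs0u
  have p2 : UGt hF z e0 u0 (-1 + α₀ ^ q * β₀ * 1) (x⁻¹ * (s * x * s⁻¹)) := UGt.mul hz0 hx.inv p1
  have p3 := p2.conj (h := nn⁻¹) (inv_ne_zero hγ) (act_inv_of_smul hγ hn0) (act_inv_of_smul hδ hn1)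
  rw [inv_inv] at p3
  set ν := γ⁻¹ ^ q * δ⁻¹ * (-1 + α₀ ^ q * β₀ * 1) with hνdef
  have hν : ν ≠ 0 := by
    rw [hνdef]
    refine mul_ne_zero (mul_ne_zero (pow_ne_zero _ (inv_ne_zero hγ)) (inv_ne_zero hδ)) ?_
    intro h0
    apply hμ
    linear_combination h0
  have p4 : UGt hF z fl u1 (α₁ ^ q * β₁ * ν) (s * X * s⁻¹) := p3.conj hα₁ hs1 hs1u
  have p5 : UGt hF z fl u1 (α₁ ^ q * β₁ * ν + -ν) ((s * X * s⁻¹) * X⁻¹) := UGt.mul hz1 p4 p3.inv
  have hμ1 : α₁ ^ q * β₁ ≠ 1 := by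
    intro h1
    rw [h1, orderOf_one] at hord
    omega
  have hν' : α₁ ^ q * β₁ * ν + -ν ≠ 0 := by
    have : α₁ ^ q * β₁ * ν + -ν = (α₁ ^ q * β₁ - 1) * ν := by ring
    rw [this]
    exact mul_ne_zero (sub_ne_zero.mpr hμ1) hν
  exact exists_all z hz1 hs hα₁ hs1 hs1u hord hν' hy p5

/-- transfer of the full root subgroup through the second generator -/
theorem full_of_conj_mul (z : Prop) {e0 u0 fl u1 : Fin n → F}
    (hz0 : z → hermForm n F q u0 u0 = 0) {x nn : ↥(Cfsg.SU n F q)} (hb : x * nn ∈ H)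
    {t₀ : F} (hx : UGt hF z e0 u0 t₀ x) {γ δ : F} (hγ : γ ≠ 0) (hδ : δ ≠ 0)
    (hn0 : act nn fl = γ • e0) (hn1 : act nn u1 = δ • u0) (hf : Full hF H z fl u1) :
    Full hF H z e0 u0 := by
  intro t g hg
  have p1 : UGt hF z e0 u0 (-t₀ + t + t₀) (x⁻¹ * g * x) :=
    UGt.mul hz0 (UGt.mul hz0 hx.inv hg) hx
  have p2 := p1.conj (h := nn⁻¹) (inv_ne_zero hγ) (act_inv_of_smul hγ hn0)
    (act_inv_of_smul hδ hn1)
  rw [inv_inv] at p2
  have h2 := hf _ _ p2
  have h3 : g = (x * nn) * (nn⁻¹ * (x⁻¹ * g * x) * nn) * (x * nn)⁻¹ := by group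
  rw [h3]
  exact H.mul_mem (H.mul_mem hb h2) (H.inv_mem hb)

end ugt

end Cfsg.Agent.Lib.Helper1.Un
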