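import Mathlib
import Cfsg.Prelude
import Cfsg.Agent.Lib.Helper1.Un2

set_option autoImplicit false
set_option maxHeartbeats 4000000
set_option linter.unusedVariables false
set_option linter.unusedSectionVars false
set_option linter.style.longLine false
set_option linter.unusedSimpArgs false
set_option linter.deprecated false

/-! Two-generation of `SU_n(q)`, part 3: Witt frames, the torus element and the Coxeter element. -/

namespace Cfsg.Agent.Lib.Helper1.Un

open Matrix Cfsg Cfsg.Agent.Lib.Helper5.Herm Cfsg.Agent.Lib.Helper5.HermTv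
  Cfsg.Agent.Lib.Helper5.HermEich Cfsg.Agent.Lib.Helper5.HermSU Cfsg.Agent.Lib.Helper1.Rh
  Cfsg.Agent.Lib.Helper5 Cfsg.Agent.Lib.Helper5.SUReg Cfsg.Agent.Lib.Helper5.HermPerp

/-- the involution `j ↔ j + m` of `{0, …, 2m-1}`, fixing everything else -/
def tw (m j : ℕ) : ℕ := if j < m then j + m else if j < 2 * m then j - m else j

theorem tw_spec {m n : ℕ} (hn : 2 * m ≤ n) : ∀ j, j < n → tw m j < n ∧ tw m (tw m j) = j := by
  intro j hj
  unfold tw
  split_ifs <;> first | omega | (exfalso; assumption)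

/-- the cycle `0 → 1 → ⋯ → 2m-1 → 0`, fixing everything else -/
def rot (m j : ℕ) : ℕ := if j + 1 < 2 * m then j + 1 else if j + 1 = 2 * m then 0 else j

/-- the inverse cycle -/
def rotInv (m j : ℕ) : ℕ := if j = 0 then 2 * m - 1 else if j < 2 * m then j - 1 else j

theorem rot_lt {m n j : ℕ} (hm : 1 ≤ m) (hn : 2 * m ≤ n) (hj : j < n) : rot m j < n := by
  unfold rot; split_ifs <;> first | omega | (exfalso; assumption)

theorem rotInv_lt {m n j : ℕ} (hm : 1 ≤ m) (hn : 2 * m ≤ n) (hj : j < n) : rotInv m j < n := by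
  unfold rotInv; split_ifs <;> first | omega | (exfalso; assumption)

theorem rotInv_rot {m j : ℕ} (hm : 1 ≤ m) : rotInv m (rot m j) = j := by
  unfold rotInv rot; split_ifs <;> first | omega | (exfalso; assumption)

theorem rot_rotInv {m j : ℕ} (hm : 1 ≤ m) : rot m (rotInv m j) = j := by
  unfold rotInv rot; split_ifs <;> first | omega | (exfalso; assumption)

theorem rot_tw {m j : ℕ} (hm : 1 ≤ m) : rot m (tw m j) = tw m (rot m j) := by
  unfold rot tw; split_ifs <;> first | omega | (exfalso; assumption)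

/-- the cycle as a permutation of `Fin n` -/
def rotP (m n : ℕ) : Equiv.Perm (Fin n) :=
  if h : 1 ≤ m ∧ 2 * m ≤ n then
    { toFun := fun j => ⟨rot m j.val, rot_lt h.1 h.2 j.2⟩
      invFun := fun j => ⟨rotInv m j.val, rotInv_lt h.1 h.2 j.2⟩
      left_inv := fun j => Fin.ext (rotInv_rot h.1)
      right_inv := fun j => Fin.ext (rot_rotInv h.1) }
  else 1

theorem rotP_val {m n : ℕ} (hm : 1 ≤ m) (hn : 2 * m ≤ n) (j : Fin n) :
    (rotP m n j).val = rot m j.val := by
  unfold rotP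
  rw [dif_pos ⟨hm, hn⟩]
  rfl

/-- the function equal to `a` at `i` and to `1` elsewhere -/
def pt {F : Type*} [Field F] (i : ℕ) (a : F) (j : ℕ) : F := if i = j then a else 1

section pt
variable {F : Type*} [Field F]

theorem pt_self (i : ℕ) (a : F) : pt i a i = a := by unfold pt; rw [if_pos rfl]

theorem pt_ne {i j : ℕ} (a : F) (h : i ≠ j) : pt i a j = 1 := by unfold pt; rw [if_neg h]

theorem prod_pt {n i : ℕ} (hi : i < n) (a : F) : ∏ j : Fin n, pt i a j.val = a := by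
  rw [Fin.prod_univ_eq_prod_range (fun j => pt i a j) n]
  unfold pt
  rw [Finset.prod_ite_eq, if_pos (Finset.mem_range.mpr hi)]

theorem pt_ne_zero {i : ℕ} {a : F} (ha : a ≠ 0) (j : ℕ) : pt i a j ≠ 0 := by
  unfold pt; split_ifs
  · exact ha
  · exact one_ne_zero

end pt

variable {F : Type*} [Field F] [Fintype F] {q n m : ℕ}

/-- the eigenvalues of the torus element -/
noncomputable def lam (k : F) (q m : ℕ) (j : ℕ) : F :=
  pt 0 k⁻¹ j * pt m (k ^ q) j * pt (m - 1) k j * pt (2 * m - 1) (k ^ q)⁻¹ j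

/-- the scalars of the Coxeter element -/
noncomputable def cc (c : F) (q m : ℕ) (j : ℕ) : F :=
  pt (m - 1) c j * pt (2 * m - 1) (c ^ q)⁻¹ j

theorem lam_zero (k : F) (hm : 2 ≤ m) : lam k q m 0 = k⁻¹ := by
  unfold lam
  rw [pt_self, pt_ne _ (by omega), pt_ne _ (by omega), pt_ne _ (by omega), mul_one, mul_one, mul_one]

theorem lam_m (k : F) (hm : 2 ≤ m) : lam k q m m = k ^ q := by
  unfold lam
  rw [pt_self, pt_ne _ (by omega), pt_ne _ (by omega), pt_ne _ (by omega), one_mul, mul_one, mul_one]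

theorem lam_m1 (k : F) (hm : 2 ≤ m) : lam k q m (m - 1) = k := by
  unfold lam
  rw [pt_self, pt_ne _ (by omega), pt_ne _ (by omega), pt_ne _ (by omega), one_mul, one_mul, mul_one]

theorem lam_2m1 (k : F) (hm : 2 ≤ m) : lam k q m (2 * m - 1) = (k ^ q)⁻¹ := by
  unfold lam
  rw [pt_self, pt_ne _ (by omega), pt_ne _ (by omega), pt_ne _ (by omega), one_mul, one_mul, one_mul]

theorem lam_else (k : F) {j : ℕ} (h0 : j ≠ 0) (h1 : j ≠ m) (h2 : j ≠ m - 1) (h3 : j ≠ 2 * m - 1) :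
    lam k q m j = 1 := by
  unfold lam
  rw [pt_ne _ (by omega), pt_ne _ (by omega), pt_ne _ (by omega), pt_ne _ (by omega), one_mul,
    one_mul, one_mul]

theorem lam_ne_zero {k : F} (hk : k ≠ 0) (j : ℕ) : lam k q m j ≠ 0 := by
  unfold lam
  exact mul_ne_zero (mul_ne_zero (mul_ne_zero (pt_ne_zero (inv_ne_zero hk) j)
    (pt_ne_zero (pow_ne_zero _ hk) j)) (pt_ne_zero hk j))
    (pt_ne_zero (inv_ne_zero (pow_ne_zero _ hk)) j)

theorem cc_m1 (c : F) (hm : 2 ≤ m) : cc c q m (m - 1) = c := by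
  unfold cc
  rw [pt_self, pt_ne _ (by omega), mul_one]

theorem cc_2m1 (c : F) (hm : 2 ≤ m) : cc c q m (2 * m - 1) = (c ^ q)⁻¹ := by
  unfold cc
  rw [pt_self, pt_ne _ (by omega), one_mul]

theorem cc_else (c : F) {j : ℕ} (h2 : j ≠ m - 1) (h3 : j ≠ 2 * m - 1) : cc c q m j = 1 := by
  unfold cc
  rw [pt_ne _ (by omega), pt_ne _ (by omega), one_mul]

theorem cc_ne_zero {c : F} (hc : c ≠ 0) (j : ℕ) : cc c q m j ≠ 0 := by
  unfold cc
  exact mul_ne_zero (pt_ne_zero hc j) (pt_ne_zero (inv_ne_zero (pow_ne_zero _ hc)) j)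

theorem lam_tw (hF : Fintype.card F = q ^ 2) {k : F} (hk : k ≠ 0) (hm : 2 ≤ m) (j : ℕ) :
    lam k q m j * (lam k q m (tw m j)) ^ q = 1 := by
  by_cases h0 : j = 0
  · have : tw m j = m := by rw [h0]; unfold tw; split_ifs <;> first | omega | (exfalso; assumption)
    rw [this, h0, lam_zero k hm, lam_m k hm, pow_q_pow_q hF, inv_mul_cancel₀ hk]
  by_cases h1 : j = m
  · have : tw m j = 0 := by rw [h1]; unfold tw; split_ifs <;> first | omega | (exfalso; assumption)
    rw [this, h1, lam_zero k hm, lam_m k hm, ← mul_pow, mul_inv_cancel₀ hk, one_pow]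
  by_cases h2 : j = m - 1
  · have : tw m j = 2 * m - 1 := by rw [h2]; unfold tw; split_ifs <;> first | omega | (exfalso; assumption)
    rw [this, h2, lam_m1 k hm, lam_2m1 k hm, inv_pow, pow_q_pow_q hF, mul_inv_cancel₀ hk]
  by_cases h3 : j = 2 * m - 1
  · have : tw m j = m - 1 := by rw [h3]; unfold tw; split_ifs <;> first | omega | (exfalso; assumption)
    rw [this, h3, lam_m1 k hm, lam_2m1 k hm, inv_mul_cancel₀ (pow_ne_zero _ hk)]
  · have e1 : tw m j ≠ 0 := by unfold tw; split_ifs <;> first | omega | (exfalso; assumption)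
    have e2 : tw m j ≠ m := by unfold tw; split_ifs <;> first | omega | (exfalso; assumption)
    have e3 : tw m j ≠ m - 1 := by unfold tw; split_ifs <;> first | omega | (exfalso; assumption)
    have e4 : tw m j ≠ 2 * m - 1 := by unfold tw; split_ifs <;> first | omega | (exfalso; assumption)
    rw [lam_else k h0 h1 h2 h3, lam_else k e1 e2 e3 e4, one_pow, one_mul]

theorem cc_tw (hF : Fintype.card F = q ^ 2) {c : F} (hc : c ≠ 0) (hm : 2 ≤ m) (j : ℕ) :
    cc c q m j * (cc c q m (tw m j)) ^ q = 1 := by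
  by_cases h2 : j = m - 1
  · have : tw m j = 2 * m - 1 := by rw [h2]; unfold tw; split_ifs <;> first | omega | (exfalso; assumption)
    rw [this, h2, cc_m1 c hm, cc_2m1 c hm, inv_pow, pow_q_pow_q hF, mul_inv_cancel₀ hc]
  by_cases h3 : j = 2 * m - 1
  · have : tw m j = m - 1 := by rw [h3]; unfold tw; split_ifs <;> first | omega | (exfalso; assumption)
    rw [this, h3, cc_m1 c hm, cc_2m1 c hm, inv_mul_cancel₀ (pow_ne_zero _ hc)]
  · have e3 : tw m j ≠ m - 1 := by unfold tw; split_ifs <;> first | omega | (exfalso; assumption)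
    have e4 : tw m j ≠ 2 * m - 1 := by unfold tw; split_ifs <;> first | omega | (exfalso; assumption)
    rw [cc_else c h2 h3, cc_else c e3 e4, one_pow, one_mul]

theorem prod_lam {k : F} (hk : k ≠ 0) (hm : 2 ≤ m) (hn : 2 * m ≤ n) :
    ∏ j : Fin n, lam k q m j.val = 1 := by
  unfold lam
  rw [Finset.prod_mul_distrib, Finset.prod_mul_distrib, Finset.prod_mul_distrib,
    prod_pt (by omega), prod_pt (by omega), prod_pt (by omega), prod_pt (by omega)]
  have := pow_ne_zero q hk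
  field_simp

theorem prod_cc (c : F) (hm : 2 ≤ m) (hn : 2 * m ≤ n) :
    ∏ j : Fin n, cc c q m j.val = c * (c ^ q)⁻¹ := by
  unfold cc
  rw [Finset.prod_mul_distrib, prod_pt (by omega), prod_pt (by omega)]

/-- the data for the generation argument -/
structure Dat (F : Type*) [Field F] [Fintype F] (q n m : ℕ) extends Fr F q n (tw m) where
  hm : 2 ≤ m
  hn1 : 2 * m ≤ n
  hn2 : n ≤ 2 * m + 1
  k : F
  hk0 : k ≠ 0
  hkord : orderOf k = q ^ 2 - 1
  c : F
  hc0 : c ≠ 0
  hc : c ^ q = (((Equiv.Perm.sign (rotP m n) : ℤˣ) : ℤ) : F) * c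

theorem exists_dat (hF : Fintype.card F = q ^ 2) (hm : 2 ≤ m) (hn1 : 2 * m ≤ n)
    (hn2 : n ≤ 2 * m + 1) : Nonempty (Dat F q n m) := by
  obtain ⟨W⟩ := exists_fr (F := F) (q := q) (n := n) (τ := tw m) hF (tw_spec hn1)
  obtain ⟨k, hk0, hk⟩ := exists_gen F
  have hkord := orderOf_gen hF hk0 hk
  have hc : ∃ c : F, c ≠ 0 ∧ c ^ q = (((Equiv.Perm.sign (rotP m n) : ℤˣ) : ℤ) : F) * c := by
    rcases Int.units_eq_one_or (Equiv.Perm.sign (rotP m n)) with h | h
    · refine ⟨1, one_ne_zero, ?_⟩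
      rw [h]; simp
    · obtain ⟨c, hc0, hc⟩ := exists_trace_zero hF
      refine ⟨c, hc0, ?_⟩
      rw [h, hc]; simp
  obtain ⟨c, hc0, hc⟩ := hc
  exact ⟨Dat.mk W hm hn1 hn2 k hk0 hkord c hc0 hc⟩

namespace Dat

variable (D : Dat F q n m)

theorem hm1 (D : Dat F q n m) : 1 ≤ m := by have := D.hm; omega

theorem form_col {i j : ℕ} (hi : i < n) (hj : j < n) :
    hermForm n F q (D.col i) (D.col j) = if j = tw m i then 1 else 0 := D.gram i j hi hj

/-- the torus element -/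
noncomputable def tor : ↥(Cfsg.SU n F q) :=
  D.toFr.mono 1 (fun j => lam D.k q m j.val) (fun j => rfl)
    (fun j => lam_tw D.hF D.hk0 D.hm j.val)
    (by rw [Equiv.Perm.sign_one, prod_lam D.hk0 D.hm D.hn1]; simp)

theorem act_tor {j : ℕ} (hj : j < n) : act D.tor (D.col j) = lam D.k q m j • D.col j := by
  have := D.toFr.act_mono 1 (fun j => lam D.k q m j.val) (fun j => rfl)
    (fun j => lam_tw D.hF D.hk0 D.hm j.val)
    (by rw [Equiv.Perm.sign_one, prod_lam D.hk0 D.hm D.hn1]; simp) ⟨j, hj⟩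
  exact this

theorem cox_hπ (j : Fin n) : rotP m n (D.toFr.tF j) = D.toFr.tF (rotP m n j) := by
  apply Fin.ext
  rw [rotP_val D.hm1 D.hn1, Fr.tF_val, Fr.tF_val, rotP_val D.hm1 D.hn1]
  exact rot_tw D.hm1

theorem cox_det : (((Equiv.Perm.sign (rotP m n) : ℤˣ) : ℤ) : F) *
    ∏ j : Fin n, cc D.c q m j.val = 1 := by
  rw [prod_cc D.c D.hm D.hn1, D.hc, ← mul_assoc]
  have : (((Equiv.Perm.sign (rotP m n) : ℤˣ) : ℤ) : F) * D.c ≠ 0 := by
    rw [← D.hc]; exact pow_ne_zero _ D.hc0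
  exact mul_inv_cancel₀ this

/-- the Coxeter element -/
noncomputable def cox : ↥(Cfsg.SU n F q) :=
  D.toFr.mono (rotP m n) (fun j => cc D.c q m j.val) D.cox_hπ
    (fun j => cc_tw D.hF D.hc0 D.hm j.val) D.cox_det

theorem act_cox {j : ℕ} (hj : j < n) :
    act D.cox (D.col j) = cc D.c q m j • D.col (rot m j) := by
  have := D.toFr.act_mono (rotP m n) (fun j => cc D.c q m j.val) D.cox_hπ
    (fun j => cc_tw D.hF D.hc0 D.hm j.val) D.cox_det ⟨j, hj⟩
  rw [rotP_val D.hm1 D.hn1] at this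
  exact this

theorem act_tor_inv {j : ℕ} (hj : j < n) :
    act D.tor⁻¹ (D.col j) = (lam D.k q m j)⁻¹ • D.col j :=
  act_inv_of_smul (lam_ne_zero D.hk0 j) (D.act_tor hj)

theorem act_cox_inv {j : ℕ} (hj : j < n) :
    act D.cox⁻¹ (D.col (rot m j)) = (cc D.c q m j)⁻¹ • D.col j :=
  act_inv_of_smul (cc_ne_zero D.hc0 j) (D.act_cox hj)

/-- the torus commutes with its Coxeter conjugate -/
theorem tor_comm :
    D.tor * (D.cox⁻¹ * D.tor * D.cox * D.tor⁻¹) = (D.cox⁻¹ * D.tor * D.cox * D.tor⁻¹) * D.tor := by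
  apply D.toFr.diag_commute
  · intro j hj
    exact ⟨_, D.act_tor hj⟩
  · intro j hj
    have hr : rot m j < n := rot_lt D.hm1 D.hn1 hj
    refine ⟨(lam D.k q m j)⁻¹ * (cc D.c q m j * (lam D.k q m (rot m j) * (cc D.c q m j)⁻¹)), ?_⟩
    rw [act_mul, act_mul, act_mul, D.act_tor_inv hj]
    simp only [act_smul]
    rw [D.act_cox hj]
    simp only [act_smul]
    rw [D.act_tor hr]
    simp only [act_smul]
    rw [D.act_cox_inv hj, smul_smul, smul_smul, smul_smul]
    congr 1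
    ring

/-- powers of the Coxeter element move `col 0` along the frame -/
theorem cox_pow (i : ℕ) (hi : i < 2 * m) :
    ∃ θ : F, θ ≠ 0 ∧ act (D.cox ^ i) (D.col 0) = θ • D.col i := by
  have hn1 := D.hn1
  induction i with
  | zero => exact ⟨1, one_ne_zero, by rw [pow_zero, act_one, one_smul]⟩
  | succ i ih =>
    obtain ⟨θ, hθ, h⟩ := ih (by omega)
    refine ⟨θ * cc D.c q m i, mul_ne_zero hθ (cc_ne_zero D.hc0 i), ?_⟩
    have hr : rot m i = i + 1 := by unfold rot; rw [if_pos hi]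
    rw [pow_succ', act_mul, h, act_smul, D.act_cox (by omega), hr, smul_smul]

theorem hq2 (D : Dat F q n m) : 2 ≤ q := two_le_q D.hF

/-- `k ^ (2q) ≠ 1` -/
theorem k_pow_2q : D.k ^ (2 * q) ≠ 1 := by
  intro h
  have h1 : orderOf D.k ∣ 2 * q := orderOf_dvd_of_pow_eq_one h
  rw [D.hkord] at h1
  have hq2 := D.hq2
  have h2 : q ^ 2 - 1 ≤ 2 * q := Nat.le_of_dvd (by omega) h1
  have h3 : q = 2 := by nlinarith [Nat.sub_add_cancel (Nat.one_le_pow 2 q (by omega))]
  rw [h3] at h1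
  norm_num at h1

theorem k_pow_q : D.k ^ q ≠ 1 := by
  intro h
  apply D.k_pow_2q
  rw [two_mul, pow_add, h, one_mul]

/-- the multiplier `k^(q-1)` has at least `q` powers -/
theorem ord_even : q ≤ orderOf (((D.k ^ q)⁻¹) ^ q * D.k ^ q) := by
  have hq2 := D.hq2
  have e : ((D.k ^ q)⁻¹) ^ q * D.k ^ q = D.k ^ (q - 1) := by
    rw [inv_pow, pow_q_pow_q D.hF]
    have : D.k ^ q = D.k ^ (q - 1) * D.k := by rw [← pow_succ]; congr 1; omega
    rw [this]
    field_simp [D.hk0]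
  rw [e]
  apply le_orderOf_of_pow_ne_one (pow_ne_zero _ D.hk0)
  intro j hj0 hjq
  rw [← pow_mul]
  apply pow_ne_one_of_lt_orderOf (by
    have : 0 < (q - 1) * j := Nat.mul_pos (by omega) hj0
    omega)
  rw [D.hkord]
  have h1 : (q - 1) * j ≤ (q - 1) * (q - 1) := Nat.mul_le_mul_left _ (by omega)
  have h2 : (q - 1) * (q - 1) < q ^ 2 - 1 := by
    obtain ⟨r, rfl⟩ : ∃ r, q = r + 2 := ⟨q - 2, by omega⟩
    have : (r + 2) ^ 2 = (r + 1) * (r + 1) + 2 * r + 3 := by ring
    have e1 : r + 2 - 1 = r + 1 := by omega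
    rw [e1, this]
    omega
  omega

theorem ord_odd : q ≤ orderOf (((D.k ^ q)⁻¹) ^ q * 1) := by
  have hq2 := D.hq2
  have hinv : orderOf D.k⁻¹ = orderOf D.k := by
    rw [orderOf_eq_orderOf_iff]
    intro i
    rw [inv_pow, inv_eq_one]
  rw [mul_one, inv_pow, pow_q_pow_q D.hF, hinv, D.hkord]
  have : q ≤ q ^ 2 - 1 := by
    obtain ⟨r, rfl⟩ : ∃ r, q = r + 2 := ⟨q - 2, by omega⟩
    have : (r + 2) ^ 2 = r * r + 4 * r + 4 := by ring
    rw [this]
    omega
  exact this

end Dat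

end Cfsg.Agent.Lib.Helper1.Un
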