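import Mathlib
import Cfsg.Prelude
import Cfsg.Agent.Lib.Helper1.Un3

set_option autoImplicit false
set_option maxHeartbeats 4000000
set_option linter.unusedVariables false
set_option linter.unusedSectionVars false
set_option linter.style.longLine false
set_option linter.unusedSimpArgs false
set_option linter.deprecated false

/-! Two-generation of `SU_n(q)`, part 4: the generation argument. -/

namespace Cfsg.Agent.Lib.Helper1.Un

open Matrix Cfsg Cfsg.Agent.Lib.Helper5.Herm Cfsg.Agent.Lib.Helper5.HermTv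
  Cfsg.Agent.Lib.Helper5.HermEich Cfsg.Agent.Lib.Helper5.HermSU Cfsg.Agent.Lib.Helper1.Rh
  Cfsg.Agent.Lib.Helper5 Cfsg.Agent.Lib.Helper5.SUReg Cfsg.Agent.Lib.Helper5.HermPerp

variable {F : Type*} [Field F] [Fintype F] {q n m : ℕ}

theorem tw_cases (m i : ℕ) : (i < m ∧ tw m i = i + m) ∨ (m ≤ i ∧ i < 2 * m ∧ tw m i = i - m) ∨
    (2 * m ≤ i ∧ tw m i = i) := by
  unfold tw; split_ifs <;> omega

theorem rot_cases (m i : ℕ) : (i + 1 < 2 * m ∧ rot m i = i + 1) ∨ (i + 1 = 2 * m ∧ rot m i = 0) ∨
    (2 * m ≤ i ∧ rot m i = i) := by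
  unfold rot; split_ifs <;> omega

theorem mfull_act {hF : Fintype.card F = q ^ 2} {H : Subgroup ↥(Cfsg.SU n F q)} {a : Fin n → F}
    {ha : hermForm n F q a a = 0} {g : ↥(Cfsg.SU n F q)} (hg : g ∈ H) (hfix : act g a = a)
    {v : Fin n → F} (hv : v ∈ Mfull (Mgrp hF H a ha)) : act g v ∈ Mfull (Mgrp hF H a ha) := by
  intro x
  rw [← act_smul]
  exact act_mem_Mgrp hg hfix (hv x)

theorem ehyp_iso (hF : Fintype.card F = q ^ 2) {a u : Fin n → F} (haa : hermForm n F q a a = 0)
    (hua : hermForm n F q u a = 0) (huu : hermForm n F q u u = 0) (t : F) :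
    EHyp n q a (t • u) 0 where
  hx := haa
  hwx := by rw [hermForm_smul_left, hua, mul_zero]
  hb := by
    rw [hermForm_smul_left, hermForm_smul_right, huu, zero_pow (q_ne_zero hF)]
    ring

theorem exists_ehyp (hF : Fintype.card F = q ^ 2) {a u : Fin n → F}
    (haa : hermForm n F q a a = 0) (hua : hermForm n F q u a = 0) (t : F) :
    ∃ d, EHyp n q a (t • u) d := by
  have h1 : (-(hermForm n F q (t • u) (t • u))) ^ q = -(hermForm n F q (t • u) (t • u)) := by
    rw [pow_q_neg hF, hermForm_conj hF]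
  obtain ⟨d, hd⟩ := exists_trace_eq hF _ h1
  refine ⟨d, haa, ?_, ?_⟩
  · rw [hermForm_smul_left, hua, mul_zero]
  · rw [hd]; ring

/-- swapping the two isotropic vectors of a root element -/
theorem rhoS_swap (hF : Fintype.card F = q ^ 2) {a b : Fin n → F} (haa : hermForm n F q a a = 0)
    (hbb : hermForm n F q b b = 0) (hab : hermForm n F q a b = 0) (t : F) :
    rhoS hF a (t • b) 0 = rhoS hF b ((-(t ^ q)) • a) 0 := by
  have hba : hermForm n F q b a = 0 := form_symm_zero hF hab
  have E1 : EHyp n q a (t • b) 0 := ehyp_iso hF haa hba hbb t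
  have E2 : EHyp n q b ((-(t ^ q)) • a) 0 := ehyp_iso hF hbb hab haa _
  apply Rh.ext_act
  intro x
  rw [act_rhoS hF E1, act_rhoS hF E2, hermForm_smul_right, hermForm_smul_right, pow_q_neg hF,
    pow_q_pow_q hF]
  module

namespace Dat

variable (D : Dat F q n m) {H : Subgroup ↥(Cfsg.SU n F q)}

theorem form0 {i j : ℕ} (hi : i < n) (hj : j < n) (h : j ≠ tw m i) :
    hermForm n F q (D.col i) (D.col j) = 0 := by
  rw [D.form_col hi hj, if_neg h]

theorem form1 {i j : ℕ} (hi : i < n) (hj : j < n) (h : j = tw m i) :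
    hermForm n F q (D.col i) (D.col j) = 1 := by
  rw [D.form_col hi hj, if_pos h]

/-- the common part of the argument -/
theorem core (z : Prop) {i0 i1 : ℕ} (hi0 : i0 < n) (hi1 : i1 < n) (hrot : rot m i1 = i0)
    (hz0 : z → hermForm n F q (D.col i0) (D.col i0) = 0)
    (hz1 : z → hermForm n F q (D.col i1) (D.col i1) = 0)
    {x : ↥(Cfsg.SU n F q)} (hx : UGt D.hF z (D.col 0) (D.col i0) 1 x)
    (hμ : (D.k⁻¹) ^ q * lam D.k q m i0 ≠ 1)
    (hord : q ≤ orderOf (((D.k ^ q)⁻¹) ^ q * lam D.k q m i1))
    (hs : D.tor ∈ H) (hb : x * D.cox ∈ H)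
    (hfe : (∀ t, ∃ g ∈ H, UGt D.hF z (D.col (2 * m - 1)) (D.col i1) t g) →
      Full D.hF H z (D.col (2 * m - 1)) (D.col i1)) :
    x ∈ H ∧ D.cox ∈ H ∧ Full D.hF H z (D.col 0) (D.col i0) := by
  have hm := D.hm
  have hn1 := D.hn1
  have h0 : 0 < n := by omega
  have hfl : 2 * m - 1 < n := by omega
  have hs0 := D.act_tor h0
  rw [lam_zero D.k hm] at hs0
  have hs0u := D.act_tor hi0
  have hs1 := D.act_tor hfl
  rw [lam_2m1 D.k hm] at hs1
  have hs1u := D.act_tor hi1
  have hn0 := D.act_cox hfl
  have hr0 : rot m (2 * m - 1) = 0 := by have := rot_cases m (2 * m - 1); omega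
  rw [hr0] at hn0
  have hn1' := D.act_cox hi1
  rw [hrot] at hn1'
  have hγ : cc D.c q m (2 * m - 1) ≠ 0 := cc_ne_zero D.hc0 _
  have hδ : cc D.c q m i1 ≠ 0 := cc_ne_zero D.hc0 _
  have hα₀ : D.k⁻¹ ≠ 0 := inv_ne_zero D.hk0
  have hα₁ : (D.k ^ q)⁻¹ ≠ 0 := inv_ne_zero (pow_ne_zero _ D.hk0)
  have hall := main_step (hF := D.hF) (H := H) z hz0 hz1 hs hb D.tor_comm hx hα₀ hα₁ hγ hδ
    hs0 hs0u hs1 hs1u hn0 hn1' hμ hord
  have hfull1 := hfe hall
  have hfull0 := full_of_conj_mul (hF := D.hF) (H := H) z hz0 hb hx hγ hδ hn0 hn1' hfull1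
  have hxH : x ∈ H := hfull0 1 x hx
  refine ⟨hxH, ?_, hfull0⟩
  have : D.cox = x⁻¹ * (x * D.cox) := by group
  rw [this]
  exact H.mul_mem (H.inv_mem hxH) hb

/-- the endgame: the radical of `col 0` and the Coxeter element generate -/
theorem top_of_mfull (hn4 : 4 ≤ n) (hcox : D.cox ∈ H)
    (ha : hermForm n F q (D.col 0) (D.col 0) = 0)
    (hall : ∀ j, j < n → j ≠ m → D.col j ∈ Mfull (Mgrp D.hF H (D.col 0) ha)) : H = ⊤ := by
  have hm := D.hm
  have hn1 := D.hn1
  have h0 : 0 < n := by omega
  have htw0 : tw m 0 = m := by have := tw_cases m 0; omega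
  have hrad : ∀ b, hermForm n F q b (D.col 0) = 0 →
      ∃ c, EHyp n q (D.col 0) b c ∧ rhoS D.hF (D.col 0) b c ∈ H := by
    intro b hb
    have h1 : b ∈ Mfull (Mgrp D.hF H (D.col 0) ha) :=
      D.toFr.mem_of_perp _ h0 (fun j hj hjm => hall j hj (by rw [htw0] at hjm; exact hjm)) hb
    have h2 := h1 1
    rw [one_smul] at h2
    exact h2
  have hb₁ : hermForm n F q (D.col 1) (D.col 0) = 0 :=
    D.form0 (by omega) h0 (by have := tw_cases m 1; omega)
  have hb₂ : hermForm n F q (D.col (m + 1)) (D.col 0) = 0 :=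
    D.form0 (by omega) h0 (by have := tw_cases m (m + 1); omega)
  have h12 : hermForm n F q (D.col 1) (D.col (m + 1)) = 1 :=
    D.form1 (by omega) (by omega) (by have := tw_cases m 1; omega)
  have hC : ∀ t : F, t + t ^ q = 0 → rhoS D.hF (D.col 0) 0 t ∈ H := fun t ht =>
    center_of_rad ha hrad hb₁ hb₂ h12 ht
  have hR := rad_all hrad hC
  obtain ⟨θ, hθ, hpow⟩ := D.cox_pow m (by omega)
  have hne : hermForm n F q (act (D.cox ^ m) (D.col 0)) (D.col 0) ≠ 0 := by
    rw [hpow, hermForm_smul_left, D.form1 (by omega) h0 (by have := tw_cases m m; omega), mul_one]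
    exact hθ
  exact top_of_rad_gen (by omega) (by omega) (D.toFr.col_ne_zero h0) ha hR (H.pow_mem hcox m) hne

/-- the even-dimensional case -/
theorem gen_even (D : Dat F q n m) (hn : n = 2 * m) :
    ∃ a b : ↥(Cfsg.SU n F q), Subgroup.closure ({a, b} : Set ↥(Cfsg.SU n F q)) = ⊤ := by
  have hm := D.hm
  have hn1 := D.hn1
  have hF := D.hF
  have hq0 : q ≠ 0 := q_ne_zero hF
  have h0 : 0 < n := by omega
  have ha : hermForm n F q (D.col 0) (D.col 0) = 0 :=
    D.form0 h0 h0 (by have := tw_cases m 0; omega)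
  -- isotropy of the frame vectors
  have hiso : ∀ j, j < n → hermForm n F q (D.col j) (D.col j) = 0 := by
    intro j hj
    exact D.form0 hj hj (by have := tw_cases m j; omega)
  have hE : EHyp n q (D.col 0) ((1 : F) • D.col (m + 1)) 0 :=
    ehyp_iso hF ha (D.form0 (by omega) h0 (by have := tw_cases m (m + 1); omega))
      (hiso _ (by omega)) 1
  set x := rhoS hF (D.col 0) ((1 : F) • D.col (m + 1)) 0 with hxdef
  have hx : UGt D.hF True (D.col 0) (D.col (m + 1)) 1 x := ⟨0, fun _ => rfl, hE, rfl⟩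
  refine ⟨D.tor, x * D.cox, ?_⟩
  set H := Subgroup.closure ({D.tor, x * D.cox} : Set ↥(Cfsg.SU n F q)) with hH
  have hs : D.tor ∈ H := Subgroup.subset_closure (by simp)
  have hb : x * D.cox ∈ H := Subgroup.subset_closure (by simp)
  have hμ : (D.k⁻¹) ^ q * lam D.k q m (m + 1) ≠ 1 := by
    by_cases h3 : m + 1 = 2 * m - 1
    · rw [h3, lam_2m1 D.k hm, inv_pow, ← mul_inv, ← pow_two, ← pow_mul, mul_comm q 2]
      intro h
      exact D.k_pow_2q (inv_eq_one.mp h)
    · rw [lam_else D.k (by omega) (by omega) (by omega) h3, mul_one, inv_pow]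
      intro h
      exact D.k_pow_q (inv_eq_one.mp h)
  have hord : q ≤ orderOf (((D.k ^ q)⁻¹) ^ q * lam D.k q m m) := by
    rw [lam_m D.k hm]; exact D.ord_even
  obtain ⟨hxH, hcox, hfull0⟩ := D.core (H := H) True (i0 := m + 1) (i1 := m) (by omega) (by omega)
    (by have := rot_cases m m; omega) (fun _ => hiso _ (by omega)) (fun _ => hiso _ (by omega))
    hx hμ hord hs hb full_of_exists_true
  -- the root groups along the Coxeter orbit
  have hR : ∀ j, j < m → Full D.hF H True (D.col j) (D.col (rot m (j + m))) := by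
    intro j
    induction j with
    | zero =>
      intro _
      have : rot m (0 + m) = m + 1 := by have := rot_cases m (0 + m); omega
      rw [this]; exact hfull0
    | succ j ih =>
      intro hj
      have h1 := ih (by omega)
      have e1 : rot m j = j + 1 := by have := rot_cases m j; omega
      have e2 : rot m (j + m) = j + m + 1 := by have := rot_cases m (j + m); omega
      have e3 : rot m (j + m + 1) = rot m (j + 1 + m) := by congr 1; omega
      have c1 := D.act_cox (j := j) (by omega)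
      have c2 := D.act_cox (j := rot m (j + m)) (by rw [e2]; omega)
      rw [e1] at c1
      rw [e2, e3] at c2
      rw [e2] at h1
      exact h1.conj hcox (cc_ne_zero D.hc0 _) (cc_ne_zero D.hc0 _) c1 c2
  set M := Mgrp D.hF H (D.col 0) ha with hM
  -- the elements used in the chains
  have hu : ∀ j, 1 ≤ j → j + 2 ≤ m →
      rhoS hF (D.col j) ((1 : F) • D.col (j + m + 1)) 0 ∈ H ∧
      act (rhoS hF (D.col j) ((1 : F) • D.col (j + m + 1)) 0) (D.col 0) = D.col 0 ∧
      act (rhoS hF (D.col j) ((1 : F) • D.col (j + m + 1)) 0) (D.col (j + m))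
        = D.col (j + m) + D.col (j + m + 1) ∧
      act (rhoS hF (D.col j) ((1 : F) • D.col (j + m + 1)) 0) (D.col (j + 1))
        = D.col (j + 1) - D.col j := by
    intro j hj1 hj2
    have E : EHyp n q (D.col j) ((1 : F) • D.col (j + m + 1)) 0 :=
      ehyp_iso hF (hiso _ (by omega))
        (D.form0 (by omega) (by omega) (by have := tw_cases m (j + m + 1); omega))
        (hiso _ (by omega)) 1
    have e2 : rot m (j + m) = j + m + 1 := by have := rot_cases m (j + m); omega
    have hmem : rhoS hF (D.col j) ((1 : F) • D.col (j + m + 1)) 0 ∈ H := by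
      have := hR j (by omega)
      rw [e2] at this
      exact this 1 _ ⟨0, fun _ => rfl, E, rfl⟩
    refine ⟨hmem, ?_, ?_, ?_⟩
    · rw [act_rhoS hF E, hermForm_smul_right,
        D.form0 h0 (by omega) (by have := tw_cases m 0; omega),
        D.form0 h0 (by omega) (by have := tw_cases m 0; omega)]
      simp
    · rw [act_rhoS hF E, hermForm_smul_right,
        D.form1 (by omega) (by omega) (by have := tw_cases m (j + m); omega),
        D.form0 (by omega) (by omega) (by have := tw_cases m (j + m); omega)]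
      simp
    · rw [act_rhoS hF E, hermForm_smul_right,
        D.form0 (by omega) (by omega) (by have := tw_cases m (j + 1); omega),
        D.form1 (by omega) (by omega) (by have := tw_cases m (j + 1); omega)]
      simp [sub_eq_add_neg]
  -- the `f`-chain
  have hf : ∀ i, i + 2 ≤ m → D.col (m + 1 + i) ∈ Mfull M := by
    intro i
    induction i with
    | zero =>
      intro _
      intro t
      rw [hM, mem_Mgrp]
      have E : EHyp n q (D.col 0) (t • D.col (m + 1)) 0 :=
        ehyp_iso hF ha (D.form0 (by omega) h0 (by have := tw_cases m (m + 1); omega))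
          (hiso _ (by omega)) t
      exact ⟨0, E, hfull0 t _ ⟨0, fun _ => rfl, E, rfl⟩⟩
    | succ i ih =>
      intro hi
      have h1 := ih (by omega)
      obtain ⟨hmem, hfix, hact, -⟩ := hu (i + 1) (by omega) (by omega)
      have h2 := mfull_act hmem hfix h1
      have e1 : m + 1 + i = i + 1 + m := by omega
      have e2 : m + 1 + (i + 1) = i + 1 + m + 1 := by omega
      rw [e1] at h1 h2
      rw [hact] at h2
      rw [e2]
      have := (Mfull M).sub_mem h2 h1
      rwa [add_sub_cancel_left] at this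
  -- the last `e`
  have helast : D.col (m - 1) ∈ Mfull M := by
    intro t
    rw [hM, mem_Mgrp]
    have hr : rot m (m - 1 + m) = 0 := by have := rot_cases m (m - 1 + m); omega
    have hfl := hR (m - 1) (by omega)
    rw [hr] at hfl
    have hab : hermForm n F q (D.col (m - 1)) (D.col 0) = 0 :=
      D.form0 (by omega) h0 (by have := tw_cases m (m - 1); omega)
    have hba : hermForm n F q (D.col 0) (D.col (m - 1)) = 0 := form_symm_zero hF hab
    have E : EHyp n q (D.col (m - 1)) ((-(t ^ q)) • D.col 0) 0 :=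
      ehyp_iso hF (hiso _ (by omega)) hba ha _
    have hmem := hfl _ _ ⟨0, fun _ => rfl, E, rfl⟩
    rw [rhoS_swap hF (hiso _ (by omega)) ha hab, pow_q_neg hF, pow_q_pow_q hF, neg_neg] at hmem
    exact ⟨0, ehyp_iso hF ha hab (hiso _ (by omega)) t, hmem⟩
  -- the `e`-chain
  have he : ∀ i, i + 2 ≤ m → D.col (m - 1 - i) ∈ Mfull M := by
    intro i
    induction i with
    | zero => intro _; exact helast
    | succ i ih =>
      intro hi
      have h1 := ih (by omega)
      obtain ⟨hmem, hfix, -, hact⟩ := hu (m - 2 - i) (by omega) (by omega)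
      have e1 : m - 2 - i + 1 = m - 1 - i := by omega
      have e2 : m - 1 - (i + 1) = m - 2 - i := by omega
      rw [e1] at hact
      have h2 := mfull_act hmem hfix h1
      rw [hact] at h2
      rw [e2]
      have := (Mfull M).sub_mem h1 h2
      rwa [sub_sub_cancel] at this
  -- everything perpendicular to `col 0`
  have hall : ∀ j, j < n → j ≠ m → D.col j ∈ Mfull M := by
    intro j hj hjm
    by_cases hj0 : j = 0
    · rw [hj0]
      intro t
      exact smul_self_mem_Mgrp D.hF H (D.col 0) ha t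
    by_cases hjl : j < m
    · have := he (m - 1 - j) (by omega)
      have e : m - 1 - (m - 1 - j) = j := by omega
      rwa [e] at this
    · have := hf (j - m - 1) (by omega)
      have e : m + 1 + (j - m - 1) = j := by omega
      rwa [e] at this
  exact D.top_of_mfull (by omega) hcox ha hall

/-- the odd-dimensional case -/
theorem gen_odd (D : Dat F q n m) (hn : n = 2 * m + 1) :
    ∃ a b : ↥(Cfsg.SU n F q), Subgroup.closure ({a, b} : Set ↥(Cfsg.SU n F q)) = ⊤ := by
  have hm := D.hm
  have hn1 := D.hn1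
  have hF := D.hF
  have hq0 : q ≠ 0 := q_ne_zero hF
  have h0 : 0 < n := by omega
  have hw : 2 * m < n := by omega
  have ha : hermForm n F q (D.col 0) (D.col 0) = 0 :=
    D.form0 h0 h0 (by have := tw_cases m 0; omega)
  have hiso : ∀ j, j < 2 * m → hermForm n F q (D.col j) (D.col j) = 0 := by
    intro j hj
    exact D.form0 (by omega) (by omega) (by have := tw_cases m j; omega)
  have hww : hermForm n F q (D.col (2 * m)) (D.col (2 * m)) = 1 :=
    D.form1 hw hw (by have := tw_cases m (2 * m); omega)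
  have hwj : ∀ j, j < 2 * m → hermForm n F q (D.col (2 * m)) (D.col j) = 0 := by
    intro j hj
    exact D.form0 hw (by omega) (by have := tw_cases m (2 * m); omega)
  have hjw : ∀ j, j < 2 * m → hermForm n F q (D.col j) (D.col (2 * m)) = 0 := by
    intro j hj
    exact D.form0 (by omega) hw (by have := tw_cases m j; omega)
  obtain ⟨c₀, hc₀⟩ := exists_trace_eq hF (-1 : F) (pow_q_neg_one hF)
  have hE : EHyp n q (D.col 0) ((1 : F) • D.col (2 * m)) c₀ := by
    refine ⟨ha, ?_, ?_⟩
    · rw [hermForm_smul_left, hwj 0 (by omega), mul_zero]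
    · rw [hermForm_smul_left, hermForm_smul_right, hww, hc₀]; simp
  set x := rhoS hF (D.col 0) ((1 : F) • D.col (2 * m)) c₀ with hxdef
  have hx : UGt D.hF False (D.col 0) (D.col (2 * m)) 1 x := ⟨c₀, fun h => h.elim, hE, rfl⟩
  refine ⟨D.tor, x * D.cox, ?_⟩
  set H := Subgroup.closure ({D.tor, x * D.cox} : Set ↥(Cfsg.SU n F q)) with hH
  have hs : D.tor ∈ H := Subgroup.subset_closure (by simp)
  have hb : x * D.cox ∈ H := Subgroup.subset_closure (by simp)
  have hlw : lam D.k q m (2 * m) = 1 := lam_else D.k (by omega) (by omega) (by omega) (by omega)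
  have hμ : (D.k⁻¹) ^ q * lam D.k q m (2 * m) ≠ 1 := by
    rw [hlw, mul_one, inv_pow]
    intro h
    exact D.k_pow_q (inv_eq_one.mp h)
  have hord : q ≤ orderOf (((D.k ^ q)⁻¹) ^ q * lam D.k q m (2 * m)) := by
    rw [hlw]; exact D.ord_odd
  obtain ⟨hxH, hcox, hfull0⟩ := D.core (H := H) False (i0 := 2 * m) (i1 := 2 * m) hw hw
    (by have := rot_cases m (2 * m); omega) (fun h => h.elim) (fun h => h.elim)
    hx hμ hord hs hb (full_of_exists_false hww)
  -- the root groups along the Coxeter orbit
  have hcw : act D.cox (D.col (2 * m)) = (1 : F) • D.col (2 * m) := by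
    have := D.act_cox hw
    have e1 : rot m (2 * m) = 2 * m := by have := rot_cases m (2 * m); omega
    rw [e1, cc_else D.c (by omega) (by omega)] at this
    exact this
  have hR : ∀ j, j < 2 * m → Full D.hF H False (D.col j) (D.col (2 * m)) := by
    intro j
    induction j with
    | zero => intro _; exact hfull0
    | succ j ih =>
      intro hj
      have h1 := ih (by omega)
      have e1 : rot m j = j + 1 := by have := rot_cases m j; omega
      have c1 := D.act_cox (j := j) (by omega)
      rw [e1] at c1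
      exact h1.conj hcox (cc_ne_zero D.hc0 _) one_ne_zero c1 hcw
  set M := Mgrp D.hF H (D.col 0) ha with hM
  have hwfull : D.col (2 * m) ∈ Mfull M := by
    intro t
    rw [hM, mem_Mgrp]
    obtain ⟨d, hd⟩ := exists_ehyp hF ha (hwj 0 (by omega)) t
    exact ⟨d, hd, hfull0 t _ ⟨d, fun h => h.elim, hd, rfl⟩⟩
  have hall : ∀ j, j < n → j ≠ m → D.col j ∈ Mfull M := by
    intro j hj hjm
    by_cases hj0 : j = 0
    · rw [hj0]
      intro t
      exact smul_self_mem_Mgrp D.hF H (D.col 0) ha t
    by_cases hjw' : j = 2 * m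
    · rw [hjw']; exact hwfull
    have hj2 : j < 2 * m := by omega
    obtain ⟨d, hd⟩ := exists_ehyp hF (hiso j hj2) (hwj j hj2) (1 : F)
    have hmem : rhoS hF (D.col j) ((1 : F) • D.col (2 * m)) d ∈ H :=
      hR j hj2 1 _ ⟨d, fun h => h.elim, hd, rfl⟩
    have hfix : act (rhoS hF (D.col j) ((1 : F) • D.col (2 * m)) d) (D.col 0) = D.col 0 := by
      rw [act_rhoS hF hd, hermForm_smul_right,
        D.form0 h0 (by omega) (by have := tw_cases m 0; omega), hjw 0 (by omega)]
      simp
    have hact : act (rhoS hF (D.col j) ((1 : F) • D.col (2 * m)) d) (D.col (2 * m))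
        = D.col (2 * m) - D.col j := by
      rw [act_rhoS hF hd, hermForm_smul_right, hwj j hj2, hww]
      simp [sub_eq_add_neg]
    have h2 := mfull_act hmem hfix hwfull
    rw [hact] at h2
    have := (Mfull M).sub_mem hwfull h2
    rwa [sub_sub_cancel] at this
  exact D.top_of_mfull (by omega) hcox ha hall

end Dat

/-- `SU_n(q)` is generated by two elements for `n ≥ 4` -/
theorem su_two_gen (hF : Fintype.card F = q ^ 2) (hn : 4 ≤ n) :
    ∃ a b : ↥(Cfsg.SU n F q), Subgroup.closure ({a, b} : Set ↥(Cfsg.SU n F q)) = ⊤ := by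
  rcases Nat.even_or_odd' n with ⟨m, hm | hm⟩
  · obtain ⟨D⟩ := exists_dat (F := F) (q := q) (n := n) (m := m) hF (by omega) (by omega) (by omega)
    exact D.gen_even hm
  · obtain ⟨D⟩ := exists_dat (F := F) (q := q) (n := n) (m := m) hF (by omega) (by omega) (by omega)
    exact D.gen_odd hm

end Cfsg.Agent.Lib.Helper1.Un
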