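import Mathlib
import Cfsg.Prelude.Def_PLocal
import Cfsg.Agent.Lib.Helper1.ThompsonPQ
set_option autoImplicit false
open scoped commutatorElement
universe u
namespace Cfsg.Agent.Lib.Helper1.Uniserial

variable {L : Type u} [Group L]

theorem card_mul_relIndex {H K : Subgroup L} (h : H ≤ K) :
    Nat.card H * H.relIndex K = Nat.card K := by
  have := Subgroup.relIndex_mul_relIndex ⊥ H K bot_le h
  rwa [Subgroup.relIndex_bot_left, Subgroup.relIndex_bot_left] at this

/-- a proper subgroup of a `p`-group has at most `1/p` of the elements -/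
theorem card_mul_le_of_lt [Finite L] {p : ℕ} [hp : Fact p.Prime] {H K : Subgroup L}
    (hK : IsPGroup p K) (h : H < K) : Nat.card H * p ≤ Nat.card K := by
  have h1 := card_mul_relIndex h.le
  have h2 : H.relIndex K ≠ 1 := by
    intro h1'
    rw [Subgroup.relIndex_eq_one] at h1'
    exact (not_le_of_gt h) h1'
  obtain ⟨k, hk⟩ := IsPGroup.iff_card.mp hK
  have h3 : H.relIndex K ∣ p ^ k := by
    rw [← hk, ← h1]; exact dvd_mul_left _ _
  obtain ⟨j, -, hj⟩ := (Nat.dvd_prime_pow hp.out).mp h3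
  have hj0 : j ≠ 0 := by
    intro h0; apply h2; rw [hj, h0, pow_zero]
  have h4 : p ≤ H.relIndex K := by
    rw [hj]
    calc p = p ^ 1 := (pow_one p).symm
      _ ≤ p ^ j := Nat.pow_le_pow_right hp.out.pos (Nat.one_le_iff_ne_zero.mpr hj0)
  calc Nat.card H * p ≤ Nat.card H * H.relIndex K := Nat.mul_le_mul_left _ h4
    _ = Nat.card K := h1

variable (N G : Subgroup L)

theorem iter_succ (i : ℕ) : Cfsg.iterCommutator N G (i + 1) = ⁅Cfsg.iterCommutator N G i, G⁆ := rfl

theorem iter_zero : Cfsg.iterCommutator N G 0 = N := rfl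

theorem le_normalizer_iter (hGN : G ≤ Subgroup.normalizer (N : Set L)) (i : ℕ) :
    G ≤ Subgroup.normalizer ((Cfsg.iterCommutator N G i : Subgroup L) : Set L) := by
  induction i with
  | zero => exact hGN
  | succ i ih =>
    rw [iter_succ]
    exact le_normalizer_commutator ih Subgroup.le_normalizer

theorem iter_succ_le (hGN : G ≤ Subgroup.normalizer (N : Set L)) (i : ℕ) :
    Cfsg.iterCommutator N G (i + 1) ≤ Cfsg.iterCommutator N G i := by
  rw [iter_succ]
  exact Subgroup.le_normalizer_iff_commutator_le_left.mp (le_normalizer_iter N G hGN i)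

theorem iter_antitone (hGN : G ≤ Subgroup.normalizer (N : Set L)) {i j : ℕ} (h : i ≤ j) :
    Cfsg.iterCommutator N G j ≤ Cfsg.iterCommutator N G i := by
  induction h with
  | refl => exact le_rfl
  | step _ ih => exact (iter_succ_le N G hGN _).trans ih

theorem iter_le (hGN : G ≤ Subgroup.normalizer (N : Set L)) (i : ℕ) :
    Cfsg.iterCommutator N G i ≤ N := iter_antitone N G hGN (Nat.zero_le i)

theorem iter_succ_lt [Finite L] {p : ℕ} [Fact p.Prime] (hN : IsPGroup p N) (hG : IsPGroup p G)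
    (hGN : G ≤ Subgroup.normalizer (N : Set L)) (i : ℕ)
    (hne : Cfsg.iterCommutator N G i ≠ ⊥) :
    Cfsg.iterCommutator N G (i + 1) < Cfsg.iterCommutator N G i := by
  rw [iter_succ]
  exact commutator_lt_of_isPGroup p (hN.to_le (iter_le N G hGN i)) hG
    (le_normalizer_iter N G hGN i) hne

/-- general upper bound on the orders in the chain -/
theorem card_iter_mul_le [Finite L] {p : ℕ} [hp : Fact p.Prime] (hN : IsPGroup p N)
    (hG : IsPGroup p G) (hGN : G ≤ Subgroup.normalizer (N : Set L)) (i : ℕ) :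
    Cfsg.iterCommutator N G i = ⊥ ∨
      Nat.card (Cfsg.iterCommutator N G i) * p ^ i ≤ Nat.card N := by
  induction i with
  | zero => right; rw [iter_zero, pow_zero, mul_one]
  | succ i ih =>
    rcases ih with h | h
    · left
      rw [iter_succ, h, eq_bot_iff]
      exact Subgroup.commutator_le_left ⊥ G
    · by_cases hne : Cfsg.iterCommutator N G i = ⊥
      · left
        rw [iter_succ, hne, eq_bot_iff]
        exact Subgroup.commutator_le_left ⊥ G
      · right
        have hlt := iter_succ_lt N G hN hG hGN i hne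
        have h1 := card_mul_le_of_lt (hN.to_le (iter_le N G hGN i)) hlt
        calc Nat.card (Cfsg.iterCommutator N G (i + 1)) * p ^ (i + 1)
            = (Nat.card (Cfsg.iterCommutator N G (i + 1)) * p) * p ^ i := by rw [pow_succ]; ring
          _ ≤ Nat.card (Cfsg.iterCommutator N G i) * p ^ i := Nat.mul_le_mul_right _ h1
          _ ≤ Nat.card N := h

end Cfsg.Agent.Lib.Helper1.Uniserial

namespace Cfsg.Agent.Lib.Helper1.Uniserial

variable {L : Type u} [Group L] (N G : Subgroup L)

theorem card_iter_le [Finite L] {p : ℕ} [hp : Fact p.Prime] (hN : IsPGroup p N)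
    (hG : IsPGroup p G) (hGN : G ≤ Subgroup.normalizer (N : Set L)) (n : ℕ)
    (hn : Nat.card N = p ^ n) (i : ℕ) (hi : i ≤ n) :
    Nat.card (Cfsg.iterCommutator N G i) ≤ p ^ (n - i) := by
  rcases card_iter_mul_le N G hN hG hGN i with h | h
  · rw [h, Subgroup.card_bot]
    exact Nat.one_le_pow _ _ hp.out.pos
  · rw [hn] at h
    have e : p ^ n = p ^ (n - i) * p ^ i := by rw [← pow_add, Nat.sub_add_cancel hi]
    rw [e] at h
    exact Nat.le_of_mul_le_mul_right h (pow_pos hp.out.pos i)

theorem card_ge_of_ne_bot [Finite L] {p : ℕ} [hp : Fact p.Prime] {H : Subgroup L}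
    (hH : IsPGroup p H) (hne : H ≠ ⊥) : p ≤ Nat.card H := by
  have := card_mul_le_of_lt hH (bot_lt_iff_ne_bot.mpr hne)
  rwa [Subgroup.card_bot, one_mul] at this

theorem card_iter_ge [Finite L] {p : ℕ} [hp : Fact p.Prime] (hN : IsPGroup p N)
    (hG : IsPGroup p G) (hGN : G ≤ Subgroup.normalizer (N : Set L)) (n : ℕ)
    (hC : Cfsg.iterCommutator N G (n - 1) ≠ ⊥) (hn1 : 1 ≤ n) :
    ∀ k, k ≤ n - 1 → p ^ (k + 1) ≤ Nat.card (Cfsg.iterCommutator N G (n - 1 - k)) := by
  intro k
  induction k with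
  | zero =>
    intro _
    rw [Nat.sub_zero, zero_add, pow_one]
    exact card_ge_of_ne_bot (hN.to_le (iter_le N G hGN _)) hC
  | succ k ih =>
    intro hk
    have ih' := ih (by omega)
    have hne : Cfsg.iterCommutator N G (n - 1 - (k + 1)) ≠ ⊥ := by
      intro hbot
      apply hC
      rw [eq_bot_iff, ← hbot]
      exact iter_antitone N G hGN (by omega)
    have hlt := iter_succ_lt N G hN hG hGN _ hne
    have e : n - 1 - (k + 1) + 1 = n - 1 - k := by omega
    rw [e] at hlt
    have h1 := card_mul_le_of_lt (hN.to_le (iter_le N G hGN _)) hlt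
    calc p ^ (k + 1 + 1) = p ^ (k + 1) * p := pow_succ _ _
      _ ≤ Nat.card (Cfsg.iterCommutator N G (n - 1 - k)) * p := Nat.mul_le_mul_right _ ih'
      _ ≤ _ := h1

/-- under the chain condition all orders in the chain are determined -/
theorem card_iter [Finite L] {p : ℕ} [hp : Fact p.Prime] (hN : IsPGroup p N)
    (hG : IsPGroup p G) (hGN : G ≤ Subgroup.normalizer (N : Set L)) (n : ℕ)
    (hn : Nat.card N = p ^ n) (hC : Cfsg.iterCommutator N G (n - 1) ≠ ⊥ ∨ n = 0)
    (i : ℕ) (hi : i ≤ n) : Nat.card (Cfsg.iterCommutator N G i) = p ^ (n - i) := by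
  apply le_antisymm (card_iter_le N G hN hG hGN n hn i hi)
  rcases Nat.lt_or_ge i n with hlt | hge
  · have hn1 : 1 ≤ n := by omega
    have hC' : Cfsg.iterCommutator N G (n - 1) ≠ ⊥ := by
      rcases hC with h | h
      · exact h
      · omega
    have := card_iter_ge N G hN hG hGN n hC' hn1 (n - 1 - i) (by omega)
    have e1 : n - 1 - i + 1 = n - i := by omega
    have e2 : n - 1 - (n - 1 - i) = i := by omega
    rwa [e1, e2] at this
  · have : n - i = 0 := by omega
    rw [this, pow_zero]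
    exact Nat.card_pos

end Cfsg.Agent.Lib.Helper1.Uniserial

namespace Cfsg.Agent.Lib.Helper1.Uniserial

variable {L : Type u} [Group L] (N G : Subgroup L)

theorem ne_bot_of_card [Finite L] {p : ℕ} [hp : Fact p.Prime] {H : Subgroup L} {k : ℕ}
    (h : Nat.card H = p ^ k) (hk : 0 < k) : H ≠ ⊥ := by
  intro hbot
  rw [hbot, Subgroup.card_bot] at h
  have : 1 < p ^ k := Nat.one_lt_pow hk.ne' hp.out.one_lt
  omega

/-- under the chain condition the chain is the lower central chain of the action of `N ⊔ G` -/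
theorem normal_step [Finite L] {p : ℕ} [hp : Fact p.Prime] (hN : IsPGroup p N)
    (hG : IsPGroup p G) (hGN : G ≤ Subgroup.normalizer (N : Set L)) (n : ℕ)
    (hcard : ∀ i ≤ n, Nat.card (Cfsg.iterCommutator N G i) = p ^ (n - i)) :
    ∀ i ≤ n, N ⊔ G ≤ Subgroup.normalizer ((Cfsg.iterCommutator N G i : Subgroup L) : Set L) ∧
      (i < n → Cfsg.iterCommutator N G (i + 1) = ⁅Cfsg.iterCommutator N G i, N ⊔ G⁆) := by
  have hX : IsPGroup p (N ⊔ G : Subgroup L) := IsPGroup.to_sup_of_normal_left' hN hG hGN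
  have key : ∀ i < n, N ⊔ G ≤ Subgroup.normalizer
      ((Cfsg.iterCommutator N G i : Subgroup L) : Set L) →
      Cfsg.iterCommutator N G (i + 1) = ⁅Cfsg.iterCommutator N G i, N ⊔ G⁆ := by
    intro i hi hnorm
    have hNi : IsPGroup p (Cfsg.iterCommutator N G i) := hN.to_le (iter_le N G hGN i)
    have hne : Cfsg.iterCommutator N G i ≠ ⊥ :=
      ne_bot_of_card (hcard i hi.le) (by omega)
    have hlt := commutator_lt_of_isPGroup p hNi hX hnorm hne
    have hle : Cfsg.iterCommutator N G (i + 1) ≤ ⁅Cfsg.iterCommutator N G i, N ⊔ G⁆ := by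
      rw [iter_succ]
      exact Subgroup.commutator_mono le_rfl le_sup_right
    apply Subgroup.eq_of_le_of_card_ge hle
    have h1 := card_mul_le_of_lt hNi hlt
    rw [hcard i hi.le] at h1
    rw [hcard (i + 1) hi]
    have e : p ^ (n - i) = p ^ (n - (i + 1)) * p := by
      rw [← pow_succ]; congr 1; omega
    rw [e] at h1
    exact Nat.le_of_mul_le_mul_right h1 hp.out.pos
  intro i
  induction i with
  | zero =>
    intro _
    have h0 : N ⊔ G ≤ Subgroup.normalizer ((Cfsg.iterCommutator N G 0 : Subgroup L) : Set L) :=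
      sup_le Subgroup.le_normalizer hGN
    exact ⟨h0, fun h => key 0 h h0⟩
  | succ i ih =>
    intro hi
    obtain ⟨h1, h2⟩ := ih (by omega)
    have h3 := h2 (by omega)
    have h4 : N ⊔ G ≤ Subgroup.normalizer
        ((Cfsg.iterCommutator N G (i + 1) : Subgroup L) : Set L) := by
      rw [h3]
      exact le_normalizer_commutator h1 Subgroup.le_normalizer
    exact ⟨h4, fun h => key (i + 1) h h4⟩

end Cfsg.Agent.Lib.Helper1.Uniserial

namespace Cfsg.Agent.Lib.Helper1.Uniserial

variable {L : Type u} [Group L] (N G : Subgroup L)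

theorem comm_mul_eq (x y g : L) : ⁅x * y, g⁆ = x * ⁅y, g⁆ * x⁻¹ * ⁅x, g⁆ := by
  simp only [commutatorElement_def]; group

theorem comm_inv_eq (x g : L) : ⁅x⁻¹, g⁆ = x⁻¹ * ⁅x, g⁆⁻¹ * x := by
  simp only [commutatorElement_def]; group

/-- the elements of `A` whose commutators with `G` lie in a subgroup `M` normalized by `A` -/
def commInto (A G M : Subgroup L) (hAM : A ≤ Subgroup.normalizer (M : Set L)) : Subgroup L where
  carrier := {x | x ∈ A ∧ ∀ g ∈ G, ⁅x, g⁆ ∈ M}
  one_mem' := ⟨A.one_mem, fun g _ => by rw [commutatorElement_one_left]; exact M.one_mem⟩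
  mul_mem' := by
    rintro x y ⟨hx, hx'⟩ ⟨hy, hy'⟩
    refine ⟨A.mul_mem hx hy, fun g hg => ?_⟩
    rw [comm_mul_eq]
    exact M.mul_mem ((Subgroup.mem_normalizer_iff.mp (hAM hx) _).mp (hy' g hg)) (hx' g hg)
  inv_mem' := by
    rintro x ⟨hx, hx'⟩
    refine ⟨A.inv_mem hx, fun g hg => ?_⟩
    rw [comm_inv_eq]
    have := (Subgroup.mem_normalizer_iff.mp (hAM (A.inv_mem hx)) _).mp (M.inv_mem (hx' g hg))
    simpa using this

theorem step_down [Finite L] {p : ℕ} [hp : Fact p.Prime] (hN : IsPGroup p N)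
    (hG : IsPGroup p G) (hGN : G ≤ Subgroup.normalizer (N : Set L)) (n : ℕ)
    (hcard : ∀ i ≤ n, Nat.card (Cfsg.iterCommutator N G i) = p ^ (n - i))
    (H : Subgroup L) (hHG : G ≤ Subgroup.normalizer (H : Set L)) (j : ℕ) (hj : j + 2 ≤ n)
    (h1 : ¬ (H ⊓ Cfsg.iterCommutator N G j ≤ Cfsg.iterCommutator N G (j + 1))) :
    ¬ (H ⊓ Cfsg.iterCommutator N G (j + 1) ≤ Cfsg.iterCommutator N G (j + 2)) := by
  intro h2
  obtain ⟨h, ⟨hhH, hhN⟩, hh⟩ := SetLike.not_le_iff_exists.mp h1
  have hnorm := (normal_step N G hN hG hGN n hcard (j + 2) hj).1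
  have hAM : Cfsg.iterCommutator N G j ≤
      Subgroup.normalizer ((Cfsg.iterCommutator N G (j + 2) : Subgroup L) : Set L) :=
    ((iter_le N G hGN j).trans le_sup_left).trans hnorm
  obtain ⟨C, hC⟩ : ∃ C, C = commInto (Cfsg.iterCommutator N G j) G
    (Cfsg.iterCommutator N G (j + 2)) hAM := ⟨_, rfl⟩
  have hCle : C ≤ Cfsg.iterCommutator N G j := by
    rw [hC]; intro x hx; exact hx.1
  have hleC : Cfsg.iterCommutator N G (j + 1) ≤ C := by
    rw [hC]
    intro x hx
    refine ⟨iter_succ_le N G hGN j hx, fun g hg => ?_⟩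
    rw [iter_succ N G (j + 1)]
    exact Subgroup.commutator_mem_commutator hx hg
  have hhC : h ∈ C := by
    rw [hC]
    refine ⟨hhN, fun g hg => ?_⟩
    apply h2
    refine ⟨?_, ?_⟩
    · have e : ⁅h, g⁆ = h * (g * h⁻¹ * g⁻¹) := by simp only [commutatorElement_def]; group
      rw [e]
      exact H.mul_mem hhH ((Subgroup.mem_normalizer_iff.mp (hHG hg) _).mp (H.inv_mem hhH))
    · rw [iter_succ]
      exact Subgroup.commutator_mem_commutator hhN hg
  have hlt : Cfsg.iterCommutator N G (j + 1) < C :=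
    lt_of_le_of_ne hleC (fun heq => hh (heq ▸ hhC))
  have hCp : IsPGroup p C := hN.to_le (hCle.trans (iter_le N G hGN j))
  have h3 := card_mul_le_of_lt hCp hlt
  have hCeq : C = Cfsg.iterCommutator N G j := by
    apply Subgroup.eq_of_le_of_card_ge hCle
    rw [hcard j (by omega)]
    rw [hcard (j + 1) (by omega)] at h3
    have e : p ^ (n - j) = p ^ (n - (j + 1)) * p := by
      rw [← pow_succ]; congr 1; omega
    rw [e]; exact h3
  have hle : Cfsg.iterCommutator N G (j + 1) ≤ Cfsg.iterCommutator N G (j + 2) := by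
    rw [iter_succ N G j, Subgroup.commutator_le]
    intro x hx g hg
    have : x ∈ C := by rw [hCeq]; exact hx
    rw [hC] at this
    exact this.2 g hg
  have hne : Cfsg.iterCommutator N G (j + 1) ≠ ⊥ :=
    ne_bot_of_card (hcard (j + 1) (by omega)) (by omega)
  exact (not_le_of_gt (iter_succ_lt N G hN hG hGN (j + 1) hne)) hle

end Cfsg.Agent.Lib.Helper1.Uniserial

namespace Cfsg.Agent.Lib.Helper1.Uniserial

variable {L : Type u} [Group L] (N G : Subgroup L)

theorem not_le_chain [Finite L] {p : ℕ} [hp : Fact p.Prime] (hN : IsPGroup p N)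
    (hG : IsPGroup p G) (hGN : G ≤ Subgroup.normalizer (N : Set L)) (n : ℕ)
    (hcard : ∀ i ≤ n, Nat.card (Cfsg.iterCommutator N G i) = p ^ (n - i))
    (H : Subgroup L) (hHG : G ≤ Subgroup.normalizer (H : Set L)) (i : ℕ)
    (h1 : ¬ (H ⊓ Cfsg.iterCommutator N G i ≤ Cfsg.iterCommutator N G (i + 1))) :
    ∀ k, i + k < n →
      ¬ (H ⊓ Cfsg.iterCommutator N G (i + k) ≤ Cfsg.iterCommutator N G (i + k + 1)) := by
  intro k
  induction k with
  | zero => intro _; exact h1
  | succ k ih =>
    intro hk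
    have := step_down N G hN hG hGN n hcard H hHG (i + k) (by omega) (ih (by omega))
    exact this

theorem card_inf_ge [Finite L] {p : ℕ} [hp : Fact p.Prime] (hN : IsPGroup p N)
    (hG : IsPGroup p G) (hGN : G ≤ Subgroup.normalizer (N : Set L)) (n : ℕ)
    (hcard : ∀ i ≤ n, Nat.card (Cfsg.iterCommutator N G i) = p ^ (n - i))
    (H : Subgroup L) (hHN : H ≤ N) (hHG : G ≤ Subgroup.normalizer (H : Set L)) (i : ℕ)
    (h1 : ¬ (H ⊓ Cfsg.iterCommutator N G i ≤ Cfsg.iterCommutator N G (i + 1))) :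
    ∀ k, k ≤ n - i → i ≤ n →
      p ^ k ≤ Nat.card (H ⊓ Cfsg.iterCommutator N G (n - k) : Subgroup L) := by
  intro k
  induction k with
  | zero => intro _ _; rw [pow_zero]; exact Nat.card_pos
  | succ k ih =>
    intro hk hin
    have ih' := ih (by omega) hin
    have hnl := not_le_chain N G hN hG hGN n hcard H hHG i h1 (n - (k + 1) - i) (by omega)
    have e1 : i + (n - (k + 1) - i) = n - (k + 1) := by omega
    have e2 : n - (k + 1) + 1 = n - k := by omega
    rw [e1, e2] at hnl
    have hle : H ⊓ Cfsg.iterCommutator N G (n - k) ≤ H ⊓ Cfsg.iterCommutator N G (n - (k + 1)) :=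
      inf_le_inf_left _ (iter_antitone N G hGN (by omega))
    have hlt : H ⊓ Cfsg.iterCommutator N G (n - k) < H ⊓ Cfsg.iterCommutator N G (n - (k + 1)) := by
      refine lt_of_le_of_ne hle ?_
      intro heq
      apply hnl
      rw [← heq]
      exact inf_le_right
    have hp' : IsPGroup p (H ⊓ Cfsg.iterCommutator N G (n - (k + 1)) : Subgroup L) :=
      hN.to_le (inf_le_left.trans hHN)
    have h3 := card_mul_le_of_lt hp' hlt
    calc p ^ (k + 1) = p ^ k * p := pow_succ _ _
      _ ≤ Nat.card (H ⊓ Cfsg.iterCommutator N G (n - k) : Subgroup L) * p :=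
          Nat.mul_le_mul_right _ ih'
      _ ≤ _ := h3

/-- under the chain condition every invariant subgroup is a member of the chain -/
theorem eq_iter_of_invariant [Finite L] {p : ℕ} [hp : Fact p.Prime] (hN : IsPGroup p N)
    (hG : IsPGroup p G) (hGN : G ≤ Subgroup.normalizer (N : Set L)) (n : ℕ)
    (hcard : ∀ i ≤ n, Nat.card (Cfsg.iterCommutator N G i) = p ^ (n - i))
    (H : Subgroup L) (hHN : H ≤ N) (hHG : G ≤ Subgroup.normalizer (H : Set L)) :
    ∃ i ≤ n, H = Cfsg.iterCommutator N G i := by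
  classical
  by_cases hbot : H = ⊥
  · refine ⟨n, le_rfl, ?_⟩
    have := hcard n le_rfl
    rw [Nat.sub_self, pow_zero] at this
    rw [hbot, (Subgroup.card_eq_one.mp this)]
  obtain ⟨i, hi⟩ : ∃ i, i = Nat.findGreatest (fun i => H ≤ Cfsg.iterCommutator N G i) n :=
    ⟨_, rfl⟩
  have hin : i ≤ n := hi ▸ Nat.findGreatest_le n
  have hHi : H ≤ Cfsg.iterCommutator N G i := by
    rw [hi]
    exact Nat.findGreatest_spec (P := fun i => H ≤ Cfsg.iterCommutator N G i) (Nat.zero_le n) hHN
  have hlt : i < n := by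
    rcases Nat.lt_or_ge i n with h | h
    · exact h
    · exfalso
      have hi' : i = n := le_antisymm hin h
      have := hcard n le_rfl
      rw [Nat.sub_self, pow_zero] at this
      rw [hi', Subgroup.card_eq_one.mp this] at hHi
      exact hbot (eq_bot_iff.mpr hHi)
  have hnot : ¬ H ≤ Cfsg.iterCommutator N G (i + 1) := by
    have := Nat.findGreatest_is_greatest (P := fun i => H ≤ Cfsg.iterCommutator N G i)
      (n := n) (k := i + 1) (by rw [← hi]; omega) (by omega)
    exact this
  have h1 : ¬ (H ⊓ Cfsg.iterCommutator N G i ≤ Cfsg.iterCommutator N G (i + 1)) := by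
    rw [inf_eq_left.mpr hHi]; exact hnot
  refine ⟨i, hin, ?_⟩
  apply Subgroup.eq_of_le_of_card_ge hHi
  rw [hcard i hin]
  have := card_inf_ge N G hN hG hGN n hcard H hHN hHG i h1 (n - i) le_rfl hin
  have e : n - (n - i) = i := by omega
  rw [e, inf_eq_left.mpr hHi] at this
  exact this

theorem s0663 [Finite L] {p : ℕ} [hp : Fact p.Prime] (hN : IsPGroup p N) (hG : IsPGroup p G)
    (hGN : G ≤ Subgroup.normalizer (N : Set L)) (n : ℕ) (hn : Nat.card N = p ^ n) :
    ((∀ H : Subgroup L, H ≤ N → G ≤ Subgroup.normalizer (H : Set L) → H ≠ ⊥ →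
        (⁅H, G⁆).relIndex H = p) ↔ Cfsg.iterCommutator N G (n - 1) ≠ ⊥ ∨ n = 0) ∧
    ((∀ H : Subgroup L, H ≤ N → G ≤ Subgroup.normalizer (H : Set L) → H ≠ ⊥ →
        (⁅H, G⁆).relIndex H = p) →
      ∀ H : Subgroup L, H ≤ N → G ≤ Subgroup.normalizer (H : Set L) →
        (∃ i ≤ n, H = Cfsg.iterCommutator N G i) ∧ N ≤ Subgroup.normalizer (H : Set L)) := by
  -- uniserial implies the chain condition
  have hfwd : (∀ H : Subgroup L, H ≤ N → G ≤ Subgroup.normalizer (H : Set L) → H ≠ ⊥ →
      (⁅H, G⁆).relIndex H = p) → Cfsg.iterCommutator N G (n - 1) ≠ ⊥ ∨ n = 0 := by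
    intro hU
    rcases Nat.eq_zero_or_pos n with h0 | hpos
    · exact Or.inr h0
    left
    have hall : ∀ i ≤ n, Nat.card (Cfsg.iterCommutator N G i) = p ^ (n - i) := by
      intro i
      induction i with
      | zero => intro _; rw [iter_zero, Nat.sub_zero]; exact hn
      | succ i ih =>
        intro hi
        have ih' := ih (by omega)
        have hne : Cfsg.iterCommutator N G i ≠ ⊥ := ne_bot_of_card ih' (by omega)
        have h1 := hU _ (iter_le N G hGN i) (le_normalizer_iter N G hGN i) hne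
        have h2 := card_mul_relIndex (iter_succ_le N G hGN i)
        rw [iter_succ, h1, ih'] at h2
        rw [iter_succ]
        have e : p ^ (n - i) = p ^ (n - (i + 1)) * p := by
          rw [← pow_succ]; congr 1; omega
        rw [e] at h2
        exact Nat.eq_of_mul_eq_mul_right hp.out.pos h2
    exact ne_bot_of_card (hall (n - 1) (by omega)) (by omega)
  -- the chain condition gives the structure
  have hstruct : (Cfsg.iterCommutator N G (n - 1) ≠ ⊥ ∨ n = 0) →
      (∀ H : Subgroup L, H ≤ N → G ≤ Subgroup.normalizer (H : Set L) →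
        (∃ i ≤ n, H = Cfsg.iterCommutator N G i) ∧ N ≤ Subgroup.normalizer (H : Set L)) ∧
      (∀ H : Subgroup L, H ≤ N → G ≤ Subgroup.normalizer (H : Set L) → H ≠ ⊥ →
        (⁅H, G⁆).relIndex H = p) := by
    intro hC
    have hcard := card_iter N G hN hG hGN n hn hC
    have hA : ∀ H : Subgroup L, H ≤ N → G ≤ Subgroup.normalizer (H : Set L) →
        (∃ i ≤ n, H = Cfsg.iterCommutator N G i) ∧ N ≤ Subgroup.normalizer (H : Set L) := by
      intro H hHN hHG
      obtain ⟨i, hi, hHi⟩ := eq_iter_of_invariant N G hN hG hGN n hcard H hHN hHG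
      refine ⟨⟨i, hi, hHi⟩, ?_⟩
      rw [hHi]
      exact le_sup_left.trans (normal_step N G hN hG hGN n hcard i hi).1
    refine ⟨hA, ?_⟩
    intro H hHN hHG hne
    obtain ⟨⟨i, hi, hHi⟩, -⟩ := hA H hHN hHG
    have hlt : i < n := by
      rcases Nat.lt_or_ge i n with h | h
      · exact h
      · exfalso
        have hi' : i = n := le_antisymm hi h
        have := hcard n le_rfl
        rw [Nat.sub_self, pow_zero] at this
        rw [hi', Subgroup.card_eq_one.mp this] at hHi
        exact hne hHi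
    have h2 := card_mul_relIndex (iter_succ_le N G hGN i)
    rw [hcard i hi, hcard (i + 1) hlt] at h2
    rw [hHi, ← iter_succ]
    have e : p ^ (n - i) = p ^ (n - (i + 1)) * p := by
      rw [← pow_succ]; congr 1; omega
    rw [e] at h2
    exact Nat.eq_of_mul_eq_mul_left (pow_pos hp.out.pos _) h2
  refine ⟨⟨hfwd, fun hC => (hstruct hC).2⟩, fun hU => (hstruct (hfwd hU)).1⟩

end Cfsg.Agent.Lib.Helper1.Uniserial
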