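import Mathlib
import Cfsg.Prelude
import Cfsg.Agent.Lib.Helper1.UoA6

/-!
# Operators preserving all singular `K`-lines lie in `K`; elements not normalising `K`
-/

set_option autoImplicit false
set_option maxHeartbeats 4000000
set_option linter.unusedSimpArgs false
set_option linter.unusedVariables false
set_option linter.unusedSectionVars false

namespace Cfsg.Agent.Lib.Helper1.UoA

open Module QuadraticMap Matrix
open Cfsg
open Cfsg.Agent.Lib.Helper5.MaxTS
open Cfsg.Agent.Lib.Helper5.CartanDieudonne Cfsg.Agent.Lib.Helper5.Siegel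
  Cfsg.Agent.Lib.Helper5.QuadIsom Cfsg.Agent.Lib.Helper5.Eichler
  Cfsg.Agent.Lib.Helper5.OmegaSimple Cfsg.Agent.Lib.Helper5.OrthSingularMax

section general

variable {F : Type*} [Field F] {V : Type*} [AddCommGroup V] [Module F V]

theorem li4_coeff {a b c d : V} (h : LinearIndependent F ![a, b, c, d]) {p q r s : F}
    (e : p • a + q • b + r • c + s • d = 0) : p = 0 ∧ q = 0 ∧ r = 0 ∧ s = 0 := by
  have h1 := Fintype.linearIndependent_iff.mp h ![p, q, r, s] (by
    simp only [Fin.sum_univ_four]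
    simpa [add_assoc] using e)
  exact ⟨by simpa using h1 0, by simpa using h1 1, by simpa using h1 2, by simpa using h1 3⟩

theorem orth_bot (Q : QuadraticForm F V) : orth Q (⊥ : Submodule F V) = ⊤ := by
  rw [eq_top_iff]
  intro v _
  rw [mem_orth]
  intro w hw
  rw [(Submodule.mem_bot F).mp hw, polar_zero_left]

variable [Finite F] [FiniteDimensional F V]
  {Q : QuadraticForm F V} {θ : V →ₗ[F] V} {t N : F}

theorem finrank_Kspan_sup_le (u w : V) : finrank F ↥(Kspan θ u ⊔ Kspan θ w) ≤ 4 := by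
  have h1 := Submodule.finrank_add_le_finrank_add_finrank (Kspan θ u) (Kspan θ w)
  have h2 := finrank_Kspan_le (θ := θ) u
  have h3 := finrank_Kspan_le (θ := θ) w
  omega

theorem finrank_orth_pair (hQ : (polarBilin Q).Nondegenerate) (u w : V) :
    finrank F V ≤ finrank F ↥(orth Q (Submodule.span F {u, w})) + 2 := by
  rw [finrank_orth Q hQ]
  have h1 : finrank F ↥(Submodule.span F ({u, w} : Set V)) ≤ 2 := by
    classical
    have h3 : finrank F ↥(Submodule.span F ((({u, w} : Finset V)) : Set V)) ≤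
        ({u, w} : Finset V).card := finrank_span_finset_le_card _
    rw [Finset.coe_pair] at h3
    have h2 : ({u, w} : Finset V).card ≤ 2 := Finset.card_le_two
    omega
  omega

theorem mem_orth_pair {u w x : V} :
    x ∈ orth Q (Submodule.span F {u, w}) ↔ polar Q u x = 0 ∧ polar Q w x = 0 := by
  rw [mem_orth]
  constructor
  · intro h
    exact ⟨h u (Submodule.subset_span (by simp)), h w (Submodule.subset_span (by simp))⟩
  · rintro ⟨h1, h2⟩ y hy
    rw [Submodule.mem_span_pair] at hy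
    obtain ⟨a, b, rfl⟩ := hy
    rw [polar_add_left, polar_smul_left, polar_smul_left, h1, h2]
    simp

variable (hQ : (polarBilin Q).Nondegenerate) (D : ThetaData Q θ t N)

include hQ D in
/-- an operator mapping every singular vector into its `K`-line lies in `K` -/
theorem phi_mem (hn : 9 ≤ finrank F V) (φ : V →ₗ[F] V)
    (h : ∀ y, Q y = 0 → φ y ∈ Kspan θ y) :
    ∃ α β : F, ∀ x, φ x = α • x + β • θ x := by
  -- a first singular vector
  obtain ⟨y₀, -, hy₀, hQy₀⟩ := exists_sing_avoid Q (⊤ : Submodule F V) ⊥ (by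
    rw [finrank_bot, finrank_top]; omega)
  have hy₀0 : y₀ ≠ 0 := fun h0 => hy₀ (by rw [h0]; exact Submodule.zero_mem _)
  obtain ⟨α, β, hαβ⟩ := mem_Kspan.mp (h y₀ hQy₀)
  -- adjacency step
  have step : ∀ y w : V, y ≠ 0 → Q y = 0 → Q w = 0 → polar Q y w = 0 → w ∉ Kspan θ y →
      φ y = α • y + β • θ y → φ w = α • w + β • θ w := by
    intro y w hy hQy hQw hyw hwK hφy
    obtain ⟨a1, b1, h1⟩ := mem_Kspan.mp (h w hQw)
    have hQs : Q (y + w) = 0 := by rw [quad_add2, hQy, hQw, hyw]; simp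
    obtain ⟨a2, b2, h2⟩ := mem_Kspan.mp (h (y + w) hQs)
    have hli := li4 D hy hwK
    have e : (a2 - a1) • w + (b2 - b1) • θ w + (a2 - α) • y + (b2 - β) • θ y = 0 := by
      have e1 : φ (y + w) = φ y + φ w := map_add φ y w
      rw [← h2, hφy, ← h1, map_add] at e1
      linear_combination (norm := module) e1
    obtain ⟨c1, c2, c3, c4⟩ := li4_coeff hli e
    have ea : a1 = α := by linear_combination c3 - c1
    have eb : b1 = β := by linear_combination c4 - c2
    rw [← h1, ea, eb]
  -- all singular vectors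
  have hall : ∀ y, Q y = 0 → φ y = α • y + β • θ y := by
    intro y hQy
    by_cases hy0 : y = 0
    · rw [hy0]; simp
    have hfr := finrank_orth_pair hQ y₀ y
    have hfr2 := finrank_Kspan_sup_le (θ := θ) y₀ y
    obtain ⟨w, hwW, hwD, hQw⟩ := exists_sing_avoid Q (orth Q (Submodule.span F {y₀, y}))
      (Kspan θ y₀ ⊔ Kspan θ y) (by omega)
    obtain ⟨hw1, hw2⟩ := mem_orth_pair.mp hwW
    have hwK0 : w ∉ Kspan θ y₀ := fun hh => hwD (Submodule.mem_sup_left hh)
    have hwK : w ∉ Kspan θ y := fun hh => hwD (Submodule.mem_sup_right hh)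
    have hw0 : w ≠ 0 := fun h0 => hwK (by rw [h0]; exact Submodule.zero_mem _)
    have h1 := step y₀ w hy₀0 hQy₀ hQw hw1 hwK0 hαβ.symm
    have hyK : y ∉ Kspan θ w := fun hh => hwK (mem_Kspan_symm D hh hy0)
    exact step w y hw0 hQw hQy (by rw [polar_comm]; exact hw2) hyK h1
  refine ⟨α, β, ?_⟩
  have hind := sing_induction Q hQ ⊥ (by rw [finrank_bot]; omega)
    (fun x => φ x = α • x + β • θ x)
    (by
      intro x y hx hy
      show φ (x + y) = α • (x + y) + β • θ (x + y)
      rw [map_add, map_add, hx, hy]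
      module)
    (fun s _ hs => hall s hs)
  intro x
  exact hind x (by rw [orth_bot]; exact Submodule.mem_top)

end general

section group

variable {ι : Type} [Fintype ι] [DecidableEq ι] {F : Type*} [Field F] [Fintype F]
  {Q : QuadraticForm F (ι → F)} {θ : Matrix ι ι F} {t N : F}
  (hQ : (polarBilin Q).Nondegenerate) (D : ThetaData Q (Matrix.toLin' θ) t N)

include hQ D in
/-- the starting configuration -/
theorem exists_start (hn : 9 ≤ Fintype.card ι) (Hy : Hyp Q) (H : Subgroup (GL ι F))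
    (hC : ∀ a : ↥(isometryGroup F ⇑Q), a ∈ Omega F ⇑Q →
      ((a : GL ι F) : Matrix ι ι F) * θ = θ * ((a : GL ι F) : Matrix ι ι F) → (a : GL ι F) ∈ H)
    (a : ↥(isometryGroup F ⇑Q)) (ha : (a : GL ι F) ∈ H)
    (hg : ∀ α β : F, (a : GL ι F).1 * θ * ((a : GL ι F)⁻¹).1 ≠ α • (1 : Matrix ι ι F) + β • θ) :
    ∃ x z, x ≠ 0 ∧ EH Q H x z ∧ Q z = 0 ∧ z ∉ Kspan (Matrix.toLin' θ) x := by
  have hfin : 9 ≤ finrank F (ι → F) := by
    rw [Module.finrank_fintype_fun_eq_card]; exact hn
  by_contra hcon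
  push Not at hcon
  have key : ∀ y, Q y = 0 →
      Matrix.toLin' ((a : GL ι F).1 * θ * ((a : GL ι F)⁻¹).1) y ∈ Kspan (Matrix.toLin' θ) y := by
    intro y hQy
    by_cases hy0 : y = 0
    · rw [hy0, map_zero]; exact Submodule.zero_mem _
    by_contra hnot
    have hv : Q (act Q a⁻¹ y) = 0 := by rw [quad_act, hQy]
    have hE := EH_kline D Hy H hC (act Q a⁻¹ y) hv 0 1
    have hE2 := EH_conj a ha hE
    rw [act_inv_act] at hE2
    have hz : act Q a ((0 : F) • act Q a⁻¹ y + (1 : F) • Matrix.toLin' θ (act Q a⁻¹ y)) =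
        Matrix.toLin' ((a : GL ι F).1 * θ * ((a : GL ι F)⁻¹).1) y := by
      rw [zero_smul, zero_add, one_smul, Matrix.toLin'_apply, Matrix.toLin'_apply]
      unfold act
      rw [Matrix.mulVec_mulVec, Matrix.mulVec_mulVec]
      rfl
    rw [hz] at hE2
    refine hnot (hcon y _ hy0 hE2 ?_)
    rw [← hz, quad_act, zero_smul, zero_add, one_smul]
    exact sing_theta D hv
  obtain ⟨α, β, hαβ⟩ := phi_mem hQ D hfin _ key
  apply hg α β
  rw [Matrix.ext_iff_mulVec]
  intro x
  have := hαβ x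
  rw [Matrix.toLin'_apply, Matrix.toLin'_apply] at this
  rw [this, Matrix.add_mulVec, Matrix.smul_mulVec, Matrix.smul_mulVec, Matrix.one_mulVec]

include hQ D in
/-- an Eichler transformation not normalising `K` -/
theorem not_normalize (hn : 9 ≤ Fintype.card ι) {K : Subalgebra F (Matrix ι ι F)}
    (hθK : θ ∈ K)
    (hchar : ∀ k : Matrix ι ι F, k ∈ K ↔ ∃ a b : F, k = a • (1 : Matrix ι ι F) + b • θ)
    {u z : ι → F} (hu0 : u ≠ 0) (hu : Q u = 0) (hz : Q z = 0) (huz : polar ⇑Q u z = 0)
    (hzK : z ∉ Kspan (Matrix.toLin' θ) u) :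
    ((eich Q u z hu huz : ↥(isometryGroup F ⇑Q)) : GL ι F) ∉ Geo.subalgebraNormalizer K := by
  have hfin : 9 ≤ finrank F (ι → F) := by
    rw [Module.finrank_fintype_fun_eq_card]; exact hn
  intro hmem
  have hmem' : ∀ k : Matrix ι ι F, k ∈ K ↔
      ((eich Q u z hu huz : ↥(isometryGroup F ⇑Q)) : GL ι F).1 * k *
        (((eich Q u z hu huz : ↥(isometryGroup F ⇑Q)) : GL ι F)⁻¹).1 ∈ K := hmem
  obtain ⟨α, β, hαβ⟩ := (hchar _).mp ((hmem' θ).mp hθK)
  have hz0 : z ≠ 0 := fun h0 => hzK (by rw [h0]; exact Submodule.zero_mem _)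
  -- the basic relation
  have rel : ∀ x : ι → F, act Q (eich Q u z hu huz) (Matrix.toLin' θ x) =
      α • act Q (eich Q u z hu huz) x + β • Matrix.toLin' θ (act Q (eich Q u z hu huz) x) := by
    intro x
    have e1 : ((eich Q u z hu huz : ↥(isometryGroup F ⇑Q)) : GL ι F).1 * θ =
        (α • (1 : Matrix ι ι F) + β • θ) *
          ((eich Q u z hu huz : ↥(isometryGroup F ⇑Q)) : GL ι F).1 := by
      rw [← hαβ, Matrix.mul_assoc, Units.inv_mul, Matrix.mul_one]
    have e2 := congrArg (fun M => M *ᵥ x) e1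
    simp only [← Matrix.mulVec_mulVec, Matrix.add_mulVec, Matrix.smul_mulVec,
      Matrix.one_mulVec] at e2
    rw [Matrix.toLin'_apply, Matrix.toLin'_apply]
    exact e2
  have hact : ∀ x : ι → F, act Q (eich Q u z hu huz) x =
      x + polar ⇑Q u x • z - polar ⇑Q z x • u := by
    intro x
    rw [act_eich_apply, hz]
    module
  -- Step A
  have hfr := finrank_orth_pair hQ u z
  have hfr2 := finrank_Kspan_sup_le (θ := Matrix.toLin' θ) u z
  obtain ⟨x, hxW, hxD, -⟩ := exists_sing_avoid Q (orth Q (Submodule.span F {u, z}))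
    (Kspan (Matrix.toLin' θ) u ⊔ Kspan (Matrix.toLin' θ) z) (by omega)
  obtain ⟨hx1, hx2⟩ := mem_orth_pair.mp hxW
  have hS : ThetaInv (Matrix.toLin' θ)
      (Kspan (Matrix.toLin' θ) u ⊔ Kspan (Matrix.toLin' θ) z) :=
    thetaInv_sup (thetaInv_Kspan D u) (thetaInv_Kspan D z)
  have hA : α = 0 ∧ β = 1 := by
    by_contra hne
    have hor : α ≠ 0 ∨ β - 1 ≠ 0 := by
      by_contra h2
      push Not at h2
      exact hne ⟨h2.1, by linear_combination h2.2⟩
    apply comb_not_mem D hS hxD hor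
    have r := rel x
    rw [hact x, hact (Matrix.toLin' θ x), hx1, hx2] at r
    simp only [zero_smul, add_zero, sub_zero] at r
    have e : α • x + (β - 1) • Matrix.toLin' θ x =
        polar ⇑Q u (Matrix.toLin' θ x) • z - polar ⇑Q z (Matrix.toLin' θ x) • u := by
      linear_combination (norm := module) -r
    rw [e]
    exact Submodule.sub_mem _
      (Submodule.smul_mem _ _ (Submodule.mem_sup_right (self_mem_Kspan z)))
      (Submodule.smul_mem _ _ (Submodule.mem_sup_left (self_mem_Kspan u)))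
  obtain ⟨hα, hβ⟩ := hA
  -- Step B
  have hind : LinearIndependent F ![u, z] := by
    rw [LinearIndependent.pair_iff]
    intro s r hsr
    by_cases hr : r = 0
    · rw [hr, zero_smul, add_zero] at hsr
      exact ⟨(smul_eq_zero.mp hsr).resolve_right hu0, hr⟩
    · exfalso
      apply hzK
      have : z = (-(r⁻¹ * s)) • u + (0 : F) • Matrix.toLin' θ u := by
        have e2 : z = r⁻¹ • (r • z) := by rw [smul_smul, inv_mul_cancel₀ hr, one_smul]
        have e1 : r • z = -(s • u) := by linear_combination (norm := module) hsr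
        rw [e2, e1]; module
      rw [this]
      exact comb_mem_Kspan u _ _
  obtain ⟨x₁, hx₁⟩ := exists_prescribed Q hQ ![u, z] hind ![1, 0]
  have hx₁u : polar ⇑Q u x₁ = 1 := by
    have := hx₁ 0
    rw [polar_comm]
    simpa using this
  have hx₁z : polar ⇑Q z x₁ = 0 := by
    have := hx₁ 1
    rw [polar_comm]
    simpa using this
  have r := rel x₁
  rw [hα, hβ, hact x₁, hact (Matrix.toLin' θ x₁), hx₁u, hx₁z] at r
  simp only [zero_smul, zero_add, one_smul, sub_zero, map_add] at r
  have e : Matrix.toLin' θ z =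
      polar ⇑Q u (Matrix.toLin' θ x₁) • z - polar ⇑Q z (Matrix.toLin' θ x₁) • u := by
    linear_combination (norm := module) -r
  obtain ⟨a', ha'⟩ : ∃ a' : F, a' = polar ⇑Q u (Matrix.toLin' θ x₁) := ⟨_, rfl⟩
  obtain ⟨b', hb'⟩ : ∃ b' : F, b' = polar ⇑Q z (Matrix.toLin' θ x₁) := ⟨_, rfl⟩
  rw [← ha', ← hb'] at e
  by_cases hb : b' = 0
  · rw [hb, zero_smul, sub_zero] at e
    have e' : (-a') • z + (1 : F) • Matrix.toLin' θ z = 0 := by
      rw [e]; module
    exact one_ne_zero (comb_eq_zero D e' hz0).2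
  · apply hzK
    apply mem_Kspan_symm D _ hu0
    have e3 : b' • u = a' • z - Matrix.toLin' θ z := by rw [e]; module
    have e4 : u = b'⁻¹ • (b' • u) := by rw [smul_smul, inv_mul_cancel₀ hb, one_smul]
    have : u = (b'⁻¹ * a') • z + (-b'⁻¹) • Matrix.toLin' θ z := by
      rw [e4, e3]; module
    rw [this]
    exact comb_mem_Kspan z _ _

end group

end Cfsg.Agent.Lib.Helper1.UoA
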