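import Mathlib
import Cfsg.Prelude
import Cfsg.Agent.Lib.Helper1.UoA7

/-!
# The normaliser of a quadratic field subalgebra of unitary type is maximal in `Ω(Q)`
-/

set_option autoImplicit false
set_option maxHeartbeats 4000000
set_option linter.unusedSimpArgs false
set_option linter.unusedVariables false
set_option linter.unusedSectionVars false

namespace Cfsg.Agent.Lib.Helper1.UoA

open Module QuadraticMap Matrix
open Cfsg
open Cfsg.Agent.Lib.Helper5.MaxTS
open Cfsg.Agent.Lib.Helper5.CartanDieudonne Cfsg.Agent.Lib.Helper5.Siegel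
  Cfsg.Agent.Lib.Helper5.QuadIsom Cfsg.Agent.Lib.Helper5.Eichler
  Cfsg.Agent.Lib.Helper5.OmegaSimple Cfsg.Agent.Lib.Helper5.OrthSingularMax
  Cfsg.Agent.Lib.Helper5.OrthBridge

theorem main_max {ι : Type} [Fintype ι] [DecidableEq ι] {F : Type*} [Field F] [Fintype F]
    (Q : QuadraticForm F (ι → F)) (hQ : (polarBilin Q).Nondegenerate)
    (hn : 14 ≤ Fintype.card ι) (K : Subalgebra F (Matrix ι ι F))
    (hK : Geo.IsFieldSubalgebra 2 K)
    (hac : Geo.IsAdjointClosedFor (polar ⇑Q) K)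
    (hnsa : ¬ Geo.IsSelfAdjointFor (polar ⇑Q) K)
    (hsc : ∀ k ∈ K, ∃ c : F, ∀ v, Q (Matrix.mulVec k v) = c * Q v) :
    Geo.IsMaximalIn (Geo.omegaGL ⇑Q) (Geo.subalgebraNormalizer K ⊓ Geo.omegaGL ⇑Q) := by
  have hne : Nonempty ι := by
    rw [← Fintype.card_pos_iff]; omega
  obtain ⟨θ, t, N, hθK, hchar, D⟩ := exists_kdatum Q hQ K hK hac hnsa hsc
  have Hy : Hyp Q := hyp_of_nondeg hQ (by omega)
  have hfin : finrank F (ι → F) = Fintype.card ι := Module.finrank_fintype_fun_eq_card F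
  refine ⟨lt_of_le_of_ne inf_le_right ?_, fun X hNX hXS => ?_⟩
  · -- proper
    intro heq
    obtain ⟨u, -, hu, hQu⟩ := exists_sing_avoid Q (⊤ : Submodule F (ι → F)) ⊥ (by
      rw [finrank_bot, finrank_top]; omega)
    have hu0 : u ≠ 0 := fun h0 => hu (by rw [h0]; exact Submodule.zero_mem _)
    have hfr := finrank_orth Q hQ (Submodule.span F {u})
    rw [finrank_span_singleton hu0] at hfr
    have hfr2 := finrank_Kspan_le (θ := Matrix.toLin' θ) u
    obtain ⟨z, hzW, hzD, hQz⟩ := exists_sing_avoid Q (orth Q (Submodule.span F {u}))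
      (Kspan (Matrix.toLin' θ) u) (by omega)
    have huz : polar ⇑Q u z = 0 := (mem_orth_span_singleton Q u z).mp hzW
    have h1 := not_normalize hQ D (by omega) hθK hchar hu0 hQu hQz huz hzD
    have h2 : ((eich Q u z hQu huz : ↥(isometryGroup F ⇑Q)) : GL ι F) ∈ Geo.omegaGL ⇑Q :=
      eich_mem_omegaGL Hy u z hQu huz
    rw [← heq] at h2
    exact h1 (Subgroup.mem_inf.mp h2).1
  · by_cases hXN : X ≤ Geo.subalgebraNormalizer K
    · left
      exact le_antisymm (le_inf hXN hXS) hNX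
    · right
      obtain ⟨x, hxX, hxN⟩ := SetLike.not_le_iff_exists.mp hXN
      obtain ⟨g, hgX, hg⟩ := exists_conj_not_mem' hθK hchar hxX hxN
      obtain ⟨a, haΩ, rfl⟩ := (mem_omegaGL_iff Q g).mp (hXS hgX)
      have hC : ∀ a : ↥(isometryGroup F ⇑Q), a ∈ Omega F ⇑Q →
          ((a : GL ι F) : Matrix ι ι F) * θ = θ * ((a : GL ι F) : Matrix ι ι F) →
          (a : GL ι F) ∈ X := fun a ha hcomm =>
        hNX (Subgroup.mem_inf.mpr ⟨cen_mem_normalizer' hchar _ hcomm,
          (mem_omegaGL_iff Q _).mpr ⟨a, ha, rfl⟩⟩)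
      have hstart := exists_start hQ D (by omega) Hy X hC a hgX hg
      have A := eax D Hy X hC
      have hmain := geo_main hQ D A (by rw [hfin]; exact hn) hstart
      apply le_antisymm hXS
      apply omegaGL_le Hy
      intro u hQu
      by_cases hu0 : u = 0
      · rw [hu0]; exact isCentre_zero X
      · refine ⟨hQu, fun hu z huz => ?_⟩
        obtain ⟨_, _, hm⟩ := hmain u z hu0 hQu huz
        exact hm

/-- the statement for a quadratic form given as a function -/
theorem main_fn {F : Type*} [Field F] [Fintype F] {n : ℕ} (hn : 13 ≤ n) (heven : Even n)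
    (Q : (Fin n → F) → F) (hQ : Cfsg.Geo.IsNondegenerateQuadraticForm Q)
    (K : Subalgebra F (Matrix (Fin n) (Fin n) F)) (hK : Cfsg.Geo.IsFieldSubalgebra 2 K)
    (hac : Cfsg.Geo.IsAdjointClosedFor (QuadraticMap.polar Q) K)
    (hnsa : ¬ Cfsg.Geo.IsSelfAdjointFor (QuadraticMap.polar Q) K)
    (hsc : ∀ k ∈ K, ∃ c : F, ∀ v, Q (Matrix.mulVec k v) = c * Q v) :
    Cfsg.Geo.IsMaximalIn (Cfsg.Geo.omegaGL Q)
      (Cfsg.Geo.subalgebraNormalizer K ⊓ Cfsg.Geo.omegaGL Q) := by
  have h14 : 14 ≤ Fintype.card (Fin n) := by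
    rw [Fintype.card_fin]
    obtain ⟨k, hk⟩ := heven
    omega
  exact main_max (toQF Q hQ) (toQF_nondegenerate Q hQ) h14 K hK hac hnsa hsc

end Cfsg.Agent.Lib.Helper1.UoA
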