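import Mathlib
import Cfsg.Prelude.Def_Local
import Cfsg.Agent.Lib.Helper1.PLengthOne
import Cfsg.Agent.Lib.Helper3.UpperPSeries
import Cfsg.Agent.S4218
set_option autoImplicit false
open Cfsg
namespace Cfsg.Agent.Lib.Helper1

theorem pPrimeCore_quotient_eq_bot_of_eq {X : Type*} [Group X] [Finite X] (p : ℕ)
    (N : Subgroup X) [N.Normal] (hN : N = pPrimeCore p X) : pPrimeCore p (X ⧸ N) = ⊥ := by
  subst hN
  exact pPrimeCore_quotient_eq_bot p

/-- If `U` is the preimage of `O_{p'}(G/K)` then `O_{p'}(G/U) = 1`. -/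
theorem pPrimeCore_quotient_comap_eq_bot {G : Type*} [Group G] [Finite G] (p : ℕ)
    (K : Subgroup G) [K.Normal] (U : Subgroup G) [U.Normal]
    (hU : U = (pPrimeCore p (G ⧸ K)).comap (QuotientGroup.mk' K)) :
    pPrimeCore p (G ⧸ U) = ⊥ := by
  have hKU : K ≤ U := by
    intro x hx
    rw [hU, Subgroup.mem_comap]
    have : (QuotientGroup.mk' K) x = 1 := by
      rw [QuotientGroup.mk'_apply, QuotientGroup.eq_one_iff]; exact hx
    rw [this]
    exact Subgroup.one_mem _
  have hmap : U.map (QuotientGroup.mk' K) = pPrimeCore p (G ⧸ K) := by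
    rw [hU, Subgroup.map_comap_eq_self_of_surjective (QuotientGroup.mk'_surjective K)]
  have h1 := pPrimeCore_quotient_eq_bot_of_eq p (U.map (QuotientGroup.mk' K)) hmap
  have h2 := Helper3.pPrimeCore_map_equiv p (QuotientGroup.quotientQuotientEquivQuotient K U hKU)
  rw [← h2, h1, Subgroup.map_bot]

theorem upperPSeries_centralizer_le {G : Type*} [Group G] [Finite G] {p : ℕ} [Fact p.Prime]
    (hsol : IsPSolvable p G) (k : ℕ) :
    Subgroup.centralizer ((((upperPSeries p G (2 * k + 2)).1.map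
      (QuotientGroup.mk' (upperPSeries p G (2 * k + 1)).1)) :
        Subgroup (G ⧸ (upperPSeries p G (2 * k + 1)).1)) : Set (G ⧸ (upperPSeries p G (2 * k + 1)).1))
      ≤ (upperPSeries p G (2 * k + 2)).1.map (QuotientGroup.mk' (upperPSeries p G (2 * k + 1)).1) := by
  have h1 : (upperPSeries p G (2 * k + 2)).1 =
      (pCore p (G ⧸ (upperPSeries p G (2 * k + 1)).1)).comap (QuotientGroup.mk' _) :=
    Helper3.upperPSeries_succ_odd p G (2 * k + 1) (by simp)
  have h2 : (upperPSeries p G (2 * k + 1)).1 =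
      (pPrimeCore p (G ⧸ (upperPSeries p G (2 * k)).1)).comap (QuotientGroup.mk' _) :=
    Helper3.upperPSeries_succ_even p G (2 * k) (by simp)
  rw [h1, Subgroup.map_comap_eq_self_of_surjective (QuotientGroup.mk'_surjective _)]
  have hbot := pPrimeCore_quotient_comap_eq_bot p (upperPSeries p G (2 * k)).1
    (upperPSeries p G (2 * k + 1)).1 h2
  have hsolq := Cfsg.Agent.S4218.isPSolvable_quotient p (upperPSeries p G (2 * k + 1)).1 hsol
  intro γ hγ
  apply Cfsg.Agent.S4218.HH p hsolq hbot γ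
  intro y hy
  have h3 : y * γ = γ * y := Subgroup.mem_centralizer_iff.mp hγ y hy
  have h4 : γ * y * γ⁻¹ * y⁻¹ = 1 := by
    rw [← h3]; group
  rw [h4]
  exact Subgroup.one_mem _

end Cfsg.Agent.Lib.Helper1
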