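import Mathlib
import Cfsg.Agent.Lib.Helper6.ClassMult
import Cfsg.Agent.Lib.Helper6.GenChar
import Cfsg.Agent.Lib.Helper6.GenCharOps
import Cfsg.Agent.Lib.Helper6.BlkVanish
import Cfsg.Agent.Lib.Helper6.BLInv
import Cfsg.Agent.Lib.Helper6.OddOrder
import Cfsg.Agent.Lib.Helper6.Norm
import Cfsg.Agent.Lib.Helper6.IndFunMore

set_option autoImplicit false
set_option maxHeartbeats 4000000
set_option maxRecDepth 100000
set_option linter.unusedVariables false
set_option linter.unusedSectionVars false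
set_option linter.style.longLine false
set_option linter.unusedSimpArgs false
set_option linter.deprecated false

/-!
# Simple groups with an involution whose centralizer is `V₄ × K` (abstract character core, part 1)

The abstract data `Core` and the "even sum" lemma: the elements of even order are the disjoint
union of the conjugates of the TI set `xK`.
-/

namespace Cfsg.Agent.Lib.Helper1.V4c

open Cfsg Cfsg.Agent.Lib.Helper6
open scoped ComplexConjugate

/-- abstract data: an involution `x` with centralizer `A ⊇ K`, `xK` a TI set whose conjugates cover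
the elements of even order, the count of pairs of conjugates of `x` with product of even order,
and an irreducible character `Ξ` of degree `n` equal to `1` on elements of even order -/
structure Core (G : Type*) [Group G] [Fintype G] where
  x : G
  K : Subgroup G
  A : Subgroup G
  n : ℕ
  k : ℕ
  hx : orderOf x = 2
  hA : A = Subgroup.centralizer ({x} : Set G)
  hKA : K ≤ A
  hKn : ∀ a ∈ A, ∀ ρ ∈ K, a * ρ * a⁻¹ ∈ K
  hk : Nat.card K = k
  hkodd : Odd k
  hAc : Nat.card A = 4 * k
  hG : Nat.card G = 12 * k * n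
  hn : 1 < n
  heven : ∀ g : G, 2 ∣ orderOf g → ∃ y : G, ∃ ρ ∈ K, g = y * (x * ρ) * y⁻¹
  hxK : ∀ ρ ∈ K, 2 ∣ orderOf (x * ρ)
  hTI : ∀ y : G, ∀ ρ ∈ K, ∀ ρ' ∈ K, y * (x * ρ) * y⁻¹ = x * ρ' → y ∈ A
  hpairs : ∀ q : G, Nat.card {p : G // 2 ∣ orderOf (p * x * p⁻¹ * (q * x * q⁻¹))} = 8 * k
  Ξ : G → ℂ
  hΞ : IsIrrCharacter G Ξ
  hΞ1 : Ξ 1 = n
  hΞe : ∀ g, 2 ∣ orderOf g → Ξ g = 1

variable {G : Type*} [Group G] [Fintype G]

noncomputable instance Core.fintypeK (c : Core G) : Fintype c.K := Fintype.ofFinite _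

noncomputable instance Core.fintypeA (c : Core G) : Fintype c.A := Fintype.ofFinite _

theorem Core.comm_of_mem (c : Core G) {a : G} (ha : a ∈ c.A) : c.x * a = a * c.x := by
  have h := ha
  rw [c.hA, Subgroup.mem_centralizer_iff] at h
  exact h c.x (Set.mem_singleton _)

theorem Core.xx (c : Core G) : c.x * c.x = 1 := by
  rw [← sq, ← c.hx, pow_orderOf_eq_one]

theorem Core.kpos (c : Core G) : 0 < c.k := by
  rw [← c.hk]; exact Nat.card_pos

theorem orderOf_conj' (y g : G) : orderOf (y⁻¹ * g * y) = orderOf g := by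
  have h := orderOf_injective (MulAut.conj y⁻¹).toMonoidHom (MulAut.conj y⁻¹).injective g
  simpa [MulAut.conj_apply] using h

/-- the even-sum lemma -/
theorem Core.even_sum (c : Core G) (F : G → ℂ) (hF : IsClassFunction G F) :
    (Nat.card c.A : ℂ) * ∑ g : G, (if 2 ∣ orderOf g then F g else 0)
      = (Nat.card G : ℂ) * ∑ ρ : c.K, F (c.x * ρ) := by
  classical
  obtain ⟨P, hP⟩ : ∃ P : G → G → Prop, P = fun y g => ∃ ρ ∈ c.K, y⁻¹ * g * y = c.x * ρ := ⟨_, rfl⟩
  have h1 : ∀ y : G, ∑ g : G, (if P y g then F g else 0) = ∑ ρ : c.K, F (c.x * ρ) := by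
    intro y
    rw [← Finset.sum_filter]
    symm
    refine Finset.sum_bij (fun (ρ : c.K) _ => y * (c.x * (ρ : G)) * y⁻¹) ?_ ?_ ?_ ?_
    · intro ρ _
      rw [Finset.mem_filter]
      refine ⟨Finset.mem_univ _, ?_⟩
      rw [hP]
      exact ⟨ρ, ρ.2, by group⟩
    · intro ρ _ ρ' _ h
      have h2 : c.x * (ρ : G) = c.x * (ρ' : G) := by
        have := congrArg (fun t => y⁻¹ * t * y) h
        simpa [mul_assoc] using this
      exact Subtype.ext (mul_left_cancel h2)
    · intro g hg
      rw [Finset.mem_filter, hP] at hg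
      obtain ⟨ρ, hρ, hg⟩ := hg.2
      refine ⟨⟨ρ, hρ⟩, Finset.mem_univ _, ?_⟩
      simp only
      rw [← hg]; group
    · intro ρ _
      exact (hF _ y).symm
  have h2 : ∀ g : G, ∑ y : G, (if P y g then F g else 0)
      = if 2 ∣ orderOf g then (Nat.card c.A : ℂ) * F g else 0 := by
    intro g
    split_ifs with hg
    · obtain ⟨y₀, ρ₀, hρ₀, hg0⟩ := c.heven g hg
      have hiff : ∀ y : G, P y g ↔ y₀⁻¹ * y ∈ c.A := by
        intro y
        rw [hP]
        constructor
        · rintro ⟨ρ', hρ', h⟩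
          have h3 : (y⁻¹ * y₀) * (c.x * ρ₀) * (y⁻¹ * y₀)⁻¹ = c.x * ρ' := by
            rw [← h, hg0]; group
          have h4 := c.hTI _ ρ₀ hρ₀ ρ' hρ' h3
          have h5 := c.A.inv_mem h4
          simpa using h5
        · intro ha
          have hai := c.A.inv_mem ha
          refine ⟨(y₀⁻¹ * y)⁻¹ * ρ₀ * ((y₀⁻¹ * y)⁻¹)⁻¹, c.hKn _ hai ρ₀ hρ₀, ?_⟩
          have hcomm := c.comm_of_mem hai
          rw [hg0]
          calc y⁻¹ * (y₀ * (c.x * ρ₀) * y₀⁻¹) * y
              = ((y₀⁻¹ * y)⁻¹ * c.x) * ρ₀ * ((y₀⁻¹ * y)⁻¹)⁻¹ := by group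
            _ = (c.x * (y₀⁻¹ * y)⁻¹) * ρ₀ * ((y₀⁻¹ * y)⁻¹)⁻¹ := by rw [hcomm]
            _ = c.x * ((y₀⁻¹ * y)⁻¹ * ρ₀ * ((y₀⁻¹ * y)⁻¹)⁻¹) := by group
      have h3 : ∑ y : G, (if P y g then F g else 0)
          = ∑ y : G, (if y₀⁻¹ * y ∈ c.A then F g else 0) := by
        apply Finset.sum_congr rfl
        intro y _
        rw [if_congr (hiff y) rfl rfl]
      rw [h3, ← Equiv.sum_comp (Equiv.mulLeft y₀)]
      simp only [Equiv.coe_mulLeft, inv_mul_cancel_left]
      rw [← Finset.sum_filter, Finset.sum_const, nsmul_eq_mul]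
      congr 1
      rw [Nat.card_eq_fintype_card, Fintype.card_subtype]
    · apply Finset.sum_eq_zero
      intro y _
      rw [if_neg]
      rw [hP]
      rintro ⟨ρ, hρ, h⟩
      apply hg
      rw [← orderOf_conj' y g, h]
      exact c.hxK ρ hρ
  have h3 : ∑ y : G, ∑ g : G, (if P y g then F g else 0)
      = ∑ g : G, ∑ y : G, (if P y g then F g else 0) := Finset.sum_comm
  have h4 : ∑ y : G, ∑ g : G, (if P y g then F g else 0)
      = (Nat.card G : ℂ) * ∑ ρ : c.K, F (c.x * ρ) := by
    rw [Finset.sum_congr rfl (fun y _ => h1 y), Finset.sum_const, nsmul_eq_mul,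
      Finset.card_univ, Nat.card_eq_fintype_card]
  have h5 : ∑ g : G, ∑ y : G, (if P y g then F g else 0)
      = (Nat.card c.A : ℂ) * ∑ g : G, (if 2 ∣ orderOf g then F g else 0) := by
    rw [Finset.sum_congr rfl (fun g _ => h2 g), Finset.mul_sum]
    apply Finset.sum_congr rfl
    intro g _
    split_ifs <;> simp
  rw [← h5, ← h3, h4]

/-- the class function `Θ = 4 · 1_{even}` -/
noncomputable def theta (G : Type*) [Group G] : G → ℂ := fun g => if 2 ∣ orderOf g then 4 else 0

theorem theta_isClassFunction : IsClassFunction G (theta G) := by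
  intro g h
  unfold theta
  have : orderOf (h * g * h⁻¹) = orderOf g := by
    have := orderOf_conj' h⁻¹ g
    simpa using this
  rw [this]

theorem theta_conj (g : G) : conj (theta G g) = theta G g := by
  unfold theta
  split_ifs
  · rw [map_ofNat]
  · rw [map_zero]

/-- the weighted sum against `Θ` of a class function is its average over `xK` -/
theorem Core.tsum (c : Core G) (F : G → ℂ) (hF : IsClassFunction G F) :
    (Nat.card G : ℂ)⁻¹ * ∑ g : G, theta G g * F g = (c.k : ℂ)⁻¹ * ∑ ρ : c.K, F (c.x * ρ) := by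
  have h1 : ∑ g : G, theta G g * F g = 4 * ∑ g : G, (if 2 ∣ orderOf g then F g else 0) := by
    rw [Finset.mul_sum]
    apply Finset.sum_congr rfl
    intro g _
    unfold theta
    split_ifs <;> simp
  have h2 := c.even_sum F hF
  have hG0 : (Nat.card G : ℂ) ≠ 0 := card_ne_zero_complex G
  have hk0 : (c.k : ℂ) ≠ 0 := by
    have := c.kpos
    exact_mod_cast this.ne'
  rw [c.hAc] at h2
  push_cast at h2
  rw [h1]
  have h3 : ∑ g : G, (if 2 ∣ orderOf g then F g else 0)
      = (Nat.card G : ℂ) * (∑ ρ : c.K, F (c.x * ρ)) / (4 * (c.k : ℂ)) := by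
    field_simp
    linear_combination h2
  rw [h3]
  field_simp

end Cfsg.Agent.Lib.Helper1.V4c
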