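import Mathlib

set_option autoImplicit false

/-!
# Interface: local structure for S3278

`Loc G x V`: the local data around the involution `x` with four-group `V` Sylow and normal in
`C_G(x)`: an odd-order subgroup `K` centralized by `V` with `C_G(x) = V K`, and fusion of the
involutions of `V` inside `N_G(V)`.
-/

namespace Cfsg.Agent.Lib.Helper1.V4c

/-- local data around the involution `x` -/
structure Loc (G : Type*) [Group G] (x : G) (V : Subgroup G) where
  K : Subgroup G
  hKodd : Odd (Nat.card K)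
  hcomm : ∀ v ∈ V, ∀ ρ ∈ K, v * ρ = ρ * v
  hcent : ∀ a : G, a * x = x * a → ∃ v ∈ V, ∃ ρ ∈ K, a = v * ρ
  hfus : ∀ v ∈ V, v ≠ 1 → ∃ h : G, (∀ w ∈ V, h * w * h⁻¹ ∈ V) ∧ h * x * h⁻¹ = v

end Cfsg.Agent.Lib.Helper1.V4c
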