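import Mathlib
import Cfsg.Agent.Lib.Helper1.V4cLoc
import Cfsg.Agent.Lib.Lead.SEInvol

set_option autoImplicit false
set_option maxHeartbeats 4000000
set_option maxRecDepth 100000
set_option linter.unusedVariables false
set_option linter.unusedSectionVars false
set_option linter.style.longLine false
set_option linter.unusedSimpArgs false
set_option linter.deprecated false

/-!
# Local geometry for S3278, part 1: basic facts about `A = C(x) = V × K`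
-/

namespace Cfsg.Agent.Lib.Helper1.V4c

open Cfsg Cfsg.Agent.Lib.Lead

/-- the geometric data: a four-group `V`, Sylow in `G`, with local data `Loc` -/
structure Geo (G : Type*) [Group G] [Finite G] where
  x : G
  V : Subgroup G
  L : Loc G x V
  hx : orderOf x = 2
  hxV : x ∈ V
  hV4 : Nat.card V = 4
  hVsq : ∀ v ∈ V, v * v = 1
  hVsyl : ¬ 2 ∣ V.index
  hnn : ∃ g : G, g ∉ Subgroup.normalizer (V : Set G)

variable {G : Type*} [Group G] [Finite G]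

namespace Geo

variable (Γ : Geo G)

/-- `K` -/
def K : Subgroup G := Γ.L.K

/-- `A = C(x)` -/
def A : Subgroup G := Subgroup.centralizer ({Γ.x} : Set G)

/-- `H = N(V)` -/
def H : Subgroup G := Subgroup.normalizer (Γ.V : Set G)

theorem mem_A_iff {a : G} : a ∈ Γ.A ↔ a * Γ.x = Γ.x * a := by
  unfold A
  rw [Subgroup.mem_centralizer_iff]
  constructor
  · intro h; exact (h Γ.x (Set.mem_singleton _)).symm
  · intro h y hy
    rw [Set.mem_singleton_iff] at hy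
    rw [hy]; exact h.symm

theorem V_inv {v : G} (hv : v ∈ Γ.V) : v⁻¹ = v :=
  inv_eq_of_mul_eq_one_right (Γ.hVsq v hv)

theorem V_comm {v w : G} (hv : v ∈ Γ.V) (hw : w ∈ Γ.V) : v * w = w * v := by
  have h1 := Γ.hVsq (v * w) (Γ.V.mul_mem hv hw)
  have h2 : v * w = (v * w)⁻¹ := (inv_eq_of_mul_eq_one_right h1).symm
  rw [h2, mul_inv_rev, Γ.V_inv hv, Γ.V_inv hw]

theorem x_ne_one : Γ.x ≠ 1 := by
  intro h
  have := Γ.hx
  rw [h, orderOf_one] at this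
  norm_num at this

theorem xx : Γ.x * Γ.x = 1 := Γ.hVsq _ Γ.hxV

theorem odd_orderOf_of_mem_K {ρ : G} (hρ : ρ ∈ Γ.K) : Odd (orderOf ρ) := by
  have h1 : orderOf (⟨ρ, hρ⟩ : Γ.K) ∣ Nat.card Γ.K := orderOf_dvd_natCard _
  rw [Subgroup.orderOf_mk] at h1
  exact Odd.of_dvd_nat Γ.L.hKodd h1

theorem eq_one_of_mem_K_of_sq {ρ : G} (hρ : ρ ∈ Γ.K) (h : ρ * ρ = 1) : ρ = 1 := by
  have h1 := Γ.odd_orderOf_of_mem_K hρ
  have h2 : orderOf ρ ∣ 2 := orderOf_dvd_of_pow_eq_one (by rw [sq]; exact h)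
  have h3 : orderOf ρ = 1 := by
    have h4 := Nat.le_of_dvd (by norm_num) h2
    have h5 := orderOf_pos ρ
    interval_cases (orderOf ρ)
    · rfl
    · exact absurd h1 (by decide)
  exact orderOf_eq_one_iff.mp h3

theorem inter_VK {a : G} (hV : a ∈ Γ.V) (hK : a ∈ Γ.K) : a = 1 :=
  Γ.eq_one_of_mem_K_of_sq hK (Γ.hVsq a hV)

theorem comm_VK {v ρ : G} (hv : v ∈ Γ.V) (hρ : ρ ∈ Γ.K) : v * ρ = ρ * v := Γ.L.hcomm v hv ρ hρ

theorem K_le_A : Γ.K ≤ Γ.A := by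
  intro ρ hρ
  rw [Γ.mem_A_iff]
  exact (Γ.comm_VK Γ.hxV hρ).symm

theorem V_le_A : Γ.V ≤ Γ.A := by
  intro v hv
  rw [Γ.mem_A_iff]
  exact Γ.V_comm hv Γ.hxV

theorem x_mem_A : Γ.x ∈ Γ.A := Γ.V_le_A Γ.hxV

theorem A_decomp {a : G} (ha : a ∈ Γ.A) : ∃ v ∈ Γ.V, ∃ ρ ∈ Γ.K, a = v * ρ :=
  Γ.L.hcent a ((Γ.mem_A_iff).mp ha)

/-- `A` centralizes `V` -/
theorem A_comm_V {a w : G} (ha : a ∈ Γ.A) (hw : w ∈ Γ.V) : a * w = w * a := by
  obtain ⟨v, hv, ρ, hρ, rfl⟩ := Γ.A_decomp ha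
  rw [mul_assoc, ← Γ.comm_VK hw hρ, ← mul_assoc, Γ.V_comm hv hw, mul_assoc]

/-- `K` is normalized by `A` -/
theorem K_normal {a ρ : G} (ha : a ∈ Γ.A) (hρ : ρ ∈ Γ.K) : a * ρ * a⁻¹ ∈ Γ.K := by
  obtain ⟨v, hv, σ, hσ, rfl⟩ := Γ.A_decomp ha
  have h1 : v * σ * ρ * (v * σ)⁻¹ = σ * ρ * σ⁻¹ := by
    have h2 : σ * ρ * σ⁻¹ ∈ Γ.K := Γ.K.mul_mem (Γ.K.mul_mem hσ hρ) (Γ.K.inv_mem hσ)
    have h3 := Γ.comm_VK hv h2
    calc v * σ * ρ * (v * σ)⁻¹ = v * (σ * ρ * σ⁻¹) * v⁻¹ := by group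
      _ = (σ * ρ * σ⁻¹) * v * v⁻¹ := by rw [h3]
      _ = σ * ρ * σ⁻¹ := by group
  rw [h1]
  exact Γ.K.mul_mem (Γ.K.mul_mem hσ hρ) (Γ.K.inv_mem hσ)

/-- the cardinality of `A` -/
theorem card_A : Nat.card Γ.A = 4 * Nat.card Γ.K := by
  have hbij : Function.Bijective (fun p : Γ.V × Γ.K =>
      (⟨(p.1 : G) * (p.2 : G), Γ.A.mul_mem (Γ.V_le_A p.1.2) (Γ.K_le_A p.2.2)⟩ : Γ.A)) := by
    constructor
    · intro p q h
      have h1 : (p.1 : G) * (p.2 : G) = (q.1 : G) * (q.2 : G) := congrArg Subtype.val h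
      have h2 : (q.1 : G)⁻¹ * (p.1 : G) = (q.2 : G) * (p.2 : G)⁻¹ := by
        have : (q.1 : G)⁻¹ * ((p.1 : G) * (p.2 : G)) * (p.2 : G)⁻¹
            = (q.1 : G)⁻¹ * ((q.1 : G) * (q.2 : G)) * (p.2 : G)⁻¹ := by rw [h1]
        simpa [mul_assoc] using this
      have h3 : (q.1 : G)⁻¹ * (p.1 : G) ∈ Γ.V := Γ.V.mul_mem (Γ.V.inv_mem q.1.2) p.1.2
      have h4 : (q.1 : G)⁻¹ * (p.1 : G) ∈ Γ.K := by
        rw [h2]; exact Γ.K.mul_mem q.2.2 (Γ.K.inv_mem p.2.2)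
      have h5 := Γ.inter_VK h3 h4
      have h6 : (p.1 : G) = (q.1 : G) := by
        have := inv_mul_eq_one.mp h5
        exact this.symm
      have h7 : (p.2 : G) = (q.2 : G) := by
        rw [h6] at h1
        exact mul_left_cancel h1
      exact Prod.ext (Subtype.ext h6) (Subtype.ext h7)
    · intro a
      obtain ⟨v, hv, ρ, hρ, h⟩ := Γ.A_decomp a.2
      exact ⟨(⟨v, hv⟩, ⟨ρ, hρ⟩), Subtype.ext h.symm⟩
  rw [← Nat.card_congr (Equiv.ofBijective _ hbij), Nat.card_prod, Γ.hV4]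

/-- involutions of `A` lie in `V` -/
theorem invol_mem_V_of_mem_A {t : G} (ht : orderOf t = 2) (hA : t ∈ Γ.A) : t ∈ Γ.V := by
  obtain ⟨v, hv, ρ, hρ, rfl⟩ := Γ.A_decomp hA
  have h1 := invol_mul_self ht
  have h2 : ρ * ρ = 1 := by
    have h3 : v * ρ * (v * ρ) = (v * v) * (ρ * ρ) := by
      rw [mul_assoc, ← mul_assoc ρ v ρ, ← Γ.comm_VK hv hρ]; group
    rw [h3, Γ.hVsq v hv, one_mul] at h1
    exact h1
  rw [Γ.eq_one_of_mem_K_of_sq hρ h2, mul_one]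
  exact hv

/-- conjugation by an element sending `V` into `V` is onto `V` -/
theorem conj_surj {h : G} (hh : ∀ w ∈ Γ.V, h * w * h⁻¹ ∈ Γ.V) {w : G} (hw : w ∈ Γ.V) :
    ∃ w' ∈ Γ.V, h * w' * h⁻¹ = w := by
  have hinj : Function.Injective (fun w : Γ.V => (⟨h * (w : G) * h⁻¹, hh w w.2⟩ : Γ.V)) := by
    intro a b hab
    have h1 : h * (a : G) * h⁻¹ = h * (b : G) * h⁻¹ := congrArg Subtype.val hab
    apply Subtype.ext
    have := congrArg (fun t => h⁻¹ * t * h) h1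
    simpa [mul_assoc] using this
  obtain ⟨w', hw'⟩ := (Finite.injective_iff_surjective.mp hinj) ⟨w, hw⟩
  exact ⟨w', w'.2, congrArg Subtype.val hw'⟩

/-- the centralizer of any involution of `V` is `A` -/
theorem mem_A_of_comm {v g : G} (hv : v ∈ Γ.V) (hv1 : v ≠ 1) (hg : g * v = v * g) : g ∈ Γ.A := by
  obtain ⟨h, hh, hhx⟩ := Γ.L.hfus v hv hv1
  have h1 : (h⁻¹ * g * h) * Γ.x = Γ.x * (h⁻¹ * g * h) := by
    have h2 : Γ.x = h⁻¹ * v * h := by rw [← hhx]; group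
    rw [h2]
    calc h⁻¹ * g * h * (h⁻¹ * v * h) = h⁻¹ * (g * v) * h := by group
      _ = h⁻¹ * (v * g) * h := by rw [hg]
      _ = h⁻¹ * v * h * (h⁻¹ * g * h) := by group
  have h3 : h⁻¹ * g * h ∈ Γ.A := (Γ.mem_A_iff).mpr h1
  -- g commutes with all of V, in particular with x
  rw [Γ.mem_A_iff]
  obtain ⟨w', hw', hwx⟩ := Γ.conj_surj hh Γ.hxV
  have h4 := Γ.A_comm_V h3 hw'
  rw [← hwx]
  calc g * (h * w' * h⁻¹) = h * ((h⁻¹ * g * h) * w') * h⁻¹ := by group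
    _ = h * (w' * (h⁻¹ * g * h)) * h⁻¹ := by rw [h4]
    _ = h * w' * h⁻¹ * g := by group

theorem comm_of_mem_A {v a : G} (hv : v ∈ Γ.V) (ha : a ∈ Γ.A) : a * v = v * a := Γ.A_comm_V ha hv

theorem A_le_H : Γ.A ≤ Γ.H := by
  intro a ha
  unfold H
  apply Subgroup.mem_normalizer_fintype
  intro w hw
  have hw' : w ∈ Γ.V := hw
  have h1 := Γ.A_comm_V ha hw'
  have h2 : a * w * a⁻¹ = w := by rw [h1]; group
  rw [h2]; exact hw

theorem V_le_H : Γ.V ≤ Γ.H := le_trans Γ.V_le_A Γ.A_le_H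

theorem mem_H_iff {h : G} : h ∈ Γ.H ↔ ∀ w ∈ Γ.V, h * w * h⁻¹ ∈ Γ.V := by
  constructor
  · intro hh w hw
    unfold H at hh
    rw [Subgroup.mem_normalizer_iff] at hh
    exact (hh w).mp hw
  · intro hh
    unfold H
    apply Subgroup.mem_normalizer_fintype
    intro w hw
    exact hh w hw

end Geo

end Cfsg.Agent.Lib.Helper1.V4c
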