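import Mathlib
import Cfsg.Agent.Lib.Helper1.V4c8
import Cfsg.Agent.Lib.Helper4.Simple60

set_option autoImplicit false
set_option maxHeartbeats 4000000
set_option maxRecDepth 100000
set_option linter.unusedVariables false
set_option linter.unusedSectionVars false
set_option linter.style.longLine false
set_option linter.unusedSimpArgs false
set_option linter.deprecated false

/-!
# Local geometry for S3278, part 2: fusion of involutions, `N(V)` is strongly embedded, orders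
-/

namespace Cfsg.Agent.Lib.Helper1.V4c

open Cfsg Cfsg.Agent.Lib.Lead

variable {G : Type*} [Group G] [Finite G]

namespace Geo

variable (Γ : Geo G)

/-- involutions of `H = N(V)` lie in `V` -/
theorem invol_mem_V_of_mem_H {t : G} (ht : orderOf t = 2) (hH : t ∈ Γ.H) : t ∈ Γ.V := by
  have htt := invol_mul_self ht
  have htinv := invol_inv ht
  have hy : t * Γ.x * t⁻¹ ∈ Γ.V := (Γ.mem_H_iff).mp hH _ Γ.hxV
  by_cases hyx : t * Γ.x * t⁻¹ = Γ.x
  · apply Γ.invol_mem_V_of_mem_A ht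
    rw [Γ.mem_A_iff]
    have := congrArg (· * t) hyx
    simpa [mul_assoc] using this
  · have hz : Γ.x * (t * Γ.x * t⁻¹) ∈ Γ.V := Γ.V.mul_mem Γ.hxV hy
    have hz1 : Γ.x * (t * Γ.x * t⁻¹) ≠ 1 := by
      intro h
      apply hyx
      have h2 : t * Γ.x * t⁻¹ = Γ.x⁻¹ := (inv_eq_of_mul_eq_one_right h).symm
      rw [h2, Γ.V_inv Γ.hxV]
    apply Γ.invol_mem_V_of_mem_A ht
    apply Γ.mem_A_of_comm hz hz1
    have hcomm := Γ.V_comm Γ.hxV hy
    rw [htinv] at hcomm hy ⊢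
    calc t * (Γ.x * (t * Γ.x * t)) = (t * Γ.x * t) * (t * t) * Γ.x * t := by
          rw [htt]; group
      _ = (t * Γ.x * t) * Γ.x * t := by rw [htt, mul_one]
      _ = Γ.x * (t * Γ.x * t) * t := by rw [← hcomm]

theorem isPGroup_V : IsPGroup 2 Γ.V := by
  apply IsPGroup.of_card (n := 2)
  rw [Γ.hV4]; norm_num

/-- every involution is conjugate to `x` -/
theorem conj_invol {t : G} (ht : orderOf t = 2) : ∃ g : G, g * Γ.x * g⁻¹ = t := by
  haveI : Fact (Nat.Prime 2) := ⟨Nat.prime_two⟩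
  obtain ⟨P, hP⟩ : ∃ P : Sylow 2 G, (P : Subgroup G) = Γ.V :=
    ⟨Γ.isPGroup_V.toSylow Γ.hVsyl, IsPGroup.toSylow_coe _ _⟩
  have hz : IsPGroup 2 (Subgroup.zpowers t) := by
    apply IsPGroup.of_card (n := 1)
    rw [Nat.card_zpowers, ht, pow_one]
  obtain ⟨Q, hQ⟩ := hz.exists_le_sylow
  obtain ⟨g, hg⟩ := MulAction.exists_smul_eq G P Q
  have htQ : t ∈ (Q : Subgroup G) := hQ (Subgroup.mem_zpowers t)
  rw [← hg, Sylow.coe_subgroup_smul, Subgroup.mem_pointwise_smul_iff_inv_smul_mem, hP] at htQ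
  have hv : g⁻¹ * t * g ∈ Γ.V := by
    have : (MulAut.conj g)⁻¹ • t = g⁻¹ * t * g := by
      rw [MulAut.smul_def, MulAut.conj_inv_apply]
    rw [this] at htQ
    exact htQ
  have hv1 : g⁻¹ * t * g ≠ 1 := by
    intro h
    have h2 : t = 1 := by
      have := congrArg (fun s => g * s * g⁻¹) h
      simpa [mul_assoc] using this
    rw [h2, orderOf_one] at ht
    norm_num at ht
  obtain ⟨h, -, hh⟩ := Γ.L.hfus _ hv hv1
  refine ⟨g * h, ?_⟩
  calc g * h * Γ.x * (g * h)⁻¹ = g * (h * Γ.x * h⁻¹) * g⁻¹ := by group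
    _ = g * (g⁻¹ * t * g) * g⁻¹ := by rw [hh]
    _ = t := by group

theorem H_ne_top : Γ.H ≠ ⊤ := by
  obtain ⟨g, hg⟩ := Γ.hnn
  intro h
  apply hg
  have : g ∈ Γ.H := by rw [h]; exact Subgroup.mem_top g
  exact this

theorem x_mem_H : Γ.x ∈ Γ.H := Γ.V_le_H Γ.hxV

/-- `H = N(V)` is strongly embedded -/
theorem isSE : Cfsg.IsStronglyEmbedded Γ.H := by
  rw [stronglyEmbedded_iff Γ.H Γ.H_ne_top (even_card_of_invol_mem Γ.H Γ.x Γ.hx Γ.x_mem_H)]
  intro g hg s hs hsH hconj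
  have hsV := Γ.invol_mem_V_of_mem_H hs hsH
  have hs' : orderOf (g⁻¹ * s * g) = 2 := by rw [SE.orderOf_conj_eq', hs]
  have hs'V := Γ.invol_mem_V_of_mem_H hs' hconj
  have hs1 : s ≠ 1 := by
    intro h; rw [h, orderOf_one] at hs; norm_num at hs
  have hs'1 : g⁻¹ * s * g ≠ 1 := by
    intro h; rw [h, orderOf_one] at hs'; norm_num at hs'
  obtain ⟨h₁, hh₁, hx₁⟩ := Γ.L.hfus s hsV hs1
  obtain ⟨h₂, hh₂, hx₂⟩ := Γ.L.hfus _ hs'V hs'1
  have hh₁H : h₁ ∈ Γ.H := (Γ.mem_H_iff).mpr hh₁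
  have hh₂H : h₂ ∈ Γ.H := (Γ.mem_H_iff).mpr hh₂
  have hw : (g * h₂ * h₁⁻¹) * s = s * (g * h₂ * h₁⁻¹) := by
    have h1 : (g * h₂ * h₁⁻¹) * s * (g * h₂ * h₁⁻¹)⁻¹ = s := by
      calc (g * h₂ * h₁⁻¹) * s * (g * h₂ * h₁⁻¹)⁻¹
          = g * h₂ * (h₁⁻¹ * (h₁ * Γ.x * h₁⁻¹) * h₁) * h₂⁻¹ * g⁻¹ := by rw [hx₁]; group
        _ = g * (h₂ * Γ.x * h₂⁻¹) * g⁻¹ := by group
        _ = g * (g⁻¹ * s * g) * g⁻¹ := by rw [hx₂]
        _ = s := by group
    have := congrArg (· * (g * h₂ * h₁⁻¹)) h1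
    simpa [mul_assoc] using this
  have hwA : g * h₂ * h₁⁻¹ ∈ Γ.A := Γ.mem_A_of_comm hsV hs1 hw
  have hwH := Γ.A_le_H hwA
  apply hg
  have : g = (g * h₂ * h₁⁻¹) * h₁ * h₂⁻¹ := by group
  rw [this]
  exact Γ.H.mul_mem (Γ.H.mul_mem hwH hh₁H) (Γ.H.inv_mem hh₂H)

/-- the order of `H` -/
theorem card_H : Nat.card Γ.H = 12 * Nat.card Γ.K := by
  have h1 := SE.card_conjOrbit_mul Γ.H Γ.x
  have h2 : (Subgroup.centralizer ({Γ.x} : Set G) ⊓ Γ.H : Subgroup G) = Γ.A := by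
    have : Subgroup.centralizer ({Γ.x} : Set G) = Γ.A := rfl
    rw [this]
    exact inf_eq_left.mpr Γ.A_le_H
  rw [h2, Γ.card_A] at h1
  have h3 : Nat.card {b : G // ∃ d ∈ Γ.H, d * Γ.x * d⁻¹ = b} = 3 := by
    have hiff : ∀ b : G, (∃ d ∈ Γ.H, d * Γ.x * d⁻¹ = b) ↔ (b ∈ Γ.V ∧ b ≠ 1) := by
      intro b
      constructor
      · rintro ⟨d, hd, rfl⟩
        refine ⟨(Γ.mem_H_iff).mp hd _ Γ.hxV, ?_⟩
        intro h
        apply Γ.x_ne_one
        have := congrArg (fun s => d⁻¹ * s * d) h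
        simpa [mul_assoc] using this
      · rintro ⟨hb, hb1⟩
        obtain ⟨h, hh, hx⟩ := Γ.L.hfus b hb hb1
        exact ⟨h, (Γ.mem_H_iff).mpr hh, hx⟩
    rw [Nat.card_congr (Equiv.subtypeEquivRight hiff)]
    have h4 : Nat.card {v : Γ.V // v ≠ 1} = 3 := by
      rw [Cfsg.Agent.Lib.Helper4.card_subtype_ne_one, Γ.hV4]
    rw [← h4]
    apply Nat.card_congr
    refine
      { toFun := fun b => ⟨⟨b.1, b.2.1⟩, fun h => b.2.2 (congrArg Subtype.val h)⟩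
        invFun := fun v => ⟨v.1.1, v.1.2, fun h => v.2 (Subtype.ext h)⟩
        left_inv := fun b => rfl
        right_inv := fun v => rfl }
  rw [h3] at h1
  omega

/-- the index `n` of `H` -/
noncomputable def n : ℕ := Γ.H.index

theorem card_G : Nat.card G = 12 * Nat.card Γ.K * Γ.n := by
  unfold n
  rw [← Γ.card_H, Subgroup.card_mul_index]

theorem one_lt_n : 1 < Γ.n := by
  unfold n
  have h1 : Γ.H.index ≠ 1 := fun h => Γ.H_ne_top (Subgroup.index_eq_one.mp h)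
  have h2 : Γ.H.index ≠ 0 := Subgroup.index_ne_zero_of_finite
  omega

end Geo

end Cfsg.Agent.Lib.Helper1.V4c
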