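import Mathlib
import Cfsg.Agent.Lib.Helper1.V4c9

set_option autoImplicit false
set_option maxHeartbeats 4000000
set_option maxRecDepth 100000
set_option linter.unusedVariables false
set_option linter.unusedSectionVars false
set_option linter.style.longLine false
set_option linter.unusedSimpArgs false
set_option linter.deprecated false

/-!
# Local geometry for S3278, part 3: elements of even order, the TI set `xK`, pairs of involutions
-/

namespace Cfsg.Agent.Lib.Helper1.V4c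

open Cfsg Cfsg.Agent.Lib.Lead

variable {G : Type*} [Group G] [Finite G]

/-- counting the conjugating elements landing in a set of conjugates -/
theorem card_conj_mem (x : G) (T : Set G) (hT : ∀ t ∈ T, ∃ p : G, p * x * p⁻¹ = t) :
    Nat.card {p : G // p * x * p⁻¹ ∈ T}
      = Nat.card T * Nat.card (Subgroup.centralizer ({x} : Set G)) := by
  classical
  haveI : Fintype T := Fintype.ofFinite _
  haveI : Fintype (Subgroup.centralizer ({x} : Set G)) := Fintype.ofFinite _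
  let f : {p : G // p * x * p⁻¹ ∈ T} → T := fun p => ⟨p.1 * x * p.1⁻¹, p.2⟩
  have h1 : Nat.card {p : G // p * x * p⁻¹ ∈ T} = Nat.card (Σ t : T, {p // f p = t}) :=
    Nat.card_congr (Equiv.sigmaFiberEquiv f).symm
  have h2 : ∀ t : T, Nat.card {p // f p = t} = Nat.card (Subgroup.centralizer ({x} : Set G)) := by
    intro t
    obtain ⟨p₀, hp₀⟩ := hT t.1 t.2
    apply Nat.card_congr
    refine
      { toFun := fun p => ⟨p₀⁻¹ * p.1.1, ?_⟩
        invFun := fun c => ⟨⟨p₀ * c.1, ?_⟩, ?_⟩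
        left_inv := fun p => by apply Subtype.ext; apply Subtype.ext; simp
        right_inv := fun c => by apply Subtype.ext; simp }
    · have hp : p.1.1 * x * p.1.1⁻¹ = t.1 := congrArg Subtype.val p.2
      rw [Subgroup.mem_centralizer_singleton_iff]
      have : p₀⁻¹ * p.1.1 * x = p₀⁻¹ * (p.1.1 * x * p.1.1⁻¹) * p.1.1 := by group
      rw [this, hp, ← hp₀]; group
    · have hc := Subgroup.mem_centralizer_singleton_iff.mp c.2
      have : p₀ * c.1 * x * (p₀ * c.1)⁻¹ = p₀ * (c.1 * x) * c.1⁻¹ * p₀⁻¹ := by group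
      rw [this, hc]
      have h3 : p₀ * (x * c.1) * c.1⁻¹ * p₀⁻¹ = p₀ * x * p₀⁻¹ := by group
      rw [h3, hp₀]; exact t.2
    · have hc := Subgroup.mem_centralizer_singleton_iff.mp c.2
      apply Subtype.ext
      show p₀ * c.1 * x * (p₀ * c.1)⁻¹ = t.1
      have : p₀ * c.1 * x * (p₀ * c.1)⁻¹ = p₀ * (c.1 * x) * c.1⁻¹ * p₀⁻¹ := by group
      rw [this, hc]
      have h3 : p₀ * (x * c.1) * c.1⁻¹ * p₀⁻¹ = p₀ * x * p₀⁻¹ := by group
      rw [h3, hp₀]
  rw [h1, Nat.card_sigma, Finset.sum_congr rfl (fun t _ => h2 t), Finset.sum_const, smul_eq_mul,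
    Finset.card_univ, Nat.card_eq_fintype_card (α := T)]

namespace Geo

variable (Γ : Geo G)

theorem pow_card_K {ρ : G} (hρ : ρ ∈ Γ.K) : ρ ^ Nat.card Γ.K = 1 := by
  have h := pow_card_eq_one' (G := Γ.K) (x := ⟨ρ, hρ⟩)
  have h2 := congrArg Subtype.val h
  rw [Subgroup.coe_pow, Subgroup.coe_one] at h2
  exact h2

theorem x_pow_odd {m : ℕ} (hm : Odd m) : Γ.x ^ m = Γ.x := by
  obtain ⟨j, rfl⟩ := hm
  rw [pow_succ, pow_mul, sq, Γ.xx, one_pow, one_mul]

theorem comm_xK {ρ : G} (hρ : ρ ∈ Γ.K) : Commute Γ.x ρ := Γ.comm_VK Γ.hxV hρ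

/-- `(xρ)^|K| = x` -/
theorem xK_pow {ρ : G} (hρ : ρ ∈ Γ.K) : (Γ.x * ρ) ^ Nat.card Γ.K = Γ.x := by
  have hodd : Odd (Nat.card Γ.K) := Γ.L.hKodd
  rw [(Γ.comm_xK hρ).mul_pow, Γ.pow_card_K hρ, mul_one, Γ.x_pow_odd hodd]

/-- elements of `xK` have even order -/
theorem even_xK {ρ : G} (hρ : ρ ∈ Γ.K) : 2 ∣ orderOf (Γ.x * ρ) := by
  by_contra hcon
  have hodd : Odd (orderOf (Γ.x * ρ)) := Nat.odd_iff.mpr (by omega)
  have h1 : (Γ.x * ρ) ^ orderOf (Γ.x * ρ) = 1 := pow_orderOf_eq_one _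
  rw [(Γ.comm_xK hρ).mul_pow, Γ.x_pow_odd hodd] at h1
  have h2 : Γ.x = (ρ ^ orderOf (Γ.x * ρ))⁻¹ := eq_inv_of_mul_eq_one_left h1
  have h3 : Γ.x ∈ Γ.K := by rw [h2]; exact Γ.K.inv_mem (Γ.K.pow_mem hρ _)
  exact Γ.x_ne_one (Γ.inter_VK Γ.hxV h3)

/-- the TI property of `xK` -/
theorem TI_xK {y ρ ρ' : G} (hρ : ρ ∈ Γ.K) (hρ' : ρ' ∈ Γ.K)
    (h : y * (Γ.x * ρ) * y⁻¹ = Γ.x * ρ') : y ∈ Γ.A := by
  rw [Γ.mem_A_iff]
  have h1 : y * Γ.x * y⁻¹ = Γ.x := by
    have h2 : (y * (Γ.x * ρ) * y⁻¹) ^ Nat.card Γ.K = (Γ.x * ρ') ^ Nat.card Γ.K := by rw [h]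
    rw [conj_pow, Γ.xK_pow hρ, Γ.xK_pow hρ'] at h2
    exact h2
  have := congrArg (· * y) h1
  simpa [mul_assoc] using this

/-- elements of even order are conjugate into `xK` -/
theorem even_conj {g : G} (hg : 2 ∣ orderOf g) : ∃ y : G, ∃ ρ ∈ Γ.K, g = y * (Γ.x * ρ) * y⁻¹ := by
  obtain ⟨j, hj⟩ := hg
  have hpos : 0 < orderOf g := orderOf_pos g
  have hj0 : 0 < j := by
    rcases Nat.eq_zero_or_pos j with h | h
    · rw [h] at hj; omega
    · exact h
  have ht1 : g ^ j ≠ 1 := by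
    intro h
    have := orderOf_dvd_of_pow_eq_one h
    have := Nat.le_of_dvd hj0 this
    omega
  have htt : g ^ j * g ^ j = 1 := by
    rw [← pow_add, ← two_mul, ← hj, pow_orderOf_eq_one]
  have ht : orderOf (g ^ j) = 2 := invol_of_mul_self ht1 htt
  obtain ⟨y, hy⟩ := Γ.conj_invol ht
  have hcomm : (y⁻¹ * g * y) * Γ.x = Γ.x * (y⁻¹ * g * y) := by
    have h1 : Γ.x = y⁻¹ * g ^ j * y := by rw [← hy]; group
    rw [h1]
    have h2 : g * g ^ j = g ^ j * g := by rw [← pow_succ', ← pow_succ]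
    calc y⁻¹ * g * y * (y⁻¹ * g ^ j * y) = y⁻¹ * (g * g ^ j) * y := by group
      _ = y⁻¹ * (g ^ j * g) * y := by rw [h2]
      _ = y⁻¹ * g ^ j * y * (y⁻¹ * g * y) := by group
  obtain ⟨v, hv, ρ, hρ, hvρ⟩ := Γ.A_decomp ((Γ.mem_A_iff).mpr hcomm)
  have hpow : (v * ρ) ^ j = Γ.x := by
    rw [← hvρ]
    have h1 : (y⁻¹ * g * y) ^ j = y⁻¹ * g ^ j * y := by
      have := conj_pow (a := y⁻¹) (b := g) (i := j)
      simpa using this
    rw [h1, ← hy]; group
  rw [(show Commute v ρ from Γ.comm_VK hv hρ).mul_pow] at hpow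
  have hρj : ρ ^ j = 1 := by
    apply Γ.inter_VK _ (Γ.K.pow_mem hρ j)
    have h1 : ρ ^ j = (v ^ j)⁻¹ * Γ.x := by rw [← hpow]; group
    rw [h1]
    exact Γ.V.mul_mem (Γ.V.inv_mem (Γ.V.pow_mem hv j)) Γ.hxV
  rw [hρj, mul_one] at hpow
  have hvx : v = Γ.x := by
    have hv2 : v ^ 2 = 1 := by rw [sq]; exact Γ.hVsq v hv
    rw [pow_eq_pow_mod j hv2] at hpow
    rcases Nat.mod_two_eq_zero_or_one j with h | h
    · rw [h, pow_zero] at hpow
      exact absurd hpow.symm Γ.x_ne_one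
    · rw [h, pow_one] at hpow
      exact hpow
  refine ⟨y, ρ, hρ, ?_⟩
  rw [← hvx, ← hvρ]; group

/-- the set of the two involutions of `q V q⁻¹` different from `q x q⁻¹` -/
def other (q : G) : Set G := {u | ∃ v ∈ Γ.V, v ≠ 1 ∧ v ≠ Γ.x ∧ u = q * v * q⁻¹}

theorem card_other (q : G) : Nat.card (Γ.other q) = 2 := by
  classical
  haveI : Fintype Γ.V := Fintype.ofFinite _
  have h1 : Nat.card (Γ.other q) = Nat.card {v : Γ.V // v ≠ 1 ∧ v ≠ ⟨Γ.x, Γ.hxV⟩} := by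
    apply Nat.card_congr
    refine Equiv.ofBijective
      (fun u => ⟨⟨q⁻¹ * u.1 * q, ?_⟩, ?_, ?_⟩) ⟨?_, ?_⟩
    · obtain ⟨v, hv, -, -, hu⟩ := u.2
      rw [hu]
      have : q⁻¹ * (q * v * q⁻¹) * q = v := by group
      rw [this]; exact hv
    · obtain ⟨v, hv, hv1, -, hu⟩ := u.2
      intro h
      apply hv1
      have h2 := congrArg Subtype.val h
      simp only [Subgroup.coe_one] at h2
      rw [hu] at h2
      have : q⁻¹ * (q * v * q⁻¹) * q = v := by group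
      rw [this] at h2; exact h2
    · obtain ⟨v, hv, -, hvx, hu⟩ := u.2
      intro h
      apply hvx
      have h2 := congrArg Subtype.val h
      simp only at h2
      rw [hu] at h2
      have : q⁻¹ * (q * v * q⁻¹) * q = v := by group
      rw [this] at h2; exact h2
    · intro a b hab
      have h2 : q⁻¹ * a.1 * q = q⁻¹ * b.1 * q := by
        have := congrArg (fun t => (t.1 : G)) hab
        simpa using this
      apply Subtype.ext
      have := congrArg (fun t => q * t * q⁻¹) h2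
      simpa [mul_assoc] using this
    · intro v
      refine ⟨⟨q * (v.1 : G) * q⁻¹, (v.1 : G), v.1.2, ?_, ?_, rfl⟩, ?_⟩
      · intro h; exact v.2.1 (Subtype.ext h)
      · intro h; exact v.2.2 (Subtype.ext h)
      · apply Subtype.ext; apply Subtype.ext
        simp only
        group
  rw [h1, Nat.card_eq_fintype_card, Fintype.card_subtype]
  have h2 : (Finset.univ.filter (fun v : Γ.V => v ≠ 1 ∧ v ≠ ⟨Γ.x, Γ.hxV⟩))
      = (Finset.univ.erase (1 : Γ.V)).erase ⟨Γ.x, Γ.hxV⟩ := by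
    ext v
    simp only [Finset.mem_filter, Finset.mem_univ, true_and, Finset.mem_erase, and_true]
    tauto
  have hx1 : (⟨Γ.x, Γ.hxV⟩ : Γ.V) ≠ 1 := by
    intro h
    exact Γ.x_ne_one (congrArg Subtype.val h)
  rw [h2, Finset.card_erase_of_mem (Finset.mem_erase.mpr ⟨hx1, Finset.mem_univ _⟩),
    Finset.card_erase_of_mem (Finset.mem_univ _), Finset.card_univ, ← Nat.card_eq_fintype_card,
    Γ.hV4]

theorem invol_of_mem_V {v : G} (hv : v ∈ Γ.V) (hv1 : v ≠ 1) : orderOf v = 2 :=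
  invol_of_mul_self hv1 (Γ.hVsq v hv)

/-- characterization of the involutions `u` with `u * (q x q⁻¹)` of even order -/
theorem even_mul_iff (q u : G) (hu : orderOf u = 2) :
    2 ∣ orderOf (u * (q * Γ.x * q⁻¹)) ↔ u ∈ Γ.other q := by
  have hw : orderOf (q * Γ.x * q⁻¹) = 2 := by rw [SE.orderOf_conj_eq, Γ.hx]
  constructor
  · intro he
    obtain ⟨z, hz, hzu, hzw⟩ := SE.exists_central_invol hu hw (even_iff_two_dvd.mpr he)
      (orderOf_pos _)
    -- q⁻¹ z q commutes with x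
    have h1 : (q⁻¹ * z * q) * Γ.x = Γ.x * (q⁻¹ * z * q) := by
      calc q⁻¹ * z * q * Γ.x = q⁻¹ * (z * (q * Γ.x * q⁻¹)) * q := by group
        _ = q⁻¹ * ((q * Γ.x * q⁻¹) * z) * q := by rw [hzw]
        _ = Γ.x * (q⁻¹ * z * q) := by group
    have hz0 : orderOf (q⁻¹ * z * q) = 2 := by rw [SE.orderOf_conj_eq', hz]
    have hz0V : q⁻¹ * z * q ∈ Γ.V := Γ.invol_mem_V_of_mem_A hz0 ((Γ.mem_A_iff).mpr h1)
    have hz01 : q⁻¹ * z * q ≠ 1 := by
      intro h; rw [h, orderOf_one] at hz0; norm_num at hz0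
    have h2 : (q⁻¹ * u * q) * (q⁻¹ * z * q) = (q⁻¹ * z * q) * (q⁻¹ * u * q) := by
      calc q⁻¹ * u * q * (q⁻¹ * z * q) = q⁻¹ * (u * z) * q := by group
        _ = q⁻¹ * (z * u) * q := by rw [hzu]
        _ = q⁻¹ * z * q * (q⁻¹ * u * q) := by group
    have hu0 : orderOf (q⁻¹ * u * q) = 2 := by rw [SE.orderOf_conj_eq', hu]
    have hu0V : q⁻¹ * u * q ∈ Γ.V :=
      Γ.invol_mem_V_of_mem_A hu0 (Γ.mem_A_of_comm hz0V hz01 h2)
    refine ⟨q⁻¹ * u * q, hu0V, ?_, ?_, by group⟩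
    · intro h; rw [h, orderOf_one] at hu0; norm_num at hu0
    · intro h
      have h3 : u = q * Γ.x * q⁻¹ := by rw [← h]; group
      rw [← h3, invol_mul_self hu, orderOf_one] at he
      norm_num at he
  · rintro ⟨v, hv, hv1, hvx, rfl⟩
    have h1 : q * v * q⁻¹ * (q * Γ.x * q⁻¹) = q * (v * Γ.x) * q⁻¹ := by group
    rw [h1, SE.orderOf_conj_eq]
    have h2 : v * Γ.x ≠ 1 := by
      intro h
      apply hvx
      have := eq_inv_of_mul_eq_one_left h
      rw [this, Γ.V_inv Γ.hxV]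
    rw [Γ.invol_of_mem_V (Γ.V.mul_mem hv Γ.hxV) h2]

/-- the count of pairs -/
theorem card_pairs (q : G) :
    Nat.card {p : G // 2 ∣ orderOf (p * Γ.x * p⁻¹ * (q * Γ.x * q⁻¹))} = 8 * Nat.card Γ.K := by
  have hiff : ∀ p : G, 2 ∣ orderOf (p * Γ.x * p⁻¹ * (q * Γ.x * q⁻¹)) ↔ p * Γ.x * p⁻¹ ∈ Γ.other q := by
    intro p
    apply Γ.even_mul_iff
    rw [SE.orderOf_conj_eq, Γ.hx]
  rw [Nat.card_congr (Equiv.subtypeEquivRight hiff), card_conj_mem Γ.x (Γ.other q), Γ.card_other]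
  · have : Nat.card (Subgroup.centralizer ({Γ.x} : Set G)) = Nat.card Γ.A := rfl
    rw [this, Γ.card_A]; ring
  · rintro t ⟨v, hv, hv1, -, rfl⟩
    obtain ⟨h, -, hh⟩ := Γ.L.hfus v hv hv1
    refine ⟨q * h, ?_⟩
    rw [← hh]; group

end Geo

end Cfsg.Agent.Lib.Helper1.V4c
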