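import Mathlib
import Cfsg.Agent.Lib.Helper1.V4c10
import Cfsg.Agent.Lib.Helper1.GlaubermanRepl3

set_option autoImplicit false
set_option maxHeartbeats 4000000
set_option maxRecDepth 100000
set_option linter.unusedVariables false
set_option linter.unusedSectionVars false
set_option linter.style.longLine false
set_option linter.unusedSimpArgs false
set_option linter.deprecated false

/-!
# Local geometry for S3278, part 4: the linear character `ω` of `H = N(V)` and the swapping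
involutions
-/

namespace Cfsg.Agent.Lib.Helper1.V4c

open Cfsg Cfsg.Agent.Lib.Lead

variable {G : Type*} [Group G] [Finite G]

namespace Geo

variable (Γ : Geo G)

/-- `A` is normalized by `H` -/
theorem A_normal {h a : G} (hh : h ∈ Γ.H) (ha : a ∈ Γ.A) : h * a * h⁻¹ ∈ Γ.A := by
  rw [Γ.mem_A_iff]
  obtain ⟨w', hw', hwx⟩ := Γ.conj_surj ((Γ.mem_H_iff).mp hh) Γ.hxV
  have h1 := Γ.A_comm_V ha hw'
  rw [← hwx]
  calc h * a * h⁻¹ * (h * w' * h⁻¹) = h * (a * w') * h⁻¹ := by group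
    _ = h * (w' * a) * h⁻¹ := by rw [h1]
    _ = h * w' * h⁻¹ * (h * a * h⁻¹) := by group

instance A_sub_normal : (Γ.A.subgroupOf Γ.H).Normal := by
  constructor
  intro a ha h
  rw [Subgroup.mem_subgroupOf] at ha ⊢
  simp only [Subgroup.coe_mul, Subgroup.coe_inv]
  exact Γ.A_normal h.2 ha

theorem Kpos : 0 < Nat.card Γ.K := Nat.card_pos

theorem card_quot : Nat.card (Γ.H ⧸ Γ.A.subgroupOf Γ.H) = 3 := by
  have h1 := Subgroup.card_eq_card_quotient_mul_card_subgroup (Γ.A.subgroupOf Γ.H)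
  have h2 : Nat.card (Γ.A.subgroupOf Γ.H) = Nat.card Γ.A :=
    Nat.card_congr (Subgroup.subgroupOfEquivOfLe Γ.A_le_H).toEquiv
  rw [h2, Γ.card_H, Γ.card_A] at h1
  have := Γ.Kpos
  nlinarith

/-- the linear character `ω` of `H` with kernel `A` -/
theorem exists_omega : ∃ ω : Γ.H →* ℂˣ, (∀ h : Γ.H, ω h = 1 ↔ (h : G) ∈ Γ.A) ∧
    ∀ h : Γ.H, ω h ^ 3 = 1 := by
  classical
  obtain ⟨Q, hQ⟩ : ∃ Q : Type _, Q = (Γ.H ⧸ Γ.A.subgroupOf Γ.H) := ⟨_, rfl⟩
  have hcard := Γ.card_quot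
  haveI : Fact (Nat.Prime 3) := ⟨Nat.prime_three⟩
  haveI hcyc : IsCyclic (Γ.H ⧸ Γ.A.subgroupOf Γ.H) := isCyclic_of_prime_card hcard
  letI : CommGroup (Γ.H ⧸ Γ.A.subgroupOf Γ.H) := IsCyclic.commGroup
  haveI : NeZero (Monoid.exponent (Γ.H ⧸ Γ.A.subgroupOf Γ.H)) :=
    ⟨Monoid.exponent_ne_zero_of_finite⟩
  have hnt : ∃ a : Γ.H ⧸ Γ.A.subgroupOf Γ.H, a ≠ 1 := by
    haveI : Nontrivial (Γ.H ⧸ Γ.A.subgroupOf Γ.H) := by
      apply (Finite.one_lt_card_iff_nontrivial).mp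
      rw [hcard]; norm_num
    exact exists_ne 1
  obtain ⟨a, ha⟩ := hnt
  obtain ⟨φ, hφ⟩ := CommGroup.exists_apply_ne_one_of_hasEnoughRootsOfUnity
    (Γ.H ⧸ Γ.A.subgroupOf Γ.H) ℂ ha
  have hker : φ.ker = ⊥ := by
    haveI : Fact (Nat.card (Γ.H ⧸ Γ.A.subgroupOf Γ.H)).Prime := by rw [hcard]; infer_instance
    rcases Subgroup.eq_bot_or_eq_top_of_prime_card φ.ker with h | h
    · exact h
    · exfalso
      apply hφ
      have : a ∈ φ.ker := by rw [h]; exact Subgroup.mem_top a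
      exact (MonoidHom.mem_ker).mp this
  refine ⟨φ.comp (QuotientGroup.mk' (Γ.A.subgroupOf Γ.H)), ?_, ?_⟩
  · intro h
    rw [MonoidHom.comp_apply, ← MonoidHom.mem_ker, hker, Subgroup.mem_bot,
      QuotientGroup.mk'_apply, QuotientGroup.eq_one_iff, Subgroup.mem_subgroupOf]
  · intro h
    rw [MonoidHom.comp_apply, ← map_pow]
    have : (QuotientGroup.mk' (Γ.A.subgroupOf Γ.H) h) ^ 3 = 1 := by
      rw [← hcard]; exact pow_card_eq_one'
    rw [this, map_one]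

/-- elements of even order of `H` lie in `A` -/
theorem even_mem_A {h : G} (hh : h ∈ Γ.H) (he : 2 ∣ orderOf h) : h ∈ Γ.A := by
  obtain ⟨j, hj⟩ := he
  have hpos : 0 < orderOf h := orderOf_pos h
  have hj0 : 0 < j := by
    rcases Nat.eq_zero_or_pos j with h' | h'
    · rw [h'] at hj; omega
    · exact h'
  have ht1 : h ^ j ≠ 1 := by
    intro h'
    have := orderOf_dvd_of_pow_eq_one h'
    have := Nat.le_of_dvd hj0 this
    omega
  have htt : h ^ j * h ^ j = 1 := by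
    rw [← pow_add, ← two_mul, ← hj, pow_orderOf_eq_one]
  have ht : orderOf (h ^ j) = 2 := invol_of_mul_self ht1 htt
  have htV := Γ.invol_mem_V_of_mem_H ht (Γ.H.pow_mem hh j)
  apply Γ.mem_A_of_comm htV ht1
  rw [← pow_succ', ← pow_succ]

include Γ in
theorem not_two_dvd_index_card : ¬ 8 ∣ Nat.card G := by
  intro h
  have h1 := Subgroup.card_mul_index Γ.V
  rw [Γ.hV4] at h1
  have h2 := Γ.hVsyl
  rw [← h1] at h
  apply h2
  have : 4 * 2 ∣ 4 * Γ.V.index := h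
  exact (Nat.mul_dvd_mul_iff_left (by norm_num)).mp this

/-- a nontrivial element of `A` is not inverted by an involution `u` with `y⁻¹ e y ∈ H`, `y ∉ H` -/
theorem not_mem_A_of_inverted {e u y : G} (hu : orderOf u = 2) (he1 : e ≠ 1)
    (hinv : u * e * u⁻¹ = e⁻¹) (hy : y ∉ Γ.H) (heH : e ∈ Γ.H) (hey : y⁻¹ * e * y ∈ Γ.H) :
    e ∉ Γ.A := by
  intro heA
  have huu := invol_mul_self hu
  have huinv := invol_inv hu
  -- u does not centralize e
  have hune : ¬ (u * e = e * u) := by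
    intro hc
    have h1 : e = e⁻¹ := by
      rw [← hinv, hc]; group
    have h2 : e * e = 1 := by
      nth_rewrite 2 [h1]
      exact mul_inv_cancel e
    have h3 : orderOf e = 2 := invol_of_mul_self he1 h2
    exact SE.not_mem_of_conj Γ.isSE y hy e h3 heH hey
  obtain ⟨C, hC⟩ : ∃ C : Subgroup G, C = Subgroup.centralizer ({e} : Set G) := ⟨_, rfl⟩
  have hmemC : ∀ c : G, c ∈ C ↔ e * c = c * e := by
    intro c
    rw [hC, Subgroup.mem_centralizer_singleton_iff]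
    exact eq_comm
  have hVC : Γ.V ≤ C := by
    intro v hv
    rw [hmemC]
    exact Γ.A_comm_V heA hv
  have huC : u ∉ C := by
    intro h
    exact hune ((hmemC u).mp h).symm
  have hnorm : Subgroup.zpowers u ≤ Subgroup.normalizer (C : Set G) := by
    rw [Subgroup.zpowers_le]
    apply Subgroup.mem_normalizer_fintype
    intro c hc
    have hc' : e * c = c * e := (hmemC c).mp hc
    show u * c * u⁻¹ ∈ C
    rw [hmemC]
    have hinv2 : u * e⁻¹ * u⁻¹ = e := by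
      calc u * e⁻¹ * u⁻¹ = (u * e * u⁻¹)⁻¹ := by group
        _ = e := by rw [hinv, inv_inv]
    calc e * (u * c * u⁻¹) = u * ((u⁻¹ * e * u) * c) * u⁻¹ := by group
      _ = u * (e⁻¹ * c) * u⁻¹ := by
          have : u⁻¹ * e * u = e⁻¹ := by
            rw [huinv]
            rw [huinv] at hinv
            exact hinv
          rw [this]
      _ = u * (c * e⁻¹) * u⁻¹ := by
          have : e⁻¹ * c = c * e⁻¹ := by
            have h5 : e⁻¹ * (e * c) * e⁻¹ = c * e⁻¹ := by group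
            have h6 : e⁻¹ * (c * e) * e⁻¹ = e⁻¹ * c := by group
            rw [← h5, ← h6, hc']
          rw [this]
      _ = u * c * u⁻¹ * (u * e⁻¹ * u⁻¹) := by group
      _ = u * c * u⁻¹ * e := by rw [hinv2]
  have hcard := GlaubermanRepl.card_sup_mul_card_inf_of_le_normalizer (Subgroup.zpowers u) C hnorm
  have hinf : (Subgroup.zpowers u ⊓ C : Subgroup G) = ⊥ := by
    rw [Subgroup.eq_bot_iff_forall]
    intro z hz
    obtain ⟨hz1, hz2⟩ := Subgroup.mem_inf.mp hz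
    rw [Subgroup.mem_zpowers_iff] at hz1
    obtain ⟨k, rfl⟩ := hz1
    rcases Int.even_or_odd k with ⟨m, hm⟩ | ⟨m, hm⟩
    · rw [hm, ← two_mul, zpow_mul, zpow_two, huu, one_zpow]
    · exfalso
      apply huC
      rw [hm, zpow_add, zpow_mul, zpow_two, huu, one_zpow, one_mul, zpow_one] at hz2
      exact hz2
  rw [hinf, Subgroup.card_bot, mul_one, Nat.card_zpowers, hu] at hcard
  have h4 : 4 ∣ Nat.card C := by
    rw [← Γ.hV4]
    exact Subgroup.card_dvd_of_le hVC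
  have h8 : 8 ∣ Nat.card (Subgroup.zpowers u ⊔ C : Subgroup G) := by
    rw [hcard]
    obtain ⟨m, hm⟩ := h4
    exact ⟨m, by rw [hm]; ring⟩
  exact Γ.not_two_dvd_index_card (dvd_trans h8 (Subgroup.card_subgroup_dvd_card _))

/-- the involutions of `H` are the nonidentity elements of `V` -/
theorem card_invol_H : Nat.card {t : G // orderOf t = 2 ∧ t ∈ Γ.H} = 3 := by
  have h4 : Nat.card {v : Γ.V // v ≠ 1} = 3 := by
    rw [Cfsg.Agent.Lib.Helper4.card_subtype_ne_one, Γ.hV4]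
  rw [← h4]
  apply Nat.card_congr
  refine
    { toFun := fun t => ⟨⟨t.1, Γ.invol_mem_V_of_mem_H t.2.1 t.2.2⟩, fun h => ?_⟩
      invFun := fun v => ⟨v.1.1, Γ.invol_of_mem_V v.1.2 (fun h => v.2 (Subtype.ext h)),
        Γ.V_le_H v.1.2⟩
      left_inv := fun t => rfl
      right_inv := fun v => rfl }
  have h1 : t.1 = 1 := congrArg Subtype.val h
  have h2 := t.2.1
  rw [h1, orderOf_one] at h2
  norm_num at h2

/-- for `y ∉ H` there is `e ∈ H ∩ yHy⁻¹` not in `A` with `y⁻¹ e y = h₀⁻¹ e⁻¹ h₀`, `h₀ ∈ H` -/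
theorem exists_swap {y : G} (hy : y ∉ Γ.H) :
    ∃ e h₀ : G, e ∈ Γ.H ∧ h₀ ∈ Γ.H ∧ e ∉ Γ.A ∧ y⁻¹ * e * y = h₀⁻¹ * e⁻¹ * h₀ := by
  have hne : ((1 : G) : G ⧸ Γ.H) ≠ ((y : G) : G ⧸ Γ.H) := by
    intro h
    rw [QuotientGroup.eq, inv_one, one_mul] at h
    exact hy h
  have hcard := SE.card_swap Γ.isSE hne
  rw [Γ.card_invol_H] at hcard
  haveI : Nontrivial {i : G // orderOf i = 2 ∧ i • ((1 : G) : G ⧸ Γ.H) = ((y : G) : G ⧸ Γ.H)} := by
    apply (Finite.one_lt_card_iff_nontrivial).mp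
    rw [hcard]; norm_num
  obtain ⟨⟨u, hu, huy⟩, ⟨u', hu', hu'y⟩, hne'⟩ :=
    exists_pair_ne {i : G // orderOf i = 2 ∧ i • ((1 : G) : G ⧸ Γ.H) = ((y : G) : G ⧸ Γ.H)}
  have huu' : u ≠ u' := fun h => hne' (Subtype.ext h)
  have h1 : u⁻¹ * y ∈ Γ.H := by
    have : ((u * 1 : G) : G ⧸ Γ.H) = ((y : G) : G ⧸ Γ.H) := huy
    rw [mul_one, QuotientGroup.eq] at this
    exact this
  have h1' : u'⁻¹ * y ∈ Γ.H := by
    have : ((u' * 1 : G) : G ⧸ Γ.H) = ((y : G) : G ⧸ Γ.H) := hu'y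
    rw [mul_one, QuotientGroup.eq] at this
    exact this
  have huinv := invol_inv hu
  have hu'inv := invol_inv hu'
  have huu := invol_mul_self hu
  have hu'u' := invol_mul_self hu'
  have heH : u * u' ∈ Γ.H := by
    have := Γ.H.mul_mem h1 (Γ.H.inv_mem h1')
    have h2 : u⁻¹ * y * (u'⁻¹ * y)⁻¹ = u * u' := by
      rw [mul_inv_rev, inv_inv, huinv]; group
    rw [h2] at this
    exact this
  have hconj : y⁻¹ * (u * u') * y = (u⁻¹ * y)⁻¹ * (u * u')⁻¹ * (u⁻¹ * y) := by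
    have h3 : (u * u')⁻¹ = u' * u := by rw [mul_inv_rev, huinv, hu'inv]
    rw [h3, huinv]
    calc y⁻¹ * (u * u') * y = y⁻¹ * u * (u' * (u * u)) * y := by rw [huu, mul_one]; group
      _ = (u * y)⁻¹ * (u' * u) * (u * y) := by rw [mul_inv_rev, huinv]; group
  have he1 : u * u' ≠ 1 := by
    intro h
    apply huu'
    have := eq_inv_of_mul_eq_one_left h
    rw [this, hu'inv]
  have hinv : u * (u * u') * u⁻¹ = (u * u')⁻¹ := by
    rw [mul_inv_rev, huinv, hu'inv, ← mul_assoc, huu, one_mul]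
  have hey : y⁻¹ * (u * u') * y ∈ Γ.H := by
    rw [hconj]
    exact Γ.H.mul_mem (Γ.H.mul_mem (Γ.H.inv_mem h1) (Γ.H.inv_mem heH)) h1
  exact ⟨u * u', u⁻¹ * y, heH, h1, Γ.not_mem_A_of_inverted hu he1 hinv hy heH hey, hconj⟩

end Geo

end Cfsg.Agent.Lib.Helper1.V4c
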