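import Mathlib
import Cfsg.Agent.Lib.Helper1.V4c1

set_option autoImplicit false
set_option maxHeartbeats 4000000
set_option maxRecDepth 100000
set_option linter.unusedVariables false
set_option linter.unusedSectionVars false
set_option linter.style.longLine false
set_option linter.unusedSimpArgs false
set_option linter.deprecated false

/-!
# Abstract character core, part 2: shifting by a central involution, coefficients of `Θ`
-/

namespace Cfsg.Agent.Lib.Helper1.V4c

open Cfsg Cfsg.Agent.Lib.Helper6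
open scoped ComplexConjugate

section shift

variable {C : Type*} [Group C] [Fintype C]

/-- shifting a character by a central involution gives a generalized character -/
theorem isGeneralizedCharacter_shift (z : C) (hz : ∀ h : C, z * h = h * z) (hz2 : z * z = 1)
    {χ : C → ℂ} (hχ : IsCharacter C χ) : IsGeneralizedCharacter C (fun a => χ (z * a)) := by
  classical
  have : Fintype (IrrCharacter C) := Fintype.ofFinite _
  obtain ⟨m, hm⟩ := IsCharacter.eq_sum_irr hχ
  have hs : ∀ θ : IrrCharacter C, ∃ e : ℤ, ∀ a : C, (θ : C → ℂ) (z * a) = (e : ℂ) * (θ : C → ℂ) a := by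
    intro θ
    have h1 := IsIrrCharacter.apply_one_ne_zero θ.2
    have h2 := IsIrrCharacter.apply_central_pow θ.2 hz 2
    rw [sq, hz2, div_self h1] at h2
    have h3 : ((θ : C → ℂ) z / (θ : C → ℂ) 1 - 1) * ((θ : C → ℂ) z / (θ : C → ℂ) 1 + 1) = 0 := by
      ring_nf; ring_nf at h2; rw [← h2]; ring
    rcases mul_eq_zero.mp h3 with h4 | h4
    · refine ⟨1, fun a => ?_⟩
      rw [IsIrrCharacter.apply_central_mul θ.2 hz a]
      have h5 : (θ : C → ℂ) z / (θ : C → ℂ) 1 = 1 := sub_eq_zero.mp h4
      have h6 : (θ : C → ℂ) z = (θ : C → ℂ) 1 := by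
        field_simp at h5; exact h5
      rw [h6]; field_simp; push_cast; ring
    · refine ⟨-1, fun a => ?_⟩
      rw [IsIrrCharacter.apply_central_mul θ.2 hz a]
      have h5 : (θ : C → ℂ) z / (θ : C → ℂ) 1 = -1 := eq_neg_of_add_eq_zero_left h4
      have h6 : (θ : C → ℂ) z = -(θ : C → ℂ) 1 := by
        field_simp at h5; linear_combination h5
      rw [h6]; field_simp; push_cast; ring
  choose e he using hs
  have h7 : (fun a => χ (z * a)) = ∑ θ : IrrCharacter C, ((e θ * (m θ : ℤ) : ℤ) : ℂ) • (θ : C → ℂ) := by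
    funext a
    rw [hm]
    simp only [Finset.sum_apply]
    apply Finset.sum_congr rfl
    intro θ _
    rw [Pi.smul_apply, Pi.smul_apply, nsmul_eq_mul, smul_eq_mul, he θ a]
    push_cast
    ring
  rw [h7]
  apply IsGeneralizedCharacter.sum
  intro θ _
  exact IsGeneralizedCharacter.intCast_smul (IsCharacter.isGeneralizedCharacter (IsIrrCharacter.isCharacter θ.2)) _

end shift

variable {G : Type*} [Group G] [Fintype G]

theorem Core.x_mem (c : Core G) : c.x ∈ c.A := by
  rw [c.hA, Subgroup.mem_centralizer_iff]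
  intro h hh
  rw [Set.mem_singleton_iff] at hh
  rw [hh]

/-- the function `ρ ↦ χ (x ρ)` on `K` is a generalized character -/
theorem Core.isGeneralizedCharacter_shiftK (c : Core G) {χ : G → ℂ} (hχ : IsCharacter G χ) :
    IsGeneralizedCharacter c.K (fun ρ : c.K => χ (c.x * ρ)) := by
  have hz : ∀ h : c.A, (⟨c.x, c.x_mem⟩ : c.A) * h = h * ⟨c.x, c.x_mem⟩ := by
    intro h
    apply Subtype.ext
    simp only [Subgroup.coe_mul]
    exact c.comm_of_mem h.2
  have hz2 : (⟨c.x, c.x_mem⟩ : c.A) * ⟨c.x, c.x_mem⟩ = 1 := by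
    apply Subtype.ext
    simp only [Subgroup.coe_mul, Subgroup.coe_one]
    exact c.xx
  have h1 := isGeneralizedCharacter_shift (⟨c.x, c.x_mem⟩ : c.A) hz hz2 (IsCharacter.restrict c.A hχ)
  have h2 := IsGeneralizedCharacter.comp (Subgroup.inclusion c.hKA) h1
  exact h2

/-- the inner product of a generalized character with the trivial character is an integer -/
theorem exists_int_classInner_one {K : Type*} [Group K] [Fintype K] {ψ : K → ℂ}
    (hψ : IsGeneralizedCharacter K ψ) : ∃ z : ℤ, classInner ψ (fun _ => (1 : ℂ)) = z := by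
  classical
  have : Fintype (IrrCharacter K) := Fintype.ofFinite _
  obtain ⟨cf, -, h⟩ := IsGeneralizedCharacter.exists_int_coeff hψ
  exact ⟨cf ⟨fun _ => 1, isIrrCharacter_one⟩, h ⟨fun _ => 1, isIrrCharacter_one⟩⟩

/-- the coefficients of `Θ` are averages over `xK` -/
theorem Core.classInner_theta (c : Core G) (χ : G → ℂ) (hχ : IsClassFunction G χ) :
    classInner (theta G) χ = (c.k : ℂ)⁻¹ * ∑ ρ : c.K, conj (χ (c.x * ρ)) := by
  unfold classInner
  exact c.tsum (fun g => conj (χ g)) (isClassFunction_conj hχ)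

/-- the coefficients of `Θ` are integers -/
theorem Core.exists_int_classInner_theta (c : Core G) {χ : G → ℂ} (hχ : IsCharacter G χ) :
    ∃ z : ℤ, classInner (theta G) χ = z := by
  obtain ⟨z, hz⟩ := exists_int_classInner_one (c.isGeneralizedCharacter_shiftK hχ)
  refine ⟨z, ?_⟩
  rw [c.classInner_theta χ (IsCharacter.isClassFunction hχ)]
  have h1 : classInner (fun ρ : c.K => χ (c.x * ρ)) (fun _ => (1 : ℂ))
      = (c.k : ℂ)⁻¹ * ∑ ρ : c.K, χ (c.x * ρ) := by
    unfold classInner
    rw [c.hk]
    simp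
  rw [h1] at hz
  have h2 := congrArg conj hz
  rw [map_mul, map_inv₀, Complex.conj_natCast, map_sum] at h2
  rw [h2]
  simp

theorem Core.theta_xK (c : Core G) (ρ : c.K) : theta G (c.x * ρ) = 4 := by
  unfold theta
  rw [if_pos (c.hxK ρ ρ.2)]

theorem Core.card_K_cast (c : Core G) : ((Finset.univ : Finset c.K).card : ℂ) = (c.k : ℂ) := by
  rw [Finset.card_univ, ← Nat.card_eq_fintype_card, c.hk]

theorem Core.k_ne_zero (c : Core G) : (c.k : ℂ) ≠ 0 := by
  have := c.kpos
  exact_mod_cast this.ne'

theorem Core.classInner_theta_theta (c : Core G) : classInner (theta G) (theta G) = 4 := by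
  rw [c.classInner_theta _ theta_isClassFunction]
  simp only [theta_conj, c.theta_xK]
  have h4 : (starRingEnd ℂ) (4 : ℂ) = 4 := map_ofNat _ 4
  try rw [h4]
  rw [Finset.sum_const, nsmul_eq_mul, c.card_K_cast]
  field_simp [c.k_ne_zero]

theorem Core.classInner_theta_one (c : Core G) : classInner (theta G) (fun _ => (1 : ℂ)) = 1 := by
  rw [c.classInner_theta _ (IsCharacter.isClassFunction isCharacter_one)]
  simp only [map_one]
  rw [Finset.sum_const, nsmul_eq_mul, c.card_K_cast]
  field_simp [c.k_ne_zero]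

theorem Core.classInner_theta_Xi (c : Core G) : classInner (theta G) c.Ξ = 1 := by
  rw [c.classInner_theta _ (IsIrrCharacter.isClassFunction c.hΞ)]
  have : ∀ ρ : c.K, conj (c.Ξ (c.x * ρ)) = 1 := by
    intro ρ
    rw [c.hΞe _ (c.hxK ρ ρ.2), map_one]
  simp only [this]
  rw [Finset.sum_const, nsmul_eq_mul, c.card_K_cast]
  field_simp [c.k_ne_zero]

end Cfsg.Agent.Lib.Helper1.V4c
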