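import Mathlib
import Cfsg.Agent.Lib.Helper1.V4c2

set_option autoImplicit false
set_option maxHeartbeats 4000000
set_option maxRecDepth 100000
set_option linter.unusedVariables false
set_option linter.unusedSectionVars false
set_option linter.style.longLine false
set_option linter.unusedSimpArgs false
set_option linter.deprecated false

/-!
# Abstract character core, part 3: the decomposition `Θ = 1 + Ξ + ε₁χ₁ + ε₂χ₂` and the three
equations
-/

namespace Cfsg.Agent.Lib.Helper1.V4c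

open Cfsg Cfsg.Agent.Lib.Helper6
open scoped ComplexConjugate

variable {G : Type*} [Group G] [Fintype G]

/-- the decomposition of `Θ` -/
structure Decomp (c : Core G) where
  χ₁ : IrrCharacter G
  χ₂ : IrrCharacter G
  ε₁ : ℤ
  ε₂ : ℤ
  hne : χ₁ ≠ χ₂
  h1one : (χ₁ : G → ℂ) ≠ fun _ => 1
  h2one : (χ₂ : G → ℂ) ≠ fun _ => 1
  h1Xi : (χ₁ : G → ℂ) ≠ c.Ξ
  h2Xi : (χ₂ : G → ℂ) ≠ c.Ξ
  hε₁ : ε₁ = 1 ∨ ε₁ = -1
  hε₂ : ε₂ = 1 ∨ ε₂ = -1
  hc₁ : classInner (theta G) (χ₁ : G → ℂ) = ε₁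
  hc₂ : classInner (theta G) (χ₂ : G → ℂ) = ε₂
  hzero : ∀ β : IrrCharacter G, β ≠ χ₁ → β ≠ χ₂ → (β : G → ℂ) ≠ (fun _ => 1) → (β : G → ℂ) ≠ c.Ξ →
    classInner (theta G) (β : G → ℂ) = 0
  hsum : theta G = (fun _ => (1 : ℂ)) + c.Ξ + (ε₁ : ℂ) • (χ₁ : G → ℂ) + (ε₂ : ℂ) • (χ₂ : G → ℂ)

theorem Core.Xi_ne_one (c : Core G) : c.Ξ ≠ fun _ => 1 := by
  intro h
  have h1 := c.hΞ1
  rw [h] at h1
  have h1' : (1 : ℂ) = (c.n : ℂ) := h1
  have h2 : (1 : ℕ) = c.n := by exact_mod_cast h1'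
  have := c.hn
  omega

theorem Core.exists_decomp (c : Core G) : Nonempty (Decomp c) := by
  classical
  have : Fintype (IrrCharacter G) := Fintype.ofFinite _
  have hint : ∀ β : IrrCharacter G, ∃ z : ℤ, classInner (theta G) (β : G → ℂ) = z :=
    fun β => c.exists_int_classInner_theta (IsIrrCharacter.isCharacter β.2)
  choose cf hcf using hint
  have hΘ : theta G = ∑ β : IrrCharacter G, (cf β : ℂ) • (β : G → ℂ) := by
    have h := classFunction_eq_sum (theta G) theta_isClassFunction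
    conv_lhs => rw [h]
    apply Finset.sum_congr rfl
    intro β _
    rw [hcf β]
  have hnorm : ∑ β : IrrCharacter G, cf β * cf β = 4 := by
    have h1 := classInner_sum_int cf cf
    rw [← hΘ, c.classInner_theta_theta] at h1
    exact_mod_cast h1.symm
  obtain ⟨β₀, hβ₀⟩ : ∃ β₀ : IrrCharacter G, β₀ = ⟨fun _ => 1, isIrrCharacter_one⟩ := ⟨_, rfl⟩
  obtain ⟨βΞ, hβΞ⟩ : ∃ βΞ : IrrCharacter G, βΞ = ⟨c.Ξ, c.hΞ⟩ := ⟨_, rfl⟩
  have hβ₀c : (β₀ : G → ℂ) = fun _ => 1 := by rw [hβ₀]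
  have hβΞc : (βΞ : G → ℂ) = c.Ξ := by rw [hβΞ]
  have h0Ξ : β₀ ≠ βΞ := by
    intro h
    have h1 : (β₀ : G → ℂ) = (βΞ : G → ℂ) := by rw [h]
    rw [hβ₀c, hβΞc] at h1
    exact c.Xi_ne_one h1.symm
  have hcf0 : cf β₀ = 1 := by
    have h1 := hcf β₀
    rw [hβ₀c, c.classInner_theta_one] at h1
    exact_mod_cast h1.symm
  have hcfΞ : cf βΞ = 1 := by
    have h1 := hcf βΞ
    rw [hβΞc, c.classInner_theta_Xi] at h1
    exact_mod_cast h1.symm
  obtain ⟨c', hc'⟩ : ∃ c' : IrrCharacter G → ℤ,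
      c' = fun β => if β = β₀ ∨ β = βΞ then 0 else cf β := ⟨_, rfl⟩
  have hpt : ∀ β : IrrCharacter G, cf β * cf β
      = c' β * c' β + (if β = β₀ then 1 else 0) + (if β = βΞ then 1 else 0) := by
    intro β
    rw [hc']
    simp only
    by_cases h1 : β = β₀
    · rw [if_pos (Or.inl h1), if_pos h1, if_neg (by rw [h1]; exact h0Ξ), h1, hcf0]; ring
    · by_cases h2 : β = βΞ
      · rw [if_pos (Or.inr h2), if_neg h1, if_pos h2, h2, hcfΞ]; ring
      · rw [if_neg (by tauto), if_neg h1, if_neg h2]; ring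
  have hsum2 : ∑ β : IrrCharacter G, c' β * c' β = 2 := by
    have h1 : ∑ β : IrrCharacter G, cf β * cf β
        = ∑ β : IrrCharacter G, c' β * c' β + 1 + 1 := by
      rw [Finset.sum_congr rfl (fun β _ => hpt β), Finset.sum_add_distrib, Finset.sum_add_distrib,
        Finset.sum_ite_eq', Finset.sum_ite_eq', if_pos (Finset.mem_univ _),
        if_pos (Finset.mem_univ _)]
    omega
  obtain ⟨i, j, hij, hi, hj, hrest⟩ := exists_pair_of_sum_sq_eq_two c' hsum2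
  have hc'ne : ∀ β : IrrCharacter G, c' β ≠ 0 → β ≠ β₀ ∧ β ≠ βΞ ∧ c' β = cf β := by
    intro β hβ
    rw [hc'] at hβ ⊢
    simp only at hβ ⊢
    by_cases h : β = β₀ ∨ β = βΞ
    · rw [if_pos h] at hβ; exact absurd rfl hβ
    · rw [if_neg h]; push_neg at h; exact ⟨h.1, h.2, rfl⟩
  have hi0 : c' i ≠ 0 := by rcases hi with h | h <;> rw [h] <;> norm_num
  have hj0 : c' j ≠ 0 := by rcases hj with h | h <;> rw [h] <;> norm_num
  obtain ⟨hi1, hi2, hi3⟩ := hc'ne i hi0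
  obtain ⟨hj1, hj2, hj3⟩ := hc'ne j hj0
  have hzero : ∀ β : IrrCharacter G, β ≠ i → β ≠ j → β ≠ β₀ → β ≠ βΞ → cf β = 0 := by
    intro β h1 h2 h3 h4
    have h5 := hrest β h1 h2
    rw [hc'] at h5
    simp only at h5
    rw [if_neg (by tauto)] at h5
    exact h5
  have hne_of : ∀ β : IrrCharacter G, ∀ f : G → ℂ, ∀ hf : IsIrrCharacter G f,
      (β : G → ℂ) ≠ f → β ≠ ⟨f, hf⟩ := by
    intro β f hf h h'
    apply h
    rw [h']
  have hcoe_ne : ∀ β γ : IrrCharacter G, β ≠ γ → (β : G → ℂ) ≠ (γ : G → ℂ) := by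
    intro β γ h h'
    exact h (Subtype.ext h')
  refine ⟨⟨i, j, cf i, cf j, hij, ?_, ?_, ?_, ?_, by rw [← hi3]; exact hi, by rw [← hj3]; exact hj,
    hcf i, hcf j, ?_, ?_⟩⟩
  · rw [← hβ₀c]; exact hcoe_ne _ _ hi1
  · rw [← hβ₀c]; exact hcoe_ne _ _ hj1
  · rw [← hβΞc]; exact hcoe_ne _ _ hi2
  · rw [← hβΞc]; exact hcoe_ne _ _ hj2
  · intro β h1 h2 h3 h4
    rw [hcf β]
    have : cf β = 0 := by
      apply hzero β h1 h2
      · intro h; apply h3; rw [h, hβ₀c]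
      · intro h; apply h4; rw [h, hβΞc]
    rw [this]; simp
  · have hpt2 : ∀ β : IrrCharacter G, (cf β : ℂ) • (β : G → ℂ)
        = (if β = β₀ then ((fun _ => (1 : ℂ)) : G → ℂ) else 0) + (if β = βΞ then c.Ξ else 0)
          + (if β = i then (cf i : ℂ) • (i : G → ℂ) else 0)
          + (if β = j then (cf j : ℂ) • (j : G → ℂ) else 0) := by
      intro β
      by_cases h1 : β = β₀
      · rw [if_pos h1, if_neg (by rw [h1]; exact h0Ξ), if_neg (by rw [h1]; exact hi1.symm),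
          if_neg (by rw [h1]; exact hj1.symm), h1, hcf0, hβ₀c]
        simp
      · by_cases h2 : β = βΞ
        · rw [if_neg h1, if_pos h2, if_neg (by rw [h2]; exact hi2.symm),
            if_neg (by rw [h2]; exact hj2.symm), h2, hcfΞ, hβΞc]
          simp
        · by_cases h3 : β = i
          · rw [if_neg h1, if_neg h2, if_pos h3, if_neg (by rw [h3]; exact hij), h3]
            simp
          · by_cases h4 : β = j
            · rw [if_neg h1, if_neg h2, if_neg h3, if_pos h4, h4]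
              simp
            · rw [if_neg h1, if_neg h2, if_neg h3, if_neg h4, hzero β h3 h4 h1 h2]
              simp
    rw [hΘ, Finset.sum_congr rfl (fun β _ => hpt2 β), Finset.sum_add_distrib,
      Finset.sum_add_distrib, Finset.sum_add_distrib, Finset.sum_ite_eq', Finset.sum_ite_eq',
      Finset.sum_ite_eq', Finset.sum_ite_eq', if_pos (Finset.mem_univ _),
      if_pos (Finset.mem_univ _), if_pos (Finset.mem_univ _), if_pos (Finset.mem_univ _)]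

variable {c : Core G}

theorem Decomp.apply (d : Decomp c) (g : G) :
    theta G g = 1 + c.Ξ g + (d.ε₁ : ℂ) * (d.χ₁ : G → ℂ) g + (d.ε₂ : ℂ) * (d.χ₂ : G → ℂ) g := by
  have h := congrFun d.hsum g
  simpa using h

/-- (E1) -/
theorem Decomp.eq_one (d : Decomp c) :
    (0 : ℂ) = 1 + c.n + (d.ε₁ : ℂ) * (d.χ₁ : G → ℂ) 1 + (d.ε₂ : ℂ) * (d.χ₂ : G → ℂ) 1 := by
  have h := d.apply 1
  rw [c.hΞ1] at h
  rw [← h]
  unfold theta
  rw [if_neg]
  rw [orderOf_one]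
  norm_num

/-- (E2) -/
theorem Decomp.eq_x (d : Decomp c) :
    (2 : ℂ) = (d.ε₁ : ℂ) * (d.χ₁ : G → ℂ) c.x + (d.ε₂ : ℂ) * (d.χ₂ : G → ℂ) c.x := by
  have h := d.apply c.x
  have hx2 : 2 ∣ orderOf c.x := by rw [c.hx]
  rw [c.hΞe _ hx2] at h
  have h2 : theta G c.x = 4 := by
    unfold theta
    rw [if_pos hx2]
  rw [h2] at h
  linear_combination h

theorem sum_sum_irr (c : Core G) {χ : G → ℂ} (hχ : IsIrrCharacter G χ) :
    ∑ q : G, ∑ p : G, χ (p * c.x * p⁻¹ * (q * c.x * q⁻¹))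
      = (Nat.card G : ℂ) * (Nat.card G : ℂ) * (χ c.x * χ c.x / χ 1) := by
  have h1 : ∀ q : G, ∑ p : G, χ (p * c.x * p⁻¹ * (q * c.x * q⁻¹))
      = (Nat.card G : ℂ) * χ c.x * χ c.x / χ 1 := by
    intro q
    rw [IsIrrCharacter.sum_conj_mul hχ, IsIrrCharacter.isClassFunction hχ c.x q]
  rw [Finset.sum_congr rfl (fun q _ => h1 q), Finset.sum_const, nsmul_eq_mul, Finset.card_univ,
    ← Nat.card_eq_fintype_card]
  ring

theorem sum_sum_theta (c : Core G) :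
    ∑ q : G, ∑ p : G, theta G (p * c.x * p⁻¹ * (q * c.x * q⁻¹))
      = (Nat.card G : ℂ) * (32 * c.k) := by
  classical
  have h1 : ∀ q : G, ∑ p : G, theta G (p * c.x * p⁻¹ * (q * c.x * q⁻¹)) = 32 * c.k := by
    intro q
    unfold theta
    rw [← Finset.sum_filter, Finset.sum_const, nsmul_eq_mul]
    have h2 : (Finset.univ.filter (fun p : G => 2 ∣ orderOf (p * c.x * p⁻¹ * (q * c.x * q⁻¹)))).card
        = 8 * c.k := by
      rw [← c.hpairs q, Nat.card_eq_fintype_card, Fintype.card_subtype]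
    rw [h2]
    push_cast
    ring
  rw [Finset.sum_congr rfl (fun q _ => h1 q), Finset.sum_const, nsmul_eq_mul, Finset.card_univ,
    ← Nat.card_eq_fintype_card]

/-- (E3) -/
theorem Decomp.eq_class (d : Decomp c) :
    (8 : ℂ) = 3 * c.n * (1 + 1 / c.n
      + (d.ε₁ : ℂ) * ((d.χ₁ : G → ℂ) c.x * (d.χ₁ : G → ℂ) c.x / (d.χ₁ : G → ℂ) 1)
      + (d.ε₂ : ℂ) * ((d.χ₂ : G → ℂ) c.x * (d.χ₂ : G → ℂ) c.x / (d.χ₂ : G → ℂ) 1)) := by
  have h1 := sum_sum_theta c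
  have hpt : ∀ q p : G, theta G (p * c.x * p⁻¹ * (q * c.x * q⁻¹))
      = 1 + c.Ξ (p * c.x * p⁻¹ * (q * c.x * q⁻¹))
        + (d.ε₁ : ℂ) * (d.χ₁ : G → ℂ) (p * c.x * p⁻¹ * (q * c.x * q⁻¹))
        + (d.ε₂ : ℂ) * (d.χ₂ : G → ℂ) (p * c.x * p⁻¹ * (q * c.x * q⁻¹)) := fun q p => d.apply _
  have h2 : ∑ q : G, ∑ p : G, theta G (p * c.x * p⁻¹ * (q * c.x * q⁻¹))
      = ∑ q : G, ∑ p : G, (1 : ℂ) + ∑ q : G, ∑ p : G, c.Ξ (p * c.x * p⁻¹ * (q * c.x * q⁻¹))
        + (d.ε₁ : ℂ) * ∑ q : G, ∑ p : G, (d.χ₁ : G → ℂ) (p * c.x * p⁻¹ * (q * c.x * q⁻¹))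
        + (d.ε₂ : ℂ) * ∑ q : G, ∑ p : G, (d.χ₂ : G → ℂ) (p * c.x * p⁻¹ * (q * c.x * q⁻¹)) := by
    simp only [hpt, Finset.sum_add_distrib, Finset.mul_sum]
  rw [h1, sum_sum_irr c c.hΞ, sum_sum_irr c d.χ₁.2, sum_sum_irr c d.χ₂.2] at h2
  have hx2 : 2 ∣ orderOf c.x := by rw [c.hx]
  rw [c.hΞe _ hx2, c.hΞ1] at h2
  simp only [Finset.sum_const, nsmul_eq_mul, Finset.card_univ, ← Nat.card_eq_fintype_card,
    mul_one] at h2
  have hG := c.hG
  have hGc : (Nat.card G : ℂ) = 12 * c.k * c.n := by rw [hG]; push_cast; ring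
  rw [hGc] at h2
  have hk0 := c.k_ne_zero
  have hn0 : (c.n : ℂ) ≠ 0 := by
    have := c.hn
    have h3 : c.n ≠ 0 := by omega
    exact_mod_cast h3
  have h3 : (12 * (c.k : ℂ) * c.n) * (32 * c.k)
      = (12 * (c.k : ℂ) * c.n) * (4 * c.k) * (3 * c.n * (1 + 1 / c.n
      + (d.ε₁ : ℂ) * ((d.χ₁ : G → ℂ) c.x * (d.χ₁ : G → ℂ) c.x / (d.χ₁ : G → ℂ) 1)
      + (d.ε₂ : ℂ) * ((d.χ₂ : G → ℂ) c.x * (d.χ₂ : G → ℂ) c.x / (d.χ₂ : G → ℂ) 1))) := by
    rw [h2]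
    field_simp
    ring
  have h4 : (12 * (c.k : ℂ) * c.n) * (4 * c.k) ≠ 0 := by
    apply mul_ne_zero
    · apply mul_ne_zero
      · apply mul_ne_zero
        · norm_num
        · exact hk0
      · exact hn0
    · apply mul_ne_zero
      · norm_num
      · exact hk0
  apply mul_left_cancel₀ h4
  rw [← h3]
  ring

end Cfsg.Agent.Lib.Helper1.V4c
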