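import Mathlib
import Cfsg.Agent.Lib.Helper1.V4c3

set_option autoImplicit false
set_option maxHeartbeats 4000000
set_option maxRecDepth 100000
set_option linter.unusedVariables false
set_option linter.unusedSectionVars false
set_option linter.style.longLine false
set_option linter.unusedSimpArgs false
set_option linter.deprecated false

/-!
# Abstract character core, part 4: the key step (values of `χ₁, χ₂` on `xK`)
-/

namespace Cfsg.Agent.Lib.Helper1.V4c

open Cfsg Cfsg.Agent.Lib.Helper6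
open scoped ComplexConjugate

variable {G : Type*} [Group G] [Fintype G]

theorem isClassFunction_mul' {f g : G → ℂ} (hf : IsClassFunction G f) (hg : IsClassFunction G g) :
    IsClassFunction G (fun a => f a * g a) := by
  intro a h
  simp only
  rw [hf a h, hg a h]

theorem theta_mul_theta (g : G) : theta G g * theta G g = 4 * theta G g := by
  unfold theta
  split_ifs <;> norm_num

theorem Core.classInner_theta_mul (c : Core G) (f χ : G → ℂ) (hf : IsClassFunction G f)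
    (hχ : IsClassFunction G χ) :
    classInner (theta G * f) χ = (c.k : ℂ)⁻¹ * ∑ ρ : c.K, f (c.x * ρ) * conj (χ (c.x * ρ)) := by
  unfold classInner
  rw [← c.tsum (fun g => f g * conj (χ g)) (isClassFunction_mul' hf (isClassFunction_conj hχ))]
  congr 1
  apply Finset.sum_congr rfl
  intro g _
  rw [Pi.mul_apply]
  ring

theorem Core.classInner_theta_mul_self (c : Core G) (f f' : G → ℂ) (hf : IsClassFunction G f)
    (hf' : IsClassFunction G f') :
    classInner (theta G * f) (theta G * f')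
      = 4 * ((c.k : ℂ)⁻¹ * ∑ ρ : c.K, f (c.x * ρ) * conj (f' (c.x * ρ))) := by
  unfold classInner
  rw [← c.tsum (fun g => f g * conj (f' g)) (isClassFunction_mul' hf (isClassFunction_conj hf'))]
  rw [← mul_assoc, mul_comm (4 : ℂ), mul_assoc]
  congr 1
  rw [Finset.mul_sum]
  apply Finset.sum_congr rfl
  intro g _
  rw [Pi.mul_apply, Pi.mul_apply, map_mul, theta_conj]
  have := theta_mul_theta g
  linear_combination (f g * conj (f' g)) * this

theorem eps_sq {ε : ℤ} (h : ε = 1 ∨ ε = -1) : (ε : ℂ) * (ε : ℂ) = 1 := by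
  rcases h with h | h <;> rw [h] <;> push_cast <;> ring

theorem eps_conj (ε : ℤ) : conj (ε : ℂ) = (ε : ℂ) := by simp

/-- integer vectors with square sum one -/
theorem exists_of_sum_sq_eq_one {ι : Type*} [Fintype ι] [DecidableEq ι] (cf : ι → ℤ)
    (h : ∑ i, cf i * cf i = 1) : ∃ i : ι, (cf i = 1 ∨ cf i = -1) ∧ ∀ j, j ≠ i → cf j = 0 := by
  have hex : ∃ i, cf i ≠ 0 := by
    by_contra hcon
    push_neg at hcon
    simp [hcon] at h
  obtain ⟨i, hi⟩ := hex
  have hsplit : ∑ j, cf j * cf j = cf i * cf i + ∑ j ∈ Finset.univ.erase i, cf j * cf j :=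
    (Finset.add_sum_erase Finset.univ (fun j => cf j * cf j) (Finset.mem_univ i)).symm
  have hnn : 0 ≤ ∑ j ∈ Finset.univ.erase i, cf j * cf j :=
    Finset.sum_nonneg (fun j _ => mul_self_nonneg _)
  have hi1 : 1 ≤ cf i * cf i := by
    have : 0 < cf i * cf i := mul_self_pos.mpr hi
    omega
  have hi2 : cf i * cf i = 1 := by omega
  have hrest : ∑ j ∈ Finset.univ.erase i, cf j * cf j = 0 := by omega
  refine ⟨i, ?_, ?_⟩
  · have h3 : (cf i - 1) * (cf i + 1) = 0 := by ring_nf; ring_nf at hi2; omega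
    rcases mul_eq_zero.mp h3 with h4 | h4
    · left; omega
    · right; omega
  · intro j hj
    have h5 := (Finset.sum_eq_zero_iff_of_nonneg (fun j _ => mul_self_nonneg (cf j))).mp hrest j
      (Finset.mem_erase.mpr ⟨hj, Finset.mem_univ j⟩)
    exact mul_self_eq_zero.mp h5

variable {c : Core G}

/-- `η(ρ) = ε₁ χ₁(xρ) - 1` -/
noncomputable def Decomp.eta (d : Decomp c) : c.K → ℂ :=
  fun ρ => (d.ε₁ : ℂ) * (d.χ₁ : G → ℂ) (c.x * ρ) - 1

theorem Decomp.chi1_xK (d : Decomp c) (ρ : c.K) :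
    (d.χ₁ : G → ℂ) (c.x * ρ) = (d.ε₁ : ℂ) * (d.eta ρ + 1) := by
  unfold Decomp.eta
  have := eps_sq d.hε₁
  linear_combination (-(d.χ₁ : G → ℂ) (c.x * ρ)) * this

theorem Decomp.chi2_xK (d : Decomp c) (ρ : c.K) :
    (d.χ₂ : G → ℂ) (c.x * ρ) = (d.ε₂ : ℂ) * (1 - d.eta ρ) := by
  have h := d.apply (c.x * ρ)
  rw [c.theta_xK ρ, c.hΞe _ (c.hxK ρ ρ.2)] at h
  unfold Decomp.eta
  have := eps_sq d.hε₂
  linear_combination (-(d.χ₂ : G → ℂ) (c.x * ρ)) * this - (d.ε₂ : ℂ) * h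

theorem Decomp.isGeneralizedCharacter_eta (d : Decomp c) : IsGeneralizedCharacter c.K d.eta := by
  have h1 := c.isGeneralizedCharacter_shiftK (IsIrrCharacter.isCharacter d.χ₁.2)
  have h2 := IsGeneralizedCharacter.sub (IsGeneralizedCharacter.intCast_smul h1 d.ε₁)
    (IsCharacter.isGeneralizedCharacter (isCharacter_one (G := c.K)))
  have h3 : d.eta = (d.ε₁ : ℂ) • (fun ρ : c.K => (d.χ₁ : G → ℂ) (c.x * ρ)) - fun _ => (1 : ℂ) := by
    funext ρ
    unfold Decomp.eta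
    simp
  rw [h3]
  exact h2

/-- the sum of `η` vanishes -/
theorem Decomp.sum_eta (d : Decomp c) : ∑ ρ : c.K, d.eta ρ = 0 := by
  have h1 := d.hc₁
  rw [c.classInner_theta _ (IsIrrCharacter.isClassFunction d.χ₁.2)] at h1
  have h2 := congrArg conj h1
  rw [map_mul, map_inv₀, Complex.conj_natCast, map_sum, eps_conj] at h2
  simp only [Complex.conj_conj] at h2
  have hk0 := c.k_ne_zero
  have h3 : ∑ ρ : c.K, (d.χ₁ : G → ℂ) (c.x * ρ) = (c.k : ℂ) * d.ε₁ := by
    field_simp at h2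
    linear_combination h2
  unfold Decomp.eta
  rw [Finset.sum_sub_distrib, ← Finset.mul_sum, h3, Finset.sum_const, nsmul_eq_mul, c.card_K_cast]
  have := eps_sq d.hε₁
  linear_combination (c.k : ℂ) * this

/-- `N = (1/k) Σ η conj η` -/
noncomputable def Decomp.N (d : Decomp c) : ℂ :=
  (c.k : ℂ)⁻¹ * ∑ ρ : c.K, d.eta ρ * conj (d.eta ρ)

theorem Decomp.classInner_eta (d : Decomp c) : classInner d.eta d.eta = d.N := by
  unfold classInner Decomp.N
  rw [c.hk]

theorem Decomp.classInner_eta_one (d : Decomp c) : classInner d.eta (fun _ => (1 : ℂ)) = 0 := by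
  unfold classInner
  simp only [map_one, mul_one]
  rw [d.sum_eta, mul_zero]

/-- the generalized character `Λ = Θ (ε₁χ₁ - 1)` -/
noncomputable def Decomp.Lam (d : Decomp c) : G → ℂ :=
  theta G * fun g => (d.ε₁ : ℂ) * (d.χ₁ : G → ℂ) g - 1

theorem Decomp.isClassFunction_aux (d : Decomp c) :
    IsClassFunction G (fun g => (d.ε₁ : ℂ) * (d.χ₁ : G → ℂ) g - 1) := by
  intro g h
  simp only
  rw [IsIrrCharacter.isClassFunction d.χ₁.2 g h]

theorem Decomp.classInner_Lam_Lam (d : Decomp c) : classInner d.Lam d.Lam = 4 * d.N := by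
  unfold Decomp.Lam
  rw [c.classInner_theta_mul_self _ _ d.isClassFunction_aux d.isClassFunction_aux]
  rfl

theorem Decomp.classInner_Lam_chi1 (d : Decomp c) :
    classInner d.Lam (d.χ₁ : G → ℂ) = (d.ε₁ : ℂ) * d.N := by
  unfold Decomp.Lam
  rw [c.classInner_theta_mul _ _ d.isClassFunction_aux (IsIrrCharacter.isClassFunction d.χ₁.2)]
  have h1 : ∀ ρ : c.K, ((d.ε₁ : ℂ) * (d.χ₁ : G → ℂ) (c.x * ρ) - 1) * conj ((d.χ₁ : G → ℂ) (c.x * ρ))
      = (d.ε₁ : ℂ) * (d.eta ρ * conj (d.eta ρ)) + (d.ε₁ : ℂ) * d.eta ρ := by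
    intro ρ
    rw [d.chi1_xK ρ, map_mul, eps_conj, map_add, map_one]
    have := eps_sq d.hε₁
    linear_combination ((d.ε₁ : ℂ) * (d.eta ρ + 1) * (conj (d.eta ρ) + 1)) * this
  rw [Finset.sum_congr rfl (fun ρ _ => h1 ρ), Finset.sum_add_distrib, ← Finset.mul_sum,
    ← Finset.mul_sum, d.sum_eta]
  unfold Decomp.N
  ring

theorem Decomp.classInner_Lam_chi2 (d : Decomp c) :
    classInner d.Lam (d.χ₂ : G → ℂ) = -((d.ε₂ : ℂ) * d.N) := by
  unfold Decomp.Lam
  rw [c.classInner_theta_mul _ _ d.isClassFunction_aux (IsIrrCharacter.isClassFunction d.χ₂.2)]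
  have h1 : ∀ ρ : c.K, ((d.ε₁ : ℂ) * (d.χ₁ : G → ℂ) (c.x * ρ) - 1) * conj ((d.χ₂ : G → ℂ) (c.x * ρ))
      = -((d.ε₂ : ℂ) * (d.eta ρ * conj (d.eta ρ))) + (d.ε₂ : ℂ) * d.eta ρ := by
    intro ρ
    rw [d.chi2_xK ρ, map_mul, eps_conj, map_sub, map_one]
    have h2 : (d.ε₁ : ℂ) * (d.χ₁ : G → ℂ) (c.x * ρ) - 1 = d.eta ρ := rfl
    rw [h2]
    ring
  rw [Finset.sum_congr rfl (fun ρ _ => h1 ρ), Finset.sum_add_distrib, ← Finset.mul_sum,
    Finset.sum_neg_distrib, ← Finset.mul_sum, d.sum_eta]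
  unfold Decomp.N
  ring

theorem isGeneralizedCharacter_theta (d : Decomp c) : IsGeneralizedCharacter G (theta G) := by
  rw [d.hsum]
  apply IsGeneralizedCharacter.add
  · apply IsGeneralizedCharacter.add
    · apply IsGeneralizedCharacter.add
      · exact IsCharacter.isGeneralizedCharacter isCharacter_one
      · exact IsCharacter.isGeneralizedCharacter (IsIrrCharacter.isCharacter c.hΞ)
    · exact IsGeneralizedCharacter.intCast_smul
        (IsCharacter.isGeneralizedCharacter (IsIrrCharacter.isCharacter d.χ₁.2)) _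
  · exact IsGeneralizedCharacter.intCast_smul
      (IsCharacter.isGeneralizedCharacter (IsIrrCharacter.isCharacter d.χ₂.2)) _

theorem Decomp.isGeneralizedCharacter_Lam (d : Decomp c) : IsGeneralizedCharacter G d.Lam := by
  unfold Decomp.Lam
  apply IsGeneralizedCharacter.mul (isGeneralizedCharacter_theta d)
  have h1 := IsGeneralizedCharacter.sub (IsGeneralizedCharacter.intCast_smul
    (IsCharacter.isGeneralizedCharacter (IsIrrCharacter.isCharacter d.χ₁.2)) d.ε₁)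
    (IsCharacter.isGeneralizedCharacter (isCharacter_one (G := G)))
  have h2 : (fun g => (d.ε₁ : ℂ) * (d.χ₁ : G → ℂ) g - 1)
      = (d.ε₁ : ℂ) • (d.χ₁ : G → ℂ) - fun _ => (1 : ℂ) := by
    funext g
    simp
  rw [h2]
  exact h1

/-- the trichotomy `N ∈ {0, 1, 2}` with the structure of `Λ` when `N = 2` -/
theorem Decomp.N_cases (d : Decomp c) :
    d.N = 0 ∨ d.N = 1 ∨
      (d.N = 2 ∧ d.Lam = (2 * (d.ε₁ : ℂ)) • (d.χ₁ : G → ℂ) - (2 * (d.ε₂ : ℂ)) • (d.χ₂ : G → ℂ)) := by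
  classical
  have : Fintype (IrrCharacter G) := Fintype.ofFinite _
  obtain ⟨dl, hdl, hdli⟩ := IsGeneralizedCharacter.exists_int_coeff d.isGeneralizedCharacter_Lam
  have h1 := hdli d.χ₁
  have h2 := hdli d.χ₂
  rw [d.classInner_Lam_chi1] at h1
  rw [d.classInner_Lam_chi2] at h2
  have hnorm : (4 : ℂ) * d.N = ((∑ β, dl β * dl β : ℤ) : ℂ) := by
    rw [← d.classInner_Lam_Lam]
    conv_lhs => rw [hdl]
    exact classInner_sum_int dl dl
  -- N is an integer
  have hN : d.N = ((d.ε₁ * dl d.χ₁ : ℤ) : ℂ) := by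
    push_cast
    rw [← h1]
    have := eps_sq d.hε₁
    linear_combination (-d.N) * this
  obtain ⟨Nz, hNz⟩ : ∃ Nz : ℤ, Nz = d.ε₁ * dl d.χ₁ := ⟨_, rfl⟩
  rw [← hNz] at hN
  have hd1 : dl d.χ₁ = d.ε₁ * Nz := by
    have : ((dl d.χ₁ : ℤ) : ℂ) = ((d.ε₁ * Nz : ℤ) : ℂ) := by
      push_cast; rw [← h1, hN]
    exact_mod_cast this
  have hd2 : dl d.χ₂ = -(d.ε₂ * Nz) := by
    have : ((dl d.χ₂ : ℤ) : ℂ) = ((-(d.ε₂ * Nz) : ℤ) : ℂ) := by
      push_cast; rw [← h2, hN]
    exact_mod_cast this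
  have hnormz : 4 * Nz = ∑ β, dl β * dl β := by
    have : ((4 * Nz : ℤ) : ℂ) = ((∑ β, dl β * dl β : ℤ) : ℂ) := by
      rw [← hnorm, hN]; push_cast; ring
    exact_mod_cast this
  have hsplit : ∑ β, dl β * dl β
      = dl d.χ₁ * dl d.χ₁ + (dl d.χ₂ * dl d.χ₂
        + ∑ β ∈ (Finset.univ.erase d.χ₁).erase d.χ₂, dl β * dl β) := by
    rw [← Finset.add_sum_erase Finset.univ (fun β => dl β * dl β) (Finset.mem_univ d.χ₁)]
    congr 1
    exact (Finset.add_sum_erase (Finset.univ.erase d.χ₁) (fun β => dl β * dl β)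
      (Finset.mem_erase.mpr ⟨d.hne.symm, Finset.mem_univ _⟩)).symm
  have hnn : 0 ≤ ∑ β ∈ (Finset.univ.erase d.χ₁).erase d.χ₂, dl β * dl β :=
    Finset.sum_nonneg (fun j _ => mul_self_nonneg _)
  have he1 : d.ε₁ * d.ε₁ = 1 := by rcases d.hε₁ with h | h <;> rw [h] <;> norm_num
  have he2 : d.ε₂ * d.ε₂ = 1 := by rcases d.hε₂ with h | h <;> rw [h] <;> norm_num
  have hsq1 : dl d.χ₁ * dl d.χ₁ = Nz * Nz := by
    rw [hd1]; linear_combination (Nz * Nz) * he1
  have hsq2 : dl d.χ₂ * dl d.χ₂ = Nz * Nz := by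
    rw [hd2]; linear_combination (Nz * Nz) * he2
  rw [hsq1, hsq2] at hsplit
  have hineq : 2 * (Nz * Nz) ≤ 4 * Nz := by omega
  have hN0 : 0 ≤ Nz := by
    by_contra hcon
    push_neg at hcon
    have : 0 ≤ Nz * Nz := mul_self_nonneg _
    omega
  have hN2 : Nz ≤ 2 := by
    by_contra hcon
    push_neg at hcon
    have : 3 * Nz ≤ Nz * Nz := by nlinarith
    omega
  have hcases : Nz = 0 ∨ Nz = 1 ∨ Nz = 2 := by omega
  rcases hcases with h | h | h
  · left; rw [hN, h]; simp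
  · right; left; rw [hN, h]; simp
  · right; right
    refine ⟨by rw [hN, h]; norm_num, ?_⟩
    have hrest : ∑ β ∈ (Finset.univ.erase d.χ₁).erase d.χ₂, dl β * dl β = 0 := by
      rw [h] at hsplit hnormz
      omega
    have hzero : ∀ β, β ≠ d.χ₁ → β ≠ d.χ₂ → dl β = 0 := by
      intro β hb1 hb2
      have h5 := (Finset.sum_eq_zero_iff_of_nonneg (fun j _ => mul_self_nonneg (dl j))).mp hrest β
        (Finset.mem_erase.mpr ⟨hb2, Finset.mem_erase.mpr ⟨hb1, Finset.mem_univ _⟩⟩)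
      exact mul_self_eq_zero.mp h5
    rw [hdl]
    have hpt : ∀ β : IrrCharacter G, (dl β : ℂ) • (β : G → ℂ)
        = (if β = d.χ₁ then (dl d.χ₁ : ℂ) • (d.χ₁ : G → ℂ) else 0)
          + (if β = d.χ₂ then (dl d.χ₂ : ℂ) • (d.χ₂ : G → ℂ) else 0) := by
      intro β
      by_cases hb1 : β = d.χ₁
      · rw [if_pos hb1, if_neg (by rw [hb1]; exact d.hne), hb1]; simp
      · by_cases hb2 : β = d.χ₂
        · rw [if_neg hb1, if_pos hb2, hb2]; simp
        · rw [if_neg hb1, if_neg hb2, hzero β hb1 hb2]; simp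
    rw [Finset.sum_congr rfl (fun β _ => hpt β), Finset.sum_add_distrib, Finset.sum_ite_eq',
      Finset.sum_ite_eq', if_pos (Finset.mem_univ _), if_pos (Finset.mem_univ _), hd1, hd2, h]
    funext g
    simp only [Pi.add_apply, Pi.sub_apply, Pi.smul_apply, smul_eq_mul]
    push_cast
    ring

end Cfsg.Agent.Lib.Helper1.V4c
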