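import Mathlib
import Cfsg.Agent.Lib.Helper1.V4c4

set_option autoImplicit false
set_option maxHeartbeats 4000000
set_option maxRecDepth 100000
set_option linter.unusedVariables false
set_option linter.unusedSectionVars false
set_option linter.style.longLine false
set_option linter.unusedSimpArgs false
set_option linter.deprecated false

/-!
# Abstract character core, part 5: elimination of the case `N = 1`, and the key dichotomy
-/

namespace Cfsg.Agent.Lib.Helper1.V4c

open Cfsg Cfsg.Agent.Lib.Helper6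
open scoped ComplexConjugate

variable {G : Type*} [Group G] [Fintype G] {c : Core G}

theorem Core.one_memK_coe (c : Core G) : c.x * (((1 : c.K) : c.K) : G) = c.x := by
  simp

/-- if `N = 0` then `η = 0` -/
theorem Decomp.eta_eq_zero_of_N (d : Decomp c) (h : d.N = 0) : ∀ ρ : c.K, d.eta ρ = 0 := by
  unfold Decomp.N at h
  have hk0 := c.k_ne_zero
  have h1 : ∑ ρ : c.K, d.eta ρ * conj (d.eta ρ) = 0 := by
    rcases mul_eq_zero.mp h with h2 | h2
    · exact absurd (inv_eq_zero.mp h2) hk0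
    · exact h2
  have h2 : ∑ ρ : c.K, d.eta ρ * conj (d.eta ρ) = ((∑ ρ : c.K, Complex.normSq (d.eta ρ) : ℝ) : ℂ) := by
    push_cast
    apply Finset.sum_congr rfl
    intro ρ _
    rw [Complex.mul_conj]
  rw [h2] at h1
  have h3 : ∑ ρ : c.K, Complex.normSq (d.eta ρ) = 0 := by exact_mod_cast h1
  intro ρ
  have h4 := (Finset.sum_eq_zero_iff_of_nonneg (fun ρ _ => Complex.normSq_nonneg (d.eta ρ))).mp h3 ρ
    (Finset.mem_univ ρ)
  exact Complex.normSq_eq_zero.mp h4

/-- the case `N = 1` is impossible -/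
theorem Decomp.N_ne_one (d : Decomp c) : d.N ≠ 1 := by
  classical
  intro hN1
  have : Fintype (IrrCharacter c.K) := Fintype.ofFinite _
  obtain ⟨hh, hη, hhi⟩ := IsGeneralizedCharacter.exists_int_coeff d.isGeneralizedCharacter_eta
  have hnorm : ∑ ζ, hh ζ * hh ζ = 1 := by
    have h1 := classInner_sum_int hh hh
    rw [← hη, d.classInner_eta, hN1] at h1
    exact_mod_cast h1.symm
  obtain ⟨ζ₀, hζ₀, hrest⟩ := exists_of_sum_sq_eq_one hh hnorm
  have hηζ : d.eta = (hh ζ₀ : ℂ) • (ζ₀ : c.K → ℂ) := by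
    conv_lhs => rw [hη]
    rw [Finset.sum_eq_single ζ₀]
    · intro ζ _ hζ
      rw [hrest ζ hζ]; simp
    · intro h; exact absurd (Finset.mem_univ _) h
  have hss : (hh ζ₀ : ℂ) * (hh ζ₀ : ℂ) = 1 := eps_sq hζ₀
  have hζη : ∀ ρ : c.K, (ζ₀ : c.K → ℂ) ρ = (hh ζ₀ : ℂ) * d.eta ρ := by
    intro ρ
    rw [hηζ, Pi.smul_apply, smul_eq_mul]
    linear_combination (-(ζ₀ : c.K → ℂ) ρ) * hss
  have hζne : (ζ₀ : c.K → ℂ) ≠ fun _ => 1 := by
    intro h
    have h1 := hhi ζ₀
    rw [h, d.classInner_eta_one] at h1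
    have h2 : hh ζ₀ = 0 := by exact_mod_cast h1.symm
    rcases hζ₀ with h3 | h3 <;> rw [h3] at h2 <;> norm_num at h2
  -- the conjugate character
  obtain ⟨β, hβ⟩ : ∃ β : IrrCharacter G,
      β = ⟨fun g => conj ((d.χ₁ : G → ℂ) g), IsIrrCharacter.conj d.χ₁.2⟩ := ⟨_, rfl⟩
  have hβc : ∀ g, (β : G → ℂ) g = conj ((d.χ₁ : G → ℂ) g) := by
    intro g; rw [hβ]
  have hβf : (β : G → ℂ) = fun g => conj ((d.χ₁ : G → ℂ) g) := funext hβc
  have hβin : classInner (theta G) (β : G → ℂ) = (d.ε₁ : ℂ) := by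
    have h1 := classInner_conj_conj (theta G) (d.χ₁ : G → ℂ)
    have h2 : (fun g => conj (theta G g)) = theta G := funext theta_conj
    rw [h2, d.hc₁, eps_conj] at h1
    rw [hβf, h1]
  have hε₁0 : (d.ε₁ : ℂ) ≠ 0 := by
    intro h
    have := eps_sq d.hε₁
    rw [h] at this
    norm_num at this
  have hcases : β = d.χ₁ ∨ β = d.χ₂ ∨ (β : G → ℂ) = (fun _ => 1) ∨ (β : G → ℂ) = c.Ξ := by
    by_contra hcon
    push_neg at hcon
    have := d.hzero β hcon.1 hcon.2.1 hcon.2.2.1 hcon.2.2.2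
    rw [hβin] at this
    exact hε₁0 this
  rcases hcases with h | h | h | h
  · -- χ₁ real
    have hreal : ∀ g, conj ((d.χ₁ : G → ℂ) g) = (d.χ₁ : G → ℂ) g := by
      intro g; rw [← hβc g, h]
    have hηreal : ∀ ρ : c.K, conj (d.eta ρ) = d.eta ρ := by
      intro ρ
      unfold Decomp.eta
      rw [map_sub, map_mul, eps_conj, hreal, map_one]
    have hζreal : ∀ ρ : c.K, ((ζ₀ : c.K → ℂ) ρ).im = 0 := by
      intro ρ
      rw [← Complex.conj_eq_iff_im, hζη ρ, map_mul, eps_conj, hηreal ρ]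
    have hodd : Odd (Nat.card c.K) := by rw [c.hk]; exact c.hkodd
    exact hζne (eq_one_of_real_of_odd hodd _ ζ₀.2 hζreal)
  · -- conj χ₁ = χ₂
    have hconj : ∀ g, conj ((d.χ₁ : G → ℂ) g) = (d.χ₂ : G → ℂ) g := by
      intro g; rw [← hβc g, h]
    have hεeq : (d.ε₂ : ℂ) = (d.ε₁ : ℂ) := by
      rw [← d.hc₂, ← h, hβin]
    have h1 := hconj (c.x * ((1 : c.K) : G))
    rw [d.chi1_xK 1, d.chi2_xK 1, map_mul, eps_conj, map_add, map_one, hεeq] at h1
    have h2 : conj (d.eta 1) = -d.eta 1 := by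
      have h3 := mul_left_cancel₀ hε₁0 h1
      linear_combination h3
    have h4 : d.eta 1 = (hh ζ₀ : ℂ) * (Cfsg.charDegree (ζ₀ : c.K → ℂ) : ℂ) := by
      rw [hηζ, Pi.smul_apply, smul_eq_mul,
        IsCharacter.apply_one_eq_charDegree (IsIrrCharacter.isCharacter ζ₀.2)]
    have h5 : conj (d.eta 1) = d.eta 1 := by
      rw [h4, map_mul, eps_conj, Complex.conj_natCast]
    have h6 : d.eta 1 = 0 := by
      have : (2 : ℂ) * d.eta 1 = 0 := by linear_combination h2 - h5
      rcases mul_eq_zero.mp this with h7 | h7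
      · norm_num at h7
      · exact h7
    have h7 : (ζ₀ : c.K → ℂ) 1 = 0 := by rw [hζη 1, h6, mul_zero]
    exact IsIrrCharacter.apply_one_ne_zero ζ₀.2 h7
  · -- conj χ₁ = 1
    apply d.h1one
    funext g
    have h1 := congrFun h g
    rw [hβc g] at h1
    have h2 := congrArg conj h1
    simpa using h2
  · -- conj χ₁ = Ξ
    have h1 : ∀ ρ : c.K, (d.χ₁ : G → ℂ) (c.x * ρ) = 1 := by
      intro ρ
      have h2 := congrFun h (c.x * ρ)
      rw [hβc, c.hΞe _ (c.hxK ρ ρ.2)] at h2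
      have h3 := congrArg conj h2
      simpa using h3
    have h2 := d.hc₁
    rw [c.classInner_theta _ (IsIrrCharacter.isClassFunction d.χ₁.2)] at h2
    simp only [h1, map_one] at h2
    rw [Finset.sum_const, nsmul_eq_mul, c.card_K_cast, mul_one, inv_mul_cancel₀ c.k_ne_zero] at h2
    have h3 : ∀ ρ : c.K, d.eta ρ = 0 := by
      intro ρ
      unfold Decomp.eta
      rw [h1 ρ, ← h2]; ring
    have h4 : d.N = 0 := by
      unfold Decomp.N
      simp [h3]
    rw [h4] at hN1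
    norm_num at hN1

theorem theta_one : theta G (1 : G) = 0 := by
  unfold theta
  rw [if_neg]
  rw [orderOf_one]
  norm_num

/-- the key dichotomy -/
theorem Decomp.key (d : Decomp c) :
    ((d.ε₁ : ℂ) * (d.χ₁ : G → ℂ) c.x = 1 ∧ (d.ε₂ : ℂ) * (d.χ₂ : G → ℂ) c.x = 1) ∨
      ((d.ε₁ : ℂ) * (d.χ₁ : G → ℂ) 1 = (d.ε₂ : ℂ) * (d.χ₂ : G → ℂ) 1) := by
  rcases d.N_cases with h | h | ⟨h, hL⟩
  · left
    have h0 := d.eta_eq_zero_of_N h 1
    have h1 := d.chi1_xK 1
    have h2 := d.chi2_xK 1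
    rw [h0, c.one_memK_coe] at h1 h2
    constructor
    · rw [h1]; have := eps_sq d.hε₁; linear_combination this
    · rw [h2]; have := eps_sq d.hε₂; linear_combination this
  · exact absurd h d.N_ne_one
  · right
    have h1 := congrFun hL 1
    unfold Decomp.Lam at h1
    rw [Pi.mul_apply, theta_one, zero_mul] at h1
    simp only [Pi.sub_apply, Pi.smul_apply, smul_eq_mul] at h1
    linear_combination (-(1 : ℂ) / 2) * h1

end Cfsg.Agent.Lib.Helper1.V4c
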