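import Mathlib
import Cfsg.Agent.Lib.Helper1.V4c5

set_option autoImplicit false
set_option maxHeartbeats 4000000
set_option maxRecDepth 100000
set_option linter.unusedVariables false
set_option linter.unusedSectionVars false
set_option linter.style.longLine false
set_option linter.unusedSimpArgs false
set_option linter.deprecated false

/-!
# Abstract character core, part 6: arithmetic, `n = 5`
-/

namespace Cfsg.Agent.Lib.Helper1.V4c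

open Cfsg Cfsg.Agent.Lib.Helper6
open scoped ComplexConjugate

/-- arithmetic lemma for the case `A₁ = A₂ = 1` -/
theorem arith_one (n : ℕ) (F₁ F₂ : ℤ) (hn : 1 < n) (hs : F₁ + F₂ = -((n : ℤ) + 1))
    (hp : (3 * (n : ℤ) - 5) * (F₁ * F₂) = 3 * n * ((n : ℤ) + 1)) : n = 5 := by
  have hn2 : (2 : ℤ) ≤ n := by exact_mod_cast hn
  have h35 : (1 : ℤ) ≤ 3 * (n : ℤ) - 5 := by omega
  have hrhs : (0 : ℤ) < 3 * n * ((n : ℤ) + 1) := by positivity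
  have hprod : 0 < F₁ * F₂ := by
    by_contra hcon
    push_neg at hcon
    have : (3 * (n : ℤ) - 5) * (F₁ * F₂) ≤ 0 := mul_nonpos_of_nonneg_of_nonpos (by omega) hcon
    omega
  have hF₁ : F₁ < 0 := by
    by_contra hcon
    push_neg at hcon
    have hF₂ : F₂ < 0 := by omega
    have : F₁ * F₂ ≤ 0 := mul_nonpos_of_nonneg_of_nonpos hcon hF₂.le
    omega
  have hF₂ : F₂ < 0 := by
    by_contra hcon
    push_neg at hcon
    have : F₁ * F₂ ≤ 0 := mul_nonpos_of_nonpos_of_nonneg hF₁.le hcon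
    omega
  obtain ⟨p, hpdef⟩ : ∃ p : ℤ, p = -F₁ := ⟨_, rfl⟩
  obtain ⟨q, hqdef⟩ : ∃ q : ℤ, q = -F₂ := ⟨_, rfl⟩
  have hp1 : 1 ≤ p := by omega
  have hq1 : 1 ≤ q := by omega
  have hpq : p + q = (n : ℤ) + 1 := by omega
  have hprod' : F₁ * F₂ = p * q := by rw [hpdef, hqdef]; ring
  rw [hprod'] at hp
  obtain ⟨m, hm⟩ : ∃ m : ℤ, m = p * q - ((n : ℤ) + 1) := ⟨_, rfl⟩
  have hmeq : m * (3 * (n : ℤ) - 5) = 5 * ((n : ℤ) + 1) := by
    rw [hm]; linear_combination hp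
  have hm1 : 1 ≤ m := by
    by_contra hcon
    push_neg at hcon
    have h0 : m ≤ 0 := by omega
    have : m * (3 * (n : ℤ) - 5) ≤ 0 := mul_nonpos_of_nonpos_of_nonneg h0 (by omega)
    omega
  have hpn : p ≤ n := by omega
  by_cases hm6 : 6 ≤ m
  · -- then n ≤ 2
    have h1 : 6 * (3 * (n : ℤ) - 5) ≤ m * (3 * (n : ℤ) - 5) :=
      mul_le_mul_of_nonneg_right hm6 (by omega)
    have hn' : (n : ℤ) = 2 := by omega
    rw [hn'] at hmeq hpq hm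
    have hm15 : m = 15 := by omega
    have hq' : q = 3 - p := by omega
    rw [hq', hm15] at hm
    have : p ≤ 2 := by omega
    interval_cases p <;> omega
  · push_neg at hm6
    interval_cases m
    · omega
    · -- m = 2, n = 15
      have hn' : (n : ℤ) = 15 := by omega
      rw [hn'] at hm hpq
      have hq' : q = 16 - p := by omega
      rw [hq'] at hm
      have : p ≤ 15 := by omega
      interval_cases p <;> omega
    · -- m = 3, n = 5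
      have hn' : (n : ℤ) = 5 := by omega
      exact_mod_cast hn'
    · omega
    · -- m = 5, n = 3
      have hn' : (n : ℤ) = 3 := by omega
      rw [hn'] at hm hpq
      have hq' : q = 4 - p := by omega
      rw [hq'] at hm
      have : p ≤ 3 := by omega
      interval_cases p <;> omega

/-- arithmetic lemma for the case `F₁ = F₂` -/
theorem arith_two (n : ℕ) (A₁ A₂ F : ℤ) (hn : 1 < n) (hF : 2 * F = -((n : ℤ) + 1))
    (hA : A₁ + A₂ = 2) (h : 3 * (n : ℤ) * (A₁ * A₁ + A₂ * A₂) = (5 - 3 * (n : ℤ)) * F) : n = 5 := by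
  have h1 : (5 : ℤ) = n * (3 * (n : ℤ) - 2 - 6 * (A₁ * A₁ + A₂ * A₂)) := by
    linear_combination (2 : ℤ) * h + (5 - 3 * (n : ℤ)) * hF
  have h2 : (n : ℤ) ∣ 5 := ⟨_, h1⟩
  have h3 : n ∣ 5 := by exact_mod_cast h2
  rcases (Nat.dvd_prime Nat.prime_five).mp h3 with h4 | h4
  · omega
  · exact h4

variable {G : Type*} [Group G] [Fintype G]

theorem Core.n_eq_five (c : Core G) : c.n = 5 := by
  classical
  obtain ⟨d⟩ := c.exists_decomp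
  have hc1 := IsIrrCharacter.isCharacter d.χ₁.2
  have hc2 := IsIrrCharacter.isCharacter d.χ₂.2
  obtain ⟨y₁, hy₁⟩ := IsCharacter.exists_int_apply_of_orderOf_two hc1 c.x c.hx
  obtain ⟨y₂, hy₂⟩ := IsCharacter.exists_int_apply_of_orderOf_two hc2 c.x c.hx
  have hf₁ := IsCharacter.apply_one_eq_charDegree hc1
  have hf₂ := IsCharacter.apply_one_eq_charDegree hc2
  have hf₁pos := IsIrrCharacter.charDegree_pos d.χ₁.2
  have hf₂pos := IsIrrCharacter.charDegree_pos d.χ₂.2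
  obtain ⟨f₁, hf₁d⟩ : ∃ f₁ : ℕ, f₁ = Cfsg.charDegree (d.χ₁ : G → ℂ) := ⟨_, rfl⟩
  obtain ⟨f₂, hf₂d⟩ : ∃ f₂ : ℕ, f₂ = Cfsg.charDegree (d.χ₂ : G → ℂ) := ⟨_, rfl⟩
  rw [← hf₁d] at hf₁ hf₁pos
  rw [← hf₂d] at hf₂ hf₂pos
  have he1 : d.ε₁ * d.ε₁ = 1 := by rcases d.hε₁ with h | h <;> rw [h] <;> norm_num
  have he2 : d.ε₂ * d.ε₂ = 1 := by rcases d.hε₂ with h | h <;> rw [h] <;> norm_num
  have he1c := eps_sq d.hε₁
  have he2c := eps_sq d.hε₂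
  obtain ⟨F₁, hF₁⟩ : ∃ F₁ : ℤ, F₁ = d.ε₁ * f₁ := ⟨_, rfl⟩
  obtain ⟨F₂, hF₂⟩ : ∃ F₂ : ℤ, F₂ = d.ε₂ * f₂ := ⟨_, rfl⟩
  obtain ⟨A₁, hA₁⟩ : ∃ A₁ : ℤ, A₁ = d.ε₁ * y₁ := ⟨_, rfl⟩
  obtain ⟨A₂, hA₂⟩ : ∃ A₂ : ℤ, A₂ = d.ε₂ * y₂ := ⟨_, rfl⟩
  have hF₁0 : F₁ ≠ 0 := by
    rw [hF₁]
    intro h
    have : d.ε₁ * (d.ε₁ * f₁) = 0 := by rw [h, mul_zero]
    have h2 : (f₁ : ℤ) = 0 := by linear_combination this - (f₁ : ℤ) * he1
    omega
  have hF₂0 : F₂ ≠ 0 := by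
    rw [hF₂]
    intro h
    have : d.ε₂ * (d.ε₂ * f₂) = 0 := by rw [h, mul_zero]
    have h2 : (f₂ : ℤ) = 0 := by linear_combination this - (f₂ : ℤ) * he2
    omega
  -- E1
  have E1 : F₁ + F₂ = -((c.n : ℤ) + 1) := by
    have h := d.eq_one
    rw [hf₁, hf₂] at h
    have : ((F₁ + F₂ : ℤ) : ℂ) = ((-((c.n : ℤ) + 1) : ℤ) : ℂ) := by
      rw [hF₁, hF₂]; push_cast; linear_combination -h
    exact_mod_cast this
  -- E2
  have E2 : A₁ + A₂ = 2 := by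
    have h := d.eq_x
    rw [hy₁, hy₂] at h
    have : ((A₁ + A₂ : ℤ) : ℂ) = ((2 : ℤ) : ℂ) := by
      rw [hA₁, hA₂]; push_cast; linear_combination -h
    exact_mod_cast this
  -- E3
  have hn0 : (c.n : ℂ) ≠ 0 := by
    have := c.hn
    have h3 : c.n ≠ 0 := by omega
    exact_mod_cast h3
  have hf₁c : (f₁ : ℂ) ≠ 0 := by exact_mod_cast hf₁pos.ne'
  have hf₂c : (f₂ : ℂ) ≠ 0 := by exact_mod_cast hf₂pos.ne'
  have E3 : 3 * (c.n : ℤ) * (A₁ * A₁ * F₂ + A₂ * A₂ * F₁) = (5 - 3 * (c.n : ℤ)) * (F₁ * F₂) := by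
    have h := d.eq_class
    rw [hf₁, hf₂, hy₁, hy₂] at h
    have h2 : (8 : ℂ) * ((f₁ : ℂ) * (f₂ : ℂ)) = 3 * (c.n : ℂ) * ((f₁ : ℂ) * (f₂ : ℂ)) + 3 * ((f₁ : ℂ) * (f₂ : ℂ))
        + 3 * (c.n : ℂ) * ((d.ε₁ : ℂ) * ((y₁ : ℂ) * (y₁ : ℂ)) * (f₂ : ℂ) + (d.ε₂ : ℂ) * ((y₂ : ℂ) * (y₂ : ℂ)) * (f₁ : ℂ)) := by
      rw [h]
      field_simp
      ring
    have : ((3 * (c.n : ℤ) * (A₁ * A₁ * F₂ + A₂ * A₂ * F₁) : ℤ) : ℂ)
        = (((5 - 3 * (c.n : ℤ)) * (F₁ * F₂) : ℤ) : ℂ) := by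
      rw [hA₁, hA₂, hF₁, hF₂]
      push_cast
      linear_combination (-((d.ε₁ : ℂ) * (d.ε₂ : ℂ))) * h2
    exact_mod_cast this
  rcases d.key with ⟨k1, k2⟩ | k
  · have hA₁1 : A₁ = 1 := by
      rw [hy₁] at k1
      have : ((A₁ : ℤ) : ℂ) = ((1 : ℤ) : ℂ) := by rw [hA₁]; push_cast; exact k1
      exact_mod_cast this
    have hA₂1 : A₂ = 1 := by
      rw [hy₂] at k2
      have : ((A₂ : ℤ) : ℂ) = ((1 : ℤ) : ℂ) := by rw [hA₂]; push_cast; exact k2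
      exact_mod_cast this
    rw [hA₁1, hA₂1] at E3
    apply arith_one c.n F₁ F₂ c.hn E1
    have : F₂ + F₁ = -((c.n : ℤ) + 1) := by omega
    linear_combination E3 - (3 * (c.n : ℤ)) * this
  · have hFeq : F₁ = F₂ := by
      rw [hf₁, hf₂] at k
      have : ((F₁ : ℤ) : ℂ) = ((F₂ : ℤ) : ℂ) := by rw [hF₁, hF₂]; push_cast; exact k
      exact_mod_cast this
    rw [← hFeq] at E1 E3
    have h2F : 2 * F₁ = -((c.n : ℤ) + 1) := by omega
    have h3 : F₁ * (3 * (c.n : ℤ) * (A₁ * A₁ + A₂ * A₂)) = F₁ * ((5 - 3 * (c.n : ℤ)) * F₁) := by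
      linear_combination E3
    exact arith_two c.n A₁ A₂ F₁ c.hn h2F E2 (mul_left_cancel₀ hF₁0 h3)

end Cfsg.Agent.Lib.Helper1.V4c
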