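import Mathlib
import Cfsg.Agent.Lib.Helper6.IndFunMore
import Cfsg.Agent.Lib.Helper6.IndFunTI
import Cfsg.Agent.Lib.Helper6.CharOps
import Cfsg.Agent.Lib.Helper6.Norm
import Cfsg.Agent.Lib.Helper6.Mult

set_option autoImplicit false
set_option maxHeartbeats 4000000
set_option maxRecDepth 100000
set_option linter.unusedVariables false
set_option linter.unusedSectionVars false
set_option linter.style.longLine false
set_option linter.unusedSimpArgs false
set_option linter.deprecated false

/-!
# Mackey's irreducibility criterion for a character induced from a linear character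
-/

namespace Cfsg.Agent.Lib.Helper1.V4c

open Cfsg Cfsg.Agent.Lib.Helper6
open scoped ComplexConjugate

variable {G : Type*} [Group G] [Fintype G]

theorem hom_mul_conj {H : Type*} [Group H] [Finite H] (ω : H →* ℂˣ) (h : H) :
    ((ω h : ℂˣ) : ℂ) * conj ((ω h : ℂˣ) : ℂ) = 1 := by
  have h1 : ((ω h : ℂˣ) : ℂ) ^ orderOf h = 1 := by
    rw [← Units.val_pow_eq_pow_val, ← map_pow, pow_orderOf_eq_one, map_one, Units.val_one]
  have h2 : ‖((ω h : ℂˣ) : ℂ)‖ = 1 :=
    Complex.norm_eq_one_of_pow_eq_one h1 (orderOf_pos h).ne'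
  rw [Complex.mul_conj, Complex.normSq_eq_norm_sq, h2]
  norm_num

/-- Mackey's criterion for linear characters -/
theorem indFun_hom_isIrr (H : Subgroup G) (ω : H →* ℂˣ)
    (hne : ∀ y : G, y ∉ H → ∃ e : H, ∃ he : y⁻¹ * (e : G) * y ∈ H,
      ((ω ⟨y⁻¹ * (e : G) * y, he⟩ : ℂˣ) : ℂ) ≠ ((ω e : ℂˣ) : ℂ)) :
    IsIrrCharacter G (indFun H (fun h : H => ((ω h : ℂˣ) : ℂ))) := by
  classical
  have : Fintype H := Fintype.ofFinite _
  obtain ⟨f, hf⟩ : ∃ f : H → ℂ, f = fun h : H => ((ω h : ℂˣ) : ℂ) := ⟨_, rfl⟩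
  rw [← hf]
  have hfc : IsCharacter H f := by
    rw [hf]; exact IsIrrCharacter.isCharacter (isIrrCharacter_of_hom ω)
  have hΞc : IsCharacter G (indFun H f) := IsCharacter.indFun H hfc
  apply isIrrCharacter_of_classInner_self_eq_one hΞc
  rw [IndFunMore.classInner_indFun H f _ (IsCharacter.isClassFunction hΞc)]
  have hfmul : ∀ a b : H, f (a * b) = f a * f b := by
    intro a b; rw [hf]; simp only; rw [map_mul, Units.val_mul]
  have hfnorm : ∀ a : H, f a * conj (f a) = 1 := by
    intro a; rw [hf]; exact hom_mul_conj ω a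
  have hfne : ∀ a : H, f a ≠ 0 := by
    intro a h
    have := hfnorm a
    rw [h, zero_mul] at this
    exact zero_ne_one this
  -- the inner sums
  have hS : ∀ y : G, ∑ h : H, f h * conj (extendByZero H f (y⁻¹ * (h : G) * y))
      = if y ∈ H then (Nat.card H : ℂ) else 0 := by
    intro y
    split_ifs with hy
    · have h1 : ∀ h : H, f h * conj (extendByZero H f (y⁻¹ * (h : G) * y)) = 1 := by
        intro h
        have hmem : y⁻¹ * (h : G) * y ∈ H := H.mul_mem (H.mul_mem (H.inv_mem hy) h.2) hy
        rw [extendByZero_of_mem H f hmem]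
        have h2 : (⟨y⁻¹ * (h : G) * y, hmem⟩ : H) = (⟨y, hy⟩ : H)⁻¹ * h * ⟨y, hy⟩ := by
          apply Subtype.ext; simp
        rw [h2, hfmul, hfmul]
        have h3 : f (⟨y, hy⟩ : H)⁻¹ * f ⟨y, hy⟩ = 1 := by
          rw [← hfmul, inv_mul_cancel, hf]; simp
        have h4 : f (⟨y, hy⟩ : H)⁻¹ * f h * f ⟨y, hy⟩ = f h := by
          linear_combination (f h) * h3
        rw [h4, hfnorm]
      rw [Finset.sum_congr rfl (fun h _ => h1 h), Finset.sum_const, nsmul_eq_mul, mul_one,
        Finset.card_univ, Nat.card_eq_fintype_card]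
    · obtain ⟨e, he, hee⟩ := hne y hy
      obtain ⟨e', he'⟩ : ∃ e' : H, e' = ⟨y⁻¹ * (e : G) * y, he⟩ := ⟨_, rfl⟩
      have hee' : f e' ≠ f e := by rw [he', hf]; exact hee
      obtain ⟨cc, hcc⟩ : ∃ cc : ℂ, cc = f e * conj (f e') := ⟨_, rfl⟩
      have hcc1 : cc ≠ 1 := by
        intro h
        apply hee'
        have h2 := hfnorm e'
        have h3 : f e * conj (f e') = 1 := by rw [← hcc, h]
        have h4 : conj (f e') ≠ 0 := by
          intro h5
          rw [h5, mul_zero] at h2
          exact zero_ne_one h2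
        have h5 : (f e' - f e) * conj (f e') = 0 := by linear_combination h2 - h3
        rcases mul_eq_zero.mp h5 with h6 | h6
        · exact sub_eq_zero.mp h6
        · exact absurd h6 h4
      obtain ⟨φ, hφ⟩ : ∃ φ : H → ℂ,
          φ = fun h => f h * conj (extendByZero H f (y⁻¹ * (h : G) * y)) := ⟨_, rfl⟩
      have hshift : ∀ h : H, φ (e * h) = cc * φ h := by
        intro h
        rw [hφ]
        simp only
        have h1 : y⁻¹ * ((e * h : H) : G) * y = (e' : G) * (y⁻¹ * (h : G) * y) := by
          rw [he']; simp only [Subgroup.coe_mul]; group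
        rw [h1, hfmul]
        by_cases hm : y⁻¹ * (h : G) * y ∈ H
        · have hm2 : (e' : G) * (y⁻¹ * (h : G) * y) ∈ H := H.mul_mem e'.2 hm
          rw [extendByZero_of_mem H f hm, extendByZero_of_mem H f hm2]
          have h2 : (⟨(e' : G) * (y⁻¹ * (h : G) * y), hm2⟩ : H) = e' * ⟨y⁻¹ * (h : G) * y, hm⟩ := by
            apply Subtype.ext; simp
          rw [h2, hfmul, map_mul, hcc]
          ring
        · have hm2 : (e' : G) * (y⁻¹ * (h : G) * y) ∉ H := by
            intro h3
            apply hm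
            have := H.mul_mem (H.inv_mem e'.2) h3
            simpa using this
          rw [extendByZero_of_not_mem H f hm, extendByZero_of_not_mem H f hm2]
          simp
      have hsum : ∑ h : H, φ h = cc * ∑ h : H, φ h := by
        rw [Finset.mul_sum, ← Equiv.sum_comp (Equiv.mulLeft e)]
        apply Finset.sum_congr rfl
        intro h _
        rw [Equiv.coe_mulLeft, hshift]
      have h0 : (1 - cc) * ∑ h : H, φ h = 0 := by linear_combination hsum
      have h1 : ∑ h : H, φ h = 0 := by
        rcases mul_eq_zero.mp h0 with h2 | h2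
        · exact absurd (sub_eq_zero.mp h2).symm hcc1
        · exact h2
      rw [hφ] at h1
      exact h1
  -- assemble
  have hΞ : ∀ h : H, conj (indFun H f (h : G))
      = (Nat.card H : ℂ)⁻¹ * ∑ y : G, conj (extendByZero H f (y⁻¹ * (h : G) * y)) := by
    intro h
    unfold indFun
    rw [map_mul, map_inv₀, Complex.conj_natCast, map_sum]
  have hH0 : (Nat.card H : ℂ) ≠ 0 := card_ne_zero_complex H
  calc (Nat.card H : ℂ)⁻¹ * ∑ h : H, f h * conj (indFun H f (h : G))
      = (Nat.card H : ℂ)⁻¹ * ((Nat.card H : ℂ)⁻¹ *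
          ∑ y : G, ∑ h : H, f h * conj (extendByZero H f (y⁻¹ * (h : G) * y))) := by
        congr 1
        rw [Finset.sum_comm, Finset.mul_sum]
        apply Finset.sum_congr rfl
        intro h _
        rw [hΞ h, Finset.mul_sum, Finset.mul_sum, Finset.mul_sum]
        apply Finset.sum_congr rfl
        intro y _
        ring
    _ = (Nat.card H : ℂ)⁻¹ * ((Nat.card H : ℂ)⁻¹ * ((Nat.card H : ℂ) * (Nat.card H : ℂ))) := by
        congr 2
        rw [Finset.sum_congr rfl (fun y _ => hS y), ← Finset.sum_filter, Finset.sum_const,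
          nsmul_eq_mul]
        congr 1
        rw [Nat.card_eq_fintype_card, Fintype.card_subtype]
    _ = 1 := by field_simp

end Cfsg.Agent.Lib.Helper1.V4c
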