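import Mathlib
import Cfsg.Agent.Lib.Helper1.V4c11
import Cfsg.Agent.Lib.Helper1.V4c7
import Cfsg.Agent.Lib.Helper1.V4c6

set_option autoImplicit false
set_option maxHeartbeats 4000000
set_option maxRecDepth 100000
set_option linter.unusedVariables false
set_option linter.unusedSectionVars false
set_option linter.style.longLine false
set_option linter.unusedSimpArgs false
set_option linter.deprecated false

/-!
# S3278: assembly of the abstract character core from the local geometry: `|G : N(V)| = 5`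
-/

namespace Cfsg.Agent.Lib.Helper1.V4c

open Cfsg Cfsg.Agent.Lib.Lead Cfsg.Agent.Lib.Helper6

variable {G : Type*} [Group G] [Finite G]

namespace Geo

variable (Γ : Geo G)

/-- for an element of even order, the conjugates lying in `H` are parametrized by a coset of `H` -/
theorem conj_mem_H_iff {g y₀ ρ : G} (hρ : ρ ∈ Γ.K) (hg : g = y₀ * (Γ.x * ρ) * y₀⁻¹) (y : G) :
    y⁻¹ * g * y ∈ Γ.H ↔ y₀⁻¹ * y ∈ Γ.H := by
  have hsA : Γ.x * ρ ∈ Γ.A := Γ.A.mul_mem Γ.x_mem_A (Γ.K_le_A hρ)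
  have hsH : Γ.x * ρ ∈ Γ.H := Γ.A_le_H hsA
  have hform : y⁻¹ * g * y = (y₀⁻¹ * y)⁻¹ * (Γ.x * ρ) * (y₀⁻¹ * y) := by rw [hg]; group
  constructor
  · intro h
    by_contra hw
    rw [hform] at h
    have h2 := Γ.H.pow_mem h (Nat.card Γ.K)
    have h3 : ((y₀⁻¹ * y)⁻¹ * (Γ.x * ρ) * (y₀⁻¹ * y)) ^ Nat.card Γ.K
        = (y₀⁻¹ * y)⁻¹ * Γ.x * (y₀⁻¹ * y) := by
      have := conj_pow (a := (y₀⁻¹ * y)⁻¹) (b := Γ.x * ρ) (i := Nat.card Γ.K)
      rw [inv_inv] at this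
      rw [this, Γ.xK_pow hρ]
    rw [h3] at h2
    exact SE.not_mem_of_conj Γ.isSE _ hw Γ.x Γ.hx Γ.x_mem_H h2
  · intro h
    rw [hform]
    exact Γ.H.mul_mem (Γ.H.mul_mem (Γ.H.inv_mem h) hsH) h

theorem n_eq_five : Γ.n = 5 := by
  classical
  haveI : Fintype G := Fintype.ofFinite G
  haveI : Fintype Γ.H := Fintype.ofFinite _
  obtain ⟨ω, hω, hω3⟩ := Γ.exists_omega
  obtain ⟨f, hf⟩ : ∃ f : Γ.H → ℂ, f = fun h : Γ.H => ((ω h : ℂˣ) : ℂ) := ⟨_, rfl⟩
  -- irreducibility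
  have hirr : IsIrrCharacter G (indFun Γ.H f) := by
    rw [hf]
    apply indFun_hom_isIrr
    intro y hy
    obtain ⟨e, h₀, heH, hh₀, heA, hconj⟩ := Γ.exists_swap hy
    have he : y⁻¹ * e * y ∈ Γ.H := by
      rw [hconj]
      exact Γ.H.mul_mem (Γ.H.mul_mem (Γ.H.inv_mem hh₀) (Γ.H.inv_mem heH)) hh₀
    refine ⟨⟨e, heH⟩, he, ?_⟩
    intro hval
    have h1 : ω ⟨y⁻¹ * e * y, he⟩ = ω ⟨e, heH⟩ := Units.ext hval
    have h2 : (⟨y⁻¹ * e * y, he⟩ : Γ.H) = (⟨h₀, hh₀⟩ : Γ.H)⁻¹ * (⟨e, heH⟩ : Γ.H)⁻¹ * ⟨h₀, hh₀⟩ := by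
      apply Subtype.ext
      simp only [Subgroup.coe_mul, Subgroup.coe_inv]
      exact hconj
    rw [h2, map_mul, map_mul, map_inv, map_inv] at h1
    have h3 : (ω ⟨e, heH⟩)⁻¹ = ω ⟨e, heH⟩ := by
      calc (ω ⟨e, heH⟩)⁻¹ = (ω ⟨h₀, hh₀⟩)⁻¹ * (ω ⟨e, heH⟩)⁻¹ * ω ⟨h₀, hh₀⟩ := by
            rw [mul_comm ((ω ⟨h₀, hh₀⟩)⁻¹), mul_assoc, inv_mul_cancel, mul_one]
        _ = ω ⟨e, heH⟩ := h1
    have h4 : ω ⟨e, heH⟩ ^ 2 = 1 := by
      rw [sq]
      nth_rewrite 1 [← h3]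
      exact inv_mul_cancel _
    have h5 : ω ⟨e, heH⟩ = 1 := by
      have h6 := hω3 ⟨e, heH⟩
      rw [pow_succ, h4, one_mul] at h6
      exact h6
    exact heA ((hω ⟨e, heH⟩).mp h5)
  -- degree
  have hdeg : indFun Γ.H f 1 = (Γ.n : ℂ) := by
    have h1 := IndFunMore.indFun_apply_central Γ.H f (1 : Γ.H) (by intro x; simp)
    rw [Subgroup.coe_one] at h1
    rw [h1, hf]
    simp only [map_one, Units.val_one, mul_one]
    have h2 := Subgroup.card_mul_index Γ.H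
    have hH0 : (Nat.card Γ.H : ℂ) ≠ 0 := card_ne_zero_complex Γ.H
    unfold n
    rw [← h2]
    push_cast
    field_simp
  -- value on even elements
  have hev : ∀ g : G, 2 ∣ orderOf g → indFun Γ.H f g = 1 := by
    intro g hg
    obtain ⟨y₀, ρ, hρ, hgy⟩ := Γ.even_conj hg
    have hterm : ∀ y : G, extendByZero Γ.H f (y⁻¹ * g * y) = if y₀⁻¹ * y ∈ Γ.H then 1 else 0 := by
      intro y
      by_cases hy : y₀⁻¹ * y ∈ Γ.H
      · have hm : y⁻¹ * g * y ∈ Γ.H := (Γ.conj_mem_H_iff hρ hgy y).mpr hy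
        rw [if_pos hy, extendByZero_of_mem Γ.H f hm, hf]
        simp only
        have hA : y⁻¹ * g * y ∈ Γ.A := by
          apply Γ.even_mem_A hm
          rw [SE.orderOf_conj_eq']
          exact hg
        rw [(hω ⟨y⁻¹ * g * y, hm⟩).mpr hA, Units.val_one]
      · have hm : y⁻¹ * g * y ∉ Γ.H := fun h => hy ((Γ.conj_mem_H_iff hρ hgy y).mp h)
        rw [if_neg hy, extendByZero_of_not_mem Γ.H f hm]
    unfold indFun
    rw [Finset.sum_congr rfl (fun y _ => hterm y), ← Equiv.sum_comp (Equiv.mulLeft y₀)]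
    simp only [Equiv.coe_mulLeft, inv_mul_cancel_left]
    rw [← Finset.sum_filter, Finset.sum_const, nsmul_eq_mul, mul_one]
    have hc : ((Finset.univ.filter (fun y : G => y ∈ Γ.H)).card : ℂ) = (Nat.card Γ.H : ℂ) := by
      congr 1
      rw [Nat.card_eq_fintype_card, Fintype.card_subtype]
    rw [hc]
    exact inv_mul_cancel₀ (card_ne_zero_complex Γ.H)
  -- the core
  let c : Core G :=
    { x := Γ.x
      K := Γ.K
      A := Γ.A
      n := Γ.n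
      k := Nat.card Γ.K
      hx := Γ.hx
      hA := rfl
      hKA := Γ.K_le_A
      hKn := fun a ha ρ hρ => Γ.K_normal ha hρ
      hk := rfl
      hkodd := Γ.L.hKodd
      hAc := Γ.card_A
      hG := Γ.card_G
      hn := Γ.one_lt_n
      heven := fun g hg => Γ.even_conj hg
      hxK := fun ρ hρ => Γ.even_xK hρ
      hTI := fun y ρ hρ ρ' hρ' h => Γ.TI_xK hρ hρ' h
      hpairs := fun q => Γ.card_pairs q
      Ξ := indFun Γ.H f
      hΞ := hirr
      hΞ1 := hdeg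
      hΞe := hev }
  exact c.n_eq_five

end Geo

end Cfsg.Agent.Lib.Helper1.V4c
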