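import Mathlib
import Cfsg.Agent.Lib.Helper1.V4c12
import Cfsg.Agent.Lib.Helper2.V4R
import Cfsg.Agent.Lib.Helper4.Simple60

set_option autoImplicit false
set_option maxHeartbeats 4000000
set_option maxRecDepth 100000
set_option linter.unusedVariables false
set_option linter.unusedSectionVars false
set_option linter.style.longLine false
set_option linter.unusedSimpArgs false
set_option linter.deprecated false

/-!
# S3278: assembly from the local data `Loc`
-/

namespace Cfsg.Agent.Lib.Helper1.V4c

open Cfsg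

/-- from the hypotheses of S3278 and the local data, build the geometric structure -/
theorem exists_geo {G : Type*} [Group G] [Finite G] [IsSimpleGroup G] (x : G) (hx : orderOf x = 2)
    (S₀ : Subgroup G) (hle : S₀ ≤ Subgroup.centralizer ({x} : Set G)) (hK : IsKleinFour ↥S₀)
    (hodd : ¬ 2 ∣ S₀.relIndex (Subgroup.centralizer ({x} : Set G)))
    (L : Loc G x S₀) : ∃ Γ : Geo G, Γ.V = S₀ := by
  have hV4 : Nat.card S₀ = 4 := hK.card_four
  have hVsq : ∀ v ∈ S₀, v * v = 1 := by
    intro v hv
    have h1 : (⟨v, hv⟩ : S₀) ^ Monoid.exponent S₀ = 1 := Monoid.pow_exponent_eq_one _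
    rw [hK.exponent_two] at h1
    have h2 := congrArg (Subtype.val) h1
    rw [Subgroup.coe_pow, Subgroup.coe_one] at h2
    rw [← sq]
    exact h2
  have hxx : x * x = 1 := by
    have := pow_orderOf_eq_one x
    rw [hx, sq] at this
    exact this
  have hxV : x ∈ S₀ := by
    obtain ⟨v, hv, ρ, hρ, hxe⟩ := L.hcent x rfl
    have hc := L.hcomm v hv ρ hρ
    have h1 : ρ * ρ = 1 := by
      have h2 : x * x = (v * v) * (ρ * ρ) := by
        rw [hxe]
        calc v * ρ * (v * ρ) = v * (ρ * v) * ρ := by group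
          _ = v * (v * ρ) * ρ := by rw [hc]
          _ = v * v * (ρ * ρ) := by group
      rw [hxx, hVsq v hv, one_mul] at h2
      exact h2.symm
    have h3 : orderOf ρ ∣ 2 := by
      apply orderOf_dvd_of_pow_eq_one
      rw [sq]; exact h1
    have h4 : orderOf (⟨ρ, hρ⟩ : L.K) ∣ Nat.card L.K := orderOf_dvd_natCard _
    rw [Subgroup.orderOf_mk] at h4
    have h5 : Odd (orderOf ρ) := Odd.of_dvd_nat L.hKodd h4
    have h6 : orderOf ρ = 1 := by
      rcases (Nat.dvd_prime Nat.prime_two).mp h3 with h | h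
      · exact h
      · rw [h] at h5; exact absurd h5 (by decide)
    rw [orderOf_eq_one_iff] at h6
    rw [hxe, h6, mul_one]
    exact hv
  have hVsyl : ¬ 2 ∣ S₀.index :=
    Cfsg.Agent.Lib.Helper2.V4R.v4_sylow_of_centralizer x hx S₀ hle hK hodd
  have hcommV : ∀ v ∈ S₀, ∀ w ∈ S₀, v * w = w * v := by
    intro v hv w hw
    have h1 := hVsq (v * w) (S₀.mul_mem hv hw)
    have hvi : v⁻¹ = v := inv_eq_of_mul_eq_one_right (hVsq v hv)
    have hwi : w⁻¹ = w := inv_eq_of_mul_eq_one_right (hVsq w hw)
    have h2 : v * w = (v * w)⁻¹ := (inv_eq_of_mul_eq_one_right h1).symm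
    rw [h2, mul_inv_rev, hvi, hwi]
  have hnn : ∃ g : G, g ∉ Subgroup.normalizer (S₀ : Set G) := by
    by_contra hcon
    push_neg at hcon
    have hnorm : S₀.Normal := by
      rw [← Subgroup.normalizer_eq_top_iff]
      exact (eq_top_iff).mpr (fun g _ => hcon g)
    rcases hnorm.eq_bot_or_eq_top with h | h
    · rw [h] at hV4
      rw [Subgroup.card_bot] at hV4
      norm_num at hV4
    · -- G = S₀ abelian of order 4: the subgroup generated by x is normal
      have hcomm : ∀ a b : G, a * b = b * a := by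
        intro a b
        exact hcommV a (by rw [h]; trivial) b (by rw [h]; trivial)
      have hZ : (Subgroup.zpowers x).Normal := by
        refine ⟨fun n hn g => ?_⟩
        have : g * n * g⁻¹ = n := by
          rw [hcomm g n, mul_assoc, mul_inv_cancel, mul_one]
        rw [this]; exact hn
      have hcz : Nat.card (Subgroup.zpowers x) = 2 := by
        rw [Nat.card_zpowers, hx]
      rcases hZ.eq_bot_or_eq_top with h' | h'
      · rw [h', Subgroup.card_bot] at hcz
        norm_num at hcz
      · rw [h', Subgroup.card_top] at hcz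
        rw [h, Subgroup.card_top] at hV4
        omega
  exact ⟨⟨x, S₀, L, hx, hxV, hV4, hVsq, hVsyl, hnn⟩, rfl⟩

/-- S3278 from the local data -/
theorem main_of_loc {G : Type*} [Group G] [Finite G] [IsSimpleGroup G] (x : G) (hx : orderOf x = 2)
    (S₀ : Subgroup G) (hle : S₀ ≤ Subgroup.centralizer ({x} : Set G)) (hK : IsKleinFour ↥S₀)
    (hodd : ¬ 2 ∣ S₀.relIndex (Subgroup.centralizer ({x} : Set G)))
    (L : Loc G x S₀) : Nonempty (G ≃* ↥(alternatingGroup (Fin 5))) := by
  obtain ⟨Γ, hΓ⟩ := exists_geo x hx S₀ hle hK hodd L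
  have hn5 : Γ.n = 5 := Γ.n_eq_five
  have hcard := Γ.card_G
  rw [hn5] at hcard
  have hdvd := Cfsg.Agent.Lib.Helper4.card_dvd_factorial_index Γ.H Γ.H_ne_top
  have hidx : Γ.H.index = 5 := hn5
  rw [hidx] at hdvd
  have hkodd : Odd (Nat.card Γ.K) := Γ.L.hKodd
  have h120 : (Nat.factorial 5) = 120 := by decide
  rw [h120, hcard] at hdvd
  obtain ⟨c, hc⟩ := hdvd
  obtain ⟨m, hm⟩ := hkodd
  have hk1 : Nat.card Γ.K = 1 := by
    rw [hm] at hc
    -- 120 = 12 * (2m+1) * 5 * c
    have : (2 * m + 1) * c = 2 := by nlinarith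
    have hm0 : m = 0 := by
      by_contra hne
      have hm1 : 1 ≤ m := Nat.one_le_iff_ne_zero.mpr hne
      have hcpos : 1 ≤ c := by
        rcases Nat.eq_zero_or_pos c with h0 | h0
        · rw [h0] at this; omega
        · exact h0
      nlinarith
    omega
  have h60 : Nat.card G = 60 := by
    rw [hcard, hk1]
  exact Cfsg.Agent.Lib.Helper4.simple_sixty_iso h60

end Cfsg.Agent.Lib.Helper1.V4c
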