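import Mathlib
import Cfsg.Agent.Lib.Helper1.V4c13
import Cfsg.Agent.Lib.Helper6.Q8Sylow2

set_option autoImplicit false
set_option maxHeartbeats 4000000
set_option maxRecDepth 100000
set_option linter.unusedVariables false
set_option linter.unusedSectionVars false
set_option linter.style.longLine false
set_option linter.unusedSimpArgs false
set_option linter.deprecated false

/-!
# S3278: the local data (`C(x) = S₀ × K`, fusion in `N(S₀)`)
-/

namespace Cfsg.Agent.Lib.Helper1.V4c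

open Cfsg

/-- every element of `C(x)` centralizes the four-group, and fusion -/
theorem exists_loc {G : Type*} [Group G] [Finite G] [IsSimpleGroup G] (x : G) (hx : orderOf x = 2)
    (S₀ : Subgroup G) (hle : S₀ ≤ Subgroup.centralizer ({x} : Set G)) (hK : IsKleinFour ↥S₀)
    (hodd : ¬ 2 ∣ S₀.relIndex (Subgroup.centralizer ({x} : Set G)))
    (hn : (S₀.subgroupOf (Subgroup.centralizer ({x} : Set G))).Normal) :
    Nonempty (Loc G x S₀) := by
  classical
  haveI : Fact (Nat.Prime 2) := ⟨Nat.prime_two⟩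
  haveI : IsKleinFour ↥S₀ := hK
  have hVsyl : ¬ 2 ∣ S₀.index :=
    Cfsg.Agent.Lib.Helper2.V4R.v4_sylow_of_centralizer x hx S₀ hle hK hodd
  have hV4 : Nat.card S₀ = 4 := hK.card_four
  have hpg : IsPGroup 2 S₀ := IsPGroup.of_card (n := 2) (by rw [hV4]; norm_num)
  obtain ⟨P, hP⟩ : ∃ P : Sylow 2 G, (P : Subgroup G) = S₀ :=
    ⟨hpg.toSylow hVsyl, IsPGroup.toSylow_coe hpg hVsyl⟩
  have hPK : IsKleinFour (P : Subgroup G) := by rw [hP]; exact hK
  obtain ⟨C, hC⟩ : ∃ C : Subgroup G, C = Subgroup.centralizer ({x} : Set G) := ⟨_, rfl⟩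
  rw [← hC] at hle hodd hn
  have hmemC : ∀ a : G, a ∈ C ↔ a * x = x * a := by
    intro a
    rw [hC, Subgroup.mem_centralizer_singleton_iff]
  have hxC : x ∈ C := (hmemC x).mpr rfl
  obtain ⟨N, hNdef⟩ : ∃ N : Subgroup C, N = S₀.subgroupOf C := ⟨_, rfl⟩
  rw [← hNdef] at hn
  have hNidx : ¬ 2 ∣ N.index := by rw [hNdef]; exact hodd
  have hNcard : Nat.card N = 4 := by
    rw [hNdef, Nat.card_congr (Subgroup.subgroupOfEquivOfLe hle).toEquiv]; exact hV4
  -- x ∈ S₀
  have hxV : x ∈ S₀ := by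
    have h1 : orderOf (QuotientGroup.mk' N ⟨x, hxC⟩) ∣ orderOf (⟨x, hxC⟩ : C) :=
      orderOf_map_dvd _ _
    rw [Subgroup.orderOf_mk, hx] at h1
    have h2 : orderOf (QuotientGroup.mk' N ⟨x, hxC⟩) ∣ N.index := by
      rw [Subgroup.index_eq_card]
      exact orderOf_dvd_natCard _
    have hcop : Nat.Coprime 2 N.index := (Nat.Prime.coprime_iff_not_dvd Nat.prime_two).mpr hNidx
    have h3 : orderOf (QuotientGroup.mk' N ⟨x, hxC⟩) ∣ 1 := by
      have := Nat.dvd_gcd h1 h2
      rwa [hcop] at this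
    have h4 : orderOf (QuotientGroup.mk' N ⟨x, hxC⟩) = 1 := Nat.dvd_one.mp h3
    rw [orderOf_eq_one_iff, QuotientGroup.mk'_apply, QuotientGroup.eq_one_iff] at h4
    rw [hNdef, Subgroup.mem_subgroupOf] at h4
    exact h4
  -- `C` normalizes and centralizes `S₀`
  have hCconj : ∀ c ∈ C, ∀ w ∈ S₀, c * w * c⁻¹ ∈ S₀ := by
    intro c hc w hw
    have h1 : (⟨w, hle hw⟩ : C) ∈ N := by
      rw [hNdef, Subgroup.mem_subgroupOf]; exact hw
    have h2 := hn.conj_mem ⟨w, hle hw⟩ h1 ⟨c, hc⟩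
    rw [hNdef, Subgroup.mem_subgroupOf] at h2
    exact h2
  have hCnorm : ∀ c ∈ C, c ∈ Subgroup.normalizer ((P : Subgroup G) : Set G) := by
    intro c hc
    rw [Subgroup.mem_normalizer_iff]
    intro w
    rw [hP]
    constructor
    · exact hCconj c hc w
    · intro h
      have := hCconj c⁻¹ (C.inv_mem hc) _ h
      have h2 : c⁻¹ * (c * w * c⁻¹) * c⁻¹⁻¹ = w := by group
      rwa [h2] at this
  have hCcent : ∀ c ∈ C, ∀ w ∈ S₀, w * c = c * w := by
    intro c hc w hw
    have h1 : c * x * c⁻¹ = x := by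
      rw [(hmemC c).mp hc, mul_assoc, mul_inv_cancel, mul_one]
    have h2 := Cfsg.Agent.Lib.Helper6.Q8.centralizes_of_fixes_involution P hPK x
      (by rw [hP]; exact hxV) hx c (hCnorm c hc) h1
    rw [Subgroup.mem_centralizer_iff] at h2
    exact h2 w (by rw [hP]; exact hw)
  -- the complement
  have hcop : (Nat.card N).Coprime N.index := by
    rw [hNcard]
    have h2 : Nat.Coprime 2 N.index := (Nat.Prime.coprime_iff_not_dvd Nat.prime_two).mpr hNidx
    exact Nat.Coprime.pow_left 2 h2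
  obtain ⟨K0, hK0⟩ := Subgroup.exists_right_complement'_of_coprime hcop
  have hK0card : Nat.card K0 = N.index := (hK0.symm.index_eq_card).symm
  have hKodd : Odd (Nat.card (K0.map C.subtype)) := by
    rw [Subgroup.card_map_of_injective C.subtype_injective, hK0card]
    exact Nat.odd_iff.mpr (Nat.two_dvd_ne_zero.mp hNidx)
  have hKC : ∀ ρ ∈ K0.map C.subtype, ρ ∈ C := by
    intro ρ hρ
    obtain ⟨k, hk, rfl⟩ := Subgroup.mem_map.mp hρ
    exact k.2
  -- fusion
  have hsq : ∀ w ∈ S₀, w * w = 1 := fun w hw =>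
    Cfsg.Agent.Lib.Helper2.FourGroup.mul_self_of_mem S₀ hw
  have hcommV : ∀ v ∈ S₀, ∀ w ∈ S₀, v * w = w * v := fun v hv w hw =>
    Cfsg.Agent.Lib.Helper2.FourGroup.comm_of_mem S₀ hv hw
  have hx1 : x ≠ 1 := by
    intro h
    rw [h, orderOf_one] at hx
    norm_num at hx
  have hNC : ¬ (Subgroup.normalizer ((P : Subgroup G) : Set G)
      ≤ Subgroup.centralizer ((P : Subgroup G) : Set G)) := by
    intro hNC
    have hN := MonoidHom.ker_transferSylow_isComplement' P hNC
    rcases (inferInstance : (MonoidHom.transferSylow P hNC).ker.Normal).eq_bot_or_eq_top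
      with hbot | htop
    · rw [hbot] at hN
      have hPtop : (P : Subgroup G) = ⊤ := by
        have := hN.sup_eq_top
        rwa [bot_sup_eq] at this
      rw [hP] at hPtop
      have hcomm : ∀ a b : G, a * b = b * a := by
        intro a b
        exact hcommV a (by rw [hPtop]; trivial) b (by rw [hPtop]; trivial)
      have hZ : (Subgroup.zpowers x).Normal := by
        refine ⟨fun n hn g => ?_⟩
        have : g * n * g⁻¹ = n := by
          rw [hcomm g n, mul_assoc, mul_inv_cancel, mul_one]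
        rw [this]; exact hn
      have hcz : Nat.card (Subgroup.zpowers x) = 2 := by
        rw [Nat.card_zpowers, hx]
      rcases hZ.eq_bot_or_eq_top with h' | h'
      · rw [h', Subgroup.card_bot] at hcz
        norm_num at hcz
      · rw [h', Subgroup.card_top] at hcz
        rw [hPtop, Subgroup.card_top] at hV4
        omega
    · rw [htop] at hN
      have := hN.disjoint.eq_bot
      rw [top_inf_eq, hP] at this
      rw [this, Subgroup.card_bot] at hV4
      norm_num at hV4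
  rw [SetLike.not_le_iff_exists] at hNC
  obtain ⟨n, hnN, hnc⟩ := hNC
  have hnorm : ∀ w : G, w ∈ S₀ → n * w * n⁻¹ ∈ S₀ := by
    intro w hw
    have := (Subgroup.mem_normalizer_iff.mp hnN w).mp (by rw [hP]; exact hw)
    rwa [hP] at this
  have hfix : ∀ w : G, w ∈ S₀ → w ≠ 1 → n * w * n⁻¹ ≠ w := by
    intro w hw hw1 h
    exact hnc (Cfsg.Agent.Lib.Helper6.Q8.centralizes_of_fixes_involution P hPK w
      (by rw [hP]; exact hw)
      (Cfsg.Agent.Lib.Helper2.FourGroup.orderOf_of_mem S₀ hw hw1) n hnN h)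
  have hconj1 : ∀ w : G, w ≠ 1 → n * w * n⁻¹ ≠ 1 := by
    intro w hw1 h
    apply hw1
    have : w = n⁻¹ * (n * w * n⁻¹) * n := by group
    rw [this, h]
    group
  obtain ⟨b, hb⟩ : ∃ b : G, b = n * x * n⁻¹ := ⟨_, rfl⟩
  have hbP : b ∈ S₀ := by rw [hb]; exact hnorm x hxV
  have hb1 : b ≠ 1 := by rw [hb]; exact hconj1 x hx1
  have hba : b ≠ x := by rw [hb]; exact hfix x hxV hx1
  obtain ⟨c, hc⟩ : ∃ c : G, c = n * b * n⁻¹ := ⟨_, rfl⟩
  have hcP : c ∈ S₀ := by rw [hc]; exact hnorm b hbP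
  have hc1 : c ≠ 1 := by rw [hc]; exact hconj1 b hb1
  have hcb : c ≠ b := by rw [hc]; exact hfix b hbP hb1
  have hca : c ≠ x := by
    intro hca
    have habP : x * b ∈ S₀ := Subgroup.mul_mem _ hxV hbP
    have hab1 : x * b ≠ 1 := by
      intro h
      apply hba
      have h2 := hsq x hxV
      have : b = x⁻¹ := eq_inv_of_mul_eq_one_right h
      have h3 : x⁻¹ = x := inv_eq_of_mul_eq_one_right h2
      rw [this, h3]
    apply hfix (x * b) habP hab1
    have : n * (x * b) * n⁻¹ = (n * x * n⁻¹) * (n * b * n⁻¹) := by group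
    rw [this, ← hb, ← hc, hca]
    exact hcommV b hbP x hxV
  have hcab : c = x * b := by
    rcases Cfsg.Agent.Lib.Helper2.FourGroup.mem_cases S₀ hxV hbP hx1 hb1
      (Ne.symm hba) hcP with h | h | h | h
    · exact absurd h hc1
    · exact absurd h hca
    · exact absurd h hcb
    · exact h
  have hfus : ∀ v ∈ S₀, v ≠ 1 → ∃ h : G, (∀ w ∈ S₀, h * w * h⁻¹ ∈ S₀) ∧ h * x * h⁻¹ = v := by
    intro v hv hv1
    rcases Cfsg.Agent.Lib.Helper2.FourGroup.mem_cases S₀ hxV hbP hx1 hb1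
      (Ne.symm hba) hv with h | h | h | h
    · exact absurd h hv1
    · refine ⟨1, fun w hw => by simpa using hw, ?_⟩
      rw [h]; group
    · refine ⟨n, hnorm, ?_⟩
      rw [h, hb]
    · refine ⟨n * n, ?_, ?_⟩
      · intro w hw
        have h1 := hnorm _ (hnorm w hw)
        have h2 : n * n * w * (n * n)⁻¹ = n * (n * w * n⁻¹) * n⁻¹ := by group
        rw [h2]; exact h1
      · rw [h, ← hcab, hc, hb]
        group
  refine ⟨⟨K0.map C.subtype, hKodd, ?_, ?_, hfus⟩⟩
  · intro v hv ρ hρ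
    exact hCcent ρ (hKC ρ hρ) v hv
  · intro a ha
    have haC : a ∈ C := (hmemC a).mpr ha
    obtain ⟨⟨⟨m, hm⟩, ⟨k, hk⟩⟩, hmk⟩ := hK0.2 ⟨a, haC⟩
    have hmk' : m * k = ⟨a, haC⟩ := hmk
    refine ⟨(m : G), ?_, (k : G), ?_, ?_⟩
    · have hm2 : m ∈ N := hm
      rw [hNdef, Subgroup.mem_subgroupOf] at hm2
      exact hm2
    · exact Subgroup.mem_map.mpr ⟨k, hk, rfl⟩
    · have := congrArg Subtype.val hmk'
      rw [Subgroup.coe_mul] at this
      exact this.symm

/-- S3278 -/
theorem main {G : Type*} [Group G] [Finite G] [IsSimpleGroup G] (x : G) (hx : orderOf x = 2)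
    (S₀ : Subgroup G) (hle : S₀ ≤ Subgroup.centralizer ({x} : Set G)) (hK : IsKleinFour ↥S₀)
    (hodd : ¬ 2 ∣ S₀.relIndex (Subgroup.centralizer ({x} : Set G)))
    (hn : (S₀.subgroupOf (Subgroup.centralizer ({x} : Set G))).Normal) :
    Nonempty (G ≃* ↥(alternatingGroup (Fin 5))) := by
  obtain ⟨L⟩ := exists_loc x hx S₀ hle hK hodd hn
  exact main_of_loc x hx S₀ hle hK hodd L

end Cfsg.Agent.Lib.Helper1.V4c
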