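import Mathlib
import Cfsg.Prelude.Def_ChevStructure
import Cfsg.Agent.Lib.Helper1.ChevRootFill

set_option autoImplicit false

/-! S2244 unit U4 (`full_of_mem`), in the stub shape. -/

namespace Cfsg.Agent.Lib.Helper1.WC

open Cfsg Cfsg.Lie Cfsg.Agent.Lib.Helper5.ChevStruct Cfsg.Agent.Lib.Helper5.ChevSym

variable {F : Type*} [Field F]

theorem full_of_mem [Fintype F] (D : ChevalleyDatum) (hD : D ∈ Seven)
    (X : Subgroup (GL D.Idx F))
    (hH : ∀ h ∈ D.diagonalSubgroup F, ∀ x ∈ X, h * x * h⁻¹ ∈ X)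
    (k : ℕ) (hk : D.IsPosRoot k) (t : F) (ht : t ≠ 0) (hx : xGL D hD k t ∈ X) :
    ∀ t' : F, xGL D hD k t' ∈ X :=
  Cfsg.Agent.Lib.Helper1.ChevRootFill.root_fill D hD X hH k hk.1 t ht hx

end Cfsg.Agent.Lib.Helper1.WC
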