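import Mathlib
import Cfsg.Prelude.Def_ChevStructure
import Cfsg.Agent.Lib.Helper5.ChevBruhat
import Cfsg.Agent.Lib.Helper5.ChevBN
import Cfsg.Agent.Lib.Helper5.ChevNConj
import Cfsg.Agent.Lib.Helper5.ChevWCount
import Cfsg.Agent.Lib.Helper5.ChevWTbl
import Cfsg.Agent.Lib.Helper5.ChevUOrd
import Cfsg.Agent.Lib.Helper7.ChCentB

set_option autoImplicit false

/-!
Stabiliser chains in the Weyl group of a Chevalley datum, part A (S4281 farm, unit CHAIN):
action equality of words, Schreier's lemma for words, the additivity of the `t`-length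
`ℓ_t(x y) = ℓ_t(x) + ℓ_t(y)` for a coset representative `x` and an element `y` of the stabiliser,
and the closure properties of the words of the stabiliser.
-/

namespace Cfsg.Agent.Lib.Helper1.WChain

open Cfsg Cfsg.Lie Cfsg.Agent.Lib.Helper5.ChevStruct Cfsg.Agent.Lib.Helper5.ChevSym
  Cfsg.Agent.Lib.Helper7.Ch2G Cfsg.Agent.Lib.Helper7.ChCent

/-- two words act in the same way on the roots -/
def ActEq (D : ChevalleyDatum) (a b : List ℕ) : Prop := ∀ r < D.nroots, wAct D a r = wAct D b r

theorem ActEq.refl (D : ChevalleyDatum) (a : List ℕ) : ActEq D a a := fun _ _ => rfl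

theorem ActEq.symm {D : ChevalleyDatum} {a b : List ℕ} (h : ActEq D a b) : ActEq D b a :=
  fun r hr => (h r hr).symm

theorem ActEq.trans {D : ChevalleyDatum} {a b c : List ℕ} (h : ActEq D a b) (h' : ActEq D b c) :
    ActEq D a c := fun r hr => (h r hr).trans (h' r hr)

theorem ActEq.append_left {D : ChevalleyDatum} (x : List ℕ) {a b : List ℕ} (h : ActEq D a b) :
    ActEq D (x ++ a) (x ++ b) := by
  intro r hr
  rw [wAct_append, wAct_append, h r hr]

theorem ActEq.append_right {D : ChevalleyDatum} (hD : D ∈ Seven) {a b : List ℕ} (y : List ℕ)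
    (hy : Wd D y) (h : ActEq D a b) : ActEq D (a ++ y) (b ++ y) := by
  intro r hr
  rw [wAct_append, wAct_append]
  exact h _ (wAct_lt D hD y hy r hr)

theorem ActEq.cancel_left {D : ChevalleyDatum} (hD : D ∈ Seven) (x : List ℕ) (hx : Wd D x)
    {a b : List ℕ} (ha : Wd D a) (hb : Wd D b) (h : ActEq D (x ++ a) (x ++ b)) : ActEq D a b := by
  intro r hr
  have h1 := h r hr
  rw [wAct_append, wAct_append] at h1
  exact wAct_injective D hD x hx _ _ (wAct_lt D hD a ha r hr) (wAct_lt D hD b hb r hr) h1

/-- the concatenations of words of the list `G` -/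
def WordsOf (G : List (List ℕ)) (w : List ℕ) : Prop :=
  ∃ l : List (List ℕ), (∀ g ∈ l, g ∈ G) ∧ w = l.flatten

theorem WordsOf.nil (G : List (List ℕ)) : WordsOf G [] := ⟨[], by simp, rfl⟩

theorem WordsOf.append {G : List (List ℕ)} {a b : List ℕ} (ha : WordsOf G a) (hb : WordsOf G b) :
    WordsOf G (a ++ b) := by
  obtain ⟨l, hl, rfl⟩ := ha
  obtain ⟨m, hm, rfl⟩ := hb
  refine ⟨l ++ m, ?_, by rw [List.flatten_append]⟩
  intro g hg
  rcases List.mem_append.1 hg with h | h
  exacts [hl g h, hm g h]

theorem WordsOf.of_mem {G : List (List ℕ)} {g : List ℕ} (hg : g ∈ G) : WordsOf G g :=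
  ⟨[g], by simpa using hg, by simp⟩

theorem WordsOf.eq_nil {w : List ℕ} (h : WordsOf [] w) : w = [] := by
  obtain ⟨l, hl, rfl⟩ := h
  cases l with
  | nil => rfl
  | cons g l => exact absurd (hl g (List.mem_cons_self ..)) (by simp)

theorem WordsOf.wd {D : ChevalleyDatum} {G : List (List ℕ)} (hG : ∀ g ∈ G, Wd D g) {w : List ℕ}
    (h : WordsOf G w) : Wd D w := by
  obtain ⟨l, hl, rfl⟩ := h
  intro i hi
  obtain ⟨g, hg, hig⟩ := List.mem_flatten.1 hi
  exact hG g (hl g hg) i hig

/-- a property of words that holds for the words of `G` and is closed under concatenation holds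
for the concatenations of words of `G` -/
theorem WordsOf.induction {G : List (List ℕ)} (p : List ℕ → Prop) (h0 : p [])
    (hG : ∀ g ∈ G, p g) (happ : ∀ a b, p a → p b → p (a ++ b)) {w : List ℕ} (h : WordsOf G w) :
    p w := by
  obtain ⟨l, hl, rfl⟩ := h
  induction l with
  | nil => exact h0
  | cons g l ih =>
    rw [List.flatten_cons]
    exact happ _ _ (hG g (hl g (List.mem_cons_self ..)))
      (ih fun g' hg' => hl g' (List.mem_cons_of_mem _ hg'))

/-- every word is a concatenation of letters -/
theorem wordsOf_letters (D : ChevalleyDatum) (w : List ℕ) (hw : Wd D w) :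
    WordsOf ((List.range D.rank).map fun i => [i]) w := by
  induction w with
  | nil => exact WordsOf.nil _
  | cons i w ih =>
    have h1 : WordsOf ((List.range D.rank).map fun i => [i]) [i] :=
      WordsOf.of_mem (List.mem_map.2 ⟨i, List.mem_range.2 hw.head, rfl⟩)
    exact (h1.append (ih hw.tail))

/-- **Schreier's lemma** for words: if for every generator `g` and every representative `x` the
word `g x` acts as a representative `x'` times a generator of the subgroup (or `1`), then every
word in the generators acts as a representative times a word of the subgroup -/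
theorem schreier {D : ChevalleyDatum} (hD : D ∈ Seven) (G X S : List (List ℕ))
    (hX0 : [] ∈ X) (hS : ∀ s ∈ S, Wd D s)
    (htbl : ∀ g ∈ G, ∀ x ∈ X, ∃ x' ∈ X,
      ActEq D (g ++ x) x' ∨ ∃ s ∈ S, ActEq D (g ++ x) (x' ++ s)) :
    ∀ w, WordsOf G w → ∃ x ∈ X, ∃ y, WordsOf S y ∧ ActEq D w (x ++ y) := by
  rintro w ⟨l, hl, rfl⟩
  induction l with
  | nil => exact ⟨[], hX0, [], WordsOf.nil _, ActEq.refl _ _⟩
  | cons g l ih =>
    obtain ⟨x, hx, y, hy, e⟩ := ih fun g' hg' => hl g' (List.mem_cons_of_mem _ hg')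
    have hyw : Wd D y := hy.wd hS
    obtain ⟨x', hx', h⟩ := htbl g (hl g (List.mem_cons_self ..)) x hx
    rw [List.flatten_cons]
    have e1 : ActEq D (g ++ l.flatten) ((g ++ x) ++ y) := by
      rw [List.append_assoc]
      exact e.append_left g
    rcases h with h | ⟨s, hs, h⟩
    · exact ⟨x', hx', y, hy, e1.trans (h.append_right hD y hyw)⟩
    · refine ⟨x', hx', s ++ y, (WordsOf.of_mem hs).append hy, e1.trans ?_⟩
      rw [← List.append_assoc]
      exact h.append_right hD y hyw

end Cfsg.Agent.Lib.Helper1.WChain
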