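import Mathlib
import Cfsg.Agent.Lib.Helper1.WChainA

set_option autoImplicit false

/-!
Stabiliser chains, part B (S4281 farm, unit CHAIN): the `t`-length `ℓ_t`, its additivity, and the
closure properties of the words of a stabiliser.
-/

namespace Cfsg.Agent.Lib.Helper1.WChain

open Cfsg Cfsg.Lie Cfsg.Agent.Lib.Helper5.ChevStruct Cfsg.Agent.Lib.Helper5.ChevSym
  Cfsg.Agent.Lib.Helper7.Ch2G Cfsg.Agent.Lib.Helper7.ChCent

/-- the positive roots on which `t = h_λ(-1)` acts trivially -/
def Aset (D : ChevalleyDatum) (lam : Fin D.rank → ℤ) : Finset ℕ := evenPart D lam (posT D)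

theorem mem_Aset (D : ChevalleyDatum) (lam : Fin D.rank → ℤ) (r : ℕ) :
    r ∈ Aset D lam ↔ D.IsPosRoot r ∧ Even (pairLam D lam r) := by
  unfold Aset evenPart
  rw [Finset.mem_filter, mem_posT]

/-- the `t`-length of a word -/
def cnt (D : ChevalleyDatum) (lam : Fin D.rank → ℤ) (u : List ℕ) : ℕ :=
  (evenPart D lam (negSet D u)).card

/-- the indicator of the roots made negative -/
def ind (D : ChevalleyDatum) (u : List ℕ) (r : ℕ) : ℕ :=
  if D.IsPosRoot (wAct D u r) then 0 else 1

theorem cnt_eq_sum (D : ChevalleyDatum) (lam : Fin D.rank → ℤ) (u : List ℕ) :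
    cnt D lam u = ∑ r ∈ Aset D lam, ind D u r := by
  classical
  have e : evenPart D lam (negSet D u)
      = (Aset D lam).filter fun r => ¬ D.IsPosRoot (wAct D u r) := by
    ext r
    unfold evenPart
    rw [Finset.mem_filter, Finset.mem_filter, mem_Aset, mem_negSet]
    tauto
  unfold cnt ind
  rw [e, Finset.card_filter]
  apply Finset.sum_congr rfl
  intro r _
  by_cases h : D.IsPosRoot (wAct D u r) <;> simp [h]

/-- **additivity of the `t`-length**: `x` maps the positive roots `P` of the stabiliser to positive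
roots, `y` preserves `±P` and the remaining positive even roots -/
theorem cnt_append (D : ChevalleyDatum) (hD : D ∈ Seven) (lam : Fin D.rank → ℤ) (P : Finset ℕ)
    (hP : P ⊆ Aset D lam) (x y : List ℕ) (hx : Wd D x) (hy : Wd D y)
    (hxP : ∀ r ∈ P, D.IsPosRoot (wAct D x r))
    (hyP : ∀ r ∈ P, wAct D y r ∈ P ∨ D.neg (wAct D y r) ∈ P)
    (hyQ : ∀ r ∈ Aset D lam \ P, wAct D y r ∈ Aset D lam \ P) :
    cnt D lam (x ++ y) = cnt D lam x + cnt D lam y := by
  classical
  have hpos : ∀ r ∈ Aset D lam, D.IsPosRoot r := fun r hr => ((mem_Aset D lam r).1 hr).1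
  rw [cnt_eq_sum, cnt_eq_sum, cnt_eq_sum, ← Finset.sum_sdiff hP, ← Finset.sum_sdiff hP,
    ← Finset.sum_sdiff hP (f := ind D y)]
  -- the four partial sums
  have h1 : ∑ r ∈ P, ind D x r = 0 := by
    apply Finset.sum_eq_zero
    intro r hr
    unfold ind
    rw [if_pos (hxP r hr)]
  have h2 : ∑ r ∈ Aset D lam \ P, ind D y r = 0 := by
    apply Finset.sum_eq_zero
    intro r hr
    unfold ind
    rw [if_pos (hpos _ (Finset.mem_sdiff.1 (hyQ r hr)).1)]
  have h3 : ∑ r ∈ P, ind D (x ++ y) r = ∑ r ∈ P, ind D y r := by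
    apply Finset.sum_congr rfl
    intro r hr
    have hr' : r < D.nroots := (hpos r (hP hr)).1
    have hyr : wAct D y r < D.nroots := wAct_lt D hD y hy r hr'
    unfold ind
    rw [wAct_append]
    rcases hyP r hr with h | h
    · rw [if_pos (hxP _ h), if_pos (hpos _ (hP h))]
    · have hs : D.IsPosRoot (D.neg (wAct D y r)) := hpos _ (hP h)
      have e1 : D.neg (D.neg (wAct D y r)) = wAct D y r := (neg_lt D hD _ hyr).2.2
      have n1 : ¬ D.IsPosRoot (wAct D y r) := by
        rw [← e1]
        exact not_pos_neg D hD _ hs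
      have n2 : ¬ D.IsPosRoot (wAct D x (wAct D y r)) := by
        rw [← e1, wAct_neg D hD x hx _ hs.1]
        exact not_pos_neg D hD _ (hxP _ h)
      rw [if_neg n1, if_neg n2]
  have h4 : ∑ r ∈ Aset D lam \ P, ind D (x ++ y) r = ∑ r ∈ Aset D lam \ P, ind D x r := by
    have himg : (Aset D lam \ P).image (wAct D y) = Aset D lam \ P := by
      apply Finset.eq_of_subset_of_card_le
      · intro s hs
        obtain ⟨r, hr, rfl⟩ := Finset.mem_image.1 hs
        exact hyQ r hr
      · rw [Finset.card_image_of_injOn]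
        intro a ha b hb hab
        exact wAct_injective D hD y hy a b (hpos _ (Finset.mem_sdiff.1 ha).1).1
          (hpos _ (Finset.mem_sdiff.1 hb).1).1 hab
    have hinj : Set.InjOn (wAct D y) ↑(Aset D lam \ P) := by
      intro a ha b hb hab
      exact wAct_injective D hD y hy a b (hpos _ (Finset.mem_sdiff.1 ha).1).1
        (hpos _ (Finset.mem_sdiff.1 hb).1).1 hab
    nth_rewrite 2 [← himg]
    rw [Finset.sum_image hinj]
    apply Finset.sum_congr rfl
    intro r _
    unfold ind
    rw [wAct_append]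
  rw [h1, h2, h3, h4]
  ring

/-- the words of a stabiliser: they fix the base root `v`, preserve `±P` and preserve the positive
even roots outside `P` -/
structure Good (D : ChevalleyDatum) (lam : Fin D.rank → ℤ) (P : Finset ℕ) (v : ℕ) (u : List ℕ) :
    Prop where
  fix : wAct D u v = v
  presP : ∀ r ∈ P, wAct D u r ∈ P ∨ D.neg (wAct D u r) ∈ P
  presQ : ∀ r ∈ Aset D lam \ P, wAct D u r ∈ Aset D lam \ P

theorem Good.nil (D : ChevalleyDatum) (lam : Fin D.rank → ℤ) (P : Finset ℕ) (v : ℕ) :
    Good D lam P v [] :=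
  ⟨rfl, fun _ hr => Or.inl hr, fun _ hr => hr⟩

theorem Good.append {D : ChevalleyDatum} (hD : D ∈ Seven) {lam : Fin D.rank → ℤ} {P : Finset ℕ}
    (hP : P ⊆ Aset D lam) {v : ℕ} {x y : List ℕ} (hx : Wd D x) (hy : Wd D y)
    (gx : Good D lam P v x) (gy : Good D lam P v y) : Good D lam P v (x ++ y) := by
  have hpos : ∀ r ∈ Aset D lam, D.IsPosRoot r := fun r hr => ((mem_Aset D lam r).1 hr).1
  refine ⟨?_, ?_, ?_⟩
  · rw [wAct_append, gy.fix, gx.fix]
  · intro r hr
    have hr' : r < D.nroots := (hpos r (hP hr)).1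
    have hyr : wAct D y r < D.nroots := wAct_lt D hD y hy r hr'
    rw [wAct_append]
    rcases gy.presP r hr with h | h
    · exact gx.presP _ h
    · have hs : D.neg (wAct D y r) < D.nroots := (hpos _ (hP h)).1
      have e1 : D.neg (D.neg (wAct D y r)) = wAct D y r := (neg_lt D hD _ hyr).2.2
      have e2 : wAct D x (wAct D y r) = D.neg (wAct D x (D.neg (wAct D y r))) := by
        rw [← wAct_neg D hD x hx _ hs, e1]
      rcases gx.presP _ h with h' | h'
      · right
        rw [e2, (neg_lt D hD _ (wAct_lt D hD x hx _ hs)).2.2]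
        exact h'
      · left
        rw [e2]
        exact h'
  · intro r hr
    rw [wAct_append]
    exact gx.presQ _ (gy.presQ r hr)

theorem presS0_nil (D : ChevalleyDatum) (lam : Fin D.rank → ℤ) : PresS0 D lam [] :=
  fun _ _ => Iff.rfl

theorem presS0_append {D : ChevalleyDatum} (hD : D ∈ Seven) {lam : Fin D.rank → ℤ}
    {x y : List ℕ} (hy : Wd D y) (px : PresS0 D lam x) (py : PresS0 D lam y) :
    PresS0 D lam (x ++ y) := by
  intro r hr
  rw [wAct_append]
  exact (px _ (wAct_lt D hD y hy r hr)).trans (py r hr)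

theorem presS0_congr {D : ChevalleyDatum} {lam : Fin D.rank → ℤ} {a b : List ℕ}
    (h : ActEq D a b) (pa : PresS0 D lam a) : PresS0 D lam b := by
  intro r hr
  rw [← h r hr]
  exact pa r hr

/-- if `x y` and `y` preserve the parity, then so does `x` -/
theorem presS0_of_append {D : ChevalleyDatum} (hD : D ∈ Seven) {lam : Fin D.rank → ℤ}
    {x y : List ℕ} (hy : Wd D y) (pxy : PresS0 D lam (x ++ y)) (py : PresS0 D lam y) :
    PresS0 D lam x := by
  intro r hr
  have hr' : wAct D y.reverse r < D.nroots := wAct_lt D hD _ hy.reverse r hr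
  have e : wAct D y (wAct D y.reverse r) = r := wAct_reverse D hD y hy r hr
  have h1 := pxy _ hr'
  rw [wAct_append, e] at h1
  have h2 := py _ hr'
  rw [e] at h2
  exact h1.trans h2.symm

end Cfsg.Agent.Lib.Helper1.WChain
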