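import Mathlib

set_option autoImplicit false

/-!
Stabiliser chains (S4281 farm, unit CHAIN): the shapes of the data tables.
-/

namespace Cfsg.Agent.Lib.Helper1.WChain

/-- one level of a stabiliser chain `W_{k-1} > W_k`: with `G` the generators of `W_{k-1}` (the `S`
of the previous level), `X` are the representatives of `W_{k-1} / W_k` (words in the fundamental
reflections, the first one empty), `S` the generators of `W_k = Stab(v)`, `v` the base root, `P` the
positive roots of the subsystem of `W_k`, and `tbl[gi][xi] = (x'i, si)` says that the word
`G[gi] ++ X[xi]` acts as `X[x'i]` (if `si = 0`) or as `X[x'i] ++ S[si - 1]` -/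
structure Lvl where
  X : List (List ℕ)
  S : List (List ℕ)
  v : ℕ
  P : List ℕ
  tbl : List (List (ℕ × ℕ))
deriving Inhabited

/-- the top of a chain, `W > W_t`: `par[r]` is `true` iff `⟨r, λ⟩` is even, `X` are representatives
of `W / W_t` (the first one empty), `S` the generators of `W_t` (the reflections in the simple
system of `Φ_t⁺`), `tbl[i][xi] = (x'i, si)` says that `[i] ++ X[xi]` acts as `X[x'i]` or as
`X[x'i] ++ S[si - 1]`, and `wit[xi]` is a root `r` whose image under `X[xi]` has the other parity
(for `xi ≥ 1`) -/
structure Top where
  par : List Bool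
  X : List (List ℕ)
  S : List (List ℕ)
  tbl : List (List (ℕ × ℕ))
  wit : List ℕ
deriving Inhabited

end Cfsg.Agent.Lib.Helper1.WChain
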