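import Mathlib
import Cfsg.Agent.Lib.Helper1.WChainB
import Cfsg.Agent.Lib.Helper1.WChainData

set_option autoImplicit false

/-!
Stabiliser chains, part C (S4281 farm, unit CHAIN): the list of all products of coset
representatives along a chain covers the group generated by the top generators, without
repetition, and the sum of `q ^ ℓ_t` over it is the product of the sums over the levels.
-/

namespace Cfsg.Agent.Lib.Helper1.WChain

open Cfsg Cfsg.Lie Cfsg.Agent.Lib.Helper5.ChevStruct Cfsg.Agent.Lib.Helper5.ChevSym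
  Cfsg.Agent.Lib.Helper7.Ch2G Cfsg.Agent.Lib.Helper7.ChCent

/-- all concatenations `x_1 ++ x_2 ++ ⋯ ++ x_m` with `x_k` in the `k`-th list -/
def prodWords : List (List (List ℕ)) → List (List ℕ)
  | [] => [[]]
  | X :: Xs => X.flatMap fun x => (prodWords Xs).map fun y => x ++ y

theorem prodWords_cons (X : List (List ℕ)) (Xs : List (List (List ℕ))) :
    prodWords (X :: Xs) = X.flatMap fun x => (prodWords Xs).map fun y => x ++ y := rfl

theorem mem_prodWords_cons (X : List (List ℕ)) (Xs : List (List (List ℕ))) (u : List ℕ) :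
    u ∈ prodWords (X :: Xs) ↔ ∃ x ∈ X, ∃ y ∈ prodWords Xs, u = x ++ y := by
  rw [prodWords_cons, List.mem_flatMap]
  constructor
  · rintro ⟨x, hx, hu⟩
    obtain ⟨y, hy, rfl⟩ := List.mem_map.1 hu
    exact ⟨x, hx, y, hy, rfl⟩
  · rintro ⟨x, hx, y, hy, rfl⟩
    exact ⟨x, hx, List.mem_map.2 ⟨y, hy, rfl⟩⟩

theorem sum_map_flatMap {α β : Type*} (f : β → ℕ) (g : α → List β) (X : List α) :
    ((X.flatMap g).map f).sum = (X.map fun x => ((g x).map f).sum).sum := by
  induction X with
  | nil => rfl
  | cons a X ih =>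
    rw [List.flatMap_cons, List.map_append, List.sum_append, ih, List.map_cons, List.sum_cons]

/-- the facts about one level `W_{k-1} > W_k`, relative to the generators `G` of `W_{k-1}` and the
constraints `cs` coming from the levels above -/
structure LvlOK (D : ChevalleyDatum) (lam : Fin D.rank → ℤ) (cs : List (List ℕ × ℕ))
    (G : List (List ℕ)) (lv : Lvl) : Prop where
  wdX : ∀ x ∈ lv.X, Wd D x
  wdS : ∀ s ∈ lv.S, Wd D s
  nilX : [] ∈ lv.X
  vlt : lv.v < D.nroots
  sch : ∀ g ∈ G, ∀ x ∈ lv.X, ∃ x' ∈ lv.X,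
    ActEq D (g ++ x) x' ∨ ∃ s ∈ lv.S, ActEq D (g ++ x) (x' ++ s)
  inj : lv.X.Pairwise fun a b => wAct D a lv.v ≠ wAct D b lv.v
  posP : ∀ x ∈ lv.X, ∀ r ∈ lv.P.toFinset, D.IsPosRoot (wAct D x r)
  subP : lv.P.toFinset ⊆ Aset D lam
  good : ∀ x ∈ lv.X, ∀ c ∈ cs, Good D lam c.1.toFinset c.2 x
  pres : ∀ x ∈ lv.X, PresS0 D lam x

/-- a chain of levels, starting from the generators `G` -/
inductive ChainOK (D : ChevalleyDatum) (lam : Fin D.rank → ℤ) :
    List (List ℕ × ℕ) → List (List ℕ) → List Lvl → Prop
  | nil (cs : List (List ℕ × ℕ)) : ChainOK D lam cs [] []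
  | cons (cs : List (List ℕ × ℕ)) (G : List (List ℕ)) (lv : Lvl) (ls : List Lvl) :
      LvlOK D lam cs G lv → ChainOK D lam ((lv.P, lv.v) :: cs) lv.S ls →
      ChainOK D lam cs G (lv :: ls)

/-- the list of all products of representatives of a chain -/
def chainWords (ls : List Lvl) : List (List ℕ) := prodWords (ls.map fun lv => lv.X)

/-- the product over the levels of the sums of `q ^ ℓ_t(x)` -/
def chainPoly (D : ChevalleyDatum) (lam : Fin D.rank → ℤ) (q : ℕ) (ls : List Lvl) : ℕ :=
  (ls.map fun lv => (lv.X.map fun x => q ^ cnt D lam x).sum).prod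

theorem chain_main (D : ChevalleyDatum) (hD : D ∈ Seven) (lam : Fin D.rank → ℤ) (q : ℕ) :
    ∀ (ls : List Lvl) (cs : List (List ℕ × ℕ)) (G : List (List ℕ)),
      (∀ c ∈ cs, c.1.toFinset ⊆ Aset D lam) → ChainOK D lam cs G ls →
      (∀ u ∈ chainWords ls, Wd D u ∧ PresS0 D lam u ∧
        ∀ c ∈ cs, Good D lam c.1.toFinset c.2 u) ∧
      (∀ w, WordsOf G w → ∃ u ∈ chainWords ls, ActEq D w u) ∧
      (chainWords ls).Pairwise (fun a b => ¬ ActEq D a b) ∧
      ((chainWords ls).map fun u => q ^ cnt D lam u).sum = chainPoly D lam q ls := by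
  intro ls
  induction ls with
  | nil =>
    intro cs G hcs hch
    cases hch
    refine ⟨?_, ?_, ?_, ?_⟩
    · intro u hu
      have : u = [] := by simpa [chainWords, prodWords] using hu
      subst this
      exact ⟨Wd.nil D, presS0_nil D lam, fun c _ => Good.nil D lam _ _⟩
    · intro w hw
      rw [hw.eq_nil]
      exact ⟨[], by simp [chainWords, prodWords], ActEq.refl _ _⟩
    · simp [chainWords, prodWords]
    · have e0 : cnt D lam [] = 0 := by
        unfold cnt
        rw [Finset.card_eq_zero, Finset.eq_empty_iff_forall_notMem]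
        intro r hr
        unfold evenPart at hr
        have h2 := (mem_negSet D [] r).1 (Finset.mem_filter.1 hr).1
        exact h2.2 h2.1
      simp [chainWords, prodWords, chainPoly, e0]
  | cons lv ls ih =>
    intro cs G hcs hch
    cases hch with
    | cons _ _ _ _ hlv hrest =>
    have hcs' : ∀ c ∈ (lv.P, lv.v) :: cs, c.1.toFinset ⊆ Aset D lam := by
      intro c hc
      rcases List.mem_cons.1 hc with rfl | hc
      · exact hlv.subP
      · exact hcs c hc
    obtain ⟨i1, i2, i3, i4⟩ := ih ((lv.P, lv.v) :: cs) lv.S hcs' hrest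
    have hmem : ∀ u, u ∈ chainWords (lv :: ls) ↔
        ∃ x ∈ lv.X, ∃ y ∈ chainWords ls, u = x ++ y := by
      intro u
      unfold chainWords
      rw [List.map_cons, mem_prodWords_cons]
    refine ⟨?_, ?_, ?_, ?_⟩
    · intro u hu
      obtain ⟨x, hx, y, hy, rfl⟩ := (hmem u).1 hu
      obtain ⟨wy, py, gy⟩ := i1 y hy
      refine ⟨(hlv.wdX x hx).append wy, presS0_append hD wy (hlv.pres x hx) py, ?_⟩
      intro c hc
      exact Good.append hD (hcs c hc) (hlv.wdX x hx) wy (hlv.good x hx c hc)
        (gy c (List.mem_cons_of_mem _ hc))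
    · intro w hw
      obtain ⟨x, hx, y, hy, e⟩ := schreier hD G lv.X lv.S hlv.nilX hlv.wdS hlv.sch w hw
      obtain ⟨u, hu, e'⟩ := i2 y hy
      exact ⟨x ++ u, (hmem _).2 ⟨x, hx, u, hu, rfl⟩, e.trans (e'.append_left x)⟩
    · unfold chainWords
      rw [List.map_cons, prodWords_cons, List.pairwise_flatMap]
      constructor
      · intro x hx
        rw [List.pairwise_map]
        refine i3.imp_of_mem ?_
        intro a b ha hb hab hcon
        exact hab (ActEq.cancel_left hD x (hlv.wdX x hx) (i1 a ha).1 (i1 b hb).1 hcon)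
      · refine hlv.inj.imp ?_
        intro x x' hne a ha b hb hcon
        obtain ⟨y, hy, rfl⟩ := List.mem_map.1 ha
        obtain ⟨y', hy', rfl⟩ := List.mem_map.1 hb
        apply hne
        have h1 := hcon lv.v hlv.vlt
        rw [wAct_append, wAct_append] at h1
        have g1 := ((i1 y hy).2.2 (lv.P, lv.v) (List.mem_cons_self ..)).fix
        have g2 := ((i1 y' hy').2.2 (lv.P, lv.v) (List.mem_cons_self ..)).fix
        simp only at g1 g2
        rw [g1, g2] at h1
        exact h1
    · unfold chainWords chainPoly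
      rw [List.map_cons, List.map_cons, List.prod_cons, prodWords_cons, sum_map_flatMap]
      have i4' : ((prodWords (ls.map fun lv => lv.X)).map fun u => q ^ cnt D lam u).sum
          = chainPoly D lam q ls := i4
      unfold chainPoly at i4'
      rw [← i4', ← List.sum_map_mul_right]
      congr 1
      apply List.map_congr_left
      intro x hx
      rw [List.map_map, ← List.sum_map_mul_left]
      congr 1
      apply List.map_congr_left
      intro y hy
      rw [Function.comp_apply, ← pow_add]
      congr 1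
      have gy := (i1 y hy).2.2 (lv.P, lv.v) (List.mem_cons_self ..)
      exact cnt_append D hD lam lv.P.toFinset hlv.subP x y (hlv.wdX x hx) (i1 y hy).1
        (hlv.posP x hx) gy.presP gy.presQ

end Cfsg.Agent.Lib.Helper1.WChain
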