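import Mathlib
import Cfsg.Agent.Lib.Helper1.WChainC

set_option autoImplicit false

/-!
Stabiliser chains, part D (S4281 farm, unit CHAIN): the order of the centraliser of `h_λ(-1)` from
a chain for the stabiliser `W_t` of the parity function of `λ`.
-/

namespace Cfsg.Agent.Lib.Helper1.WChain

open Cfsg Cfsg.Lie Cfsg.Agent.Lib.Helper5.ChevStruct Cfsg.Agent.Lib.Helper5.ChevSym
  Cfsg.Agent.Lib.Helper7.Ch2G Cfsg.Agent.Lib.Helper7.ChCent

variable {F : Type*} [Field F]

/-- the letters as words -/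
def letters (D : ChevalleyDatum) : List (List ℕ) := (List.range D.rank).map fun i => [i]

/-- the facts about the top `W > W_t` of a chain -/
structure TopOK (D : ChevalleyDatum) (lam : Fin D.rank → ℤ) (X S : List (List ℕ)) : Prop where
  wdS : ∀ s ∈ S, Wd D s
  nilX : [] ∈ X
  sch : ∀ g ∈ letters D, ∀ x ∈ X, ∃ x' ∈ X,
    ActEq D (g ++ x) x' ∨ ∃ s ∈ S, ActEq D (g ++ x) (x' ++ s)
  presS : ∀ s ∈ S, PresS0 D lam s
  notX : ∀ x ∈ X, x ≠ [] → ¬ PresS0 D lam x

/-- the words preserving the parity act as words in the generators of `W_t` -/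
theorem top_cover {D : ChevalleyDatum} (hD : D ∈ Seven) {lam : Fin D.rank → ℤ}
    {X S : List (List ℕ)} (h : TopOK D lam X S) (w : List ℕ) (hw : Wd D w)
    (hp : PresS0 D lam w) : ∃ y, WordsOf S y ∧ ActEq D w y := by
  obtain ⟨x, hx, y, hy, e⟩ := schreier hD (letters D) X S h.nilX h.wdS h.sch w
    (wordsOf_letters D w hw)
  have hy' : Wd D y ∧ PresS0 D lam y := by
    refine WordsOf.induction (fun y => Wd D y ∧ PresS0 D lam y) ⟨Wd.nil D, presS0_nil D lam⟩
      (fun s hs => ⟨h.wdS s hs, h.presS s hs⟩) ?_ hy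
    intro a b ha hb
    exact ⟨ha.1.append hb.1, presS0_append hD hb.1 ha.2 hb.2⟩
  have hx' : PresS0 D lam x := presS0_of_append hD hy'.1 (presS0_congr e hp) hy'.2
  have : x = [] := by
    by_contra hne
    exact h.notX x hx hne hx'
  rw [this, List.nil_append] at e
  exact ⟨y, hy, e⟩

/-- **the order of the centraliser of `h_λ(-1)` from a chain** -/
theorem card_centralizer_of_chain [Fintype F] (hodd : Odd (Fintype.card F))
    (D : ChevalleyDatum) (hD : D ∈ Seven) (lam : Fin D.rank → ℤ) (X S : List (List ℕ))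
    (ls : List Lvl) (htop : TopOK D lam X S) (hch : ChainOK D lam [] S ls) :
    Nat.card ↥(Subgroup.centralizer
      ({(⟨hLam D F (-1) lam, hLam_mem_group D hD _ _⟩ : ↥(D.group F))} : Set ↥(D.group F)))
      = Nat.card ↥(D.diagonalSubgroup F) * Fintype.card F ^ (Aset D lam).card
        * chainPoly D lam (Fintype.card F) ls := by
  obtain ⟨c1, c2, c3, c4⟩ := chain_main D hD lam (Fintype.card F) ls [] S (by simp) hch
  rw [card_centralizer_hLam hodd D hD lam (chainWords ls) (fun w hw => (c1 w hw).1)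
    (fun w hw => (c1 w hw).2.1) ?_ c3]
  · unfold Aset
    rw [← c4]
    rfl
  · intro w hw hp
    obtain ⟨y, hy, e⟩ := top_cover hD htop w hw hp
    obtain ⟨u, hu, e'⟩ := c2 y hy
    exact ⟨u, hu, e.trans e'⟩

end Cfsg.Agent.Lib.Helper1.WChain
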