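import Mathlib
import Cfsg.Agent.Lib.Helper1.WChainD
import Cfsg.Agent.Lib.Helper5.ChevWPoly
import Cfsg.Agent.Lib.Helper6.ChevCentChk

set_option autoImplicit false

/-!
Stabiliser chains, part E (S4281 farm, unit CHAIN): the Boolean checkers of the elementary facts
and their specifications.
-/

namespace Cfsg.Agent.Lib.Helper1.WChain

open Cfsg Cfsg.Lie Cfsg.Agent.Lib.Helper5.ChevStruct Cfsg.Agent.Lib.Helper5.ChevSym
  Cfsg.Agent.Lib.Helper7.Ch2G Cfsg.Agent.Lib.Helper7.ChCent

/-- equality of Booleans -/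
def bEq : Bool → Bool → Bool
  | true, true => true
  | false, false => true
  | _, _ => false

theorem bEq_iff (a b : Bool) : bEq a b = true ↔ a = b := by
  cases a <;> cases b <;> simp [bEq]

/-- membership in a list of numbers -/
def memB (l : List ℕ) (a : ℕ) : Bool := l.any fun b => Nat.beq a b

theorem memB_iff (l : List ℕ) (a : ℕ) : memB l a = true ↔ a ∈ l := by
  unfold memB
  rw [List.any_eq_true]
  constructor
  · rintro ⟨b, hb, h⟩
    rw [Nat.eq_of_beq_eq_true h]
    exact hb
  · intro h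
    exact ⟨a, h, Nat.beq_refl a⟩

/-- positivity of a root index -/
def isPosB (D : ChevalleyDatum) (r : ℕ) : Bool := Nat.ble (D.nroots / 2) r && Nat.blt r D.nroots

theorem isPosB_iff (D : ChevalleyDatum) (hD : D ∈ Seven) (r : ℕ) :
    isPosB D r = true ↔ D.IsPosRoot r := by
  unfold isPosB
  rw [Bool.and_eq_true, Nat.ble_eq, Nat.blt_eq, isPosRoot_iff D hD]

/-- `par` is the table of the parities of `⟨r, λ⟩` -/
def ParOK (D : ChevalleyDatum) (lam : Fin D.rank → ℤ) (par : List Bool) : Prop :=
  ∀ r < D.nroots, (par.getD r false = true ↔ Even (pairLam D lam r))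

/-- the letters of a word are in range -/
def wdB (D : ChevalleyDatum) (w : List ℕ) : Bool := w.all fun i => Nat.blt i D.rank

theorem wdB_spec (D : ChevalleyDatum) (w : List ℕ) (h : wdB D w = true) : Wd D w := by
  intro i hi
  have := (List.all_eq_true.1 h) i hi
  rwa [Nat.blt_eq] at this

theorem all_wdB_spec (D : ChevalleyDatum) (X : List (List ℕ)) (h : X.all (wdB D) = true) :
    ∀ x ∈ X, Wd D x := fun x hx => wdB_spec D x ((List.all_eq_true.1 h) x hx)

/-- two words act in the same way on the fundamental roots -/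
def actEqB (D : ChevalleyDatum) (a b : List ℕ) : Bool :=
  (List.range D.rank).all fun j => Nat.beq (wActC D a (D.simple j)) (wActC D b (D.simple j))

theorem actEqB_spec (D : ChevalleyDatum) (hD : D ∈ Seven) (a b : List ℕ) (ha : Wd D a)
    (hb : Wd D b) (h : actEqB D a b = true) : ActEq D a b := by
  apply wAct_eq_of_simple D hD a b ha hb
  intro j hj
  have := Nat.eq_of_beq_eq_true ((List.all_eq_true.1 h) j (List.mem_range.2 hj))
  rwa [wActC_eq, wActC_eq] at this

/-- a word preserves the parity table -/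
def presB (D : ChevalleyDatum) (par : List Bool) (x : List ℕ) : Bool :=
  (List.range D.nroots).all fun r => bEq (par.getD (wActC D x r) false) (par.getD r false)

theorem presB_spec (D : ChevalleyDatum) (hD : D ∈ Seven) (lam : Fin D.rank → ℤ) (par : List Bool)
    (hpar : ParOK D lam par) (x : List ℕ) (hx : Wd D x) (h : presB D par x = true) :
    PresS0 D lam x := by
  intro r hr
  have h1 := (bEq_iff _ _).1 ((List.all_eq_true.1 h) r (List.mem_range.2 hr))
  rw [wActC_eq] at h1
  rw [← hpar r hr, ← hpar _ (wAct_lt D hD x hx r hr), h1]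

/-- one entry of a Schreier table -/
def schRow (D : ChevalleyDatum) (G X S : List (List ℕ)) (tbl : List (List (ℕ × ℕ)))
    (gi xi : ℕ) : Bool :=
  Nat.blt ((tbl.getD gi []).getD xi (0, 0)).1 X.length &&
  Nat.ble ((tbl.getD gi []).getD xi (0, 0)).2 S.length &&
  actEqB D (G.getD gi [] ++ X.getD xi [])
    (X.getD ((tbl.getD gi []).getD xi (0, 0)).1 [] ++
      (match ((tbl.getD gi []).getD xi (0, 0)).2 with
        | 0 => []
        | k + 1 => S.getD k []))

/-- the check of a Schreier table -/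
def schB (D : ChevalleyDatum) (G X S : List (List ℕ)) (tbl : List (List (ℕ × ℕ))) : Bool :=
  (List.range G.length).all fun gi => (List.range X.length).all fun xi => schRow D G X S tbl gi xi

theorem exists_getD_of_mem {α : Type*} (l : List α) (d a : α) (h : a ∈ l) :
    ∃ i < l.length, l.getD i d = a := by
  obtain ⟨i, hi, rfl⟩ := List.mem_iff_getElem.1 h
  exact ⟨i, hi, List.getD_eq_getElem _ _ hi⟩

theorem getD_mem_of_lt {α : Type*} (l : List α) (d : α) (i : ℕ) (hi : i < l.length) :
    l.getD i d ∈ l := by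
  rw [List.getD_eq_getElem _ _ hi]
  exact List.getElem_mem hi

theorem schB_spec (D : ChevalleyDatum) (hD : D ∈ Seven) (G X S : List (List ℕ))
    (tbl : List (List (ℕ × ℕ))) (hG : ∀ g ∈ G, Wd D g) (hX : ∀ x ∈ X, Wd D x)
    (hS : ∀ s ∈ S, Wd D s) (h : schB D G X S tbl = true) :
    ∀ g ∈ G, ∀ x ∈ X, ∃ x' ∈ X,
      ActEq D (g ++ x) x' ∨ ∃ s ∈ S, ActEq D (g ++ x) (x' ++ s) := by
  intro g hg x hx
  obtain ⟨gi, hgi, rfl⟩ := exists_getD_of_mem G [] g hg
  obtain ⟨xi, hxi, rfl⟩ := exists_getD_of_mem X [] x hx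
  have h1 := (List.all_eq_true.1 ((List.all_eq_true.1 h) gi (List.mem_range.2 hgi))) xi
    (List.mem_range.2 hxi)
  unfold schRow at h1
  rw [Bool.and_eq_true, Bool.and_eq_true, Nat.blt_eq, Nat.ble_eq] at h1
  obtain ⟨⟨a1, a2⟩, a3⟩ := h1
  obtain ⟨e, he⟩ : ∃ e, e = (tbl.getD gi []).getD xi (0, 0) := ⟨_, rfl⟩
  rw [← he] at a1 a2 a3
  have hx' : X.getD e.1 [] ∈ X := getD_mem_of_lt X [] e.1 a1
  refine ⟨X.getD e.1 [], hx', ?_⟩
  have hgx : Wd D (G.getD gi [] ++ X.getD xi []) := (hG _ hg).append (hX _ hx)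
  cases h2 : e.2 with
  | zero =>
    left
    rw [h2] at a3
    have := actEqB_spec D hD _ _ hgx ((hX _ hx').append (Wd.nil D)) a3
    rwa [List.append_nil] at this
  | succ k =>
    right
    rw [h2] at a3 a2
    have hs : S.getD k [] ∈ S := getD_mem_of_lt S [] k (by omega)
    exact ⟨S.getD k [], hs, actEqB_spec D hD _ _ hgx ((hX _ hx').append (hS _ hs)) a3⟩

/-- the entries of a list of numbers are pairwise distinct -/
def distinctB : List ℕ → Bool
  | [] => true
  | a :: l => l.all (fun b => !(Nat.beq a b)) && distinctB l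

theorem distinctB_spec (l : List ℕ) (h : distinctB l = true) : l.Nodup := by
  induction l with
  | nil => exact List.nodup_nil
  | cons a l ih =>
    unfold distinctB at h
    rw [Bool.and_eq_true, List.all_eq_true] at h
    rw [List.nodup_cons]
    refine ⟨?_, ih h.2⟩
    intro ha
    have := h.1 a ha
    simp at this

/-- the representatives have distinct images of the base root -/
def injB (D : ChevalleyDatum) (X : List (List ℕ)) (v : ℕ) : Bool :=
  distinctB (X.map fun x => wActC D x v)

theorem injB_spec (D : ChevalleyDatum) (X : List (List ℕ)) (v : ℕ) (h : injB D X v = true) :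
    X.Pairwise fun a b => wAct D a v ≠ wAct D b v := by
  have h1 := distinctB_spec _ h
  unfold List.Nodup at h1
  rw [List.pairwise_map] at h1
  refine h1.imp ?_
  intro a b hab
  rwa [wActC_eq, wActC_eq] at hab

/-- the test of a positive even root outside `P` -/
def inQB (D : ChevalleyDatum) (par : List Bool) (P : List ℕ) (r : ℕ) : Bool :=
  isPosB D r && par.getD r false && !memB P r

theorem inQB_iff (D : ChevalleyDatum) (hD : D ∈ Seven) (lam : Fin D.rank → ℤ) (par : List Bool)
    (hpar : ParOK D lam par) (P : List ℕ) (r : ℕ) :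
    inQB D par P r = true ↔ r ∈ Aset D lam \ P.toFinset := by
  unfold inQB
  rw [Bool.and_eq_true, Bool.and_eq_true, Bool.not_eq_true', isPosB_iff D hD, Finset.mem_sdiff,
    mem_Aset, List.mem_toFinset, ← memB_iff, Bool.not_eq_true]
  constructor
  · rintro ⟨⟨h1, h2⟩, h3⟩
    exact ⟨⟨h1, (hpar r h1.1).1 h2⟩, h3⟩
  · rintro ⟨⟨h1, h2⟩, h3⟩
    exact ⟨⟨h1, (hpar r h1.1).2 h2⟩, h3⟩

/-- the check of the properties of a word of the stabiliser with respect to a constraint -/
def goodB (D : ChevalleyDatum) (par : List Bool) (c : List ℕ × ℕ) (x : List ℕ) : Bool :=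
  Nat.beq (wActC D x c.2) c.2 &&
  c.1.all (fun r => memB c.1 (wActC D x r) || memB c.1 (D.neg (wActC D x r))) &&
  (List.range D.nroots).all (fun r => !inQB D par c.1 r || inQB D par c.1 (wActC D x r))

theorem goodB_spec (D : ChevalleyDatum) (hD : D ∈ Seven) (lam : Fin D.rank → ℤ) (par : List Bool)
    (hpar : ParOK D lam par) (c : List ℕ × ℕ) (x : List ℕ) (h : goodB D par c x = true) :
    Good D lam c.1.toFinset c.2 x := by
  unfold goodB at h
  rw [Bool.and_eq_true, Bool.and_eq_true] at h
  obtain ⟨⟨h1, h2⟩, h3⟩ := h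
  refine ⟨?_, ?_, ?_⟩
  · have := Nat.eq_of_beq_eq_true h1
    rwa [wActC_eq] at this
  · intro r hr
    have := (List.all_eq_true.1 h2) r (List.mem_toFinset.1 hr)
    rw [Bool.or_eq_true, memB_iff, memB_iff, wActC_eq] at this
    rcases this with h | h
    · exact Or.inl (List.mem_toFinset.2 h)
    · exact Or.inr (List.mem_toFinset.2 h)
  · intro r hr
    have hr' : r < D.nroots := ((mem_Aset D lam r).1 (Finset.mem_sdiff.1 hr).1).1.1
    have := (List.all_eq_true.1 h3) r (List.mem_range.2 hr')
    rw [Bool.or_eq_true, Bool.not_eq_true', wActC_eq] at this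
    rcases this with h | h
    · have h' := (inQB_iff D hD lam par hpar c.1 r).2 hr
      rw [h] at h'
      exact absurd h' (by simp)
    · exact (inQB_iff D hD lam par hpar c.1 _).1 h

/-- the head of a list of words is the empty word -/
def headNilB : List (List ℕ) → Bool
  | [] :: _ => true
  | _ => false

theorem headNilB_spec (X : List (List ℕ)) (h : headNilB X = true) :
    [] ∈ X ∧ X.getD 0 [] = [] := by
  match X, h with
  | [] :: X, _ => exact ⟨List.mem_cons_self .., rfl⟩

/-- the check of one level -/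
def chkLvl (D : ChevalleyDatum) (par : List Bool) (cs : List (List ℕ × ℕ)) (G : List (List ℕ))
    (lv : Lvl) : Bool :=
  lv.X.all (wdB D) && lv.S.all (wdB D) && headNilB lv.X && Nat.blt lv.v D.nroots &&
  schB D G lv.X lv.S lv.tbl && injB D lv.X lv.v &&
  lv.X.all (fun x => lv.P.all fun r => isPosB D (wActC D x r)) &&
  lv.P.all (fun r => isPosB D r && par.getD r false) &&
  lv.X.all (fun x => cs.all fun c => goodB D par c x) &&
  lv.X.all (presB D par)

theorem chkLvl_spec (D : ChevalleyDatum) (hD : D ∈ Seven) (lam : Fin D.rank → ℤ) (par : List Bool)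
    (hpar : ParOK D lam par) (cs : List (List ℕ × ℕ)) (G : List (List ℕ)) (hG : ∀ g ∈ G, Wd D g)
    (lv : Lvl) (h : chkLvl D par cs G lv = true) : LvlOK D lam cs G lv := by
  unfold chkLvl at h
  simp only [Bool.and_eq_true] at h
  obtain ⟨⟨⟨⟨⟨⟨⟨⟨⟨h1, h2⟩, h3⟩, h4⟩, h5⟩, h6⟩, h7⟩, h8⟩, h9⟩, h10⟩ := h
  have wX := all_wdB_spec D _ h1
  have wS := all_wdB_spec D _ h2
  refine ⟨wX, wS, (headNilB_spec _ h3).1, by rwa [Nat.blt_eq] at h4,
    schB_spec D hD G lv.X lv.S lv.tbl hG wX wS h5, injB_spec D lv.X lv.v h6, ?_, ?_, ?_, ?_⟩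
  · intro x hx r hr
    have := (List.all_eq_true.1 ((List.all_eq_true.1 h7) x hx)) r (List.mem_toFinset.1 hr)
    rwa [isPosB_iff D hD, wActC_eq] at this
  · intro r hr
    have := (List.all_eq_true.1 h8) r (List.mem_toFinset.1 hr)
    rw [Bool.and_eq_true, isPosB_iff D hD] at this
    rw [mem_Aset]
    exact ⟨this.1, (hpar r this.1.1).1 this.2⟩
  · intro x hx c hc
    exact goodB_spec D hD lam par hpar c x
      ((List.all_eq_true.1 ((List.all_eq_true.1 h9) x hx)) c hc)
  · intro x hx
    exact presB_spec D hD lam par hpar x (wX x hx) ((List.all_eq_true.1 h10) x hx)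

/-- the check of a chain -/
def chkChain (D : ChevalleyDatum) (par : List Bool) :
    List (List ℕ × ℕ) → List (List ℕ) → List Lvl → Bool
  | _, G, [] => G.isEmpty
  | cs, G, lv :: ls => chkLvl D par cs G lv && chkChain D par ((lv.P, lv.v) :: cs) lv.S ls

theorem chkChain_spec (D : ChevalleyDatum) (hD : D ∈ Seven) (lam : Fin D.rank → ℤ)
    (par : List Bool) (hpar : ParOK D lam par) :
    ∀ (ls : List Lvl) (cs : List (List ℕ × ℕ)) (G : List (List ℕ)), (∀ g ∈ G, Wd D g) →
      chkChain D par cs G ls = true → ChainOK D lam cs G ls := by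
  intro ls
  induction ls with
  | nil =>
    intro cs G _ h
    unfold chkChain at h
    rw [List.isEmpty_iff] at h
    subst h
    exact ChainOK.nil cs
  | cons lv ls ih =>
    intro cs G hG h
    unfold chkChain at h
    rw [Bool.and_eq_true] at h
    have h1 := chkLvl_spec D hD lam par hpar cs G hG lv h.1
    exact ChainOK.cons cs G lv ls h1 (ih _ _ h1.wdS h.2)

/-- the check of the top of a chain -/
def chkTop (D : ChevalleyDatum) (T : Top) : Bool :=
  T.S.all (wdB D) && T.X.all (wdB D) && headNilB T.X &&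
  schB D (letters D) T.X T.S T.tbl && T.S.all (presB D T.par) &&
  (List.range T.X.length).all (fun xi => Nat.beq xi 0 ||
    (Nat.blt (T.wit.getD xi 0) D.nroots &&
      !bEq (T.par.getD (wActC D (T.X.getD xi []) (T.wit.getD xi 0)) false)
        (T.par.getD (T.wit.getD xi 0) false)))

theorem chkTop_spec (D : ChevalleyDatum) (hD : D ∈ Seven) (lam : Fin D.rank → ℤ) (T : Top)
    (hpar : ParOK D lam T.par) (h : chkTop D T = true) : TopOK D lam T.X T.S := by
  unfold chkTop at h
  simp only [Bool.and_eq_true] at h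
  obtain ⟨⟨⟨⟨⟨h1, h2⟩, h3⟩, h4⟩, h5⟩, h6⟩ := h
  have wS := all_wdB_spec D _ h1
  have wX := all_wdB_spec D _ h2
  have wL : ∀ g ∈ letters D, Wd D g := by
    intro g hg
    unfold letters at hg
    obtain ⟨i, hi, rfl⟩ := List.mem_map.1 hg
    intro j hj
    rw [List.mem_singleton] at hj
    rw [hj]
    exact List.mem_range.1 hi
  refine ⟨wS, (headNilB_spec _ h3).1, schB_spec D hD _ T.X T.S T.tbl wL wX wS h4, ?_, ?_⟩
  · intro s hs
    exact presB_spec D hD lam T.par hpar s (wS s hs) ((List.all_eq_true.1 h5) s hs)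
  · intro x hx hne hp
    obtain ⟨xi, hxi, rfl⟩ := exists_getD_of_mem T.X [] x hx
    have h7 := (List.all_eq_true.1 h6) xi (List.mem_range.2 hxi)
    rw [Bool.or_eq_true] at h7
    rcases h7 with h7 | h7
    · have : xi = 0 := Nat.eq_of_beq_eq_true h7
      rw [this] at hne
      exact hne (headNilB_spec _ h3).2
    · rw [Bool.and_eq_true, Nat.blt_eq, Bool.not_eq_true', wActC_eq] at h7
      obtain ⟨r, hr⟩ : ∃ r, r = T.wit.getD xi 0 := ⟨_, rfl⟩
      rw [← hr] at h7
      have h8 := hp r h7.1
      rw [← hpar r h7.1, ← hpar _ (wAct_lt D hD _ (wX _ hx) r h7.1)] at h8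
      have h9 : bEq (T.par.getD (wAct D (T.X.getD xi []) r) false) (T.par.getD r false) = true := by
        rw [bEq_iff]
        cases ha : T.par.getD (wAct D (T.X.getD xi []) r) false <;>
          cases hb : T.par.getD r false <;> simp_all
      rw [h9] at h7
      exact absurd h7.2 (by simp)

end Cfsg.Agent.Lib.Helper1.WChain
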