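import Mathlib
import Cfsg.Agent.Lib.Helper1.WChainE
import Cfsg.Agent.Lib.Helper5.ChevOrder

set_option autoImplicit false

/-!
Stabiliser chains, part F (S4281 farm, unit CHAIN): the computable `t`-length, the Poincaré
polynomial of the chain, and the final formula for the order of the centraliser.
-/

namespace Cfsg.Agent.Lib.Helper1.WChain

open Cfsg Cfsg.Lie Cfsg.Agent.Lib.Helper5.ChevStruct Cfsg.Agent.Lib.Helper5.ChevSym
  Cfsg.Agent.Lib.Helper7.Ch2G Cfsg.Agent.Lib.Helper7.ChCent

variable {F : Type*} [Field F]

/-- the computable `t`-length of a word -/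
def cntB (D : ChevalleyDatum) (par : List Bool) (x : List ℕ) : ℕ :=
  ((List.range D.nroots).filter fun r =>
    isPosB D r && par.getD r false && !isPosB D (wActC D x r)).length

theorem cntB_eq (D : ChevalleyDatum) (hD : D ∈ Seven) (lam : Fin D.rank → ℤ) (par : List Bool)
    (hpar : ParOK D lam par) (x : List ℕ) : cnt D lam x = cntB D par x := by
  classical
  unfold cnt cntB evenPart negSet
  rw [Finset.filter_filter]
  apply Cfsg.Agent.Lib.Helper6.F4Inv.h6_card_filter_range
  intro r hr
  rw [Bool.and_eq_true, Bool.and_eq_true, Bool.not_eq_true', isPosB_iff D hD, hpar r hr,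
    wActC_eq, ← Bool.not_eq_true, isPosB_iff D hD]
  tauto

/-- the number of positive even roots -/
def posEvenN (D : ChevalleyDatum) (par : List Bool) : ℕ :=
  ((List.range D.nroots).filter fun r => isPosB D r && par.getD r false).length

theorem card_Aset (D : ChevalleyDatum) (hD : D ∈ Seven) (lam : Fin D.rank → ℤ) (par : List Bool)
    (hpar : ParOK D lam par) : (Aset D lam).card = posEvenN D par := by
  classical
  unfold Aset posEvenN evenPart posT
  rw [Finset.filter_filter]
  apply Cfsg.Agent.Lib.Helper6.F4Inv.h6_card_filter_range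
  intro r hr
  rw [Bool.and_eq_true, isPosB_iff D hD, hpar r hr]

/-- the Poincaré polynomial of a chain, as a list of coefficients -/
def chainP (D : ChevalleyDatum) (par : List Bool) (ls : List Lvl) : List ℕ :=
  (ls.map fun lv => histo (lv.X.map (cntB D par))).foldr mulP [1]

theorem evalP_chainP (D : ChevalleyDatum) (hD : D ∈ Seven) (lam : Fin D.rank → ℤ)
    (par : List Bool) (hpar : ParOK D lam par) (q : ℕ) (ls : List Lvl) :
    evalP (chainP D par ls) q = chainPoly D lam q ls := by
  unfold chainP chainPoly
  induction ls with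
  | nil => simp [evalP]
  | cons lv ls ih =>
    rw [List.map_cons, List.foldr_cons, evalP_mulP, ih, List.map_cons, List.prod_cons,
      evalP_histo, List.map_map]
    congr 2
    apply List.map_congr_left
    intro x _
    rw [Function.comp_apply, cntB_eq D hD lam par hpar]

/-- **the order of the centraliser of `h_λ(-1)` from checked tables** -/
theorem card_centralizer_of_chk [Fintype F] (hodd : Odd (Fintype.card F))
    (D : ChevalleyDatum) (hD : D ∈ Seven) (lam : Fin D.rank → ℤ) (T : Top) (ls : List Lvl)
    (hpar : ParOK D lam T.par) (htop : TopOK D lam T.X T.S) (hch : ChainOK D lam [] T.S ls)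
    (N : ℕ) (hN : posEvenN D T.par = N) (ds : List ℕ) (hds : chainP D T.par ls = degPoly ds)
    (hH : Nat.card ↥(D.diagonalSubgroup F) = (Fintype.card F - 1) ^ ds.length) :
    Nat.card ↥(Subgroup.centralizer
      ({(⟨hLam D F (-1) lam, hLam_mem_group D hD _ _⟩ : ↥(D.group F))} : Set ↥(D.group F)))
      = Fintype.card F ^ N * (ds.map fun d => Fintype.card F ^ d - 1).prod := by
  have hq : 1 ≤ Fintype.card F := Fintype.card_pos
  rw [card_centralizer_of_chain hodd D hD lam T.X T.S ls htop hch,
    card_Aset D hD lam T.par hpar, hN, ← evalP_chainP D hD lam T.par hpar, hds, evalP_degPoly,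
    hH, ← pow_length_mul_prod_geom _ hq ds]
  ring

end Cfsg.Agent.Lib.Helper1.WChain
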