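import Mathlib
import Cfsg.Prelude.Def_ChevE8
import Cfsg.Agent.Lib.Helper1.WChainF
import Cfsg.Agent.Lib.Helper1.E8InvDefs
import Cfsg.Agent.Lib.Helper5.ChevTorusKer

set_option autoImplicit false

/-!
Stabiliser chains for `E₈` (S4281 farm, unit CHAIN): the parity table check, the order of the
split torus, and the order of the centraliser of `h_λ(-1)` from checked tables.
-/

namespace Cfsg.Agent.Lib.Helper1.WChain

open Cfsg Cfsg.Lie Cfsg.Agent.Lib.Helper5.ChevStruct Cfsg.Agent.Lib.Helper5.ChevSym
  Cfsg.Agent.Lib.Helper7.Ch2G Cfsg.Agent.Lib.Helper7.ChCent Cfsg.Agent.Lib.Helper1.E8Inv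

variable {F : Type*} [Field F]

/-- the check of a parity table of `E₈` -/
def parB_E8 (lam : Fin chevE8.rank → ℤ) (par : List Bool) : Bool :=
  (List.range chevE8.nroots).all fun r =>
    bEq (par.getD r false) (decide (pairE8 lam r % 2 = 0))

theorem parOK_E8 (lam : Fin chevE8.rank → ℤ) (par : List Bool) (h : parB_E8 lam par = true) :
    ParOK chevE8 lam par := by
  intro r hr
  have h1 := (bEq_iff _ _).1 ((List.all_eq_true.1 h) r (List.mem_range.2 hr))
  rw [h1, decide_eq_true_eq, pairLam_eq, Int.even_iff]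

theorem card_diagonal_E8 [Fintype F] :
    Nat.card ↥(chevE8.diagonalSubgroup F) = (Fintype.card F - 1) ^ 8 := by
  have := card_diagonal_formula (F := F) chevE8 memE8 1 (card_ker_E8 Fˣ)
  rw [one_mul] at this
  rw [this]
  rfl

/-- **the order of the centraliser of `h_λ(-1)` in `E₈(q)` from checked tables** -/
theorem card_centralizer_E8 [Fintype F] (hodd : Odd (Fintype.card F))
    (lam : Fin chevE8.rank → ℤ) (T : Top) (ls : List Lvl)
    (hpar : parB_E8 lam T.par = true) (htop : chkTop chevE8 T = true)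
    (hch : ChainOK chevE8 lam [] T.S ls)
    (N : ℕ) (hN : posEvenN chevE8 T.par = N) (ds : List ℕ)
    (hds : chainP chevE8 T.par ls = degPoly ds) (hlen : ds.length = 8) :
    Nat.card ↥(Subgroup.centralizer
      ({(⟨hLam chevE8 F (-1) lam, hLam_mem_group chevE8 memE8 _ _⟩ : ↥(chevE8.group F))} :
        Set ↥(chevE8.group F)))
      = Fintype.card F ^ N * (ds.map fun d => Fintype.card F ^ d - 1).prod := by
  have hp := parOK_E8 lam T.par hpar
  exact card_centralizer_of_chk hodd chevE8 memE8 lam T ls hp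
    (chkTop_spec chevE8 memE8 lam T hp htop) hch N hN ds hds (by rw [hlen]; exact card_diagonal_E8)

end Cfsg.Agent.Lib.Helper1.WChain
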