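import Mathlib
import Cfsg.Agent.Lib.Helper7.Sharp4

set_option autoImplicit false
set_option maxHeartbeats 4000000
set_option maxRecDepth 100000
set_option linter.unusedVariables false
set_option linter.unusedSectionVars false
set_option linter.style.longLine false
set_option linter.unusedSimpArgs false
set_option linter.deprecated false
set_option linter.style.haveILetI false

/-! # Wielandt / Livingstone–Wagner cluster, part 1: the abstract "rigid Hall" lemma, basics

`X` acts 4-transitively on `Ω`, every element fixing 5 distinct points is trivial and every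
element fixing 4 distinct points has odd order.  We show `|Ω| ≤ 6`, `|Ω| = 7` or `|Ω| = 11`. -/

namespace Cfsg.Agent.Lib.Helper1.Wl

open MulAction Cfsg.Agent.Lib.Helper7.Sharp4

variable {X Ω : Type*} [Group X] [MulAction X Ω]

/-- hypotheses of the rigid Hall lemma -/
structure RH (X Ω : Type*) [Group X] [MulAction X Ω] : Prop where
  t4 : IsMultiplyPretransitive X Ω 4
  o4 : ∀ (g : X) (a b c e : Ω), D4 a b c e → g • a = a → g • b = b → g • c = c → g • e = e →
    Odd (orderOf g)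
  r5 : ∀ (g : X) (a b c e x : Ω), D4 a b c e → x ≠ a → x ≠ b → x ≠ c → x ≠ e →
    g • a = a → g • b = b → g • c = c → g • e = e → g • x = x → g = 1

theorem pow_smul_fix {g : X} {x : Ω} (h : g • x = x) (n : ℕ) : g ^ n • x = x := by
  induction n with
  | zero => simp
  | succ n ih => rw [pow_succ, mul_smul, h, ih]

theorem pow_odd_smul {g : X} {x : Ω} (h : g • g • x = x) {r : ℕ} (hr : Odd r) :
    g ^ r • x = g • x := by
  obtain ⟨s, rfl⟩ := hr
  have h2 : (g * g) • x = x := by rw [mul_smul, h]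
  have : g ^ (2 * s + 1) = g * (g * g) ^ s := by
    rw [pow_succ', pow_mul, pow_two]
  rw [this, mul_smul, pow_smul_fix h2]

theorem odd_order_no_swap {g : X} (hodd : Odd (orderOf g)) {p q : Ω} (hpq : p ≠ q)
    (h1 : g • p = q) (h2 : g • q = p) : False := by
  have := pow_odd_smul (g := g) (x := p) (by rw [h1, h2]) hodd
  rw [pow_orderOf_eq_one, one_smul, h1] at this
  exact hpq this

theorem exists_invol_pow (H : RH X Ω) {g : X} {a b c e : Ω} (hD : D4 a b c e)
    (ha : g • g • a = a) (hb : g • g • b = b) (hc : g • g • c = c) (he : g • g • e = e) :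
    ∃ r : ℕ, Odd r ∧ g ^ r * g ^ r = 1 ∧ ∀ x : Ω, g • g • x = x → g ^ r • x = g • x := by
  have hodd : Odd (orderOf (g * g)) := H.o4 (g * g) a b c e hD (by rw [mul_smul, ha])
    (by rw [mul_smul, hb]) (by rw [mul_smul, hc]) (by rw [mul_smul, he])
  refine ⟨orderOf (g * g), hodd, ?_, fun x hx => pow_odd_smul hx hodd⟩
  rw [← (Commute.refl g).mul_pow, pow_orderOf_eq_one]

theorem D4_swap12 {a b c e : Ω} (hD : D4 a b c e) : D4 b a c e :=
  ⟨hD.1.symm, hD.2.2.2.1, hD.2.2.2.2.1, hD.2.1, hD.2.2.1, hD.2.2.2.2.2⟩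

/-- `D4 a b c e → D4 c e a b` -/
theorem D4_rot {a b c e : Ω} (hD : D4 a b c e) : D4 c e a b :=
  ⟨hD.2.2.2.2.2, hD.2.1.symm, hD.2.2.2.1.symm, hD.2.2.1.symm, hD.2.2.2.2.1.symm, hD.1⟩

theorem exists_invol (H : RH X Ω) {a b c e : Ω} (hD : D4 a b c e) :
    ∃ t : X, t * t = 1 ∧ t • a = b ∧ t • b = a ∧ t • c = c ∧ t • e = e := by
  obtain ⟨g, h1, h2, h3, h4⟩ := trans4 H.t4 hD (D4_swap12 hD)
  obtain ⟨r, hr, hrr, hx⟩ := exists_invol_pow H hD (g := g) (by rw [h1, h2]) (by rw [h2, h1])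
    (by rw [h3, h3]) (by rw [h4, h4])
  exact ⟨g ^ r, hrr, by rw [hx a (by rw [h1, h2]), h1], by rw [hx b (by rw [h2, h1]), h2],
    by rw [hx c (by rw [h3, h3]), h3], by rw [hx e (by rw [h4, h4]), h4]⟩

theorem invol_fix4_false (H : RH X Ω) {t : X} (ht : t * t = 1) (ht1 : t ≠ 1) {a b c e : Ω}
    (hD : D4 a b c e) (ha : t • a = a) (hb : t • b = b) (hc : t • c = c) (he : t • e = e) :
    False := by
  have hodd := H.o4 t a b c e hD ha hb hc he
  have h2 : orderOf t = 2 := orderOf_eq_prime (by rw [pow_two, ht]) ht1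
  rw [h2] at hodd
  exact absurd hodd (by decide)

/-- pure group theory: if `t` is an involution and `t * (g₀ t g₀⁻¹)` has odd order, a power of
it times `g₀` centralizes `t`. -/
theorem conj_commute {t g₀ : X} (ht : t * t = 1)
    (hodd : Odd (orderOf (t * (g₀ * t * g₀⁻¹)))) :
    ∃ i : ℕ, Commute ((t * (g₀ * t * g₀⁻¹)) ^ i * g₀) t := by
  obtain ⟨s, hs⟩ : ∃ s : X, s = g₀ * t * g₀⁻¹ := ⟨_, rfl⟩
  rw [← hs] at hodd ⊢
  obtain ⟨h, hh⟩ : ∃ h : X, h = t * s := ⟨_, rfl⟩
  rw [← hh] at hodd ⊢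
  obtain ⟨e, he⟩ := hodd
  have hti : t⁻¹ = t := inv_eq_of_mul_eq_one_right ht
  have hss : s * s = 1 := by
    calc s * s = g₀ * (t * t) * g₀⁻¹ := by rw [hs]; group
      _ = 1 := by rw [ht]; group
  have hsi : s⁻¹ = s := inv_eq_of_mul_eq_one_right hss
  have hinv : t * h * t⁻¹ = h⁻¹ := by
    rw [hh, mul_inv_rev, hsi, hti, ← mul_assoc t t s, ht, one_mul]
  refine ⟨e + 1, ?_⟩
  obtain ⟨u, hu⟩ : ∃ u : X, u = h ^ (e + 1) := ⟨_, rfl⟩
  rw [← hu]
  have huu : u * u = h := by
    rw [hu, ← pow_add]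
    have : e + 1 + (e + 1) = orderOf h + 1 := by omega
    rw [this, pow_succ, pow_orderOf_eq_one, one_mul]
  have htu : t * u * t⁻¹ = u⁻¹ := by
    rw [hu, ← conj_pow, hinv, inv_pow]
  have hs' : s = t * h := by rw [hh, ← mul_assoc, ht, one_mul]
  have hut : u * t = t * u⁻¹ := by
    symm
    calc t * u⁻¹ = t * (t * u * t⁻¹) := by rw [htu]
      _ = (t * t) * u * t⁻¹ := by group
      _ = u * t := by rw [ht, one_mul, hti]
  have key : u * s * u⁻¹ = t := by
    calc u * s * u⁻¹ = u * t * (u * u) * u⁻¹ := by rw [hs', huu]; group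
      _ = t * u⁻¹ * (u * u) * u⁻¹ := by rw [hut]
      _ = t := by group
  show u * g₀ * t = t * (u * g₀)
  have h3 : u * g₀ * t = u * s * u⁻¹ * (u * g₀) := by rw [hs]; group
  rw [h3, key]

/-- Claim 1': if `g₀ t g₀⁻¹` agrees with the involution `t` on four distinct points, then
`g₀` can be adjusted by an element fixing these four points to centralize `t`. -/
theorem exists_commuting_adjust (H : RH X Ω) {t g₀ : X} (ht : t * t = 1) {y₁ y₂ y₃ y₄ : Ω}
    (hD : D4 y₁ y₂ y₃ y₄)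
    (h1 : (g₀ * t * g₀⁻¹) • y₁ = t • y₁) (h2 : (g₀ * t * g₀⁻¹) • y₂ = t • y₂)
    (h3 : (g₀ * t * g₀⁻¹) • y₃ = t • y₃) (h4 : (g₀ * t * g₀⁻¹) • y₄ = t • y₄) :
    ∃ u : X, u • y₁ = y₁ ∧ u • y₂ = y₂ ∧ u • y₃ = y₃ ∧ u • y₄ = y₄ ∧ Commute (u * g₀) t := by
  have hf : ∀ y : Ω, (g₀ * t * g₀⁻¹) • y = t • y → (t * (g₀ * t * g₀⁻¹)) • y = y := by
    intro y hy
    rw [mul_smul, hy, ← mul_smul, ht, one_smul]
  have hodd : Odd (orderOf (t * (g₀ * t * g₀⁻¹))) :=
    H.o4 _ y₁ y₂ y₃ y₄ hD (hf _ h1) (hf _ h2) (hf _ h3) (hf _ h4)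
  obtain ⟨i, hi⟩ := conj_commute ht hodd
  exact ⟨_, pow_smul_fix (hf _ h1) i, pow_smul_fix (hf _ h2) i, pow_smul_fix (hf _ h3) i,
    pow_smul_fix (hf _ h4) i, hi⟩

/-- the centralizer of `t` in the two point stabilizer is transitive on the moved points -/
theorem exists_centralizing (H : RH X Ω) {t : X} (ht : t * t = 1) {α β x y : Ω} (hab : α ≠ β)
    (hta : t • α = β) (htb : t • β = α) (hx : t • x ≠ x) (hxa : x ≠ α) (hxb : x ≠ β)
    (hy : t • y ≠ y) (hya : y ≠ α) (hyb : y ≠ β) :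
    ∃ c : X, Commute c t ∧ c • α = α ∧ c • β = β ∧ c • x = y := by
  have htt : ∀ z : Ω, t • t • z = z := fun z => by rw [← mul_smul, ht, one_smul]
  have hDx : D4 α β x (t • x) := by
    refine ⟨hab, hxa.symm, ?_, hxb.symm, ?_, hx.symm⟩
    · intro h
      apply hxb
      have := congrArg (fun z => t • z) h
      simp only [htt, hta] at this
      exact this.symm
    · intro h
      apply hxa
      have := congrArg (fun z => t • z) h
      simp only [htt, htb] at this
      exact this.symm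
  have hDy : D4 α β y (t • y) := by
    refine ⟨hab, hya.symm, ?_, hyb.symm, ?_, hy.symm⟩
    · intro h
      apply hyb
      have := congrArg (fun z => t • z) h
      simp only [htt, hta] at this
      exact this.symm
    · intro h
      apply hya
      have := congrArg (fun z => t • z) h
      simp only [htt, htb] at this
      exact this.symm
  obtain ⟨g₀, g1, g2, g3, g4⟩ := trans4 H.t4 hDx hDy
  have gi : ∀ {z w : Ω}, g₀ • z = w → g₀⁻¹ • w = z := fun {z w} h => by
    rw [← h, inv_smul_smul]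
  obtain ⟨u, u1, u2, u3, u4, hc⟩ := exists_commuting_adjust H (g₀ := g₀) ht hDy
    (by rw [mul_smul, mul_smul, gi g1, hta, g2])
    (by rw [mul_smul, mul_smul, gi g2, htb, g1])
    (by rw [mul_smul, mul_smul, gi g3, g4])
    (by rw [mul_smul, mul_smul, gi g4, htt, g3, htt])
  exact ⟨u * g₀, hc, by rw [mul_smul, g1, u1], by rw [mul_smul, g2, u2],
    by rw [mul_smul, g3, u3]⟩

end Cfsg.Agent.Lib.Helper1.Wl
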