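import Mathlib
import Cfsg.Agent.Lib.Helper1.Wl1

set_option autoImplicit false
set_option maxHeartbeats 4000000
set_option maxRecDepth 100000
set_option linter.unusedVariables false
set_option linter.unusedSectionVars false
set_option linter.style.longLine false
set_option linter.unusedSimpArgs false
set_option linter.deprecated false
set_option linter.style.haveILetI false

/-! # Wielandt / Livingstone–Wagner cluster, part 2: rigid Hall lemma, counting tools and the
odd case -/

namespace Cfsg.Agent.Lib.Helper1.Wl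

open MulAction Cfsg.Agent.Lib.Helper7.Sharp4

variable {X Ω : Type*} [Group X] [MulAction X Ω]

/-- orbit–stabilizer for a subgroup `K ≤ X` acting on `Ω` -/
theorem card_orbit_inf_stab [Finite X] (K : Subgroup X) (x : Ω) :
    (orbit K x).ncard * Nat.card (K ⊓ stabilizer X x : Subgroup X) = Nat.card K := by
  have h1 : (stabilizer K x).index = (orbit K x).ncard := MulAction.index_stabilizer _ _
  have h2 := Subgroup.index_mul_card (stabilizer K x)
  have e : stabilizer K x ≃ (K ⊓ stabilizer X x : Subgroup X) :=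
    { toFun := fun g => ⟨g.1.1, ⟨g.1.2, g.2⟩⟩
      invFun := fun h => ⟨⟨h.1, h.2.1⟩, h.2.2⟩
      left_inv := fun g => rfl
      right_inv := fun h => rfl }
  rw [← h1, ← Nat.card_congr e, h2]

/-- the centralizer of `t` inside the stabilizer of `α` and `β` -/
def Cab (t : X) (α β : Ω) : Subgroup X where
  carrier := {c | c * t = t * c ∧ c • α = α ∧ c • β = β}
  mul_mem' := by
    rintro a b ⟨ha, ha1, ha2⟩ ⟨hb, hb1, hb2⟩
    refine ⟨?_, by rw [mul_smul, hb1, ha1], by rw [mul_smul, hb2, ha2]⟩
    rw [mul_assoc, hb, ← mul_assoc, ha, mul_assoc]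
  one_mem' := ⟨by simp, one_smul _ _, one_smul _ _⟩
  inv_mem' := by
    rintro a ⟨ha, ha1, ha2⟩
    refine ⟨?_, by rw [inv_smul_eq_iff, ha1], by rw [inv_smul_eq_iff, ha2]⟩
    calc a⁻¹ * t = a⁻¹ * (t * a) * a⁻¹ := by group
      _ = a⁻¹ * (a * t) * a⁻¹ := by rw [ha]
      _ = t * a⁻¹ := by group

theorem mem_Cab {t c : X} {α β : Ω} :
    c ∈ Cab t α β ↔ c * t = t * c ∧ c • α = α ∧ c • β = β := Iff.rfl

/-- elements commuting with `t` preserve the fixed points of `t` -/
theorem smul_fix_of_comm {t c : X} (hc : c * t = t * c) {x : Ω} (hx : t • x = x) :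
    t • c • x = c • x := by
  rw [← mul_smul, ← hc, mul_smul, hx]

/-- elements commuting with `t` preserve the moved points of `t` -/
theorem smul_moved_of_comm {t c : X} (hc : c * t = t * c) {x : Ω} (hx : t • x ≠ x) :
    t • c • x ≠ c • x := by
  intro h
  apply hx
  rw [← mul_smul, ← hc, mul_smul] at h
  exact smul_left_cancel c h

/-- the moved points other than `α`, `β` -/
def Mset (t : X) (α β : Ω) : Set Ω := {x | t • x ≠ x ∧ x ≠ α ∧ x ≠ β}

theorem D4_moved {t : X} (ht : t * t = 1) {α β x : Ω} (hab : α ≠ β)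
    (hta : t • α = β) (htb : t • β = α) (hx : x ∈ Mset t α β) : D4 α β x (t • x) := by
  obtain ⟨hx, hxa, hxb⟩ := hx
  have htt : ∀ z : Ω, t • t • z = z := fun z => by rw [← mul_smul, ht, one_smul]
  refine ⟨hab, hxa.symm, ?_, hxb.symm, ?_, hx.symm⟩
  · intro h
    apply hxb
    have := congrArg (fun z => t • z) h
    simp only [htt, hta] at this
    exact this.symm
  · intro h
    apply hxa
    have := congrArg (fun z => t • z) h
    simp only [htt, htb] at this
    exact this.symm

theorem smul_mem_Mset {t : X} (ht : t * t = 1) {α β x : Ω} (hta : t • α = β) (htb : t • β = α)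
    (hx : x ∈ Mset t α β) : t • x ∈ Mset t α β := by
  obtain ⟨hx, hxa, hxb⟩ := hx
  have htt : ∀ z : Ω, t • t • z = z := fun z => by rw [← mul_smul, ht, one_smul]
  refine ⟨by rw [htt]; exact hx.symm, ?_, ?_⟩
  · intro h
    apply hxb
    have := congrArg (fun z => t • z) h
    simp only [htt, hta] at this
    exact this
  · intro h
    apply hxa
    have := congrArg (fun z => t • z) h
    simp only [htt, htb] at this
    exact this

theorem orbit_Cab_eq (H : RH X Ω) {t : X} (ht : t * t = 1) {α β x₀ : Ω} (hab : α ≠ β)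
    (hta : t • α = β) (htb : t • β = α) (hx₀ : x₀ ∈ Mset t α β) :
    orbit (Cab t α β) x₀ = Mset t α β := by
  ext y
  constructor
  · rintro ⟨⟨c, hc, hca, hcb⟩, rfl⟩
    show c • x₀ ∈ Mset t α β
    refine ⟨smul_moved_of_comm hc hx₀.1, ?_, ?_⟩
    · intro h
      apply hx₀.2.1
      rw [← hca] at h
      exact smul_left_cancel c h
    · intro h
      apply hx₀.2.2
      rw [← hcb] at h
      exact smul_left_cancel c h
  · intro hy
    obtain ⟨c, hc, hca, hcb, hcx⟩ := exists_centralizing H ht hab hta htb hx₀.1 hx₀.2.1 hx₀.2.2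
      hy.1 hy.2.1 hy.2.2
    exact ⟨⟨c, hc.eq, hca, hcb⟩, hcx⟩

section Count

variable [Fintype Ω] [DecidableEq Ω]

variable (Ω) in
/-- fixed points of `t` as a finset -/
def Fixf (t : X) : Finset Ω := Finset.univ.filter (fun x => t • x = x)

theorem mem_Fixf {t : X} {x : Ω} : x ∈ Fixf Ω t ↔ t • x = x := by
  simp [Fixf]

theorem ncard_Mset {t : X} {α β : Ω} (hab : α ≠ β) (hta : t • α = β) (htb : t • β = α) :
    (Mset t α β).ncard + (Fixf Ω t).card + 2 = Fintype.card Ω := by
  classical
  have h1 := Finset.card_filter_add_card_filter_not (s := (Finset.univ : Finset Ω))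
    (fun x => t • x = x)
  have h2 : (Finset.univ.filter (fun x => ¬ t • x = x)) =
      insert α (insert β (Finset.univ.filter (fun x => t • x ≠ x ∧ x ≠ α ∧ x ≠ β))) := by
    ext x
    simp only [Finset.mem_filter, Finset.mem_univ, true_and, Finset.mem_insert]
    constructor
    · intro hx
      by_cases h1 : x = α
      · exact Or.inl h1
      · by_cases h2 : x = β
        · exact Or.inr (Or.inl h2)
        · exact Or.inr (Or.inr ⟨hx, h1, h2⟩)
    · rintro (rfl | rfl | ⟨hx, -, -⟩)
      · rw [hta]; exact hab.symm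
      · rw [htb]; exact hab
      · exact hx
  have h3 : (Mset t α β) = ((Finset.univ.filter (fun x => t • x ≠ x ∧ x ≠ α ∧ x ≠ β) :
      Finset Ω) : Set Ω) := by
    ext x; simp [Mset]
  rw [h3, Set.ncard_coe_finset]
  rw [h2, Finset.card_insert_of_notMem, Finset.card_insert_of_notMem] at h1
  · rw [Finset.card_univ] at h1
    have : Fixf Ω t = Finset.univ.filter (fun x => t • x = x) := rfl
    rw [this]
    omega
  · simp
  · simp [hab]

/-- an involution with two fixed points `p q` and a transposition `(α β)` has 2 or 3 fixed points,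
according to the parity of `|Ω|` -/
theorem card_Fixf (H : RH X Ω) {t : X} (ht : t * t = 1) {α β p q : Ω} (hD : D4 α β p q)
    (hta : t • α = β) (htb : t • β = α) (htp : t • p = p) (htq : t • q = q) :
    ((Fixf Ω t).card = 2 ∧ Even (Fintype.card Ω)) ∨ ((Fixf Ω t).card = 3 ∧ Odd (Fintype.card Ω)) := by
  classical
  have ht1 : t ≠ 1 := by
    rintro rfl
    rw [one_smul] at hta
    exact hD.1 hta
  have hp : p ∈ Fixf Ω t := mem_Fixf.mpr htp
  have hq : q ∈ Fixf Ω t := mem_Fixf.mpr htq
  have hge : 2 ≤ (Fixf Ω t).card := by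
    have : ({p, q} : Finset Ω) ⊆ Fixf Ω t := by
      intro x hx
      simp only [Finset.mem_insert, Finset.mem_singleton] at hx
      rcases hx with rfl | rfl
      · exact hp
      · exact hq
    have h2 := Finset.card_le_card this
    rwa [Finset.card_pair hD.2.2.2.2.2] at h2
  have hle : (Fixf Ω t).card ≤ 3 := by
    by_contra hcon
    push Not at hcon
    have h3 : 1 < (((Fixf Ω t).erase p).erase q).card := by
      rw [Finset.card_erase_of_mem, Finset.card_erase_of_mem hp]
      · omega
      · exact Finset.mem_erase.mpr ⟨hD.2.2.2.2.2.symm, hq⟩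
    obtain ⟨r, hr, r', hr', hrr'⟩ := Finset.one_lt_card.mp h3
    simp only [Finset.mem_erase] at hr hr'
    exact invol_fix4_false H ht ht1 (a := p) (b := q) (c := r) (e := r')
      ⟨hD.2.2.2.2.2, fun h => hr.2.1 h.symm, fun h => hr'.2.1 h.symm, fun h => hr.1 h.symm,
        fun h => hr'.1 h.symm, hrr'⟩ htp htq (mem_Fixf.mp hr.2.2) (mem_Fixf.mp hr'.2.2)
  -- parity
  have hpar : (Fixf Ω t).card ≡ Fintype.card Ω [MOD 2] := by
    haveI : Fact (Nat.Prime 2) := ⟨Nat.prime_two⟩
    have hσ : (MulAction.toPerm t : Equiv.Perm Ω) ^ 2 ^ 1 = 1 := by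
      rw [pow_one, pow_two]
      ext x
      simp only [Equiv.Perm.coe_mul, Function.comp_apply, MulAction.toPerm_apply,
        Equiv.Perm.coe_one, id_eq]
      rw [← mul_smul, ht, one_smul]
    have := Equiv.Perm.card_compl_support_modEq (p := 2) (n := 1) hσ
    have he : (MulAction.toPerm t : Equiv.Perm Ω).supportᶜ = Fixf Ω t := by
      ext x
      simp [Fixf, Equiv.Perm.mem_support]
    rwa [he] at this
  have hcases : (Fixf Ω t).card = 2 ∨ (Fixf Ω t).card = 3 := by omega
  rcases hcases with h | h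
  · left
    refine ⟨h, ?_⟩
    rw [h] at hpar
    have : Fintype.card Ω % 2 = 0 := by
      have := hpar
      unfold Nat.ModEq at this
      omega
    exact Nat.even_iff.mpr this
  · right
    refine ⟨h, ?_⟩
    rw [h] at hpar
    have : Fintype.card Ω % 2 = 1 := by
      have := hpar
      unfold Nat.ModEq at this
      omega
    exact Nat.odd_iff.mpr this

/-- the fixed points of `t` as an invariant subset for `Cab` -/
def FixSub (t : X) (α β : Ω) : SubMulAction (Cab t α β) Ω where
  carrier := {x | t • x = x}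
  smul_mem' := by
    rintro ⟨c, hc, -, -⟩ x hx
    exact smul_fix_of_comm hc hx

theorem card_Cab_dvd [Finite X] (H : RH X Ω) {t : X} (ht : t * t = 1) {α β p q : Ω} (hD : D4 α β p q)
    (hta : t • α = β) (htb : t • β = α) (htp : t • p = p) (htq : t • q = q)
    (hf : (Fixf Ω t).card = 3) : Nat.card (Cab t α β) ∣ 6 := by
  classical
  have hp : p ∈ Fixf Ω t := mem_Fixf.mpr htp
  have hq : q ∈ Fixf Ω t := mem_Fixf.mpr htq
  -- third fixed point
  have h3 : 0 < (((Fixf Ω t).erase p).erase q).card := by
    rw [Finset.card_erase_of_mem, Finset.card_erase_of_mem hp]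
    · omega
    · exact Finset.mem_erase.mpr ⟨hD.2.2.2.2.2.symm, hq⟩
  obtain ⟨r, hr⟩ := Finset.card_pos.mp h3
  simp only [Finset.mem_erase] at hr
  have htr : t • r = r := mem_Fixf.mp hr.2.2
  have hcard : Nat.card (FixSub t α β) = 3 := by
    have e : (FixSub t α β) ≃ ((Fixf Ω t : Finset Ω) : Set Ω) :=
      Equiv.subtypeEquivRight (fun x => by
        show t • x = x ↔ x ∈ ((Fixf Ω t : Finset Ω) : Set Ω)
        rw [Finset.mem_coe, mem_Fixf])
    rw [Nat.card_congr e, Nat.card_coe_set_eq, Set.ncard_coe_finset, hf]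
  have hinj : Function.Injective (MulAction.toPermHom (Cab t α β) (FixSub t α β)) := by
    rw [injective_iff_map_eq_one]
    rintro ⟨c, hc, hca, hcb⟩ h1
    have hfix : ∀ x : Ω, t • x = x → c • x = x := by
      intro x hx
      have := DFunLike.congr_fun h1 (⟨x, hx⟩ : FixSub t α β)
      simp only [MulAction.toPermHom_apply, MulAction.toPerm_apply, Equiv.Perm.coe_one, id_eq] at this
      exact congrArg Subtype.val this
    have : c = 1 := by
      -- c fixes α β p q r
      refine H.r5 c α β p q r hD ?_ ?_ hr.2.1 hr.1 hca hcb (hfix p htp) (hfix q htq) (hfix r htr)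
      · rintro rfl
        rw [hta] at htr
        exact hD.1 htr.symm
      · rintro rfl
        rw [htb] at htr
        exact hD.1 htr
    exact Subtype.ext this
  have := Subgroup.card_dvd_of_injective _ hinj
  rwa [Nat.card_perm, hcard] at this

/-- the odd case: `|Ω| - 5` divides `6` -/
theorem odd_case [Finite X] (H : RH X Ω) {t : X} (ht : t * t = 1) {α β p q : Ω} (hD : D4 α β p q)
    (hta : t • α = β) (htb : t • β = α) (htp : t • p = p) (htq : t • q = q)
    (hf : (Fixf Ω t).card = 3) (hν : 6 ≤ Fintype.card Ω) : (Fintype.card Ω - 5) ∣ 6 := by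
  have hM := ncard_Mset (t := t) hD.1 hta htb
  rw [hf] at hM
  have hMpos : 0 < (Mset t α β).ncard := by omega
  obtain ⟨x₀, hx₀⟩ := (Set.ncard_pos (Set.toFinite _)).mp hMpos
  have horb := orbit_Cab_eq H ht hD.1 hta htb hx₀
  have h1 := card_orbit_inf_stab (Cab t α β) x₀
  rw [horb] at h1
  have h2 := card_Cab_dvd H ht hD hta htb htp htq hf
  have h3 : (Mset t α β).ncard = Fintype.card Ω - 5 := by omega
  rw [h3] at h1
  exact Dvd.dvd.trans ⟨_, h1.symm⟩ h2

end Count

end Cfsg.Agent.Lib.Helper1.Wl
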