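import Mathlib
import Cfsg.Agent.Lib.Helper1.Wl2
import Cfsg.Agent.Lib.Lead.OrbitCount

set_option autoImplicit false
set_option maxHeartbeats 4000000
set_option maxRecDepth 100000
set_option linter.unusedVariables false
set_option linter.unusedSectionVars false
set_option linter.style.longLine false
set_option linter.unusedSimpArgs false
set_option linter.deprecated false
set_option linter.style.haveILetI false

/-! # Wielandt / Livingstone–Wagner cluster, part 3: rigid Hall lemma, the even case and the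
main statement -/

namespace Cfsg.Agent.Lib.Helper1.Wl

open MulAction Cfsg.Agent.Lib.Helper7.Sharp4 Cfsg.Agent.Lib.Lead.OrbitCount

variable {X Ω : Type*} [Group X] [MulAction X Ω]

variable (X) in
/-- four point stabilizer -/
def Fix4 (a b c e : Ω) : Subgroup X :=
  stabilizer X a ⊓ stabilizer X b ⊓ stabilizer X c ⊓ stabilizer X e

theorem mem_Fix4 {a b c e : Ω} {h : X} :
    h ∈ Fix4 X a b c e ↔ h • a = a ∧ h • b = b ∧ h • c = c ∧ h • e = e := by
  simp [Fix4, Subgroup.mem_inf, mem_stabilizer_iff, and_assoc]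

theorem odd_card_Fix4 [Finite X] (H : RH X Ω) {a b c e : Ω} (hD : D4 a b c e) :
    Odd (Nat.card (Fix4 X a b c e)) := by
  by_contra hcon
  rw [Nat.not_odd_iff_even] at hcon
  haveI : Fact (Nat.Prime 2) := ⟨Nat.prime_two⟩
  obtain ⟨x, hx⟩ := exists_prime_orderOf_dvd_card' (G := Fix4 X a b c e) 2 hcon.two_dvd
  have hm := mem_Fix4.mp x.2
  have hodd := H.o4 (x : X) a b c e hD hm.1 hm.2.1 hm.2.2.1 hm.2.2.2
  rw [Subgroup.orderOf_coe, hx] at hodd
  exact absurd hodd (by decide)

section Count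

variable [Fintype Ω] [DecidableEq Ω]

theorem card_four {a b c e : Ω} (hD : D4 a b c e) : ({a, b, c, e} : Finset Ω).card = 4 := by
  obtain ⟨h1, h2, h3, h4, h5, h6⟩ := hD
  rw [Finset.card_insert_of_notMem, Finset.card_insert_of_notMem, Finset.card_insert_of_notMem,
    Finset.card_singleton]
  · simp [h6]
  · simp [h4, h5]
  · simp [h1, h2, h3]

theorem card_Fix4_dvd [Finite X] (H : RH X Ω) {a b c e : Ω} (hD : D4 a b c e) :
    Nat.card (Fix4 X a b c e) ∣ Fintype.card Ω - 4 := by
  classical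
  have hS : ((↑(Finset.univ \ ({a, b, c, e} : Finset Ω)) : Set Ω)).ncard = Fintype.card Ω - 4 := by
    rw [Set.ncard_coe_finset, Finset.card_univ_diff, card_four hD]
  refine dvd_ncard_of_invariant (A := Fix4 X a b c e) (α := Ω) _ _ _ hS ?_ ?_
  · rintro ⟨g, hg⟩ x hx
    have hm := mem_Fix4.mp hg
    simp only [Finset.coe_sdiff, Finset.coe_univ, Set.mem_diff, Set.mem_univ, true_and,
      Finset.mem_coe, Finset.mem_insert, Finset.mem_singleton, not_or] at hx ⊢
    show ¬ g • x = a ∧ ¬ g • x = b ∧ ¬ g • x = c ∧ ¬ g • x = e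
    refine ⟨fun h => hx.1 ?_, fun h => hx.2.1 ?_, fun h => hx.2.2.1 ?_, fun h => hx.2.2.2 ?_⟩
    · rw [← hm.1] at h; exact smul_left_cancel g h
    · rw [← hm.2.1] at h; exact smul_left_cancel g h
    · rw [← hm.2.2.1] at h; exact smul_left_cancel g h
    · rw [← hm.2.2.2] at h; exact smul_left_cancel g h
  · intro x hx
    simp only [Finset.coe_sdiff, Finset.coe_univ, Set.mem_diff, Set.mem_univ, true_and,
      Finset.mem_coe, Finset.mem_insert, Finset.mem_singleton, not_or] at hx
    have h1 := card_orbit_inf_stab (Fix4 X a b c e) x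
    have h2 : (Fix4 X a b c e ⊓ stabilizer X x : Subgroup X) = ⊥ := by
      rw [Subgroup.eq_bot_iff_forall]
      rintro g ⟨hg, hgx⟩
      have hm := mem_Fix4.mp hg
      exact H.r5 g a b c e x hD hx.1 hx.2.1 hx.2.2.1 hx.2.2.2 hm.1 hm.2.1 hm.2.2.1 hm.2.2.2 hgx
    rw [h2, Subgroup.card_bot, mul_one] at h1
    exact h1

/-- the even case: the four point stabilizer is centralized by the involution, and a bound -/
theorem even_case [Finite X] (H : RH X Ω) {t : X} (ht : t * t = 1) {α β p q : Ω} (hD : D4 α β p q)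
    (hta : t • α = β) (htb : t • β = α) (htp : t • p = p) (htq : t • q = q)
    (hf : (Fixf Ω t).card = 2) (hν : 5 ≤ Fintype.card Ω) :
    (∀ h ∈ Fix4 X α β p q, h * t = t * h) ∧
      Fintype.card Ω - 4 ≤ 2 * Nat.card (Fix4 X α β p q) := by
  classical
  have hpq : p ≠ q := hD.2.2.2.2.2
  have hp : p ∈ Fixf Ω t := mem_Fixf.mpr htp
  have hq : q ∈ Fixf Ω t := mem_Fixf.mpr htq
  have hFix : ({p, q} : Finset Ω) = Fixf Ω t := by
    apply Finset.eq_of_subset_of_card_le
    · intro x hx
      simp only [Finset.mem_insert, Finset.mem_singleton] at hx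
      rcases hx with rfl | rfl
      · exact hp
      · exact hq
    · rw [hf, Finset.card_pair hpq]
  have hfixpq : ∀ x : Ω, t • x = x → x = p ∨ x = q := by
    intro x hx
    have : x ∈ ({p, q} : Finset Ω) := by rw [hFix]; exact mem_Fixf.mpr hx
    simpa using this
  have hM := ncard_Mset (t := t) hD.1 hta htb
  rw [hf] at hM
  have hMpos : 0 < (Mset t α β).ncard := by omega
  obtain ⟨x₀, hx₀⟩ := (Set.ncard_pos (Set.toFinite _)).mp hMpos
  have htt : ∀ z : Ω, t • t • z = z := fun z => by rw [← mul_smul, ht, one_smul]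
  -- (a) regularity
  have hstab : (Cab t α β ⊓ stabilizer X x₀ : Subgroup X) = ⊥ := by
    rw [Subgroup.eq_bot_iff_forall]
    rintro c ⟨⟨hc, hca, hcb⟩, hcx⟩
    replace hcx : c • x₀ = x₀ := hcx
    have hctx : c • (t • x₀) = t • x₀ := by rw [← mul_smul, hc, mul_smul, hcx]
    have hDx := D4_moved ht hD.1 hta htb hx₀
    have hodd : Odd (orderOf c) := H.o4 c α β x₀ (t • x₀) hDx hca hcb hcx hctx
    have hcp : c • p = p := by
      rcases hfixpq (c • p) (smul_fix_of_comm hc htp) with h | h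
      · exact h
      · exfalso
        rcases hfixpq (c • q) (smul_fix_of_comm hc htq) with h' | h'
        · exact odd_order_no_swap hodd hpq h h'
        · exact hpq (smul_left_cancel c (h.trans h'.symm))
    refine H.r5 c α β x₀ (t • x₀) p hDx hD.2.1.symm hD.2.2.2.1.symm ?_ ?_ hca hcb hcx hctx hcp
    · rintro rfl
      exact hx₀.1 htp
    · intro h
      apply hx₀.1
      have h2 := congrArg (fun z => t • z) h
      simp only [htt, htp] at h2
      rw [← h2, htp]
  have hCcard : Nat.card (Cab t α β) = Fintype.card Ω - 4 := by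
    have h1 := card_orbit_inf_stab (Cab t α β) x₀
    rw [orbit_Cab_eq H ht hD.1 hta htb hx₀, hstab, Subgroup.card_bot, mul_one] at h1
    rw [← h1]; omega
  -- (c)
  have horbp := card_orbit_inf_stab (Cab t α β) p
  have horble : (orbit (Cab t α β) p).ncard ≤ 2 := by
    have hsub : orbit (Cab t α β) p ⊆ ((({p, q} : Finset Ω)) : Set Ω) := by
      rintro _ ⟨⟨c, hc, hca, hcb⟩, rfl⟩
      show c • p ∈ _
      rw [Finset.mem_coe, hFix]
      exact mem_Fixf.mpr (smul_fix_of_comm hc htp)
    have := Set.ncard_le_ncard hsub (Set.toFinite _)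
    rwa [Set.ncard_coe_finset, Finset.card_pair hpq] at this
  -- (d)
  have hle : (Cab t α β ⊓ stabilizer X p : Subgroup X) ≤ Fix4 X α β p q := by
    rintro c ⟨⟨hc, hca, hcb⟩, hcp⟩
    replace hcp : c • p = p := hcp
    rw [mem_Fix4]
    refine ⟨hca, hcb, hcp, ?_⟩
    rcases hfixpq (c • q) (smul_fix_of_comm hc htq) with h | h
    · exfalso
      rw [← hcp] at h
      exact hpq (smul_left_cancel c h).symm
    · exact h
  have hdvd1 := Subgroup.card_dvd_of_le hle
  have hodd := odd_card_Fix4 H hD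
  have hdvd2 := card_Fix4_dvd H hD
  -- (f) arithmetic
  obtain ⟨e₁, he₁⟩ := hdvd1
  obtain ⟨e₂, he₂⟩ := hdvd2
  have hκpos : 0 < Nat.card (Cab t α β ⊓ stabilizer X p : Subgroup X) := Nat.card_pos
  rw [hCcard] at horbp
  have hνpos : 0 < Fintype.card Ω - 4 := by omega
  have he₁odd : Odd e₁ := by
    rw [he₁] at hodd
    exact (Nat.odd_mul.mp hodd).2
  have hprod : (orbit (Cab t α β) p).ncard = e₁ * e₂ := by
    have : (orbit (Cab t α β) p).ncard * Nat.card (Cab t α β ⊓ stabilizer X p : Subgroup X)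
        = (e₁ * e₂) * Nat.card (Cab t α β ⊓ stabilizer X p : Subgroup X) := by
      rw [horbp, he₂, he₁]; ring
    exact Nat.eq_of_mul_eq_mul_right hκpos this
  have he₂pos : 0 < e₂ := by
    rcases Nat.eq_zero_or_pos e₂ with h | h
    · rw [h, mul_zero] at he₂; omega
    · exact h
  have he₁one : e₁ = 1 := by
    have h1 : e₁ * e₂ ≤ 2 := hprod ▸ horble
    have h2 : e₁ ≤ 2 := by nlinarith
    obtain ⟨s, hs⟩ := he₁odd
    omega
  rw [he₁one, mul_one] at he₁
  have heq : (Cab t α β ⊓ stabilizer X p : Subgroup X) = Fix4 X α β p q :=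
    Subgroup.eq_of_le_of_card_ge hle (by rw [he₁])
  constructor
  · intro h hh
    rw [← heq] at hh
    exact hh.1.1
  · rw [he₁one, one_mul] at hprod
    rw [he₁, ← horbp]
    have : e₂ ≤ 2 := hprod ▸ horble
    rw [hprod]
    nlinarith

theorem even_false [Finite X] (H : RH X Ω) {t : X} (ht : t * t = 1) {α β p q : Ω} (hD : D4 α β p q)
    (hta : t • α = β) (htb : t • β = α) (htp : t • p = p) (htq : t • q = q)
    (hf : (Fixf Ω t).card = 2) (heven : Even (Fintype.card Ω)) (hν : 7 ≤ Fintype.card Ω) :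
    False := by
  classical
  have hpq : p ≠ q := hD.2.2.2.2.2
  have hp : p ∈ Fixf Ω t := mem_Fixf.mpr htp
  have hq : q ∈ Fixf Ω t := mem_Fixf.mpr htq
  have hFix : ({p, q} : Finset Ω) = Fixf Ω t := by
    apply Finset.eq_of_subset_of_card_le
    · intro x hx
      simp only [Finset.mem_insert, Finset.mem_singleton] at hx
      rcases hx with rfl | rfl
      · exact hp
      · exact hq
    · rw [hf, Finset.card_pair hpq]
  have hfixpq : ∀ x : Ω, t • x = x → x = p ∨ x = q := by
    intro x hx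
    have : x ∈ ({p, q} : Finset Ω) := by rw [hFix]; exact mem_Fixf.mpr hx
    simpa using this
  have hM := ncard_Mset (t := t) hD.1 hta htb
  rw [hf] at hM
  have hMpos : 0 < (Mset t α β).ncard := by omega
  obtain ⟨γ, hγ⟩ := (Set.ncard_pos (Set.toFinite _)).mp hMpos
  have htt : ∀ z : Ω, t • t • z = z := fun z => by rw [← mul_smul, ht, one_smul]
  obtain ⟨δ, hδ⟩ : ∃ δ : Ω, δ = t • γ := ⟨_, rfl⟩
  have hD' : D4 α β γ δ := by rw [hδ]; exact D4_moved ht hD.1 hta htb hγ
  have htγ : t • γ = δ := hδ.symm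
  have htδ : t • δ = γ := by rw [hδ, htt]
  -- an involution `w₀ = (α β)(γ)(δ)`
  obtain ⟨w₀, hw₀, w1, w2, w3, w4⟩ := exists_invol H hD'
  have wi : ∀ {z z' : Ω}, w₀ • z = z' → w₀⁻¹ • z' = z := fun {z z'} h => by
    rw [← h, inv_smul_smul]
  obtain ⟨u, u1, u2, u3, u4, hc⟩ := exists_commuting_adjust H (g₀ := w₀) ht hD'
    (by rw [mul_smul, mul_smul, wi w2, htb, w1, hta])
    (by rw [mul_smul, mul_smul, wi w1, hta, w2, htb])
    (by rw [mul_smul, mul_smul, wi w3, htγ, w4])
    (by rw [mul_smul, mul_smul, wi w4, htδ, w3])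
  obtain ⟨c, hcdef⟩ : ∃ c : X, c = u * w₀ := ⟨_, rfl⟩
  rw [← hcdef] at hc
  have c1 : c • α = β := by rw [hcdef, mul_smul, w1, u2]
  have c2 : c • β = α := by rw [hcdef, mul_smul, w2, u1]
  have c3 : c • γ = γ := by rw [hcdef, mul_smul, w3, u3]
  have c4 : c • δ = δ := by rw [hcdef, mul_smul, w4, u4]
  obtain ⟨r, hr, hrr, hrx⟩ := exists_invol_pow H hD' (g := c) (by rw [c1, c2]) (by rw [c2, c1])
    (by rw [c3, c3]) (by rw [c4, c4])
  obtain ⟨w, hwdef⟩ : ∃ w : X, w = c ^ r := ⟨_, rfl⟩
  rw [← hwdef] at hrr hrx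
  have hwt : w * t = t * w := by
    rw [hwdef]; exact (hc.pow_left r).eq
  have hw1 : w • α = β := by rw [hrx α (by rw [c1, c2]), c1]
  have hw2 : w • β = α := by rw [hrx β (by rw [c2, c1]), c2]
  have hw3 : w • γ = γ := by rw [hrx γ (by rw [c3, c3]), c3]
  have hw4 : w • δ = δ := by rw [hrx δ (by rw [c4, c4]), c4]
  -- the product `t * w`
  have htw : (t * w) * (t * w) = 1 := by
    calc (t * w) * (t * w) = t * (w * t) * w := by group
      _ = t * (t * w) * w := by rw [hwt]
      _ = (t * t) * (w * w) := by group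
      _ = 1 := by rw [ht, hrr, one_mul]
  have tw1 : (t * w) • γ = δ := by rw [mul_smul, hw3, htγ]
  have tw2 : (t * w) • δ = γ := by rw [mul_smul, hw4, htδ]
  have tw3 : (t * w) • α = α := by rw [mul_smul, hw1, htb]
  have tw4 : (t * w) • β = β := by rw [mul_smul, hw2, hta]
  have hnotodd : ¬ Odd (Fintype.card Ω) := Nat.not_odd_iff_even.mpr heven
  have hfw : (Fixf Ω w).card = 2 := by
    rcases card_Fixf H hrr hD' hw1 hw2 hw3 hw4 with h | h
    · exact h.1
    · exact absurd h.2 hnotodd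
  have hftw : (Fixf Ω (t * w)).card = 2 := by
    rcases card_Fixf H htw (D4_rot hD') tw1 tw2 tw3 tw4 with h | h
    · exact h.1
    · exact absurd h.2 hnotodd
  obtain ⟨hcw, hbound⟩ := even_case H hrr hD' hw1 hw2 hw3 hw4 hfw (by omega)
  obtain ⟨hctw, -⟩ := even_case H htw (D4_rot hD') tw1 tw2 tw3 tw4 hftw (by omega)
  -- the four point stabilizer of `α β γ δ` is trivial
  have htriv : Fix4 X α β γ δ = ⊥ := by
    rw [Subgroup.eq_bot_iff_forall]
    intro h hh
    have hm := mem_Fix4.mp hh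
    have hh' : h ∈ Fix4 X γ δ α β := mem_Fix4.mpr ⟨hm.2.2.1, hm.2.2.2, hm.1, hm.2.1⟩
    have h1 := hcw h hh
    have h2 := hctw h hh'
    have htw' : t = (t * w) * w := by rw [mul_assoc, hrr, mul_one]
    have hht : h * t = t * h := by
      calc h * t = h * ((t * w) * w) := by rw [← htw']
        _ = (h * (t * w)) * w := by group
        _ = (t * w) * (h * w) := by rw [h2]; group
        _ = (t * w) * (w * h) := by rw [h1]
        _ = ((t * w) * w) * h := by group
        _ = t * h := by rw [← htw']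
    have hodd : Odd (orderOf h) := H.o4 h α β γ δ hD' hm.1 hm.2.1 hm.2.2.1 hm.2.2.2
    have hhp : h • p = p := by
      rcases hfixpq (h • p) (smul_fix_of_comm hht htp) with h' | h'
      · exact h'
      · exfalso
        rcases hfixpq (h • q) (smul_fix_of_comm hht htq) with h'' | h''
        · exact odd_order_no_swap hodd hpq h' h''
        · exact hpq (smul_left_cancel h (h'.trans h''.symm))
    refine H.r5 h α β γ δ p hD' hD.2.1.symm hD.2.2.2.1.symm ?_ ?_ hm.1 hm.2.1 hm.2.2.1 hm.2.2.2 hhp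
    · rintro rfl
      exact hγ.1 htp
    · intro hpδ
      have h5 : γ = δ := by
        rw [← htδ, ← hpδ]; exact htp
      exact hγ.1 (by rw [htγ]; exact h5.symm)
  rw [htriv, Subgroup.card_bot] at hbound
  omega

/-- **The rigid Hall lemma.** If `X` acts 4-transitively on `Ω` with `|Ω| ≥ 7`, elements fixing 5
points are trivial and elements fixing 4 points have odd order, then `|Ω| ∈ {7, 11}`. -/
theorem rigid_hall [Finite X] (H : RH X Ω) (hν : 7 ≤ Fintype.card Ω) :
    Fintype.card Ω = 7 ∨ Fintype.card Ω = 11 := by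
  classical
  obtain ⟨e⟩ : Nonempty (Fin 4 ↪ Ω) :=
    Function.Embedding.nonempty_of_card_le (by rw [Fintype.card_fin]; omega)
  have hD : D4 (e 0) (e 1) (e 2) (e 3) := by
    refine ⟨?_, ?_, ?_, ?_, ?_, ?_⟩ <;> exact e.injective.ne (by decide)
  obtain ⟨t, ht, h1, h2, h3, h4⟩ := exists_invol H hD
  rcases card_Fixf H ht hD h1 h2 h3 h4 with ⟨hf, hev⟩ | ⟨hf, hodd⟩
  · exact (even_false H ht hD h1 h2 h3 h4 hf hev hν).elim
  · have hdvd := odd_case H ht hD h1 h2 h3 h4 hf (by omega)
    have hle : Fintype.card Ω - 5 ≤ 6 := Nat.le_of_dvd (by norm_num) hdvd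
    have hν' : Fintype.card Ω ≤ 11 := by omega
    obtain ⟨s, hs⟩ := hodd
    have : s = 3 ∨ s = 4 ∨ s = 5 := by omega
    rcases this with rfl | rfl | rfl
    · left; omega
    · exfalso
      rw [hs] at hdvd
      norm_num at hdvd
    · right; omega

end Count

end Cfsg.Agent.Lib.Helper1.Wl
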