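import Mathlib
import Cfsg.Agent.S0744
import Cfsg.Agent.Lib.Lead.MultiTrans
import Cfsg.Agent.Lib.Lead.OrbitCount

set_option autoImplicit false
set_option maxHeartbeats 4000000
set_option maxRecDepth 100000
set_option linter.unusedVariables false
set_option linter.unusedSectionVars false
set_option linter.style.longLine false
set_option linter.unusedSimpArgs false
set_option linter.deprecated false
set_option linter.style.haveILetI false

/-! # Wielandt / Livingstone–Wagner cluster, part 4: the permutation group framework -/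

namespace Cfsg.Agent.Lib.Helper1.Wl

open MulAction SubMulAction Cfsg.Agent.Lib.Lead.OrbitCount
open scoped Pointwise Nat

variable {α : Type*} [Fintype α] [DecidableEq α] (G : Subgroup (Equiv.Perm α))

/-- homogeneity in finset form -/
theorem homog_exists {k : ℕ} (hh : IsPretransitive G (Set.powersetCard α k)) {s s' : Finset α}
    (hs : s.card = k) (hs' : s'.card = k) : ∃ g : G, g • s = s' := by
  obtain ⟨g, hg⟩ := hh.exists_smul_eq (⟨s, hs⟩ : Set.powersetCard α k) ⟨s', hs'⟩
  refine ⟨g, ?_⟩
  have h1 := congrArg Subtype.val hg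
  have h2 := Set.powersetCard.coe_smul (g := g) (s := (⟨s, hs⟩ : Set.powersetCard α k))
  exact h2.symm.trans h1

theorem card_fixingSubgroup_smul (g : G) (s : Finset α) :
    Nat.card (fixingSubgroup G ((g • s : Finset α) : Set α)) =
      Nat.card (fixingSubgroup G (s : Set α)) := by
  rw [Finset.coe_smul_finset, fixingSubgroup_smul_eq_fixingSubgroup_map_conj]
  exact Nat.card_congr ((MulAut.conj g).subgroupMap (fixingSubgroup G (s : Set α))).symm.toEquiv

theorem card_fixingSubgroup_const {k : ℕ} (hh : IsPretransitive G (Set.powersetCard α k))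
    {s s' : Finset α} (hs : s.card = k) (hs' : s'.card = k) :
    Nat.card (fixingSubgroup G (s' : Set α)) = Nat.card (fixingSubgroup G (s : Set α)) := by
  obtain ⟨g, rfl⟩ := homog_exists G hh hs hs'
  exact card_fixingSubgroup_smul G g s

theorem exists_finset_card {j : ℕ} (hj : j ≤ Fintype.card α) : ∃ t : Finset α, t.card = j := by
  obtain ⟨t, -, ht⟩ := Finset.exists_subset_card_eq (s := (Finset.univ : Finset α)) (n := j)
    (by rw [Finset.card_univ]; exact hj)
  exact ⟨t, ht⟩

/-- rigidity: in a counterexample the pointwise stabilizers of `(k-1)`-sets are trivial -/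
theorem rigid {k : ℕ} (hk : 1 < k) (hkn : k ≤ Fintype.card α)
    (hh1 : IsPretransitive G (Set.powersetCard α (k - 1)))
    (hh : IsPretransitive G (Set.powersetCard α k))
    (hnt : ¬ IsMultiplyPretransitive G α (k - 1)) :
    ∀ s : Finset α, s.card = k - 1 → fixingSubgroup G (s : Set α) = ⊥ := by
  obtain ⟨s₀, hs₀⟩ := exists_finset_card (α := α) (j := k - 1) (by omega)
  obtain ⟨s₁, hs₁⟩ := exists_finset_card (α := α) (j := k) hkn
  have hl : ¬ 1 < Nat.card (fixingSubgroup G (s₀ : Set α)) := by
    intro hl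
    exact hnt (Cfsg.Agent.S0744.result G hk hkn _ (Nat.card (fixingSubgroup G (s₁ : Set α))) hl
      (fun s hs => card_fixingSubgroup_const G hh1 hs₀ hs)
      (fun s hs => card_fixingSubgroup_const G hh hs₁ hs))
  intro s hs
  apply Subgroup.eq_bot_of_card_le
  rw [card_fixingSubgroup_const G hh1 hs₀ hs]
  omega

/-- elementwise rigidity -/
theorem rigid_elt {k : ℕ} (hrig : ∀ s : Finset α, s.card = k - 1 → fixingSubgroup G (s : Set α) = ⊥)
    (g : G) (s : Finset α) (hs : k - 1 ≤ s.card) (hg : ∀ x ∈ s, g • x = x) : g = 1 := by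
  obtain ⟨s', hs's, hs'⟩ := Finset.exists_subset_card_eq hs
  have : g ∈ fixingSubgroup G (s' : Set α) := by
    rw [mem_fixingSubgroup_iff]
    intro y hy
    exact hg y (hs's (Finset.mem_coe.mp hy))
  rw [hrig s' hs'] at this
  exact Subgroup.mem_bot.mp this

/-- order formula from multiple transitivity -/
theorem card_mul_factorial {t : ℕ} (ht : IsMultiplyPretransitive G α t) (s : Finset α)
    (hs : s.card = t) :
    Nat.card G * (Fintype.card α - t)! =
      (Fintype.card α)! * Nat.card (fixingSubgroup G (s : Set α)) := by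
  have h1 := ht.index_of_fixingSubgroup_mul (s := (s : Set α))
    (by rw [Set.ncard_coe_finset, hs])
  rw [Nat.card_eq_fintype_card] at h1
  rw [← Subgroup.card_mul_index (fixingSubgroup G (s : Set α)), ← h1]
  ring

/-- order formula from homogeneity -/
theorem card_eq_choose_mul {k : ℕ} (hh : IsPretransitive G (Set.powersetCard α k)) (s : Finset α)
    (hs : s.card = k) :
    Nat.card G = (Fintype.card α).choose k * Nat.card (stabilizer G (s : Set α)) := by
  have h1 := index_stabilizer_of_transitive G (⟨s, hs⟩ : Set.powersetCard α k)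
  rw [Set.powersetCard.card, Nat.card_eq_fintype_card] at h1
  have h2 : stabilizer G (⟨s, hs⟩ : Set.powersetCard α k) = stabilizer G (s : Set α) :=
    Set.powersetCard.stabilizer_coe _
  rw [h2] at h1
  rw [← h1, mul_comm, Subgroup.card_mul_index]

/-- semiregularity of the pointwise stabilizer of a `(k-2)`-set outside this set -/
theorem orbit_ncard_of_rigid {k : ℕ}
    (hrig : ∀ s : Finset α, s.card = k - 1 → fixingSubgroup G (s : Set α) = ⊥)
    (Λ : Finset α) (hΛ : Λ.card + 1 = k - 1) (a : α) (ha : a ∉ Λ) :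
    (orbit (fixingSubgroup G (Λ : Set α)) a).ncard = Nat.card (fixingSubgroup G (Λ : Set α)) := by
  have h1 := card_orbit_fixingSubgroup (G := G) (Λ : Set α) a
  have h2 : fixingSubgroup G (insert a (Λ : Set α)) = ⊥ := by
    rw [← Finset.coe_insert]
    exact hrig _ (by rw [Finset.card_insert_of_notMem ha]; exact hΛ)
  rw [h2, Subgroup.card_bot, mul_one] at h1
  exact h1

theorem card_fixing_dvd {k : ℕ}
    (hrig : ∀ s : Finset α, s.card = k - 1 → fixingSubgroup G (s : Set α) = ⊥)
    (Λ : Finset α) (hΛ : Λ.card + 1 = k - 1) :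
    Nat.card (fixingSubgroup G (Λ : Set α)) ∣ Fintype.card α - Λ.card := by
  have hS : ((Λ : Set α)ᶜ).ncard = Fintype.card α - Λ.card := by
    rw [Set.ncard_compl, Set.ncard_coe_finset, Nat.card_eq_fintype_card]
  refine dvd_ncard_of_invariant (A := fixingSubgroup G (Λ : Set α)) (α := α) _ _ _ hS ?_ ?_
  · rintro ⟨g, hg⟩ x hx
    rw [Set.mem_compl_iff] at hx ⊢
    intro hgx
    apply hx
    have h1 : g⁻¹ • (g • x) = g • x := by
      have := (mem_fixingSubgroup_iff G).mp (Subgroup.inv_mem _ hg) _ hgx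
      exact this
    rw [inv_smul_smul] at h1
    rw [h1]; exact hgx
  · intro x hx
    exact orbit_ncard_of_rigid G hrig Λ hΛ x (fun h => hx (Finset.mem_coe.mpr h))

/-- if the pointwise stabilizer of a `t`-set has order `n - t`, then `G` is `(t+1)`-transitive -/
theorem trans_of_card_eq {k : ℕ} (hk : 2 ≤ k) (hkn : k ≤ Fintype.card α)
    (ht : IsMultiplyPretransitive G α (k - 2))
    (hrig : ∀ s : Finset α, s.card = k - 1 → fixingSubgroup G (s : Set α) = ⊥)
    (Λ : Finset α) (hΛ : Λ.card = k - 2)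
    (hd : Nat.card (fixingSubgroup G (Λ : Set α)) = Fintype.card α - Λ.card) :
    IsMultiplyPretransitive G α (k - 1) := by
  have hfin : Finite (Λ : Set α) := Finset.finite_toSet Λ |>.to_subtype
  have hncard : (Λ : Set α).ncard = k - 2 := by rw [Set.ncard_coe_finset, hΛ]
  have h1 : k - 1 = (k - 2) + 1 := by omega
  rw [h1]
  refine Cfsg.Agent.Lib.Lead.MultiTrans.isMultiplyPretransitive_add (Λ : Set α) hncard ht ?_
  rw [MulAction.is_one_pretransitive_iff]
  constructor
  rintro ⟨a, ha⟩ ⟨b, hb⟩
  have ha' : a ∉ Λ := fun h => (mem_ofFixingSubgroup_iff G).mp ha (Finset.mem_coe.mpr h)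
  have hb' : b ∉ Λ := fun h => (mem_ofFixingSubgroup_iff G).mp hb (Finset.mem_coe.mpr h)
  have hS : ((Λ : Set α)ᶜ).ncard = Fintype.card α - Λ.card := by
    rw [Set.ncard_compl, Set.ncard_coe_finset, Nat.card_eq_fintype_card]
  have horb := orbit_ncard_of_rigid G hrig Λ (by omega) a ha'
  have hsub : orbit (fixingSubgroup G (Λ : Set α)) a ⊆ (Λ : Set α)ᶜ := by
    rintro _ ⟨⟨g, hg⟩, rfl⟩
    show g • a ∈ (Λ : Set α)ᶜ
    rw [Set.mem_compl_iff]
    intro hgx
    apply ha'
    have h1 : g⁻¹ • (g • a) = g • a :=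
      (mem_fixingSubgroup_iff G).mp (Subgroup.inv_mem _ hg) _ hgx
    rw [inv_smul_smul] at h1
    rw [h1]; exact Finset.mem_coe.mp hgx
  have heq : orbit (fixingSubgroup G (Λ : Set α)) a = (Λ : Set α)ᶜ :=
    Set.eq_of_subset_of_ncard_le hsub (by rw [hS, horb, hd]) (Set.toFinite _)
  have hbm : b ∈ orbit (fixingSubgroup G (Λ : Set α)) a := by
    rw [heq]; exact fun h => hb' (Finset.mem_coe.mp h)
  obtain ⟨g, hg⟩ := hbm
  exact ⟨g, Subtype.ext hg⟩

/-- pure arithmetic behind the numerical conditions -/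
theorem numerics_core {n t m d j h κ Gc : ℕ} (hn : n = m + t) (hm : 2 ≤ m)
    (h1 : Gc * m ! = n ! * d) (h2 : Gc = n.choose (t + 1) * h) (h3 : Gc = n.choose (t + 2) * κ)
    (hmd : m = d * j) (hd : 0 < d) :
    h * j = (t + 1)! ∧ κ * j * (m - 1) = (t + 2)! := by
  obtain ⟨m', rfl⟩ : ∃ m', m = m' + 2 := ⟨m - 2, by omega⟩
  have hc1 : n.choose (t + 1) * (t + 1)! * (m' + 1)! = n ! := by
    have := Nat.choose_mul_factorial_mul_factorial (n := n) (k := t + 1) (by omega)
    rwa [show n - (t + 1) = m' + 1 by omega] at this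
  have hc2 : n.choose (t + 2) * (t + 2)! * (m')! = n ! := by
    have := Nat.choose_mul_factorial_mul_factorial (n := n) (k := t + 2) (by omega)
    rwa [show n - (t + 2) = m' by omega] at this
  have hpos1 : 0 < n.choose (t + 1) := Nat.choose_pos (by omega)
  have hpos2 : 0 < n.choose (t + 2) := Nat.choose_pos (by omega)
  have hf1 : (m' + 2)! = (m' + 2) * (m' + 1)! := Nat.factorial_succ _
  have hf2 : (m' + 1)! = (m' + 1) * (m')! := Nat.factorial_succ _
  simp only [Nat.add_sub_cancel, show m' + 2 - 1 = m' + 1 by omega]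
  constructor
  · -- h * (m'+2) = (t+1)! * d
    have e1 : n.choose (t + 1) * (h * (m' + 2) * (m' + 1)!) =
        n.choose (t + 1) * ((t + 1)! * d * (m' + 1)!) := by
      calc n.choose (t + 1) * (h * (m' + 2) * (m' + 1)!)
          = (n.choose (t + 1) * h) * (m' + 2)! := by rw [hf1]; ring
        _ = n ! * d := by rw [← h2, h1]
        _ = n.choose (t + 1) * ((t + 1)! * d * (m' + 1)!) := by rw [← hc1]; ring
    have e2 := Nat.eq_of_mul_eq_mul_left hpos1 e1
    have e3 : h * (m' + 2) = (t + 1)! * d :=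
      Nat.eq_of_mul_eq_mul_right (Nat.factorial_pos (m' + 1)) e2
    have e4 : d * (h * j) = d * (t + 1)! := by
      calc d * (h * j) = h * (d * j) := by ring
        _ = h * (m' + 2) := by rw [hmd]
        _ = d * (t + 1)! := by rw [e3]; ring
    exact Nat.eq_of_mul_eq_mul_left hd e4
  · have e1 : n.choose (t + 2) * (κ * (m' + 2) * (m' + 1) * (m')!) =
        n.choose (t + 2) * ((t + 2)! * d * (m')!) := by
      calc n.choose (t + 2) * (κ * (m' + 2) * (m' + 1) * (m')!)
          = (n.choose (t + 2) * κ) * (m' + 2)! := by rw [hf1, hf2]; ring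
        _ = n ! * d := by rw [← h3, h1]
        _ = n.choose (t + 2) * ((t + 2)! * d * (m')!) := by rw [← hc2]; ring
    have e2 := Nat.eq_of_mul_eq_mul_left hpos2 e1
    have e3 : κ * (m' + 2) * (m' + 1) = (t + 2)! * d :=
      Nat.eq_of_mul_eq_mul_right (Nat.factorial_pos m') e2
    have e4 : d * (κ * j * (m' + 1)) = d * (t + 2)! := by
      calc d * (κ * j * (m' + 1)) = κ * (d * j) * (m' + 1) := by ring
        _ = κ * (m' + 2) * (m' + 1) := by rw [hmd]
        _ = d * (t + 2)! := by rw [e3]; ring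
    exact Nat.eq_of_mul_eq_mul_left hd e4

end Cfsg.Agent.Lib.Helper1.Wl
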