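import Mathlib

set_option autoImplicit false
set_option maxHeartbeats 4000000
set_option maxRecDepth 100000
set_option linter.unusedVariables false
set_option linter.unusedSectionVars false
set_option linter.style.longLine false
set_option linter.unusedSimpArgs false
set_option linter.deprecated false
set_option linter.style.haveILetI false

/-! # Wielandt / Livingstone–Wagner cluster, part 5: a Zassenhaus-type involution count -/

namespace Cfsg.Agent.Lib.Helper1.Wl

open MulAction

/-- Let `Z` act 2-transitively on `Ω` such that only the identity fixes three points, and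
suppose some involution fixes two points.  If the two point stabilizers have order at most `d`
then `|Ω| ≤ 2 d + 2`. -/
theorem lemE_count {Z Ω : Type*} [Group Z] [Finite Z] [MulAction Z Ω] [Fintype Ω] [DecidableEq Ω]
    (h2 : ∀ a b a' b' : Ω, a ≠ b → a' ≠ b' → ∃ g : Z, g • a = a' ∧ g • b = b')
    (h3 : ∀ (g : Z) (a b c : Ω), a ≠ b → a ≠ c → b ≠ c → g • a = a → g • b = b → g • c = c →
      g = 1)
    (d : ℕ) (hd : ∀ x y : Ω, x ≠ y → Nat.card (stabilizer Z x ⊓ stabilizer Z y : Subgroup Z) ≤ d)
    (u : Z) (a₀ b₀ : Ω) (hab : a₀ ≠ b₀) (hu1 : u ≠ 1) (hu2 : u * u = 1) (hua : u • a₀ = a₀)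
    (hub : u • b₀ = b₀) :
    Fintype.card Ω ≤ 2 * d + 2 := by
  classical
  haveI : Fintype Z := Fintype.ofFinite Z
  by_cases hμ : Fintype.card Ω ≤ 2
  · omega
  push Not at hμ
  let x₀ : Ω := a₀
  set I : Finset Z := Finset.univ.filter (fun v : Z => v * v = 1 ∧ v • x₀ ≠ x₀) with hI
  have memI : ∀ v : Z, v ∈ I ↔ v * v = 1 ∧ v • x₀ ≠ x₀ := by
    intro v; simp [hI]
  -- upper bound
  have hup : I.card ≤ d * (Fintype.card Ω - 1) := by
    have h1 := Finset.card_le_mul_card_image (f := fun v : Z => v • x₀) I d ?_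
    · refine h1.trans (Nat.mul_le_mul_left d ?_)
      have hsub : I.image (fun v : Z => v • x₀) ⊆ Finset.univ.erase x₀ := by
        intro y hy
        obtain ⟨v, hv, rfl⟩ := Finset.mem_image.mp hy
        exact Finset.mem_erase.mpr ⟨((memI v).mp hv).2, Finset.mem_univ _⟩
      have := Finset.card_le_card hsub
      rwa [Finset.card_erase_of_mem (Finset.mem_univ _), Finset.card_univ] at this
    · intro y hy
      obtain ⟨v₁, hv₁, hv₁y⟩ := Finset.mem_image.mp hy
      have hv₁' := (memI v₁).mp hv₁
      have hyx : y ≠ x₀ := by rw [← hv₁y]; exact hv₁'.2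
      have hv₁i : v₁⁻¹ = v₁ := inv_eq_of_mul_eq_one_right hv₁'.1
      have hv₁x : v₁ • y = x₀ := by
        rw [← hv₁y]; show v₁ • v₁ • x₀ = x₀; rw [← mul_smul, hv₁'.1, one_smul]
      -- the fibre injects into the two point stabilizer
      set K : Subgroup Z := stabilizer Z x₀ ⊓ stabilizer Z y with hK
      have hKcard : Nat.card K = (Finset.univ.filter (fun g : Z => g ∈ K)).card := by
        rw [Nat.card_eq_fintype_card, Fintype.card_subtype]
      have hle : (I.filter (fun v : Z => v • x₀ = y)).card ≤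
          (Finset.univ.filter (fun g : Z => g ∈ K)).card := by
        apply Finset.card_le_card_of_injOn (fun v => v₁⁻¹ * v)
        · intro v hv
          have hv' := Finset.mem_filter.mp (Finset.mem_coe.mp hv)
          have hvI := (memI v).mp hv'.1
          have hvy : v • y = x₀ := by
            rw [← hv'.2]; show v • v • x₀ = x₀; rw [← mul_smul, hvI.1, one_smul]
          rw [Finset.mem_coe, Finset.mem_filter]
          refine ⟨Finset.mem_univ _, ?_, ?_⟩
          · show (v₁⁻¹ * v) • x₀ = x₀
            rw [mul_smul, hv'.2, hv₁i, hv₁x]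
          · show (v₁⁻¹ * v) • y = y
            rw [mul_smul, hvy, hv₁i, hv₁y]
        · intro v _ v' _ hvv'
          exact mul_left_cancel hvv'
      calc (I.filter (fun v : Z => v • x₀ = y)).card
          ≤ (Finset.univ.filter (fun g : Z => g ∈ K)).card := hle
        _ = Nat.card K := hKcard.symm
        _ ≤ d := hd x₀ y hyx.symm
  -- lower bound
  have hlow : (Fintype.card Ω - 1) * (Fintype.card Ω - 1) - (Fintype.card Ω - 1) ≤ I.card * 2 := by
    have hoff : ((Finset.univ.erase x₀).offDiag).card =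
        (Fintype.card Ω - 1) * (Fintype.card Ω - 1) - (Fintype.card Ω - 1) := by
      rw [Finset.offDiag_card, Finset.card_erase_of_mem (Finset.mem_univ _), Finset.card_univ]
    rw [← hoff]
    have := Finset.card_mul_le_card_mul (s := (Finset.univ.erase x₀).offDiag) (t := I)
      (fun (ab : Ω × Ω) (v : Z) => v • ab.1 = ab.1 ∧ v • ab.2 = ab.2) (m := 1) (n := 2) ?_ ?_
    · simpa using this
    · rintro ⟨a, b⟩ hab'
      rw [Finset.mem_offDiag] at hab'
      obtain ⟨ha, hb, hne⟩ := hab'
      simp only at ha hb hne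
      obtain ⟨g, hga, hgb⟩ := h2 a₀ b₀ a b hab hne
      have hgi : ∀ {z w : Ω}, g • z = w → g⁻¹ • w = z := fun {z w} h => by
        rw [← h, inv_smul_smul]
      rw [Nat.one_le_iff_ne_zero, ← Nat.pos_iff_ne_zero, Finset.card_pos]
      refine ⟨g * u * g⁻¹, ?_⟩
      rw [Finset.bipartiteAbove, Finset.mem_filter]
      have hva : (g * u * g⁻¹) • a = a := by rw [mul_smul, mul_smul, hgi hga, hua, hga]
      have hvb : (g * u * g⁻¹) • b = b := by rw [mul_smul, mul_smul, hgi hgb, hub, hgb]
      refine ⟨(memI _).mpr ⟨?_, ?_⟩, hva, hvb⟩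
      · calc g * u * g⁻¹ * (g * u * g⁻¹) = g * (u * u) * g⁻¹ := by group
          _ = 1 := by rw [hu2]; group
      · intro hvx
        have := h3 _ a b x₀ hne (Finset.ne_of_mem_erase ha) (Finset.ne_of_mem_erase hb) hva hvb hvx
        apply hu1
        calc u = g⁻¹ * (g * u * g⁻¹) * g := by group
          _ = 1 := by rw [this]; group
    · intro v hv
      have hvI := (memI v).mp hv
      have hv1 : v ≠ 1 := by
        rintro rfl
        exact hvI.2 (one_smul _ _)
      set F : Finset Ω := Finset.univ.filter (fun x => v • x = x) with hF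
      have hFle : F.card ≤ 2 := by
        by_contra hcon
        push Not at hcon
        obtain ⟨a, ha, b, hb, c, hc, h1, h2', h3'⟩ := Finset.two_lt_card.mp hcon
        simp only [hF, Finset.mem_filter, Finset.mem_univ, true_and] at ha hb hc
        exact hv1 (h3 v a b c h1 h2' h3' ha hb hc)
      have hsub : Finset.bipartiteBelow (fun (ab : Ω × Ω) (v : Z) => v • ab.1 = ab.1 ∧ v • ab.2 = ab.2)
          ((Finset.univ.erase x₀).offDiag) v ⊆ F.offDiag := by
        rintro ⟨a, b⟩ hab'
        rw [Finset.bipartiteBelow, Finset.mem_filter, Finset.mem_offDiag] at hab'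
        rw [Finset.mem_offDiag]
        simp only [hF, Finset.mem_filter, Finset.mem_univ, true_and]
        exact ⟨hab'.2.1, hab'.2.2, hab'.1.2.2⟩
      refine (Finset.card_le_card hsub).trans ?_
      rw [Finset.offDiag_card]
      have : F.card = 0 ∨ F.card = 1 ∨ F.card = 2 := by omega
      rcases this with h | h | h <;> rw [h] <;> norm_num
  -- conclusion
  obtain ⟨μ, hμ'⟩ : ∃ μ, Fintype.card Ω = μ + 3 := ⟨Fintype.card Ω - 3, by omega⟩
  rw [hμ'] at hup hlow ⊢
  have e1 : μ + 3 - 1 = μ + 2 := by omega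
  rw [e1] at hup hlow
  have e2 : (μ + 2) * (μ + 2) - (μ + 2) = (μ + 2) * (μ + 1) := by
    have : (μ + 2) * (μ + 2) = (μ + 2) * (μ + 1) + (μ + 2) := by ring
    omega
  rw [e2] at hlow
  have h5 : (μ + 2) * (μ + 1) ≤ (μ + 2) * (2 * d) := by
    calc (μ + 2) * (μ + 1) ≤ I.card * 2 := hlow
      _ ≤ d * (μ + 2) * 2 := Nat.mul_le_mul_right 2 hup
      _ = (μ + 2) * (2 * d) := by ring
  have := Nat.le_of_mul_le_mul_left h5 (by omega)
  omega

end Cfsg.Agent.Lib.Helper1.Wl
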