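import Mathlib
import Cfsg.Agent.Lib.Helper1.Wl3
import Cfsg.Agent.Lib.Helper1.Wl4
import Cfsg.Agent.Lib.Helper1.Wl5

set_option autoImplicit false
set_option maxHeartbeats 4000000
set_option maxRecDepth 100000
set_option linter.unusedVariables false
set_option linter.unusedSectionVars false
set_option linter.style.longLine false
set_option linter.unusedSimpArgs false
set_option linter.deprecated false
set_option linter.style.haveILetI false

/-! # Wielandt / Livingstone–Wagner cluster, part 6: passing to pointwise stabilizers -/

namespace Cfsg.Agent.Lib.Helper1.Wl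

open MulAction SubMulAction Cfsg.Agent.Lib.Helper7.Sharp4
open scoped Pointwise Nat

variable {α : Type*} [Fintype α] [DecidableEq α] (G : Subgroup (Equiv.Perm α))

/-- an element of the pointwise stabilizer of `S` fixing the points of `P` outside `S` lies in the
pointwise stabilizer of a set of size `|S| + |P|`. -/
theorem transfer_fix (S : Finset α) (g : fixingSubgroup G (S : Set α))
    (P : Finset α) (hPS : Disjoint S P) (hP : ∀ x ∈ P, (g : G) • x = x) :
    (S ∪ P).card = S.card + P.card ∧ (g : G) ∈ fixingSubgroup G ((S ∪ P : Finset α) : Set α) := by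
  refine ⟨Finset.card_union_of_disjoint hPS, ?_⟩
  rw [mem_fixingSubgroup_iff]
  intro y hy
  rw [Finset.mem_coe, Finset.mem_union] at hy
  rcases hy with hy | hy
  · exact (mem_fixingSubgroup_iff G).mp g.2 y (Finset.mem_coe.mpr hy)
  · exact hP y hy

theorem natCard_ofFixingSubgroup (S : Finset α) :
    Nat.card (ofFixingSubgroup G (S : Set α)) = Fintype.card α - S.card := by
  have e : (ofFixingSubgroup G (S : Set α)) ≃ ((S : Set α)ᶜ : Set α) :=
    Equiv.subtypeEquivRight (fun x => Iff.rfl)
  rw [Nat.card_congr e, Nat.card_coe_set_eq, Set.ncard_compl, Set.ncard_coe_finset,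
    Nat.card_eq_fintype_card]

theorem smul_val (S : Finset α) (g : fixingSubgroup G (S : Set α))
    (x : ofFixingSubgroup G (S : Set α)) : ((g • x : ofFixingSubgroup G (S : Set α)) : α) = (g : G) • (x : α) := rfl

theorem val_notMem (S : Finset α) (x : ofFixingSubgroup G (S : Set α)) : (x : α) ∉ S :=
  fun h => x.2 (Finset.mem_coe.mpr h)

/-- the hypotheses of the rigid Hall lemma for the pointwise stabilizer of a `(k-6)`-set -/
theorem RH_of_frame {k d : ℕ} (hk : 6 ≤ k) (hkn : k ≤ Fintype.card α)
    (ht : IsMultiplyPretransitive G α (k - 2))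
    (hrig : ∀ s : Finset α, s.card = k - 1 → fixingSubgroup G (s : Set α) = ⊥)
    (hd : ∀ Λ : Finset α, Λ.card = k - 2 → Nat.card (fixingSubgroup G (Λ : Set α)) = d)
    (hodd : Odd d) (S : Finset α) (hS : S.card = k - 6) :
    RH (fixingSubgroup G (S : Set α)) (ofFixingSubgroup G (S : Set α)) := by
  classical
  have hfin : Finite (S : Set α) := Finset.finite_toSet S |>.to_subtype
  refine ⟨?_, ?_, ?_⟩
  · haveI := ht
    exact SubMulAction.ofFixingSubgroup.isMultiplyPretransitive (n := k - 2) G (S : Set α)
      (by rw [Set.ncard_coe_finset, hS]; omega)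
  · intro g a b c e hD ha hb hc he
    have hD' : D4 (a : α) (b : α) (c : α) (e : α) := by
      obtain ⟨h1, h2, h3, h4, h5, h6⟩ := hD
      exact ⟨fun h => h1 (Subtype.ext h), fun h => h2 (Subtype.ext h), fun h => h3 (Subtype.ext h),
        fun h => h4 (Subtype.ext h), fun h => h5 (Subtype.ext h), fun h => h6 (Subtype.ext h)⟩
    have hdisj : Disjoint S ({(a : α), (b : α), (c : α), (e : α)} : Finset α) := by
      rw [Finset.disjoint_right]
      intro y hy
      simp only [Finset.mem_insert, Finset.mem_singleton] at hy
      rcases hy with rfl | rfl | rfl | rfl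
      · exact val_notMem G S a
      · exact val_notMem G S b
      · exact val_notMem G S c
      · exact val_notMem G S e
    obtain ⟨hcard, hmem⟩ := transfer_fix G S g _ hdisj (by
      intro y hy
      simp only [Finset.mem_insert, Finset.mem_singleton] at hy
      rcases hy with rfl | rfl | rfl | rfl
      · exact congrArg Subtype.val ha
      · exact congrArg Subtype.val hb
      · exact congrArg Subtype.val hc
      · exact congrArg Subtype.val he)
    rw [card_four hD', hS] at hcard
    have h1 := hd _ (by rw [hcard]; omega)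
    have h2 : orderOf (⟨(g : G), hmem⟩ : fixingSubgroup G _) ∣ d := by
      rw [← h1]; exact orderOf_dvd_natCard _
    rw [Subgroup.orderOf_mk, Subgroup.orderOf_coe] at h2
    exact Odd.of_dvd_nat hodd h2
  · intro g a b c e x hD hxa hxb hxc hxe ha hb hc he hx
    have hD' : D4 (a : α) (b : α) (c : α) (e : α) := by
      obtain ⟨h1, h2, h3, h4, h5, h6⟩ := hD
      exact ⟨fun h => h1 (Subtype.ext h), fun h => h2 (Subtype.ext h), fun h => h3 (Subtype.ext h),
        fun h => h4 (Subtype.ext h), fun h => h5 (Subtype.ext h), fun h => h6 (Subtype.ext h)⟩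
    have hdisj : Disjoint S (insert (x : α) ({(a : α), (b : α), (c : α), (e : α)} : Finset α)) := by
      rw [Finset.disjoint_right]
      intro y hy
      simp only [Finset.mem_insert, Finset.mem_singleton] at hy
      rcases hy with rfl | rfl | rfl | rfl | rfl
      · exact val_notMem G S x
      · exact val_notMem G S a
      · exact val_notMem G S b
      · exact val_notMem G S c
      · exact val_notMem G S e
    obtain ⟨hcard, hmem⟩ := transfer_fix G S g _ hdisj (by
      intro y hy
      simp only [Finset.mem_insert, Finset.mem_singleton] at hy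
      rcases hy with rfl | rfl | rfl | rfl | rfl
      · exact congrArg Subtype.val hx
      · exact congrArg Subtype.val ha
      · exact congrArg Subtype.val hb
      · exact congrArg Subtype.val hc
      · exact congrArg Subtype.val he)
    rw [Finset.card_insert_of_notMem (by
      simp only [Finset.mem_insert, Finset.mem_singleton, not_or]
      exact ⟨fun h => hxa (Subtype.ext h), fun h => hxb (Subtype.ext h),
        fun h => hxc (Subtype.ext h), fun h => hxe (Subtype.ext h)⟩), card_four hD', hS] at hcard
    have := rigid_elt G hrig (g : G) _ (by rw [hcard]; omega) (fun y hy =>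
      (mem_fixingSubgroup_iff G).mp hmem y (Finset.mem_coe.mpr hy))
    exact Subtype.ext this

/-- the rigid Hall bound in the frame: for `k ≥ 6` and `d` odd, `n - k + 6 ∈ {7, 11}` or `≤ 6` -/
theorem hall_bound {k d : ℕ} (hk : 6 ≤ k) (hkn : k ≤ Fintype.card α)
    (ht : IsMultiplyPretransitive G α (k - 2))
    (hrig : ∀ s : Finset α, s.card = k - 1 → fixingSubgroup G (s : Set α) = ⊥)
    (hd : ∀ Λ : Finset α, Λ.card = k - 2 → Nat.card (fixingSubgroup G (Λ : Set α)) = d)
    (hodd : Odd d) (hν : 7 ≤ Fintype.card α - (k - 6)) :
    Fintype.card α - (k - 6) = 7 ∨ Fintype.card α - (k - 6) = 11 := by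
  classical
  obtain ⟨S, hS⟩ := exists_finset_card (α := α) (j := k - 6) (by omega)
  have H := RH_of_frame G hk hkn ht hrig hd hodd S hS
  haveI : Fintype (ofFixingSubgroup G (S : Set α)) := Fintype.ofFinite _
  have hc : Fintype.card (ofFixingSubgroup G (S : Set α)) = Fintype.card α - (k - 6) := by
    rw [← Nat.card_eq_fintype_card, natCard_ofFixingSubgroup, hS]
  have := rigid_hall H (by rw [hc]; exact hν)
  rwa [hc] at this

end Cfsg.Agent.Lib.Helper1.Wl
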