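import Mathlib
import Cfsg.Agent.Lib.Helper1.Wl6

set_option autoImplicit false
set_option maxHeartbeats 4000000
set_option maxRecDepth 100000
set_option linter.unusedVariables false
set_option linter.unusedSectionVars false
set_option linter.style.longLine false
set_option linter.unusedSimpArgs false
set_option linter.deprecated false
set_option linter.style.haveILetI false

/-! # Wielandt / Livingstone–Wagner cluster, part 7: the order `d` is odd -/

namespace Cfsg.Agent.Lib.Helper1.Wl

open MulAction SubMulAction Cfsg.Agent.Lib.Helper7.Sharp4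
open scoped Pointwise Nat

variable {α : Type*} [Fintype α] [DecidableEq α] (G : Subgroup (Equiv.Perm α))

/-- Zassenhaus-type count in the frame: if `d` is even then `n - (k-2) ≤ 2 d` -/
theorem m_le_two_d {k d : ℕ} (hk : 4 ≤ k) (hkn : k ≤ Fintype.card α)
    (ht : IsMultiplyPretransitive G α (k - 2))
    (hrig : ∀ s : Finset α, s.card = k - 1 → fixingSubgroup G (s : Set α) = ⊥)
    (hd : ∀ Λ : Finset α, Λ.card = k - 2 → Nat.card (fixingSubgroup G (Λ : Set α)) = d)
    (heven : Even d) : Fintype.card α - (k - 2) ≤ 2 * d := by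
  classical
  obtain ⟨Λ, hΛ⟩ := exists_finset_card (α := α) (j := k - 2) (by omega)
  obtain ⟨S, hSΛ, hS⟩ := Finset.exists_subset_card_eq (s := Λ) (n := k - 4) (by omega)
  have h2c : (Λ \ S).card = 2 := by
    rw [Finset.card_sdiff_of_subset hSΛ, hΛ, hS]; omega
  obtain ⟨a₀, b₀, hab, hΛS⟩ := Finset.card_eq_two.mp h2c
  have ha₀ : a₀ ∈ Λ ∧ a₀ ∉ S := by
    have : a₀ ∈ Λ \ S := by rw [hΛS]; simp
    exact Finset.mem_sdiff.mp this
  have hb₀ : b₀ ∈ Λ ∧ b₀ ∉ S := by
    have : b₀ ∈ Λ \ S := by rw [hΛS]; simp
    exact Finset.mem_sdiff.mp this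
  -- an involution in the pointwise stabilizer of `Λ`
  haveI : Fact (Nat.Prime 2) := ⟨Nat.prime_two⟩
  obtain ⟨u', hu'⟩ := exists_prime_orderOf_dvd_card' (G := fixingSubgroup G (Λ : Set α)) 2
    (by rw [hd Λ hΛ]; exact heven.two_dvd)
  have hu'1 : u' ≠ 1 := by
    rintro rfl
    rw [orderOf_one] at hu'
    omega
  have hu'2 : u' * u' = 1 := by
    rw [← pow_two, ← hu', pow_orderOf_eq_one]
  have hfixΛ : ∀ y ∈ Λ, (u' : G) • y = y := fun y hy =>
    (mem_fixingSubgroup_iff G).mp u'.2 y (Finset.mem_coe.mpr hy)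
  have huS : (u' : G) ∈ fixingSubgroup G (S : Set α) := by
    rw [mem_fixingSubgroup_iff]
    intro y hy
    exact hfixΛ y (hSΛ (Finset.mem_coe.mp hy))
  -- the two transitive group
  have hfin : Finite (S : Set α) := Finset.finite_toSet S |>.to_subtype
  haveI : Fintype (ofFixingSubgroup G (S : Set α)) := Fintype.ofFinite _
  have hc : Fintype.card (ofFixingSubgroup G (S : Set α)) = Fintype.card α - (k - 4) := by
    rw [← Nat.card_eq_fintype_card, natCard_ofFixingSubgroup, hS]
  have h2t : IsMultiplyPretransitive (fixingSubgroup G (S : Set α))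
      (ofFixingSubgroup G (S : Set α)) 2 := by
    haveI := ht
    exact SubMulAction.ofFixingSubgroup.isMultiplyPretransitive (n := k - 2) G (S : Set α)
      (by rw [Set.ncard_coe_finset, hS]; omega)
  rw [is_two_pretransitive_iff] at h2t
  have key := lemE_count (Z := fixingSubgroup G (S : Set α)) (Ω := ofFixingSubgroup G (S : Set α))
    (fun a b a' b' h h' => h2t h h') ?_ d ?_ ⟨(u' : G), huS⟩
    ⟨a₀, fun h => ha₀.2 (Finset.mem_coe.mp h)⟩ ⟨b₀, fun h => hb₀.2 (Finset.mem_coe.mp h)⟩
    (fun h => hab (congrArg Subtype.val h)) ?_ ?_ ?_ ?_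
  · rw [hc] at key
    omega
  · -- three point stabilizers are trivial
    intro g a b c hab' hac hbc hga hgb hgc
    have hdisj : Disjoint S ({(a : α), (b : α), (c : α)} : Finset α) := by
      rw [Finset.disjoint_right]
      intro y hy
      simp only [Finset.mem_insert, Finset.mem_singleton] at hy
      rcases hy with rfl | rfl | rfl
      · exact val_notMem G S a
      · exact val_notMem G S b
      · exact val_notMem G S c
    obtain ⟨hcard, hmem⟩ := transfer_fix G S g _ hdisj (by
      intro y hy
      simp only [Finset.mem_insert, Finset.mem_singleton] at hy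
      rcases hy with rfl | rfl | rfl
      · exact congrArg Subtype.val hga
      · exact congrArg Subtype.val hgb
      · exact congrArg Subtype.val hgc)
    have h3c : ({(a : α), (b : α), (c : α)} : Finset α).card = 3 := by
      rw [Finset.card_insert_of_notMem, Finset.card_pair]
      · exact fun h => hbc (Subtype.ext h)
      · simp only [Finset.mem_insert, Finset.mem_singleton, not_or]
        exact ⟨fun h => hab' (Subtype.ext h), fun h => hac (Subtype.ext h)⟩
    rw [h3c, hS] at hcard
    have := rigid_elt G hrig (g : G) _ (by rw [hcard]; omega) (fun y hy =>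
      (mem_fixingSubgroup_iff G).mp hmem y (Finset.mem_coe.mpr hy))
    exact Subtype.ext this
  · -- two point stabilizers have order at most `d`
    intro x y hxy
    have hdisj : Disjoint S ({(x : α), (y : α)} : Finset α) := by
      rw [Finset.disjoint_right]
      intro z hz
      simp only [Finset.mem_insert, Finset.mem_singleton] at hz
      rcases hz with rfl | rfl
      · exact val_notMem G S x
      · exact val_notMem G S y
    have hcard : (S ∪ ({(x : α), (y : α)} : Finset α)).card = k - 2 := by
      rw [Finset.card_union_of_disjoint hdisj, Finset.card_pair (fun h => hxy (Subtype.ext h)), hS]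
      omega
    rw [← hd _ hcard]
    refine Nat.card_le_card_of_injective
      (fun g : (stabilizer (fixingSubgroup G (S : Set α)) x ⊓
        stabilizer (fixingSubgroup G (S : Set α)) y : Subgroup (fixingSubgroup G (S : Set α))) =>
        (⟨((g : fixingSubgroup G (S : Set α)) : G), (transfer_fix G S g.1 _ hdisj (by
          intro z hz
          simp only [Finset.mem_insert, Finset.mem_singleton] at hz
          rcases hz with rfl | rfl
          · exact congrArg Subtype.val (mem_stabilizer_iff.mp g.2.1)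
          · exact congrArg Subtype.val (mem_stabilizer_iff.mp g.2.2))).2⟩ :
          fixingSubgroup G ((S ∪ ({(x : α), (y : α)} : Finset α) : Finset α) : Set α))) ?_
    intro g g' hgg'
    have := congrArg Subtype.val hgg'
    simp only at this
    exact Subtype.ext (Subtype.ext this)
  · intro h
    apply hu'1
    have := congrArg Subtype.val h
    exact Subtype.ext this
  · apply Subtype.ext
    have := congrArg Subtype.val hu'2
    exact this
  · apply Subtype.ext
    exact hfixΛ a₀ ha₀.1
  · apply Subtype.ext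
    exact hfixΛ b₀ hb₀.1

/-- if the setwise stabilizers of `(k-1)`-sets have index two in the symmetric group, the pointwise
stabilizer of a `(k-2)`-set contains no involution -/
theorem no_transposition {k : ℕ} (hk : 3 ≤ k) (hkn : k ≤ Fintype.card α)
    (hrig : ∀ s : Finset α, s.card = k - 1 → fixingSubgroup G (s : Set α) = ⊥)
    (Λ : Finset α) (hΛ : Λ.card = k - 2) (u : G) (hu : u ∈ fixingSubgroup G (Λ : Set α))
    (hu1 : u ≠ 1) (hu2 : u * u = 1)
    (hh : ∀ Γ : Finset α, Γ.card = k - 1 → Nat.card (stabilizer G (Γ : Set α)) * 2 = (k - 1)!) :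
    False := by
  classical
  have hfixΛ : ∀ y ∈ Λ, u • y = y := fun y hy =>
    (mem_fixingSubgroup_iff G).mp hu y (Finset.mem_coe.mpr hy)
  obtain ⟨a, ha⟩ : Λ.Nonempty := Finset.card_pos.mp (by omega)
  obtain ⟨x, -, hx⟩ := Finset.exists_mem_notMem_of_card_lt_card
    (s := Λ) (t := Finset.univ) (by rw [Finset.card_univ]; omega)
  have huu : ∀ z : α, u • u • z = z := fun z => by rw [← mul_smul, hu2, one_smul]
  obtain ⟨y, hy⟩ : ∃ y : α, y = u • x := ⟨_, rfl⟩
  have hyx : y ≠ x := by
    intro h
    apply hu1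
    refine rigid_elt G hrig u (insert x Λ) (by rw [Finset.card_insert_of_notMem hx]; omega) ?_
    intro z hz
    rcases Finset.mem_insert.mp hz with rfl | hz
    · rw [← hy, h]
    · exact hfixΛ z hz
  have hyΛ : y ∉ Λ := by
    intro h
    have := hfixΛ y h
    rw [hy, huu] at this
    exact hyx (by rw [hy]; exact this.symm)
  have huy : u • y = x := by rw [hy, huu]
  set Γ : Finset α := insert x (insert y (Λ.erase a)) with hΓdef
  have hΓ : Γ.card = k - 1 := by
    rw [hΓdef, Finset.card_insert_of_notMem, Finset.card_insert_of_notMem,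
      Finset.card_erase_of_mem ha, hΛ]
    · omega
    · exact fun h => hyΛ (Finset.mem_of_mem_erase h)
    · rw [Finset.mem_insert, not_or]
      exact ⟨hyx.symm, fun h => hx (Finset.mem_of_mem_erase h)⟩
  have hxΓ : x ∈ (Γ : Set α) := by rw [hΓdef]; simp
  have hyΓ : y ∈ (Γ : Set α) := by rw [hΓdef]; simp
  have huΓ : u ∈ stabilizer G (Γ : Set α) := by
    rw [mem_stabilizer_set' (Finset.finite_toSet Γ)]
    intro b hb
    rw [Finset.mem_coe, hΓdef, Finset.mem_insert, Finset.mem_insert] at hb
    rcases hb with rfl | rfl | hb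
    · rw [← hy]; exact hyΓ
    · rw [huy]; exact hxΓ
    · rw [hfixΛ b (Finset.mem_of_mem_erase hb), Finset.mem_coe, hΓdef, Finset.mem_insert,
        Finset.mem_insert]
      exact Or.inr (Or.inr hb)
  haveI : Fintype ((Γ : Set α)) := Fintype.ofFinite _
  obtain ⟨ψ, hψ⟩ : ∃ ψ : stabilizer G (Γ : Set α) →* Equiv.Perm ((Γ : Set α)),
      ψ = MulAction.toPermHom (stabilizer G (Γ : Set α)) ((Γ : Set α)) := ⟨_, rfl⟩
  have hψapp : ∀ (g : stabilizer G (Γ : Set α)) (b : (Γ : Set α)),
      ((ψ g b : (Γ : Set α)) : α) = (g : G) • (b : α) := by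
    intro g b; rw [hψ]; rfl
  have hinj : Function.Injective ψ := by
    rw [injective_iff_map_eq_one]
    intro g hg
    have : (g : G) = 1 := by
      refine rigid_elt G hrig (g : G) Γ (by rw [hΓ]) ?_
      intro z hz
      have := hψapp g ⟨z, Finset.mem_coe.mpr hz⟩
      rw [hg] at this
      exact this.symm
    exact Subtype.ext this
  have hcardΓ : Nat.card ((Γ : Set α)) = k - 1 := by
    rw [Nat.card_coe_set_eq, Set.ncard_coe_finset, hΓ]
  have hrange : Nat.card ψ.range = Nat.card (stabilizer G (Γ : Set α)) :=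
    (Nat.card_congr (MonoidHom.ofInjective hinj).toEquiv).symm
  have hindex : ψ.range.index = 2 := by
    have h1 := Subgroup.index_mul_card ψ.range
    rw [Nat.card_perm, hcardΓ, hrange, ← hh Γ hΓ, mul_comm] at h1
    exact Nat.eq_of_mul_eq_mul_left Nat.card_pos h1
  have halt := Equiv.Perm.eq_alternatingGroup_of_index_eq_two hindex
  have hmem : ψ ⟨u, huΓ⟩ ∈ alternatingGroup ((Γ : Set α)) := by
    rw [← halt]; exact ⟨_, rfl⟩
  rw [Equiv.Perm.mem_alternatingGroup] at hmem
  have hswap : ψ ⟨u, huΓ⟩ = Equiv.swap (⟨x, hxΓ⟩ : (Γ : Set α)) ⟨y, hyΓ⟩ := by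
    ext b
    rw [hψapp]
    show u • (b : α) = _
    by_cases hbx : b = ⟨x, hxΓ⟩
    · rw [hbx, Equiv.swap_apply_left]
      exact hy.symm
    · by_cases hby : b = ⟨y, hyΓ⟩
      · rw [hby, Equiv.swap_apply_right]
        exact huy
      · rw [Equiv.swap_apply_of_ne_of_ne hbx hby]
        have hb : (b : α) ∈ insert x (insert y (Λ.erase a)) := Finset.mem_coe.mp b.2
        rw [Finset.mem_insert, Finset.mem_insert] at hb
        rcases hb with hb | hb | hb
        · exact absurd (Subtype.ext hb) hbx
        · exact absurd (Subtype.ext hb) hby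
        · exact hfixΛ _ (Finset.mem_of_mem_erase hb)
  rw [hswap, Equiv.Perm.sign_swap (fun h => hyx (congrArg Subtype.val h).symm)] at hmem
  exact absurd hmem (by decide)

/-- **Lemma E**: the order `d` of the pointwise stabilizer of a `(k-2)`-set is odd. -/
theorem d_odd {k d j : ℕ} (hk : 4 ≤ k) (hkn : k ≤ Fintype.card α)
    (ht : IsMultiplyPretransitive G α (k - 2))
    (hrig : ∀ s : Finset α, s.card = k - 1 → fixingSubgroup G (s : Set α) = ⊥)
    (hd : ∀ Λ : Finset α, Λ.card = k - 2 → Nat.card (fixingSubgroup G (Λ : Set α)) = d)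
    (hm : Fintype.card α - (k - 2) = d * j) (hj : 2 ≤ j)
    (hh : ∀ Γ : Finset α, Γ.card = k - 1 → Nat.card (stabilizer G (Γ : Set α)) * j = (k - 1)!) :
    Odd d := by
  by_contra hcon
  rw [Nat.not_odd_iff_even] at hcon
  have h1 := m_le_two_d G hk hkn ht hrig hd hcon
  obtain ⟨Λ, hΛ⟩ := exists_finset_card (α := α) (j := k - 2) (by omega)
  have hdpos : 0 < d := by rw [← hd Λ hΛ]; exact Nat.card_pos
  have hj2 : j = 2 := by
    rw [hm] at h1
    have : d * j ≤ d * 2 := by rw [mul_comm d 2]; exact h1
    have := Nat.le_of_mul_le_mul_left this hdpos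
    omega
  subst hj2
  haveI : Fact (Nat.Prime 2) := ⟨Nat.prime_two⟩
  obtain ⟨u', hu'⟩ := exists_prime_orderOf_dvd_card' (G := fixingSubgroup G (Λ : Set α)) 2
    (by rw [hd Λ hΛ]; exact hcon.two_dvd)
  have hu'1 : u' ≠ 1 := by
    rintro rfl
    rw [orderOf_one] at hu'
    omega
  have hu'2 : u' * u' = 1 := by
    rw [← pow_two, ← hu', pow_orderOf_eq_one]
  exact no_transposition G (by omega) hkn hrig Λ hΛ (u' : G) u'.2
    (fun h => hu'1 (Subtype.ext h)) (congrArg Subtype.val hu'2) hh

end Cfsg.Agent.Lib.Helper1.Wl
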