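import Mathlib
import Cfsg.Agent.Lib.Helper1.Wl7

set_option autoImplicit false
set_option maxHeartbeats 4000000
set_option maxRecDepth 100000
set_option linter.unusedVariables false
set_option linter.unusedSectionVars false
set_option linter.style.longLine false
set_option linter.unusedSimpArgs false
set_option linter.deprecated false
set_option linter.style.haveILetI false

/-! # Wielandt / Livingstone–Wagner cluster, part 8: numerical data and the small cases -/

namespace Cfsg.Agent.Lib.Helper1.Wl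

open MulAction SubMulAction Cfsg.Agent.Lib.Helper7.Sharp4
open scoped Pointwise Nat

variable {α : Type*} [Fintype α] [DecidableEq α] (G : Subgroup (Equiv.Perm α))

/-- numerical data of a (potential) counterexample -/
structure WData (G : Subgroup (Equiv.Perm α)) (k d j : ℕ) : Prop where
  hrig : ∀ s : Finset α, s.card = k - 1 → fixingSubgroup G (s : Set α) = ⊥
  hd : ∀ Λ : Finset α, Λ.card = k - 2 → Nat.card (fixingSubgroup G (Λ : Set α)) = d
  hm : Fintype.card α - (k - 2) = d * j
  hj : 2 ≤ j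
  hh1 : ∀ Γ : Finset α, Γ.card = k - 1 → Nat.card (stabilizer G (Γ : Set α)) * j = (k - 1)!
  hh : ∀ Δ : Finset α, Δ.card = k →
    Nat.card (stabilizer G (Δ : Set α)) * j * (Fintype.card α - (k - 2) - 1) = (k)!
  hG : Nat.card G * (Fintype.card α - (k - 2))! = (Fintype.card α)! * d

theorem exists_WData {k : ℕ} (hk : 3 ≤ k) (hkn : k ≤ Fintype.card α)
    (ht : IsMultiplyPretransitive G α (k - 2))
    (hh1 : IsPretransitive G (Set.powersetCard α (k - 1)))
    (hh : IsPretransitive G (Set.powersetCard α k))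
    (hnt : ¬ IsMultiplyPretransitive G α (k - 1)) : ∃ d j, WData G k d j := by
  have hrig := rigid G (by omega) hkn hh1 hh hnt
  obtain ⟨Λ₀, hΛ₀⟩ := exists_finset_card (α := α) (j := k - 2) (by omega)
  obtain ⟨Γ₀, hΓ₀⟩ := exists_finset_card (α := α) (j := k - 1) (by omega)
  obtain ⟨Δ₀, hΔ₀⟩ := exists_finset_card (α := α) (j := k) hkn
  have hhom2 : IsPretransitive G (Set.powersetCard α (k - 2)) :=
    Set.powersetCard.isPretransitive_of_isMultiplyPretransitive G ht
  have hd : ∀ Λ : Finset α, Λ.card = k - 2 → Nat.card (fixingSubgroup G (Λ : Set α)) =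
      Nat.card (fixingSubgroup G (Λ₀ : Set α)) :=
    fun Λ hΛ => card_fixingSubgroup_const G hhom2 hΛ₀ hΛ
  have hdvd := card_fixing_dvd G hrig Λ₀ (by omega)
  rw [hΛ₀] at hdvd
  obtain ⟨j, hj⟩ := hdvd
  have hdpos : 0 < Nat.card (fixingSubgroup G (Λ₀ : Set α)) := Nat.card_pos
  have hj2 : 2 ≤ j := by
    by_contra hcon
    have : j = 0 ∨ j = 1 := by omega
    rcases this with rfl | rfl
    · rw [mul_zero] at hj; omega
    · rw [mul_one] at hj
      exact hnt (trans_of_card_eq G (by omega) hkn ht hrig Λ₀ hΛ₀ (by rw [hΛ₀]; exact hj.symm))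
  have hG := card_mul_factorial G ht Λ₀ hΛ₀
  have core : ∀ (Γ Δ : Finset α), Γ.card = k - 1 → Δ.card = k →
      Nat.card (stabilizer G (Γ : Set α)) * j = (k - 1)! ∧
      Nat.card (stabilizer G (Δ : Set α)) * j * (Fintype.card α - (k - 2) - 1) = k ! := by
    intro Γ Δ hΓ hΔ
    have h2 := card_eq_choose_mul G hh1 Γ hΓ
    have h3 := card_eq_choose_mul G hh Δ hΔ
    obtain ⟨t, rfl⟩ : ∃ t, k = t + 2 := ⟨k - 2, by omega⟩
    have e1 : t + 2 - 2 = t := by omega
    have e2 : t + 2 - 1 = t + 1 := by omega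
    rw [e1] at hj hG ⊢
    rw [e2] at h2 ⊢
    exact numerics_core (n := Fintype.card α) (t := t) (m := Fintype.card α - t) (by omega)
      (by omega) hG h2 h3 hj hdpos
  exact ⟨_, j, hrig, hd, hj, hj2, fun Γ hΓ => (core Γ Δ₀ hΓ hΔ₀).1,
    fun Δ hΔ => (core Γ₀ Δ hΓ₀ hΔ).2, hG⟩

theorem num4 {h j κ m d : ℕ} (h1 : h * j = 6) (h2 : κ * j * (m - 1) = 24) (hm : m = d * j)
    (hj : 2 ≤ j) (hm6 : 6 ≤ m) (hodd : Odd d) : j = 3 ∧ m = 9 ∧ κ = 1 ∧ d = 3 := by
  have hjle : j ≤ 6 := Nat.le_of_dvd (by norm_num) (Dvd.intro_left h h1)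
  have hmle : m - 1 ≤ 24 := Nat.le_of_dvd (by norm_num) (Dvd.intro_left (κ * j) h2)
  have hd2 : d % 2 = 1 := Nat.odd_iff.mp hodd
  have hmle' : m ≤ 25 := by omega
  interval_cases j <;> first | omega | (interval_cases m <;> omega)

theorem num5 {h j κ m d : ℕ} (h1 : h * j = 24) (h2 : κ * j * (m - 1) = 120) (hm : m = d * j)
    (hj : 2 ≤ j) (hm7 : 7 ≤ m) (hodd : Odd d) :
    (j = 3 ∧ m = 9 ∧ κ = 5 ∧ d = 3) ∨ (j = 3 ∧ m = 21 ∧ κ = 2 ∧ d = 7) := by
  have hjle : j ≤ 24 := Nat.le_of_dvd (by norm_num) (Dvd.intro_left h h1)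
  have hmle : m - 1 ≤ 120 := Nat.le_of_dvd (by norm_num) (Dvd.intro_left (κ * j) h2)
  have hd2 : d % 2 = 1 := Nat.odd_iff.mp hodd
  have hmle2 : m ≤ 61 := by
    have : (m - 1) * 2 ≤ 120 := by
      calc (m - 1) * 2 ≤ (m - 1) * j := Nat.mul_le_mul_left _ hj
        _ ≤ κ * j * (m - 1) := by
          have hκ : 1 ≤ κ := by
            rcases Nat.eq_zero_or_pos κ with h | h
            · rw [h] at h2; simp at h2
            · exact h
          nlinarith
        _ = 120 := h2
    omega
  interval_cases j <;> first | omega | (interval_cases m <;> omega)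

/-- two 2-cycles of an involution with few fixed points -/
theorem exists_two_cycles (v : G) (hv2 : v * v = 1) (f : ℕ)
    (hf : ∀ s : Finset α, (∀ x ∈ s, v • x = x) → s.card ≤ f) (hn : f + 3 ≤ Fintype.card α) :
    ∃ x y : α, D4 x (v • x) y (v • y) := by
  classical
  have hvv : ∀ z : α, v • v • z = z := fun z => by rw [← mul_smul, hv2, one_smul]
  have h1 := Finset.card_filter_add_card_filter_not (s := (Finset.univ : Finset α))
    (fun x => v • x = x)
  have h2 := hf (Finset.univ.filter (fun x => v • x = x)) (fun x hx => (Finset.mem_filter.mp hx).2)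
  rw [Finset.card_univ] at h1
  have h3 : 3 ≤ (Finset.univ.filter (fun x : α => ¬ v • x = x)).card := by omega
  obtain ⟨x, hx⟩ : (Finset.univ.filter (fun x : α => ¬ v • x = x)).Nonempty :=
    Finset.card_pos.mp (by omega)
  have hxm := (Finset.mem_filter.mp hx).2
  have h4 : 0 < (((Finset.univ.filter (fun x : α => ¬ v • x = x)).erase x).erase (v • x)).card := by
    have := Finset.pred_card_le_card_erase (s := (Finset.univ.filter (fun x : α => ¬ v • x = x)).erase x)
      (a := v • x)
    rw [Finset.card_erase_of_mem hx] at this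
    omega
  obtain ⟨y, hy⟩ := Finset.card_pos.mp h4
  rw [Finset.mem_erase, Finset.mem_erase, Finset.mem_filter] at hy
  obtain ⟨hy1, hy2, -, hym⟩ := hy
  refine ⟨x, y, fun h => hxm h.symm, fun h => hy2 h.symm, ?_, fun h => hy1 h.symm, ?_,
    fun h => hym h.symm⟩
  · intro h
    apply hy1
    rw [h, hvv]
  · intro h
    exact hy2 (smul_left_cancel v h).symm

theorem kill_k4 (hn : Fintype.card α = 11)
    (hrig : ∀ s : Finset α, s.card = 3 → fixingSubgroup G (s : Set α) = ⊥)
    (hκ : ∀ Δ : Finset α, Δ.card = 4 → Nat.card (stabilizer G (Δ : Set α)) = 1)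
    (heven : Even (Nat.card G)) : False := by
  classical
  haveI : Fact (Nat.Prime 2) := ⟨Nat.prime_two⟩
  obtain ⟨v, hv⟩ := exists_prime_orderOf_dvd_card' (G := G) 2 heven.two_dvd
  have hv1 : v ≠ 1 := by
    rintro rfl
    rw [orderOf_one] at hv
    omega
  have hv2 : v * v = 1 := by rw [← pow_two, ← hv, pow_orderOf_eq_one]
  have hvv : ∀ z : α, v • v • z = z := fun z => by rw [← mul_smul, hv2, one_smul]
  obtain ⟨x, y, hD⟩ := exists_two_cycles G v hv2 2 (by
    intro s hs
    by_contra hcon
    push Not at hcon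
    exact hv1 (rigid_elt G (k := 4) hrig v s (by omega) hs)) (by omega)
  have hmem : v ∈ stabilizer G ((({x, v • x, y, v • y} : Finset α)) : Set α) := by
    rw [mem_stabilizer_set' (Finset.finite_toSet _)]
    intro b hb
    simp only [Finset.coe_insert, Finset.coe_singleton, Set.mem_insert_iff,
      Set.mem_singleton_iff] at hb ⊢
    rcases hb with rfl | rfl | rfl | rfl
    · exact Or.inr (Or.inl rfl)
    · exact Or.inl (hvv _)
    · exact Or.inr (Or.inr (Or.inr rfl))
    · exact Or.inr (Or.inr (Or.inl (hvv _)))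
  have hbot := Subgroup.eq_bot_of_card_eq _ (hκ _ (card_four hD))
  rw [hbot] at hmem
  exact hv1 (Subgroup.mem_bot.mp hmem)

theorem kill_k5_9 (hn : Fintype.card α = 12) (ht3 : IsMultiplyPretransitive G α 3)
    (hrig : ∀ s : Finset α, s.card = 4 → fixingSubgroup G (s : Set α) = ⊥)
    (hd : ∀ Λ : Finset α, Λ.card = 3 → Nat.card (fixingSubgroup G (Λ : Set α)) = 3)
    (hκ : ∀ Δ : Finset α, Δ.card = 5 → Nat.card (stabilizer G (Δ : Set α)) = 5) : False := by
  classical
  obtain ⟨Λ, hΛ⟩ := exists_finset_card (α := α) (j := 3) (by omega)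
  obtain ⟨a, haΛ⟩ : Λ.Nonempty := Finset.card_pos.mp (by omega)
  have ht1 : IsMultiplyPretransitive G α 1 := by
    haveI := ht3
    exact isMultiplyPretransitive_of_le (n := 3) (by norm_num)
      (by rw [Nat.card_eq_fintype_card, hn]; norm_num)
  have h1 := card_mul_factorial G ht3 Λ hΛ
  have h2 := card_mul_factorial G ht1 {a} (Finset.card_singleton a)
  rw [hn, hd Λ hΛ] at h1
  rw [hn] at h2
  have e9 : (12 - 3)! = 362880 := by decide
  have e11 : (12 - 1)! = 39916800 := by decide
  have e12 : (12)! = 479001600 := by decide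
  rw [e9, e12] at h1
  rw [e11, e12] at h2
  have hGa : Nat.card (fixingSubgroup G ((({a} : Finset α)) : Set α)) = 330 := by omega
  haveI : Fact (Nat.Prime 2) := ⟨Nat.prime_two⟩
  obtain ⟨v', hv'⟩ := exists_prime_orderOf_dvd_card'
    (G := fixingSubgroup G ((({a} : Finset α)) : Set α)) 2 (by rw [hGa]; norm_num)
  obtain ⟨v, hvdef⟩ : ∃ v : G, v = (v' : G) := ⟨_, rfl⟩
  have hv : orderOf v = 2 := by rw [hvdef, Subgroup.orderOf_coe, hv']
  have hva : v • a = a := by
    rw [hvdef]
    exact (mem_fixingSubgroup_iff G).mp v'.2 a (by simp)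
  have hv1 : v ≠ 1 := by
    rintro rfl
    rw [orderOf_one] at hv
    omega
  have hv2 : v * v = 1 := by rw [← pow_two, ← hv, pow_orderOf_eq_one]
  have hvv : ∀ z : α, v • v • z = z := fun z => by rw [← mul_smul, hv2, one_smul]
  obtain ⟨x, y, hD⟩ := exists_two_cycles G v hv2 3 (by
    intro s hs
    by_contra hcon
    push Not at hcon
    exact hv1 (rigid_elt G (k := 5) hrig v s (by omega) hs)) (by omega)
  have hmem : v ∈ stabilizer G (((insert a ({x, v • x, y, v • y} : Finset α) : Finset α)) : Set α) := by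
    rw [mem_stabilizer_set' (Finset.finite_toSet _)]
    intro b hb
    simp only [Finset.coe_insert, Finset.coe_singleton, Set.mem_insert_iff,
      Set.mem_singleton_iff] at hb ⊢
    rcases hb with rfl | rfl | rfl | rfl | rfl
    · exact Or.inl hva
    · exact Or.inr (Or.inr (Or.inl rfl))
    · exact Or.inr (Or.inl (hvv _))
    · exact Or.inr (Or.inr (Or.inr (Or.inr rfl)))
    · exact Or.inr (Or.inr (Or.inr (Or.inl (hvv _))))
  have hcard : (insert a ({x, v • x, y, v • y} : Finset α)).card = 5 := by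
    rw [Finset.card_insert_of_notMem, card_four hD]
    simp only [Finset.mem_insert, Finset.mem_singleton, not_or]
    obtain ⟨d1, d2, d3, d4, d5, d6⟩ := hD
    refine ⟨?_, ?_, ?_, ?_⟩
    · rintro rfl; exact d1 hva.symm
    · intro h
      have h' : v • a = x := by rw [h, hvv]
      rw [hva] at h'
      exact d1 (h'.symm.trans h)
    · rintro rfl; exact d6 hva.symm
    · intro h
      have h' : v • a = y := by rw [h, hvv]
      rw [hva] at h'
      exact d6 (h'.symm.trans h)
  have h5 := hκ _ hcard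
  have hdvd : orderOf (⟨v, hmem⟩ : stabilizer G _) ∣ 5 := by
    rw [← h5]; exact orderOf_dvd_natCard _
  rw [Subgroup.orderOf_mk, hv] at hdvd
  omega

/-- a normal subgroup of prime order `p` is centralized by elements of order prime to `p - 1` -/
theorem commute_of_normal_prime {Y : Type*} [Group Y] [Finite Y] (P : Subgroup Y) [P.Normal]
    {p : ℕ} [hp : Fact p.Prime] (hP : Nat.card P = p) (v : Y)
    (hv : Nat.Coprime (orderOf v) (p - 1)) (z : Y) (hz : z ∈ P) : v * z = z * v := by
  haveI : IsCyclic P := isCyclic_of_prime_card hP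
  have hcard : Nat.card (MulAut P) = p - 1 := by
    rw [IsCyclic.card_mulAut P, hP, Nat.totient_prime hp.out]
  have h1 : orderOf (MulAut.conjNormal (H := P) v) ∣ orderOf v := orderOf_map_dvd _ v
  have h2 : orderOf (MulAut.conjNormal (H := P) v) ∣ p - 1 := by
    rw [← hcard]; exact orderOf_dvd_natCard _
  have h3 : orderOf (MulAut.conjNormal (H := P) v) = 1 :=
    Nat.eq_one_of_dvd_coprimes hv h1 h2
  rw [orderOf_eq_one_iff] at h3
  have h4 := congrArg (fun f : MulAut P => ((f ⟨z, hz⟩ : P) : Y)) h3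
  simp only [MulAut.conjNormal_apply, MulAut.one_apply] at h4
  calc v * z = v * z * v⁻¹ * v := by group
    _ = z * v := by rw [h4]

theorem exists_normal_eleven {Y : Type*} [Group Y] [Finite Y] (hY : Nat.card Y = 154) :
    ∃ P : Subgroup Y, P.Normal ∧ Nat.card P = 11 := by
  haveI : Fact (Nat.Prime 11) := ⟨by norm_num⟩
  let P : Sylow 11 Y := default
  have hPG : IsPGroup 11 (P : Subgroup Y) := P.isPGroup'
  obtain ⟨n, hn⟩ := IsPGroup.iff_card.mp hPG
  have hidx := Subgroup.card_mul_index (P : Subgroup Y)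
  rw [hY] at hidx
  have hnd : ¬ 11 ∣ (P : Subgroup Y).index := P.not_dvd_index
  have hn1 : n = 1 := by
    rcases Nat.lt_or_ge n 2 with h | h
    · interval_cases n
      · exfalso
        rw [hn, pow_zero, one_mul] at hidx
        rw [hidx] at hnd
        exact hnd (by norm_num)
      · rfl
    · exfalso
      have : 11 ^ 2 ∣ Nat.card (P : Subgroup Y) := by
        rw [hn]; exact pow_dvd_pow 11 h
      have h2 : 11 ^ 2 ∣ 154 := by
        rw [← hidx]; exact Dvd.dvd.mul_right this _
      norm_num at h2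
  rw [hn1, pow_one] at hn
  have hi14 : (P : Subgroup Y).index = 14 := by
    rw [hn] at hidx; omega
  have h1 := card_sylow_modEq_one 11 Y
  have h2 := P.card_dvd_index
  rw [hi14] at h2
  have h3 : Nat.card (Sylow 11 Y) ≤ 14 := Nat.le_of_dvd (by norm_num) h2
  have h4 : Nat.card (Sylow 11 Y) = 1 := by
    unfold Nat.ModEq at h1
    have hpos : 0 < Nat.card (Sylow 11 Y) := Nat.card_pos
    interval_cases (Nat.card (Sylow 11 Y)) <;> simp_all
  haveI : Subsingleton (Sylow 11 Y) := (Nat.card_eq_one_iff_unique.mp h4).1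
  exact ⟨P, Sylow.normal_of_subsingleton P, hn⟩

theorem kill_k5_21 (hn : Fintype.card α = 24) (ht3 : IsMultiplyPretransitive G α 3)
    (hrig : ∀ s : Finset α, s.card = 4 → fixingSubgroup G (s : Set α) = ⊥)
    (hd : ∀ Λ : Finset α, Λ.card = 3 → Nat.card (fixingSubgroup G (Λ : Set α)) = 7) : False := by
  classical
  obtain ⟨Λ, hΛ⟩ := exists_finset_card (α := α) (j := 3) (by omega)
  obtain ⟨a, b, x, hab, hax, hbx, rfl⟩ := Finset.card_eq_three.mp hΛ
  have ht2 : IsMultiplyPretransitive G α 2 := by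
    haveI := ht3
    exact isMultiplyPretransitive_of_le (n := 3) (by norm_num)
      (by rw [Nat.card_eq_fintype_card, hn]; norm_num)
  have h1 := card_mul_factorial G ht3 _ hΛ
  have h2 := card_mul_factorial G ht2 {a, b} (Finset.card_pair hab)
  rw [hn, hd _ hΛ] at h1
  rw [hn] at h2
  have e22 : (24 - 2)! = 22 * (24 - 3)! := by
    show (22)! = 22 * (21)!
    exact Nat.factorial_succ 21
  have hY : Nat.card (fixingSubgroup G ((({a, b} : Finset α)) : Set α)) = 154 := by
    have h3 : (24)! * Nat.card (fixingSubgroup G ((({a, b} : Finset α)) : Set α)) = (24)! * 154 := by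
      rw [← h2, e22]
      calc Nat.card G * (22 * (24 - 3)!) = 22 * (Nat.card G * (24 - 3)!) := by ring
        _ = 22 * ((24)! * 7) := by rw [h1]
        _ = (24)! * 154 := by ring
    exact Nat.eq_of_mul_eq_mul_left (Nat.factorial_pos 24) h3
  obtain ⟨P, hPn, hP⟩ := exists_normal_eleven hY
  haveI := hPn
  haveI : Fact (Nat.Prime 11) := ⟨by norm_num⟩
  haveI : Fact (Nat.Prime 7) := ⟨by norm_num⟩
  obtain ⟨z', hz'⟩ := exists_prime_orderOf_dvd_card' (G := P) 11 (by rw [hP])
  obtain ⟨v', hv'⟩ := exists_prime_orderOf_dvd_card'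
    (G := fixingSubgroup G ((({a, b, x} : Finset α)) : Set α)) 7 (by rw [hd _ hΛ])
  have hvfix : ∀ y ∈ ({a, b, x} : Finset α), (v' : G) • y = y := fun y hy =>
    (mem_fixingSubgroup_iff G).mp v'.2 y (Finset.mem_coe.mpr hy)
  have hvY : (v' : G) ∈ fixingSubgroup G ((({a, b} : Finset α)) : Set α) := by
    rw [mem_fixingSubgroup_iff]
    intro y hy
    apply hvfix
    simp only [Finset.coe_insert, Finset.coe_singleton, Set.mem_insert_iff,
      Set.mem_singleton_iff] at hy
    simp only [Finset.mem_insert, Finset.mem_singleton]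
    tauto
  obtain ⟨vY, hvYdef⟩ : ∃ vY : fixingSubgroup G ((({a, b} : Finset α)) : Set α),
      vY = ⟨(v' : G), hvY⟩ := ⟨_, rfl⟩
  have hvYord : orderOf vY = 7 := by
    rw [hvYdef, Subgroup.orderOf_mk, Subgroup.orderOf_coe, hv']
  have hcomm := commute_of_normal_prime P hP vY (by rw [hvYord]; norm_num) (z' : _) z'.2
  obtain ⟨z, hzdef⟩ : ∃ z : G, z = ((z' : fixingSubgroup G ((({a, b} : Finset α)) : Set α)) : G) :=
    ⟨_, rfl⟩
  have hzord : orderOf z = 11 := by
    rw [hzdef, Subgroup.orderOf_coe, Subgroup.orderOf_coe, hz']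
  have hzfix : ∀ y ∈ ({a, b} : Finset α), z • y = y := fun y hy => by
    rw [hzdef]
    exact (mem_fixingSubgroup_iff G).mp (z' : fixingSubgroup G _).2 y (Finset.mem_coe.mpr hy)
  have hcommG : (v' : G) * z = z * (v' : G) := by
    have := congrArg (fun w : fixingSubgroup G ((({a, b} : Finset α)) : Set α) => (w : G)) hcomm
    simp only [Subgroup.coe_mul] at this
    rw [hvYdef] at this
    rw [hzdef]
    exact this
  have hv1 : (v' : G) ≠ 1 := by
    intro h
    have : orderOf (v' : G) = 7 := by rw [Subgroup.orderOf_coe, hv']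
    rw [h, orderOf_one] at this
    omega
  -- `z • x` is fixed by `v'`
  have hfix : (v' : G) • (z • x) = z • x := by
    rw [← mul_smul, hcommG, mul_smul, hvfix x (by simp)]
  have hza : z • a = a := hzfix a (by simp)
  have hzb : z • b = b := hzfix b (by simp)
  have hzx : z • x = x := by
    by_contra hne
    have hne_a : z • x ≠ a := by
      intro h
      rw [← hza] at h
      exact hax (smul_left_cancel z h).symm
    have hne_b : z • x ≠ b := by
      intro h
      rw [← hzb] at h
      exact hbx (smul_left_cancel z h).symm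
    apply hv1
    refine rigid_elt G (k := 5) hrig (v' : G) (insert (z • x) {a, b, x}) ?_ ?_
    · rw [Finset.card_insert_of_notMem, hΛ]
      simp only [Finset.mem_insert, Finset.mem_singleton, not_or]
      exact ⟨hne_a, hne_b, hne⟩
    · intro y hy
      rcases Finset.mem_insert.mp hy with rfl | hy
      · exact hfix
      · exact hvfix y hy
  have hzmem : z ∈ fixingSubgroup G ((({a, b, x} : Finset α)) : Set α) := by
    rw [mem_fixingSubgroup_iff]
    intro y hy
    simp only [Finset.coe_insert, Finset.coe_singleton, Set.mem_insert_iff,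
      Set.mem_singleton_iff] at hy
    rcases hy with rfl | rfl | rfl
    · exact hza
    · exact hzb
    · exact hzx
  have hdvd : orderOf (⟨z, hzmem⟩ : fixingSubgroup G ((({a, b, x} : Finset α)) : Set α)) ∣ 7 := by
    rw [← hd _ hΛ]; exact orderOf_dvd_natCard _
  rw [Subgroup.orderOf_mk, hzord] at hdvd
  omega

end Cfsg.Agent.Lib.Helper1.Wl
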