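import Mathlib
import Cfsg.Agent.Lib.Helper1.Wl8
import Cfsg.Agent.S0698

set_option autoImplicit false
set_option maxHeartbeats 4000000
set_option maxRecDepth 100000
set_option linter.unusedVariables false
set_option linter.unusedSectionVars false
set_option linter.style.longLine false
set_option linter.unusedSimpArgs false
set_option linter.deprecated false
set_option linter.style.haveILetI false

/-! # Wielandt / Livingstone–Wagner cluster, part 10: tools for the list of exceptions -/

namespace Cfsg.Agent.Lib.Helper1.Wl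

open MulAction SubMulAction Cfsg.Agent.Lib.Helper7.Sharp4
open scoped Pointwise Nat

/-- the symmetric group of degree at least 5 has no subgroup of index `i` with `2 < i < degree` -/
theorem no_small_index {β : Type*} [Fintype β] [DecidableEq β] (H : Subgroup (Equiv.Perm β))
    (hβ : 5 ≤ Fintype.card β) (hi : 2 < H.index) (hi' : H.index < Fintype.card β) : False := by
  by_cases hK : H.normalCore = ⊥
  · -- faithful action on the cosets
    have hinj : Function.Injective (MulAction.toPermHom (Equiv.Perm β) (Equiv.Perm β ⧸ H)) := by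
      rw [← MonoidHom.ker_eq_bot_iff, ← Subgroup.normalCore_eq_ker, hK]
    have h1 := Subgroup.card_dvd_of_injective _ hinj
    rw [Nat.card_perm, Nat.card_perm, Nat.card_eq_fintype_card (α := β)] at h1
    have h2 : Nat.card (Equiv.Perm β ⧸ H) = H.index := rfl
    rw [h2] at h1
    have h3 := Nat.le_of_dvd (Nat.factorial_pos _) h1
    have h4 := (Nat.factorial_lt (by omega : 0 < H.index)).mpr hi'
    omega
  · haveI : Nontrivial H.normalCore := (Subgroup.nontrivial_iff_ne_bot _).mpr hK
    have h1 := Equiv.Perm.alternatingGroup_le_of_normal (α := β)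
      (by rw [Nat.card_eq_fintype_card]; exact hβ) (N := H.normalCore) inferInstance
    have h2 : alternatingGroup β ≤ H := h1.trans (Subgroup.normalCore_le H)
    have h3 := Subgroup.index_dvd_of_le h2
    haveI : Nontrivial β := Fintype.one_lt_card_iff_nontrivial.mp (by omega)
    rw [alternatingGroup.index_eq_two] at h3
    have := Nat.le_of_dvd (by norm_num) h3
    omega

variable {α : Type*} [Fintype α] [DecidableEq α] (G : Subgroup (Equiv.Perm α))

/-- the setwise stabilizer of a `(k-1)`-set embeds into its symmetric group -/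
theorem exists_subgroup_index {k : ℕ}
    (hrig : ∀ s : Finset α, s.card = k - 1 → fixingSubgroup G (s : Set α) = ⊥)
    (Γ : Finset α) (hΓ : Γ.card = k - 1) :
    ∃ H : Subgroup (Equiv.Perm ((Γ : Set α))),
      H.index * Nat.card (stabilizer G (Γ : Set α)) = (k - 1)! := by
  classical
  obtain ⟨ψ, hψ⟩ : ∃ ψ : stabilizer G (Γ : Set α) →* Equiv.Perm ((Γ : Set α)),
      ψ = MulAction.toPermHom (stabilizer G (Γ : Set α)) ((Γ : Set α)) := ⟨_, rfl⟩
  have hψapp : ∀ (g : stabilizer G (Γ : Set α)) (b : (Γ : Set α)),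
      ((ψ g b : (Γ : Set α)) : α) = (g : G) • (b : α) := by
    intro g b; rw [hψ]; rfl
  have hinj : Function.Injective ψ := by
    rw [injective_iff_map_eq_one]
    intro g hg
    have : (g : G) = 1 := by
      refine rigid_elt G hrig (g : G) Γ (by rw [hΓ]) ?_
      intro z hz
      have := hψapp g ⟨z, Finset.mem_coe.mpr hz⟩
      rw [hg] at this
      exact this.symm
    exact Subtype.ext this
  have hcardΓ : Nat.card ((Γ : Set α)) = k - 1 := by
    rw [Nat.card_coe_set_eq, Set.ncard_coe_finset, hΓ]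
  have hrange : Nat.card ψ.range = Nat.card (stabilizer G (Γ : Set α)) :=
    (Nat.card_congr (MonoidHom.ofInjective hinj).toEquiv).symm
  refine ⟨ψ.range, ?_⟩
  have h1 := Subgroup.index_mul_card ψ.range
  rw [Nat.card_perm, hcardΓ, hrange] at h1
  exact h1

/-- the index `j` cannot lie strictly between `2` and `k - 1` when `k - 1 ≥ 5` -/
theorem index_j_false {k j : ℕ}
    (hrig : ∀ s : Finset α, s.card = k - 1 → fixingSubgroup G (s : Set α) = ⊥)
    (Γ : Finset α) (hΓ : Γ.card = k - 1)
    (hh : Nat.card (stabilizer G (Γ : Set α)) * j = (k - 1)!)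
    (hk : 5 ≤ k - 1) (hj : 2 < j) (hj' : j < k - 1) : False := by
  classical
  obtain ⟨H, hH⟩ := exists_subgroup_index G hrig Γ hΓ
  have hidx : H.index = j := by
    have : Nat.card (stabilizer G (Γ : Set α)) * H.index =
        Nat.card (stabilizer G (Γ : Set α)) * j := by rw [hh, ← hH]; ring
    exact Nat.eq_of_mul_eq_mul_left Nat.card_pos this
  haveI : Fintype ((Γ : Set α)) := Fintype.ofFinite _
  have hcardΓ : Fintype.card ((Γ : Set α)) = k - 1 := by
    rw [← Nat.card_eq_fintype_card, Nat.card_coe_set_eq, Set.ncard_coe_finset, hΓ]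
  exact no_small_index H (by rw [hcardΓ]; exact hk) (by rw [hidx]; exact hj)
    (by rw [hidx, hcardΓ]; exact hj')

/-- no 3-transitive group of degree 7 and order 210 -/
theorem kill_k5_7 (hn : Fintype.card α = 7) (ht3 : IsMultiplyPretransitive G α 3)
    (hd : ∀ Λ : Finset α, Λ.card = 3 → Nat.card (fixingSubgroup G (Λ : Set α)) = 1)
    (hG : Nat.card G = 210) : False := by
  classical
  haveI : Fact (Nat.Prime 2) := ⟨Nat.prime_two⟩
  haveI : Fact (Nat.Prime 3) := ⟨Nat.prime_three⟩
  obtain ⟨v, hv⟩ := exists_prime_orderOf_dvd_card' (G := G) 2 (by rw [hG]; norm_num)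
  have hv1 : v ≠ 1 := by
    rintro rfl
    rw [orderOf_one] at hv
    omega
  have hvP : orderOf (v : Equiv.Perm α) = 2 := by rw [Subgroup.orderOf_coe, hv]
  -- fixed points
  have hfixle : ((v : Equiv.Perm α).supportᶜ).card ≤ 2 := by
    by_contra hcon
    push Not at hcon
    obtain ⟨s, hs, hs3⟩ := Finset.exists_subset_card_eq (s := (v : Equiv.Perm α).supportᶜ) (n := 3)
      (by omega)
    have hmem : v ∈ fixingSubgroup G (s : Set α) := by
      rw [mem_fixingSubgroup_iff]
      intro y hy
      have := hs (Finset.mem_coe.mp hy)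
      rw [Finset.mem_compl, Equiv.Perm.mem_support, not_not] at this
      exact this
    rw [Subgroup.eq_bot_of_card_eq _ (hd s hs3)] at hmem
    exact hv1 (Subgroup.mem_bot.mp hmem)
  have hpar := Equiv.Perm.card_compl_support_modEq (p := 2) (n := 1) (σ := (v : Equiv.Perm α))
    (by rw [pow_one, ← hvP, pow_orderOf_eq_one])
  rw [hn] at hpar
  have hfix1 : ((v : Equiv.Perm α).supportᶜ).card = 1 := by
    unfold Nat.ModEq at hpar
    omega
  have hsupp : (v : Equiv.Perm α).support.card = 6 := by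
    have := Finset.card_compl (v : Equiv.Perm α).support
    rw [hn] at this
    have h2 := Finset.card_le_univ (v : Equiv.Perm α).support
    rw [hn] at h2
    omega
  -- the sign of `v`
  obtain ⟨c, hc⟩ := Equiv.Perm.cycleType_prime_order (σ := (v : Equiv.Perm α))
    (by rw [hvP]; exact Nat.prime_two)
  have hsum := Equiv.Perm.sum_cycleType (v : Equiv.Perm α)
  rw [hc, hvP, Multiset.sum_replicate, hsupp, smul_eq_mul] at hsum
  have hc2 : c = 2 := by omega
  have hsign : Equiv.Perm.sign (v : Equiv.Perm α) = -1 := by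
    rw [Equiv.Perm.sign_of_cycleType, hc, hvP, hc2, Multiset.sum_replicate, Multiset.card_replicate]
    decide
  -- the even subgroup
  obtain ⟨N, hN⟩ : ∃ N : Subgroup G, N = (Equiv.Perm.sign.comp G.subtype).ker := ⟨_, rfl⟩
  haveI : N.Normal := by rw [hN]; infer_instance
  have hvN : v ∉ N := by
    rw [hN, MonoidHom.mem_ker]
    show ¬ Equiv.Perm.sign (v : Equiv.Perm α) = 1
    rw [hsign]
    decide
  have hidx : N.index = 2 := by
    have h1 : N.index ∣ 2 := by
      rw [hN, Subgroup.index_ker]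
      have := Subgroup.card_subgroup_dvd_card (Equiv.Perm.sign.comp G.subtype).range
      rwa [Nat.card_eq_fintype_card (α := ℤˣ), Fintype.card_units_int] at this
    have h2 : N.index ≠ 1 := by
      intro h
      rw [Subgroup.index_eq_one] at h
      exact hvN (h ▸ Subgroup.mem_top v)
    have := Nat.le_of_dvd (by norm_num) h1
    have h0 : N.index ≠ 0 := Subgroup.index_ne_zero_of_finite
    omega
  have hNcard : Nat.card N = 105 := by
    have := Subgroup.card_mul_index N
    rw [hidx, hG] at this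
    omega
  have hNbot : N ≠ ⊥ := by
    intro h
    rw [h, Subgroup.card_bot] at hNcard
    omega
  rcases Cfsg.Agent.S0698.result G (k := 3) (by norm_num) (by omega) ht3 N hNbot with h2t | ⟨-, -, hsq⟩
  · obtain ⟨s, hs⟩ := exists_finset_card (α := α) (j := 2) (by omega)
    have h1 := h2t.index_of_fixingSubgroup_mul (s := (s : Set α)) (by
      rw [Set.ncard_coe_finset, hs])
    rw [Nat.card_eq_fintype_card, hn] at h1
    have e5 : (7 - 2)! = 120 := by decide
    have e7 : (7)! = 5040 := by decide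
    rw [e5, e7] at h1
    have h2 := Subgroup.index_dvd_card (fixingSubgroup N (s : Set α))
    rw [hNcard] at h2
    have h3 : (fixingSubgroup N (s : Set α)).index = 42 := by omega
    rw [h3] at h2
    norm_num at h2
  · obtain ⟨x, hx⟩ := exists_prime_orderOf_dvd_card' (G := N) 3 (by rw [hNcard]; norm_num)
    have h1 := hsq (x : G) x.2
    have h2 : orderOf (x : G) ∣ 2 := orderOf_dvd_of_pow_eq_one h1
    rw [Subgroup.orderOf_coe, hx] at h2
    norm_num at h2

/-- **Lemma E** also for `k = 3` -/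
theorem d_odd' {k d j : ℕ} (hk : 3 ≤ k) (hkn : k ≤ Fintype.card α)
    (ht : IsMultiplyPretransitive G α (k - 2))
    (hrig : ∀ s : Finset α, s.card = k - 1 → fixingSubgroup G (s : Set α) = ⊥)
    (hd : ∀ Λ : Finset α, Λ.card = k - 2 → Nat.card (fixingSubgroup G (Λ : Set α)) = d)
    (hm : Fintype.card α - (k - 2) = d * j) (hj : 2 ≤ j)
    (hh : ∀ Γ : Finset α, Γ.card = k - 1 → Nat.card (stabilizer G (Γ : Set α)) * j = (k - 1)!) :
    Odd d := by
  rcases Nat.eq_or_lt_of_le hk with rfl | hk4
  · by_contra hcon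
    rw [Nat.not_odd_iff_even] at hcon
    obtain ⟨Λ, hΛ⟩ := exists_finset_card (α := α) (j := 3 - 2) (by omega)
    obtain ⟨Γ, hΓ⟩ := exists_finset_card (α := α) (j := 3 - 1) (by omega)
    have h1 := hh Γ hΓ
    have e2 : (3 - 1)! = 2 := by decide
    rw [e2] at h1
    have hjle : j ≤ 2 := Nat.le_of_dvd (by norm_num) (Dvd.intro_left _ h1)
    have hj2 : j = 2 := by omega
    subst hj2
    haveI : Fact (Nat.Prime 2) := ⟨Nat.prime_two⟩
    obtain ⟨u', hu'⟩ := exists_prime_orderOf_dvd_card' (G := fixingSubgroup G (Λ : Set α)) 2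
      (by rw [hd Λ hΛ]; exact hcon.two_dvd)
    have hu'1 : u' ≠ 1 := by
      rintro rfl
      rw [orderOf_one] at hu'
      omega
    have hu'2 : u' * u' = 1 := by
      rw [← pow_two, ← hu', pow_orderOf_eq_one]
    exact no_transposition G (by norm_num) hkn hrig Λ hΛ (u' : G) u'.2
      (fun h => hu'1 (Subtype.ext h)) (congrArg Subtype.val hu'2) hh
  · exact d_odd G hk4 hkn ht hrig hd hm hj hh

theorem num3g {h j κ m d : ℕ} (h1 : h * j = 2) (h2 : κ * j * (m - 1) = 6) (hm : m = d * j)
    (hj : 2 ≤ j) (hm3 : 3 ≤ m) (hodd : Odd d) : False := by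
  have hjle : j ≤ 2 := Nat.le_of_dvd (by norm_num) (Dvd.intro_left h h1)
  have hmle : m - 1 ≤ 6 := Nat.le_of_dvd (by norm_num) (Dvd.intro_left (κ * j) h2)
  have hd2 : d % 2 = 1 := Nat.odd_iff.mp hodd
  have hmle' : m ≤ 7 := by omega
  interval_cases j <;> first | omega | (interval_cases m <;> omega)

theorem num4g {h j κ m d : ℕ} (h1 : h * j = 6) (h2 : κ * j * (m - 1) = 24) (hm : m = d * j)
    (hj : 2 ≤ j) (hm3 : 3 ≤ m) (hodd : Odd d) :
    (j = 3 ∧ m = 3 ∧ d = 1) ∨ (j = 3 ∧ m = 9 ∧ κ = 1 ∧ d = 3) := by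
  have hjle : j ≤ 6 := Nat.le_of_dvd (by norm_num) (Dvd.intro_left h h1)
  have hmle : m - 1 ≤ 24 := Nat.le_of_dvd (by norm_num) (Dvd.intro_left (κ * j) h2)
  have hd2 : d % 2 = 1 := Nat.odd_iff.mp hodd
  have hmle' : m ≤ 25 := by omega
  interval_cases j <;> first | omega | (interval_cases m <;> omega)

theorem num5g {h j κ m d : ℕ} (h1 : h * j = 24) (h2 : κ * j * (m - 1) = 120) (hm : m = d * j)
    (hj : 2 ≤ j) (hm3 : 3 ≤ m) (hodd : Odd d) :
    (j = 2 ∧ m = 6 ∧ d = 3) ∨ (j = 3 ∧ m = 3 ∧ d = 1) ∨ (j = 3 ∧ m = 9 ∧ κ = 5 ∧ d = 3) ∨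
      (j = 3 ∧ m = 21 ∧ κ = 2 ∧ d = 7) ∨ (j = 4 ∧ m = 4 ∧ d = 1) ∨ (j = 6 ∧ m = 6 ∧ d = 1) := by
  have hjle : j ≤ 24 := Nat.le_of_dvd (by norm_num) (Dvd.intro_left h h1)
  have hmle : m - 1 ≤ 120 := Nat.le_of_dvd (by norm_num) (Dvd.intro_left (κ * j) h2)
  have hd2 : d % 2 = 1 := Nat.odd_iff.mp hodd
  have hmle2 : m ≤ 61 := by
    have : (m - 1) * 2 ≤ 120 := by
      calc (m - 1) * 2 ≤ (m - 1) * j := Nat.mul_le_mul_left _ hj
        _ ≤ κ * j * (m - 1) := by
          have hκ : 1 ≤ κ := by
            rcases Nat.eq_zero_or_pos κ with h | h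
            · rw [h] at h2; simp at h2
            · exact h
          nlinarith
        _ = 120 := h2
    omega
  interval_cases j <;> first | omega | (interval_cases m <;> omega)

end Cfsg.Agent.Lib.Helper1.Wl
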