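import Mathlib
import Cfsg.Agent.Lib.Helper1.Wl10
import Cfsg.Agent.S0710

set_option autoImplicit false
set_option maxHeartbeats 4000000
set_option maxRecDepth 100000
set_option linter.unusedVariables false
set_option linter.unusedSectionVars false
set_option linter.style.longLine false
set_option linter.unusedSimpArgs false
set_option linter.deprecated false
set_option linter.style.haveILetI false

/-! # Wielandt / Livingstone–Wagner cluster, part 11: the list of exceptions -/

namespace Cfsg.Agent.Lib.Helper1.Wl

open MulAction SubMulAction Cfsg.Agent.Lib.Helper7.Sharp4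
open scoped Pointwise Nat

variable {α : Type*} [Fintype α] [DecidableEq α] (G : Subgroup (Equiv.Perm α))

theorem wielandt_exceptions {k : ℕ} (hk : 3 ≤ k) (hkn : k ≤ Fintype.card α)
    (ht : IsMultiplyPretransitive G α (k - 2)) (hnt : ¬ IsMultiplyPretransitive G α (k - 1))
    (hh1 : IsPretransitive G (Set.powersetCard α (k - 1)))
    (hh : IsPretransitive G (Set.powersetCard α k)) :
    (k = Fintype.card α ∧ G = alternatingGroup α) ∨
      (Fintype.card α = 5 ∧ k = 4 ∧ Nat.card G = 20) ∨
      (Fintype.card α = 6 ∧ k = 5 ∧ Nat.card G = 120) ∨
      (Fintype.card α = 9 ∧ k = 5 ∧ (Nat.card G = 504 ∨ Nat.card G = 1512)) := by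
  rcases Nat.eq_or_lt_of_le hkn with hkeq | hklt
  · left
    refine ⟨hkeq, ?_⟩
    have h1 : alternatingGroup α ≤ G :=
      _root_.IsMultiplyPretransitive.alternatingGroup_le α G
        (by rw [Nat.card_eq_fintype_card, ← hkeq]; exact ht)
    have h2 : G ≠ ⊤ := by
      rintro rfl
      apply hnt
      constructor
      intro x y
      obtain ⟨σ, hσ⟩ := Equiv.Perm.exists_smul_eq_embedding x y
      exact ⟨⟨σ, Subgroup.mem_top σ⟩, hσ⟩
    haveI : Nontrivial α := Fintype.one_lt_card_iff_nontrivial.mp (by omega)
    have h3 := Subgroup.index_dvd_of_le h1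
    rw [alternatingGroup.index_eq_two] at h3
    have h4 := Nat.le_of_dvd (by norm_num) h3
    have h5 : G.index ≠ 1 := fun h => h2 (Subgroup.index_eq_one.mp h)
    have h0 : G.index ≠ 0 := Subgroup.index_ne_zero_of_finite
    exact Equiv.Perm.eq_alternatingGroup_of_index_eq_two (by omega)
  · right
    obtain ⟨d, j, W⟩ := exists_WData G hk hkn ht hh1 hh hnt
    obtain ⟨Γ₀, hΓ₀⟩ := exists_finset_card (α := α) (j := k - 1) (by omega)
    obtain ⟨Δ₀, hΔ₀⟩ := exists_finset_card (α := α) (j := k) (by omega)
    have hodd := d_odd' G hk hkn ht W.hrig W.hd W.hm W.hj W.hh1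
    have hcases : k = 3 ∨ k = 4 ∨ k = 5 ∨ 6 ≤ k := by omega
    rcases hcases with rfl | rfl | rfl | hk6
    · -- k = 3
      exfalso
      have h1 := W.hh1 Γ₀ hΓ₀
      have h2 := W.hh Δ₀ hΔ₀
      have e2 : (3 - 1)! = 2 := by decide
      have e3 : (3)! = 6 := by decide
      rw [e2] at h1
      rw [e3] at h2
      exact num3g h1 h2 W.hm W.hj (by omega) hodd
    · -- k = 4
      have h1 := W.hh1 Γ₀ hΓ₀
      have h2 := W.hh Δ₀ hΔ₀
      have e3 : (4 - 1)! = 6 := by decide
      have e4 : (4)! = 24 := by decide
      rw [e3] at h1
      rw [e4] at h2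
      rcases num4g h1 h2 W.hm W.hj (by omega) hodd with ⟨hj3, hm3, hd1⟩ | ⟨hj3, hm9, hκ1, hd3⟩
      · left
        have hn : Fintype.card α = 5 := by omega
        refine ⟨hn, rfl, ?_⟩
        have hG := W.hG
        rw [hn, hd1] at hG
        have e3' : (5 - (4 - 2))! = 6 := by decide
        have e5 : (5)! = 120 := by decide
        rw [e3', e5] at hG
        omega
      · exfalso
        have hn : Fintype.card α = 11 := by omega
        subst hj3 hd3
        refine kill_k4 G hn W.hrig ?_ ?_
        · intro Δ hΔ
          have := W.hh Δ hΔ
          rw [e4, hm9] at this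
          omega
        · have hG := W.hG
          rw [hn] at hG
          have e9 : (11 - (4 - 2))! = 362880 := by decide
          have e11 : (11)! = 39916800 := by decide
          rw [e9, e11] at hG
          have : Nat.card G = 330 := by omega
          rw [this]
          decide
    · -- k = 5
      have h1 := W.hh1 Γ₀ hΓ₀
      have h2 := W.hh Δ₀ hΔ₀
      have e4 : (5 - 1)! = 24 := by decide
      have e5 : (5)! = 120 := by decide
      rw [e4] at h1
      rw [e5] at h2
      rcases num5g h1 h2 W.hm W.hj (by omega) hodd with ⟨hj2, hm6, hd3⟩ | ⟨hj3, hm3, hd1⟩ |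
        ⟨hj3, hm9, hκ, hd3⟩ | ⟨hj3, hm21, hκ, hd7⟩ | ⟨hj4, hm4, hd1⟩ | ⟨hj6, hm6, hd1⟩
      · right; right
        have hn : Fintype.card α = 9 := by omega
        refine ⟨hn, rfl, Or.inr ?_⟩
        have hG := W.hG
        rw [hn, hd3] at hG
        have e6 : (9 - (5 - 2))! = 720 := by decide
        have e9 : (9)! = 362880 := by decide
        rw [e6, e9] at hG
        omega
      · right; left
        have hn : Fintype.card α = 6 := by omega
        refine ⟨hn, rfl, ?_⟩
        have hG := W.hG
        rw [hn, hd1] at hG
        have e3 : (6 - (5 - 2))! = 6 := by decide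
        have e6 : (6)! = 720 := by decide
        rw [e3, e6] at hG
        omega
      · exfalso
        have hn : Fintype.card α = 12 := by omega
        subst hj3 hd3
        refine kill_k5_9 G hn ht W.hrig W.hd ?_
        intro Δ hΔ
        have := W.hh Δ hΔ
        rw [e5, hm9] at this
        omega
      · exfalso
        have hn : Fintype.card α = 24 := by omega
        subst hj3 hd7
        exact kill_k5_21 G hn ht W.hrig W.hd
      · exfalso
        have hn : Fintype.card α = 7 := by omega
        subst hd1
        refine kill_k5_7 G hn ht W.hd ?_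
        have hG := W.hG
        rw [hn] at hG
        have e4' : (7 - (5 - 2))! = 24 := by decide
        have e7 : (7)! = 5040 := by decide
        rw [e4', e7] at hG
        omega
      · right; right
        have hn : Fintype.card α = 9 := by omega
        refine ⟨hn, rfl, Or.inl ?_⟩
        have hG := W.hG
        rw [hn, hd1] at hG
        have e6 : (9 - (5 - 2))! = 720 := by decide
        have e9 : (9)! = 362880 := by decide
        rw [e6, e9] at hG
        omega
    · -- k ≥ 6
      exfalso
      have hb := hall_bound G hk6 hkn ht W.hrig W.hd hodd (by omega)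
      have hm := W.hm
      have hj := W.hj
      have h1 := W.hh1 Γ₀ hΓ₀
      have hm37 : Fintype.card α - (k - 2) = 3 ∨ Fintype.card α - (k - 2) = 7 := by omega
      rcases hm37 with hm3 | hm7
      · -- `m = 3`, so `j = 3`
        rw [hm3] at hm
        have hj3 : j = 3 := by
          have : j ∣ 3 := Dvd.intro_left d hm.symm
          rcases (Nat.dvd_prime Nat.prime_three).mp this with h | h
          · omega
          · exact h
        subst hj3
        exact index_j_false G W.hrig Γ₀ hΓ₀ h1 (by omega) (by norm_num) (by omega)
      · rw [hm7] at hm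
        have hj7 : j = 7 := by
          have : j ∣ 7 := Dvd.intro_left d hm.symm
          rcases (Nat.dvd_prime (by norm_num : Nat.Prime 7)).mp this with h | h
          · omega
          · exact h
        subst hj7
        have hd1 : d = 1 := by omega
        subst hd1
        have h7 : 7 ≤ k - 1 := by
          have : 7 ∣ (k - 1)! := Dvd.intro_left _ h1
          exact ((by norm_num : Nat.Prime 7).dvd_factorial).mp this
        rcases Nat.eq_or_lt_of_le h7 with h78 | h78
        · -- `k = 8`, degree 13
          have hk8 : k = 8 := by omega
          subst hk8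
          have hn : Fintype.card α = 13 := by omega
          have hG := W.hG
          rw [hn] at hG
          have e7 : (13 - (8 - 2))! = 5040 := by decide
          have e13 : (13)! = 6227020800 := by decide
          rw [e7, e13] at hG
          have hGc : Nat.card G = 13 * 12 * 11 * 10 * 9 * 8 := by omega
          haveI : IsPretransitive G α := by
            rw [← is_one_pretransitive_iff]
            haveI := ht
            exact isMultiplyPretransitive_of_le (n := 8 - 2) (by norm_num)
              (by rw [Nat.card_eq_fintype_card, hn]; norm_num)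
          exact Cfsg.Agent.S0710.result hn G hGc
        · exact index_j_false G W.hrig Γ₀ hΓ₀ h1 (by omega) (by norm_num) h78

end Cfsg.Agent.Lib.Helper1.Wl
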