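import Mathlib

set_option autoImplicit false
set_option maxHeartbeats 4000000
set_option maxRecDepth 100000
set_option linter.unusedVariables false
set_option linter.unusedSectionVars false
set_option linter.style.longLine false
set_option linter.unusedSimpArgs false
set_option linter.deprecated false
set_option linter.style.haveILetI false

/-! # M. Hall's theorem, part 1: a four-group of automorphisms acting on a group of odd order

`Q` is a subgroup of odd order of a finite group `X`, `α β` are commuting involutory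
automorphisms of `X` preserving `Q`, `γ = α ∘ β`.  We prove Hall's decomposition
`Q = C_Q(α) · C_Q(γ) · C_Q(β) · C_Q(γ)` and the Brauer–Wielandt formula
`|Q| |C_Q(V)|² = |C_Q(α)| |C_Q(β)| |C_Q(γ)|`. -/

namespace Cfsg.Agent.Lib.Helper1.Wl

variable {X : Type*} [Group X]

/-- fixed points of the automorphism `φ` in the subgroup `Q` -/
def FixS (Q : Subgroup X) (φ : X ≃* X) : Subgroup X where
  carrier := {q | q ∈ Q ∧ φ q = q}
  mul_mem' := by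
    rintro a b ⟨ha, ha'⟩ ⟨hb, hb'⟩
    exact ⟨Q.mul_mem ha hb, by rw [map_mul, ha', hb']⟩
  one_mem' := ⟨Q.one_mem, map_one φ⟩
  inv_mem' := by
    rintro a ⟨ha, ha'⟩
    exact ⟨Q.inv_mem ha, by rw [map_inv, ha']⟩

theorem mem_FixS {Q : Subgroup X} {φ : X ≃* X} {q : X} : q ∈ FixS Q φ ↔ q ∈ Q ∧ φ q = q :=
  Iff.rfl

theorem FixS_le (Q : Subgroup X) (φ : X ≃* X) : FixS Q φ ≤ Q := fun q h => h.1

/-- elements of `Q` inverted by `φ` -/
def InvS (Q : Subgroup X) (φ : X ≃* X) : Set X := {q | q ∈ Q ∧ φ q = q⁻¹}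

theorem mem_InvS {Q : Subgroup X} {φ : X ≃* X} {q : X} : q ∈ InvS Q φ ↔ q ∈ Q ∧ φ q = q⁻¹ :=
  Iff.rfl

section Sqrt

variable [Finite X] (Q : Subgroup X)

/-- the exponent giving square roots in `Q` -/
noncomputable def hm : ℕ := (Nat.card Q + 1) / 2

theorem pow_card_mem {q : X} (hq : q ∈ Q) : q ^ Nat.card Q = 1 := by
  have h := pow_card_eq_one' (G := Q) (x := ⟨q, hq⟩)
  have h2 := congrArg Subtype.val h
  rwa [Subgroup.coe_pow, Subgroup.coe_one] at h2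

theorem two_hm (hodd : Odd (Nat.card Q)) : hm Q + hm Q = Nat.card Q + 1 := by
  unfold hm
  obtain ⟨k, hk⟩ := hodd
  omega

theorem sqrt_mul_self (hodd : Odd (Nat.card Q)) {q : X} (hq : q ∈ Q) :
    q ^ hm Q * q ^ hm Q = q := by
  rw [← pow_add, two_hm Q hodd, pow_succ, pow_card_mem Q hq, one_mul]

theorem sq_sqrt (hodd : Odd (Nat.card Q)) {q : X} (hq : q ∈ Q) : (q * q) ^ hm Q = q := by
  rw [← pow_two, ← pow_mul, two_mul, two_hm Q hodd, pow_succ, pow_card_mem Q hq, one_mul]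

theorem sqrt_unique (hodd : Odd (Nat.card Q)) {x y : X} (hx : x ∈ Q) (hy : y ∈ Q)
    (h : x * x = y * y) : x = y := by
  rw [← sq_sqrt Q hodd hx, ← sq_sqrt Q hodd hy, h]

theorem odd_card_FixS (hodd : Odd (Nat.card Q)) (φ : X ≃* X) : Odd (Nat.card (FixS Q φ)) :=
  Odd.of_dvd_nat hodd (Subgroup.card_dvd_of_le (FixS_le Q φ))

end Sqrt

section Hall

variable [Finite X] {Q : Subgroup X}

/-- the inverted part of `q` -/
noncomputable def invPart (Q : Subgroup X) (φ : X ≃* X) (q : X) : X := ((φ q)⁻¹ * q) ^ hm Q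

theorem invPart_mem (hodd : Odd (Nat.card Q)) (φ : X ≃* X) (hφφ : ∀ x, φ (φ x) = x)
    (hφQ : ∀ q ∈ Q, φ q ∈ Q) {q : X} (hq : q ∈ Q) : invPart Q φ q ∈ InvS Q φ := by
  refine ⟨Q.pow_mem (Q.mul_mem (Q.inv_mem (hφQ q hq)) hq) _, ?_⟩
  unfold invPart
  rw [map_pow, map_mul, map_inv, hφφ, ← inv_pow, mul_inv_rev, inv_inv]

theorem invPart_sq (hodd : Odd (Nat.card Q)) (φ : X ≃* X)
    (hφQ : ∀ q ∈ Q, φ q ∈ Q) {q : X} (hq : q ∈ Q) :
    invPart Q φ q * invPart Q φ q = (φ q)⁻¹ * q :=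
  sqrt_mul_self Q hodd (Q.mul_mem (Q.inv_mem (hφQ q hq)) hq)

theorem fixPart_mem (hodd : Odd (Nat.card Q)) (φ : X ≃* X) (hφφ : ∀ x, φ (φ x) = x)
    (hφQ : ∀ q ∈ Q, φ q ∈ Q) {q : X} (hq : q ∈ Q) : q * (invPart Q φ q)⁻¹ ∈ FixS Q φ := by
  have hi := invPart_mem hodd φ hφφ hφQ hq
  refine ⟨Q.mul_mem hq (Q.inv_mem hi.1), ?_⟩
  rw [map_mul, map_inv, hi.2, inv_inv]
  have h2 := invPart_sq hodd φ hφQ hq
  -- φ q * i = q * i⁻¹
  have : φ q * (invPart Q φ q * invPart Q φ q) = q := by rw [h2]; group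
  calc φ q * invPart Q φ q = φ q * (invPart Q φ q * invPart Q φ q) * (invPart Q φ q)⁻¹ := by group
    _ = q * (invPart Q φ q)⁻¹ := by rw [this]

theorem invPart_mul (hodd : Odd (Nat.card Q)) (φ : X ≃* X) {k i : X} (hk : k ∈ FixS Q φ)
    (hi : i ∈ InvS Q φ) : invPart Q φ (k * i) = i := by
  unfold invPart
  rw [map_mul, hk.2, hi.2]
  have : (k * i⁻¹)⁻¹ * (k * i) = i * i := by group
  rw [this, sq_sqrt Q hodd hi.1]

/-- Hall's decomposition `Q = C_Q(φ) · I_φ(Q)` as a bijection -/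
noncomputable def hallEquiv (hodd : Odd (Nat.card Q)) (φ : X ≃* X) (hφφ : ∀ x, φ (φ x) = x)
    (hφQ : ∀ q ∈ Q, φ q ∈ Q) : Q ≃ (FixS Q φ) × (InvS Q φ) where
  toFun q := (⟨q.1 * (invPart Q φ q.1)⁻¹, fixPart_mem hodd φ hφφ hφQ q.2⟩,
    ⟨invPart Q φ q.1, invPart_mem hodd φ hφφ hφQ q.2⟩)
  invFun p := ⟨p.1.1 * p.2.1, Q.mul_mem p.1.2.1 p.2.2.1⟩
  left_inv q := Subtype.ext (by simp)
  right_inv p := by
    obtain ⟨⟨k, hk⟩, ⟨i, hi⟩⟩ := p
    have h := invPart_mul hodd φ hk hi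
    refine Prod.ext (Subtype.ext ?_) (Subtype.ext ?_)
    · show k * i * (invPart Q φ (k * i))⁻¹ = k
      rw [h]; group
    · exact h

theorem card_hall (hodd : Odd (Nat.card Q)) (φ : X ≃* X) (hφφ : ∀ x, φ (φ x) = x)
    (hφQ : ∀ q ∈ Q, φ q ∈ Q) : Nat.card Q = Nat.card (FixS Q φ) * Nat.card (InvS Q φ) := by
  rw [Nat.card_congr (hallEquiv hodd φ hφφ hφQ), Nat.card_prod]

theorem hall_decomp (hodd : Odd (Nat.card Q)) (φ : X ≃* X) (hφφ : ∀ x, φ (φ x) = x)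
    (hφQ : ∀ q ∈ Q, φ q ∈ Q) {q : X} (hq : q ∈ Q) :
    ∃ k ∈ FixS Q φ, ∃ i ∈ InvS Q φ, q = k * i :=
  ⟨_, fixPart_mem hodd φ hφφ hφQ hq, _, invPart_mem hodd φ hφφ hφQ hq, by group⟩

end Hall

section Four

variable [Finite X] {Q : Subgroup X}

/-- the unique solution `y` of `y z y = i` -/
noncomputable def twist (Q : Subgroup X) (i z : X) : X := (i * z) ^ hm Q * z⁻¹

theorem twist_mem (Q : Subgroup X) {i z : X} (hi : i ∈ Q) (hz : z ∈ Q) : twist Q i z ∈ Q :=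
  Q.mul_mem (Q.pow_mem (Q.mul_mem hi hz) _) (Q.inv_mem hz)

theorem twist_spec (hodd : Odd (Nat.card Q)) {i z : X} (hi : i ∈ Q) (hz : z ∈ Q) :
    twist Q i z * z * twist Q i z = i := by
  have h := sqrt_mul_self Q hodd (Q.mul_mem hi hz)
  unfold twist
  calc (i * z) ^ hm Q * z⁻¹ * z * ((i * z) ^ hm Q * z⁻¹)
      = ((i * z) ^ hm Q * (i * z) ^ hm Q) * z⁻¹ := by group
    _ = i := by rw [h]; group

theorem twist_unique (hodd : Odd (Nat.card Q)) {i z Y : X} (hi : i ∈ Q) (hz : z ∈ Q)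
    (hY : Y ∈ Q) (h : Y * z * Y = i) : Y = twist Q i z := by
  have h1 : (Y * z) * (Y * z) = (i * z) ^ hm Q * (i * z) ^ hm Q := by
    rw [sqrt_mul_self Q hodd (Q.mul_mem hi hz), ← h]; group
  have h2 := sqrt_unique Q hodd (Q.mul_mem hY hz) (Q.pow_mem (Q.mul_mem hi hz) _) h1
  unfold twist
  rw [← h2]; group

/-- commuting involutory automorphisms `α β` preserving the odd order subgroup `Q`; `γ = α β` -/
structure FourAct (Q : Subgroup X) (α β γ : X ≃* X) : Prop where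
  odd : Odd (Nat.card Q)
  αα : ∀ x, α (α x) = x
  ββ : ∀ x, β (β x) = x
  αβ : ∀ x, α (β x) = β (α x)
  γdef : ∀ x, γ x = α (β x)
  αQ : ∀ q ∈ Q, α q ∈ Q
  βQ : ∀ q ∈ Q, β q ∈ Q

variable {α β γ : X ≃* X}

theorem FourAct.γγ (F : FourAct Q α β γ) (x : X) : γ (γ x) = x := by
  rw [F.γdef, F.γdef, F.αβ (α (β x)), F.αα, F.ββ]

theorem FourAct.γQ (F : FourAct Q α β γ) : ∀ q ∈ Q, γ q ∈ Q := fun q hq => by
  rw [F.γdef]; exact F.αQ _ (F.βQ _ hq)

theorem FourAct.αγ (F : FourAct Q α β γ) (x : X) : α (γ x) = γ (α x) := by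
  rw [F.γdef, F.γdef, F.αβ x]

theorem beta_mem_InvS (F : FourAct Q α β γ) {i : X} (hi : i ∈ InvS Q α) : β i ∈ InvS Q α :=
  ⟨F.βQ i hi.1, by rw [F.αβ, hi.2, map_inv]⟩

theorem alpha_twist (F : FourAct Q α β γ) {i : X} (hi : i ∈ InvS Q α) :
    α (twist Q i (β i)) = (twist Q i (β i))⁻¹ := by
  obtain ⟨y, hy⟩ : ∃ y, y = twist Q i (β i) := ⟨_, rfl⟩
  rw [← hy]
  have hz := beta_mem_InvS F hi
  have hyQ : y ∈ Q := hy ▸ twist_mem Q hi.1 hz.1
  have hs : y * β i * y = i := hy ▸ twist_spec F.odd hi.1 hz.1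
  have h1 : α y * (β i)⁻¹ * α y = i⁻¹ := by
    have := congrArg α hs
    rwa [map_mul, map_mul, hz.2, hi.2] at this
  have h2 : (α y)⁻¹ * β i * (α y)⁻¹ = i := by
    calc (α y)⁻¹ * β i * (α y)⁻¹ = (α y * (β i)⁻¹ * α y)⁻¹ := by group
      _ = i := by rw [h1, inv_inv]
  have h3 := twist_unique F.odd hi.1 hz.1 (Q.inv_mem (F.αQ y hyQ)) h2
  rw [← hy] at h3
  exact inv_eq_iff_eq_inv.mp h3

theorem beta_twist (F : FourAct Q α β γ) {i : X} (hi : i ∈ InvS Q α) :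
    β (twist Q i (β i)) = (twist Q i (β i))⁻¹ := by
  obtain ⟨y, hy⟩ : ∃ y, y = twist Q i (β i) := ⟨_, rfl⟩
  rw [← hy]
  have hz := beta_mem_InvS F hi
  have hyQ : y ∈ Q := hy ▸ twist_mem Q hi.1 hz.1
  have hs : y * β i * y = i := hy ▸ twist_spec F.odd hi.1 hz.1
  have h1 : β y * i * β y = β i := by
    have := congrArg β hs
    rwa [map_mul, map_mul, F.ββ] at this
  have h2 : (β y)⁻¹ * β i * (β y)⁻¹ = i := by
    rw [← h1]; group
  have h3 := twist_unique F.odd hi.1 hz.1 (Q.inv_mem (F.βQ y hyQ)) h2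
  rw [← hy] at h3
  exact inv_eq_iff_eq_inv.mp h3

/-- the `C_Q(γ)`-component of an inverted element -/
noncomputable def uOf (Q : Subgroup X) (β : X ≃* X) (i : X) : X := (twist Q i (β i)) ^ hm Q

theorem uOf_sq (F : FourAct Q α β γ) {i : X} (hi : i ∈ InvS Q α) :
    uOf Q β i * uOf Q β i = twist Q i (β i) :=
  sqrt_mul_self Q F.odd (twist_mem Q hi.1 (beta_mem_InvS F hi).1)

theorem uOf_mem (F : FourAct Q α β γ) {i : X} (hi : i ∈ InvS Q α) :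
    uOf Q β i ∈ InvS (FixS Q γ) α := by
  have hy := twist_mem Q hi.1 (beta_mem_InvS F hi).1
  have ha : α (uOf Q β i) = (uOf Q β i)⁻¹ := by
    unfold uOf; rw [map_pow, alpha_twist F hi, inv_pow]
  have hb : β (uOf Q β i) = (uOf Q β i)⁻¹ := by
    unfold uOf; rw [map_pow, beta_twist F hi, inv_pow]
  refine ⟨⟨Q.pow_mem hy _, ?_⟩, ha⟩
  rw [F.γdef, hb, map_inv, ha, inv_inv]

theorem uOf_spec (F : FourAct Q α β γ) {i : X} (hi : i ∈ InvS Q α) :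
    uOf Q β i * uOf Q β i * β i * (uOf Q β i * uOf Q β i) = i := by
  rw [uOf_sq F hi]
  exact twist_spec F.odd hi.1 (beta_mem_InvS F hi).1

theorem vOf_mem (F : FourAct Q α β γ) {i : X} (hi : i ∈ InvS Q α) :
    (uOf Q β i)⁻¹ * i * (uOf Q β i)⁻¹ ∈ InvS (FixS Q β) α := by
  have hu := uOf_mem F hi
  have hb : β (uOf Q β i) = (uOf Q β i)⁻¹ := by
    unfold uOf; rw [map_pow, beta_twist F hi, inv_pow]
  have hs := uOf_spec F hi
  obtain ⟨u, hu'⟩ : ∃ u, u = uOf Q β i := ⟨_, rfl⟩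
  rw [← hu'] at hu hb hs ⊢
  refine ⟨⟨Q.mul_mem (Q.mul_mem (Q.inv_mem hu.1.1) hi.1) (Q.inv_mem hu.1.1), ?_⟩, ?_⟩
  · rw [map_mul, map_mul, map_inv, hb, inv_inv]
    calc u * β i * u = u⁻¹ * (u * u * β i * (u * u)) * u⁻¹ := by group
      _ = u⁻¹ * i * u⁻¹ := by rw [hs]
  · rw [map_mul, map_mul, map_inv, hu.2, hi.2]; group

/-- elements of `C_Q(γ)` inverted by `α` are inverted by `β` -/
theorem beta_of_mem (F : FourAct Q α β γ) {u : X} (hu : u ∈ InvS (FixS Q γ) α) : β u = u⁻¹ := by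
  have h1 : α (β u) = u := by rw [← F.γdef]; exact hu.1.2
  have h2 := congrArg α h1
  rw [F.αα, hu.2] at h2
  exact h2

theorem mul_mem_InvS (F : FourAct Q α β γ) {u v : X} (hu : u ∈ InvS (FixS Q γ) α)
    (hv : v ∈ InvS (FixS Q β) α) : u * v * u ∈ InvS Q α := by
  refine ⟨Q.mul_mem (Q.mul_mem hu.1.1 hv.1.1) hu.1.1, ?_⟩
  rw [map_mul, map_mul, hu.2, hv.2]; group

theorem uOf_mul (F : FourAct Q α β γ) {u v : X} (hu : u ∈ InvS (FixS Q γ) α)
    (hv : v ∈ InvS (FixS Q β) α) : uOf Q β (u * v * u) = u := by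
  have hi := mul_mem_InvS F hu hv
  have hbu := beta_of_mem F hu
  have hz : β (u * v * u) = u⁻¹ * v * u⁻¹ := by
    rw [map_mul, map_mul, hbu, hv.1.2]
  have h1 : (u * u) * β (u * v * u) * (u * u) = u * v * u := by rw [hz]; group
  have h2 := twist_unique F.odd hi.1 (F.βQ _ hi.1) (Q.mul_mem hu.1.1 hu.1.1) h1
  unfold uOf
  rw [← h2, sq_sqrt Q F.odd hu.1.1]

/-- the bijection `I_α(Q) ≃ I_α(C_Q(γ)) × I_α(C_Q(β))`, `(u, v) ↦ u v u` -/
noncomputable def invEquiv (F : FourAct Q α β γ) :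
    (InvS Q α) ≃ (InvS (FixS Q γ) α) × (InvS (FixS Q β) α) where
  toFun i := (⟨uOf Q β i.1, uOf_mem F i.2⟩, ⟨(uOf Q β i.1)⁻¹ * i.1 * (uOf Q β i.1)⁻¹, vOf_mem F i.2⟩)
  invFun p := ⟨p.1.1 * p.2.1 * p.1.1, mul_mem_InvS F p.1.2 p.2.2⟩
  left_inv i := Subtype.ext (by show uOf Q β i.1 * ((uOf Q β i.1)⁻¹ * i.1 * (uOf Q β i.1)⁻¹) * uOf Q β i.1 = i.1; group)
  right_inv p := by
    obtain ⟨⟨u, hu⟩, ⟨v, hv⟩⟩ := p
    have h := uOf_mul F hu hv
    refine Prod.ext (Subtype.ext ?_) (Subtype.ext ?_)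
    · exact h
    · show (uOf Q β (u * v * u))⁻¹ * (u * v * u) * (uOf Q β (u * v * u))⁻¹ = v
      rw [h]; group

theorem card_InvS (F : FourAct Q α β γ) :
    Nat.card (InvS Q α) = Nat.card (InvS (FixS Q γ) α) * Nat.card (InvS (FixS Q β) α) := by
  rw [Nat.card_congr (invEquiv F), Nat.card_prod]

theorem FixS_FixS_eq (F : FourAct Q α β γ) : FixS (FixS Q γ) α = FixS (FixS Q β) α := by
  ext q
  constructor
  · rintro ⟨⟨hq, hg⟩, ha⟩
    refine ⟨⟨hq, ?_⟩, ha⟩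
    rw [F.γdef] at hg
    have := congrArg α hg
    rwa [F.αα, ha] at this
  · rintro ⟨⟨hq, hb⟩, ha⟩
    refine ⟨⟨hq, ?_⟩, ha⟩
    rw [F.γdef, hb, ha]

/-- the Brauer–Wielandt formula for a four-group acting on a group of odd order -/
theorem brauer_wielandt (F : FourAct Q α β γ) :
    Nat.card Q * Nat.card (FixS (FixS Q β) α) ^ 2 =
      Nat.card (FixS Q α) * Nat.card (FixS Q β) * Nat.card (FixS Q γ) := by
  have h1 := card_hall F.odd α F.αα F.αQ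
  have h2 := card_InvS F
  have h3 := card_hall (Q := FixS Q γ) (odd_card_FixS Q F.odd γ) α F.αα (fun q hq =>
    ⟨F.αQ q hq.1, by rw [← F.αγ, hq.2]⟩)
  have h4 := card_hall (Q := FixS Q β) (odd_card_FixS Q F.odd β) α F.αα (fun q hq =>
    ⟨F.αQ q hq.1, by rw [← F.αβ, hq.2]⟩)
  rw [FixS_FixS_eq F] at h3
  rw [h1, h2, h3, h4]
  ring

/-- Hall's lemma: every element of `Q` is a product `k u v u` with `k ∈ C_Q(α)`, `u ∈ C_Q(γ)`,
`v ∈ C_Q(β)` -/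
theorem hall_lemma (F : FourAct Q α β γ) {q : X} (hq : q ∈ Q) :
    ∃ k ∈ FixS Q α, ∃ u ∈ FixS Q γ, ∃ v ∈ FixS Q β, q = k * u * v * u := by
  obtain ⟨k, hk, i, hi, rfl⟩ := hall_decomp F.odd α F.αα F.αQ hq
  refine ⟨k, hk, uOf Q β i, (uOf_mem F hi).1, _, (vOf_mem F hi).1, ?_⟩
  group

end Four

end Cfsg.Agent.Lib.Helper1.Wl
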