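import Mathlib
import Cfsg.Agent.Lib.Helper1.Wl3
import Cfsg.Agent.Lib.Helper1.Wl12

set_option autoImplicit false
set_option maxHeartbeats 4000000
set_option maxRecDepth 100000
set_option linter.unusedVariables false
set_option linter.unusedSectionVars false
set_option linter.style.longLine false
set_option linter.unusedSimpArgs false
set_option linter.deprecated false
set_option linter.style.haveILetI false

/-! # M. Hall's theorem, part 2: 4-transitive groups with four point stabilizers of odd order,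
basic tools (no rigidity assumed) -/

namespace Cfsg.Agent.Lib.Helper1.Wl

open MulAction Cfsg.Agent.Lib.Helper7.Sharp4

variable {X Ω : Type*} [Group X] [MulAction X Ω]

/-- hypotheses of M. Hall's theorem: faithful, 4-transitive, elements fixing four points have
odd order -/
structure OH (X Ω : Type*) [Group X] [MulAction X Ω] : Prop where
  t4 : IsMultiplyPretransitive X Ω 4
  o4 : ∀ (g : X) (a b c e : Ω), D4 a b c e → g • a = a → g • b = b → g • c = c → g • e = e →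
    Odd (orderOf g)
  ff : ∀ g : X, (∀ x : Ω, g • x = x) → g = 1

theorem RH_of_OH (H : OH X Ω)
    (hr : ∀ (g : X) (a b c e : Ω), D4 a b c e → g • a = a → g • b = b → g • c = c → g • e = e →
      g = 1) : RH X Ω :=
  ⟨H.t4, H.o4, fun g a b c e x hD _ _ _ _ h1 h2 h3 h4 _ => hr g a b c e hD h1 h2 h3 h4⟩

theorem exists_invol_powO (H : OH X Ω) {g : X} {a b c e : Ω} (hD : D4 a b c e)
    (ha : g • g • a = a) (hb : g • g • b = b) (hc : g • g • c = c) (he : g • g • e = e) :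
    ∃ r : ℕ, Odd r ∧ g ^ r * g ^ r = 1 ∧ ∀ x : Ω, g • g • x = x → g ^ r • x = g • x := by
  have hodd : Odd (orderOf (g * g)) := H.o4 (g * g) a b c e hD (by rw [mul_smul, ha])
    (by rw [mul_smul, hb]) (by rw [mul_smul, hc]) (by rw [mul_smul, he])
  refine ⟨orderOf (g * g), hodd, ?_, fun x hx => pow_odd_smul hx hodd⟩
  rw [← (Commute.refl g).mul_pow, pow_orderOf_eq_one]

theorem exists_involO (H : OH X Ω) {a b c e : Ω} (hD : D4 a b c e) :
    ∃ t : X, t * t = 1 ∧ t • a = b ∧ t • b = a ∧ t • c = c ∧ t • e = e := by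
  obtain ⟨g, h1, h2, h3, h4⟩ := trans4 H.t4 hD (D4_swap12 hD)
  obtain ⟨r, hr, hrr, hx⟩ := exists_invol_powO H hD (g := g) (by rw [h1, h2]) (by rw [h2, h1])
    (by rw [h3, h3]) (by rw [h4, h4])
  exact ⟨g ^ r, hrr, by rw [hx a (by rw [h1, h2]), h1], by rw [hx b (by rw [h2, h1]), h2],
    by rw [hx c (by rw [h3, h3]), h3], by rw [hx e (by rw [h4, h4]), h4]⟩

theorem invol_fix4_falseO (H : OH X Ω) {t : X} (ht : t * t = 1) (ht1 : t ≠ 1) {a b c e : Ω}
    (hD : D4 a b c e) (ha : t • a = a) (hb : t • b = b) (hc : t • c = c) (he : t • e = e) :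
    False := by
  have hodd := H.o4 t a b c e hD ha hb hc he
  have h2 : orderOf t = 2 := orderOf_eq_prime (by rw [pow_two, ht]) ht1
  rw [h2] at hodd
  exact absurd hodd (by decide)

theorem exists_commuting_adjustO (H : OH X Ω) {t g₀ : X} (ht : t * t = 1) {y₁ y₂ y₃ y₄ : Ω}
    (hD : D4 y₁ y₂ y₃ y₄)
    (h1 : (g₀ * t * g₀⁻¹) • y₁ = t • y₁) (h2 : (g₀ * t * g₀⁻¹) • y₂ = t • y₂)
    (h3 : (g₀ * t * g₀⁻¹) • y₃ = t • y₃) (h4 : (g₀ * t * g₀⁻¹) • y₄ = t • y₄) :
    ∃ u : X, u • y₁ = y₁ ∧ u • y₂ = y₂ ∧ u • y₃ = y₃ ∧ u • y₄ = y₄ ∧ Commute (u * g₀) t := by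
  have hf : ∀ y : Ω, (g₀ * t * g₀⁻¹) • y = t • y → (t * (g₀ * t * g₀⁻¹)) • y = y := by
    intro y hy
    rw [mul_smul, hy, ← mul_smul, ht, one_smul]
  have hodd : Odd (orderOf (t * (g₀ * t * g₀⁻¹))) :=
    H.o4 _ y₁ y₂ y₃ y₄ hD (hf _ h1) (hf _ h2) (hf _ h3) (hf _ h4)
  obtain ⟨i, hi⟩ := conj_commute ht hodd
  exact ⟨_, pow_smul_fix (hf _ h1) i, pow_smul_fix (hf _ h2) i, pow_smul_fix (hf _ h3) i,
    pow_smul_fix (hf _ h4) i, hi⟩

/-- the centralizer of `t` in the two point stabilizer is transitive on the moved points -/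
theorem exists_centralizingO (H : OH X Ω) {t : X} (ht : t * t = 1) {α β x y : Ω} (hab : α ≠ β)
    (hta : t • α = β) (htb : t • β = α) (hx : t • x ≠ x) (hxa : x ≠ α) (hxb : x ≠ β)
    (hy : t • y ≠ y) (hya : y ≠ α) (hyb : y ≠ β) :
    ∃ c : X, Commute c t ∧ c • α = α ∧ c • β = β ∧ c • x = y := by
  have htt : ∀ z : Ω, t • t • z = z := fun z => by rw [← mul_smul, ht, one_smul]
  have hDx : D4 α β x (t • x) := D4_moved ht hab hta htb ⟨hx, hxa, hxb⟩
  have hDy : D4 α β y (t • y) := D4_moved ht hab hta htb ⟨hy, hya, hyb⟩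
  obtain ⟨g₀, g1, g2, g3, g4⟩ := trans4 H.t4 hDx hDy
  have gi : ∀ {z w : Ω}, g₀ • z = w → g₀⁻¹ • w = z := fun {z w} h => by
    rw [← h, inv_smul_smul]
  obtain ⟨u, u1, u2, u3, u4, hc⟩ := exists_commuting_adjustO H (g₀ := g₀) ht hDy
    (by rw [mul_smul, mul_smul, gi g1, hta, g2])
    (by rw [mul_smul, mul_smul, gi g2, htb, g1])
    (by rw [mul_smul, mul_smul, gi g3, g4])
    (by rw [mul_smul, mul_smul, gi g4, htt, g3, htt])
  exact ⟨u * g₀, hc, by rw [mul_smul, g1, u1], by rw [mul_smul, g2, u2],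
    by rw [mul_smul, g3, u3]⟩

theorem orbit_Cab_eqO (H : OH X Ω) {t : X} (ht : t * t = 1) {α β x₀ : Ω} (hab : α ≠ β)
    (hta : t • α = β) (htb : t • β = α) (hx₀ : x₀ ∈ Mset t α β) :
    orbit (Cab t α β) x₀ = Mset t α β := by
  ext y
  constructor
  · rintro ⟨⟨c, hc, hca, hcb⟩, rfl⟩
    show c • x₀ ∈ Mset t α β
    refine ⟨smul_moved_of_comm hc hx₀.1, ?_, ?_⟩
    · intro h
      apply hx₀.2.1
      rw [← hca] at h
      exact smul_left_cancel c h
    · intro h
      apply hx₀.2.2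
      rw [← hcb] at h
      exact smul_left_cancel c h
  · intro hy
    obtain ⟨c, hc, hca, hcb, hcx⟩ := exists_centralizingO H ht hab hta htb hx₀.1 hx₀.2.1 hx₀.2.2
      hy.1 hy.2.1 hy.2.2
    exact ⟨⟨c, hc.eq, hca, hcb⟩, hcx⟩

theorem odd_card_Fix4O [Finite X] (H : OH X Ω) {a b c e : Ω} (hD : D4 a b c e) :
    Odd (Nat.card (Fix4 X a b c e)) := by
  by_contra hcon
  rw [Nat.not_odd_iff_even] at hcon
  haveI : Fact (Nat.Prime 2) := ⟨Nat.prime_two⟩
  obtain ⟨x, hx⟩ := exists_prime_orderOf_dvd_card' (G := Fix4 X a b c e) 2 hcon.two_dvd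
  have hm := mem_Fix4.mp x.2
  have hodd := H.o4 (x : X) a b c e hD hm.1 hm.2.1 hm.2.2.1 hm.2.2.2
  rw [Subgroup.orderOf_coe, hx] at hodd
  exact absurd hodd (by decide)

/-- the "dihedral trick": an involution `t = (α β)(γ δ)…` commutes with an involution
`z = (α β)(γ)(δ)…` -/
theorem dihedral_trick (H : OH X Ω) {t : X} (ht : t * t = 1) {α β γ δ : Ω} (hD : D4 α β γ δ)
    (hta : t • α = β) (htb : t • β = α) (htc : t • γ = δ) (htd : t • δ = γ) :
    ∃ z : X, z * z = 1 ∧ z * t = t * z ∧ z • α = β ∧ z • β = α ∧ z • γ = γ ∧ z • δ = δ := by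
  obtain ⟨u, hu, u1, u2, u3, u4⟩ := exists_involO H (D4_rot hD)
  -- u : γ ↔ δ, fixes α β
  have hti : t⁻¹ = t := inv_eq_of_mul_eq_one_right ht
  have hui : u⁻¹ = u := inv_eq_of_mul_eq_one_right hu
  obtain ⟨g, hg⟩ : ∃ g : X, g = t * u := ⟨_, rfl⟩
  have g1 : g • α = β := by rw [hg, mul_smul, u3, hta]
  have g2 : g • β = α := by rw [hg, mul_smul, u4, htb]
  have g3 : g • γ = γ := by rw [hg, mul_smul, u1, htd]
  have g4 : g • δ = δ := by rw [hg, mul_smul, u2, htc]
  obtain ⟨r, hr, hrr, hx⟩ := exists_invol_powO H hD (g := g) (by rw [g1, g2]) (by rw [g2, g1])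
    (by rw [g3, g3]) (by rw [g4, g4])
  refine ⟨g ^ r, hrr, ?_, by rw [hx α (by rw [g1, g2]), g1], by rw [hx β (by rw [g2, g1]), g2],
    by rw [hx γ (by rw [g3, g3]), g3], by rw [hx δ (by rw [g4, g4]), g4]⟩
  -- t g t⁻¹ = g⁻¹
  have hconj : t * g * t⁻¹ = g⁻¹ := by
    rw [hg, mul_inv_rev, hui, hti, ← mul_assoc t t u, ht, one_mul]
  have h2 : t * g ^ r * t⁻¹ = (g ^ r)⁻¹ := by
    rw [← conj_pow, hconj, inv_pow]
  have h3 : (g ^ r)⁻¹ = g ^ r := inv_eq_of_mul_eq_one_right hrr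
  rw [h3] at h2
  calc g ^ r * t = t * g ^ r * t⁻¹ * t := by rw [h2]
    _ = t * g ^ r := by group

section Count

variable [Fintype Ω] [DecidableEq Ω]

/-- an involution with two fixed points `p q` and a transposition `(α β)` has 2 or 3 fixed points,
according to the parity of `|Ω|` -/
theorem card_FixfO (H : OH X Ω) {t : X} (ht : t * t = 1) {α β p q : Ω} (hD : D4 α β p q)
    (hta : t • α = β) (htb : t • β = α) (htp : t • p = p) (htq : t • q = q) :
    ((Fixf Ω t).card = 2 ∧ Even (Fintype.card Ω)) ∨ ((Fixf Ω t).card = 3 ∧ Odd (Fintype.card Ω)) := by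
  classical
  have ht1 : t ≠ 1 := by
    rintro rfl
    rw [one_smul] at hta
    exact hD.1 hta
  have hp : p ∈ Fixf Ω t := mem_Fixf.mpr htp
  have hq : q ∈ Fixf Ω t := mem_Fixf.mpr htq
  have hge : 2 ≤ (Fixf Ω t).card := by
    have : ({p, q} : Finset Ω) ⊆ Fixf Ω t := by
      intro x hx
      simp only [Finset.mem_insert, Finset.mem_singleton] at hx
      rcases hx with rfl | rfl
      · exact hp
      · exact hq
    have h2 := Finset.card_le_card this
    rwa [Finset.card_pair hD.2.2.2.2.2] at h2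
  have hle : (Fixf Ω t).card ≤ 3 := by
    by_contra hcon
    push Not at hcon
    have h3 : 1 < (((Fixf Ω t).erase p).erase q).card := by
      rw [Finset.card_erase_of_mem, Finset.card_erase_of_mem hp]
      · omega
      · exact Finset.mem_erase.mpr ⟨hD.2.2.2.2.2.symm, hq⟩
    obtain ⟨r, hr, r', hr', hrr'⟩ := Finset.one_lt_card.mp h3
    simp only [Finset.mem_erase] at hr hr'
    exact invol_fix4_falseO H ht ht1 (a := p) (b := q) (c := r) (e := r')
      ⟨hD.2.2.2.2.2, fun h => hr.2.1 h.symm, fun h => hr'.2.1 h.symm, fun h => hr.1 h.symm,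
        fun h => hr'.1 h.symm, hrr'⟩ htp htq (mem_Fixf.mp hr.2.2) (mem_Fixf.mp hr'.2.2)
  have hpar : (Fixf Ω t).card ≡ Fintype.card Ω [MOD 2] := by
    haveI : Fact (Nat.Prime 2) := ⟨Nat.prime_two⟩
    have hσ : (MulAction.toPerm t : Equiv.Perm Ω) ^ 2 ^ 1 = 1 := by
      rw [pow_one, pow_two]
      ext x
      simp only [Equiv.Perm.coe_mul, Function.comp_apply, MulAction.toPerm_apply,
        Equiv.Perm.coe_one, id_eq]
      rw [← mul_smul, ht, one_smul]
    have := Equiv.Perm.card_compl_support_modEq (p := 2) (n := 1) hσ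
    have he : (MulAction.toPerm t : Equiv.Perm Ω).supportᶜ = Fixf Ω t := by
      ext x
      simp [Fixf, Equiv.Perm.mem_support]
    rwa [he] at this
  have hcases : (Fixf Ω t).card = 2 ∨ (Fixf Ω t).card = 3 := by omega
  rcases hcases with h | h
  · left
    refine ⟨h, ?_⟩
    rw [h] at hpar
    have : Fintype.card Ω % 2 = 0 := by
      have := hpar
      unfold Nat.ModEq at this
      omega
    exact Nat.even_iff.mpr this
  · right
    refine ⟨h, ?_⟩
    rw [h] at hpar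
    have : Fintype.card Ω % 2 = 1 := by
      have := hpar
      unfold Nat.ModEq at this
      omega
    exact Nat.odd_iff.mpr this

end Count

end Cfsg.Agent.Lib.Helper1.Wl
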