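import Mathlib
import Cfsg.Agent.Lib.Helper1.Wl13

set_option autoImplicit false
set_option maxHeartbeats 4000000
set_option maxRecDepth 100000
set_option linter.unusedVariables false
set_option linter.unusedSectionVars false
set_option linter.style.longLine false
set_option linter.unusedSimpArgs false
set_option linter.deprecated false
set_option linter.style.haveILetI false

/-! # M. Hall's theorem, part 3: odd degree, the configuration and the case where the four point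
stabilizer fixes a fifth point -/

namespace Cfsg.Agent.Lib.Helper1.Wl

open MulAction Cfsg.Agent.Lib.Helper7.Sharp4

variable {X Ω : Type*} [Group X] [MulAction X Ω]

theorem inv_smul_of_smul {g : X} {p q : Ω} (h : g • p = q) : g⁻¹ • q = p := by
  rw [← h, inv_smul_smul]

theorem conj_smul_fix {g h : X} {p q : Ω} (hg : g • p = q) (hh : h • p = p) :
    (g * h * g⁻¹) • q = q := by
  rw [mul_smul, mul_smul, inv_smul_of_smul hg, hh, hg]

theorem conj_smul_fix' {g h : X} {p q : Ω} (hg : g • p = q) (hh : h • q = q) :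
    (g⁻¹ * h * g) • p = p := by
  rw [mul_smul, mul_smul, hg, hh, inv_smul_of_smul hg]

theorem invol_inv {s : X} (hs : s * s = 1) : s⁻¹ = s := inv_eq_of_mul_eq_one_right hs

theorem invol_smul_smul {s : X} (hs : s * s = 1) (y : Ω) : s • s • y = y := by
  rw [← mul_smul, hs, one_smul]

/-- every four point stabilizer fixes exactly five points -/
def Closure5 (X Ω : Type*) [Group X] [MulAction X Ω] : Prop :=
  ∀ p₁ p₂ p₃ p₄ : Ω, D4 p₁ p₂ p₃ p₄ → ∃ p₅ : Ω, p₅ ≠ p₁ ∧ p₅ ≠ p₂ ∧ p₅ ≠ p₃ ∧ p₅ ≠ p₄ ∧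
    (∀ g : X, g • p₁ = p₁ → g • p₂ = p₂ → g • p₃ = p₃ → g • p₄ = p₄ → g • p₅ = p₅) ∧
    (∀ y : Ω, (∀ g : X, g • p₁ = p₁ → g • p₂ = p₂ → g • p₃ = p₃ → g • p₄ = p₄ → g • y = y) →
      y = p₁ ∨ y = p₂ ∨ y = p₃ ∨ y = p₄ ∨ y = p₅)

/-- if `s` is an involution with fixed point set exactly `{p, q, r}` then the stabilizer of
`p, q, r, y` fixes `s • y` -/
theorem invol_image_fixed (hC : Closure5 X Ω) {s : X} (hs : s * s = 1) {p q r y : Ω}
    (hpq : p ≠ q) (hpr : p ≠ r) (hqr : q ≠ r)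
    (sp : s • p = p) (sq : s • q = q) (sr : s • r = r)
    (hfix : ∀ z : Ω, s • z = z → z = p ∨ z = q ∨ z = r) (hyp : y ≠ p) (hyq : y ≠ q) (hyr : y ≠ r) :
    ∀ g : X, g • p = p → g • q = q → g • r = r → g • y = y → g • (s • y) = s • y := by
  have hsy : s • y ≠ y := fun h => by
    rcases hfix y h with h | h | h
    · exact hyp h
    · exact hyq h
    · exact hyr h
  have hss := invol_smul_smul (Ω := Ω) hs
  have hinj : ∀ {u w : Ω}, s • u = w → s • w = u := fun {u w} h => by rw [← h, hss]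
  obtain ⟨d, hd⟩ : ∃ d : Ω, d = s • y := ⟨_, rfl⟩
  rw [← hd] at hsy ⊢
  have sy : s • y = d := hd.symm
  have sd : s • d = y := hinj sy
  have hdp : d ≠ p := fun h => hyp (by rw [← sd, h, sp])
  have hdq : d ≠ q := fun h => hyq (by rw [← sd, h, sq])
  have hdr : d ≠ r := fun h => hyr (by rw [← sd, h, sr])
  have hD1 : D4 p q y d := ⟨hpq, hyp.symm, hdp.symm, hyq.symm, hdq.symm, hsy.symm⟩
  obtain ⟨p', n1, n2, n3, n4, hfixp', honly'⟩ := hC p q y d hD1
  -- s • p' is fixed by the stabilizer of p q y d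
  have h1 : ∀ g : X, g • p = p → g • q = q → g • y = y → g • d = d → g • (s • p') = s • p' := by
    intro g g1 g2 g3 g4
    have := hfixp' (s⁻¹ * g * s) (conj_smul_fix' sp g1) (conj_smul_fix' sq g2)
      (conj_smul_fix' sy g4) (conj_smul_fix' sd g3)
    rw [mul_smul, mul_smul, inv_smul_eq_iff] at this
    exact this
  have h2 : s • p' = p' := by
    rcases honly' _ h1 with h | h | h | h | h
    · exact absurd (by rw [← hinj h, sp]) n1
    · exact absurd (by rw [← hinj h, sq]) n2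
    · exact absurd (by rw [← hinj h, sy]) n4
    · exact absurd (by rw [← hinj h, sd]) n3
    · exact h
  have h3 : p' = r := by
    rcases hfix p' h2 with h | h | h
    · exact absurd h n1
    · exact absurd h n2
    · exact h
  rw [h3] at hfixp' honly'
  -- the stabilizer of p q r y
  have hD2 : D4 p q r y := ⟨hpq, hpr, hyp.symm, hqr, hyq.symm, hyr.symm⟩
  obtain ⟨p₅, m1, m2, m3, m4, hfix5, honly5⟩ := hC p q r y hD2
  have h4 : p₅ = d := by
    have := honly' p₅ (fun g g1 g2 g3 g4 => hfix5 g g1 g2 (hfixp' g g1 g2 g3 g4) g3)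
    rcases this with h | h | h | h | h
    · exact absurd h m1
    · exact absurd h m2
    · exact absurd h m4
    · exact h
    · exact absurd h m3
  intro g g1 g2 g3 g4
  rw [← h4]
  exact hfix5 g g1 g2 g3 g4

/-- under `Closure5`, an involution is determined by its three fixed points -/
theorem invol_unique (H : OH X Ω) (hC : Closure5 X Ω) {s₁ s₂ : X} (hs₁ : s₁ * s₁ = 1)
    (hs₂ : s₂ * s₂ = 1) {p q r : Ω} (hpq : p ≠ q) (hpr : p ≠ r) (hqr : q ≠ r)
    (s1p : s₁ • p = p) (s1q : s₁ • q = q) (s1r : s₁ • r = r)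
    (hfix1 : ∀ z : Ω, s₁ • z = z → z = p ∨ z = q ∨ z = r)
    (s2p : s₂ • p = p) (s2q : s₂ • q = q) (s2r : s₂ • r = r)
    (hfix2 : ∀ z : Ω, s₂ • z = z → z = p ∨ z = q ∨ z = r) : s₁ = s₂ := by
  have key : ∀ y : Ω, s₁ • y = s₂ • y := by
    intro y
    by_cases hyp : y = p
    · rw [hyp, s1p, s2p]
    by_cases hyq : y = q
    · rw [hyq, s1q, s2q]
    by_cases hyr : y = r
    · rw [hyr, s1r, s2r]
    have f1 := invol_image_fixed hC hs₁ hpq hpr hqr s1p s1q s1r hfix1 hyp hyq hyr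
    have f2 := invol_image_fixed hC hs₂ hpq hpr hqr s2p s2q s2r hfix2 hyp hyq hyr
    have hD2 : D4 p q r y := ⟨hpq, hpr, fun h => hyp h.symm, hqr, fun h => hyq h.symm,
      fun h => hyr h.symm⟩
    obtain ⟨p₅, m1, m2, m3, m4, hfix5, honly5⟩ := hC p q r y hD2
    have hss1 := invol_smul_smul (Ω := Ω) hs₁
    have hss2 := invol_smul_smul (Ω := Ω) hs₂
    have e1 : s₁ • y = p₅ := by
      rcases honly5 _ f1 with h | h | h | h | h
      · exact absurd (by rw [← hss1 y, h, s1p]) hyp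
      · exact absurd (by rw [← hss1 y, h, s1q]) hyq
      · exact absurd (by rw [← hss1 y, h, s1r]) hyr
      · exfalso
        rcases hfix1 y h with h' | h' | h'
        · exact hyp h'
        · exact hyq h'
        · exact hyr h'
      · exact h
    have e2 : s₂ • y = p₅ := by
      rcases honly5 _ f2 with h | h | h | h | h
      · exact absurd (by rw [← hss2 y, h, s2p]) hyp
      · exact absurd (by rw [← hss2 y, h, s2q]) hyq
      · exact absurd (by rw [← hss2 y, h, s2r]) hyr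
      · exfalso
        rcases hfix2 y h with h' | h' | h'
        · exact hyp h'
        · exact hyq h'
        · exact hyr h'
      · exact h
    rw [e1, e2]
  have h1 : s₂⁻¹ * s₁ = 1 := H.ff _ (fun y => by rw [mul_smul, key y, inv_smul_smul])
  exact (inv_mul_eq_one.mp h1).symm

theorem fix_three [DecidableEq Ω] {s : Finset Ω} (hs : s.card = 3) {p q : Ω} (hp : p ∈ s)
    (hq : q ∈ s) (hpq : p ≠ q) :
    ∃ r ∈ s, r ≠ p ∧ r ≠ q ∧ ∀ y ∈ s, y = p ∨ y = q ∨ y = r := by
  have h1 : ((s.erase p).erase q).card = 1 := by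
    rw [Finset.card_erase_of_mem (Finset.mem_erase.mpr ⟨hpq.symm, hq⟩),
      Finset.card_erase_of_mem hp, hs]
  obtain ⟨r, hr⟩ := Finset.card_eq_one.mp h1
  have hrm : r ∈ (s.erase p).erase q := by rw [hr]; exact Finset.mem_singleton_self r
  simp only [Finset.mem_erase] at hrm
  refine ⟨r, hrm.2.2, hrm.2.1, hrm.1, fun y hy => ?_⟩
  by_cases h1 : y = p
  · exact Or.inl h1
  by_cases h2 : y = q
  · exact Or.inr (Or.inl h2)
  right; right
  have : y ∈ (s.erase p).erase q := Finset.mem_erase.mpr ⟨h2, Finset.mem_erase.mpr ⟨h1, hy⟩⟩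
  rw [hr] at this
  exact Finset.mem_singleton.mp this

theorem fix_three' [DecidableEq Ω] {s : Finset Ω} (hs : s.card = 3) {p q r : Ω} (hp : p ∈ s)
    (hq : q ∈ s) (hr : r ∈ s) (hpq : p ≠ q) (hpr : p ≠ r) (hqr : q ≠ r) :
    ∀ y ∈ s, y = p ∨ y = q ∨ y = r := by
  obtain ⟨r', hr', n1, n2, hall⟩ := fix_three hs hp hq hpq
  have : r = r' := by
    rcases hall r hr with h | h | h
    · exact absurd h hpr.symm
    · exact absurd h hqr.symm
    · exact h
  subst this
  exact hall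

theorem invol_three {v : X} (hv : v * v = 1) {p₁ p₂ p₃ : Ω} (h12 : p₁ ≠ p₂) (h13 : p₁ ≠ p₃)
    (h23 : p₂ ≠ p₃)
    (hm : ∀ y : Ω, (y = p₁ ∨ y = p₂ ∨ y = p₃) → (v • y = p₁ ∨ v • y = p₂ ∨ v • y = p₃))
    (hnot : ¬ (v • p₁ = p₁ ∧ v • p₂ = p₂ ∧ v • p₃ = p₃)) :
    ∃ x c e : Ω, x ≠ c ∧ x ≠ e ∧ c ≠ e ∧
      (∀ y : Ω, (y = p₁ ∨ y = p₂ ∨ y = p₃) ↔ (y = c ∨ y = e ∨ y = x)) ∧
      v • x = x ∧ v • c = e ∧ v • e = c := by
  have hss := invol_smul_smul (Ω := Ω) hv
  have hinj : ∀ {u w : Ω}, v • u = w → v • w = u := fun {u w} h => by rw [← h, hss]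
  rcases hm p₁ (Or.inl rfl) with h1 | h1 | h1
  · rcases hm p₂ (Or.inr (Or.inl rfl)) with h2 | h2 | h2
    · exact absurd ((hinj h2).symm.trans h1) h12.symm
    · rcases hm p₃ (Or.inr (Or.inr rfl)) with h3 | h3 | h3
      · exact absurd ((hinj h3).symm.trans h1) h13.symm
      · exact absurd ((hinj h3).symm.trans h2) h23.symm
      · exact absurd ⟨h1, h2, h3⟩ hnot
    · exact ⟨p₁, p₂, p₃, h12, h13, h23, fun y => by tauto, h1, h2, hinj h2⟩
  · have h2 := hinj h1
    rcases hm p₃ (Or.inr (Or.inr rfl)) with h3 | h3 | h3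
    · exact absurd ((hinj h3).symm.trans h1) h23.symm
    · exact absurd ((hinj h3).symm.trans h2) h13.symm
    · exact ⟨p₃, p₁, p₂, h13.symm, h23.symm, h12, fun y => by tauto, h3, h1, h2⟩
  · have h3 := hinj h1
    rcases hm p₂ (Or.inr (Or.inl rfl)) with h2 | h2 | h2
    · exact absurd ((hinj h2).symm.trans h1) h23
    · exact ⟨p₂, p₁, p₃, h12.symm, h23, h13, fun y => by tauto, h2, h1, h3⟩
    · exact absurd ((hinj h2).symm.trans h3) h12.symm

/-- the configuration in the odd case -/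
structure OddCfg (t v : X) (a b c e x γ δ : Ω) : Prop where
  tt : t * t = 1
  vv : v * v = 1
  vt : v * t = t * v
  hD : D4 a b c e
  xc : x ≠ c
  xe : x ≠ e
  γM : γ ∈ Mset t a b
  γδ : t • γ = δ
  ta : t • a = b
  tb : t • b = a
  tc : t • c = c
  te : t • e = e
  tx : t • x = x
  va : v • a = b
  vb : v • b = a
  vc : v • c = e
  ve : v • e = c
  vx : v • x = x
  vγ : v • γ = γ
  vδ : v • δ = δ
  tfix : ∀ y : Ω, t • y = y → y = c ∨ y = e ∨ y = x
  vfix : ∀ y : Ω, v • y = y → y = x ∨ y = γ ∨ y = δ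
  wfix : ∀ y : Ω, (t * v) • y = y → y = a ∨ y = b ∨ y = x

theorem odd_setup [Fintype Ω] [DecidableEq Ω] (H : OH X Ω) (hodd : Odd (Fintype.card Ω))
    (h7 : 7 ≤ Fintype.card Ω) :
    ∃ (t v : X) (a b c e x γ δ : Ω), OddCfg t v a b c e x γ δ := by
  classical
  obtain ⟨e4⟩ : Nonempty (Fin 4 ↪ Ω) :=
    Function.Embedding.nonempty_of_card_le (by rw [Fintype.card_fin]; omega)
  have hD0 : D4 (e4 0) (e4 1) (e4 2) (e4 3) := by
    refine ⟨?_, ?_, ?_, ?_, ?_, ?_⟩ <;> exact e4.injective.ne (by decide)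
  obtain ⟨a, b, c₀, e₀, hD0⟩ : ∃ a b c₀ e₀ : Ω, D4 a b c₀ e₀ := ⟨_, _, _, _, hD0⟩
  obtain ⟨t, ht, ta, tb, tc0, te0⟩ := exists_involO H hD0
  have hnot : ¬ Even (Fintype.card Ω) := Nat.not_even_iff_odd.mpr hodd
  have hft : (Fixf Ω t).card = 3 := by
    rcases card_FixfO H ht hD0 ta tb tc0 te0 with h | h
    · exact absurd h.2 hnot
    · exact h.1
  obtain ⟨x₀, hx₀mem, hx₀c, hx₀e, hall⟩ := fix_three hft (mem_Fixf.mpr tc0) (mem_Fixf.mpr te0)
    hD0.2.2.2.2.2
  have tx0 : t • x₀ = x₀ := mem_Fixf.mp hx₀mem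
  have hFt : ∀ y : Ω, t • y = y ↔ (y = c₀ ∨ y = e₀ ∨ y = x₀) := by
    intro y
    constructor
    · intro hy; exact hall y (mem_Fixf.mpr hy)
    · rintro (h | h | h) <;> rw [h] <;> assumption
  have hM := ncard_Mset (t := t) hD0.1 ta tb
  rw [hft] at hM
  have hMpos : 0 < (Mset t a b).ncard := by omega
  obtain ⟨γ, hγ⟩ := (Set.ncard_pos (Set.toFinite _)).mp hMpos
  have hDγ := D4_moved ht hD0.1 ta tb hγ
  have hss := invol_smul_smul (Ω := Ω) ht
  obtain ⟨v, hv, hvt, va, vb, vγ, vδ⟩ := dihedral_trick H ht hDγ ta tb rfl (hss γ)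
  have hfv : (Fixf Ω v).card = 3 := by
    rcases card_FixfO H hv hDγ va vb vγ vδ with h | h
    · exact absurd h.2 hnot
    · exact h.1
  have hv1 : v ≠ 1 := by
    rintro rfl
    rw [one_smul] at va
    exact hD0.1 va
  -- γ, δ are not fixed by t
  have hγne : ∀ y : Ω, t • y = y → y ≠ γ := fun y hy h => hγ.1 (h ▸ hy)
  have hδM := smul_mem_Mset ht ta tb hγ
  have hδne : ∀ y : Ω, t • y = y → y ≠ t • γ := fun y hy h => hδM.1 (h ▸ hy)
  have hvF : ∀ y : Ω, (y = c₀ ∨ y = e₀ ∨ y = x₀) → (v • y = c₀ ∨ v • y = e₀ ∨ v • y = x₀) := by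
    intro y hy
    exact (hFt _).mp (smul_fix_of_comm hvt ((hFt y).mpr hy))
  obtain ⟨x, c, e, hxc, hxe, hce, hiff, vx, vc, ve⟩ := invol_three hv hD0.2.2.2.2.2 hx₀c.symm
    hx₀e.symm hvF (by
      rintro ⟨h1, h2, h3⟩
      exact invol_fix4_falseO H hv hv1 (a := c₀) (b := e₀) (c := γ) (e := t • γ)
        ⟨hD0.2.2.2.2.2, hγne _ tc0, hδne _ tc0, hγne _ te0, hδne _ te0, hDγ.2.2.2.2.2⟩ h1 h2 vγ vδ)
  have hFt' : ∀ y : Ω, t • y = y ↔ (y = c ∨ y = e ∨ y = x) := fun y => (hFt y).trans (hiff y)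
  have tc : t • c = c := (hFt' c).mpr (Or.inl rfl)
  have te : t • e = e := (hFt' e).mpr (Or.inr (Or.inl rfl))
  have tx : t • x = x := (hFt' x).mpr (Or.inr (Or.inr rfl))
  have hab : a ≠ b := hD0.1
  have hane : ∀ y : Ω, t • y = y → y ≠ a := fun y hy h => by
    rw [h, ta] at hy; exact hab hy.symm
  have hbne : ∀ y : Ω, t • y = y → y ≠ b := fun y hy h => by
    rw [h, tb] at hy; exact hab hy
  have hD : D4 a b c e := ⟨hab, (hane c tc).symm, (hane e te).symm, (hbne c tc).symm,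
    (hbne e te).symm, hce⟩
  have hvfix : ∀ y : Ω, v • y = y → y = x ∨ y = γ ∨ y = t • γ := by
    intro y hy
    exact fix_three' hfv (mem_Fixf.mpr vx) (mem_Fixf.mpr vγ) (mem_Fixf.mpr vδ) (hγne x tx)
      (hδne x tx) hDγ.2.2.2.2.2 y (mem_Fixf.mpr hy)
  -- w = t * v
  have hw : (t * v) * (t * v) = 1 := by
    calc (t * v) * (t * v) = t * (v * t) * v := by group
      _ = t * (t * v) * v := by rw [hvt]
      _ = (t * t) * (v * v) := by group
      _ = 1 := by rw [ht, hv, one_mul]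
  have wc : (t * v) • c = e := by rw [mul_smul, vc, te]
  have we : (t * v) • e = c := by rw [mul_smul, ve, tc]
  have wa : (t * v) • a = a := by rw [mul_smul, va, tb]
  have wb : (t * v) • b = b := by rw [mul_smul, vb, ta]
  have wx : (t * v) • x = x := by rw [mul_smul, vx, tx]
  have hfw : (Fixf Ω (t * v)).card = 3 := by
    rcases card_FixfO H hw (D4_rot hD) wc we wa wb with h | h
    · exact absurd h.2 hnot
    · exact h.1
  have hwfix : ∀ y : Ω, (t * v) • y = y → y = a ∨ y = b ∨ y = x := by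
    intro y hy
    exact fix_three' hfw (mem_Fixf.mpr wa) (mem_Fixf.mpr wb) (mem_Fixf.mpr wx) hab
      (hane x tx).symm (hbne x tx).symm y (mem_Fixf.mpr hy)
  exact ⟨t, v, a, b, c, e, x, γ, t • γ, ht, hv, hvt, hD, hxc, hxe, hγ, rfl, ta, tb, tc, te, tx,
    va, vb, vc, ve, vx, vγ, vδ, fun y hy => (hFt' y).mp hy, hvfix, hwfix⟩

theorem conj_eq_comm {s q : X} (h : s * q * s⁻¹ = q) : q * s = s * q := by
  calc q * s = s * q * s⁻¹ * s := by rw [h]
    _ = s * q := by group

theorem conj_mem_Fix4 {s q : X} {a b c e a' b' c' e' : Ω} (sa : s • a' = a) (sb : s • b' = b)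
    (sc : s • c' = c) (se : s • e' = e) (hq : q ∈ Fix4 X a' b' c' e') :
    s * q * s⁻¹ ∈ Fix4 X a b c e := by
  have hm := mem_Fix4.mp hq
  exact mem_Fix4.mpr ⟨conj_smul_fix sa hm.1, conj_smul_fix sb hm.2.1, conj_smul_fix sc hm.2.2.1,
    conj_smul_fix se hm.2.2.2⟩

namespace OddCfg

variable {t v : X} {a b c e x γ δ : Ω}

theorem tδ (K : OddCfg t v a b c e x γ δ) : t • δ = γ := by
  rw [← K.γδ, invol_smul_smul K.tt]

theorem δM (K : OddCfg t v a b c e x γ δ) : δ ∈ Mset t a b :=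
  K.γδ ▸ smul_mem_Mset K.tt K.ta K.tb K.γM

theorem hab (K : OddCfg t v a b c e x γ δ) : a ≠ b := K.hD.1

theorem ne_a_of_fix (K : OddCfg t v a b c e x γ δ) {y : Ω} (hy : t • y = y) : y ≠ a := fun h => by
  rw [h, K.ta] at hy; exact K.hab hy.symm

theorem ne_b_of_fix (K : OddCfg t v a b c e x γ δ) {y : Ω} (hy : t • y = y) : y ≠ b := fun h => by
  rw [h, K.tb] at hy; exact K.hab hy

theorem xa (K : OddCfg t v a b c e x γ δ) : x ≠ a := K.ne_a_of_fix K.tx
theorem xb (K : OddCfg t v a b c e x γ δ) : x ≠ b := K.ne_b_of_fix K.tx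

theorem ne_γ_of_fix (K : OddCfg t v a b c e x γ δ) {y : Ω} (hy : t • y = y) : y ≠ γ :=
  fun h => K.γM.1 (h ▸ hy)

theorem ne_δ_of_fix (K : OddCfg t v a b c e x γ δ) {y : Ω} (hy : t • y = y) : y ≠ δ :=
  fun h => K.δM.1 (h ▸ hy)

theorem γδne (K : OddCfg t v a b c e x γ δ) : γ ≠ δ := fun h => K.γM.1 (by rw [K.γδ]; exact h.symm)

theorem ww (K : OddCfg t v a b c e x γ δ) : (t * v) * (t * v) = 1 := by
  calc (t * v) * (t * v) = t * (v * t) * v := by group
    _ = t * (t * v) * v := by rw [K.vt]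
    _ = (t * t) * (v * v) := by group
    _ = 1 := by rw [K.tt, K.vv, one_mul]

theorem wa (K : OddCfg t v a b c e x γ δ) : (t * v) • a = a := by rw [mul_smul, K.va, K.tb]
theorem wb (K : OddCfg t v a b c e x γ δ) : (t * v) • b = b := by rw [mul_smul, K.vb, K.ta]
theorem wc (K : OddCfg t v a b c e x γ δ) : (t * v) • c = e := by rw [mul_smul, K.vc, K.te]
theorem we (K : OddCfg t v a b c e x γ δ) : (t * v) • e = c := by rw [mul_smul, K.ve, K.tc]
theorem wx (K : OddCfg t v a b c e x γ δ) : (t * v) • x = x := by rw [mul_smul, K.vx, K.tx]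

/-- a point outside `Σ` lies in the moved set -/
theorem mem_Mset_of (K : OddCfg t v a b c e x γ δ) {y : Ω} (h1 : y ≠ a) (h2 : y ≠ b) (h3 : y ≠ c)
    (h4 : y ≠ e) (h5 : y ≠ x) : y ∈ Mset t a b := by
  refine ⟨fun h => ?_, h1, h2⟩
  rcases K.tfix y h with h | h | h
  · exact h3 h
  · exact h4 h
  · exact h5 h

theorem fourAct [Finite X] (H : OH X Ω) (K : OddCfg t v a b c e x γ δ) :
    FourAct (Fix4 X a b c e) (MulAut.conj v) (MulAut.conj t) (MulAut.conj (t * v)) where
  odd := odd_card_Fix4O H K.hD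
  αα := fun y => by
    rw [MulAut.conj_apply, MulAut.conj_apply]
    calc v * (v * y * v⁻¹) * v⁻¹ = (v * v) * y * (v * v)⁻¹ := by group
      _ = y := by rw [K.vv]; group
  ββ := fun y => by
    rw [MulAut.conj_apply, MulAut.conj_apply]
    calc t * (t * y * t⁻¹) * t⁻¹ = (t * t) * y * (t * t)⁻¹ := by group
      _ = y := by rw [K.tt]; group
  αβ := fun y => by
    rw [MulAut.conj_apply, MulAut.conj_apply, MulAut.conj_apply, MulAut.conj_apply]
    calc v * (t * y * t⁻¹) * v⁻¹ = (v * t) * y * (v * t)⁻¹ := by group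
      _ = (t * v) * y * (t * v)⁻¹ := by rw [K.vt]
      _ = t * (v * y * v⁻¹) * t⁻¹ := by group
  γdef := fun y => by
    rw [MulAut.conj_apply, MulAut.conj_apply, MulAut.conj_apply]
    calc t * v * y * (t * v)⁻¹ = (v * t) * y * (v * t)⁻¹ := by rw [K.vt]
      _ = v * (t * y * t⁻¹) * v⁻¹ := by group
  αQ := fun q hq => by
    rw [MulAut.conj_apply]
    have hm := mem_Fix4.mp hq
    exact conj_mem_Fix4 K.vb K.va K.ve K.vc (mem_Fix4.mpr ⟨hm.2.1, hm.1, hm.2.2.2, hm.2.2.1⟩)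
  βQ := fun q hq => by
    rw [MulAut.conj_apply]
    have hm := mem_Fix4.mp hq
    exact conj_mem_Fix4 K.tb K.ta K.tc K.te (mem_Fix4.mpr ⟨hm.2.1, hm.1, hm.2.2.1, hm.2.2.2⟩)

/-- Hall's lemma applied: the four point stabilizer maps `x` into the fixed points of `v` -/
theorem orbit_x_bound [Finite X] (H : OH X Ω) (K : OddCfg t v a b c e x γ δ) {h : X}
    (hh : h ∈ Fix4 X a b c e) : h • x = x ∨ h • x = γ ∨ h • x = δ := by
  obtain ⟨k, hk, u, hu, w, hw, rfl⟩ := hall_lemma (K.fourAct H) hh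
  have hkc : k * v = v * k := conj_eq_comm (by have := hk.2; rwa [MulAut.conj_apply] at this)
  have huc : u * (t * v) = (t * v) * u :=
    conj_eq_comm (by have := hu.2; rwa [MulAut.conj_apply] at this)
  have hwc : w * t = t * w := conj_eq_comm (by have := hw.2; rwa [MulAut.conj_apply] at this)
  have hum := mem_Fix4.mp hu.1
  have hwm := mem_Fix4.mp hw.1
  have hux : u • x = x := by
    rcases K.wfix _ (smul_fix_of_comm huc K.wx) with h | h | h
    · exact absurd (smul_left_cancel u (h.trans hum.1.symm)) K.xa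
    · exact absurd (smul_left_cancel u (h.trans hum.2.1.symm)) K.xb
    · exact h
  have hwx : w • x = x := by
    rcases K.tfix _ (smul_fix_of_comm hwc K.tx) with h | h | h
    · exact absurd (smul_left_cancel w (h.trans hwm.2.2.1.symm)) K.xc
    · exact absurd (smul_left_cancel w (h.trans hwm.2.2.2.symm)) K.xe
    · exact h
  have : (k * u * w * u) • x = k • x := by
    rw [mul_smul, mul_smul, mul_smul, hux, hwx, hux]
  rw [this]
  exact K.vfix _ (smul_fix_of_comm hkc K.vx)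

/-- if the stabilizer of `Σ` fixes one point outside `Σ`, it is trivial -/
theorem L_trivial (H : OH X Ω) (K : OddCfg t v a b c e x γ δ) {y₀ : Ω} (hy₀ : y₀ ∈ Mset t a b)
    (hL : ∀ l : X, l ∈ Fix4 X a b c e → l • x = x → l • y₀ = y₀) :
    ∀ l : X, l ∈ Fix4 X a b c e → l • x = x → l = 1 := by
  intro l hl hlx
  have hm := mem_Fix4.mp hl
  have hSig : ∀ z : Ω, (z = c ∨ z = e ∨ z = x) → l • z = z := by
    rintro z (h | h | h) <;> rw [h]
    · exact hm.2.2.1
    · exact hm.2.2.2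
    · exact hlx
  have hM : ∀ y : Ω, y ∈ Mset t a b → l • y = y := by
    intro y hy
    obtain ⟨g, hg, ga, gb, gy⟩ := exists_centralizingO H K.tt K.hab K.ta K.tb hy₀.1 hy₀.2.1
      hy₀.2.2 hy.1 hy.2.1 hy.2.2
    have hgf : ∀ z : Ω, t • z = z → (g⁻¹ * l * g) • z = z := fun z hz =>
      conj_smul_fix' rfl (hSig _ (K.tfix _ (smul_fix_of_comm hg.eq hz)))
    have h1 : g⁻¹ * l * g ∈ Fix4 X a b c e :=
      mem_Fix4.mpr ⟨conj_smul_fix' ga hm.1, conj_smul_fix' gb hm.2.1, hgf c K.tc, hgf e K.te⟩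
    have h2 := hL _ h1 (hgf x K.tx)
    rw [mul_smul, mul_smul, gy, inv_smul_eq_iff, gy] at h2
    exact h2
  refine H.ff l (fun z => ?_)
  by_cases h1 : z = a
  · rw [h1]; exact hm.1
  by_cases h2 : z = b
  · rw [h2]; exact hm.2.1
  by_cases h3 : z = c
  · rw [h3]; exact hm.2.2.1
  by_cases h4 : z = e
  · rw [h4]; exact hm.2.2.2
  by_cases h5 : z = x
  · rw [h5]; exact hlx
  exact hM z (K.mem_Mset_of h1 h2 h3 h4 h5)

/-- Case B: the four point stabilizer fixes `x` and is nontrivial: impossible -/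
theorem caseB_false [Finite X] (H : OH X Ω) (K : OddCfg t v a b c e x γ δ)
    (hfix : ∀ h ∈ Fix4 X a b c e, h • x = x) (hnt : ∃ h ∈ Fix4 X a b c e, h ≠ 1) : False := by
  obtain ⟨h₀, hh₀, hne⟩ := hnt
  -- (B1)
  have hB1 : ∀ y : Ω, (∀ h ∈ Fix4 X a b c e, h • y = y) →
      y = a ∨ y = b ∨ y = c ∨ y = e ∨ y = x := by
    intro y hy
    by_contra hcon
    push Not at hcon
    have hyM := K.mem_Mset_of hcon.1 hcon.2.1 hcon.2.2.1 hcon.2.2.2.1 hcon.2.2.2.2
    exact hne (K.L_trivial H hyM (fun l hl _ => hy l hl) h₀ hh₀ (hfix h₀ hh₀))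
  -- (B2)
  have hC : Closure5 X Ω := by
    intro p₁ p₂ p₃ p₄ hD'
    obtain ⟨k, k1, k2, k3, k4⟩ := trans4 H.t4 K.hD hD'
    refine ⟨k • x, fun h => K.xa (smul_left_cancel k (h.trans k1.symm)),
      fun h => K.xb (smul_left_cancel k (h.trans k2.symm)),
      fun h => K.xc (smul_left_cancel k (h.trans k3.symm)),
      fun h => K.xe (smul_left_cancel k (h.trans k4.symm)), ?_, ?_⟩
    · intro g g1 g2 g3 g4
      have hmem : k⁻¹ * g * k ∈ Fix4 X a b c e := mem_Fix4.mpr ⟨conj_smul_fix' k1 g1,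
        conj_smul_fix' k2 g2, conj_smul_fix' k3 g3, conj_smul_fix' k4 g4⟩
      have := hfix _ hmem
      rw [mul_smul, mul_smul, inv_smul_eq_iff] at this
      exact this
    · intro y hy
      have h1 : ∀ h ∈ Fix4 X a b c e, h • (k⁻¹ • y) = k⁻¹ • y := by
        intro h hh
        have hm := mem_Fix4.mp hh
        have := hy (k * h * k⁻¹) (conj_smul_fix k1 hm.1) (conj_smul_fix k2 hm.2.1)
          (conj_smul_fix k3 hm.2.2.1) (conj_smul_fix k4 hm.2.2.2)
        rw [mul_smul, mul_smul, smul_eq_iff_eq_inv_smul] at this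
        exact this
      have key : ∀ {z : Ω}, k⁻¹ • y = z → y = k • z := fun {z} h => by
        rw [← h, smul_inv_smul]
      rcases hB1 _ h1 with h | h | h | h | h
      · left; rw [key h, k1]
      · right; left; rw [key h, k2]
      · right; right; left; rw [key h, k3]
      · right; right; right; left; rw [key h, k4]
      · right; right; right; right; exact key h
  -- (B4)
  have hcomm : ∀ h ∈ Fix4 X a b c e, h * v = v * h := by
    intro h hh
    have hm := mem_Fix4.mp hh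
    have hhx := hfix h hh
    have e1 : h * t * h⁻¹ = t := by
      refine invol_unique H hC (by
        calc h * t * h⁻¹ * (h * t * h⁻¹) = h * (t * t) * h⁻¹ := by group
          _ = 1 := by rw [K.tt]; group) K.tt K.hD.2.2.2.2.2 K.xc.symm K.xe.symm
        (conj_smul_fix hm.2.2.1 K.tc) (conj_smul_fix hm.2.2.2 K.te) (conj_smul_fix hhx K.tx) ?_
        K.tc K.te K.tx K.tfix
      intro z hz
      rw [mul_smul, mul_smul, smul_eq_iff_eq_inv_smul] at hz
      rcases K.tfix _ hz with h' | h' | h'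
      · left; rw [inv_smul_eq_iff] at h'; rw [h', hm.2.2.1]
      · right; left; rw [inv_smul_eq_iff] at h'; rw [h', hm.2.2.2]
      · right; right; rw [inv_smul_eq_iff] at h'; rw [h', hhx]
    have e2 : h * (t * v) * h⁻¹ = t * v := by
      refine invol_unique H hC (by
        calc h * (t * v) * h⁻¹ * (h * (t * v) * h⁻¹) = h * ((t * v) * (t * v)) * h⁻¹ := by group
          _ = 1 := by rw [K.ww]; group) K.ww K.hab K.xa.symm K.xb.symm
        (conj_smul_fix hm.1 K.wa) (conj_smul_fix hm.2.1 K.wb) (conj_smul_fix hhx K.wx) ?_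
        K.wa K.wb K.wx K.wfix
      intro z hz
      rw [mul_smul, mul_smul, smul_eq_iff_eq_inv_smul] at hz
      rcases K.wfix _ hz with h' | h' | h'
      · left; rw [inv_smul_eq_iff] at h'; rw [h', hm.1]
      · right; left; rw [inv_smul_eq_iff] at h'; rw [h', hm.2.1]
      · right; right; rw [inv_smul_eq_iff] at h'; rw [h', hhx]
    have c1 : h * t = t * h := by
      calc h * t = h * t * h⁻¹ * h := by group
        _ = t * h := by rw [e1]
    have c2 : h * (t * v) = (t * v) * h := by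
      calc h * (t * v) = h * (t * v) * h⁻¹ * h := by group
        _ = (t * v) * h := by rw [e2]
    have hv : v = t * (t * v) := by rw [← mul_assoc, K.tt, one_mul]
    calc h * v = h * (t * (t * v)) := by rw [← hv]
      _ = (h * t) * (t * v) := by group
      _ = t * (h * (t * v)) := by rw [c1]; group
      _ = t * ((t * v) * h) := by rw [c2]
      _ = (t * (t * v)) * h := by group
      _ = v * h := by rw [← hv]
  -- (B5)
  have hγfix : ∀ h ∈ Fix4 X a b c e, h • γ = γ := by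
    intro h hh
    have hm := mem_Fix4.mp hh
    have hodd := H.o4 h a b c e K.hD hm.1 hm.2.1 hm.2.2.1 hm.2.2.2
    have hc := hcomm h hh
    have hhx := hfix h hh
    rcases K.vfix _ (smul_fix_of_comm hc K.vγ) with h1 | h1 | h1
    · exact absurd (smul_left_cancel h (h1.trans hhx.symm)) (K.ne_γ_of_fix K.tx).symm
    · exact h1
    · exfalso
      rcases K.vfix _ (smul_fix_of_comm hc K.vδ) with h2 | h2 | h2
      · exact (K.ne_δ_of_fix K.tx).symm (smul_left_cancel h (h2.trans hhx.symm))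
      · exact odd_order_no_swap hodd K.γδne h1 h2
      · exact K.γδne (smul_left_cancel h (h1.trans h2.symm))
  rcases hB1 γ hγfix with h | h | h | h | h
  · exact K.γM.2.1 h
  · exact K.γM.2.2 h
  · exact (K.ne_γ_of_fix K.tc) h.symm
  · exact (K.ne_γ_of_fix K.te) h.symm
  · exact (K.ne_γ_of_fix K.tx) h.symm

end OddCfg

end Cfsg.Agent.Lib.Helper1.Wl
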