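import Mathlib
import Cfsg.Agent.Lib.Helper1.Wl14

set_option autoImplicit false
set_option maxHeartbeats 4000000
set_option maxRecDepth 100000
set_option linter.unusedVariables false
set_option linter.unusedSectionVars false
set_option linter.style.longLine false
set_option linter.unusedSimpArgs false
set_option linter.deprecated false
set_option linter.style.haveILetI false

/-! # M. Hall's theorem, part 4: odd degree, the case where the four point stabilizer moves the
fifth point; the odd degree theorem -/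

namespace Cfsg.Agent.Lib.Helper1.Wl

open MulAction Cfsg.Agent.Lib.Helper7.Sharp4

variable {X Ω : Type*} [Group X] [MulAction X Ω]

/-- a group containing a 3-cycle and satisfying `OH` has degree less than 8 -/
theorem three_cycle_false (H : OH X Ω) {h : X} {x y₁ y₂ p a b c e : Ω} (hD : D4 a b c e)
    (hDx : D4 x y₁ y₂ p) (h1 : h • x = y₁) (h2 : h • y₁ = y₂) (h3 : h • y₂ = x)
    (hfix : ∀ z : Ω, z ≠ x → z ≠ y₁ → z ≠ y₂ → h • z = z)
    (hout : ∀ z : Ω, (z = a ∨ z = b ∨ z = c ∨ z = e) → z ≠ x ∧ z ≠ y₁ ∧ z ≠ y₂ ∧ z ≠ p) :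
    False := by
  obtain ⟨n1, n2, n3, n4, n5, n6⟩ := hDx
  have hDx' : D4 x y₁ p y₂ := ⟨n1, n3, n2, n5, n4, n6.symm⟩
  obtain ⟨g, g1, g2, g3, g4⟩ := trans4 H.t4 ⟨n1, n2, n3, n4, n5, n6⟩ hDx'
  have gi1 := inv_smul_of_smul g1
  have gi2 := inv_smul_of_smul g2
  have gi3 := inv_smul_of_smul g3
  have gi4 := inv_smul_of_smul g4
  have e1 : (g * h * g⁻¹) • x = y₁ := by rw [mul_smul, mul_smul, gi1, h1, g2]
  have e2 : (g * h * g⁻¹) • y₁ = p := by rw [mul_smul, mul_smul, gi2, h2, g3]
  have e3 : (g * h * g⁻¹) • p = x := by rw [mul_smul, mul_smul, gi3, h3, g1]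
  have e4 : ∀ z : Ω, z ≠ x → z ≠ y₁ → z ≠ p → (g * h * g⁻¹) • z = z := by
    intro z z1 z2 z3
    rw [mul_smul, mul_smul, hfix (g⁻¹ • z), smul_inv_smul]
    · intro hz; rw [inv_smul_eq_iff, g1] at hz; exact z1 hz
    · intro hz; rw [inv_smul_eq_iff, g2] at hz; exact z2 hz
    · intro hz; rw [inv_smul_eq_iff, g3] at hz; exact z3 hz
  obtain ⟨s, hs⟩ : ∃ s : X, s = h * (g * h * g⁻¹) := ⟨_, rfl⟩
  have s1 : s • x = y₂ := by rw [hs, mul_smul, e1, h2]
  have s2 : s • y₂ = x := by rw [hs, mul_smul, e4 y₂ n2.symm n4.symm n6, h3]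
  have s3 : s • y₁ = p := by rw [hs, mul_smul, e2, hfix p n3.symm n5.symm n6.symm]
  have s4 : s • p = y₁ := by rw [hs, mul_smul, e3, h1]
  have s5 : ∀ z : Ω, z ≠ x → z ≠ y₁ → z ≠ y₂ → z ≠ p → s • z = z := by
    intro z z1 z2 z3 z4
    rw [hs, mul_smul, e4 z z1 z2 z4, hfix z z1 z2 z3]
  have hss : s * s = 1 := by
    refine H.ff _ (fun z => ?_)
    rw [mul_smul]
    by_cases z1 : z = x
    · rw [z1, s1, s2]
    by_cases z2 : z = y₁
    · rw [z2, s3, s4]
    by_cases z3 : z = y₂
    · rw [z3, s2, s1]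
    by_cases z4 : z = p
    · rw [z4, s4, s3]
    rw [s5 z z1 z2 z3 z4, s5 z z1 z2 z3 z4]
  have hs1 : s ≠ 1 := by
    intro h
    rw [h, one_smul] at s1
    exact n2 s1
  have ha := hout a (Or.inl rfl)
  have hb := hout b (Or.inr (Or.inl rfl))
  have hc := hout c (Or.inr (Or.inr (Or.inl rfl)))
  have he := hout e (Or.inr (Or.inr (Or.inr rfl)))
  exact invol_fix4_falseO H hss hs1 hD (s5 a ha.1 ha.2.1 ha.2.2.1 ha.2.2.2)
    (s5 b hb.1 hb.2.1 hb.2.2.1 hb.2.2.2) (s5 c hc.1 hc.2.1 hc.2.2.1 hc.2.2.2)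
    (s5 e he.1 he.2.1 he.2.2.1 he.2.2.2)

namespace OddCfg

variable {t v : X} {a b c e x γ δ : Ω}

/-- in Case A the element `h` cycles `x → y₁ → y₂ → x` with `{y₁, y₂} = {γ, δ}` -/
theorem cycle_of_moved [Finite X] (H : OH X Ω) (K : OddCfg t v a b c e x γ δ) {h : X}
    (hh : h ∈ Fix4 X a b c e) (hx : h • x ≠ x) :
    ∃ y₁ y₂ : Ω, ((y₁ = γ ∧ y₂ = δ) ∨ (y₁ = δ ∧ y₂ = γ)) ∧ h • x = y₁ ∧ h • y₁ = y₂ ∧
      h • y₂ = x := by
  have hm := mem_Fix4.mp hh
  have hodd := H.o4 h a b c e K.hD hm.1 hm.2.1 hm.2.2.1 hm.2.2.2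
  have hh2 : h * h ∈ Fix4 X a b c e := mul_mem hh hh
  have hh3 : h * h * h ∈ Fix4 X a b c e := mul_mem hh2 hh
  have b2 := K.orbit_x_bound H hh2
  have b3 := K.orbit_x_bound H hh3
  rw [mul_smul] at b2
  rw [mul_smul, mul_smul] at b3
  have xγ : x ≠ γ := K.ne_γ_of_fix K.tx
  have xδ : x ≠ δ := K.ne_δ_of_fix K.tx
  have γδ := K.γδne
  rcases K.orbit_x_bound H hh with b1 | b1 | b1
  · exact absurd b1 hx
  · refine ⟨γ, δ, Or.inl ⟨rfl, rfl⟩, b1, ?_, ?_⟩
    · rw [b1] at b2
      rcases b2 with b2 | b2 | b2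
      · exact (odd_order_no_swap hodd xγ b1 b2).elim
      · exact absurd (smul_left_cancel h (b2.trans b1.symm)) xγ.symm
      · exact b2
    · rw [b1] at b2 b3
      have hγ : h • γ = δ := by
        rcases b2 with b2 | b2 | b2
        · exact (odd_order_no_swap hodd xγ b1 b2).elim
        · exact absurd (smul_left_cancel h (b2.trans b1.symm)) xγ.symm
        · exact b2
      rw [hγ] at b3
      rcases b3 with b3 | b3 | b3
      · exact b3
      · exact absurd (smul_left_cancel h (b3.trans b1.symm)) xδ.symm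
      · exact absurd (smul_left_cancel h (b3.trans hγ.symm)) γδ.symm
  · refine ⟨δ, γ, Or.inr ⟨rfl, rfl⟩, b1, ?_, ?_⟩
    · rw [b1] at b2
      rcases b2 with b2 | b2 | b2
      · exact (odd_order_no_swap hodd xδ b1 b2).elim
      · exact b2
      · exact absurd (smul_left_cancel h (b2.trans b1.symm)) xδ.symm
    · rw [b1] at b2 b3
      have hδ : h • δ = γ := by
        rcases b2 with b2 | b2 | b2
        · exact (odd_order_no_swap hodd xδ b1 b2).elim
        · exact b2
        · exact absurd (smul_left_cancel h (b2.trans b1.symm)) xδ.symm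
      rw [hδ] at b3
      rcases b3 with b3 | b3 | b3
      · exact b3
      · exact absurd (smul_left_cancel h (b3.trans hδ.symm)) γδ
      · exact absurd (smul_left_cancel h (b3.trans b1.symm)) xγ.symm

/-- in Case A the stabilizer of `Σ` fixes `γ` -/
theorem L_fix_γ [Finite X] (H : OH X Ω) (K : OddCfg t v a b c e x γ δ) {h : X}
    (hh : h ∈ Fix4 X a b c e) (hx : h • x ≠ x) :
    ∀ l : X, l ∈ Fix4 X a b c e → l • x = x → l • γ = γ := by
  obtain ⟨y₁, y₂, hy, h1, h2, h3⟩ := K.cycle_of_moved H hh hx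
  intro l hl hlx
  have hm := mem_Fix4.mp hl
  have hodd := H.o4 l a b c e K.hD hm.1 hm.2.1 hm.2.2.1 hm.2.2.2
  have xγ : x ≠ γ := K.ne_γ_of_fix K.tx
  have xδ : x ≠ δ := K.ne_δ_of_fix K.tx
  have γδ := K.γδne
  have c1 := K.orbit_x_bound H (mul_mem hl hh)
  have c2 := K.orbit_x_bound H (mul_mem (mul_mem hl hh) hh)
  rw [mul_smul, h1] at c1
  rw [mul_smul, mul_smul, h1, h2] at c2
  -- l permutes {γ, δ}
  have hγ : l • γ = γ ∨ l • γ = δ := by
    rcases hy with ⟨rfl, rfl⟩ | ⟨rfl, rfl⟩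
    · rcases c1 with c | c | c
      · exact absurd (smul_left_cancel l (c.trans hlx.symm)) xγ.symm
      · exact Or.inl c
      · exact Or.inr c
    · rcases c2 with c | c | c
      · exact absurd (smul_left_cancel l (c.trans hlx.symm)) xγ.symm
      · exact Or.inl c
      · exact Or.inr c
  have hδ : l • δ = γ ∨ l • δ = δ := by
    rcases hy with ⟨rfl, rfl⟩ | ⟨rfl, rfl⟩
    · rcases c2 with c | c | c
      · exact absurd (smul_left_cancel l (c.trans hlx.symm)) xδ.symm
      · exact Or.inl c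
      · exact Or.inr c
    · rcases c1 with c | c | c
      · exact absurd (smul_left_cancel l (c.trans hlx.symm)) xδ.symm
      · exact Or.inl c
      · exact Or.inr c
  rcases hγ with g1 | g1
  · exact g1
  · rcases hδ with d1 | d1
    · exact (odd_order_no_swap hodd γδ g1 d1).elim
    · exact absurd (smul_left_cancel l (g1.trans d1.symm)) γδ

section Count

variable [Fintype Ω] [DecidableEq Ω]

theorem card_Fixf_t (K : OddCfg t v a b c e x γ δ) : (Fixf Ω t).card = 3 := by
  have : Fixf Ω t = {c, e, x} := by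
    ext y
    rw [mem_Fixf]
    simp only [Finset.mem_insert, Finset.mem_singleton]
    constructor
    · exact K.tfix y
    · rintro (h | h | h) <;> rw [h]
      · exact K.tc
      · exact K.te
      · exact K.tx
  rw [this]
  exact Finset.card_eq_three.mpr ⟨c, e, x, K.hD.2.2.2.2.2, K.xc.symm, K.xe.symm, rfl⟩

theorem card_Cab_dvdO [Finite X] (K : OddCfg t v a b c e x γ δ)
    (hL1 : ∀ l : X, l ∈ Fix4 X a b c e → l • x = x → l = 1) : Nat.card (Cab t a b) ∣ 6 := by
  classical
  have hcard : Nat.card (FixSub t a b) = 3 := by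
    have e' : (FixSub t a b) ≃ ((Fixf Ω t : Finset Ω) : Set Ω) :=
      Equiv.subtypeEquivRight (fun y => by
        show t • y = y ↔ y ∈ ((Fixf Ω t : Finset Ω) : Set Ω)
        rw [Finset.mem_coe, mem_Fixf])
    rw [Nat.card_congr e', Nat.card_coe_set_eq, Set.ncard_coe_finset, K.card_Fixf_t]
  have hinj : Function.Injective (MulAction.toPermHom (Cab t a b) (FixSub t a b)) := by
    rw [injective_iff_map_eq_one]
    rintro ⟨g, hg, hga, hgb⟩ h1
    have hfix : ∀ y : Ω, t • y = y → g • y = y := by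
      intro y hy
      have := DFunLike.congr_fun h1 (⟨y, hy⟩ : FixSub t a b)
      simp only [MulAction.toPermHom_apply, MulAction.toPerm_apply, Equiv.Perm.coe_one, id_eq] at this
      exact congrArg Subtype.val this
    have : g = 1 := hL1 g (mem_Fix4.mpr ⟨hga, hgb, hfix c K.tc, hfix e K.te⟩) (hfix x K.tx)
    exact Subtype.ext this
  have := Subgroup.card_dvd_of_injective _ hinj
  rwa [Nat.card_perm, hcard] at this

theorem card_sub_five_dvd [Finite X] (H : OH X Ω) (K : OddCfg t v a b c e x γ δ)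
    (hL1 : ∀ l : X, l ∈ Fix4 X a b c e → l • x = x → l = 1) : (Fintype.card Ω - 5) ∣ 6 := by
  have hM := ncard_Mset (t := t) K.hab K.ta K.tb
  rw [K.card_Fixf_t] at hM
  have horb := orbit_Cab_eqO H K.tt K.hab K.ta K.tb K.γM
  have h1 := card_orbit_inf_stab (Cab t a b) γ
  rw [horb] at h1
  have h2 := K.card_Cab_dvdO hL1
  have h3 : (Mset t a b).ncard = Fintype.card Ω - 5 := by omega
  rw [h3] at h1
  exact Dvd.dvd.trans ⟨_, h1.symm⟩ h2

/-- Case A with eleven points is impossible -/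
theorem caseA_eleven_false [Finite X] (H : OH X Ω) (K : OddCfg t v a b c e x γ δ)
    (hν : Fintype.card Ω = 11) {h : X} (hh : h ∈ Fix4 X a b c e) (hx : h • x ≠ x)
    (hL1 : ∀ l : X, l ∈ Fix4 X a b c e → l • x = x → l = 1) : False := by
  classical
  obtain ⟨y₁, y₂, hy, h1, h2, h3⟩ := K.cycle_of_moved H hh hx
  have hm := mem_Fix4.mp hh
  have xγ : x ≠ γ := K.ne_γ_of_fix K.tx
  have xδ : x ≠ δ := K.ne_δ_of_fix K.tx
  have γδ := K.γδne
  have hxyz : ∀ z : Ω, (z = x ∨ z = γ ∨ z = δ) ↔ (z = x ∨ z = y₁ ∨ z = y₂) := by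
    intro z
    rcases hy with ⟨rfl, rfl⟩ | ⟨rfl, rfl⟩ <;> tauto
  have y1M : y₁ ∈ Mset t a b := by
    rcases hy with ⟨rfl, rfl⟩ | ⟨rfl, rfl⟩
    · exact K.γM
    · exact K.δM
  have y2M : y₂ ∈ Mset t a b := by
    rcases hy with ⟨rfl, rfl⟩ | ⟨rfl, rfl⟩
    · exact K.δM
    · exact K.γM
  have y12 : y₁ ≠ y₂ := by
    rcases hy with ⟨rfl, rfl⟩ | ⟨rfl, rfl⟩
    · exact γδ
    · exact γδ.symm
  have y1x : y₁ ≠ x := fun h => y1M.1 (h ▸ K.tx)
  have y2x : y₂ ≠ x := fun h => y2M.1 (h ▸ K.tx)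
  have h3one : h * h * h = 1 :=
    hL1 _ (mul_mem (mul_mem hh hh) hh) (by rw [mul_smul, mul_smul, h1, h2, h3])
  -- fixed point count mod 3
  have hmod : (Fixf Ω h).card ≡ 11 [MOD 3] := by
    haveI : Fact (Nat.Prime 3) := ⟨Nat.prime_three⟩
    have hσ : (MulAction.toPermHom X Ω h) ^ 3 ^ 1 = 1 := by
      rw [pow_one, ← map_pow, pow_succ, pow_two, h3one, map_one]
    have := Equiv.Perm.card_compl_support_modEq (p := 3) (n := 1) hσ
    have he : (MulAction.toPermHom X Ω h).supportᶜ = Fixf Ω h := by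
      ext z
      simp [Fixf, Equiv.Perm.mem_support, MulAction.toPermHom_apply]
    rwa [he, hν] at this
  have hsub1 : ({a, b, c, e} : Finset Ω) ⊆ Fixf Ω h := by
    intro z hz
    simp only [Finset.mem_insert, Finset.mem_singleton] at hz
    rw [mem_Fixf]
    rcases hz with rfl | rfl | rfl | rfl
    · exact hm.1
    · exact hm.2.1
    · exact hm.2.2.1
    · exact hm.2.2.2
  have hsub2 : Fixf Ω h ⊆ Finset.univ \ ({x, y₁, y₂} : Finset Ω) := by
    intro z hz
    rw [mem_Fixf] at hz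
    simp only [Finset.mem_sdiff, Finset.mem_univ, true_and, Finset.mem_insert,
      Finset.mem_singleton, not_or]
    refine ⟨fun hzx => hx (hzx ▸ hz), fun hz1 => ?_, fun hz2 => ?_⟩
    · rw [hz1, h2] at hz; exact y12 hz.symm
    · rw [hz2, h3] at hz; exact y2x hz.symm
  have hc1 : ({a, b, c, e} : Finset Ω).card = 4 := card_four K.hD
  have hc3 : ({x, y₁, y₂} : Finset Ω).card = 3 :=
    Finset.card_eq_three.mpr ⟨x, y₁, y₂, y1x.symm, y2x.symm, y12, rfl⟩
  have hc2 : (Finset.univ \ ({x, y₁, y₂} : Finset Ω)).card = 8 := by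
    rw [Finset.card_univ_diff, hν, hc3]
  have hle1 := Finset.card_le_card hsub1
  have hle2 := Finset.card_le_card hsub2
  rw [hc1] at hle1
  rw [hc2] at hle2
  have hcases : (Fixf Ω h).card = 5 ∨ (Fixf Ω h).card = 8 := by
    unfold Nat.ModEq at hmod
    omega
  -- h fixes t • p whenever it fixes p
  have htfix : ∀ q : Ω, h • q = q → h • (t • q) = t • q := by
    intro q hq
    have hmem' : t * h * t⁻¹ ∈ Fix4 X a b c e :=
      conj_mem_Fix4 K.tb K.ta K.tc K.te (mem_Fix4.mpr ⟨hm.2.1, hm.1, hm.2.2.1, hm.2.2.2⟩)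
    have hti := invol_inv K.tt
    have hq' : (t * h * t⁻¹) • (t • q) = t • q := by
      rw [mul_smul, mul_smul, inv_smul_smul, hq]
    have hb := (hxyz _).mp (K.orbit_x_bound H hmem')
    rcases hb with hb | hb | hb
    · exfalso
      have h1' := hL1 _ hmem' hb
      have : h = 1 := by
        calc h = t⁻¹ * (t * h * t⁻¹) * t := by group
          _ = 1 := by rw [h1']; group
      rw [this, one_smul] at hx
      exact hx rfl
    · have hmem2 : h⁻¹ * (t * h * t⁻¹) ∈ Fix4 X a b c e := mul_mem (inv_mem hh) hmem'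
      have h1' := hL1 _ hmem2 (by rw [mul_smul, hb, inv_smul_of_smul h1])
      have : t * h * t⁻¹ = h := by
        calc t * h * t⁻¹ = h * (h⁻¹ * (t * h * t⁻¹)) := by group
          _ = h := by rw [h1', mul_one]
      rw [this] at hq'
      exact hq'
    · have hmem2 : (h * h)⁻¹ * (t * h * t⁻¹) ∈ Fix4 X a b c e :=
        mul_mem (inv_mem (mul_mem hh hh)) hmem'
      have h22 : (h * h) • x = y₂ := by rw [mul_smul, h1, h2]
      have h1' := hL1 _ hmem2 (by rw [mul_smul, hb, inv_smul_of_smul h22])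
      have : t * h * t⁻¹ = h * h := by
        calc t * h * t⁻¹ = (h * h) * ((h * h)⁻¹ * (t * h * t⁻¹)) := by group
          _ = h * h := by rw [h1', mul_one]
      rw [this] at hq'
      have h4 : h = (h * h) * (h * h) := by
        calc h = (h * h * h) * h := by rw [h3one, one_mul]
          _ = (h * h) * (h * h) := by group
      rw [h4, mul_smul, hq', hq']
  rcases hcases with h5 | h8
  · -- exactly one further fixed point
    have hcd : ((Fixf Ω h) \ ({a, b, c, e} : Finset Ω)).card = 1 := by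
      rw [Finset.card_sdiff_of_subset hsub1, hc1, h5]
    obtain ⟨p, hp⟩ := Finset.card_eq_one.mp hcd
    have hpm : p ∈ (Fixf Ω h) \ ({a, b, c, e} : Finset Ω) := by
      rw [hp]; exact Finset.mem_singleton_self p
    simp only [Finset.mem_sdiff, Finset.mem_insert, Finset.mem_singleton, not_or] at hpm
    obtain ⟨hpf, pa, pb, pc, pe⟩ := hpm
    have hpfix := mem_Fixf.mp hpf
    have hall : ∀ z : Ω, h • z = z → z = a ∨ z = b ∨ z = c ∨ z = e ∨ z = p := by
      intro z hz
      by_cases hzin : z ∈ ({a, b, c, e} : Finset Ω)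
      · simp only [Finset.mem_insert, Finset.mem_singleton] at hzin
        tauto
      · have : z ∈ (Fixf Ω h) \ ({a, b, c, e} : Finset Ω) :=
          Finset.mem_sdiff.mpr ⟨mem_Fixf.mpr hz, hzin⟩
        rw [hp] at this
        right; right; right; right
        exact Finset.mem_singleton.mp this
    have htt := invol_smul_smul (Ω := Ω) K.tt
    have key : ∀ {u w : Ω}, t • u = w → u = t • w := fun {u w} hu => by rw [← hu, htt]
    rcases hall _ (htfix p hpfix) with h' | h' | h' | h' | h'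
    · exact pb (by rw [key h', K.ta])
    · exact pa (by rw [key h', K.tb])
    · exact pc (by rw [key h', K.tc])
    · exact pe (by rw [key h', K.te])
    · rcases K.tfix p h' with h'' | h'' | h''
      · exact pc h''
      · exact pe h''
      · exact hx (h'' ▸ hpfix)
  · -- h is a 3-cycle
    have heq : Fixf Ω h = Finset.univ \ ({x, y₁, y₂} : Finset Ω) :=
      Finset.eq_of_subset_of_card_le hsub2 (by rw [hc2, h8])
    have hfixall : ∀ z : Ω, z ≠ x → z ≠ y₁ → z ≠ y₂ → h • z = z := by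
      intro z z1 z2 z3
      have : z ∈ Finset.univ \ ({x, y₁, y₂} : Finset Ω) := by
        simp only [Finset.mem_sdiff, Finset.mem_univ, true_and, Finset.mem_insert,
          Finset.mem_singleton, not_or]
        exact ⟨z1, z2, z3⟩
      rw [← heq] at this
      exact mem_Fixf.mp this
    -- a point outside the seven
    obtain ⟨p, hp⟩ : ∃ p : Ω, p ∉ ({a, b, c, e, x, y₁, y₂} : Finset Ω) := by
      by_contra hcon
      push Not at hcon
      have h1' : (Finset.univ : Finset Ω) ⊆ ({a, b, c, e, x, y₁, y₂} : Finset Ω) :=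
        fun z _ => hcon z
      have h2' := Finset.card_le_card h1'
      rw [Finset.card_univ, hν] at h2'
      have h3' : ({a, b, c, e, x, y₁, y₂} : Finset Ω).card ≤ 7 :=
        (Finset.card_insert_le _ _).trans (Nat.succ_le_succ Finset.card_le_six)
      omega
    simp only [Finset.mem_insert, Finset.mem_singleton, not_or] at hp
    obtain ⟨pa, pb, pc, pe, px, p1, p2⟩ := hp
    refine three_cycle_false H K.hD (x := x) (y₁ := y₁) (y₂ := y₂) (p := p)
      ⟨y1x.symm, y2x.symm, fun h => px h.symm, y12, fun h => p1 h.symm, fun h => p2 h.symm⟩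
      h1 h2 h3 hfixall ?_
    rintro z (rfl | rfl | rfl | rfl)
    · exact ⟨K.xa.symm, y1M.2.1.symm, y2M.2.1.symm, fun h => pa h.symm⟩
    · exact ⟨K.xb.symm, y1M.2.2.symm, y2M.2.2.symm, fun h => pb h.symm⟩
    · exact ⟨K.xc.symm, fun h => y1M.1 (h ▸ K.tc), fun h => y2M.1 (h ▸ K.tc),
        fun h => pc h.symm⟩
    · exact ⟨K.xe.symm, fun h => y1M.1 (h ▸ K.te), fun h => y2M.1 (h ▸ K.te),
        fun h => pe h.symm⟩

end Count

end OddCfg

section Main

variable [Fintype Ω] [DecidableEq Ω]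

/-- **M. Hall's theorem, odd degree.** -/
theorem odd_hall [Finite X] (H : OH X Ω) (hodd : Odd (Fintype.card Ω))
    (h7 : 7 ≤ Fintype.card Ω) :
    Fintype.card Ω = 7 ∨ (Fintype.card Ω = 11 ∧
      ∀ (g : X) (a b c e : Ω), D4 a b c e → g • a = a → g • b = b → g • c = c → g • e = e →
        g = 1) := by
  obtain ⟨t, v, a, b, c, e, x, γ, δ, K⟩ := odd_setup H hodd h7
  by_cases hfix : ∀ h ∈ Fix4 X a b c e, h • x = x
  · by_cases htriv : ∀ h ∈ Fix4 X a b c e, h = 1
    · have hr : ∀ (g : X) (a' b' c' e' : Ω), D4 a' b' c' e' → g • a' = a' → g • b' = b' →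
          g • c' = c' → g • e' = e' → g = 1 := by
        intro g a' b' c' e' hD' g1 g2 g3 g4
        obtain ⟨k, k1, k2, k3, k4⟩ := trans4 H.t4 hD' K.hD
        have := htriv (k * g * k⁻¹) (mem_Fix4.mpr ⟨conj_smul_fix k1 g1, conj_smul_fix k2 g2,
          conj_smul_fix k3 g3, conj_smul_fix k4 g4⟩)
        calc g = k⁻¹ * (k * g * k⁻¹) * k := by group
          _ = 1 := by rw [this]; group
      rcases rigid_hall (RH_of_OH H hr) h7 with h | h
      · exact Or.inl h
      · exact Or.inr ⟨h, hr⟩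
    · push Not at htriv
      exact (K.caseB_false H hfix htriv).elim
  · push Not at hfix
    obtain ⟨h, hh, hx⟩ := hfix
    have hL1 := K.L_trivial H K.γM (K.L_fix_γ H hh hx)
    have hdvd := K.card_sub_five_dvd H hL1
    have hle : Fintype.card Ω - 5 ≤ 6 := Nat.le_of_dvd (by norm_num) hdvd
    obtain ⟨s, hs⟩ := hodd
    have : s = 3 ∨ s = 4 ∨ s = 5 := by omega
    rcases this with rfl | rfl | rfl
    · left; omega
    · exfalso
      rw [hs] at hdvd
      norm_num at hdvd
    · exfalso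
      exact K.caseA_eleven_false H (by omega) hh hx hL1

end Main

end Cfsg.Agent.Lib.Helper1.Wl
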