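import Mathlib
import Cfsg.Agent.Lib.Helper1.Wl14

set_option autoImplicit false
set_option maxHeartbeats 4000000
set_option maxRecDepth 100000
set_option linter.unusedVariables false
set_option linter.unusedSectionVars false
set_option linter.style.longLine false
set_option linter.unusedSimpArgs false
set_option linter.deprecated false
set_option linter.style.haveILetI false

/-! # M. Hall's theorem, part 5: even degree, the configuration and the orbit counts -/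

namespace Cfsg.Agent.Lib.Helper1.Wl

open MulAction Cfsg.Agent.Lib.Helper7.Sharp4

variable {X Ω : Type*} [Group X] [MulAction X Ω]

theorem fix_two [DecidableEq Ω] {s : Finset Ω} (hs : s.card = 2) {p q : Ω} (hp : p ∈ s)
    (hq : q ∈ s) (hpq : p ≠ q) : ∀ y ∈ s, y = p ∨ y = q := by
  have hsub : ({p, q} : Finset Ω) ⊆ s := by
    intro z hz
    simp only [Finset.mem_insert, Finset.mem_singleton] at hz
    rcases hz with rfl | rfl
    · exact hp
    · exact hq
  have heq := Finset.eq_of_subset_of_card_le hsub (by rw [hs, Finset.card_pair hpq])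
  intro y hy
  rw [← heq] at hy
  simpa using hy

/-- the centralizer of an involution `s = (α β)(p)(q)` in the stabilizer of `α β p q` has orbits
of length `|M|/2` on the moved points -/
theorem half_orbit [Finite X] (H : OH X Ω) {s r : X} (hs : s * s = 1)
    {α β p q : Ω} (hD : D4 α β p q) (sα : s • α = β) (sβ : s • β = α) (sp : s • p = p)
    (sq : s • q = q) (sfix : ∀ y : Ω, s • y = y → y = p ∨ y = q)
    (hr : r * s = s * r) (rα : r • α = α) (rβ : r • β = β) (rp : r • p = q)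
    (Ks : Subgroup X)
    (hK : ∀ g : X, g ∈ Ks ↔ g * s = s * g ∧ g • α = α ∧ g • β = β ∧ g • p = p ∧ g • q = q)
    {γ : Ω} (hγ : γ ∈ Mset s α β) : 2 * (orbit Ks γ).ncard = (Mset s α β).ncard := by
  have hpq : p ≠ q := hD.2.2.2.2.2
  have h1 := card_orbit_inf_stab (Cab s α β) γ
  rw [orbit_Cab_eqO H hs hD.1 sα sβ hγ] at h1
  have h2 := card_orbit_inf_stab (Cab s α β) p
  have horb : orbit (Cab s α β) p = {p, q} := by
    ext y
    constructor
    · rintro ⟨⟨g, hg, -, -⟩, rfl⟩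
      rcases sfix _ (smul_fix_of_comm hg sp) with h | h
      · exact Or.inl h
      · exact Or.inr h
    · rintro (h | h)
      · exact ⟨1, by rw [h]; exact one_smul _ p⟩
      · exact ⟨⟨r, hr, rα, rβ⟩, by rw [h]; exact rp⟩
  rw [horb, Set.ncard_pair hpq] at h2
  -- elements of `Cab` fixing `p` fix `q`
  have hfq : ∀ g : X, g * s = s * g → g • p = p → g • q = q := by
    intro g hg hgp
    rcases sfix _ (smul_fix_of_comm hg sq) with h | h
    · exact absurd (smul_left_cancel g (h.trans hgp.symm)) hpq.symm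
    · exact h
  have h3 : (Cab s α β ⊓ stabilizer X p : Subgroup X) = Ks := by
    ext g
    rw [Subgroup.mem_inf, mem_stabilizer_iff, hK g, mem_Cab]
    constructor
    · rintro ⟨⟨hg, ga, gb⟩, gp⟩
      exact ⟨hg, ga, gb, gp, hfq g hg gp⟩
    · rintro ⟨hg, ga, gb, gp, gq⟩
      exact ⟨⟨hg, ga, gb⟩, gp⟩
  rw [h3] at h2
  have h4 := card_orbit_inf_stab Ks γ
  have h5 : (Ks ⊓ stabilizer X γ : Subgroup X) = (Cab s α β ⊓ stabilizer X γ : Subgroup X) := by
    ext g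
    rw [Subgroup.mem_inf, Subgroup.mem_inf, mem_stabilizer_iff, hK g, mem_Cab]
    constructor
    · rintro ⟨⟨hg, ga, gb, gp, gq⟩, gγ⟩
      exact ⟨⟨hg, ga, gb⟩, gγ⟩
    · rintro ⟨⟨hg, ga, gb⟩, gγ⟩
      have gsγ : g • (s • γ) = s • γ := by
        rw [← mul_smul, hg, mul_smul, gγ]
      have hodd := H.o4 g α β γ (s • γ) (D4_moved hs hD.1 sα sβ hγ) ga gb gγ gsγ
      have gp : g • p = p := by
        rcases sfix _ (smul_fix_of_comm hg sp) with h | h
        · exact h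
        · exfalso
          rcases sfix _ (smul_fix_of_comm hg sq) with h' | h'
          · exact odd_order_no_swap hodd hpq h h'
          · exact hpq (smul_left_cancel g (h.trans h'.symm))
      exact ⟨⟨hg, ga, gb, gp, hfq g hg gp⟩, gγ⟩
  rw [h5] at h4
  have hpos : 0 < Nat.card (Cab s α β ⊓ stabilizer X γ : Subgroup X) := Nat.card_pos
  have : (Mset s α β).ncard * Nat.card (Cab s α β ⊓ stabilizer X γ : Subgroup X) =
      (2 * (orbit Ks γ).ncard) * Nat.card (Cab s α β ⊓ stabilizer X γ : Subgroup X) := by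
    rw [h1, ← h2, ← h4]; ring
  exact (Nat.eq_of_mul_eq_mul_right hpos this).symm

/-- the configuration in the even case -/
structure EvenCfg (t w : X) (a b c e γ δ : Ω) : Prop where
  tt : t * t = 1
  ww : w * w = 1
  wt : w * t = t * w
  hD : D4 a b c e
  γM : γ ∈ Mset t a b
  γδ : t • γ = δ
  ta : t • a = b
  tb : t • b = a
  tc : t • c = c
  te : t • e = e
  wa : w • a = b
  wb : w • b = a
  wc : w • c = e
  we : w • e = c
  wγ : w • γ = γ
  wδ : w • δ = δ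
  tfix : ∀ y : Ω, t • y = y → y = c ∨ y = e
  wfix : ∀ y : Ω, w • y = y → y = γ ∨ y = δ
  ufix : ∀ y : Ω, (t * w) • y = y → y = a ∨ y = b

theorem even_setup [Fintype Ω] [DecidableEq Ω] (H : OH X Ω) (hev : Even (Fintype.card Ω))
    (h7 : 7 ≤ Fintype.card Ω) :
    ∃ (t w : X) (a b c e γ δ : Ω), EvenCfg t w a b c e γ δ := by
  classical
  obtain ⟨e4⟩ : Nonempty (Fin 4 ↪ Ω) :=
    Function.Embedding.nonempty_of_card_le (by rw [Fintype.card_fin]; omega)
  have hD0 : D4 (e4 0) (e4 1) (e4 2) (e4 3) := by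
    refine ⟨?_, ?_, ?_, ?_, ?_, ?_⟩ <;> exact e4.injective.ne (by decide)
  obtain ⟨a, b, c, e, hD⟩ : ∃ a b c e : Ω, D4 a b c e := ⟨_, _, _, _, hD0⟩
  obtain ⟨t, ht, ta, tb, tc, te⟩ := exists_involO H hD
  have hnot : ¬ Odd (Fintype.card Ω) := Nat.not_odd_iff_even.mpr hev
  have hft : (Fixf Ω t).card = 2 := by
    rcases card_FixfO H ht hD ta tb tc te with h | h
    · exact h.1
    · exact absurd h.2 hnot
  have htfix : ∀ y : Ω, t • y = y → y = c ∨ y = e := fun y hy =>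
    fix_two hft (mem_Fixf.mpr tc) (mem_Fixf.mpr te) hD.2.2.2.2.2 y (mem_Fixf.mpr hy)
  have hM := ncard_Mset (t := t) hD.1 ta tb
  rw [hft] at hM
  have hMpos : 0 < (Mset t a b).ncard := by omega
  obtain ⟨γ, hγ⟩ := (Set.ncard_pos (Set.toFinite _)).mp hMpos
  have hDγ := D4_moved ht hD.1 ta tb hγ
  have hss := invol_smul_smul (Ω := Ω) ht
  obtain ⟨w, hw, hwt, wa, wb, wγ, wδ⟩ := dihedral_trick H ht hDγ ta tb rfl (hss γ)
  have hfw : (Fixf Ω w).card = 2 := by
    rcases card_FixfO H hw hDγ wa wb wγ wδ with h | h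
    · exact h.1
    · exact absurd h.2 hnot
  have hwfix : ∀ y : Ω, w • y = y → y = γ ∨ y = t • γ := fun y hy =>
    fix_two hfw (mem_Fixf.mpr wγ) (mem_Fixf.mpr wδ) hDγ.2.2.2.2.2 y (mem_Fixf.mpr hy)
  have hγne : ∀ y : Ω, t • y = y → y ≠ γ := fun y hy h => hγ.1 (h ▸ hy)
  have hδM := smul_mem_Mset ht ta tb hγ
  have hδne : ∀ y : Ω, t • y = y → y ≠ t • γ := fun y hy h => hδM.1 (h ▸ hy)
  have hww := invol_smul_smul (Ω := Ω) hw
  have wc : w • c = e := by
    rcases htfix _ (smul_fix_of_comm hwt tc) with h | h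
    · exfalso
      rcases hwfix c h with h' | h'
      · exact hγne c tc h'
      · exact hδne c tc h'
    · exact h
  have we : w • e = c := by rw [← wc, hww]
  have hu : (t * w) * (t * w) = 1 := by
    calc (t * w) * (t * w) = t * (w * t) * w := by group
      _ = t * (t * w) * w := by rw [hwt]
      _ = (t * t) * (w * w) := by group
      _ = 1 := by rw [ht, hw, one_mul]
  have uc : (t * w) • c = e := by rw [mul_smul, wc, te]
  have ue : (t * w) • e = c := by rw [mul_smul, we, tc]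
  have ua : (t * w) • a = a := by rw [mul_smul, wa, tb]
  have ub : (t * w) • b = b := by rw [mul_smul, wb, ta]
  have hfu : (Fixf Ω (t * w)).card = 2 := by
    rcases card_FixfO H hu (D4_rot hD) uc ue ua ub with h | h
    · exact h.1
    · exact absurd h.2 hnot
  have hufix : ∀ y : Ω, (t * w) • y = y → y = a ∨ y = b := fun y hy =>
    fix_two hfu (mem_Fixf.mpr ua) (mem_Fixf.mpr ub) hD.1 y (mem_Fixf.mpr hy)
  exact ⟨t, w, a, b, c, e, γ, t • γ, ht, hw, hwt, hD, hγ, rfl, ta, tb, tc, te, wa, wb, wc, we,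
    wγ, wδ, htfix, hwfix, hufix⟩

theorem mem_FixS_conj {Q : Subgroup X} {s g : X} :
    g ∈ FixS Q (MulAut.conj s) ↔ g ∈ Q ∧ g * s = s * g := by
  rw [mem_FixS, MulAut.conj_apply]
  constructor
  · rintro ⟨h1, h2⟩
    exact ⟨h1, conj_eq_comm h2⟩
  · rintro ⟨h1, h2⟩
    refine ⟨h1, ?_⟩
    calc s * g * s⁻¹ = g * s * s⁻¹ := by rw [h2]
      _ = g := by group

theorem fourAct_of [Finite X] {Q : Subgroup X} (hodd : Odd (Nat.card Q)) {t w : X}
    (tt : t * t = 1) (ww : w * w = 1) (wt : w * t = t * w)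
    (hQt : ∀ q ∈ Q, t * q * t⁻¹ ∈ Q) (hQw : ∀ q ∈ Q, w * q * w⁻¹ ∈ Q) :
    FourAct Q (MulAut.conj t) (MulAut.conj w) (MulAut.conj (t * w)) where
  odd := hodd
  αα := fun y => by
    rw [MulAut.conj_apply, MulAut.conj_apply]
    calc t * (t * y * t⁻¹) * t⁻¹ = (t * t) * y * (t * t)⁻¹ := by group
      _ = y := by rw [tt]; group
  ββ := fun y => by
    rw [MulAut.conj_apply, MulAut.conj_apply]
    calc w * (w * y * w⁻¹) * w⁻¹ = (w * w) * y * (w * w)⁻¹ := by group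
      _ = y := by rw [ww]; group
  αβ := fun y => by
    rw [MulAut.conj_apply, MulAut.conj_apply, MulAut.conj_apply, MulAut.conj_apply]
    calc t * (w * y * w⁻¹) * t⁻¹ = (t * w) * y * (t * w)⁻¹ := by group
      _ = (w * t) * y * (w * t)⁻¹ := by rw [wt]
      _ = w * (t * y * t⁻¹) * w⁻¹ := by group
  γdef := fun y => by
    rw [MulAut.conj_apply, MulAut.conj_apply, MulAut.conj_apply]
    group
  αQ := fun q hq => by rw [MulAut.conj_apply]; exact hQt q hq
  βQ := fun q hq => by rw [MulAut.conj_apply]; exact hQw q hq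

variable (X) in
/-- the stabilizer of six points -/
def Fix6 (a b c e γ δ : Ω) : Subgroup X := Fix4 X a b c e ⊓ stabilizer X γ ⊓ stabilizer X δ

theorem mem_Fix6 {a b c e γ δ : Ω} {g : X} :
    g ∈ Fix6 X a b c e γ δ ↔ g ∈ Fix4 X a b c e ∧ g • γ = γ ∧ g • δ = δ := by
  simp [Fix6, Subgroup.mem_inf, mem_stabilizer_iff, and_assoc]

namespace EvenCfg

variable {t w : X} {a b c e γ δ : Ω}

theorem tδ (K : EvenCfg t w a b c e γ δ) : t • δ = γ := by
  rw [← K.γδ, invol_smul_smul K.tt]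

theorem δM (K : EvenCfg t w a b c e γ δ) : δ ∈ Mset t a b :=
  K.γδ ▸ smul_mem_Mset K.tt K.ta K.tb K.γM

theorem hab (K : EvenCfg t w a b c e γ δ) : a ≠ b := K.hD.1

theorem γδne (K : EvenCfg t w a b c e γ δ) : γ ≠ δ := fun h => K.γM.1 (by rw [K.γδ]; exact h.symm)

theorem uu (K : EvenCfg t w a b c e γ δ) : (t * w) * (t * w) = 1 := by
  calc (t * w) * (t * w) = t * (w * t) * w := by group
    _ = t * (t * w) * w := by rw [K.wt]
    _ = (t * t) * (w * w) := by group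
    _ = 1 := by rw [K.tt, K.ww, one_mul]

theorem ua (K : EvenCfg t w a b c e γ δ) : (t * w) • a = a := by rw [mul_smul, K.wa, K.tb]
theorem ub (K : EvenCfg t w a b c e γ δ) : (t * w) • b = b := by rw [mul_smul, K.wb, K.ta]
theorem uc (K : EvenCfg t w a b c e γ δ) : (t * w) • c = e := by rw [mul_smul, K.wc, K.te]
theorem ue (K : EvenCfg t w a b c e γ δ) : (t * w) • e = c := by rw [mul_smul, K.we, K.tc]
theorem uγ (K : EvenCfg t w a b c e γ δ) : (t * w) • γ = δ := by rw [mul_smul, K.wγ, K.γδ]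
theorem uδ (K : EvenCfg t w a b c e γ δ) : (t * w) • δ = γ := by rw [mul_smul, K.wδ, K.tδ]

theorem ut (K : EvenCfg t w a b c e γ δ) : (t * w) * t = t * (t * w) := by
  rw [mul_assoc, K.wt]

theorem tu (K : EvenCfg t w a b c e γ δ) : t * (t * w) = (t * w) * t := K.ut.symm

theorem γc (K : EvenCfg t w a b c e γ δ) : γ ≠ c := fun h => K.γM.1 (h ▸ K.tc)
theorem γe (K : EvenCfg t w a b c e γ δ) : γ ≠ e := fun h => K.γM.1 (h ▸ K.te)
theorem δc (K : EvenCfg t w a b c e γ δ) : δ ≠ c := fun h => K.δM.1 (h ▸ K.tc)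
theorem δe (K : EvenCfg t w a b c e γ δ) : δ ≠ e := fun h => K.δM.1 (h ▸ K.te)

/-- the moved points of `t` other than `a b` are the points outside `{a, b, c, e}` -/
theorem Mset_t (K : EvenCfg t w a b c e γ δ) :
    Mset t a b = {y | y ≠ a ∧ y ≠ b ∧ y ≠ c ∧ y ≠ e} := by
  ext y
  constructor
  · rintro ⟨h1, h2, h3⟩
    exact ⟨h2, h3, fun h => h1 (h ▸ K.tc), fun h => h1 (h ▸ K.te)⟩
  · rintro ⟨h1, h2, h3, h4⟩
    refine ⟨fun h => ?_, h1, h2⟩
    rcases K.tfix y h with h | h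
    · exact h3 h
    · exact h4 h

theorem Mset_u (K : EvenCfg t w a b c e γ δ) :
    Mset (t * w) c e = {y | y ≠ a ∧ y ≠ b ∧ y ≠ c ∧ y ≠ e} := by
  ext y
  constructor
  · rintro ⟨h1, h2, h3⟩
    exact ⟨fun h => h1 (h ▸ K.ua), fun h => h1 (h ▸ K.ub), h2, h3⟩
  · rintro ⟨h1, h2, h3, h4⟩
    refine ⟨fun h => ?_, h3, h4⟩
    rcases K.ufix y h with h | h
    · exact h1 h
    · exact h2 h

theorem conj_t_mem (K : EvenCfg t w a b c e γ δ) {q : X} (hq : q ∈ Fix4 X a b c e) :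
    t * q * t⁻¹ ∈ Fix4 X a b c e := by
  have hm := mem_Fix4.mp hq
  exact conj_mem_Fix4 K.tb K.ta K.tc K.te (mem_Fix4.mpr ⟨hm.2.1, hm.1, hm.2.2.1, hm.2.2.2⟩)

theorem conj_w_mem (K : EvenCfg t w a b c e γ δ) {q : X} (hq : q ∈ Fix4 X a b c e) :
    w * q * w⁻¹ ∈ Fix4 X a b c e := by
  have hm := mem_Fix4.mp hq
  exact conj_mem_Fix4 K.wb K.wa K.we K.wc (mem_Fix4.mpr ⟨hm.2.1, hm.1, hm.2.2.2, hm.2.2.1⟩)

theorem fourActQ [Finite X] (H : OH X Ω) (K : EvenCfg t w a b c e γ δ) :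
    FourAct (Fix4 X a b c e) (MulAut.conj t) (MulAut.conj w) (MulAut.conj (t * w)) :=
  fourAct_of (odd_card_Fix4O H K.hD) K.tt K.ww K.wt (fun q hq => K.conj_t_mem hq)
    (fun q hq => K.conj_w_mem hq)

theorem fourActJ [Finite X] (H : OH X Ω) (K : EvenCfg t w a b c e γ δ) :
    FourAct (Fix6 X a b c e γ δ) (MulAut.conj t) (MulAut.conj w) (MulAut.conj (t * w)) := by
  have hle : Fix6 X a b c e γ δ ≤ Fix4 X a b c e := fun g hg => (mem_Fix6.mp hg).1
  refine fourAct_of (Odd.of_dvd_nat (odd_card_Fix4O H K.hD) (Subgroup.card_dvd_of_le hle))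
    K.tt K.ww K.wt ?_ ?_
  · intro q hq
    obtain ⟨h1, h2, h3⟩ := mem_Fix6.mp hq
    exact mem_Fix6.mpr ⟨K.conj_t_mem h1, conj_smul_fix K.tδ h3, conj_smul_fix K.γδ h2⟩
  · intro q hq
    obtain ⟨h1, h2, h3⟩ := mem_Fix6.mp hq
    exact mem_Fix6.mpr ⟨K.conj_w_mem h1, conj_smul_fix K.wγ h2, conj_smul_fix K.wδ h3⟩

/-- `C_Q(w) = C_J(w)` -/
theorem FixS_w_eq (H : OH X Ω) (K : EvenCfg t w a b c e γ δ) :
    FixS (Fix4 X a b c e) (MulAut.conj w) = FixS (Fix6 X a b c e γ δ) (MulAut.conj w) := by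
  ext g
  rw [mem_FixS_conj, mem_FixS_conj]
  constructor
  · rintro ⟨hg, hc⟩
    have hm := mem_Fix4.mp hg
    have hodd := H.o4 g a b c e K.hD hm.1 hm.2.1 hm.2.2.1 hm.2.2.2
    refine ⟨mem_Fix6.mpr ⟨hg, ?_⟩, hc⟩
    rcases K.wfix _ (smul_fix_of_comm hc K.wγ) with h1 | h1
    · refine ⟨h1, ?_⟩
      rcases K.wfix _ (smul_fix_of_comm hc K.wδ) with h2 | h2
      · exact absurd (smul_left_cancel g (h2.trans h1.symm)) K.γδne.symm
      · exact h2
    · exfalso
      rcases K.wfix _ (smul_fix_of_comm hc K.wδ) with h2 | h2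
      · exact odd_order_no_swap hodd K.γδne h1 h2
      · exact K.γδne (smul_left_cancel g (h1.trans h2.symm))
  · rintro ⟨hg, hc⟩
    exact ⟨(mem_Fix6.mp hg).1, hc⟩

theorem Kt_inf_stab (K : EvenCfg t w a b c e γ δ) :
    (FixS (Fix4 X a b c e) (MulAut.conj t) ⊓ stabilizer X γ : Subgroup X) =
      FixS (Fix6 X a b c e γ δ) (MulAut.conj t) := by
  ext g
  rw [Subgroup.mem_inf, mem_FixS_conj, mem_FixS_conj, mem_stabilizer_iff, mem_Fix6]
  constructor
  · rintro ⟨⟨hg, hc⟩, hγ⟩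
    refine ⟨⟨hg, hγ, ?_⟩, hc⟩
    rw [← K.γδ, ← mul_smul, hc, mul_smul, hγ]
  · rintro ⟨⟨hg, hγ, hδ⟩, hc⟩
    exact ⟨⟨hg, hc⟩, hγ⟩

theorem Ku_inf_stab (K : EvenCfg t w a b c e γ δ) :
    (FixS (Fix4 X a b c e) (MulAut.conj (t * w)) ⊓ stabilizer X γ : Subgroup X) =
      FixS (Fix6 X a b c e γ δ) (MulAut.conj (t * w)) := by
  ext g
  rw [Subgroup.mem_inf, mem_FixS_conj, mem_FixS_conj, mem_stabilizer_iff, mem_Fix6]
  constructor
  · rintro ⟨⟨hg, hc⟩, hγ⟩
    refine ⟨⟨hg, hγ, ?_⟩, hc⟩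
    rw [← K.uγ, ← mul_smul, hc, mul_smul, hγ]
  · rintro ⟨⟨hg, hγ, hδ⟩, hc⟩
    exact ⟨⟨hg, hc⟩, hγ⟩

theorem hKt (K : EvenCfg t w a b c e γ δ) (g : X) :
    g ∈ FixS (Fix4 X a b c e) (MulAut.conj t) ↔
      g * t = t * g ∧ g • a = a ∧ g • b = b ∧ g • c = c ∧ g • e = e := by
  rw [mem_FixS_conj, mem_Fix4]; tauto

theorem hKu (K : EvenCfg t w a b c e γ δ) (g : X) :
    g ∈ FixS (Fix4 X a b c e) (MulAut.conj (t * w)) ↔
      g * (t * w) = (t * w) * g ∧ g • c = c ∧ g • e = e ∧ g • a = a ∧ g • b = b := by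
  rw [mem_FixS_conj, mem_Fix4]; tauto

/-- orbit length of `C_Q(t)` on a moved point -/
theorem half_t [Finite X] (H : OH X Ω) (K : EvenCfg t w a b c e γ δ) {y : Ω}
    (hy : y ∈ Mset t a b) :
    2 * (orbit (FixS (Fix4 X a b c e) (MulAut.conj t)) y).ncard = (Mset t a b).ncard :=
  half_orbit H K.tt K.hD K.ta K.tb K.tc K.te K.tfix K.ut K.ua K.ub K.uc _ K.hKt hy

theorem half_u [Finite X] (H : OH X Ω) (K : EvenCfg t w a b c e γ δ) :
    2 * (orbit (FixS (Fix4 X a b c e) (MulAut.conj (t * w))) γ).ncard = (Mset t a b).ncard := by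
  have hγ : γ ∈ Mset (t * w) c e := ⟨by rw [K.uγ]; exact K.γδne.symm, K.γc, K.γe⟩
  have := half_orbit H K.uu (D4_rot K.hD) K.uc K.ue K.ua K.ub K.ufix K.tu K.tc K.te K.ta _
    K.hKu hγ
  rw [this, K.Mset_u, K.Mset_t]

/-- `|Q| = o² |J|` -/
theorem card_Q [Finite X] (H : OH X Ω) (K : EvenCfg t w a b c e γ δ) :
    Nat.card (Fix4 X a b c e) =
      (orbit (FixS (Fix4 X a b c e) (MulAut.conj t)) γ).ncard *
      (orbit (FixS (Fix4 X a b c e) (MulAut.conj t)) γ).ncard * Nat.card (Fix6 X a b c e γ δ) := by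
  have c1 := card_orbit_inf_stab (FixS (Fix4 X a b c e) (MulAut.conj t)) γ
  rw [K.Kt_inf_stab] at c1
  have c2 := card_orbit_inf_stab (FixS (Fix4 X a b c e) (MulAut.conj (t * w))) γ
  rw [K.Ku_inf_stab] at c2
  have hou : (orbit (FixS (Fix4 X a b c e) (MulAut.conj (t * w))) γ).ncard =
      (orbit (FixS (Fix4 X a b c e) (MulAut.conj t)) γ).ncard := by
    have h1 := K.half_t H K.γM
    have h2 := K.half_u H
    omega
  rw [hou] at c2
  have bq := brauer_wielandt (K.fourActQ H)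
  have bj := brauer_wielandt (K.fourActJ H)
  rw [K.FixS_w_eq H] at bq
  have hN : 0 < Nat.card (FixS (FixS (Fix6 X a b c e γ δ) (MulAut.conj w)) (MulAut.conj t)) ^ 2 :=
    pow_pos Nat.card_pos 2
  rw [← c1, ← c2] at bq
  refine Nat.eq_of_mul_eq_mul_right hN ?_
  rw [bq]
  calc (orbit (FixS (Fix4 X a b c e) (MulAut.conj t)) γ).ncard *
        Nat.card (FixS (Fix6 X a b c e γ δ) (MulAut.conj t)) *
        Nat.card (FixS (Fix6 X a b c e γ δ) (MulAut.conj w)) *
        ((orbit (FixS (Fix4 X a b c e) (MulAut.conj t)) γ).ncard *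
          Nat.card (FixS (Fix6 X a b c e γ δ) (MulAut.conj (t * w))))
      = (orbit (FixS (Fix4 X a b c e) (MulAut.conj t)) γ).ncard *
        (orbit (FixS (Fix4 X a b c e) (MulAut.conj t)) γ).ncard *
        (Nat.card (FixS (Fix6 X a b c e γ δ) (MulAut.conj t)) *
        Nat.card (FixS (Fix6 X a b c e γ δ) (MulAut.conj w)) *
        Nat.card (FixS (Fix6 X a b c e γ δ) (MulAut.conj (t * w)))) := by ring
    _ = _ := by rw [← bj]; ring

end EvenCfg

end Cfsg.Agent.Lib.Helper1.Wl
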