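import Mathlib
import Cfsg.Agent.Lib.Helper1.Wl16

set_option autoImplicit false
set_option maxHeartbeats 4000000
set_option maxRecDepth 100000
set_option linter.unusedVariables false
set_option linter.unusedSectionVars false
set_option linter.style.longLine false
set_option linter.unusedSimpArgs false
set_option linter.deprecated false
set_option linter.style.haveILetI false

/-! # M. Hall's theorem, part 6: even degree, the orbits of the four point stabilizer and the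
tournament argument -/

namespace Cfsg.Agent.Lib.Helper1.Wl

open MulAction Cfsg.Agent.Lib.Helper7.Sharp4

variable {X Ω : Type*} [Group X] [MulAction X Ω]

namespace EvenCfg

variable {t w : X} {a b c e γ δ : Ω}

theorem orbit_Kt_subset (K : EvenCfg t w a b c e γ δ) (y : Ω) :
    orbit (FixS (Fix4 X a b c e) (MulAut.conj t)) y ⊆ orbit (Fix4 X a b c e) y := by
  rintro _ ⟨⟨k, hk⟩, rfl⟩
  exact ⟨⟨k, hk.1⟩, rfl⟩

theorem orbit_Q_subset (K : EvenCfg t w a b c e γ δ) {y : Ω} (hy : y ∈ Mset t a b) :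
    orbit (Fix4 X a b c e) y ⊆ Mset t a b := by
  rw [K.Mset_t] at hy ⊢
  rintro _ ⟨⟨h, hh⟩, rfl⟩
  have hm := mem_Fix4.mp hh
  show h • y ≠ a ∧ h • y ≠ b ∧ h • y ≠ c ∧ h • y ≠ e
  exact ⟨fun h' => hy.1 (smul_left_cancel h (h'.trans hm.1.symm)),
    fun h' => hy.2.1 (smul_left_cancel h (h'.trans hm.2.1.symm)),
    fun h' => hy.2.2.1 (smul_left_cancel h (h'.trans hm.2.2.1.symm)),
    fun h' => hy.2.2.2 (smul_left_cancel h (h'.trans hm.2.2.2.symm))⟩

theorem Kt_orbits_disjoint (H : OH X Ω) (K : EvenCfg t w a b c e γ δ) :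
    Disjoint (orbit (FixS (Fix4 X a b c e) (MulAut.conj t)) γ)
      (orbit (FixS (Fix4 X a b c e) (MulAut.conj t)) δ) := by
  rw [Set.disjoint_left]
  rintro y ⟨⟨k₁, hk₁⟩, rfl⟩ ⟨⟨k₂, hk₂⟩, h2⟩
  have h2' : k₂ • δ = k₁ • γ := h2
  have hg : k₂⁻¹ * k₁ ∈ FixS (Fix4 X a b c e) (MulAut.conj t) := mul_mem (inv_mem hk₂) hk₁
  obtain ⟨hgQ, hc⟩ := mem_FixS_conj.mp hg
  have hm := mem_Fix4.mp hgQ
  have e1 : (k₂⁻¹ * k₁) • γ = δ := by rw [mul_smul, ← h2', inv_smul_smul]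
  have e2 : (k₂⁻¹ * k₁) • δ = γ := by
    calc (k₂⁻¹ * k₁) • δ = (k₂⁻¹ * k₁) • (t • γ) := by rw [K.γδ]
      _ = t • ((k₂⁻¹ * k₁) • γ) := by rw [← mul_smul, hc, mul_smul]
      _ = γ := by rw [e1, K.tδ]
  exact odd_order_no_swap (H.o4 _ a b c e K.hD hm.1 hm.2.1 hm.2.2.1 hm.2.2.2) K.γδne e1 e2

section Count

variable [Fintype Ω] [DecidableEq Ω]

theorem card_Fixf_t (K : EvenCfg t w a b c e γ δ) : (Fixf Ω t).card = 2 := by
  have : Fixf Ω t = {c, e} := by
    ext y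
    rw [mem_Fixf]
    simp only [Finset.mem_insert, Finset.mem_singleton]
    constructor
    · exact K.tfix y
    · rintro (h | h) <;> rw [h]
      · exact K.tc
      · exact K.te
  rw [this, Finset.card_pair K.hD.2.2.2.2.2]

/-- the orbit structure of the four point stabilizer `Q` on the remaining points -/
theorem orbits [Finite X] (H : OH X Ω) (K : EvenCfg t w a b c e γ δ)
    (hν : 8 ≤ Fintype.card Ω) :
    (∀ y : Ω, y ≠ a → y ≠ b → y ≠ c → y ≠ e →
      y ∈ orbit (Fix4 X a b c e) γ ∨ y ∈ orbit (Fix4 X a b c e) δ) ∧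
    (orbit (Fix4 X a b c e ⊓ stabilizer X γ : Subgroup X) δ = orbit (Fix4 X a b c e) δ) ∧
    2 ≤ (orbit (Fix4 X a b c e) γ).ncard := by
  have hm := ncard_Mset (t := t) K.hab K.ta K.tb
  rw [K.card_Fixf_t] at hm
  have ho := K.half_t H K.γM
  have ho' := K.half_t H K.δM
  have hsub1 := K.orbit_Kt_subset γ
  have hsub2 := K.orbit_Kt_subset δ
  have hO1M := K.orbit_Q_subset K.γM
  have hO2M := K.orbit_Q_subset K.δM
  have hle1 := Set.ncard_le_ncard hsub1 (Set.toFinite _)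
  have hle2 := Set.ncard_le_ncard hsub2 (Set.toFinite _)
  have hleM1 := Set.ncard_le_ncard hO1M (Set.toFinite _)
  have c1 := card_orbit_inf_stab (Fix4 X a b c e) γ
  have hoddQ := odd_card_Fix4O H K.hD
  have hodd1 : Odd (orbit (Fix4 X a b c e) γ).ncard := by
    rw [← c1] at hoddQ
    exact (Nat.odd_mul.mp hoddQ).1
  have hdisj : Disjoint (orbit (Fix4 X a b c e) γ) (orbit (Fix4 X a b c e) δ) := by
    by_contra hnd
    obtain ⟨y, hy1, hy2⟩ := Set.not_disjoint_iff.mp hnd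
    have e1 : orbit (Fix4 X a b c e) y = orbit (Fix4 X a b c e) γ := orbit_eq_iff.mpr hy1
    have e2 : orbit (Fix4 X a b c e) y = orbit (Fix4 X a b c e) δ := orbit_eq_iff.mpr hy2
    have e3 : orbit (Fix4 X a b c e) δ = orbit (Fix4 X a b c e) γ := e2.symm.trans e1
    rw [e3] at hsub2
    have hun := Set.ncard_union_eq (K.Kt_orbits_disjoint H) (Set.toFinite _) (Set.toFinite _)
    have hle3 := Set.ncard_le_ncard (Set.union_subset hsub1 hsub2) (Set.toFinite _)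
    have : (orbit (Fix4 X a b c e) γ).ncard = 2 * (orbit (FixS (Fix4 X a b c e) (MulAut.conj t)) γ).ncard := by
      omega
    rw [this] at hodd1
    exact (Nat.not_odd_iff_even.mpr (even_two_mul _)) hodd1
  have hun := Set.ncard_union_eq hdisj (Set.toFinite _) (Set.toFinite _)
  have hleU := Set.ncard_le_ncard (Set.union_subset hO1M hO2M) (Set.toFinite _)
  have hs1 : (orbit (Fix4 X a b c e) γ).ncard =
      (orbit (FixS (Fix4 X a b c e) (MulAut.conj t)) γ).ncard := by omega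
  have hs2 : (orbit (Fix4 X a b c e) δ).ncard =
      (orbit (FixS (Fix4 X a b c e) (MulAut.conj t)) γ).ncard := by omega
  have hUeq : orbit (Fix4 X a b c e) γ ∪ orbit (Fix4 X a b c e) δ = Mset t a b :=
    Set.eq_of_subset_of_ncard_le (Set.union_subset hO1M hO2M) (by omega) (Set.toFinite _)
  refine ⟨?_, ?_, by omega⟩
  · intro y h1 h2 h3 h4
    have : y ∈ Mset t a b := by rw [K.Mset_t]; exact ⟨h1, h2, h3, h4⟩
    rw [← hUeq] at this
    exact this
  · have c2 := card_orbit_inf_stab (Fix4 X a b c e ⊓ stabilizer X γ : Subgroup X) δ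
    have cQ := K.card_Q H
    have hJ : (Fix4 X a b c e ⊓ stabilizer X γ ⊓ stabilizer X δ : Subgroup X) =
        Fix6 X a b c e γ δ := rfl
    rw [hJ] at c2
    have hJpos : 0 < Nat.card (Fix6 X a b c e γ δ) := Nat.card_pos
    have hopos : 0 < (orbit (FixS (Fix4 X a b c e) (MulAut.conj t)) γ).ncard := by omega
    rw [hs1] at c1
    have h5 : Nat.card (Fix4 X a b c e ⊓ stabilizer X γ : Subgroup X) =
        (orbit (FixS (Fix4 X a b c e) (MulAut.conj t)) γ).ncard * Nat.card (Fix6 X a b c e γ δ) := by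
      apply Nat.eq_of_mul_eq_mul_left hopos
      rw [c1, cQ, mul_assoc]
    have h6 : (orbit (Fix4 X a b c e ⊓ stabilizer X γ : Subgroup X) δ).ncard =
        (orbit (FixS (Fix4 X a b c e) (MulAut.conj t)) γ).ncard := by
      apply Nat.eq_of_mul_eq_mul_right hJpos
      rw [c2, h5]
    have hsub : orbit (Fix4 X a b c e ⊓ stabilizer X γ : Subgroup X) δ ⊆
        orbit (Fix4 X a b c e) δ := by
      rintro _ ⟨⟨k, hk⟩, rfl⟩
      exact ⟨⟨k, hk.1⟩, rfl⟩
    exact Set.eq_of_subset_of_ncard_le hsub (by rw [h6, hs2]) (Set.toFinite _)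

end Count

end EvenCfg

theorem mem_orbit_sub {Q : Subgroup X} {x y : Ω} : y ∈ orbit Q x ↔ ∃ h ∈ Q, h • x = y :=
  ⟨fun ⟨⟨h, hh⟩, e⟩ => ⟨h, hh, e⟩, fun ⟨h, hh, e⟩ => ⟨⟨h, hh⟩, e⟩⟩

/-- no element fixing three points swaps two points (even degree) -/
theorem no_swap3 [Fintype Ω] [DecidableEq Ω] (H : OH X Ω) (hev : Even (Fintype.card Ω)) {g : X}
    {a b c p q : Ω} (hD : D4 a b c p) (ga : g • a = a) (gb : g • b = b) (gc : g • c = c)
    (gp : g • p = q) (gq : g • q = p) (hpq : p ≠ q) : False := by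
  classical
  obtain ⟨r, hr, hzz, hz⟩ := exists_invol_powO H hD (g := g) (by rw [ga, ga]) (by rw [gb, gb])
    (by rw [gc, gc]) (by rw [gp, gq])
  have za : g ^ r • a = a := by rw [hz a (by rw [ga, ga]), ga]
  have zb : g ^ r • b = b := by rw [hz b (by rw [gb, gb]), gb]
  have zc : g ^ r • c = c := by rw [hz c (by rw [gc, gc]), gc]
  have zp : g ^ r • p = q := by rw [hz p (by rw [gp, gq]), gp]
  have zq : g ^ r • q = p := by rw [hz q (by rw [gq, gp]), gq]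
  have qa : q ≠ a := fun h => hD.2.2.1 (smul_left_cancel g (ga.trans (h.symm.trans gp.symm)))
  have qb : q ≠ b := fun h => hD.2.2.2.2.1 (smul_left_cancel g (gb.trans (h.symm.trans gp.symm)))
  have hDp : D4 p q a b := ⟨hpq, hD.2.2.1.symm, hD.2.2.2.2.1.symm, qa, qb, hD.1⟩
  have hnot : ¬ Odd (Fintype.card Ω) := Nat.not_odd_iff_even.mpr hev
  have hf : (Fixf Ω (g ^ r)).card = 2 := by
    rcases card_FixfO H hzz hDp zp zq za zb with h | h
    · exact h.1
    · exact absurd h.2 hnot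
  have hsub : ({a, b, c} : Finset Ω) ⊆ Fixf Ω (g ^ r) := by
    intro z hz'
    simp only [Finset.mem_insert, Finset.mem_singleton] at hz'
    rw [mem_Fixf]
    rcases hz' with rfl | rfl | rfl
    · exact za
    · exact zb
    · exact zc
  have h3 : ({a, b, c} : Finset Ω).card = 3 :=
    Finset.card_eq_three.mpr ⟨a, b, c, hD.1, hD.2.1, hD.2.2.2.1, rfl⟩
  have := Finset.card_le_card hsub
  omega

variable (X) in
/-- the arcs of the tournament: the orbit of `(e, γ)` under the stabilizer of `a b c` -/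
def Arc (a b c e γ p q : Ω) : Prop :=
  ∃ g : X, g • a = a ∧ g • b = b ∧ g • c = c ∧ g • e = p ∧ g • γ = q

theorem Arc.smul {a b c e γ p q : Ω} (h : Arc X a b c e γ p q) {k : X} (ka : k • a = a)
    (kb : k • b = b) (kc : k • c = c) : Arc X a b c e γ (k • p) (k • q) := by
  obtain ⟨g, g1, g2, g3, g4, g5⟩ := h
  exact ⟨k * g, by rw [mul_smul, g1, ka], by rw [mul_smul, g2, kb], by rw [mul_smul, g3, kc],
    by rw [mul_smul, g4], by rw [mul_smul, g5]⟩

theorem arc_e_iff {a b c e γ q : Ω} :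
    Arc X a b c e γ e q ↔ q ∈ orbit (Fix4 X a b c e) γ := by
  rw [mem_orbit_sub]
  constructor
  · rintro ⟨g, g1, g2, g3, g4, g5⟩
    exact ⟨g, mem_Fix4.mpr ⟨g1, g2, g3, g4⟩, g5⟩
  · rintro ⟨g, hg, g5⟩
    have hm := mem_Fix4.mp hg
    exact ⟨g, hm.1, hm.2.1, hm.2.2.1, hm.2.2.2, g5⟩

/-- the tournament argument -/
theorem tournament_false [Finite X] [Fintype Ω] [DecidableEq Ω] (H : OH X Ω)
    (hev : Even (Fintype.card Ω)) {a b c e γ δ : Ω} (hD : D4 a b c e)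
    (γa : γ ≠ a) (γb : γ ≠ b) (γc : γ ≠ c) (γe : γ ≠ e)
    (δa : δ ≠ a) (δb : δ ≠ b) (δc : δ ≠ c) (δe : δ ≠ e)
    (hN1 : ∀ y : Ω, y ≠ a → y ≠ b → y ≠ c → y ≠ e →
      y ∈ orbit (Fix4 X a b c e) γ ∨ y ∈ orbit (Fix4 X a b c e) δ)
    (hTR : orbit (Fix4 X a b c e ⊓ stabilizer X γ : Subgroup X) δ = orbit (Fix4 X a b c e) δ)
    (hN3 : 2 ≤ (orbit (Fix4 X a b c e) γ).ncard) : False := by
  classical
  -- transitivity on O₁ × O₂
  have TR : ∀ y₁ y₂ : Ω, y₁ ∈ orbit (Fix4 X a b c e) γ → y₂ ∈ orbit (Fix4 X a b c e) δ →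
      ∃ h ∈ Fix4 X a b c e, h • γ = y₁ ∧ h • δ = y₂ := by
    intro y₁ y₂ h1 h2
    obtain ⟨h₁, hh₁, e1⟩ := mem_orbit_sub.mp h1
    obtain ⟨h₂, hh₂, e2⟩ := mem_orbit_sub.mp h2
    have h3 : h₁⁻¹ • y₂ ∈ orbit (Fix4 X a b c e) δ :=
      mem_orbit_sub.mpr ⟨h₁⁻¹ * h₂, mul_mem (inv_mem hh₁) hh₂, by rw [mul_smul, e2]⟩
    rw [← hTR] at h3
    obtain ⟨k, hk, e3⟩ := mem_orbit_sub.mp h3
    rw [Subgroup.mem_inf, mem_stabilizer_iff] at hk
    exact ⟨h₁ * k, mul_mem hh₁ hk.1, by rw [mul_smul, hk.2, e1],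
      by rw [mul_smul, e3, smul_inv_smul]⟩
  -- points on arcs avoid a b c
  have arc_ne : ∀ p q : Ω, Arc X a b c e γ p q →
      p ≠ a ∧ p ≠ b ∧ p ≠ c ∧ q ≠ a ∧ q ≠ b ∧ q ≠ c ∧ p ≠ q := by
    rintro p q ⟨g, g1, g2, g3, g4, g5⟩
    refine ⟨?_, ?_, ?_, ?_, ?_, ?_, ?_⟩
    · intro h; exact hD.2.2.1 (smul_left_cancel g (g1.trans (h.symm.trans g4.symm)))
    · intro h; exact hD.2.2.2.2.1 (smul_left_cancel g (g2.trans (h.symm.trans g4.symm)))
    · intro h; exact hD.2.2.2.2.2 (smul_left_cancel g (g3.trans (h.symm.trans g4.symm)))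
    · intro h; exact γa (smul_left_cancel g (g5.trans (h.trans g1.symm)))
    · intro h; exact γb (smul_left_cancel g (g5.trans (h.trans g2.symm)))
    · intro h; exact γc (smul_left_cancel g (g5.trans (h.trans g3.symm)))
    · intro h; exact γe (smul_left_cancel g (g5.trans (h.symm.trans g4.symm)))
  -- F4 : asymmetry
  have F4 : ∀ p q : Ω, Arc X a b c e γ p q → Arc X a b c e γ q p → False := by
    rintro p q ⟨g₁, a1, a2, a3, a4, a5⟩ ⟨g₂, b1, b2, b3, b4, b5⟩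
    refine no_swap3 H hev hD (g := g₂⁻¹ * g₁) (p := e) (q := γ) ?_ ?_ ?_ ?_ ?_ γe.symm
    · rw [mul_smul, a1, inv_smul_of_smul b1]
    · rw [mul_smul, a2, inv_smul_of_smul b2]
    · rw [mul_smul, a3, inv_smul_of_smul b3]
    · rw [mul_smul, a4, inv_smul_of_smul b5]
    · rw [mul_smul, a5, inv_smul_of_smul b4]
  -- F3 : arc δ e
  have F3 : Arc X a b c e γ δ e := by
    have hDδ : D4 a b c δ := ⟨hD.1, hD.2.1, δa.symm, hD.2.2.2.1, δb.symm, δc.symm⟩
    obtain ⟨k, k1, k2, k3, k4⟩ := trans4 H.t4 hDδ hD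
    have q1 : k • e ≠ a := fun h => hD.2.2.1 (smul_left_cancel k (k1.trans h.symm))
    have q2 : k • e ≠ b := fun h => hD.2.2.2.2.1 (smul_left_cancel k (k2.trans h.symm))
    have q3 : k • e ≠ c := fun h => hD.2.2.2.2.2 (smul_left_cancel k (k3.trans h.symm))
    have q4 : k • e ≠ e := fun h => δe (smul_left_cancel k (k4.trans h.symm))
    rcases hN1 _ q1 q2 q3 q4 with h | h
    · obtain ⟨h', hh', e1⟩ := mem_orbit_sub.mp h
      have hm := mem_Fix4.mp hh'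
      exact ⟨k⁻¹ * h', by rw [mul_smul, hm.1, inv_smul_of_smul k1],
        by rw [mul_smul, hm.2.1, inv_smul_of_smul k2],
        by rw [mul_smul, hm.2.2.1, inv_smul_of_smul k3],
        by rw [mul_smul, hm.2.2.2, inv_smul_of_smul k4],
        by rw [mul_smul, e1, inv_smul_smul]⟩
    · exfalso
      obtain ⟨h', hh', e1⟩ := mem_orbit_sub.mp h
      have hm := mem_Fix4.mp hh'
      refine no_swap3 H hev hD (g := h'⁻¹ * k) (p := e) (q := δ) ?_ ?_ ?_ ?_ ?_ δe.symm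
      · rw [mul_smul, k1, inv_smul_of_smul hm.1]
      · rw [mul_smul, k2, inv_smul_of_smul hm.2.1]
      · rw [mul_smul, k3, inv_smul_of_smul hm.2.2.1]
      · rw [mul_smul, inv_smul_of_smul e1]
      · rw [mul_smul, k4, inv_smul_of_smul hm.2.2.2]
  -- F5 : totality
  have F5 : ∀ p q : Ω, p ≠ a → p ≠ b → p ≠ c → q ≠ a → q ≠ b → q ≠ c → p ≠ q →
      Arc X a b c e γ p q ∨ Arc X a b c e γ q p := by
    intro p q p1 p2 p3 q1 q2 q3 hpq
    have hDp : D4 a b c p := ⟨hD.1, hD.2.1, p1.symm, hD.2.2.2.1, p2.symm, p3.symm⟩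
    obtain ⟨k, k1, k2, k3, k4⟩ := trans4 H.t4 hDp hD
    have r1 : k • q ≠ a := fun h => q1 (smul_left_cancel k (h.trans k1.symm))
    have r2 : k • q ≠ b := fun h => q2 (smul_left_cancel k (h.trans k2.symm))
    have r3 : k • q ≠ c := fun h => q3 (smul_left_cancel k (h.trans k3.symm))
    have r4 : k • q ≠ e := fun h => hpq (smul_left_cancel k (k4.trans h.symm))
    rcases hN1 _ r1 r2 r3 r4 with h | h
    · left
      obtain ⟨h', hh', e1⟩ := mem_orbit_sub.mp h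
      have hm := mem_Fix4.mp hh'
      exact ⟨k⁻¹ * h', by rw [mul_smul, hm.1, inv_smul_of_smul k1],
        by rw [mul_smul, hm.2.1, inv_smul_of_smul k2],
        by rw [mul_smul, hm.2.2.1, inv_smul_of_smul k3],
        by rw [mul_smul, hm.2.2.2, inv_smul_of_smul k4],
        by rw [mul_smul, e1, inv_smul_smul]⟩
    · right
      obtain ⟨h', hh', e1⟩ := mem_orbit_sub.mp h
      have hm := mem_Fix4.mp hh'
      obtain ⟨g₀, o1, o2, o3, o4, o5⟩ := F3
      exact ⟨k⁻¹ * h' * g₀, by rw [mul_smul, mul_smul, o1, hm.1, inv_smul_of_smul k1],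
        by rw [mul_smul, mul_smul, o2, hm.2.1, inv_smul_of_smul k2],
        by rw [mul_smul, mul_smul, o3, hm.2.2.1, inv_smul_of_smul k3],
        by rw [mul_smul, mul_smul, o4, e1, inv_smul_smul],
        by rw [mul_smul, mul_smul, o5, hm.2.2.2, inv_smul_of_smul k4]⟩
  -- in-neighbours of e lie in O₂
  have G : ∀ y : Ω, Arc X a b c e γ y e → y ∈ orbit (Fix4 X a b c e) δ := by
    intro y hy
    obtain ⟨y1, y2, y3, -, -, -, y4⟩ := arc_ne y e hy
    rcases hN1 y y1 y2 y3 y4 with h | h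
    · exact (F4 y e hy (arc_e_iff.mpr h)).elim
    · exact h
  -- the reference transitive triple
  obtain ⟨x₁, hx₁, x₂, hx₂, hx12⟩ := (Set.one_lt_ncard (Set.toFinite _)).mp
    (show 1 < (orbit (Fix4 X a b c e) γ).ncard by omega)
  have key : ∀ x₁ x₂ : Ω, x₁ ∈ orbit (Fix4 X a b c e) γ → x₂ ∈ orbit (Fix4 X a b c e) γ →
      Arc X a b c e γ x₁ x₂ → False := by
    intro x₁ x₂ hx₁ hx₂ h12
    have A1 := arc_e_iff.mpr hx₁
    have A2 := arc_e_iff.mpr hx₂
    obtain ⟨-, -, -, n1, n2, n3, -⟩ := arc_ne e x₁ A1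
    have hDx : D4 a b c x₁ := ⟨hD.1, hD.2.1, n1.symm, hD.2.2.2.1, n2.symm, n3.symm⟩
    obtain ⟨k₁, k1, k2, k3, k4⟩ := trans4 H.t4 hDx hD
    have B1 : Arc X a b c e γ (k₁ • e) e := k4 ▸ A1.smul k1 k2 k3
    have B2 : Arc X a b c e γ e (k₁ • x₂) := k4 ▸ h12.smul k1 k2 k3
    have B3 : Arc X a b c e γ (k₁ • e) (k₁ • x₂) := A2.smul k1 k2 k3
    have z₀O := arc_e_iff.mp B2
    have y₀O := G _ B1
    -- F6 : 2-paths are transitive
    have F6 : ∀ y p z : Ω, Arc X a b c e γ y p → Arc X a b c e γ p z → Arc X a b c e γ y z := by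
      intro y p z hyp hpz
      obtain ⟨p1, p2, p3, -, -, -, -⟩ := arc_ne p z hpz
      have hDp : D4 a b c p := ⟨hD.1, hD.2.1, p1.symm, hD.2.2.2.1, p2.symm, p3.symm⟩
      obtain ⟨k, l1, l2, l3, l4⟩ := trans4 H.t4 hDp hD
      have C1 : Arc X a b c e γ (k • y) e := l4 ▸ hyp.smul l1 l2 l3
      have C2 : Arc X a b c e γ e (k • z) := l4 ▸ hpz.smul l1 l2 l3
      have z'O := arc_e_iff.mp C2
      have y'O := G _ C1
      obtain ⟨h₁, hh₁, t1, t2⟩ := TR _ _ z₀O y₀O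
      obtain ⟨h₂, hh₂, t3, t4⟩ := TR _ _ z'O y'O
      have hm1 := mem_Fix4.mp hh₁
      have hm2 := mem_Fix4.mp hh₂
      have hmem : h₂ * h₁⁻¹ ∈ Fix4 X a b c e := mul_mem hh₂ (inv_mem hh₁)
      have hm := mem_Fix4.mp hmem
      have D1 := B3.smul hm.1 hm.2.1 hm.2.2.1
      have e1 : (h₂ * h₁⁻¹) • (k₁ • e) = k • y := by
        rw [mul_smul, inv_smul_of_smul t2, t4]
      have e2 : (h₂ * h₁⁻¹) • (k₁ • x₂) = k • z := by
        rw [mul_smul, inv_smul_of_smul t1, t3]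
      rw [e1, e2] at D1
      have D2 := D1.smul (k := k⁻¹) (inv_smul_of_smul l1) (inv_smul_of_smul l2)
        (inv_smul_of_smul l3)
      rwa [inv_smul_smul, inv_smul_smul] at D2
    -- F7
    have hDγ : D4 a b c γ := ⟨hD.1, hD.2.1, γa.symm, hD.2.2.2.1, γb.symm, γc.symm⟩
    obtain ⟨k₀, m1, m2, m3, m4⟩ := trans4 H.t4 hD hDγ
    have Aeγ : Arc X a b c e γ e γ :=
      arc_e_iff.mpr (mem_orbit_sub.mpr ⟨1, one_mem _, one_smul _ _⟩)
    have himg : (fun q => k₀ • q) '' (orbit (Fix4 X a b c e) γ) ⊆ orbit (Fix4 X a b c e) γ := by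
      rintro _ ⟨q, hq, rfl⟩
      have E1 := (arc_e_iff.mpr hq).smul m1 m2 m3
      rw [m4] at E1
      exact arc_e_iff.mp (F6 _ _ _ Aeγ E1)
    have hinj : Function.Injective (fun q : Ω => k₀ • q) := MulAction.injective k₀
    have hcard := Set.ncard_image_of_injective (orbit (Fix4 X a b c e) γ) hinj
    have heq := Set.eq_of_subset_of_ncard_le himg (by rw [hcard]) (Set.toFinite _)
    have hγO : γ ∈ orbit (Fix4 X a b c e) γ := mem_orbit_sub.mpr ⟨1, one_mem _, one_smul _ _⟩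
    rw [← heq] at hγO
    obtain ⟨q, hq, hq'⟩ := hγO
    have hqe : q = e := smul_left_cancel k₀ (hq'.trans m4.symm)
    rw [hqe] at hq
    obtain ⟨h', hh', e1⟩ := mem_orbit_sub.mp hq
    have hm := mem_Fix4.mp hh'
    exact γe (smul_left_cancel h' (e1.trans hm.2.2.2.symm))
  obtain ⟨-, -, -, n1, n2, n3, -⟩ := arc_ne e x₁ (arc_e_iff.mpr hx₁)
  obtain ⟨-, -, -, n4, n5, n6, -⟩ := arc_ne e x₂ (arc_e_iff.mpr hx₂)
  rcases F5 x₁ x₂ n1 n2 n3 n4 n5 n6 hx12 with h | h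
  · exact key x₁ x₂ hx₁ hx₂ h
  · exact key x₂ x₁ hx₂ hx₁ h

/-- **M. Hall's theorem, even degree.** -/
theorem even_hall_false [Finite X] [Fintype Ω] [DecidableEq Ω] (H : OH X Ω)
    (hev : Even (Fintype.card Ω)) (h7 : 7 ≤ Fintype.card Ω) : False := by
  obtain ⟨t, w, a, b, c, e, γ, δ, K⟩ := even_setup H hev h7
  have h8 : 8 ≤ Fintype.card Ω := by
    obtain ⟨s, hs⟩ := hev
    omega
  obtain ⟨hN1, hTR, hN3⟩ := K.orbits H h8
  exact tournament_false H hev K.hD K.γM.2.1 K.γM.2.2 K.γc K.γe K.δM.2.1 K.δM.2.2 K.δc K.δe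
    hN1 hTR hN3

end Cfsg.Agent.Lib.Helper1.Wl
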