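import Mathlib
import Cfsg.Agent.Lib.Helper1.Wl10
import Cfsg.Agent.Lib.Helper1.Wl15
import Cfsg.Agent.Lib.Helper1.Wl17

set_option autoImplicit false
set_option maxHeartbeats 4000000
set_option maxRecDepth 100000
set_option linter.unusedVariables false
set_option linter.unusedSectionVars false
set_option linter.style.longLine false
set_option linter.unusedSimpArgs false
set_option linter.deprecated false
set_option linter.style.haveILetI false

/-! # M. Hall's theorem, part 7: the statement for permutation groups -/

namespace Cfsg.Agent.Lib.Helper1.Wl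

open MulAction Cfsg.Agent.Lib.Helper7.Sharp4

variable {α : Type*} [Fintype α] [DecidableEq α] (G : Subgroup (Equiv.Perm α))

theorem mem_stab_emb4 {a b c e : α} (hD : D4 a b c e) {g : G} (ga : g • a = a) (gb : g • b = b)
    (gc : g • c = c) (ge : g • e = e) : g ∈ stabilizer G (emb4 a b c e hD) := by
  rw [mem_stabilizer_iff]
  apply Function.Embedding.ext
  intro i
  show g • (emb4 a b c e hD) i = (emb4 a b c e hD) i
  fin_cases i <;> simp [emb4, ga, gb, gc, ge]

theorem OH_of_perm (hG : IsMultiplyPretransitive G α 4) (x : Fin 4 ↪ α)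
    (hodd : Odd (Nat.card (stabilizer G x))) : OH G α where
  t4 := hG
  ff := fun g hg => by
    apply Subtype.ext
    ext y
    exact hg y
  o4 := fun g a b c e hD ga gb gc ge => by
    have hmem := mem_stab_emb4 G hD ga gb gc ge
    obtain ⟨k, hk⟩ := hG.exists_smul_eq x (emb4 a b c e hD)
    have hcard : Nat.card (stabilizer G (emb4 a b c e hD)) = Nat.card (stabilizer G x) := by
      rw [← hk]
      have := stabilizer_smul_eq_stabilizer_map_conj k x
      exact (congrArg (fun S : Subgroup G => Nat.card S) this).trans
        (Subgroup.card_map_of_injective (MulAut.conj k).injective)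
    have h1 : orderOf (⟨g, hmem⟩ : stabilizer G (emb4 a b c e hD)) ∣
        Nat.card (stabilizer G (emb4 a b c e hD)) := orderOf_dvd_natCard _
    rw [hcard] at h1
    have h2 : orderOf (⟨g, hmem⟩ : stabilizer G (emb4 a b c e hD)) = orderOf g :=
      Subgroup.orderOf_mk g hmem
    rw [h2] at h1
    exact Odd.of_dvd_nat hodd h1

theorem card_eq_descFactorial (hG : IsMultiplyPretransitive G α 4) (x : Fin 4 ↪ α) :
    Nat.card G = (Fintype.card α).descFactorial 4 * Nat.card (stabilizer G x) := by
  have h1 : Nat.card (orbit G x × stabilizer G x) = Nat.card G :=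
    Nat.card_congr (MulAction.orbitProdStabilizerEquivGroup G x)
  rw [Nat.card_prod] at h1
  have h2 : orbit G x = Set.univ := by
    ext y
    simp only [Set.mem_univ, iff_true]
    obtain ⟨g, hg⟩ := hG.exists_smul_eq x y
    exact ⟨g, hg⟩
  have h3 : Nat.card (orbit G x) = (Fintype.card α).descFactorial 4 := by
    rw [h2, Nat.card_congr (Equiv.Set.univ _), Nat.card_eq_fintype_card,
      Fintype.card_embedding_eq, Fintype.card_fin]
  rw [← h1, h3]

/-- the complement of the range of `x` as an invariant subset for the stabilizer of `x` -/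
def CoRange (x : Fin 4 ↪ α) : SubMulAction (stabilizer G x) α where
  carrier := (Set.range x)ᶜ
  smul_mem' := by
    rintro ⟨g, hg⟩ y hy
    rw [Set.mem_compl_iff, Set.mem_range] at hy ⊢
    rintro ⟨i, hi⟩
    apply hy
    refine ⟨i, ?_⟩
    have h1 : g • x = x := mem_stabilizer_iff.mp hg
    have h2 : g • x i = x i := congrArg (fun f : Fin 4 ↪ α => f i) h1
    have h3 : g • y = x i := hi.symm
    exact (smul_left_cancel g (h2.trans h3.symm))

theorem card_stab_dvd (x : Fin 4 ↪ α) :
    Nat.card (stabilizer G x) ∣ Nat.factorial (Fintype.card α - 4) := by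
  classical
  have hcard : Nat.card (CoRange G x) = Fintype.card α - 4 := by
    have e' : (CoRange G x) ≃ ((Set.range x)ᶜ : Set α) := Equiv.refl _
    rw [Nat.card_congr e', Nat.card_coe_set_eq, Set.ncard_compl, Nat.card_eq_fintype_card]
    congr 1
    rw [← Set.image_univ, Set.ncard_image_of_injective _ x.injective, Set.ncard_univ,
      Nat.card_eq_fintype_card, Fintype.card_fin]
  have hinj : Function.Injective (MulAction.toPermHom (stabilizer G x) (CoRange G x)) := by
    rw [injective_iff_map_eq_one]
    rintro ⟨g, hg⟩ h1
    have hfix : ∀ y : α, y ∉ Set.range x → g • y = y := by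
      intro y hy
      have := DFunLike.congr_fun h1 (⟨y, hy⟩ : CoRange G x)
      simp only [MulAction.toPermHom_apply, MulAction.toPerm_apply, Equiv.Perm.coe_one, id_eq] at this
      exact congrArg Subtype.val this
    have hg1 : g • x = x := mem_stabilizer_iff.mp hg
    have hall : ∀ y : α, g • y = y := by
      intro y
      by_cases hy : y ∈ Set.range x
      · obtain ⟨i, rfl⟩ := hy
        exact congrArg (fun f : Fin 4 ↪ α => f i) hg1
      · exact hfix y hy
    have : g = 1 := by
      apply Subtype.ext
      ext y
      exact hall y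
    exact Subtype.ext this
  have := Subgroup.card_dvd_of_injective _ hinj
  rwa [Nat.card_perm, hcard] at this

theorem card_perm_alpha : Nat.card (Equiv.Perm α) = Nat.factorial (Fintype.card α) := by
  rw [Nat.card_perm, Nat.card_eq_fintype_card]

/-- a permutation agreeing with an element of `G` on the range of `x` and on everything else
belongs to `G` -/
theorem eq_top_of_small (hG : IsMultiplyPretransitive G α 4) (x : Fin 4 ↪ α)
    (hν : Fintype.card α ≤ 5) : G = ⊤ := by
  classical
  rw [eq_top_iff]
  intro σ _
  -- an element of G agreeing with σ on the range of x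
  obtain ⟨g, hg⟩ := hG.exists_smul_eq x (x.trans σ.toEmbedding)
  have hagree : ∀ i : Fin 4, (g : Equiv.Perm α) (x i) = σ (x i) := by
    intro i
    exact congrArg (fun f : Fin 4 ↪ α => f i) hg
  -- τ = g⁻¹ σ fixes the range of x
  obtain ⟨τ, hτ⟩ : ∃ τ : Equiv.Perm α, τ = (g : Equiv.Perm α)⁻¹ * σ := ⟨_, rfl⟩
  have hτfix : ∀ i : Fin 4, τ (x i) = x i := by
    intro i
    rw [hτ, Equiv.Perm.mul_apply, ← hagree i]
    simp
  have hτ1 : τ = 1 := by
    ext y
    rw [Equiv.Perm.one_apply]
    by_cases hy : y ∈ Set.range x
    · obtain ⟨i, rfl⟩ := hy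
      exact hτfix i
    · -- the complement of the range has at most one element
      have hτy : τ y ∉ Set.range x := by
        rintro ⟨i, hi⟩
        apply hy
        refine ⟨i, ?_⟩
        have : τ (x i) = τ y := by rw [hτfix i, hi]
        exact τ.injective this
      have hc : ((Set.range x)ᶜ : Set α).ncard ≤ 1 := by
        rw [Set.ncard_compl, Nat.card_eq_fintype_card, ← Set.image_univ,
          Set.ncard_image_of_injective _ x.injective, Set.ncard_univ, Nat.card_eq_fintype_card,
          Fintype.card_fin]
        omega
      exact (Set.ncard_le_one (Set.toFinite _)).mp hc _ hτy _ hy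
  have : σ = (g : Equiv.Perm α) := by
    have h1 : (g : Equiv.Perm α) * τ = σ := by rw [hτ]; group
    rw [← h1, hτ1, mul_one]
  rw [this]
  exact g.2

/-- **M. Hall's theorem.** -/
theorem hall_main (hG : IsMultiplyPretransitive G α 4) (x : Fin 4 ↪ α)
    (hodd : Odd (Nat.card (stabilizer G x))) :
    ((Fintype.card α = 4 ∨ Fintype.card α = 5) ∧ G = ⊤) ∨
    ((Fintype.card α = 6 ∨ Fintype.card α = 7) ∧ G = alternatingGroup α) ∨
    (Fintype.card α = 11 ∧ Nat.card G = 7920) := by
  classical
  have H := OH_of_perm G hG x hodd
  have h4 : 4 ≤ Fintype.card α := by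
    have := Fintype.card_le_of_embedding x
    rwa [Fintype.card_fin] at this
  have hcard := card_eq_descFactorial G hG x
  have hdvd := card_stab_dvd G x
  have hidx := Subgroup.index_mul_card G
  rw [card_perm_alpha] at hidx
  by_cases h5 : Fintype.card α ≤ 5
  · left
    exact ⟨by omega, eq_top_of_small G hG x h5⟩
  push Not at h5
  right
  by_cases h6 : Fintype.card α = 6
  · left
    refine ⟨Or.inl h6, ?_⟩
    rw [h6] at hdvd hcard hidx
    have hs : Nat.card (stabilizer G x) = 1 := by
      have h2 : Nat.card (stabilizer G x) ∣ 2 := by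
        have : Nat.factorial (6 - 4) = 2 := by decide
        rwa [this] at hdvd
      have h3 : Nat.card (stabilizer G x) ≤ 2 := Nat.le_of_dvd (by norm_num) h2
      have hpos : 0 < Nat.card (stabilizer G x) := Nat.card_pos
      obtain ⟨s, hs⟩ := hodd
      omega
    rw [hs] at hcard
    have h360 : Nat.card G = 360 := by rw [hcard]; decide
    rw [h360] at hidx
    have h720 : Nat.factorial 6 = 720 := by decide
    rw [h720] at hidx
    exact Equiv.Perm.eq_alternatingGroup_of_index_eq_two (by omega)
  by_cases h7 : Fintype.card α = 7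
  · left
    refine ⟨Or.inr h7, ?_⟩
    rw [h7] at hdvd hcard hidx
    have hs : Nat.card (stabilizer G x) = 1 ∨ Nat.card (stabilizer G x) = 3 := by
      have h2 : Nat.card (stabilizer G x) ∣ 6 := by
        have : Nat.factorial (7 - 4) = 6 := by decide
        rwa [this] at hdvd
      have h3 : Nat.card (stabilizer G x) ≤ 6 := Nat.le_of_dvd (by norm_num) h2
      have hpos : 0 < Nat.card (stabilizer G x) := Nat.card_pos
      obtain ⟨s, hs⟩ := hodd
      have : s = 0 ∨ s = 1 ∨ s = 2 := by omega
      rcases this with rfl | rfl | rfl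
      · left; omega
      · right; omega
      · exfalso
        rw [hs] at h2
        norm_num at h2
    have h5040 : Nat.factorial 7 = 5040 := by decide
    rw [h5040] at hidx
    have h840 : Nat.descFactorial 7 4 = 840 := by decide
    rw [h840] at hcard
    rcases hs with hs | hs
    · exfalso
      rw [hs] at hcard
      rw [hcard] at hidx
      have hi : G.index = 6 := by omega
      exact no_small_index G (by omega) (by omega) (by omega)
    · rw [hs] at hcard
      rw [hcard] at hidx
      exact Equiv.Perm.eq_alternatingGroup_of_index_eq_two (by omega)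
  right
  have h8 : 7 ≤ Fintype.card α := by omega
  rcases Nat.even_or_odd (Fintype.card α) with hev | hod
  · exact (even_hall_false H hev h8).elim
  · rcases odd_hall H hod h8 with h | ⟨h11, hr⟩
    · exact absurd h h7
    · refine ⟨h11, ?_⟩
      have hs : Nat.card (stabilizer G x) = 1 := by
        have hbot : stabilizer G x = ⊥ := by
          rw [Subgroup.eq_bot_iff_forall]
          intro g hg
          have hg1 : g • x = x := mem_stabilizer_iff.mp hg
          have hfix : ∀ i : Fin 4, g • x i = x i := by
            intro i
            exact congrArg (fun f : Fin 4 ↪ α => f i) hg1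
          have hD : D4 (x 0) (x 1) (x 2) (x 3) := by
            refine ⟨?_, ?_, ?_, ?_, ?_, ?_⟩ <;> exact x.injective.ne (by decide)
          exact hr g _ _ _ _ hD (hfix 0) (hfix 1) (hfix 2) (hfix 3)
        rw [hbot, Subgroup.card_bot]
      rw [hcard, hs, h11]
      decide

end Cfsg.Agent.Lib.Helper1.Wl
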