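import Mathlib
import Cfsg.Agent.Lib.Helper1.Wl8
import Cfsg.Agent.S0736

set_option autoImplicit false
set_option maxHeartbeats 4000000
set_option maxRecDepth 100000
set_option linter.unusedVariables false
set_option linter.unusedSectionVars false
set_option linter.style.longLine false
set_option linter.unusedSimpArgs false
set_option linter.deprecated false
set_option linter.style.haveILetI false

/-! # Wielandt / Livingstone–Wagner cluster, part 9: Theorem W and Livingstone–Wagner -/

namespace Cfsg.Agent.Lib.Helper1.Wl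

open MulAction SubMulAction Cfsg.Agent.Lib.Helper7.Sharp4
open scoped Pointwise Nat

variable {α : Type*} [Fintype α] [DecidableEq α] (G : Subgroup (Equiv.Perm α))

/-- **Theorem W**: a `(k-2)`-transitive group which is `(k-1)`- and `k`-homogeneous of degree
`n ≥ 2k` is `(k-1)`-transitive. -/
theorem thmW {k : ℕ} (hk : 3 ≤ k) (hkn : 2 * k ≤ Fintype.card α)
    (ht : IsMultiplyPretransitive G α (k - 2))
    (hh1 : IsPretransitive G (Set.powersetCard α (k - 1)))
    (hh : IsPretransitive G (Set.powersetCard α k)) : IsMultiplyPretransitive G α (k - 1) := by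
  by_contra hnt
  obtain ⟨d, j, W⟩ := exists_WData G hk (by omega) ht hh1 hh hnt
  obtain ⟨Γ₀, hΓ₀⟩ := exists_finset_card (α := α) (j := k - 1) (by omega)
  obtain ⟨Δ₀, hΔ₀⟩ := exists_finset_card (α := α) (j := k) (by omega)
  have hcases : k = 3 ∨ k = 4 ∨ k = 5 ∨ 6 ≤ k := by omega
  rcases hcases with rfl | rfl | rfl | hk6
  · -- k = 3
    have h1 := W.hh1 Γ₀ hΓ₀
    have h2 := W.hh Δ₀ hΔ₀
    have e2 : (3 - 1)! = 2 := by decide
    have e3 : (3)! = 6 := by decide
    rw [e2] at h1
    rw [e3] at h2
    have hj := W.hj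
    have hjle : j ≤ 2 := Nat.le_of_dvd (by norm_num) (Dvd.intro_left _ h1)
    have hj2 : j = 2 := by omega
    subst hj2
    have hm4 : 4 ≤ Fintype.card α - (3 - 2) - 1 := by omega
    have hmle : Fintype.card α - (3 - 2) - 1 ≤ 6 :=
      Nat.le_of_dvd (by norm_num) (Dvd.intro_left _ h2)
    generalize Fintype.card α - (3 - 2) - 1 = m' at h2 hm4 hmle
    interval_cases m' <;> omega
  · -- k = 4
    have hodd := d_odd G (by norm_num) (by omega) ht W.hrig W.hd W.hm W.hj W.hh1
    have h1 := W.hh1 Γ₀ hΓ₀
    have h2 := W.hh Δ₀ hΔ₀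
    have e3 : (4 - 1)! = 6 := by decide
    have e4 : (4)! = 24 := by decide
    rw [e3] at h1
    rw [e4] at h2
    obtain ⟨hj3, hm9, hκ1, hd3⟩ := num4 h1 h2 W.hm W.hj (by omega) hodd
    have hn : Fintype.card α = 11 := by omega
    subst hj3 hd3
    refine kill_k4 G hn W.hrig ?_ ?_
    · intro Δ hΔ
      have := W.hh Δ hΔ
      rw [e4, hm9] at this
      omega
    · have hG := W.hG
      rw [hn] at hG
      have e9 : (11 - (4 - 2))! = 362880 := by decide
      have e11 : (11)! = 39916800 := by decide
      rw [e9, e11] at hG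
      have : Nat.card G = 330 := by omega
      rw [this]
      decide
  · -- k = 5
    have hodd := d_odd G (by norm_num) (by omega) ht W.hrig W.hd W.hm W.hj W.hh1
    have h1 := W.hh1 Γ₀ hΓ₀
    have h2 := W.hh Δ₀ hΔ₀
    have e4 : (5 - 1)! = 24 := by decide
    have e5 : (5)! = 120 := by decide
    rw [e4] at h1
    rw [e5] at h2
    rcases num5 h1 h2 W.hm W.hj (by omega) hodd with ⟨hj3, hm9, hκ, hd3⟩ | ⟨hj3, hm21, hκ, hd7⟩
    · have hn : Fintype.card α = 12 := by omega
      subst hj3 hd3
      refine kill_k5_9 G hn ht W.hrig W.hd ?_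
      intro Δ hΔ
      have := W.hh Δ hΔ
      rw [e5, hm9] at this
      omega
    · have hn : Fintype.card α = 24 := by omega
      subst hj3 hd7
      exact kill_k5_21 G hn ht W.hrig W.hd
  · -- k ≥ 6
    have hodd := d_odd G (by omega) (by omega) ht W.hrig W.hd W.hm W.hj W.hh1
    have := hall_bound G hk6 (by omega) ht W.hrig W.hd hodd (by omega)
    omega

/-- **Livingstone–Wagner**, first form. -/
theorem livingstone_wagner_pred : ∀ {k : ℕ}, 2 ≤ k → 2 * k ≤ Fintype.card α →
    IsPretransitive G (Set.powersetCard α k) → IsMultiplyPretransitive G α (k - 1) := by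
  intro k
  induction k using Nat.strong_induction_on with
  | _ k ih =>
    intro hk hkn hh
    have hh1 : IsPretransitive G (Set.powersetCard α (k - 1)) := by
      refine Cfsg.Agent.S0736.result G hk hh ?_
      intro q _ hqk
      have := Nat.le_of_dvd (by omega) hqk
      omega
    rcases Nat.eq_or_lt_of_le hk with rfl | hk3
    · -- k = 2
      show IsMultiplyPretransitive G α 1
      rw [is_one_pretransitive_iff]
      constructor
      intro a b
      obtain ⟨g, hg⟩ := homog_exists G hh1 (s := {a}) (s' := {b}) (Finset.card_singleton a)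
        (Finset.card_singleton b)
      refine ⟨g, ?_⟩
      rw [Finset.smul_finset_singleton] at hg
      exact Finset.singleton_injective hg
    · have ht := ih (k - 1) (by omega) (by omega) (by omega) hh1
      have e : k - 1 - 1 = k - 2 := by omega
      rw [e] at ht
      exact thmW G (by omega) hkn ht hh1 hh

end Cfsg.Agent.Lib.Helper1.Wl
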