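import Mathlib
import Cfsg.Agent.Lib.Helper5.QuadStd

/-! Hyperbolic bases for quadratic forms with a totally singular subspace of half the dimension
(any characteristic). -/
set_option autoImplicit false
set_option maxHeartbeats 4000000
set_option linter.unusedVariables false
set_option linter.unusedSectionVars false
set_option linter.unusedSimpArgs false
set_option linter.deprecated false
set_option linter.style.longLine false

namespace Cfsg.Agent.Lib.Helper1.XQ

open Module QuadraticMap

universe u v

variable {F : Type u} [Field F] {V : Type v} [AddCommGroup V] [Module F V]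
  [FiniteDimensional F V]

theorem exists_hyp_basis (Q : QuadraticForm F V) (hnd : (polarBilin Q).Nondegenerate)
    (W : Submodule F V) (hW : ∀ w ∈ W, Q w = 0) {d : ℕ} (hdW : finrank F W = d)
    (hdV : finrank F V = 2 * d) :
    ∃ b : Basis (Fin d ⊕ Fin d) F V,
      (∀ i, Q (b (Sum.inl i)) = 0 ∧ Q (b (Sum.inr i)) = 0) ∧
      (∀ i j, polar Q (b (Sum.inl i)) (b (Sum.inr j)) = if i = j then 1 else 0) ∧
      (∀ i j, polar Q (b (Sum.inl i)) (b (Sum.inl j)) = 0 ∧
        polar Q (b (Sum.inr i)) (b (Sum.inr j)) = 0) := by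
  classical
  obtain ⟨B, hBdef⟩ : ∃ B : LinearMap.BilinForm F V, B = polarBilin Q := ⟨_, rfl⟩
  have hBp : ∀ x y, B x y = polar Q x y := by
    intro x y; rw [hBdef]; rfl
  have hB : B.Nondegenerate := by rw [hBdef]; exact hnd
  have hs : ∀ x y, B x y = B y x := by
    intro x y; rw [hBp, hBp, polar_comm]
  have hWW : ∀ x ∈ W, ∀ y ∈ W, B x y = 0 := by
    intro x hx y hy
    rw [hBp, polar, hW _ (W.add_mem hx hy), hW x hx, hW y hy]
    simp
  have hQadd : ∀ x y, Q (x + y) = Q x + Q y + B x y := by
    intro x y; rw [hBp, polar]; ring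
  let e := Module.finBasisOfFinrankEq F W hdW
  have hex : ∀ j : Fin d, ∃ g : V →ₗ[F] F, g.comp W.subtype = e.coord j :=
    fun j => LinearMap.exists_extend (e.coord j)
  choose lam hlam using hex
  let f' : Fin d → V := fun j => (B.toDual hB).symm (lam j)
  have hf' : ∀ j v, B (f' j) v = lam j v := fun j v =>
    LinearMap.BilinForm.apply_toDual_symm_apply (hB := hB) (lam j) v
  have hA : ∀ j i, B (f' j) (e i : V) = if j = i then 1 else 0 := by
    intro j i
    rw [hf']
    have := LinearMap.congr_fun (hlam j) (e i)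
    rw [LinearMap.comp_apply, Submodule.subtype_apply] at this
    rw [this, Basis.coord_apply, Basis.repr_self, Finsupp.single_apply]
    simp only [eq_comm]
  -- the correction coefficients
  let c : Fin d → Fin d → F := fun j k =>
    if k = j then - Q (f' j) else if j < k then - B (f' j) (f' k) else 0
  let s : Fin d → V := fun j => ∑ k, c j k • (e k : V)
  have hsW : ∀ j, s j ∈ W := fun j =>
    Submodule.sum_mem _ (fun k _ => W.smul_mem _ (e k).2)
  have hfs : ∀ i j, B (f' i) (s j) = c j i := by
    intro i j
    simp only [s, map_sum, map_smul, smul_eq_mul, hA]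
    simp
  let f : Fin d → V := fun j => f' j + s j
  have hQf : ∀ j, Q (f j) = 0 := by
    intro j
    show Q (f' j + s j) = 0
    rw [hQadd, hW _ (hsW j), hfs]
    simp only [c, if_true]
    ring
  have hG1 : ∀ i j, B (e i : V) (e j : V) = 0 := fun i j => hWW _ (e i).2 _ (e j).2
  have hG2 : ∀ i j, B (e i : V) (f j) = if i = j then 1 else 0 := by
    intro i j
    show B (e i : V) (f' j + s j) = _
    rw [map_add, hWW _ (e i).2 _ (hsW j), add_zero, hs, hA]
    simp only [eq_comm]
  have hG3 : ∀ i j, B (f i) (f j) = 0 := by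
    intro i j
    by_cases hij : i = j
    · subst hij
      rw [hBp, polar_self, hQf]
      simp
    show B (f' i + s i) (f' j + s j) = 0
    simp only [map_add, LinearMap.add_apply]
    rw [hfs, hs (s i) (f' j), hfs, hWW _ (hsW i) _ (hsW j)]
    simp only [c]
    rcases lt_or_gt_of_ne hij with h | h
    · rw [if_neg hij, if_neg (not_lt.mpr h.le), if_neg (Ne.symm hij), if_pos h]
      ring
    · rw [if_neg hij, if_pos h, if_neg (Ne.symm hij), if_neg (not_lt.mpr h.le), hs (f' j) (f' i)]
      ring
  -- linear independence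
  have hli : LinearIndependent F (Sum.elim (fun i => (e i : V)) f) := by
    rw [Fintype.linearIndependent_iff]
    intro g hg
    rw [Fintype.sum_sum_type] at hg
    simp only [Sum.elim_inl, Sum.elim_inr] at hg
    have hr : ∀ i, g (Sum.inr i) = 0 := by
      intro i
      have := congrArg (B (e i : V)) hg
      simp only [map_add, map_sum, map_smul, smul_eq_mul, hG1, hG2, map_zero] at this
      simpa using this
    have hl : ∀ i, g (Sum.inl i) = 0 := by
      intro i
      have := congrArg (B (f i)) hg
      simp only [map_add, map_sum, map_smul, smul_eq_mul, hG3, map_zero] at this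
      simp only [hs (f i) (e _ : V), hG2] at this
      simpa using this
    intro k
    rcases k with i | i
    · exact hl i
    · exact hr i
  have hcard : Fintype.card (Fin d ⊕ Fin d) = finrank F V := by
    rw [Fintype.card_sum, Fintype.card_fin, hdV]
    omega
  have hspan := hli.span_eq_top_of_card_eq_finrank' hcard
  refine ⟨Basis.mk hli (le_of_eq hspan.symm), ?_, ?_, ?_⟩
  · intro i
    rw [Basis.coe_mk]
    exact ⟨hW _ (e i).2, hQf i⟩
  · intro i j
    rw [Basis.coe_mk, ← hBp]
    exact hG2 i j
  · intro i j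
    rw [Basis.coe_mk, ← hBp, ← hBp]
    exact ⟨hG1 i j, hG3 i j⟩

/-- coordinates in which a plus-type form is the standard one -/
theorem exists_plus_equiv (Q : QuadraticForm F V) (hnd : (polarBilin Q).Nondegenerate)
    (W : Submodule F V) (hW : ∀ w ∈ W, Q w = 0) {d : ℕ} (hdW : finrank F W = d)
    (hdV : finrank F V = 2 * d) :
    ∃ φ : V ≃ₗ[F] (Fin d ⊕ Fin d → F),
      ∀ v, Q v = ∑ i : Fin d, φ v (Sum.inl i) * φ v (Sum.inr i) := by
  obtain ⟨b, h1, h2, h3⟩ := exists_hyp_basis Q hnd W hW hdW hdV
  refine ⟨b.equivFun, fun v => ?_⟩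
  have := Cfsg.Agent.Lib.Helper5.eq_quadFormPlus_of_basis Q b h1 h2 h3 v
  rw [this]
  rfl

end Cfsg.Agent.Lib.Helper1.XQ
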