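import Mathlib
import Cfsg.Agent.Lib.Helper6.ExtraOut2

/-! The Pauli (Schroedinger) representation of the extraspecial group `2^{1+2n}_+` over `ZMod 3`. -/
set_option autoImplicit false
set_option maxHeartbeats 4000000
set_option linter.unusedVariables false
set_option linter.unusedSectionVars false
set_option linter.unusedSimpArgs false
set_option linter.deprecated false
set_option linter.style.longLine false

namespace Cfsg.Agent.Lib.Helper1.XQ

open Matrix Cfsg.Agent.Lib.Helper6.ExtraOut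

variable {n : ℕ}

/-- the sign of a bit, in `ZMod 3` -/
def sg (c : ZMod 2) : ZMod 3 := if c = 0 then 1 else -1

theorem sg_zero : sg 0 = 1 := by decide
theorem sg_one : sg 1 = -1 := by decide
theorem sg_add (c d : ZMod 2) : sg (c + d) = sg c * sg d := by revert c d; decide
theorem sg_mul_self (c : ZMod 2) : sg c * sg c = 1 := by revert c; decide
theorem sg_ne_zero (c : ZMod 2) : sg c ≠ 0 := by revert c; decide
theorem sg_inj {c d : ZMod 2} (h : sg c = sg d) : c = d := by revert c d; decide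

/-- the standard bilinear cocycle of plus type -/
def β₀ (n : ℕ) : LinearMap.BilinForm (ZMod 2) (Fin n ⊕ Fin n → ZMod 2) :=
  LinearMap.mk₂ (ZMod 2) (fun v w => ∑ i : Fin n, v (Sum.inl i) * w (Sum.inr i))
    (by intro v v' w; simp [add_mul, Finset.sum_add_distrib])
    (by intro c v w; simp [Finset.mul_sum, mul_assoc])
    (by intro v w w'; simp [mul_add, Finset.sum_add_distrib])
    (by intro c v w; simp [Finset.mul_sum, mul_left_comm])

/-- first half of the coordinates -/
def va (v : Fin n ⊕ Fin n → ZMod 2) : Fin n → ZMod 2 := fun i => v (Sum.inl i)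
/-- second half of the coordinates -/
def vb (v : Fin n ⊕ Fin n → ZMod 2) : Fin n → ZMod 2 := fun i => v (Sum.inr i)

theorem β₀_eq (v w : Fin n ⊕ Fin n → ZMod 2) : β₀ n v w = va v ⬝ᵥ vb w := rfl

theorem va_add (v w : Fin n ⊕ Fin n → ZMod 2) : va (v + w) = va v + va w := rfl
theorem vb_add (v w : Fin n ⊕ Fin n → ZMod 2) : vb (v + w) = vb v + vb w := rfl
theorem va_zero : va (0 : Fin n ⊕ Fin n → ZMod 2) = 0 := rfl
theorem vb_zero : vb (0 : Fin n ⊕ Fin n → ZMod 2) = 0 := rfl
theorem va_elim (a b : Fin n → ZMod 2) : va (Sum.elim a b) = a := rfl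
theorem vb_elim (a b : Fin n → ZMod 2) : vb (Sum.elim a b) = b := rfl

theorem eq_of_va_vb {v w : Fin n ⊕ Fin n → ZMod 2} (h1 : va v = va w) (h2 : vb v = vb w) :
    v = w := by
  funext k
  rcases k with i | i
  · exact congrFun h1 i
  · exact congrFun h2 i

theorem add_add_self (u a : Fin n → ZMod 2) : u + a + a = u := by
  rw [add_assoc, vadd_self, add_zero]

theorem hnd₀ : ∀ v : Fin n ⊕ Fin n → ZMod 2, (∀ w, β₀ n v w + β₀ n w v = 0) → v = 0 := by
  intro v h
  apply eq_of_va_vb
  · funext i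
    have := h (Sum.elim 0 (Pi.single i 1))
    rw [β₀_eq, β₀_eq, vb_elim, va_elim, zero_dotProduct, add_zero, dotProduct_single,
      mul_one] at this
    exact this
  · funext i
    have := h (Sum.elim (Pi.single i 1) 0)
    rw [β₀_eq, β₀_eq, vb_elim, va_elim, dotProduct_zero, zero_add, single_dotProduct,
      one_mul] at this
    exact this

/-- the Pauli matrix of an element -/
def P (x : QH (β₀ n)) : Matrix (Fin n → ZMod 2) (Fin n → ZMod 2) (ZMod 3) :=
  Matrix.of fun u w => if w = u + va x.v then sg (x.c + vb x.v ⬝ᵥ u) else 0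

theorem P_apply (x : QH (β₀ n)) (u w : Fin n → ZMod 2) :
    P x u w = if w = u + va x.v then sg (x.c + vb x.v ⬝ᵥ u) else 0 := rfl

theorem mul_P_apply (T : Matrix (Fin n → ZMod 2) (Fin n → ZMod 2) (ZMod 3)) (x : QH (β₀ n))
    (u w : Fin n → ZMod 2) :
    (T * P x) u w = T u (w + va x.v) * sg (x.c + vb x.v ⬝ᵥ (w + va x.v)) := by
  rw [Matrix.mul_apply, Finset.sum_eq_single (w + va x.v)]
  · rw [P_apply, if_pos (add_add_self w _).symm]
  · intro v _ hv
    rw [P_apply, if_neg, mul_zero]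
    intro h
    apply hv
    rw [h, add_add_self]
  · intro h
    exact absurd (Finset.mem_univ _) h

theorem P_mul_apply (x : QH (β₀ n)) (T : Matrix (Fin n → ZMod 2) (Fin n → ZMod 2) (ZMod 3))
    (u w : Fin n → ZMod 2) :
    (P x * T) u w = sg (x.c + vb x.v ⬝ᵥ u) * T (u + va x.v) w := by
  rw [Matrix.mul_apply, Finset.sum_eq_single (u + va x.v)]
  · rw [P_apply, if_pos rfl]
  · intro v _ hv
    rw [P_apply, if_neg hv, zero_mul]
  · intro h
    exact absurd (Finset.mem_univ _) h

theorem P_mulVec (x : QH (β₀ n)) (f : (Fin n → ZMod 2) → ZMod 3) (u : Fin n → ZMod 2) :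
    (P x *ᵥ f) u = sg (x.c + vb x.v ⬝ᵥ u) * f (u + va x.v) := by
  rw [Matrix.mulVec, dotProduct, Finset.sum_eq_single (u + va x.v)]
  · rw [P_apply, if_pos rfl]
  · intro v _ hv
    rw [P_apply, if_neg hv, zero_mul]
  · intro h
    exact absurd (Finset.mem_univ _) h

theorem P_mul (x y : QH (β₀ n)) : P x * P y = P (x * y) := by
  ext u w
  rw [P_mul_apply, P_apply, P_apply]
  have hv : (x * y).v = x.v + y.v := rfl
  have hc : (x * y).c = x.c + y.c + β₀ n x.v y.v := rfl
  rw [hv, hc, va_add, vb_add, ← add_assoc]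
  by_cases h : w = u + va x.v + va y.v
  · rw [if_pos h, if_pos h, ← sg_add]
    congr 1
    rw [β₀_eq, dotProduct_add, add_dotProduct, dotProduct_comm (va x.v) (vb y.v)]
    ring
  · rw [if_neg h, if_neg h, mul_zero]

theorem P_one : P (1 : QH (β₀ n)) = 1 := by
  ext u w
  rw [P_apply, Matrix.one_apply]
  have hv : (1 : QH (β₀ n)).v = 0 := rfl
  have hc : (1 : QH (β₀ n)).c = 0 := rfl
  rw [hv, hc, va_zero, vb_zero, add_zero, zero_dotProduct, add_zero, sg_zero]
  by_cases h : u = w
  · rw [if_pos h, if_pos h.symm]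
  · rw [if_neg h, if_neg (fun h' => h h'.symm)]

/-- the Pauli representation -/
def Pm : QH (β₀ n) →* Matrix (Fin n → ZMod 2) (Fin n → ZMod 2) (ZMod 3) where
  toFun := P
  map_one' := P_one
  map_mul' x y := (P_mul x y).symm

theorem P_central (c : ZMod 2) : P (⟨0, c⟩ : QH (β₀ n)) = sg c • 1 := by
  ext u w
  rw [P_apply, Matrix.smul_apply, Matrix.one_apply, va_zero, vb_zero, add_zero, zero_dotProduct,
    add_zero, smul_eq_mul]
  by_cases h : u = w
  · rw [if_pos h, if_pos h.symm, mul_one]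
  · rw [if_neg h, if_neg (fun h' => h h'.symm), mul_zero]

theorem P_injective : Function.Injective (P : QH (β₀ n) → _) := by
  intro x y h
  have h1 : ∀ u w, P x u w = P y u w := fun u w => by rw [h]
  have ha : va x.v = va y.v := by
    have := h1 0 (0 + va x.v)
    rw [P_apply, if_pos rfl, P_apply] at this
    by_cases h2 : 0 + va x.v = 0 + va y.v
    · simpa using h2
    · rw [if_neg h2] at this
      exact absurd this (sg_ne_zero _)
  have h2 : ∀ u, x.c + vb x.v ⬝ᵥ u = y.c + vb y.v ⬝ᵥ u := by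
    intro u
    have := h1 u (u + va x.v)
    rw [P_apply, if_pos rfl, P_apply, if_pos (by rw [ha])] at this
    exact sg_inj this
  have hc : x.c = y.c := by
    have := h2 0
    simpa using this
  have hb : vb x.v = vb y.v := by
    funext i
    have := h2 (Pi.single i 1)
    rw [hc, dotProduct_single, dotProduct_single, mul_one, mul_one] at this
    exact add_left_cancel this
  apply QH.ext
  · exact eq_of_va_vb ha hb
  · exact hc

theorem z3_eq_neg (S : ZMod 3) (h : S = -S) : S = 0 := by revert S; decide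

/-- character sum -/
theorem sum_sg_dot (u : Fin n → ZMod 2) (hu : u ≠ 0) :
    ∑ b : Fin n → ZMod 2, sg (b ⬝ᵥ u) = 0 := by
  obtain ⟨i, hi⟩ : ∃ i, u i ≠ 0 := by
    by_contra hcon
    push_neg at hcon
    exact hu (funext hcon)
  have hi1 : u i = 1 := by
    rcases z2_cases (u i) with h | h
    · exact absurd h hi
    · exact h
  have h1 : ∑ b : Fin n → ZMod 2, sg (b ⬝ᵥ u) =
      ∑ b : Fin n → ZMod 2, sg ((b + Pi.single i 1) ⬝ᵥ u) := by
    rw [← Equiv.sum_comp (Equiv.addRight (Pi.single i (1 : ZMod 2)))]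
    rfl
  have h2 : ∑ b : Fin n → ZMod 2, sg ((b + Pi.single i 1) ⬝ᵥ u) =
      - ∑ b : Fin n → ZMod 2, sg (b ⬝ᵥ u) := by
    rw [← Finset.sum_neg_distrib]
    apply Finset.sum_congr rfl
    intro b _
    rw [add_dotProduct, single_dotProduct, one_mul, hi1, sg_add, sg_one]
    ring
  rw [h2] at h1
  exact z3_eq_neg _ h1

theorem card_idx : (Fintype.card (Fin n → ZMod 2) : ZMod 3) = 2 ^ n := by
  rw [Fintype.card_fun, ZMod.card, Fintype.card_fin]
  push_cast
  rfl

theorem sum_sg_dot' (u : Fin n → ZMod 2) :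
    ∑ b : Fin n → ZMod 2, sg (b ⬝ᵥ u) = if u = 0 then 2 ^ n else 0 := by
  by_cases hu : u = 0
  · rw [if_pos hu, hu]
    simp only [dotProduct_zero, sg_zero, Finset.sum_const, Finset.card_univ, nsmul_eq_mul, mul_one]
    exact card_idx
  · rw [if_neg hu]
    exact sum_sg_dot u hu

theorem trace_P_of_ne (x : QH (β₀ n)) (h : x.v ≠ 0) : Matrix.trace (P x) = 0 := by
  rw [Matrix.trace]
  simp only [Matrix.diag_apply, P_apply]
  by_cases ha : va x.v = 0
  · have hb : vb x.v ≠ 0 := by
      intro hb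
      apply h
      apply eq_of_va_vb
      · rw [ha]; rfl
      · rw [hb]; rfl
    have : ∀ u : Fin n → ZMod 2, (if u = u + va x.v then sg (x.c + vb x.v ⬝ᵥ u) else 0) =
        sg x.c * sg (u ⬝ᵥ vb x.v) := by
      intro u
      rw [if_pos (by rw [ha, add_zero]), sg_add, dotProduct_comm]
    simp only [this]
    rw [← Finset.mul_sum, sum_sg_dot _ hb, mul_zero]
  · apply Finset.sum_eq_zero
    intro u _
    rw [if_neg]
    intro h1
    apply ha
    have this : u + u = u + (u + va x.v) := congrArg (fun t => u + t) h1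
    rw [← add_assoc, vadd_self, zero_add] at this
    exact this.symm

theorem trace_P_central (c : ZMod 2) :
    Matrix.trace (P (⟨0, c⟩ : QH (β₀ n))) = sg c * 2 ^ n := by
  rw [P_central, Matrix.trace_smul, Matrix.trace_one, smul_eq_mul, card_idx]

/-- Schur's lemma for the Pauli representation: the commutant consists of scalars -/
theorem schur (T : Matrix (Fin n → ZMod 2) (Fin n → ZMod 2) (ZMod 3))
    (hT : ∀ x : QH (β₀ n), T * P x = P x * T) : ∃ c : ZMod 3, T = c • 1 := by
  have hE : ∀ (x : QH (β₀ n)) (u w : Fin n → ZMod 2),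
      T u (w + va x.v) * sg (x.c + vb x.v ⬝ᵥ (w + va x.v)) =
        sg (x.c + vb x.v ⬝ᵥ u) * T (u + va x.v) w := by
    intro x u w
    rw [← mul_P_apply, ← P_mul_apply, hT]
  have hoff : ∀ u w : Fin n → ZMod 2, u ≠ w → T u w = 0 := by
    intro u w huw
    obtain ⟨i, hi⟩ : ∃ i, u i ≠ w i := by
      by_contra hcon
      push_neg at hcon
      exact huw (funext hcon)
    have := hE ⟨Sum.elim 0 (Pi.single i 1), 0⟩ u w
    simp only [va_elim, vb_elim, add_zero, zero_add, single_dotProduct, one_mul] at this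
    generalize T u w = t at this
    generalize u i = a at this hi
    generalize w i = b at this hi
    revert a b t
    decide
  have hdiag : ∀ u : Fin n → ZMod 2, T u u = T 0 0 := by
    intro u
    have := hE ⟨Sum.elim u 0, 0⟩ 0 u
    simp only [va_elim, vb_elim, add_zero, zero_add, zero_dotProduct, sg_zero, mul_one,
      one_mul, vadd_self] at this
    exact this.symm
  refine ⟨T 0 0, ?_⟩
  ext u w
  rw [Matrix.smul_apply, Matrix.one_apply, smul_eq_mul]
  by_cases h : u = w
  · rw [if_pos h, mul_one, ← h, hdiag]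
  · rw [if_neg h, mul_zero, hoff u w h]

noncomputable instance : Fintype (QH (β₀ n)) := Fintype.ofEquiv _ (QH.equivProd (β := β₀ n)).symm

/-- the averaged intertwiner -/
noncomputable def tw (α : QH (β₀ n) ≃* QH (β₀ n))
    (E : Matrix (Fin n → ZMod 2) (Fin n → ZMod 2) (ZMod 3)) :
    Matrix (Fin n → ZMod 2) (Fin n → ZMod 2) (ZMod 3) :=
  ∑ x : QH (β₀ n), P (α x) * E * P x⁻¹

theorem tw_mul (α : QH (β₀ n) ≃* QH (β₀ n))
    (E : Matrix (Fin n → ZMod 2) (Fin n → ZMod 2) (ZMod 3)) (y : QH (β₀ n)) :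
    tw α E * P y = P (α y) * tw α E := by
  rw [tw, Finset.sum_mul, Finset.mul_sum]
  rw [← Equiv.sum_comp (Equiv.mulLeft y)
    (fun x => P (α x) * E * P x⁻¹ * P y)]
  apply Finset.sum_congr rfl
  intro x _
  simp only [Equiv.coe_mulLeft]
  have this : (y * x)⁻¹ * y = x⁻¹ := by group
  have e1 : P (y * x)⁻¹ * P y = P x⁻¹ := by rw [P_mul, this]
  calc P (α (y * x)) * E * P (y * x)⁻¹ * P y
      = P (α y) * P (α x) * E * (P (y * x)⁻¹ * P y) := by
        rw [map_mul, ← P_mul]; simp only [Matrix.mul_assoc]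
    _ = P (α y) * (P (α x) * E * P x⁻¹) := by
        rw [e1]; simp only [Matrix.mul_assoc]

/-- matrix units -/
def EU (i j : Fin n → ZMod 2) : Matrix (Fin n → ZMod 2) (Fin n → ZMod 2) (ZMod 3) :=
  Matrix.of fun a b => if a = i ∧ b = j then 1 else 0

theorem mul_EU_mul (A B : Matrix (Fin n → ZMod 2) (Fin n → ZMod 2) (ZMod 3))
    (i j : Fin n → ZMod 2) : (A * EU i j * B) i j = A i i * B j j := by
  rw [Matrix.mul_apply, Finset.sum_eq_single j]
  · rw [Matrix.mul_apply, Finset.sum_eq_single i]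
    · simp [EU]
    · intro k _ hk
      simp [EU, hk]
    · intro h
      exact absurd (Finset.mem_univ _) h
  · intro k _ hk
    rw [Matrix.mul_apply]
    have : ∑ l, A i l * EU i j l k = 0 := by
      apply Finset.sum_eq_zero
      intro l _
      simp [EU, hk]
    rw [this, zero_mul]
  · intro h
    exact absurd (Finset.mem_univ _) h

theorem sum_trace (α : QH (β₀ n) ≃* QH (β₀ n)) :
    ∑ i : Fin n → ZMod 2, ∑ j : Fin n → ZMod 2, tw α (EU i j) i j =
      ∑ x : QH (β₀ n), Matrix.trace (P (α x)) * Matrix.trace (P x⁻¹) := by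
  simp only [tw, Matrix.sum_apply, mul_EU_mul]
  calc ∑ i : Fin n → ZMod 2, ∑ j : Fin n → ZMod 2, ∑ x : QH (β₀ n), P (α x) i i * P x⁻¹ j j
      = ∑ i : Fin n → ZMod 2, ∑ x : QH (β₀ n), ∑ j : Fin n → ZMod 2, P (α x) i i * P x⁻¹ j j := by
        apply Finset.sum_congr rfl
        intro i _
        exact Finset.sum_comm
    _ = ∑ x : QH (β₀ n), ∑ i : Fin n → ZMod 2, ∑ j : Fin n → ZMod 2, P (α x) i i * P x⁻¹ j j :=
        Finset.sum_comm
    _ = ∑ x : QH (β₀ n), Matrix.trace (P (α x)) * Matrix.trace (P x⁻¹) := by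
        apply Finset.sum_congr rfl
        intro x _
        rw [Matrix.trace, Matrix.trace, Finset.sum_mul_sum]
        rfl

theorem sum_trace_ne (α : QH (β₀ n) ≃* QH (β₀ n)) :
    ∑ x : QH (β₀ n), Matrix.trace (P (α x)) * Matrix.trace (P x⁻¹) ≠ 0 := by
  have hzero : ∀ x : QH (β₀ n), x.v ≠ 0 →
      Matrix.trace (P (α x)) * Matrix.trace (P x⁻¹) = 0 := by
    intro x hx
    have : (x⁻¹).v ≠ 0 := hx
    rw [trace_P_of_ne _ this, mul_zero]
  have hcen : ∀ c : ZMod 2, Matrix.trace (P (α ⟨0, c⟩)) * Matrix.trace (P (⟨0, c⟩ : QH (β₀ n))⁻¹)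
      = 2 ^ n * 2 ^ n := by
    intro c
    rw [QH.aut_zc hnd₀ α c]
    have : (⟨0, c⟩ : QH (β₀ n))⁻¹ = ⟨0, c⟩ := by
      apply QH.ext
      · rfl
      · show c + β₀ n 0 0 = c
        simp
    rw [this, trace_P_central]
    have := sg_mul_self c
    linear_combination (2 ^ n * 2 ^ n : ZMod 3) * this
  have h1 : ∑ x : QH (β₀ n), Matrix.trace (P (α x)) * Matrix.trace (P x⁻¹) =
      ∑ p : (Fin n ⊕ Fin n → ZMod 2) × ZMod 2,
        Matrix.trace (P (α ⟨p.1, p.2⟩)) * Matrix.trace (P (⟨p.1, p.2⟩ : QH (β₀ n))⁻¹) := by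
    rw [← Equiv.sum_comp (QH.equivProd (β := β₀ n)).symm]
    rfl
  rw [h1, Fintype.sum_prod_type, Finset.sum_eq_single 0]
  · have hu : (Finset.univ : Finset (ZMod 2)) = {0, 1} := by decide
    rw [hu, Finset.sum_pair (by decide), hcen, hcen, ← mul_pow]
    have h4 : (2 * 2 : ZMod 3) = 1 := by decide
    rw [h4, one_pow]
    decide
  · intro v _ hv
    apply Finset.sum_eq_zero
    intro c _
    exact hzero ⟨v, c⟩ hv
  · intro h
    exact absurd (Finset.mem_univ _) h

theorem exists_tw_ne_zero (α : QH (β₀ n) ≃* QH (β₀ n)) :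
    ∃ E, tw α E ≠ 0 := by
  by_contra hcon
  push_neg at hcon
  apply sum_trace_ne α
  rw [← sum_trace]
  apply Finset.sum_eq_zero
  intro i _
  apply Finset.sum_eq_zero
  intro j _
  rw [hcon]
  rfl

/-- a nonzero intertwiner is invertible -/
theorem isUnit_of_intertwine (α : QH (β₀ n) → QH (β₀ n))
    (T : Matrix (Fin n → ZMod 2) (Fin n → ZMod 2) (ZMod 3))
    (hT : ∀ y, T * P y = P (α y) * T) (h0 : T ≠ 0) : IsUnit T := by
  rw [← Matrix.mulVec_injective_iff_isUnit]
  have key : ∀ f : (Fin n → ZMod 2) → ZMod 3, T *ᵥ f = 0 → f = 0 := by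
    intro f hf
    by_contra hne
    obtain ⟨w₀, hw₀⟩ : ∃ w₀, f w₀ ≠ 0 := by
      by_contra hcon
      push_neg at hcon
      exact hne (funext hcon)
    apply h0
    -- step A
    have hA : ∀ y, T *ᵥ (P y *ᵥ f) = 0 := by
      intro y
      rw [Matrix.mulVec_mulVec, hT, ← Matrix.mulVec_mulVec, hf, Matrix.mulVec_zero]
    -- step B
    have hcol : ∀ u, T u w₀ = 0 := by
      intro u
      have h1 : ∑ b : Fin n → ZMod 2, sg (b ⬝ᵥ w₀) *
          (T *ᵥ (P (⟨Sum.elim 0 b, 0⟩ : QH (β₀ n)) *ᵥ f)) u = 0 := by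
        apply Finset.sum_eq_zero
        intro b _
        rw [hA]
        simp
      have h2 : ∀ b : Fin n → ZMod 2,
          sg (b ⬝ᵥ w₀) * (T *ᵥ (P (⟨Sum.elim 0 b, 0⟩ : QH (β₀ n)) *ᵥ f)) u =
            ∑ w, T u w * (sg (b ⬝ᵥ (w₀ + w)) * f w) := by
        intro b
        have hmv : ∀ g : (Fin n → ZMod 2) → ZMod 3, (T *ᵥ g) u = ∑ w, T u w * g w := fun g => rfl
        rw [hmv, Finset.mul_sum]
        apply Finset.sum_congr rfl
        intro w _
        rw [P_mulVec, va_elim, vb_elim, add_zero, zero_add, dotProduct_add, sg_add]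
        ring
      simp only [h2] at h1
      rw [Finset.sum_comm] at h1
      have h3 : ∀ w : Fin n → ZMod 2,
          ∑ b : Fin n → ZMod 2, T u w * (sg (b ⬝ᵥ (w₀ + w)) * f w) =
            T u w * f w * (if w₀ + w = 0 then 2 ^ n else 0) := by
        intro w
        rw [← sum_sg_dot' (w₀ + w), Finset.mul_sum]
        apply Finset.sum_congr rfl
        intro b _
        ring
      simp only [h3] at h1
      rw [Finset.sum_eq_single w₀] at h1
      · rw [vadd_self, if_pos rfl] at h1
        have h5 : (2 : ZMod 3) ^ n ≠ 0 := pow_ne_zero _ (by decide)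
        rcases mul_eq_zero.mp h1 with h6 | h6
        · rcases mul_eq_zero.mp h6 with h7 | h7
          · exact h7
          · exact absurd h7 hw₀
        · exact absurd h6 h5
      · intro w _ hw
        rw [if_neg, mul_zero]
        intro h4
        apply hw
        have this : w₀ + (w₀ + w) = w₀ + 0 := congrArg (fun t => w₀ + t) h4
        rw [← add_assoc, vadd_self, zero_add, add_zero] at this
        exact this
      · intro h
        exact absurd (Finset.mem_univ _) h
    -- step C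
    ext u w
    have h1 := congrFun (congrFun (hT (⟨Sum.elim (w₀ + w) 0, 0⟩ : QH (β₀ n))) u) w₀
    rw [mul_P_apply, P_mul_apply, va_elim, vb_elim] at h1
    have h2 : w₀ + (w₀ + w) = w := by
      rw [← add_assoc, vadd_self, zero_add]
    rw [h2] at h1
    simp only [zero_dotProduct, add_zero, sg_zero, mul_one] at h1
    rw [h1]
    -- the right-hand side is a multiple of a column-`w₀` entry
    rw [hcol, mul_zero]
    rfl
  intro f g hfg
  have := key (f - g) (by rw [Matrix.mulVec_sub, hfg, sub_self])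
  exact sub_eq_zero.mp this

end Cfsg.Agent.Lib.Helper1.XQ
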