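import Mathlib
import Cfsg.Agent.Lib.Helper1.XQ1

/-! The extension `2^{1+2n}_+ . K` inside `GL_{2^n}(3)` for a group `K` of isometries. -/
set_option autoImplicit false
set_option maxHeartbeats 4000000
set_option linter.unusedVariables false
set_option linter.unusedSectionVars false
set_option linter.unusedSimpArgs false
set_option linter.deprecated false
set_option linter.style.longLine false

namespace Cfsg.Agent.Lib.Helper1.XQ

open Matrix Cfsg.Agent.Lib.Helper6.ExtraOut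

variable {n : ℕ}

/-- the coordinate space -/
abbrev Vn (n : ℕ) := Fin n ⊕ Fin n → ZMod 2
/-- the matrix ring -/
abbrev Mn (n : ℕ) := Matrix (Fin n → ZMod 2) (Fin n → ZMod 2) (ZMod 3)

/-- every linear isometry lifts to an automorphism of the extension group -/
theorem exists_lift (g g' : Vn n →ₗ[ZMod 2] Vn n) (h1 : ∀ v, g (g' v) = v)
    (h2 : ∀ v, g' (g v) = v) (hq : ∀ v, β₀ n (g v) (g v) = β₀ n v v) :
    ∃ α : QH (β₀ n) ≃* QH (β₀ n), ∀ x, (α x).v = g x.v := by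
  obtain ⟨μ, hμ⟩ := exists_mu (β₀ n) ((β₀ n).compl₁₂ g g) (by
    intro v
    rw [LinearMap.compl₁₂_apply, hq])
  have hμ' : ∀ v w, μ (v + w) = μ v + μ w + β₀ n v w + β₀ n (g v) (g w) := by
    intro v w
    rw [hμ, LinearMap.compl₁₂_apply]
  let f : QH (β₀ n) → QH (β₀ n) := fun x => ⟨g x.v, x.c + μ x.v⟩
  have hmul : ∀ x y, f (x * y) = f x * f y := by
    intro x y
    apply QH.ext
    · show g (x.v + y.v) = g x.v + g y.v
      rw [map_add]
    · show x.c + y.c + β₀ n x.v y.v + μ (x.v + y.v) =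
        x.c + μ x.v + (y.c + μ y.v) + β₀ n (g x.v) (g y.v)
      rw [hμ']
      linear_combination add_self_z2 (β₀ n x.v y.v)
  have hinj : Function.Injective f := by
    intro x y h
    have hv : g x.v = g y.v := congrArg QH.v h
    have hv' : x.v = y.v := by
      have := congrArg g' hv
      rw [h2, h2] at this
      exact this
    have hc : x.c + μ x.v = y.c + μ y.v := congrArg QH.c h
    apply QH.ext
    · exact hv'
    · rw [hv'] at hc
      exact add_right_cancel hc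
  have hsurj : Function.Surjective f := by
    intro y
    refine ⟨⟨g' y.v, y.c + μ (g' y.v)⟩, ?_⟩
    apply QH.ext
    · show g (g' y.v) = y.v
      rw [h1]
    · show y.c + μ (g' y.v) + μ (g' y.v) = y.c
      rw [add_assoc, add_self_z2, add_zero]
  exact ⟨MulEquiv.ofBijective (MonoidHom.mk' f hmul) ⟨hinj, hsurj⟩, fun x => rfl⟩

/-- an automorphism acting trivially modulo the centre is inner -/
theorem exists_conj (α : QH (β₀ n) ≃* QH (β₀ n)) (h : ∀ x, (α x).v = x.v) :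
    ∃ y : QH (β₀ n), ∀ x, α x = y * x * y⁻¹ := by
  have hbar : ∀ v, QH.bar α v = v := fun v => h ⟨v, 0⟩
  have hadd : ∀ v w, QH.lc α (v + w) = QH.lc α v + QH.lc α w := by
    intro v w
    have h1 := QH.lc_add hnd₀ α v w
    rw [hbar, hbar] at h1
    linear_combination h1
  obtain ⟨ℓ, hℓ⟩ : ∃ ℓ : Module.Dual (ZMod 2) (Vn n), ∀ v, ℓ v = QH.lc α v :=
    ⟨AddMonoidHom.toZModLinearMap 2 (AddMonoidHom.mk' (QH.lc α) hadd), fun v => rfl⟩
  obtain ⟨w, hw⟩ : ∃ w : Vn n, ∀ v, β₀ n w v + β₀ n v w = QH.lc α v := by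
    refine ⟨((β₀ n + (β₀ n).flip).toDual (QH.nondeg_polar hnd₀)).symm ℓ, fun v => ?_⟩
    have h1 := LinearMap.BilinForm.apply_toDual_symm_apply (B := β₀ n + (β₀ n).flip)
      (hB := QH.nondeg_polar hnd₀) ℓ v
    rw [LinearMap.add_apply, LinearMap.add_apply, LinearMap.BilinForm.flip_apply, hℓ] at h1
    exact h1
  refine ⟨⟨w, 0⟩, fun x => ?_⟩
  rw [QH.conj_eq, QH.aut_eq hnd₀, hbar]
  apply QH.ext
  · rfl
  · show QH.lc α x.v + x.c = x.c + (β₀ n w x.v + β₀ n x.v w)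
    rw [hw, add_comm]

theorem P_inv_mul (y : QH (β₀ n)) : P y⁻¹ * P y = 1 := by
  rw [P_mul, inv_mul_cancel, P_one]

theorem P_mul_inv (y : QH (β₀ n)) : P y * P y⁻¹ = 1 := by
  rw [P_mul, mul_inv_cancel, P_one]

/-- the Pauli representation into the units -/
def Pu : QH (β₀ n) →* (Mn n)ˣ := (Pm (n := n)).toHomUnits

theorem Pu_val (x : QH (β₀ n)) : ((Pu x : (Mn n)ˣ) : Mn n) = P x := rfl

section group

variable {K : Type*} [Group K] (act : K →* Module.End (ZMod 2) (Vn n))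

/-- the normaliser part lying over `K` -/
def RS : Subgroup (Mn n)ˣ where
  carrier := {g | ∃ (k : K) (α : QH (β₀ n) ≃* QH (β₀ n)),
    (∀ x, (α x).v = act k x.v) ∧ ∀ x, (g : Mn n) * P x = P (α x) * (g : Mn n)}
  one_mem' := by
    refine ⟨1, MulEquiv.refl _, fun x => ?_, fun x => ?_⟩
    · rw [map_one]; rfl
    · simp
  mul_mem' := by
    rintro a b ⟨k, α, hα1, hα2⟩ ⟨k', α', hα1', hα2'⟩
    refine ⟨k * k', α'.trans α, fun x => ?_, fun x => ?_⟩
    · show (α (α' x)).v = _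
      rw [hα1, hα1', map_mul]
      rfl
    · show ((a * b : (Mn n)ˣ) : Mn n) * P x = P (α (α' x)) * ((a * b : (Mn n)ˣ) : Mn n)
      rw [Units.val_mul, Matrix.mul_assoc, hα2', ← Matrix.mul_assoc, hα2, Matrix.mul_assoc]
  inv_mem' := by
    rintro a ⟨k, α, hα1, hα2⟩
    refine ⟨k⁻¹, α.symm, fun x => ?_, fun x => ?_⟩
    · have h1 := hα1 (α.symm x)
      rw [MulEquiv.apply_symm_apply] at h1
      rw [h1]
      have h2 : act k⁻¹ (act k (α.symm x).v) = (act (k⁻¹ * k)) (α.symm x).v := by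
        rw [map_mul]; rfl
      rw [h2, inv_mul_cancel, map_one]
      rfl
    · have h1 := hα2 (α.symm x)
      rw [MulEquiv.apply_symm_apply] at h1
      calc ((a⁻¹ : (Mn n)ˣ) : Mn n) * P x
          = ((a⁻¹ : (Mn n)ˣ) : Mn n) * (P x * (a : Mn n)) * ((a⁻¹ : (Mn n)ˣ) : Mn n) := by
            rw [Matrix.mul_assoc, Matrix.mul_assoc, Units.mul_inv, Matrix.mul_one]
        _ = ((a⁻¹ : (Mn n)ˣ) : Mn n) * ((a : Mn n) * P (α.symm x)) * ((a⁻¹ : (Mn n)ˣ) : Mn n) := by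
            rw [h1]
        _ = P (α.symm x) * ((a⁻¹ : (Mn n)ˣ) : Mn n) := by
            rw [← Matrix.mul_assoc, Units.inv_mul, Matrix.one_mul]

theorem mem_RS (g : (Mn n)ˣ) : g ∈ RS act ↔ ∃ (k : K) (α : QH (β₀ n) ≃* QH (β₀ n)),
    (∀ x, (α x).v = act k x.v) ∧ ∀ x, (g : Mn n) * P x = P (α x) * (g : Mn n) := Iff.rfl

variable (hinj : Function.Injective act)
include hinj

theorem RS_unique {g : (Mn n)ˣ} {k k' : K} {α α' : QH (β₀ n) ≃* QH (β₀ n)}
    (h1 : ∀ x, (α x).v = act k x.v) (h2 : ∀ x, (g : Mn n) * P x = P (α x) * (g : Mn n))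
    (h1' : ∀ x, (α' x).v = act k' x.v) (h2' : ∀ x, (g : Mn n) * P x = P (α' x) * (g : Mn n)) :
    k = k' := by
  apply hinj
  apply LinearMap.ext
  intro v
  have h3 : P (α ⟨v, 0⟩) = P (α' ⟨v, 0⟩) := by
    have := (h2 ⟨v, 0⟩).symm.trans (h2' ⟨v, 0⟩)
    exact (Units.mul_left_inj g).mp this
  have h4 := P_injective h3
  rw [← h1 ⟨v, 0⟩, ← h1' ⟨v, 0⟩, h4]

/-- the projection to `K` -/
noncomputable def θf (g : RS act) : K := Classical.choose g.2

omit hinj in
theorem θf_spec (g : RS act) : ∃ α : QH (β₀ n) ≃* QH (β₀ n),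
    (∀ x, (α x).v = act (θf act g) x.v) ∧ ∀ x, ((g : (Mn n)ˣ) : Mn n) * P x = P (α x) * ((g : (Mn n)ˣ) : Mn n) :=
  Classical.choose_spec g.2

theorem θf_eq (g : RS act) (k : K) (α : QH (β₀ n) ≃* QH (β₀ n))
    (h1 : ∀ x, (α x).v = act k x.v)
    (h2 : ∀ x, ((g : (Mn n)ˣ) : Mn n) * P x = P (α x) * ((g : (Mn n)ˣ) : Mn n)) : θf act g = k := by
  obtain ⟨α', h1', h2'⟩ := θf_spec act g
  exact RS_unique act hinj h1' h2' h1 h2

/-- the projection to `K` as a homomorphism -/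
noncomputable def θ : RS act →* K :=
  MonoidHom.mk' (θf act) (by
    intro a b
    obtain ⟨α, h1, h2⟩ := θf_spec act a
    obtain ⟨α', h1', h2'⟩ := θf_spec act b
    apply θf_eq act hinj (a * b) (θf act a * θf act b) (α'.trans α)
    · intro x
      show (α (α' x)).v = _
      rw [h1, h1', map_mul]
      rfl
    · intro x
      show (((a : (Mn n)ˣ) * (b : (Mn n)ˣ) : (Mn n)ˣ) : Mn n) * P x =
        P (α (α' x)) * (((a : (Mn n)ˣ) * (b : (Mn n)ˣ) : (Mn n)ˣ) : Mn n)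
      rw [Units.val_mul, Matrix.mul_assoc, h2', ← Matrix.mul_assoc, h2, Matrix.mul_assoc])

theorem θ_eq (g : RS act) (k : K) (α : QH (β₀ n) ≃* QH (β₀ n))
    (h1 : ∀ x, (α x).v = act k x.v)
    (h2 : ∀ x, ((g : (Mn n)ˣ) : Mn n) * P x = P (α x) * ((g : (Mn n)ˣ) : Mn n)) :
    θ act hinj g = k := θf_eq act hinj g k α h1 h2

omit hinj in
theorem θ_spec' (g : RS act) : ∃ α : QH (β₀ n) ≃* QH (β₀ n),
    (∀ x, (α x).v = act (θf act g) x.v) ∧
      ∀ x, ((g : (Mn n)ˣ) : Mn n) * P x * (((g : (Mn n)ˣ)⁻¹ : (Mn n)ˣ) : Mn n) = P (α x) := by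
  obtain ⟨α, h1, h2⟩ := θf_spec act g
  refine ⟨α, h1, fun x => ?_⟩
  rw [h2, Matrix.mul_assoc, Units.mul_inv, Matrix.mul_one]

omit hinj in
theorem Pu_mem (y : QH (β₀ n)) : Pu y ∈ RS act := by
  refine ⟨1, MulAut.conj y, fun x => ?_, fun x => ?_⟩
  · rw [MulAut.conj_apply, QH.conj_eq, map_one]
    rfl
  · rw [Pu_val, MulAut.conj_apply, P_mul, P_mul, inv_mul_cancel_right]

theorem θ_Pu (y : QH (β₀ n)) : θ act hinj ⟨Pu y, Pu_mem act y⟩ = 1 := by
  apply θ_eq act hinj _ 1 (MulAut.conj y)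
  · intro x
    rw [MulAut.conj_apply, QH.conj_eq, map_one]
    rfl
  · intro x
    show P y * P x = P (MulAut.conj y x) * P y
    rw [MulAut.conj_apply, P_mul, P_mul, inv_mul_cancel_right]

omit hinj in
theorem z3_sign (c : ZMod 3) (hc : c ≠ 0) : ∃ e : ZMod 2, c = sg e := by
  revert c; decide

theorem ker_sub (g : RS act) (hg : θ act hinj g = 1) :
    ∃ x : QH (β₀ n), ((g : (Mn n)ˣ) : Mn n) = P x := by
  obtain ⟨α, h1, h2⟩ := θf_spec act g
  have hk : θf act g = 1 := hg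
  rw [hk, map_one] at h1
  obtain ⟨y, hy⟩ := exists_conj α (fun x => h1 x)
  obtain ⟨T, hTdef⟩ : ∃ T : Mn n, T = P y⁻¹ * ((g : (Mn n)ˣ) : Mn n) := ⟨_, rfl⟩
  have hT : ∀ x, T * P x = P x * T := by
    intro x
    rw [hTdef, Matrix.mul_assoc, h2, hy, ← Matrix.mul_assoc, ← Matrix.mul_assoc, P_mul, P_mul]
    congr 2
    group
  obtain ⟨c, hc⟩ := schur T hT
  have hg' : ((g : (Mn n)ˣ) : Mn n) = c • P y := by
    have : ((g : (Mn n)ˣ) : Mn n) = P y * T := by
      rw [hTdef, ← Matrix.mul_assoc, P_mul_inv, Matrix.one_mul]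
    rw [this, hc, Matrix.mul_smul, Matrix.mul_one]
  have hc0 : c ≠ 0 := by
    intro h0
    rw [h0, zero_smul] at hg'
    have := (g : (Mn n)ˣ).ne_zero
    exact this hg'
  obtain ⟨e, he⟩ := z3_sign c hc0
  refine ⟨⟨0, e⟩ * y, ?_⟩
  rw [← P_mul, P_central, hg', he, Matrix.smul_mul, Matrix.one_mul]

/-- the kernel is the extraspecial group -/
noncomputable def ψ : QH (β₀ n) ≃* (θ act hinj).ker :=
  MulEquiv.ofBijective
    ((MonoidHom.codRestrict (Pu (n := n)) (RS act) (Pu_mem act)).codRestrict (θ act hinj).ker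
      (fun y => (MonoidHom.mem_ker).mpr (θ_Pu act hinj y)))
    ⟨by
      intro x y h
      have h1 := congrArg (fun t : (θ act hinj).ker => (((t : RS act) : (Mn n)ˣ) : Mn n)) h
      exact P_injective h1,
     by
      intro g
      obtain ⟨x, hx⟩ := ker_sub act hinj (g : RS act) ((MonoidHom.mem_ker).mp g.2)
      refine ⟨x, ?_⟩
      apply Subtype.ext
      apply Subtype.ext
      apply Units.ext
      exact hx.symm⟩

theorem ψ_val (x : QH (β₀ n)) :
    ((((ψ act hinj x : (θ act hinj).ker) : RS act) : (Mn n)ˣ) : Mn n) = P x := rfl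

variable (hq : ∀ k v, β₀ n (act k v) (act k v) = β₀ n v v)
include hq

theorem θ_surjective : Function.Surjective (θ act hinj) := by
  intro k
  obtain ⟨α, hα⟩ := exists_lift (act k) (act k⁻¹)
    (fun v => by
      have : act k (act k⁻¹ v) = (act (k * k⁻¹)) v := by rw [map_mul]; rfl
      rw [this, mul_inv_cancel, map_one]; rfl)
    (fun v => by
      have : act k⁻¹ (act k v) = (act (k⁻¹ * k)) v := by rw [map_mul]; rfl
      rw [this, inv_mul_cancel, map_one]; rfl)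
    (hq k)
  obtain ⟨E, hE⟩ := exists_tw_ne_zero α
  obtain ⟨u, hu⟩ := isUnit_of_intertwine α (tw α E) (tw_mul α E) hE
  have hmem : u ∈ RS act := ⟨k, α, hα, fun x => by rw [hu]; exact tw_mul α E x⟩
  refine ⟨⟨u, hmem⟩, ?_⟩
  apply θ_eq act hinj _ k α hα
  intro x
  show (u : Mn n) * P x = P (α x) * (u : Mn n)
  rw [hu]
  exact tw_mul α E x

/-- the abstract existence theorem -/
theorem main_abstract :
    ∃ (R : Type) (_ : Group R) (_ : Finite R) (Q : Subgroup R) (hN : Q.Normal)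
      (e : R ⧸ Q ≃* K) (ψ₀ : QH (β₀ n) ≃* ↥Q),
      ∀ (r : R) (x : QH (β₀ n)), ∃ y : QH (β₀ n),
        (r * (ψ₀ x : R) * r⁻¹ : R) = (ψ₀ y : R) ∧ y.v = act (e (r : R ⧸ Q)) x.v := by
  refine ⟨↥(RS act), inferInstance, inferInstance, (θ act hinj).ker, inferInstance,
    QuotientGroup.quotientKerEquivOfSurjective (θ act hinj) (θ_surjective act hinj hq),
    ψ act hinj, fun r x => ?_⟩
  obtain ⟨α, h1, h2⟩ := θ_spec' act r
  refine ⟨α x, ?_, ?_⟩
  · apply Subtype.ext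
    apply Units.ext
    show ((r : (Mn n)ˣ) : Mn n) * P x * (((r : (Mn n)ˣ)⁻¹ : (Mn n)ˣ) : Mn n) = P (α x)
    exact h2 x
  · rw [h1]
    rfl

end group

end Cfsg.Agent.Lib.Helper1.XQ
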