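import Mathlib
import Cfsg.Agent.Lib.Helper1.XQ0
import Cfsg.Agent.Lib.Helper1.XQ2
import Cfsg.Agent.Lib.Helper2.Heisenberg
import Cfsg.Agent.Lib.Helper7.LY1

/-! Existence of the extension `2^{1+2n}_+ . K` realising a given orthogonal module. -/
set_option autoImplicit false
set_option maxHeartbeats 4000000
set_option linter.unusedVariables false
set_option linter.unusedSectionVars false
set_option linter.unusedSimpArgs false
set_option linter.deprecated false
set_option linter.style.longLine false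

namespace Cfsg.Agent.Lib.Helper1.XQ

open Matrix Cfsg.Agent.Lib.Helper6.ExtraOut

variable {n : ℕ}

theorem qh_v_zero_cases (x : QH (β₀ n)) (h : x.v = 0) : x = 1 ∨ x = ⟨0, 1⟩ := by
  rcases z2_cases x.c with h0 | h1
  · left
    apply QH.ext
    · exact h
    · exact h0
  · right
    apply QH.ext
    · exact h
    · exact h1

theorem qh_extraspecial (hn1 : 1 ≤ n) : Cfsg.IsExtraspecial 2 (QH (β₀ n)) := by
  haveI : Fact (Nat.Prime 2) := ⟨Nat.prime_two⟩
  apply Cfsg.Agent.Lib.Helper7.LY.isExtraspecial_of_elementwise (⟨0, 1⟩ : QH (β₀ n))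
  · intro h
    have := congrArg QH.c h
    simp at this
  · rw [QH.sq_eq]
    apply QH.ext
    · rfl
    · show β₀ n 0 0 = 0
      simp
  · exact IsPGroup.of_card (QH.card_qh (β := β₀ n))
  · intro x hx
    exact qh_v_zero_cases x ((QH.central_iff hnd₀ x).mp hx)
  · intro y
    exact (QH.central_iff hnd₀ (⟨0, 1⟩ : QH (β₀ n))).mpr rfl y
  · intro a b
    apply qh_v_zero_cases
    show a.v + b.v + a.v + b.v = 0
    funext i
    simp only [Pi.add_apply, Pi.zero_apply]
    linear_combination add_self_z2 (a.v i) + add_self_z2 (b.v i)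
  · intro a
    apply qh_v_zero_cases
    rw [QH.sq_eq]
  · refine ⟨⟨Sum.elim (Pi.single ⟨0, hn1⟩ 1) 0, 0⟩, ⟨Sum.elim 0 (Pi.single ⟨0, hn1⟩ 1), 0⟩, ?_⟩
    rw [Ne, QH.comm_iff]
    show ¬ β₀ n (Sum.elim (Pi.single ⟨0, hn1⟩ 1) 0) (Sum.elim 0 (Pi.single ⟨0, hn1⟩ 1)) =
      β₀ n (Sum.elim 0 (Pi.single ⟨0, hn1⟩ 1)) (Sum.elim (Pi.single ⟨0, hn1⟩ 1) 0)
    rw [β₀_eq, β₀_eq, va_elim, vb_elim, va_elim, vb_elim, zero_dotProduct, single_dotProduct,
      one_mul, Pi.single_eq_same]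
    exact one_ne_zero

theorem s3084 {K : Type*} [Group K] {U : Type*} [AddCommGroup U] [Module (ZMod 2) U] [Module.Finite (ZMod 2) U] (n : ℕ) (hn1 : 1 ≤ n) (hn : Module.finrank (ZMod 2) U = 2 * n) (ρ : Representation (ZMod 2) K U) (hρ : Function.Injective ρ) (q : QuadraticForm (ZMod 2) U) (hq : ∀ (k : K) (u : U), q (ρ k u) = q u) (hnd : (QuadraticMap.polarBilin q).Nondegenerate) (hplus : ∃ W : Submodule (ZMod 2) U, Module.finrank (ZMod 2) ↥W = n ∧ ∀ w ∈ W, q w = 0) : ∃ (R : Type) (_ : Group R) (_ : Finite R) (Q : Subgroup R) (hN : Q.Normal) (e : R ⧸ Q ≃* K) (χ : ↥Q →* Multiplicative U), Cfsg.IsExtraspecial 2 ↥Q ∧ Nat.card ↥Q = 2 ^ (2 * n + 1) ∧ Function.Surjective χ ∧ χ.ker = Subgroup.center ↥Q ∧ (∀ (r : R) (a : ↥Q), χ ⟨r * a * r⁻¹, hN.conj_mem (a : R) a.2 r⟩ = Multiplicative.ofAdd (ρ (e (r : R ⧸ Q)) (Multiplicative.toAdd (χ a)))) ∧ ∀ a : ↥Q, a * a = 1 ↔ q (Multiplicative.toAdd (χ a)) = 0 := by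
  obtain ⟨W, hW1, hW2⟩ := hplus
  obtain ⟨φ, hφ⟩ := exists_plus_equiv q hnd W hW2 hW1 hn
  have hφ' : ∀ v, q v = β₀ n (φ v) (φ v) := hφ
  obtain ⟨act, hactdef⟩ : ∃ act : K →* Module.End (ZMod 2) (Vn n),
      act = (φ.conjRingEquiv : Module.End (ZMod 2) U ≃+* Module.End (ZMod 2) (Vn n)).toMonoidHom.comp ρ :=
    ⟨_, rfl⟩
  have hact : ∀ k v, act k v = φ (ρ k (φ.symm v)) := by
    intro k v
    rw [hactdef]
    rfl
  have hinj : Function.Injective act := by
    rw [hactdef]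
    intro a b hab
    apply hρ
    exact (φ.conjRingEquiv : Module.End (ZMod 2) U ≃+* Module.End (ZMod 2) (Vn n)).injective hab
  have hq' : ∀ k v, β₀ n (act k v) (act k v) = β₀ n v v := by
    intro k v
    rw [hact, ← hφ', hq, hφ', LinearEquiv.apply_symm_apply]
  obtain ⟨R, iG, iF, Q, hN, e, ψ₀, hconj⟩ := main_abstract act hinj hq'
  -- the projection to `U`
  let toU : QH (β₀ n) →* Multiplicative U :=
    { toFun := fun x => Multiplicative.ofAdd (φ.symm x.v)
      map_one' := by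
        show Multiplicative.ofAdd (φ.symm 0) = 1
        rw [map_zero]; rfl
      map_mul' := by
        intro x y
        show Multiplicative.ofAdd (φ.symm (x.v + y.v)) = _
        rw [map_add]; rfl }
  have htoU : ∀ x, Multiplicative.toAdd (toU x) = φ.symm x.v := fun x => rfl
  refine ⟨R, iG, iF, Q, hN, e, toU.comp ψ₀.symm.toMonoidHom, ?_, ?_, ?_, ?_, ?_, ?_⟩
  · exact Cfsg.Agent.Lib.Helper2.HeisLib.isExtraspecial_of_mulEquiv ψ₀ (qh_extraspecial hn1)
  · rw [Nat.card_congr ψ₀.symm.toEquiv, QH.card_qh, Fintype.card_sum, Fintype.card_fin]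
    congr 1
    omega
  · intro u
    refine ⟨ψ₀ ⟨φ (Multiplicative.toAdd u), 0⟩, ?_⟩
    show toU (ψ₀.symm (ψ₀ ⟨φ (Multiplicative.toAdd u), 0⟩)) = u
    rw [MulEquiv.symm_apply_apply]
    show Multiplicative.ofAdd (φ.symm (φ (Multiplicative.toAdd u))) = u
    rw [LinearEquiv.symm_apply_apply]
    rfl
  · ext a
    rw [MonoidHom.mem_ker, Subgroup.mem_center_iff]
    have h1 : (toU.comp ψ₀.symm.toMonoidHom) a = 1 ↔ (ψ₀.symm a).v = 0 := by
      show Multiplicative.ofAdd (φ.symm (ψ₀.symm a).v) = 1 ↔ _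
      constructor
      · intro h
        have h2 : φ.symm (ψ₀.symm a).v = 0 := h
        have h3 := congrArg φ h2
        rw [LinearEquiv.apply_symm_apply, map_zero] at h3
        exact h3
      · intro h
        rw [h, map_zero]
        rfl
    rw [h1, ← QH.central_iff hnd₀]
    constructor
    · intro h b
      have := h (ψ₀.symm b)
      have h2 := congrArg ψ₀ this
      rw [map_mul, map_mul, MulEquiv.apply_symm_apply, MulEquiv.apply_symm_apply] at h2
      exact h2.symm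
    · intro h y
      have := h (ψ₀ y)
      have h2 := congrArg ψ₀.symm this
      rw [map_mul, map_mul, MulEquiv.symm_apply_apply] at h2
      exact h2.symm
  · intro r a
    obtain ⟨y, hy1, hy2⟩ := hconj r (ψ₀.symm a)
    rw [MulEquiv.apply_symm_apply] at hy1
    have h1 : (⟨r * a * r⁻¹, hN.conj_mem (a : R) a.2 r⟩ : ↥Q) = ψ₀ y := Subtype.ext hy1
    rw [h1]
    show toU (ψ₀.symm (ψ₀ y)) = Multiplicative.ofAdd (ρ (e (r : R ⧸ Q)) (φ.symm (ψ₀.symm a).v))
    rw [MulEquiv.symm_apply_apply]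
    show Multiplicative.ofAdd (φ.symm y.v) = _
    rw [hy2, hact, LinearEquiv.symm_apply_apply]
  · intro a
    show a * a = 1 ↔ q (φ.symm (ψ₀.symm a).v) = 0
    rw [hφ', LinearEquiv.apply_symm_apply]
    have h1 : a * a = 1 ↔ ψ₀.symm a * ψ₀.symm a = 1 := by
      rw [← map_mul]
      constructor
      · intro h; rw [h, map_one]
      · intro h
        have := congrArg ψ₀ h
        rw [MulEquiv.apply_symm_apply, map_one] at this
        exact this
    rw [h1, QH.sq_eq]
    constructor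
    · intro h
      exact congrArg QH.c h
    · intro h
      apply QH.ext
      · rfl
      · exact h

end Cfsg.Agent.Lib.Helper1.XQ
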