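import Mathlib
import Cfsg.Prelude
import Cfsg.Agent.Lib.Helper6.ExtraOut2

set_option autoImplicit false
set_option maxHeartbeats 4000000
set_option linter.unusedSectionVars false
set_option linter.unusedVariables false
set_option linter.unusedSimpArgs false
set_option linter.deprecated false
set_option linter.style.longLine false
open Cfsg

/-! Non-splitting of `Aut(2^{1+2n})` over `Inn` (Griess), abstract part: in the model group
`QH β`, a Klein four-group of isometries generated by products of three commuting reflections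
does not lift to a subgroup of automorphisms. -/

namespace Cfsg.Agent.Lib.Helper1.XQ

open Matrix Cfsg.Agent.Lib.Helper5.OrthCard Cfsg.Agent.Lib.Helper6.ExtraOut

variable {ι : Type} [Fintype ι] [DecidableEq ι]

section refl

variable (β : LinearMap.BilinForm (ZMod 2) (ι → ZMod 2))

theorem two_z2 : (2 : ZMod 2) = 0 := rfl

/-- the reflection `v ↦ v + B(v,a) a` as a function -/
def R (a v : ι → ZMod 2) : ι → ZMod 2 := v + (β v a + β a v) • a

/-- the reflection as a linear map -/
def reflLin (a : ι → ZMod 2) : (ι → ZMod 2) →ₗ[ZMod 2] (ι → ZMod 2) :=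
  LinearMap.id + ((β.flip a) + (β a)).smulRight a

theorem reflLin_apply (a v : ι → ZMod 2) : reflLin β a v = R β a v := by
  simp [reflLin, R, LinearMap.flip_apply]

theorem R_R (a v : ι → ZMod 2) : R β a (R β a v) = v := by
  unfold R
  simp only [map_add, LinearMap.add_apply, map_smul, LinearMap.smul_apply, smul_eq_mul]
  funext k
  simp only [Pi.add_apply, Pi.smul_apply, smul_eq_mul]
  linear_combination ((β v a + β a v) * a k + (β v a + β a v) * β a a * a k) * two_z2

theorem R_comm (a b v : ι → ZMod 2) (hab : β a b + β b a = 0) :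
    R β a (R β b v) = R β b (R β a v) := by
  unfold R
  simp only [map_add, LinearMap.add_apply, map_smul, LinearMap.smul_apply, smul_eq_mul]
  funext k
  simp only [Pi.add_apply, Pi.smul_apply, smul_eq_mul]
  linear_combination ((β v b + β b v) * a k - (β v a + β a v) * b k) * hab

theorem reflLin_comp_self (a : ι → ZMod 2) : (reflLin β a).comp (reflLin β a) = LinearMap.id := by
  apply LinearMap.ext
  intro v
  rw [LinearMap.comp_apply, reflLin_apply, reflLin_apply, R_R]
  rfl

/-- the reflection in `GL` -/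
noncomputable def reflGL (a : ι → ZMod 2) : Matrix.GeneralLinearGroup ι (ZMod 2) :=
  ⟨LinearMap.toMatrix' (reflLin β a), LinearMap.toMatrix' (reflLin β a),
    by rw [← LinearMap.toMatrix'_comp, reflLin_comp_self, LinearMap.toMatrix'_id],
    by rw [← LinearMap.toMatrix'_comp, reflLin_comp_self, LinearMap.toMatrix'_id]⟩

theorem reflGL_mulVec (a v : ι → ZMod 2) :
    ((reflGL β a : Matrix.GeneralLinearGroup ι (ZMod 2)) : Matrix ι ι (ZMod 2)) *ᵥ v = R β a v := by
  show LinearMap.toMatrix' (reflLin β a) *ᵥ v = _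
  rw [LinearMap.toMatrix'_mulVec, reflLin_apply]

theorem reflGL_mem (a : ι → ZMod 2) (ha : β a a = 1) :
    reflGL β a ∈ isometryGroup (ZMod 2) (fun v => β v v) := by
  rw [mem_isometryGroup_iff]
  intro v
  rw [reflGL_mulVec]
  unfold R
  simp only [map_add, LinearMap.add_apply, map_smul, LinearMap.smul_apply, smul_eq_mul]
  linear_combination (β v a + β a v) ^ 2 * ha + (β v a + β a v) ^ 2 * two_z2

/-- the reflection as an isometry -/
noncomputable def reflIso (a : ι → ZMod 2) (ha : β a a = 1) :
    ↥(isometryGroup (ZMod 2) (fun v => β v v)) := ⟨reflGL β a, reflGL_mem β a ha⟩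

theorem reflIso_mulVec (a : ι → ZMod 2) (ha : β a a = 1) (v : ι → ZMod 2) :
    (((reflIso β a ha : ↥(isometryGroup (ZMod 2) (fun v => β v v))) :
      Matrix.GeneralLinearGroup ι (ZMod 2)) : Matrix ι ι (ZMod 2)) *ᵥ v = R β a v :=
  reflGL_mulVec β a v

theorem iso_mul_mulVec (x y : ↥(isometryGroup (ZMod 2) (fun v => β v v))) (v : ι → ZMod 2) :
    (((x * y : ↥(isometryGroup (ZMod 2) (fun v => β v v))) :
      Matrix.GeneralLinearGroup ι (ZMod 2)) : Matrix ι ι (ZMod 2)) *ᵥ v =
    ((x : Matrix.GeneralLinearGroup ι (ZMod 2)) : Matrix ι ι (ZMod 2)) *ᵥ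
      (((y : Matrix.GeneralLinearGroup ι (ZMod 2)) : Matrix ι ι (ZMod 2)) *ᵥ v) := by
  rw [Subgroup.coe_mul, Units.val_mul, Matrix.mulVec_mulVec]

theorem iso_ext (x y : ↥(isometryGroup (ZMod 2) (fun v => β v v)))
    (h : ∀ v : ι → ZMod 2,
      ((x : Matrix.GeneralLinearGroup ι (ZMod 2)) : Matrix ι ι (ZMod 2)) *ᵥ v =
      ((y : Matrix.GeneralLinearGroup ι (ZMod 2)) : Matrix ι ι (ZMod 2)) *ᵥ v) : x = y :=
  Subtype.ext (Units.ext (Matrix.ext_iff_mulVec.mpr h))

theorem reflIso_mul_self (a : ι → ZMod 2) (ha : β a a = 1) :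
    reflIso β a ha * reflIso β a ha = 1 := by
  apply iso_ext
  intro v
  rw [iso_mul_mulVec, reflIso_mulVec, reflIso_mulVec, R_R]
  simp

theorem reflIso_commute (a b : ι → ZMod 2) (ha : β a a = 1) (hb : β b b = 1)
    (hab : β a b + β b a = 0) : Commute (reflIso β a ha) (reflIso β b hb) := by
  apply iso_ext
  intro v
  rw [iso_mul_mulVec, iso_mul_mulVec, reflIso_mulVec, reflIso_mulVec, reflIso_mulVec,
    reflIso_mulVec, R_comm β a b v hab]

end refl

section grp

variable {M : Type*} [Group M]

theorem sq3_eq_one (x y z : M) (hx : x * x = 1) (hy : y * y = 1) (hz : z * z = 1)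
    (hxy : Commute x y) (hxz : Commute x z) (hyz : Commute y z) :
    (x * y * z) * (x * y * z) = 1 := by
  have h1 : Commute z (x * y) := (hxz.symm.mul_right hyz.symm)
  have h2 : (x * y) * (x * y) = 1 := by
    calc (x * y) * (x * y) = x * (y * x) * y := by group
      _ = x * (x * y) * y := by rw [hxy.eq]
      _ = (x * x) * (y * y) := by group
      _ = 1 := by rw [hx, hy, one_mul]
  calc (x * y * z) * (x * y * z) = (x * y) * (z * (x * y)) * z := by group
    _ = (x * y) * ((x * y) * z) * z := by rw [h1.eq]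
    _ = ((x * y) * (x * y)) * (z * z) := by group
    _ = 1 := by rw [h2, hz, one_mul]

theorem pair_commute (x y z w : M) (hx : x * x = 1) (hy : y * y = 1)
    (hxy : Commute x y) (hxz : Commute x z) (hyz : Commute y z) (hxw : Commute x w)
    (hyw : Commute y w) (hzw : Commute z w) :
    (x * y * z) * (x * y * w) = (x * y * w) * (x * y * z) := by
  have h1 : Commute z (x * y) := (hxz.symm.mul_right hyz.symm)
  have h1' : Commute w (x * y) := (hxw.symm.mul_right hyw.symm)
  have h2 : (x * y) * (x * y) = 1 := by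
    calc (x * y) * (x * y) = x * (y * x) * y := by group
      _ = x * (x * y) * y := by rw [hxy.eq]
      _ = (x * x) * (y * y) := by group
      _ = 1 := by rw [hx, hy, one_mul]
  calc (x * y * z) * (x * y * w) = (x * y) * (z * (x * y)) * w := by group
    _ = (x * y) * ((x * y) * z) * w := by rw [h1.eq]
    _ = ((x * y) * (x * y)) * (z * w) := by group
    _ = ((x * y) * (x * y)) * (w * z) := by rw [hzw.eq]
    _ = (x * y) * ((x * y) * w) * z := by group
    _ = (x * y) * (w * (x * y)) * z := by rw [h1'.eq]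
    _ = (x * y * w) * (x * y * z) := by group

end grp

end Cfsg.Agent.Lib.Helper1.XQ
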