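import Mathlib
import Cfsg.Prelude
import Cfsg.Agent.Lib.Helper1.XQ4

set_option autoImplicit false
set_option maxHeartbeats 4000000
set_option linter.unusedSectionVars false
set_option linter.unusedVariables false
set_option linter.unusedSimpArgs false
set_option linter.deprecated false
set_option linter.style.longLine false
open Cfsg

/-! Non-splitting of `Aut(2^{1+2n})` over `Inn`: the abstract obstruction in `QH β`. -/

namespace Cfsg.Agent.Lib.Helper1.XQ

open Matrix Cfsg.Agent.Lib.Helper5.OrthCard Cfsg.Agent.Lib.Helper6.ExtraOut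

variable {ι : Type} [Fintype ι] [DecidableEq ι]
variable (β : LinearMap.BilinForm (ZMod 2) (ι → ZMod 2))

/-- three mutually orthogonal nonsingular vectors with a dual triple -/
structure Cfg (a1 a2 a3 y1 y2 y3 : ι → ZMod 2) : Prop where
  q1 : β a1 a1 = 1
  q2 : β a2 a2 = 1
  q3 : β a3 a3 = 1
  c12 : β a1 a2 = 0
  c21 : β a2 a1 = 0
  c13 : β a1 a3 = 0
  c31 : β a3 a1 = 0
  c23 : β a2 a3 = 0
  c32 : β a3 a2 = 0
  d11 : β y1 a1 + β a1 y1 = 1
  d12 : β y1 a2 + β a2 y1 = 0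
  d13 : β y1 a3 + β a3 y1 = 0
  d21 : β y2 a1 + β a1 y2 = 0
  d22 : β y2 a2 + β a2 y2 = 1
  d23 : β y2 a3 + β a3 y2 = 0
  d31 : β y3 a1 + β a1 y3 = 0
  d32 : β y3 a2 + β a2 y3 = 0
  d33 : β y3 a3 + β a3 y3 = 1

variable {β}

theorem R_of_zero {a v : ι → ZMod 2} (h : β v a + β a v = 0) : R β a v = v := by
  unfold R; rw [h, zero_smul, add_zero]

theorem R_of_one {a v : ι → ZMod 2} (h : β v a + β a v = 1) : R β a v = v + a := by
  unfold R; rw [h, one_smul]

section lift

variable (hnd : ∀ v, (∀ w, β v w + β w v = 0) → v = 0)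
include hnd

theorem exists_lift (L : Subgroup (MulAut (QH β))) (hsup : Cfsg.Inn (QH β) ⊔ L = ⊤)
    (γ : ↥(isometryGroup (ZMod 2) (fun v => β v v))) : ∃ α ∈ L, QH.Φ hnd α = γ := by
  obtain ⟨α0, hα0⟩ := QH.surj hnd γ
  have hmem : α0 ∈ Cfsg.Inn (QH β) ⊔ L := by rw [hsup]; trivial
  have hset : (α0 : MulAut (QH β)) ∈ ((Cfsg.Inn (QH β) ⊔ L : Subgroup (MulAut (QH β))) : Set _) :=
    hmem
  rw [Subgroup.normal_mul] at hset
  obtain ⟨i, hi, l, hl, hil⟩ := Set.mem_mul.mp hset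
  refine ⟨l, hl, ?_⟩
  have hik : i ∈ (QH.Φ hnd).ker := by rw [QH.ker_eq hnd]; exact hi
  rw [← hα0, ← hil, map_mul, MonoidHom.mem_ker.mp hik, one_mul]

theorem eq_one_of_mem (L : Subgroup (MulAut (QH β))) (hdisj : Cfsg.Inn (QH β) ⊓ L = ⊥)
    {α : MulAut (QH β)} (hα : α ∈ L) (h : QH.Φ hnd α = 1) : α = 1 := by
  have hik : α ∈ (QH.Φ hnd).ker := MonoidHom.mem_ker.mpr h
  rw [QH.ker_eq hnd] at hik
  have : α ∈ Cfsg.Inn (QH β) ⊓ L := ⟨hik, hα⟩
  rw [hdisj] at this
  exact Subgroup.mem_bot.mp this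

theorem lc_invol {α : MulAut (QH β)} (h : α * α = 1) (v : ι → ZMod 2) :
    QH.lc α (QH.bar α v) + QH.lc α v = 0 := by
  have h1 : α (α ⟨v, 0⟩) = ⟨v, 0⟩ := by
    have := DFunLike.congr_fun h (⟨v, 0⟩ : QH β)
    simpa [MulAut.mul_apply] using this
  rw [QH.aut_eq hnd α ⟨v, 0⟩, QH.aut_eq hnd α] at h1
  have h2 := congrArg QH.c h1
  simpa using h2

theorem lc_comm {α γ : MulAut (QH β)} (h : α * γ = γ * α) (v : ι → ZMod 2) :
    QH.lc α (QH.bar γ v) + QH.lc γ v = QH.lc γ (QH.bar α v) + QH.lc α v := by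
  have h1 : α (γ ⟨v, 0⟩) = γ (α ⟨v, 0⟩) := by
    have := DFunLike.congr_fun h (⟨v, 0⟩ : QH β)
    simpa [MulAut.mul_apply] using this
  rw [QH.aut_eq hnd γ ⟨v, 0⟩, QH.aut_eq hnd α, QH.aut_eq hnd α ⟨v, 0⟩, QH.aut_eq hnd γ] at h1
  have h2 := congrArg QH.c h1
  simpa using h2

end lift

theorem no_compl (hnd : ∀ v, (∀ w, β v w + β w v = 0) → v = 0)
    {a1 a2 a3 y1 y2 y3 : ι → ZMod 2} (cfg : Cfg β a1 a2 a3 y1 y2 y3)
    (L : Subgroup (MulAut (QH β))) (hsup : Cfsg.Inn (QH β) ⊔ L = ⊤)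
    (hdisj : Cfsg.Inn (QH β) ⊓ L = ⊥) : False := by
  obtain ⟨q1, q2, q3, c12, c21, c13, c31, c23, c32, d11, d12, d13, d21, d22, d23, d31, d32, d33⟩ :=
    cfg
  obtain ⟨a4, ha4⟩ : ∃ a4, a4 = a1 + a2 + a3 := ⟨_, rfl⟩
  have q4 : β a4 a4 = 1 := by
    rw [ha4]
    simp only [map_add, LinearMap.add_apply]
    linear_combination q1 + q2 + q3 + c12 + c21 + c13 + c31 + c23 + c32 + two_z2
  -- polar values
  have p12 : β a1 a2 + β a2 a1 = 0 := by rw [c12, c21, add_zero]
  have p13 : β a1 a3 + β a3 a1 = 0 := by rw [c13, c31, add_zero]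
  have p23 : β a2 a3 + β a3 a2 = 0 := by rw [c23, c32, add_zero]
  have p14 : β a1 a4 + β a4 a1 = 0 := by
    rw [ha4]
    simp only [map_add, LinearMap.add_apply]
    linear_combination c12 + c21 + c13 + c31 + β a1 a1 * two_z2
  have p24 : β a2 a4 + β a4 a2 = 0 := by
    rw [ha4]
    simp only [map_add, LinearMap.add_apply]
    linear_combination c12 + c21 + c23 + c32 + β a2 a2 * two_z2
  have p34 : β a3 a4 + β a4 a3 = 0 := by
    rw [ha4]
    simp only [map_add, LinearMap.add_apply]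
    linear_combination c13 + c31 + c23 + c32 + β a3 a3 * two_z2
  have pself : ∀ a : ι → ZMod 2, β a a + β a a = 0 := fun a => add_self_z2 _
  -- the isometries
  obtain ⟨r1, hr1⟩ : ∃ r, r = reflIso β a1 q1 := ⟨_, rfl⟩
  obtain ⟨r2, hr2⟩ : ∃ r, r = reflIso β a2 q2 := ⟨_, rfl⟩
  obtain ⟨r3, hr3⟩ : ∃ r, r = reflIso β a3 q3 := ⟨_, rfl⟩
  obtain ⟨r4, hr4⟩ : ∃ r, r = reflIso β a4 q4 := ⟨_, rfl⟩
  have e11 : r1 * r1 = 1 := by rw [hr1]; exact reflIso_mul_self β a1 q1
  have e22 : r2 * r2 = 1 := by rw [hr2]; exact reflIso_mul_self β a2 q2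
  have e33 : r3 * r3 = 1 := by rw [hr3]; exact reflIso_mul_self β a3 q3
  have e44 : r4 * r4 = 1 := by rw [hr4]; exact reflIso_mul_self β a4 q4
  have k12 : Commute r1 r2 := by rw [hr1, hr2]; exact reflIso_commute β a1 a2 q1 q2 p12
  have k13 : Commute r1 r3 := by rw [hr1, hr3]; exact reflIso_commute β a1 a3 q1 q3 p13
  have k23 : Commute r2 r3 := by rw [hr2, hr3]; exact reflIso_commute β a2 a3 q2 q3 p23
  have k14 : Commute r1 r4 := by rw [hr1, hr4]; exact reflIso_commute β a1 a4 q1 q4 p14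
  have k24 : Commute r2 r4 := by rw [hr2, hr4]; exact reflIso_commute β a2 a4 q2 q4 p24
  have k34 : Commute r3 r4 := by rw [hr3, hr4]; exact reflIso_commute β a3 a4 q3 q4 p34
  obtain ⟨g, hg⟩ : ∃ g, g = r1 * r2 * r3 := ⟨_, rfl⟩
  obtain ⟨h, hh⟩ : ∃ h, h = r1 * r2 * r4 := ⟨_, rfl⟩
  have hgg : g * g = 1 := by rw [hg]; exact sq3_eq_one r1 r2 r3 e11 e22 e33 k12 k13 k23
  have hhh : h * h = 1 := by rw [hh]; exact sq3_eq_one r1 r2 r4 e11 e22 e44 k12 k14 k24
  have hgh : g * h = h * g := by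
    rw [hg, hh]; exact pair_commute r1 r2 r3 r4 e11 e22 k12 k13 k23 k14 k24 k34
  have gv : ∀ v : ι → ZMod 2,
      ((g : Matrix.GeneralLinearGroup ι (ZMod 2)) : Matrix ι ι (ZMod 2)) *ᵥ v =
        R β a1 (R β a2 (R β a3 v)) := by
    intro v
    rw [hg, iso_mul_mulVec, iso_mul_mulVec, hr1, hr2, hr3, reflIso_mulVec, reflIso_mulVec,
      reflIso_mulVec]
  have hv : ∀ v : ι → ZMod 2,
      ((h : Matrix.GeneralLinearGroup ι (ZMod 2)) : Matrix ι ι (ZMod 2)) *ᵥ v =
        R β a1 (R β a2 (R β a4 v)) := by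
    intro v
    rw [hh, iso_mul_mulVec, iso_mul_mulVec, hr1, hr2, hr4, reflIso_mulVec, reflIso_mulVec,
      reflIso_mulVec]
  -- the lifts
  obtain ⟨α, hαL, hα⟩ := exists_lift hnd L hsup g
  obtain ⟨γ, hγL, hγ⟩ := exists_lift hnd L hsup h
  have hαα : α * α = 1 := by
    apply eq_one_of_mem hnd L hdisj (L.mul_mem hαL hαL)
    rw [map_mul, hα, hgg]
  have hγγ : γ * γ = 1 := by
    apply eq_one_of_mem hnd L hdisj (L.mul_mem hγL hγL)
    rw [map_mul, hγ, hhh]
  have hαγ : α * γ = γ * α := by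
    have h1 : α * γ * (γ * α)⁻¹ = 1 := by
      apply eq_one_of_mem hnd L hdisj
        (L.mul_mem (L.mul_mem hαL hγL) (L.inv_mem (L.mul_mem hγL hαL)))
      rw [map_mul, map_inv, map_mul, map_mul, hα, hγ, hgh, mul_inv_cancel]
    exact mul_inv_eq_one.mp h1
  have bα : ∀ v, QH.bar α v = R β a1 (R β a2 (R β a3 v)) := by
    intro v
    rw [← QH.Φ_mulVec hnd α v, hα, gv]
  have bγ : ∀ v, QH.bar γ v = R β a1 (R β a2 (R β a4 v)) := by
    intro v
    rw [← QH.Φ_mulVec hnd γ v, hγ, hv]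
  -- evaluations of g
  have G1 : QH.bar α y2 = y2 + a2 := by
    have e1 : β (y2 + a2) a1 + β a1 (y2 + a2) = 0 := by
      simp only [map_add, LinearMap.add_apply]
      linear_combination d21 + c21 + c12
    rw [bα, R_of_zero d23, R_of_one d22, R_of_zero e1]
  have G2 : QH.bar α a2 = a2 := by
    have e1 : β a2 a1 + β a1 a2 = 0 := by rw [add_comm]; exact p12
    rw [bα, R_of_zero p23, R_of_zero (pself a2), R_of_zero e1]
  have G3 : QH.bar α y3 = y3 + a3 := by
    have e2 : β (y3 + a3) a2 + β a2 (y3 + a3) = 0 := by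
      simp only [map_add, LinearMap.add_apply]
      linear_combination d32 + c32 + c23
    have e1 : β (y3 + a3) a1 + β a1 (y3 + a3) = 0 := by
      simp only [map_add, LinearMap.add_apply]
      linear_combination d31 + c31 + c13
    rw [bα, R_of_one d33, R_of_zero e2, R_of_zero e1]
  have G4 : QH.bar α a3 = a3 := by
    have e2 : β a3 a2 + β a2 a3 = 0 := by rw [add_comm]; exact p23
    have e1 : β a3 a1 + β a1 a3 = 0 := by rw [add_comm]; exact p13
    rw [bα, R_of_zero (pself a3), R_of_zero e2, R_of_zero e1]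
  have G5 : QH.bar α y1 = y1 + a1 := by
    rw [bα, R_of_zero d13, R_of_zero d12, R_of_one d11]
  -- evaluations of h
  have p41 : β a4 a1 + β a1 a4 = 0 := by rw [add_comm]; exact p14
  have p42 : β a4 a2 + β a2 a4 = 0 := by rw [add_comm]; exact p24
  have H1 : QH.bar γ (y1 + y3) = y1 + y3 + a1 := by
    have e4 : β (y1 + y3) a4 + β a4 (y1 + y3) = 0 := by
      rw [ha4]
      simp only [map_add, LinearMap.add_apply]
      linear_combination d11 + d12 + d13 + d31 + d32 + d33 + two_z2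
    have e2 : β (y1 + y3) a2 + β a2 (y1 + y3) = 0 := by
      simp only [map_add, LinearMap.add_apply]
      linear_combination d12 + d32
    have e1 : β (y1 + y3) a1 + β a1 (y1 + y3) = 1 := by
      simp only [map_add, LinearMap.add_apply]
      linear_combination d11 + d31
    rw [bγ, R_of_zero e4, R_of_zero e2, R_of_one e1]
  have H2 : QH.bar γ a1 = a1 := by
    rw [bγ, R_of_zero p14, R_of_zero p12, R_of_zero (pself a1)]
  have H3 : QH.bar γ y1 = y1 + (a2 + a3) := by
    have e4 : β y1 a4 + β a4 y1 = 1 := by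
      rw [ha4]
      simp only [map_add, LinearMap.add_apply]
      linear_combination d11 + d12 + d13
    have e2 : β (y1 + a4) a2 + β a2 (y1 + a4) = 0 := by
      simp only [map_add, LinearMap.add_apply]
      linear_combination d12 + p42
    have e1 : β (y1 + a4) a1 + β a1 (y1 + a4) = 1 := by
      simp only [map_add, LinearMap.add_apply]
      linear_combination d11 + p41
    rw [bγ, R_of_one e4, R_of_zero e2, R_of_one e1, ha4]
    funext k
    simp only [Pi.add_apply]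
    linear_combination a1 k * two_z2
  -- the cocycle computations
  have A1 := QH.lc_add hnd α
  have A2 := lc_invol hnd hαα
  have B1 := QH.lc_add hnd γ
  have B2 := lc_invol hnd hγγ
  have C := lc_comm hnd hαγ
  -- S1 : lc α a2 = 1
  have S1 : QH.lc α a2 = 1 := by
    have h1 := A1 y2 a2
    have h2 := A2 y2
    rw [G1, G2] at h1
    rw [G1] at h2
    simp only [map_add, LinearMap.add_apply] at h1
    rw [q2] at h1
    generalize QH.lc α (y2 + a2) = X at h1 h2
    generalize QH.lc α y2 = Y at h1 h2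
    generalize QH.lc α a2 = Z at h1 ⊢
    generalize β y2 a2 = W at h1
    revert X Y Z W
    decide
  have S2 : QH.lc α a3 = 1 := by
    have h1 := A1 y3 a3
    have h2 := A2 y3
    rw [G3, G4] at h1
    rw [G3] at h2
    simp only [map_add, LinearMap.add_apply] at h1
    rw [q3] at h1
    generalize QH.lc α (y3 + a3) = X at h1 h2
    generalize QH.lc α y3 = Y at h1 h2
    generalize QH.lc α a3 = Z at h1 ⊢
    generalize β y3 a3 = W at h1
    revert X Y Z W
    decide
  have S3 : QH.lc γ a1 = 1 := by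
    have h1 := B1 (y1 + y3) a1
    have h2 := B2 (y1 + y3)
    rw [H1, H2] at h1
    rw [H1] at h2
    simp only [map_add, LinearMap.add_apply] at h1
    rw [q1] at h1
    generalize QH.lc γ (y1 + y3 + a1) = X at h1 h2
    generalize QH.lc γ (y1 + y3) = Y at h1 h2
    generalize QH.lc γ a1 = Z at h1 ⊢
    generalize β y1 a1 = W at h1
    generalize β y3 a1 = W' at h1
    revert X Y Z W W'
    decide
  have S4 : QH.lc α (a2 + a3) = 0 := by
    have h1 := A1 a2 a3
    rw [G2, G4, S1, S2] at h1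
    generalize QH.lc α (a2 + a3) = X at h1 ⊢
    generalize β a2 a3 = W at h1
    revert X W
    decide
  have G6 : QH.bar α (a2 + a3) = a2 + a3 := by
    rw [QH.bar_add hnd, G2, G4]
  have S5 : QH.lc α (y1 + (a2 + a3)) = QH.lc α y1 := by
    have h1 := A1 y1 (a2 + a3)
    rw [G5, G6, S4] at h1
    simp only [map_add, LinearMap.add_apply] at h1
    rw [c12, c13] at h1
    generalize QH.lc α (y1 + (a2 + a3)) = X at h1 ⊢
    generalize QH.lc α y1 = Y at h1 ⊢
    generalize β y1 a2 = W at h1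
    generalize β y1 a3 = W' at h1
    revert X Y W W'
    decide
  have S6 : QH.lc γ (y1 + a1) = QH.lc γ y1 + 1 := by
    have h1 := B1 y1 a1
    rw [H3, H2, S3] at h1
    simp only [map_add, LinearMap.add_apply] at h1
    rw [c21, c31] at h1
    generalize QH.lc γ (y1 + a1) = X at h1 ⊢
    generalize QH.lc γ y1 = Y at h1 ⊢
    generalize β y1 a1 = W at h1
    revert X Y W
    decide
  have S7 := C y1
  rw [H3, G5, S5, S6] at S7
  generalize QH.lc α y1 = X at S7
  generalize QH.lc γ y1 = Y at S7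
  revert X Y
  decide

end Cfsg.Agent.Lib.Helper1.XQ
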