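import Mathlib
import Cfsg.Prelude
import Cfsg.Agent.Lib.Helper1.XQ5
import Cfsg.Agent.Lib.Helper6.ExtraOut3

set_option autoImplicit false
set_option maxHeartbeats 4000000
set_option linter.unusedSectionVars false
set_option linter.unusedVariables false
set_option linter.unusedSimpArgs false
set_option linter.deprecated false
set_option linter.style.longLine false
open Cfsg

/-! Non-splitting of `Aut(2^{1+2n})` over `Inn` for `n ≥ 3`: coordinates and transport. -/

namespace Cfsg.Agent.Lib.Helper1.XQ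

open Matrix Cfsg.Agent.Lib.Helper5.OrthCard Cfsg.Agent.Lib.Helper6.ExtraOut
open Cfsg.Agent.Lib.Helper1.ES

variable {n : ℕ}

/-- indicator vector on `Fin n` -/
def dl (j : Fin n) : Fin n → ZMod 2 := Pi.single j 1

theorem sum_dl (c : Fin n → ZMod 2) (j k : Fin n) :
    ∑ i, c i * dl j i * dl k i = if j = k then c j else 0 := by
  rw [Finset.sum_eq_single j]
  · by_cases h : j = k
    · subst h; simp [dl]
    · simp [dl, h]
  · intro b _ hb
    simp [dl, hb]
  · intro h; exact absurd (Finset.mem_univ j) h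

theorem sum_dl' (j k : Fin n) :
    ∑ i, dl j i * dl k i = if j = k then 1 else 0 := by
  have := sum_dl (fun _ => (1 : ZMod 2)) j k
  simpa using this

/-- the nonsingular vector `e_j + f_j` -/
def av (j : Fin n) : Fin n ⊕ Fin n → ZMod 2 := Sum.elim (dl j) (dl j)

/-- the vector `e_j` -/
def yv (j : Fin n) : Fin n ⊕ Fin n → ZMod 2 := Sum.elim (dl j) 0

theorem βTH_elim (s t : Fin n → ZMod 2) (f g f' g' : Fin n → ZMod 2) :
    βTH s t (Sum.elim f g) (Sum.elim f' g') =
      ∑ i, (f i * g' i + s i * f i * f' i + t i * g i * g' i) := by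
  rw [βTH_apply]
  rfl

theorem b_aa (s : Fin n → ZMod 2) (j k : Fin n) :
    βTH s s (av j) (av k) = if j = k then 1 else 0 := by
  unfold av
  rw [βTH_elim, Finset.sum_add_distrib, Finset.sum_add_distrib, sum_dl', sum_dl]
  by_cases h : j = k
  · simp only [h, if_true]
    linear_combination s k * two_z2
  · simp [h]

theorem b_ya (s : Fin n → ZMod 2) (j k : Fin n) :
    βTH s s (yv j) (av k) + βTH s s (av k) (yv j) = if j = k then 1 else 0 := by
  unfold av yv
  rw [βTH_elim, βTH_elim]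
  simp only [Pi.zero_apply, mul_zero, zero_mul, add_zero, zero_add]
  rw [Finset.sum_add_distrib, sum_dl', sum_dl, sum_dl]
  by_cases h : j = k
  · simp only [h, if_true]
    linear_combination s k * two_z2
  · have h' : ¬ k = j := fun e => h e.symm
    simp [h, h']

theorem cfg_std (s : Fin n → ZMod 2) (i0 i1 i2 : Fin n) (h01 : i0 ≠ i1) (h02 : i0 ≠ i2)
    (h12 : i1 ≠ i2) :
    Cfg (βTH s s) (av i0) (av i1) (av i2) (yv i0) (yv i1) (yv i2) where
  q1 := by rw [b_aa]; simp
  q2 := by rw [b_aa]; simp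
  q3 := by rw [b_aa]; simp
  c12 := by rw [b_aa]; simp [h01]
  c21 := by rw [b_aa]; simp [h01.symm]
  c13 := by rw [b_aa]; simp [h02]
  c31 := by rw [b_aa]; simp [h02.symm]
  c23 := by rw [b_aa]; simp [h12]
  c32 := by rw [b_aa]; simp [h12.symm]
  d11 := by rw [b_ya]; simp
  d12 := by rw [b_ya]; simp [h01]
  d13 := by rw [b_ya]; simp [h02]
  d21 := by rw [b_ya]; simp [h01.symm]
  d22 := by rw [b_ya]; simp
  d23 := by rw [b_ya]; simp [h12]
  d31 := by rw [b_ya]; simp [h02.symm]
  d32 := by rw [b_ya]; simp [h12.symm]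
  d33 := by rw [b_ya]; simp

/-- the induced isomorphism of automorphism groups carries `Inn` to `Inn` -/
theorem map_inn_congr {G H : Type*} [Group G] [Group H] (e : G ≃* H) :
    (Cfsg.Inn G).map (MulAut.congr e).toMonoidHom = Cfsg.Inn H := by
  ext φ
  constructor
  · rintro ⟨_, ⟨g, rfl⟩, rfl⟩
    refine ⟨e g, ?_⟩
    apply MulEquiv.ext
    intro x
    simp [MulAut.congr, MulAut.conj_apply]
  · rintro ⟨h, rfl⟩
    refine ⟨MulAut.conj (e.symm h), ⟨e.symm h, rfl⟩, ?_⟩
    apply MulEquiv.ext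
    intro x
    simp [MulAut.congr, MulAut.conj_apply]

theorem s3085 {Q : Type*} [Group Q] [Finite Q] (n : ℕ) (hn : 3 ≤ n)
    (hQ : Cfsg.IsExtraspecial 2 Q) (hcard : Nat.card Q = 2 ^ (2 * n + 1))
    (L : Subgroup (MulAut Q)) : ¬ (Cfsg.Inn Q).IsComplement' L := by
  intro hc
  obtain ⟨k, ε, ⟨e0⟩⟩ := extraspecial2_iso_th hQ
  have hk : k = n := by
    have c1 := Nat.card_congr e0.toEquiv
    rw [TH.card_th, Nat.card_zmod, hcard] at c1
    have := Nat.pow_right_injective (le_refl 2) c1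
    omega
  subst hk
  obtain ⟨β, hβ⟩ : ∃ β, β = βTH (sig ε k) (sig ε k) := ⟨_, rfl⟩
  have hnd : ∀ v, (∀ w, β v w + β w v = 0) → v = 0 := by rw [hβ]; exact βTH_nondeg _ _
  have e : Q ≃* QH β := by rw [hβ]; exact e0.symm.trans (thEquiv _ _)
  obtain ⟨f, hf⟩ : ∃ f : MulAut Q ≃* MulAut (QH β), f = MulAut.congr e := ⟨_, rfl⟩
  have hInn : (Cfsg.Inn Q).map f.toMonoidHom = Cfsg.Inn (QH β) := by
    rw [hf]; exact map_inn_congr e
  have hsup : Cfsg.Inn (QH β) ⊔ L.map f.toMonoidHom = ⊤ := by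
    rw [← hInn, ← Subgroup.map_sup, hc.sup_eq_top]
    exact Subgroup.map_top_of_surjective _ f.surjective
  have hdisj : Cfsg.Inn (QH β) ⊓ L.map f.toMonoidHom = ⊥ := by
    rw [← hInn, ← Subgroup.map_inf_eq _ _ f.toMonoidHom f.injective,
      disjoint_iff.mp hc.disjoint, Subgroup.map_bot]
  have cfg : Cfg β (av ⟨0, by omega⟩) (av ⟨1, by omega⟩) (av ⟨2, by omega⟩)
      (yv ⟨0, by omega⟩) (yv ⟨1, by omega⟩) (yv ⟨2, by omega⟩) := by
    rw [hβ]
    apply cfg_std
    · intro h; have := congrArg Fin.val h; simp at this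
    · intro h; have := congrArg Fin.val h; simp at this
    · intro h; have := congrArg Fin.val h; simp at this
  exact no_compl hnd cfg (L.map f.toMonoidHom) hsup hdisj

end Cfsg.Agent.Lib.Helper1.XQ
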