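import Mathlib
import Cfsg.Prelude.Def_Transfer
import Cfsg.Agent.Lib.Helper1.XS14
import Cfsg.Agent.Lib.Helper1.XS11

/-! S3765. -/
set_option autoImplicit false
open scoped BigOperators commutatorElement

namespace Cfsg.Agent.Lib.Helper1.XS

universe u

theorem s3765 {G : Type u} [Group G] [Finite G] {p q r : ℕ} (hp : p.Prime) (hq : q.Prime)
    (hr : r.Prime) (hpq : p ≠ q) (hpr : p ≠ r) (hqr : q ≠ r) (X Q V : Subgroup G)
    (hX : Nat.card X = r) (hQ : IsPGroup q Q) (hXQ : X ≤ Subgroup.normalizer (Q : Set G))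
    (hXfaith : X ⊓ Subgroup.centralizer (Q : Set G) = ⊥) (hV : Cfsg.IsElementaryAbelian p V)
    (hXV : X ≤ Subgroup.normalizer (V : Set G))
    (hQV : Q ≤ Subgroup.normalizer (V : Set G))
    (hfaith : (X ⊔ Q) ⊓ Subgroup.centralizer (V : Set G) = ⊥)
    (hexc : q = 2 → (∃ n : ℕ, r = 2 ^ n + 1) → IsMulCommutative Q) :
    V ⊓ Subgroup.centralizer (X : Set G) ≠ ⊥ := by
  classical
  intro hCV
  obtain ⟨hVcomm, hVp⟩ := hV
  obtain ⟨x, hxX, hx1, hxr, hXx⟩ := exists_generator_of_prime_card X hr hX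
  have hcent : ∀ g : G, x * g = g * x → g ∈ Subgroup.centralizer (X : Set G) := by
    intro g hg
    rw [Subgroup.mem_centralizer_iff]
    intro y hy
    obtain ⟨k, rfl⟩ := hXx y hy
    exact ((show Commute x g from hg).zpow_left k).eq
  let Γ : Subgroup G := Subgroup.normalizer (V : Set G)
  let instC : CommGroup V :=
    { (inferInstance : Group V) with
      mul_comm := fun a b => hVcomm.is_comm.comm a b }
  let φ : ↥Γ →* Monoid.End V := conjEnd V Γ le_rfl
  have hφ : ∀ (g : ↥Γ) (v : V), ((φ g v : V) : G) = (g : G) * v * (g : G)⁻¹ := fun g v => rfl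
  have hexp : ∀ m : V, m ^ p = 1 := by
    intro m
    apply Subtype.ext
    rw [Subgroup.coe_pow]
    exact hVp m m.2
  let Q' : Subgroup ↥Γ := Q.subgroupOf Γ
  let x' : ↥Γ := ⟨x, hXV hxX⟩
  have hQ' : IsPGroup q Q' := hQ.comap_of_injective Γ.subtype Γ.subtype_injective
  have key := hh_faithful hp hq hr hpq hpr hqr φ hexp Q' hQ'
    (by
      intro g hg hm
      rw [Subgroup.mem_subgroupOf] at hg
      have h1 : (g : G) ∈ (X ⊔ Q) ⊓ Subgroup.centralizer (V : Set G) := by
        refine Subgroup.mem_inf.mpr ⟨(le_sup_right : Q ≤ X ⊔ Q) hg, ?_⟩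
        rw [Subgroup.mem_centralizer_iff]
        intro v hv
        have h2 := congrArg Subtype.val (hm ⟨v, hv⟩)
        rw [hφ] at h2
        have h3 : (g : G) * v * (g : G)⁻¹ = v := h2
        exact (mul_inv_eq_iff_eq_mul.mp h3).symm
      rw [hfaith, Subgroup.mem_bot] at h1
      exact Subtype.ext h1)
    x'
    (by
      apply Subtype.ext
      rw [Subgroup.coe_pow]
      exact hxr)
    (by
      rw [Subgroup.mem_normalizer_iff]
      intro g
      rw [Subgroup.mem_subgroupOf, Subgroup.mem_subgroupOf]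
      exact Subgroup.mem_normalizer_iff.mp (hXQ hxX) g)
    (by
      intro h2 hn a ha b hb
      rw [Subgroup.mem_subgroupOf] at ha hb
      have hc := hexc h2 hn
      have := hc.is_comm.comm ⟨a, ha⟩ ⟨b, hb⟩
      apply Subtype.ext
      rw [Subgroup.coe_mul, Subgroup.coe_mul]
      exact congrArg Subtype.val this)
    (by
      intro m hm
      have h1 := congrArg Subtype.val hm
      rw [hφ] at h1
      have h2 : x * (m : G) * x⁻¹ = m := h1
      rw [mul_inv_eq_iff_eq_mul] at h2
      have h3 : (m : G) ∈ V ⊓ Subgroup.centralizer (X : Set G) :=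
        Subgroup.mem_inf.mpr ⟨m.2, hcent _ h2⟩
      rw [hCV, Subgroup.mem_bot] at h3
      exact Subtype.ext h3)
  have hxc : x ∈ X ⊓ Subgroup.centralizer (Q : Set G) := by
    refine Subgroup.mem_inf.mpr ⟨hxX, ?_⟩
    rw [Subgroup.mem_centralizer_iff]
    intro a ha
    have h1 := key ⟨a, hQV ha⟩ (Subgroup.mem_subgroupOf.mpr ha)
    have h2 := congrArg Subtype.val h1
    rw [Subgroup.coe_mul, Subgroup.coe_mul] at h2
    exact h2.symm
  rw [hXfaith, Subgroup.mem_bot] at hxc
  exact hx1 hxc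

end Cfsg.Agent.Lib.Helper1.XS
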