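import Mathlib
import Cfsg.Agent.Lib.Helper1.XS6

/-! Generic representation lemmas: irreducibility, Schur, traces of averages. -/
set_option autoImplicit false
open scoped BigOperators commutatorElement
open Module

namespace Cfsg.Agent.Lib.Helper1.XS

universe u v w
variable {K : Type u} [Field K] {U : Type v} [AddCommGroup U] [Module K U]
variable {E : Type w} [Group E]

/-- irreducibility of a representation -/
def IsIrr (σ : E →* Module.End K U) : Prop :=
  ∀ W : Submodule K U, (∀ a : E, ∀ w ∈ W, σ a w ∈ W) → W = ⊥ ∨ W = ⊤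

theorem schur [IsAlgClosed K] [FiniteDimensional K U] [Nontrivial U]
    {σ : E →* Module.End K U} (hirr : IsIrr σ) (f : Module.End K U) (hf : f ∈ cen σ) :
    ∃ μ : K, f = μ • (1 : Module.End K U) := by
  rw [mem_cen] at hf
  obtain ⟨μ, hμ⟩ := Module.End.exists_eigenvalue f
  refine ⟨μ, ?_⟩
  let L : Submodule K U := f.eigenspace μ
  have hL0 : L ≠ ⊥ := hμ
  have hLinv : ∀ a : E, ∀ w ∈ L, σ a w ∈ L := by
    intro a w hw
    rw [Module.End.mem_eigenspace_iff] at hw ⊢
    have h1 : f (σ a w) = σ a (f w) := by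
      have := congrArg (fun g : Module.End K U => g w) (hf a)
      simp only [Module.End.mul_apply] at this
      exact this.symm
    rw [h1, hw, map_smul]
  rcases hirr L hLinv with h | h
  · exact absurd h hL0
  · ext w
    have h5 : w ∈ L := by rw [h]; exact Submodule.mem_top
    rw [Module.End.mem_eigenspace_iff] at h5
    rw [h5]
    rfl

theorem exists_irr_sub [FiniteDimensional K U] (σ : E →* Module.End K U)
    (W₀ : Submodule K U) (hW₀ : W₀ ≠ ⊥) (hinv₀ : ∀ a : E, ∀ w ∈ W₀, σ a w ∈ W₀) :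
    ∃ W : Submodule K U, W ≤ W₀ ∧ W ≠ ⊥ ∧
      ∃ hW : (∀ a : E, ∀ w ∈ W, σ a w ∈ W), IsIrr (restrictRep σ W hW) := by
  classical
  let P : ℕ → Prop := fun n => ∃ W : Submodule K U, W ≤ W₀ ∧ W ≠ ⊥ ∧
    (∀ a : E, ∀ w ∈ W, σ a w ∈ W) ∧ finrank K W = n
  have hP : ∃ n, P n := ⟨_, W₀, le_rfl, hW₀, hinv₀, rfl⟩
  obtain ⟨W, hWW₀, hW0, hW, hWn⟩ := Nat.find_spec hP
  have hmin : ∀ W' : Submodule K U, W' ≤ W₀ → W' ≠ ⊥ → (∀ a : E, ∀ w ∈ W', σ a w ∈ W') →
      finrank K W ≤ finrank K W' := by
    intro W' hle h0 hinv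
    rw [hWn]
    exact Nat.find_min' hP ⟨W', hle, h0, hinv, rfl⟩
  refine ⟨W, hWW₀, hW0, hW, ?_⟩
  intro L hLinv
  by_cases hL0 : L = ⊥
  · exact Or.inl hL0
  right
  let W' : Submodule K U := L.map W.subtype
  have hW'le : W' ≤ W := by
    rintro _ ⟨w, -, rfl⟩
    exact w.2
  have hW'0 : W' ≠ ⊥ := by
    obtain ⟨w, hw, hw0⟩ := (Submodule.ne_bot_iff L).mp hL0
    intro h1
    have h2 : (w : U) ∈ W' := ⟨w, hw, rfl⟩
    rw [h1, Submodule.mem_bot] at h2
    exact hw0 (Subtype.ext h2)
  have hW'inv : ∀ a : E, ∀ w ∈ W', σ a w ∈ W' := by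
    rintro a _ ⟨w, hw, rfl⟩
    exact ⟨restrictRep σ W hW a w, hLinv a w hw, rfl⟩
  have h2 := hmin W' (hW'le.trans hWW₀) hW'0 hW'inv
  have h3 : finrank K W' = finrank K L :=
    (Submodule.equivMapOfInjective W.subtype W.subtype_injective L).symm.finrank_eq
  apply Submodule.eq_top_of_finrank_eq
  apply le_antisymm (Submodule.finrank_le L)
  rw [← h3]
  exact h2

theorem finrank_cen_of_irr [IsAlgClosed K] [FiniteDimensional K U] [Nontrivial U]
    {σ : E →* Module.End K U} (hirr : IsIrr σ) : finrank K (cen σ) = 1 := by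
  have hone : cen σ = Submodule.span K {(1 : Module.End K U)} := by
    apply le_antisymm
    · intro f hf
      obtain ⟨μ, rfl⟩ := schur hirr f hf
      exact Submodule.smul_mem _ _ (Submodule.subset_span rfl)
    · rw [Submodule.span_le]
      rintro _ rfl
      exact one_mem_cen _
  rw [hone]
  exact finrank_span_singleton one_ne_zero

theorem finrank_sq_of_irr [IsAlgClosed K] [FiniteDimensional K U] [Nontrivial U] [Fintype E]
    {σ : E →* Module.End K U} {Z : Subgroup E} (h : Cl2 σ Z) (hirr : IsIrr σ) :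
    (finrank K U) ^ 2 = Z.index := by
  have := sq_eq_index_mul h
  rw [finrank_cen_of_irr hirr, mul_one] at this
  exact this

theorem trace_conj_sigma [FiniteDimensional K U] (σ : E →* Module.End K U) (b : E)
    (m : Module.End K U) :
    LinearMap.trace K U (σ b * m * σ b⁻¹) = LinearMap.trace K U m := by
  rw [LinearMap.trace_mul_comm, ← mul_assoc, sigma_inv_mul, one_mul]

theorem trace_avg [Fintype E] [FiniteDimensional K U] (σ : E →* Module.End K U)
    (m : Module.End K U) :
    LinearMap.trace K U (avg σ m) = (Fintype.card E : K) * LinearMap.trace K U m := by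
  rw [avg_apply, map_sum, Finset.sum_congr rfl (fun b _ => trace_conj_sigma σ b m),
    Finset.sum_const, Finset.card_univ, nsmul_eq_mul]

theorem trace_sigma_of_notMem [Fintype E] [FiniteDimensional K U] {σ : E →* Module.End K U}
    {Z : Subgroup E} (h : Cl2 σ Z) {g : E} (hg : g ∉ Z) : LinearMap.trace K U (σ g) = 0 := by
  have h1 := trace_avg σ (σ g)
  rw [avg_sigma_of_notMem h hg, map_zero] at h1
  rcases mul_eq_zero.mp h1.symm with h2 | h2
  · exact absurd h2 (card_E_ne h)
  · exact h2

/-- a nonzero intertwiner out of an irreducible representation is injective -/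
theorem ker_eq_bot_of_intertwine {σ : E →* Module.End K U} (hirr : IsIrr σ) (α : E → E)
    (T : Module.End K U) (hT : ∀ b : E, T * σ b = σ (α b) * T) (hT0 : T ≠ 0) :
    LinearMap.ker T = ⊥ := by
  have hinv : ∀ a : E, ∀ w ∈ LinearMap.ker T, σ a w ∈ LinearMap.ker T := by
    intro a w hw
    rw [LinearMap.mem_ker] at hw ⊢
    have := congrArg (fun g : Module.End K U => g w) (hT a)
    simp only [Module.End.mul_apply] at this
    rw [this, hw, map_zero]
  rcases hirr _ hinv with h | h
  · exact h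
  · exfalso
    apply hT0
    ext w
    have : w ∈ LinearMap.ker T := by rw [h]; exact Submodule.mem_top
    exact this

end Cfsg.Agent.Lib.Helper1.XS
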