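import Mathlib
import Cfsg.Agent.Lib.Helper1.XS22

/-! The intertwiner for an automorphism acting fixed point freely modulo the centre, and the
trace identity. -/
set_option autoImplicit false
open scoped BigOperators commutatorElement
open Module

namespace Cfsg.Agent.Lib.Helper1.XS

universe u v w
variable {K : Type u} [Field K] {U : Type v} [AddCommGroup U] [Module K U]
variable {E : Type w} [Group E] [Fintype E] [FiniteDimensional K U]

theorem trace_sum_sigma {σ : E →* Module.End K U} {Z : Subgroup E} (h : Cl2 σ Z) (φ : E → E)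
    (hφ1 : ∀ a, φ a ∈ Z → a ∈ Z) (hφ2 : ∀ a ∈ Z, φ a = 1) :
    LinearMap.trace K U (∑ a : E, σ (φ a)) = (Nat.card Z : K) * (finrank K U : K) := by
  classical
  rw [map_sum]
  have h1 : ∀ a : E, LinearMap.trace K U (σ (φ a)) = if a ∈ Z then (finrank K U : K) else 0 := by
    intro a
    by_cases ha : a ∈ Z
    · rw [if_pos ha, hφ2 a ha, map_one, LinearMap.trace_one]
    · rw [if_neg ha]
      exact trace_sigma_of_notMem h (fun hc => ha (hφ1 a hc))
  rw [Finset.sum_congr rfl (fun a _ => h1 a), Finset.sum_ite, Finset.sum_const_zero, add_zero,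
    Finset.sum_const, nsmul_eq_mul]
  congr 2
  rw [Nat.card_eq_fintype_card, Fintype.card_subtype]

theorem finrank_cast_ne_zero [IsAlgClosed K] [Nontrivial U] {σ : E →* Module.End K U}
    {Z : Subgroup E} (h : Cl2 σ Z) (hirr : IsIrr σ) : (finrank K U : K) ≠ 0 := by
  intro h0
  have h1 := finrank_sq_of_irr h hirr
  have h2 : (Z.index : K) = 0 := by
    rw [← h1, Nat.cast_pow, h0]
    exact zero_pow two_ne_zero
  apply h.card_ne
  rw [← Subgroup.card_mul_index Z, Nat.cast_mul, h2, mul_zero]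

theorem trace_mul_trace_inv [IsAlgClosed K] [Nontrivial U] {σ : E →* Module.End K U}
    {Z : Subgroup E} (h : Cl2 σ Z) (hirr : IsIrr σ) (α : E ≃* E) (hαZ : ∀ z ∈ Z, α z = z)
    (hfpf : ∀ a, α a * a⁻¹ ∈ Z → a ∈ Z) (A A' : Module.End K U) (hAA' : A * A' = 1)
    (hA : ∀ c, A * σ c = σ (α c) * A) :
    LinearMap.trace K U A * LinearMap.trace K U A' = 1 := by
  classical
  set B : Module.End K U := ∑ b : E, σ (b * (α b)⁻¹) with hB
  have h1 : avg σ A = B * A := by
    rw [avg_apply, hB, Finset.sum_mul]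
    apply Finset.sum_congr rfl
    intro b _
    rw [mul_assoc, hA, ← mul_assoc, ← map_mul, map_inv]
  obtain ⟨c, hc⟩ := schur hirr (avg σ A) (avg_mem_cen σ A)
  have h2 : (Fintype.card E : K) * LinearMap.trace K U A = c * (finrank K U : K) := by
    rw [← trace_avg, hc, map_smul, LinearMap.trace_one, smul_eq_mul]
  have h3 : B = c • A' := by
    calc B = B * (A * A') := by rw [hAA', mul_one]
      _ = (B * A) * A' := by rw [mul_assoc]
      _ = c • A' := by rw [← h1, hc, smul_mul_assoc, one_mul]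
  have h4 : LinearMap.trace K U B = (Nat.card Z : K) * (finrank K U : K) := by
    apply trace_sum_sigma h (fun b => b * (α b)⁻¹)
    · intro a ha
      apply hfpf
      have := Z.inv_mem ha
      rwa [mul_inv_rev, inv_inv] at this
    · intro a ha
      rw [hαZ a ha, mul_inv_cancel]
  have h5 : (Nat.card Z : K) * (finrank K U : K) = c * LinearMap.trace K U A' := by
    rw [← h4, h3, map_smul, smul_eq_mul]
  have h6 : ((finrank K U : K)) ^ 2 = (Z.index : K) := by
    rw [← Nat.cast_pow, finrank_sq_of_irr h hirr]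
  have h7 : (Fintype.card E : K) = (Nat.card Z : K) * (Z.index : K) := by
    rw [← Nat.cast_mul, Subgroup.card_mul_index, Nat.card_eq_fintype_card]
  have h8 : (Fintype.card E : K) * (LinearMap.trace K U A * LinearMap.trace K U A')
      = (Fintype.card E : K) * 1 := by
    calc (Fintype.card E : K) * (LinearMap.trace K U A * LinearMap.trace K U A')
        = ((Fintype.card E : K) * LinearMap.trace K U A) * LinearMap.trace K U A' := by ring
      _ = (finrank K U : K) * (c * LinearMap.trace K U A') := by rw [h2]; ring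
      _ = (Nat.card Z : K) * ((finrank K U : K)) ^ 2 := by rw [← h5]; ring
      _ = (Fintype.card E : K) * 1 := by rw [h6, ← h7, mul_one]
  exact mul_left_cancel₀ (card_E_ne h) h8

/-- the canonical intertwiner -/
def twist (σ : E →* Module.End K U) (α : E ≃* E) : Module.End K U := ∑ a : E, σ (α a) * σ a⁻¹

theorem twist_intertwine (σ : E →* Module.End K U) (α : E ≃* E) (b : E) :
    twist σ α * σ b = σ (α b) * twist σ α := by
  unfold twist
  rw [Finset.sum_mul, Finset.mul_sum]
  rw [← Equiv.sum_comp (Equiv.mulLeft b) (fun a => σ (α a) * σ a⁻¹ * σ b)]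
  apply Finset.sum_congr rfl
  intro a _
  simp only [Equiv.coe_mulLeft]
  rw [map_mul α, map_mul σ, mul_inv_rev, mul_assoc, mul_assoc, ← map_mul σ (a⁻¹ * b⁻¹) b,
    inv_mul_cancel_right]

theorem trace_twist {σ : E →* Module.End K U} {Z : Subgroup E} (h : Cl2 σ Z) (α : E ≃* E)
    (hαZ : ∀ z ∈ Z, α z = z) (hfpf : ∀ a, α a * a⁻¹ ∈ Z → a ∈ Z) :
    LinearMap.trace K U (twist σ α) = (Nat.card Z : K) * (finrank K U : K) := by
  have e : twist σ α = ∑ a : E, σ (α a * a⁻¹) := by
    unfold twist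
    apply Finset.sum_congr rfl
    intro a _
    rw [map_mul]
  rw [e]
  apply trace_sum_sigma h (fun a => α a * a⁻¹) hfpf
  intro a ha
  rw [hαZ a ha, mul_inv_cancel]

theorem pow_intertwine (σ : E →* Module.End K U) (α : E ≃* E) (S : Module.End K U)
    (hS : ∀ c, S * σ c = σ (α c) * S) (k : ℕ) (c : E) :
    S ^ k * σ c = σ ((α ^ k) c) * S ^ k := by
  induction k generalizing c with
  | zero => simp
  | succ k ih =>
    rw [pow_succ, mul_assoc, hS, ← mul_assoc, ih, mul_assoc, pow_succ, MulAut.mul_apply]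

theorem exists_S [IsAlgClosed K] [Nontrivial U] {σ : E →* Module.End K U}
    {Z : Subgroup E} (h : Cl2 σ Z) (hirr : IsIrr σ) (α : E ≃* E) (hαZ : ∀ z ∈ Z, α z = z)
    (hfpf : ∀ a, α a * a⁻¹ ∈ Z → a ∈ Z) {n : ℕ} (hn : 0 < n) (hαn : ∀ a, (α ^ n) a = a) :
    ∃ S : Module.End K U, S ^ n = 1 ∧ ∀ c, S * σ c = σ (α c) * S := by
  classical
  set T := twist σ α with hT
  have hTσ : ∀ b, T * σ b = σ (α b) * T := twist_intertwine σ α
  have htr : LinearMap.trace K U T ≠ 0 := by
    rw [hT, trace_twist h α hαZ hfpf]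
    exact mul_ne_zero (card_Z_ne h) (finrank_cast_ne_zero h hirr)
  have hT0 : T ≠ 0 := by
    intro h0
    rw [h0, map_zero] at htr
    exact htr rfl
  have hker := ker_eq_bot_of_intertwine hirr α T hTσ hT0
  have hunit : IsUnit T := (LinearMap.isUnit_iff_ker_eq_bot T).mpr hker
  have hTn : T ^ n ∈ cen σ := by
    rw [mem_cen]
    intro a
    have := pow_intertwine σ α T hTσ n a
    rw [hαn] at this
    exact this.symm
  obtain ⟨μ, hμ⟩ := schur hirr (T ^ n) hTn
  have hμ0 : μ ≠ 0 := by
    intro h0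
    have h1 : IsUnit (T ^ n) := hunit.pow n
    rw [hμ, h0, zero_smul] at h1
    exact not_isUnit_zero h1
  obtain ⟨ν, hν⟩ := IsAlgClosed.exists_pow_nat_eq μ hn
  have hν0 : ν ≠ 0 := by
    intro h0
    rw [h0, zero_pow hn.ne'] at hν
    exact hμ0 hν.symm
  refine ⟨ν⁻¹ • T, ?_, ?_⟩
  · rw [smul_pow, hμ, smul_smul, inv_pow, hν, inv_mul_cancel₀ hμ0, one_smul]
  · intro c
    rw [smul_mul_assoc, hTσ, mul_smul_comm]

end Cfsg.Agent.Lib.Helper1.XS
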