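import Mathlib
import Cfsg.Agent.Lib.Helper1.XS23

/-! Eigenvalue multiplicities of an operator `S` with `S^h = 1` and `tr(S^j) tr(S^{-j}) = 1`. -/
set_option autoImplicit false
open scoped BigOperators
open Module

namespace Cfsg.Agent.Lib.Helper1.XS

universe u v

theorem arith_lemma {α : Type*} (Ω : Finset α) (n : α → ℤ) (N : ℤ) (h : ℕ) (hpos : 0 < h)
    (hcard : Ω.card = h) (hsum : ∑ c ∈ Ω, n c = N)
    (hsq : (h : ℤ) * ∑ c ∈ Ω, (n c) ^ 2 = N ^ 2 + h - 1) :
    (h : ℤ) ∣ N - 1 ∨ (h : ℤ) ∣ N + 1 := by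
  have hh : (0 : ℤ) < (h : ℤ) := by exact_mod_cast hpos
  set ρ : ℤ := (-N) % (h : ℤ) with hρ
  have hρ0 : 0 ≤ ρ := Int.emod_nonneg _ hh.ne'
  have hρh : ρ < h := Int.emod_lt_of_pos _ hh
  set w : ℤ := -((-N) / (h : ℤ)) with hw
  have hNw : N + ρ = h * w := by
    have := Int.emod_add_mul_ediv (-N) (h : ℤ)
    rw [hw, hρ]
    linarith
  have ht_sum : ∑ c ∈ Ω, (n c - w) = -ρ := by
    rw [Finset.sum_sub_distrib, hsum, Finset.sum_const, hcard, nsmul_eq_mul]
    linarith
  have ht_sq : (h : ℤ) * ∑ c ∈ Ω, (n c - w) ^ 2 = ρ ^ 2 + h - 1 := by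
    have e : ∑ c ∈ Ω, (n c - w) ^ 2 = ∑ c ∈ Ω, (n c) ^ 2 - 2 * w * ∑ c ∈ Ω, n c + h * w ^ 2 := by
      have : ∀ c ∈ Ω, (n c - w) ^ 2 = (n c) ^ 2 - 2 * w * n c + w ^ 2 := fun c _ => by ring
      rw [Finset.sum_congr rfl this, Finset.sum_add_distrib, Finset.sum_sub_distrib,
        ← Finset.mul_sum, Finset.sum_const, hcard, nsmul_eq_mul]
    rw [e, hsum, mul_add, mul_sub, hsq]
    have : ρ = h * w - N := by linarith
    rw [this]
    ring
  have hge : ∑ c ∈ Ω, (n c - w) ^ 2 ≥ ρ := by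
    have h1 : ∀ c ∈ Ω, -(n c - w) ≤ (n c - w) ^ 2 := by
      intro c _
      nlinarith [sq_nonneg (2 * (n c - w) + 1), sq_nonneg (n c - w), Int.emod_emod_of_dvd (n c - w) (dvd_refl (2:ℤ)),
        mul_self_nonneg (n c - w), (show (n c - w) * (n c - w + 1) ≥ 0 from by
          rcases le_or_gt 0 (n c - w) with h0 | h0
          · exact mul_nonneg h0 (by linarith)
          · exact mul_nonneg_of_nonpos_of_nonpos (by linarith) (by linarith))]
    have h2 := Finset.sum_le_sum h1
    rw [Finset.sum_neg_distrib, ht_sum, neg_neg] at h2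
    exact h2
  have hkey : (h : ℤ) * ρ ≤ ρ ^ 2 + h - 1 := by
    rw [← ht_sq]
    exact mul_le_mul_of_nonneg_left hge hh.le
  rcases le_or_gt ρ 1 with h1 | h1
  · rcases (show ρ = 0 ∨ ρ = 1 by omega) with h0 | h0
    · -- ρ = 0
      rw [h0] at ht_sq
      have hs0 : ∑ c ∈ Ω, (n c - w) ^ 2 ≥ 0 := Finset.sum_nonneg (fun c _ => sq_nonneg _)
      have hs1 : ∑ c ∈ Ω, (n c - w) ^ 2 < 1 := by
        by_contra hc
        push Not at hc
        nlinarith
      have hs2 : ∑ c ∈ Ω, (n c - w) ^ 2 = 0 := by omega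
      rw [hs2] at ht_sq
      have hh1 : (h : ℤ) = 1 := by linarith
      left
      rw [hh1]
      exact one_dvd _
    · right
      exact ⟨w, by linarith⟩
  · have h2 : ρ ≥ h - 1 := by
      by_contra hc
      push Not at hc
      nlinarith
    left
    exact ⟨w - 1, by linarith⟩

variable {K : Type u} [Field K] {U : Type v} [AddCommGroup U] [Module K U]

theorem trace_of_eigenbasis {ι : Type*} [Fintype ι] (b : Basis ι K U) (f : Module.End K U)
    (c : ι → K) (hf : ∀ i, f (b i) = c i • b i) : LinearMap.trace K U f = ∑ i, c i := by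
  classical
  rw [LinearMap.trace_eq_matrix_trace K b f, Matrix.trace]
  apply Finset.sum_congr rfl
  intro i _
  rw [Matrix.diag_apply, LinearMap.toMatrix_apply, hf, map_smul, Basis.repr_self,
    Finsupp.smul_apply, Finsupp.single_eq_same, smul_eq_mul, mul_one]

open Classical in
theorem geom_sum_root {t : K} {h : ℕ} (ht : t ^ h = 1) :
    ∑ j ∈ Finset.range h, t ^ j = if t = 1 then (h : K) else 0 := by
  by_cases h1 : t = 1
  · rw [if_pos h1, h1]
    simp
  · rw [if_neg h1, geom_sum_eq h1, ht, sub_self, zero_div]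

theorem eigen_count [IsAlgClosed K] [CharZero K] [FiniteDimensional K U] (S : Module.End K U)
    {h : ℕ} (hh : 0 < h) (hS : S ^ h = 1)
    (htr : ∀ j, 0 < j → j < h → LinearMap.trace K U (S ^ j) * LinearMap.trace K U (S ^ (h - j)) = 1) :
    (h : ℤ) ∣ (finrank K U : ℤ) - 1 ∨ (h : ℤ) ∣ (finrank K U : ℤ) + 1 := by
  classical
  have hhK : (h : K) ≠ 0 := by exact_mod_cast hh.ne'
  obtain ⟨ι, _, b, s, hs⟩ := exists_eigenbasis S hhK hS
  have hs_pow : ∀ i, s i ^ h = 1 := by
    intro i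
    have h1 := pow_apply_eigen S (hs i) h
    rw [hS, Module.End.one_apply] at h1
    have h2 : (s i ^ h - 1) • b i = 0 := by rw [sub_smul, one_smul, ← h1, sub_self]
    rcases smul_eq_zero.mp h2 with h3 | h3
    · exact sub_eq_zero.mp h3
    · exact absurd h3 (b.ne_zero i)
  have htrace : ∀ j, LinearMap.trace K U (S ^ j) = ∑ i, s i ^ j := fun j =>
    trace_of_eigenbasis b (S ^ j) (fun i => s i ^ j) (fun i => pow_apply_eigen S (hs i) j)
  set N : ℕ := finrank K U with hN
  have hNcard : Fintype.card ι = N := (Module.finrank_eq_card_basis b).symm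
  -- the total sum
  have htotal : ∑ j ∈ Finset.range h, LinearMap.trace K U (S ^ j) * LinearMap.trace K U (S ^ (h - j))
      = (N : K) ^ 2 + ((h : K) - 1) := by
    obtain ⟨h', rfl⟩ := Nat.exists_eq_succ_of_ne_zero hh.ne'
    rw [Finset.sum_range_succ']
    have h1 : ∀ j ∈ Finset.range h', LinearMap.trace K U (S ^ (j + 1)) *
        LinearMap.trace K U (S ^ (h' + 1 - (j + 1))) = 1 := by
      intro j hj
      rw [Finset.mem_range] at hj
      exact htr (j + 1) (Nat.succ_pos j) (by omega)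
    rw [Finset.sum_congr rfl h1, Finset.sum_const, Finset.card_range, nsmul_eq_mul, mul_one,
      pow_zero, Nat.sub_zero, hS, LinearMap.trace_one]
    push_cast
    ring
  -- expansion in eigenvalues
  have hexp : ∑ j ∈ Finset.range h, LinearMap.trace K U (S ^ j) * LinearMap.trace K U (S ^ (h - j))
      = ∑ i, ∑ i', (if s i = s i' then (h : K) else 0) := by
    have h1 : ∀ j ∈ Finset.range h, LinearMap.trace K U (S ^ j) * LinearMap.trace K U (S ^ (h - j))
        = ∑ i, ∑ i', (s i * (s i')⁻¹) ^ j := by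
      intro j hj
      rw [Finset.mem_range] at hj
      rw [htrace, htrace, Finset.sum_mul_sum]
      apply Finset.sum_congr rfl
      intro i _
      apply Finset.sum_congr rfl
      intro i' _
      have h2 : s i' ^ (h - j) = ((s i')⁻¹) ^ j := by
        have h3 : s i' ^ (h - j) * s i' ^ j = 1 := by
          rw [← pow_add, Nat.sub_add_cancel hj.le, hs_pow]
        have h4 : s i' ^ j ≠ 0 := by
          intro h0
          rw [h0, mul_zero] at h3
          exact zero_ne_one h3
        rw [inv_pow]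
        exact eq_inv_of_mul_eq_one_left h3
      rw [h2, mul_pow]
    rw [Finset.sum_congr rfl h1, Finset.sum_comm]
    apply Finset.sum_congr rfl
    intro i _
    rw [Finset.sum_comm]
    apply Finset.sum_congr rfl
    intro i' _
    have h5 : (s i * (s i')⁻¹) ^ h = 1 := by rw [mul_pow, inv_pow, hs_pow, hs_pow, inv_one, mul_one]
    rw [geom_sum_root h5]
    have hne : s i' ≠ 0 := by
      intro h0
      have := hs_pow i'
      rw [h0, zero_pow hh.ne'] at this
      exact zero_ne_one this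
    have h6 : s i * (s i')⁻¹ = 1 ↔ s i = s i' := by
      rw [mul_inv_eq_one₀ hne]
    simp only [h6]
  -- multiplicities
  obtain ⟨ζ, hζ⟩ : ∃ ζ : K, IsPrimitiveRoot ζ h := by
    have : NeZero (h : K) := ⟨hhK⟩
    exact HasEnoughRootsOfUnity.exists_primitiveRoot K h
  set Ω : Finset K := Polynomial.nthRootsFinset h (1 : K) with hΩ
  have hΩcard : Ω.card = h := hζ.card_nthRootsFinset
  have hsΩ : ∀ i ∈ (Finset.univ : Finset ι), s i ∈ Ω := by
    intro i _
    rw [hΩ, Polynomial.mem_nthRootsFinset hh]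
    exact hs_pow i
  let n : K → ℕ := fun lam => (Finset.univ.filter (fun i : ι => s i = lam)).card
  have hnsum : ∑ lam ∈ Ω, n lam = N := by
    rw [← hNcard, ← Finset.card_univ]
    exact (Finset.card_eq_sum_card_fiberwise hsΩ).symm
  have hpair : ∑ i, ∑ i', (if s i = s i' then (h : K) else 0) = (h : K) * ((∑ lam ∈ Ω, (n lam) ^ 2 : ℕ) : K) := by
    have h1 : ∀ i : ι, ∑ i', (if s i = s i' then (h : K) else 0) = (h : K) * (n (s i) : K) := by
      intro i
      rw [← Finset.sum_filter, Finset.sum_const, nsmul_eq_mul, mul_comm]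
      congr 2
      show (Finset.univ.filter (fun a : ι => s i = s a)).card
        = (Finset.univ.filter (fun a : ι => s a = s i)).card
      congr 1
      ext a
      simp only [Finset.mem_filter, Finset.mem_univ, true_and]
      exact eq_comm
    rw [Finset.sum_congr rfl (fun i _ => h1 i), ← Finset.mul_sum]
    congr 1
    rw [← Finset.sum_fiberwise_of_maps_to hsΩ (fun i => (n (s i) : K))]
    push_cast
    apply Finset.sum_congr rfl
    intro lam _
    have h2 : ∀ i ∈ Finset.univ.filter (fun i : ι => s i = lam), (n (s i) : K) = (n lam : K) := by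
      intro i hi
      rw [(Finset.mem_filter.mp hi).2]
    rw [Finset.sum_congr rfl h2, Finset.sum_const, nsmul_eq_mul, pow_two]
  have hfinal : (h : K) * ((∑ lam ∈ Ω, (n lam) ^ 2 : ℕ) : K) = (N : K) ^ 2 + ((h : K) - 1) := by
    rw [← hpair, ← hexp, htotal]
  have hfinalZ : (h : ℤ) * ∑ lam ∈ Ω, ((n lam : ℤ)) ^ 2 = (N : ℤ) ^ 2 + h - 1 := by
    have h1 : ((h * ∑ lam ∈ Ω, (n lam) ^ 2 + 1 : ℕ) : K) = ((N ^ 2 + h : ℕ) : K) := by
      push_cast
      push_cast at hfinal
      rw [hfinal]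
      ring
    have h2 : h * ∑ lam ∈ Ω, (n lam) ^ 2 + 1 = N ^ 2 + h := Nat.cast_injective h1
    have h3 : ((h * ∑ lam ∈ Ω, (n lam) ^ 2 + 1 : ℕ) : ℤ) = ((N ^ 2 + h : ℕ) : ℤ) := by rw [h2]
    push_cast at h3
    linarith
  have hsumZ : ∑ lam ∈ Ω, (n lam : ℤ) = (N : ℤ) := by
    rw [← hnsum]
    push_cast
    rfl
  exact arith_lemma Ω (fun lam => (n lam : ℤ)) (N : ℤ) h hh hΩcard hsumZ hfinalZ

end Cfsg.Agent.Lib.Helper1.XS
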