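import Mathlib
import Cfsg.Prelude.Def_Transfer
import Cfsg.Agent.Lib.Helper1.XS24
import Cfsg.Agent.Lib.Helper1.XS11

/-! Cyclic groups acting on extraspecial groups fixed point freely modulo the centre:
abstract version. -/
set_option autoImplicit false
open scoped BigOperators commutatorElement
open Module

namespace Cfsg.Agent.Lib.Helper1.XS

universe u v w

theorem mulAut_pow_fix {E : Type w} [Group E] (α : E ≃* E) (z : E) (hz : α z = z) (j : ℕ) :
    (α ^ j) z = z := by
  induction j with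
  | zero => simp
  | succ j ih => rw [pow_succ, MulAut.mul_apply, hz, ih]

section generic

variable {K : Type u} [Field K] {U : Type v} [AddCommGroup U] [Module K U]
variable {E : Type w} [Group E]

theorem scalar_eq_one [Nontrivial U] {c : K} (h : c • (1 : Module.End K U) = 1) : c = 1 := by
  obtain ⟨w, hw⟩ := exists_ne (0 : U)
  have h2 := congrArg (fun f : Module.End K U => f w) h
  simp only [Module.End.one_apply, LinearMap.smul_apply] at h2
  have h3 : (c - 1) • w = 0 := by rw [sub_smul, one_smul, h2, sub_self]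
  rcases smul_eq_zero.mp h3 with h4 | h4
  · exact sub_eq_zero.mp h4
  · exact absurd h4 hw

theorem cl2_of_extraspecial [Nontrivial U] (σ : E →* Module.End K U)
    (hcomm : commutator E = Subgroup.center E) (z : E) {p : ℕ} (hp : p.Prime)
    (hzord : orderOf z = p) (hzgen : ∀ y ∈ Subgroup.center E, ∃ k : ℕ, y = z ^ k)
    (c : K) (hc1 : c ≠ 1) (hσz : σ z = c • (1 : Module.End K U))
    (hcard : (Nat.card E : K) ≠ 0) : Cl2 σ (Subgroup.center E) := by
  have hσzk : ∀ k : ℕ, σ (z ^ k) = c ^ k • (1 : Module.End K U) := by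
    intro k
    rw [map_pow, hσz, smul_pow, one_pow]
  have hzp : z ^ p = 1 := by rw [← hzord]; exact pow_orderOf_eq_one z
  have hcp : c ^ p = 1 := by
    have h1 := hσzk p
    rw [hzp, map_one] at h1
    exact scalar_eq_one h1.symm
  have hcord : orderOf c = p := by
    have h1 : orderOf c ∣ p := orderOf_dvd_of_pow_eq_one hcp
    rcases (Nat.dvd_prime hp).mp h1 with h2 | h2
    · exact absurd (orderOf_eq_one_iff.mp h2) hc1
    · exact h2
  have hck : ∀ k : ℕ, c ^ k • (1 : Module.End K U) = 1 → z ^ k = 1 := by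
    intro k hk
    have h4 : c ^ k = 1 := scalar_eq_one hk
    have h5 : p ∣ k := by rw [← hcord]; exact orderOf_dvd_of_pow_eq_one h4
    rw [← hzord] at h5
    exact orderOf_dvd_iff_pow_eq_one.mp h5
  refine ⟨?_, ?_, ?_, hcard⟩
  · intro a b
    rw [← hcomm]
    exact Subgroup.commutator_mem_commutator (Subgroup.mem_top a) (Subgroup.mem_top b)
  · intro y hy
    obtain ⟨k, rfl⟩ := hzgen y hy
    exact ⟨c ^ k, hσzk k⟩
  · intro g hg
    rw [Subgroup.mem_center_iff] at hg
    push Not at hg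
    obtain ⟨a, ha⟩ := hg
    refine ⟨a, ?_⟩
    have h1 : ⁅a, g⁆ ∈ Subgroup.center E := by
      rw [← hcomm]
      exact Subgroup.commutator_mem_commutator (Subgroup.mem_top a) (Subgroup.mem_top g)
    obtain ⟨k, hk⟩ := hzgen _ h1
    rw [hk, hσzk]
    intro h2
    have h3 := hck k h2
    rw [← hk, commutatorElement_eq_one_iff_mul_comm] at h3
    exact ha h3

theorem fpf_core [IsAlgClosed K] [CharZero K] [FiniteDimensional K U] [Nontrivial U] [Fintype E]
    {σ : E →* Module.End K U} {Z : Subgroup E} (hcl : Cl2 σ Z) (hirr : IsIrr σ) (α : E ≃* E)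
    {h : ℕ} (hh : 2 ≤ h) (hαh : ∀ a, (α ^ h) a = a) (hαZ : ∀ z ∈ Z, α z = z)
    (hfpf : ∀ j, 0 < j → j < h → ∀ a, (α ^ j) a * a⁻¹ ∈ Z → a ∈ Z) :
    (h : ℤ) ∣ (finrank K U : ℤ) - 1 ∨ (h : ℤ) ∣ (finrank K U : ℤ) + 1 := by
  have hh0 : 0 < h := by omega
  have hfpf1 : ∀ a, α a * a⁻¹ ∈ Z → a ∈ Z := by
    intro a ha
    have := hfpf 1 Nat.one_pos (by omega) a
    rw [pow_one] at this
    exact this ha
  obtain ⟨S, hS, hSσ⟩ := exists_S hcl hirr α hαZ hfpf1 hh0 hαh
  have htr : ∀ j, 0 < j → j < h →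
      LinearMap.trace K U (S ^ j) * LinearMap.trace K U (S ^ (h - j)) = 1 := by
    intro j hj0 hjh
    apply trace_mul_trace_inv hcl hirr (α ^ j) (fun z hz => mulAut_pow_fix α z (hαZ z hz) j)
      (hfpf j hj0 hjh) (S ^ j) (S ^ (h - j))
    · rw [← pow_add, Nat.add_sub_cancel' hjh.le, hS]
    · intro c
      exact pow_intertwine σ α S hSσ j c
  exact eigen_count S hh0 hS htr

end generic

/-- the regular representation -/
noncomputable def regRep (E : Type w) [Group E] : E →* Module.End ℂ (E →₀ ℂ) where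
  toFun a := Finsupp.lmapDomain ℂ ℂ (fun b : E => a * b)
  map_one' := by
    have : (fun b : E => (1 : E) * b) = id := by
      funext b
      simp
    rw [this, Finsupp.lmapDomain_id]
    rfl
  map_mul' := by
    intro a b
    have : (fun x : E => a * b * x) = (fun x : E => a * x) ∘ (fun x : E => b * x) := by
      funext x
      simp [mul_assoc]
    rw [this, Finsupp.lmapDomain_comp]
    rfl

theorem regRep_single {E : Type w} [Group E] (a b : E) :
    regRep E a (Finsupp.single b (1 : ℂ)) = Finsupp.single (a * b) 1 := by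
  show Finsupp.lmapDomain ℂ ℂ (fun b : E => a * b) (Finsupp.single b 1) = _
  rw [Finsupp.lmapDomain_apply, Finsupp.mapDomain_single]

/-- an invariant subspace of the regular representation which is irreducible and on which a given
central element `z ≠ 1` of prime order acts as a scalar `c ≠ 1` -/
theorem exists_irr_central {E : Type w} [Group E] [Finite E] (z : E) (hz1 : z ≠ 1) {p : ℕ}
    (hp : p.Prime) (hzp : z ^ p = 1) (hzc : ∀ a : E, z * a = a * z) :
    ∃ (W : Submodule ℂ (E →₀ ℂ)) (hW : ∀ a : E, ∀ w ∈ W, regRep E a w ∈ W) (c : ℂ),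
      W ≠ ⊥ ∧ IsIrr (K := ℂ) (U := ↥W) (restrictRep (regRep E) W hW) ∧ c ≠ 1 ∧
      restrictRep (regRep E) W hW z = c • (1 : Module.End ℂ W) := by
  classical
  set σ₀ := regRep E with hσ₀
  set Tz : Module.End ℂ (E →₀ ℂ) := σ₀ z with hTz
  have hTzp : Tz ^ p = 1 := by rw [hTz, ← map_pow, hzp, map_one]
  have hTz1 : Tz ≠ 1 := by
    intro h1
    have h2 := congrArg (fun f : Module.End ℂ (E →₀ ℂ) => f (Finsupp.single 1 1)) h1
    simp only [Module.End.one_apply] at h2
    rw [hTz, hσ₀, regRep_single, mul_one] at h2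
    have h3 := Finsupp.single_left_injective (one_ne_zero (α := ℂ)) h2
    exact hz1 h3
  have hpC : (p : ℂ) ≠ 0 := by exact_mod_cast hp.ne_zero
  obtain ⟨c, hc1, hWc⟩ : ∃ c : ℂ, c ≠ 1 ∧ Tz.eigenspace c ≠ ⊥ := by
    by_contra hcon
    push Not at hcon
    have htop := iSup_eigenspace_of_pow_eq_one Tz hpC hTzp
    have h1 : ⨆ μ : ℂ, Tz.eigenspace μ ≤ Tz.eigenspace 1 := by
      apply iSup_le
      intro μ
      by_cases hμ : μ = 1
      · rw [hμ]
      · rw [hcon μ hμ]
        exact bot_le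
    rw [htop, top_le_iff] at h1
    apply hTz1
    apply LinearMap.ext
    intro w
    have : w ∈ Tz.eigenspace 1 := by rw [h1]; exact Submodule.mem_top
    rw [Module.End.mem_eigenspace_iff, one_smul] at this
    rw [this, Module.End.one_apply]
  have hWcinv : ∀ a : E, ∀ w ∈ Tz.eigenspace c, σ₀ a w ∈ Tz.eigenspace c := by
    intro a w hw
    rw [Module.End.mem_eigenspace_iff] at hw ⊢
    have : Tz (σ₀ a w) = σ₀ a (Tz w) := by
      rw [hTz, ← Module.End.mul_apply, ← Module.End.mul_apply, ← map_mul, ← map_mul, hzc]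
    rw [this, hw, map_smul]
  obtain ⟨W, hWle, hW0, hW, hirr⟩ := exists_irr_sub σ₀ (Tz.eigenspace c) hWc hWcinv
  refine ⟨W, hW, c, hW0, hirr, hc1, ?_⟩
  apply LinearMap.ext
  intro w
  apply Subtype.ext
  rw [restrictRep_apply]
  have hw : (w : E →₀ ℂ) ∈ Tz.eigenspace c := hWle w.2
  rw [Module.End.mem_eigenspace_iff] at hw
  rw [← hTz, hw]
  rfl

theorem extraspecial_fpf_abs {E : Type w} [Group E] [Finite E] {p : ℕ} [hp : Fact p.Prime]
    (hE : Cfsg.IsExtraspecial p E) (n : ℕ) (hn : Nat.card E = p ^ (2 * n + 1)) (α : E ≃* E)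
    {h : ℕ} (hh : 0 < h) (hαh : ∀ a, (α ^ h) a = a)
    (hαZ : ∀ z ∈ Subgroup.center E, α z = z)
    (hfpf : ∀ j, 0 < j → j < h → ∀ a, (α ^ j) a * a⁻¹ ∈ Subgroup.center E → a ∈ Subgroup.center E) :
    (h : ℤ) ∣ ((p ^ n : ℕ) : ℤ) - 1 ∨ (h : ℤ) ∣ ((p ^ n : ℕ) : ℤ) + 1 := by
  classical
  rcases Nat.lt_or_ge h 2 with h1 | h2
  · have : h = 1 := by omega
    left
    rw [this]
    exact one_dvd _
  have _ : Fintype E := Fintype.ofFinite E
  obtain ⟨⟨_, hfrat, hcomm⟩, hZcard⟩ := hE
  obtain ⟨z, hzZ, hz1, hzp, hzgen⟩ :=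
    exists_generator_of_prime_card (Subgroup.center E) hp.out hZcard
  have hzord : orderOf z = p := by
    have h1 : orderOf z ∣ p := orderOf_dvd_of_pow_eq_one hzp
    rcases (Nat.dvd_prime hp.out).mp h1 with h2 | h2
    · exact absurd (orderOf_eq_one_iff.mp h2) hz1
    · exact h2
  have hzgen' : ∀ y ∈ Subgroup.center E, ∃ k : ℕ, y = z ^ k := by
    intro y hy
    obtain ⟨k, hk⟩ := hzgen y hy
    have h1 : y ∈ Subgroup.zpowers z := ⟨k, hk.symm⟩
    have h2 : y ∈ Submonoid.powers z := (mem_powers_iff_mem_zpowers).mpr h1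
    obtain ⟨m, hm⟩ := h2
    exact ⟨m, hm.symm⟩
  have hzc : ∀ a : E, z * a = a * z := fun a => (Subgroup.mem_center_iff.mp hzZ a).symm
  obtain ⟨W, hW, c, hW0, hirr, hc1, hσz⟩ := exists_irr_central z hz1 hp.out hzp hzc
  have hnt : Nontrivial W := Submodule.nontrivial_iff_ne_bot.mpr hW0
  have hcardC : (Nat.card E : ℂ) ≠ 0 := by
    have : Nat.card E ≠ 0 := Nat.card_pos.ne'
    exact_mod_cast this
  have hcl := cl2_of_extraspecial (K := ℂ) (U := ↥W) (restrictRep (regRep E) W hW) hcomm z hp.out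
    hzord hzgen' c hc1 hσz hcardC
  have hdim : finrank ℂ W = p ^ n := by
    have h1 := finrank_sq_of_irr (K := ℂ) (U := ↥W) hcl hirr
    have h2 : (Subgroup.center E).index = (p ^ n) ^ 2 := by
      have h3 := Subgroup.card_mul_index (Subgroup.center E)
      rw [hZcard, hn, pow_succ, mul_comm] at h3
      have h4 := Nat.eq_of_mul_eq_mul_right hp.out.pos h3
      rw [h4, ← pow_mul, mul_comm]
    rw [h2] at h1
    exact Nat.pow_left_injective two_ne_zero h1
  have := fpf_core (K := ℂ) (U := ↥W) hcl hirr α h2 hαh hαZ hfpf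
  rw [hdim] at this
  exact this

end Cfsg.Agent.Lib.Helper1.XS
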