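import Mathlib
import Cfsg.Prelude.Def_Transfer
import Cfsg.Agent.Lib.Helper1.XS25
import Cfsg.Agent.Lib.Helper1.FrattiniAction
import Cfsg.Agent.Lib.Helper1.Coprime

/-! S3767: cyclic groups acting on extraspecial groups. -/
set_option autoImplicit false
open scoped BigOperators commutatorElement

namespace Cfsg.Agent.Lib.Helper1.XS

universe u

theorem conjEquiv_pow_coe {G : Type u} [Group G] (P : Subgroup G) (x : G)
    (hx : x ∈ Subgroup.normalizer (P : Set G)) (j : ℕ) (a : P) :
    ((((conjEquivOfMemNormalizer P x hx) ^ j) a : P) : G) = x ^ j * a * (x ^ j)⁻¹ := by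
  induction j generalizing a with
  | zero => simp
  | succ j ih =>
    rw [pow_succ, MulAut.mul_apply, ih]
    show x ^ j * (x * a * x⁻¹) * (x ^ j)⁻¹ = _
    rw [pow_succ]
    group

theorem s3767 {G : Type u} [Group G] [Finite G] {p : ℕ} [hp : Fact p.Prime] (P H : Subgroup G)
    (hP : Cfsg.IsExtraspecial p ↥P) (n : ℕ) (hn : Nat.card P = p ^ (2 * n + 1))
    (hH : IsCyclic H) (hcop : (Nat.card H).Coprime p)
    (hHP : H ≤ Subgroup.normalizer (P : Set G))
    (hfix : ∀ x ∈ H, x ≠ 1 → P ⊓ Subgroup.centralizer {x} = (Subgroup.center ↥P).map P.subtype) :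
    Nat.card H ∣ p ^ n + 1 ∨ Nat.card H ∣ p ^ n - 1 := by
  classical
  obtain ⟨g, hg⟩ := hH.exists_generator
  set x : G := (g : G) with hx
  have hxH : x ∈ H := g.2
  have hord : orderOf x = Nat.card H := by
    rw [hx, Subgroup.orderOf_coe]
    exact orderOf_eq_card_of_forall_mem_zpowers hg
  set h := Nat.card H with hh
  have hh0 : 0 < h := Nat.card_pos
  by_cases h1 : h = 1
  · left
    rw [h1]
    exact one_dvd _
  have hxN : x ∈ Subgroup.normalizer (P : Set G) := hHP hxH
  set α : ↥P ≃* ↥P := conjEquivOfMemNormalizer P x hxN with hα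
  have hxh : x ^ h = 1 := by rw [← hord]; exact pow_orderOf_eq_one x
  set N : Subgroup G := (Subgroup.center ↥P).map P.subtype with hN
  have hNP : N ≤ P := Subgroup.map_subtype_le _
  have hmemN : ∀ a : ↥P, (a : G) ∈ N ↔ a ∈ Subgroup.center ↥P := by
    intro a
    constructor
    · rintro ⟨b, hb, hba⟩
      have : b = a := Subtype.ext hba
      rwa [← this]
    · intro ha
      exact ⟨a, ha, rfl⟩
  have hpowH : ∀ j : ℕ, x ^ j ∈ H := fun j => H.pow_mem hxH j
  have hpow1 : ∀ j : ℕ, 0 < j → j < h → x ^ j ≠ 1 := by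
    intro j hj0 hjh
    exact pow_ne_one_of_lt_orderOf hj0.ne' (hord ▸ hjh)
  have hαh : ∀ a, (α ^ h) a = a := by
    intro a
    apply Subtype.ext
    rw [hα, conjEquiv_pow_coe, hxh, inv_one, one_mul, mul_one]
  have hx1 : x ≠ 1 := by
    have := hpow1 1 Nat.one_pos (by omega)
    rwa [pow_one] at this
  have hαZ : ∀ z ∈ Subgroup.center ↥P, α z = z := by
    intro z hz
    apply Subtype.ext
    have h2 : (z : G) ∈ P ⊓ Subgroup.centralizer {x} := by
      rw [hfix x hxH hx1]
      exact (hmemN z).mpr hz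
    have h3 := Subgroup.mem_centralizer_singleton_iff.mp (Subgroup.mem_inf.mp h2).2
    show x * (z : G) * x⁻¹ = z
    rw [← h3, mul_inv_cancel_right]
  have hPsolv : Group.IsSolvable P := by
    have : Group.IsNilpotent P := hP.1.1.isNilpotent
    infer_instance
  have hPN : P ≤ Subgroup.normalizer (N : Set G) :=
    Subgroup.le_normalizer.trans (normalizer_le_normalizer_map_characteristic P (Subgroup.center ↥P))
  have hfpf : ∀ j, 0 < j → j < h → ∀ a, (α ^ j) a * a⁻¹ ∈ Subgroup.center ↥P →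
      a ∈ Subgroup.center ↥P := by
    intro j hj0 hjh a ha
    set y : G := x ^ j with hy
    have hyH : y ∈ H := hpowH j
    have hy1 : y ≠ 1 := hpow1 j hj0 hjh
    have hNy : P ⊓ Subgroup.centralizer {y} = N := hfix y hyH hy1
    have hNcen : ∀ z ∈ N, z * y = y * z := by
      intro z hz
      have : z ∈ P ⊓ Subgroup.centralizer {y} := by rw [hNy]; exact hz
      exact Subgroup.mem_centralizer_singleton_iff.mp (Subgroup.mem_inf.mp this).2
    set z0 : G := y * a * y⁻¹ * (a : G)⁻¹ with hz0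
    have hz0N : z0 ∈ N := by
      have h2 := (hmemN _).mpr ha
      rw [Subgroup.coe_mul, Subgroup.coe_inv, hα, conjEquiv_pow_coe] at h2
      exact h2
    set A : Subgroup G := Subgroup.zpowers y with hA
    have hAH : A ≤ H := by rw [hA, Subgroup.zpowers_le]; exact hyH
    have hAP : A ≤ Subgroup.normalizer (P : Set G) := hAH.trans hHP
    have hcopA : (Nat.card A).Coprime (Nat.card P) := by
      rw [hn]
      apply Nat.Coprime.pow_right
      exact Nat.Coprime.coprime_dvd_left (Subgroup.card_dvd_of_le hAH) hcop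
    have hAN : A ≤ Subgroup.normalizer (N : Set G) :=
      hAP.trans (normalizer_le_normalizer_map_characteristic P (Subgroup.center ↥P))
    have hpowa : ∀ m : ℕ, y ^ m * a * (y ^ m)⁻¹ = z0 ^ m * a := by
      intro m
      induction m with
      | zero => simp
      | succ m ih =>
        have e1 : y ^ (m + 1) * a * (y ^ (m + 1))⁻¹ = y * (y ^ m * a * (y ^ m)⁻¹) * y⁻¹ := by
          rw [pow_succ']
          group
        have hz0m : z0 ^ m * y = y * z0 ^ m := hNcen _ (N.pow_mem hz0N m)
        have e2 : y * (a : G) * y⁻¹ = z0 * a := by rw [hz0]; group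
        rw [e1, ih, ← mul_assoc, ← hz0m, mul_assoc (z0 ^ m), mul_assoc (z0 ^ m), e2, ← mul_assoc,
          ← pow_succ]
    have hfixA : ∀ a' ∈ A, a' * (a : G) * a'⁻¹ * (a : G)⁻¹ ∈ N := by
      intro a' ha'
      have h2 : a' ∈ Submonoid.powers y := (mem_powers_iff_mem_zpowers).mpr ha'
      obtain ⟨m, rfl⟩ := h2
      rw [hpowa, mul_inv_cancel_right]
      exact N.pow_mem hz0N m
    obtain ⟨c, hc, hac⟩ := coprime_fixed_points_quotient A P hAP hcopA (Or.inr hPsolv) N hNP hPN
      hAN (a : G) a.2 hfixA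
    have hcN : c ∈ N := by
      rw [← hNy]
      refine Subgroup.mem_inf.mpr ⟨(Subgroup.mem_inf.mp hc).1, ?_⟩
      rw [Subgroup.mem_centralizer_singleton_iff]
      exact (Subgroup.mem_centralizer_iff.mp (Subgroup.mem_inf.mp hc).2 y
        (Subgroup.mem_zpowers y)).symm
    have haN : (a : G) ∈ N := by
      have e : (a : G) = c * ((a : G)⁻¹ * c)⁻¹ := by group
      rw [e]
      exact N.mul_mem hcN (N.inv_mem hac)
    exact (hmemN a).mp haN
  have key := extraspecial_fpf_abs hP n hn α hh0 hαh hαZ hfpf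
  have hpn : 1 ≤ p ^ n := Nat.one_le_pow _ _ hp.out.pos
  rcases key with h2 | h2
  · right
    have e : (((p ^ n - 1 : ℕ) : ℤ)) = ((p ^ n : ℕ) : ℤ) - 1 := by
      rw [Nat.cast_sub hpn]
      simp
    rw [← e] at h2
    exact Int.natCast_dvd_natCast.mp h2
  · left
    have e : (((p ^ n + 1 : ℕ) : ℤ)) = ((p ^ n : ℕ) : ℤ) + 1 := by
      push_cast
      rfl
    rw [← e] at h2
    exact Int.natCast_dvd_natCast.mp h2

end Cfsg.Agent.Lib.Helper1.XS
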