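import Mathlib
import Cfsg.Agent.Lib.Helper1.XS6

/-! Variant of the class-two inequality where the operator has at most a line of fixed points. -/
set_option autoImplicit false
set_option maxHeartbeats 4000000
set_option linter.unusedVariables false
set_option linter.unusedSectionVars false
set_option linter.style.longLine false
open scoped BigOperators commutatorElement
open Module

namespace Cfsg.Agent.Lib.Helper1.XS

universe u v w

variable {K : Type u} [Field K] {U : Type v} [AddCommGroup U] [Module K U]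

theorem card_pairs_le_centralizer [FiniteDimensional K U] (S : Module.End K U)
    {ι : Type*} [Fintype ι] (b : Basis ι K U) (s : ι → K) (hs : ∀ i, S (b i) = s i • b i) :
    Nat.card {p : ι × ι // s p.1 = s p.2} ≤
      finrank K (Subalgebra.centralizer K ({S} : Set (Module.End K U))) := by
  classical
  let e : ι × ι → Module.End K U := fun p => (b.coord p.2).smulRight (b p.1)
  have he_apply : ∀ (p : ι × ι) (k : ι), e p (b k) = if p.2 = k then b p.1 else 0 := by
    intro p k
    show (b.coord p.2) (b k) • b p.1 = _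
    rw [Basis.coord_apply, Basis.repr_self, Finsupp.single_apply]
    by_cases h : k = p.2
    · rw [if_pos h, if_pos h.symm, one_smul]
    · rw [if_neg h, if_neg (fun h' => h h'.symm), zero_smul]
  have he_comm : ∀ p : ι × ι, s p.1 = s p.2 → S * e p = e p * S := by
    intro p hp
    apply b.ext
    intro k
    rw [Module.End.mul_apply, Module.End.mul_apply, he_apply, hs k, map_smul, he_apply]
    by_cases h : p.2 = k
    · rw [if_pos h, hs, hp, h]
    · rw [if_neg h, map_zero, smul_zero]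
  have hli : LinearIndependent K e := by
    rw [Fintype.linearIndependent_iff]
    intro g hg p
    have h1 := congrArg (fun m : Module.End K U => b.coord p.1 (m (b p.2))) hg
    simp only [LinearMap.sum_apply, LinearMap.smul_apply, he_apply, map_sum, map_smul,
      LinearMap.zero_apply, map_zero] at h1
    rw [Finset.sum_eq_single p] at h1
    · simpa using h1
    · intro q _ hq
      by_cases h2 : q.2 = p.2
      · rw [if_pos h2]
        have h3 : q.1 ≠ p.1 := fun h3 => hq (Prod.ext h3 h2)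
        rw [Basis.coord_apply, Basis.repr_self, Finsupp.single_apply, if_neg h3, smul_zero]
      · rw [if_neg h2, map_zero, smul_zero]
    · intro h
      exact absurd (Finset.mem_univ p) h
  let P := {p : ι × ι // s p.1 = s p.2}
  let e' : P → Module.End K U := fun p => e p.1
  have hli' : LinearIndependent K e' := hli.comp _ Subtype.val_injective
  have hspan : Submodule.span K (Set.range e') ≤
      Subalgebra.toSubmodule (Subalgebra.centralizer K ({S} : Set (Module.End K U))) := by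
    rw [Submodule.span_le]
    rintro _ ⟨p, rfl⟩
    rw [SetLike.mem_coe, Subalgebra.mem_toSubmodule, Subalgebra.mem_centralizer_iff]
    intro g hg
    rw [Set.mem_singleton_iff] at hg
    rw [hg]
    exact he_comm p.1 p.2
  have h2 := Submodule.finrank_mono hspan
  rw [finrank_span_eq_card hli', Subalgebra.finrank_toSubmodule] at h2
  rw [Nat.card_eq_fintype_card]
  exact h2

theorem sq_finrank_pred_le [IsAlgClosed K] [FiniteDimensional K U] (S : Module.End K U) {r : ℕ}
    (hr : 0 < r) (hrK : (r : K) ≠ 0) (hS : S ^ r = 1) (u₀ : U)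
    (hfix : ∀ u, S u = u → ∃ k : K, u = k • u₀) :
    (finrank K U - 1) ^ 2 ≤
      (r - 1) * finrank K (Subalgebra.centralizer K ({S} : Set (Module.End K U))) := by
  classical
  obtain ⟨ι, _, b, s, hs⟩ := exists_eigenbasis S hrK hS
  have hs_pow : ∀ i, s i ^ r = 1 := by
    intro i
    have h1 := pow_apply_eigen S (hs i) r
    rw [hS, Module.End.one_apply] at h1
    have h2 : (s i ^ r - 1) • b i = 0 := by rw [sub_smul, one_smul, ← h1, sub_self]
    rcases smul_eq_zero.mp h2 with h3 | h3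
    · exact sub_eq_zero.mp h3
    · exact absurd h3 (b.ne_zero i)
  have hone : ∀ i j, s i = 1 → s j = 1 → i = j := by
    intro i j hi hj
    by_contra hij
    obtain ⟨ki, hki⟩ := hfix (b i) (by rw [hs i, hi, one_smul])
    obtain ⟨kj, hkj⟩ := hfix (b j) (by rw [hs j, hj, one_smul])
    have h1 : kj • b i = ki • b j := by
      rw [hki, hkj, smul_smul, smul_smul, mul_comm]
    have h2 : kj = 0 := by
      have h3 := congrArg (fun v => b.repr v i) h1
      simp only [map_smul, Finsupp.smul_apply, Basis.repr_self, Finsupp.single_apply,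
        smul_eq_mul] at h3
      rw [if_pos trivial, if_neg (fun h => hij h.symm), mul_one, mul_zero] at h3
      exact h3
    apply b.ne_zero j
    rw [hkj, h2, zero_smul]
  have h1 : Fintype.card {i : ι // s i = 1} ≤ 1 := by
    rw [Fintype.card_le_one_iff]
    rintro ⟨i, hi⟩ ⟨j, hj⟩
    exact Subtype.ext (hone i j hi hj)
  have h2 : Fintype.card {i : ι // ¬ s i = 1} =
      Fintype.card ι - Fintype.card {i : ι // s i = 1} := Fintype.card_subtype_compl _
  have hcard : Fintype.card ι - 1 ≤ Fintype.card {i : ι // ¬ s i = 1} := by omega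
  have h3 := comb_ineq (fun i : {i : ι // ¬ s i = 1} => s i.1) hr (fun i => hs_pow i.1)
    (fun i => i.2)
  have h4 : Nat.card {p : {i : ι // ¬ s i = 1} × {i : ι // ¬ s i = 1} // s p.1.1 = s p.2.1} ≤
      Nat.card {p : ι × ι // s p.1 = s p.2} := by
    apply Nat.card_le_card_of_injective
      (fun p : {p : {i : ι // ¬ s i = 1} × {i : ι // ¬ s i = 1} // s p.1.1 = s p.2.1} =>
        (⟨(p.1.1.1, p.1.2.1), p.2⟩ : {p : ι × ι // s p.1 = s p.2}))
    rintro ⟨⟨⟨a, ha⟩, ⟨b', hb⟩⟩, h⟩ ⟨⟨⟨c, hc⟩, ⟨d, hd⟩⟩, h'⟩ hpq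
    simp only [Subtype.mk.injEq, Prod.mk.injEq] at hpq
    obtain ⟨rfl, rfl⟩ := hpq
    rfl
  have h5 := card_pairs_le_centralizer S b s hs
  rw [Module.finrank_eq_card_basis b]
  calc (Fintype.card ι - 1) ^ 2 ≤ (Fintype.card {i : ι // ¬ s i = 1}) ^ 2 :=
        Nat.pow_le_pow_left hcard 2
    _ ≤ (r - 1) * Nat.card {p : {i : ι // ¬ s i = 1} × {i : ι // ¬ s i = 1} //
          s p.1.1 = s p.2.1} := h3
    _ ≤ (r - 1) * Nat.card {p : ι × ι // s p.1 = s p.2} := Nat.mul_le_mul_left _ h4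
    _ ≤ (r - 1) * finrank K (Subalgebra.centralizer K ({S} : Set (Module.End K U))) :=
        Nat.mul_le_mul_left _ h5

theorem fixed_line_restrict (S : Module.End K U) (W : Submodule K U) (hW : ∀ w ∈ W, S w ∈ W)
    (u₀ : U) (hfix : ∀ u, S u = u → ∃ k : K, u = k • u₀) :
    ∃ w₀ : W, ∀ w : W, S.restrict hW w = w → ∃ k : K, w = k • w₀ := by
  by_cases hex : ∃ w : W, S.restrict hW w = w ∧ w ≠ 0
  · obtain ⟨w₀, hw₀, hw₀0⟩ := hex
    refine ⟨w₀, fun w hw => ?_⟩
    have h1 : S (w₀ : U) = (w₀ : U) := congrArg Subtype.val hw₀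
    have h2 : S (w : U) = (w : U) := congrArg Subtype.val hw
    obtain ⟨k₀, hk₀⟩ := hfix _ h1
    obtain ⟨k, hk⟩ := hfix _ h2
    have hk₀0 : k₀ ≠ 0 := by
      rintro rfl
      rw [zero_smul] at hk₀
      exact hw₀0 (Subtype.ext hk₀)
    refine ⟨k * k₀⁻¹, ?_⟩
    apply Subtype.ext
    rw [Submodule.coe_smul, hk₀, smul_smul, mul_assoc, inv_mul_cancel₀ hk₀0, mul_one]
    exact hk
  · push Not at hex
    refine ⟨0, fun w hw => ⟨0, ?_⟩⟩
    rw [smul_zero]
    by_contra hne
    exact hne (hex w hw)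

variable {E : Type w} [Group E] [Fintype E]

theorem core_ineq' [IsAlgClosed K] [FiniteDimensional K U] [Nontrivial U]
    {σ : E →* Module.End K U} {Z : Subgroup E} (h : Cl2 σ Z)
    (α : E ≃* E) (S : Module.End K U) {r : ℕ} (hr : r.Prime) (hrK : (r : K) ≠ 0)
    (hS : S ^ r = 1) (hSσ : ∀ a : E, S * σ a = σ (α a) * S)
    (u₀ : U) (hfix : ∀ u : U, S u = u → ∃ k : K, u = k • u₀)
    (hαr : ∀ a : E, (α ^ r) a = a) (hαZ : ∀ z ∈ Z, α z ∈ Z)
    (hfpf : ∀ a : E, a⁻¹ * α a ∈ Z → a ∈ Z) :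
    Z.index < 9 * r ^ 2 := by
  have hZn : Z.Normal := by
    refine ⟨fun z hz a => ?_⟩
    have h1 : a * z * a⁻¹ = ⁅a, z⁆ * z := by
      rw [commutatorElement_def]
      group
    rw [h1]
    exact Z.mul_mem (h.comm_mem a z) hz
  obtain ⟨R, hR1, hR2, hR3⟩ := exists_cover Z α hr hαr hαZ hfpf
  let 𝓜 : Submodule K (Module.End K U) :=
    Subalgebra.toSubmodule (Subalgebra.centralizer K ({S} : Set (Module.End K U)))
  have hmem : ∀ m, m ∈ 𝓜 → S * m = m * S := by
    intro m hm
    have h1 : m ∈ Subalgebra.centralizer K ({S} : Set (Module.End K U)) := hm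
    rw [Subalgebra.mem_centralizer_iff] at h1
    exact h1 S (Set.mem_singleton S)
  have h1 : finrank K 𝓜 ≤ R.card * finrank K (cen σ) := by
    apply finrank_le_of_cover h 𝓜 R
    intro m hm hR a
    apply hR3 {a | avg σ (σ a⁻¹ * m) = 0}
    · intro t ht
      exact hR t ht
    · intro a ha
      have ha' : avg σ (σ a⁻¹ * m) = 0 := ha
      show avg σ (σ (α a)⁻¹ * m) = 0
      rw [avg_alpha σ α S hr.pos hS hSσ (hmem m hm), ha', mul_zero, zero_mul]
    · intro a ha z hz
      exact avg_zero_mul_Z h m hz ha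
  have h2 : (finrank K U - 1) ^ 2 ≤ (r - 1) * finrank K 𝓜 := by
    have := sq_finrank_pred_le S hr.pos hrK hS u₀ hfix
    rwa [← Subalgebra.finrank_toSubmodule] at this
  have h3 := sq_eq_index_mul h
  have hb := cen_finrank_pos σ
  have hN : 0 < finrank K U := Module.finrank_pos
  by_contra hge
  push Not at hge
  obtain ⟨s, rfl⟩ : ∃ s, r = s + 1 := ⟨r - 1, (Nat.sub_add_cancel hr.one_le).symm⟩
  obtain ⟨n, hn⟩ : ∃ n, finrank K U = n + 1 := ⟨finrank K U - 1, (Nat.sub_add_cancel hN).symm⟩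
  have hs1 : 1 ≤ s := by
    have := hr.two_le
    omega
  rw [hn] at h2 h3
  rw [Nat.add_sub_cancel] at h2
  rw [Nat.add_sub_cancel] at h2
  generalize finrank K 𝓜 = D at h1 h2
  generalize finrank K (cen σ) = e at h1 h3 hb
  generalize R.card = c at h1 hR1
  generalize Z.index = ι at hR1 h3 hge
  have hC : c * (s + 1) ≤ ι + s := by
    have : ι + (s + 1) - 1 = ι + s := by omega
    rw [← this]
    exact hR1
  -- step 1
  have hP1 : (s + 1) * n ^ 2 ≤ s * ((ι + s) * e) := by
    calc (s + 1) * n ^ 2 ≤ (s + 1) * (s * D) := Nat.mul_le_mul_left _ h2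
      _ ≤ (s + 1) * (s * (c * e)) := Nat.mul_le_mul_left _ (Nat.mul_le_mul_left _ h1)
      _ = s * ((c * (s + 1)) * e) := by ring
      _ ≤ s * ((ι + s) * e) := Nat.mul_le_mul_left _ (Nat.mul_le_mul_right _ hC)
  have hP2 : 9 * (s + 1) ^ 2 * e ≤ (n + 1) ^ 2 := by
    rw [h3]
    exact Nat.mul_le_mul_right _ hge
  have hP2' : 9 * (s + 1) ^ 2 ≤ (n + 1) ^ 2 := by
    calc 9 * (s + 1) ^ 2 = 9 * (s + 1) ^ 2 * 1 := (mul_one _).symm
      _ ≤ 9 * (s + 1) ^ 2 * e := Nat.mul_le_mul_left _ hb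
      _ ≤ (n + 1) ^ 2 := hP2
  have hP3 : 3 * (s + 1) ≤ n + 1 := by
    by_contra hlt
    push Not at hlt
    have : (n + 1) ^ 2 < (3 * (s + 1)) ^ 2 := Nat.pow_lt_pow_left hlt (by norm_num)
    nlinarith
  have hP4 : 9 * (s + 1) * n ^ 2 ≤ (9 * s + 1) * (n + 1) ^ 2 := by
    have h5 : 9 * (s ^ 2 * e) ≤ (n + 1) ^ 2 := by
      have : s ^ 2 ≤ (s + 1) ^ 2 := Nat.pow_le_pow_left (Nat.le_succ s) 2
      calc 9 * (s ^ 2 * e) ≤ 9 * ((s + 1) ^ 2 * e) :=
            Nat.mul_le_mul_left _ (Nat.mul_le_mul_right _ this)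
        _ = 9 * (s + 1) ^ 2 * e := by ring
        _ ≤ (n + 1) ^ 2 := hP2
    have h6 : s * ((ι + s) * e) = s * (n + 1) ^ 2 + s ^ 2 * e := by
      rw [h3]; ring
    rw [h6] at hP1
    nlinarith [hP1, h5]
  have hn2 : 2 ≤ n := by omega
  have h8 : 8 * (n * n) ≤ 18 * (s * n) + 9 * s + 2 * n + 1 := by nlinarith [hP4]
  have h9 : (3 * s + 2) * n ≤ n * n := Nat.mul_le_mul_right n (by omega)
  have h10 : s * 2 ≤ s * n := Nat.mul_le_mul_left s hn2
  nlinarith [h8, h9, h10, hn2, hs1]

end Cfsg.Agent.Lib.Helper1.XS
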