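import Mathlib
import Cfsg.Agent.Lib.Helper1.XS10
import Cfsg.Agent.Lib.Helper1.XS28

/-! Group-level version of the class-two case with a cyclic group of fixed points. -/
set_option autoImplicit false
set_option maxHeartbeats 4000000
set_option linter.unusedVariables false
set_option linter.unusedSectionVars false
set_option linter.style.longLine false
open scoped BigOperators commutatorElement

namespace Cfsg.Agent.Lib.Helper1.XS

universe u

theorem amb' {G : Type u} [Group G] [Finite G] {p r : ℕ} (hp : p.Prime) (hr : r.Prime)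
    (hpr : p ≠ r) (Q Z V : Subgroup G) (x : G)
    (hVc : ∀ a ∈ V, ∀ b ∈ V, a * b = b * a) (hVp : ∀ a ∈ V, a ^ p = 1)
    (hQV : Q ≤ Subgroup.normalizer (V : Set G)) (hxV : x ∈ Subgroup.normalizer (V : Set G))
    (hxr : x ^ r = 1) (hxQ : x ∈ Subgroup.normalizer (Q : Set G))
    (hpQ : ¬ p ∣ Nat.card Q)
    (hZQ : Z ≤ Q) (hZc : ∀ z ∈ Z, ∀ a ∈ Q, z * a = a * z) (hZx : ∀ z ∈ Z, x * z = z * x)
    (hcomm : ∀ a ∈ Q, ∀ b ∈ Q, ⁅a, b⁆ ∈ Z)
    (hfpf : ∀ a ∈ Q, a⁻¹ * (x * a * x⁻¹) ∈ Z → a ∈ Z)
    (d : G) (hdQ : d ∈ Q) (hdV : d ∉ Subgroup.centralizer (V : Set G))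
    (hnd : ∀ N : Subgroup G, N ≤ Q → Q ≤ Subgroup.normalizer (N : Set G) →
        x ∈ Subgroup.normalizer (N : Set G) → d ∉ N →
        ∀ g ∈ Q, (∀ a ∈ Q, ⁅a, g⁆ ∈ N) → g ∈ Z)
    (c : G) (hcV : c ∈ V) (hCV : ∀ v ∈ V, x * v = v * x → ∃ k : ℕ, v = c ^ k) :
    Z.relIndex Q < 9 * r ^ 2 := by
  classical
  let Γ : Subgroup G := Subgroup.normalizer (V : Set G)
  let instC : CommGroup V :=
    { (inferInstance : Group V) with
      mul_comm := fun a b => Subtype.ext (hVc a a.2 b b.2) }
  let φ : ↥Γ →* Monoid.End V := conjEnd V Γ le_rfl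
  have hφ : ∀ (g : ↥Γ) (v : V), ((φ g v : V) : G) = (g : G) * v * (g : G)⁻¹ := fun g v => rfl
  have hexp : ∀ m : V, m ^ p = 1 := by
    intro m
    apply Subtype.ext
    rw [Subgroup.coe_pow]
    exact hVp m m.2
  let Q' : Subgroup ↥Γ := Q.subgroupOf Γ
  let Z' : Subgroup ↥Γ := Z.subgroupOf Γ
  let x' : ↥Γ := ⟨x, hxV⟩
  have hcomm_coe : ∀ a b : ↥Γ, ((⁅a, b⁆ : ↥Γ) : G) = ⁅(a : G), (b : G)⁆ := by
    intro a b
    simp [commutatorElement_def]
  have key := amb_abs' hp hr hpr φ hexp Q' Z' x'
    (by
      apply Subtype.ext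
      rw [Subgroup.coe_pow]
      exact hxr)
    (by
      rw [Subgroup.mem_normalizer_iff]
      intro g
      rw [Subgroup.mem_subgroupOf, Subgroup.mem_subgroupOf]
      exact Subgroup.mem_normalizer_iff.mp hxQ g)
    (by
      have h1 : Nat.card Q' = Nat.card Q :=
        Nat.card_congr (Subgroup.subgroupOfEquivOfLe hQV).toEquiv
      rw [h1]
      exact hpQ)
    (by
      intro z hz
      rw [Subgroup.mem_subgroupOf] at hz ⊢
      exact hZQ hz)
    (by
      intro z hz a ha
      rw [Subgroup.mem_subgroupOf] at hz ha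
      apply Subtype.ext
      rw [Subgroup.coe_mul, Subgroup.coe_mul]
      exact hZc z hz a ha)
    (by
      intro z hz
      rw [Subgroup.mem_subgroupOf] at hz
      apply Subtype.ext
      rw [Subgroup.coe_mul, Subgroup.coe_mul]
      exact hZx z hz)
    (by
      intro a ha b hb
      rw [Subgroup.mem_subgroupOf] at ha hb ⊢
      rw [hcomm_coe]
      exact hcomm a ha b hb)
    (by
      intro a ha h
      rw [Subgroup.mem_subgroupOf] at ha h ⊢
      apply hfpf a ha
      have h1 : ((a⁻¹ * (x' * a * x'⁻¹) : ↥Γ) : G) = (a : G)⁻¹ * (x * a * x⁻¹) := by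
        simp [x']
      rw [← h1]
      exact h)
    ⟨d, hQV hdQ⟩
    (by
      rw [Subgroup.mem_subgroupOf]
      exact hdQ)
    (by
      by_contra hcon
      push Not at hcon
      apply hdV
      rw [Subgroup.mem_centralizer_iff]
      intro v hv
      have h1 := congrArg Subtype.val (hcon ⟨v, hv⟩)
      rw [hφ] at h1
      have h2 : d * v * d⁻¹ = v := h1
      rw [mul_inv_eq_iff_eq_mul] at h2
      exact h2.symm)
    (by
      intro N' hN'Q hN'norm hN'x hdN' g hg hcg
      rw [Subgroup.mem_subgroupOf] at hg ⊢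
      let N : Subgroup G := N'.map Γ.subtype
      have hNmem : ∀ n : ↥Γ, (n : G) ∈ N ↔ n ∈ N' := by
        intro n
        constructor
        · rintro ⟨n₁, hn₁, h⟩
          have : n₁ = n := Subtype.ext h
          rw [← this]
          exact hn₁
        · intro h
          exact ⟨n, h, rfl⟩
      apply hnd N
      · rintro _ ⟨n, hn, rfl⟩
        exact Subgroup.mem_subgroupOf.mp (hN'Q hn)
      · apply FM.mem_normalizer_of_conj
        rintro a ha _ ⟨n, hn, rfl⟩
        have h1 := hN'norm ⟨a, hQV ha⟩ (Subgroup.mem_subgroupOf.mpr ha) n hn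
        exact ⟨_, h1, rfl⟩
      · have h0 : Subgroup.zpowers x ≤ Subgroup.normalizer (N : Set G) := by
          apply FM.mem_normalizer_of_conj
          intro a ha
          obtain ⟨k, rfl⟩ := Subgroup.mem_zpowers_iff.mp ha
          rintro _ ⟨n, hn, rfl⟩
          -- conjugation by powers of x'
          have h2 : ∀ k : ℤ, ∀ n ∈ N', x' ^ k * n * (x' ^ k)⁻¹ ∈ N' := by
            intro k
            have hsub : x' ^ k ∈ Subgroup.normalizer (N' : Set ↥Γ) := by
              apply Subgroup.zpow_mem
              rw [Subgroup.mem_normalizer_iff]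
              intro n
              constructor
              · exact hN'x n
              · intro hn
                have h3 : ∀ j : ℕ, ∀ m ∈ N', x' ^ j * m * (x' ^ j)⁻¹ ∈ N' := by
                  intro j
                  induction j with
                  | zero => intro m hm; simpa using hm
                  | succ j ih =>
                    intro m hm
                    have := hN'x _ (ih m hm)
                    have e : x' * (x' ^ j * m * (x' ^ j)⁻¹) * x'⁻¹
                        = x' ^ (j + 1) * m * (x' ^ (j + 1))⁻¹ := by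
                      rw [pow_succ']
                      group
                    rw [e] at this
                    exact this
                have h4 := h3 (r - 1) _ hn
                have hx'r : x' ^ r = 1 := by
                  apply Subtype.ext
                  rw [Subgroup.coe_pow]
                  exact hxr
                have h5 : x' ^ (r - 1) = x'⁻¹ := by
                  rw [eq_inv_iff_mul_eq_one, ← pow_succ, Nat.sub_add_cancel hr.one_le, hx'r]
                rw [h5] at h4
                have e : x'⁻¹ * (x' * n * x'⁻¹) * x'⁻¹⁻¹ = n := by group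
                rw [e] at h4
                exact h4
            intro n hn
            exact (Subgroup.mem_normalizer_iff.mp hsub n).mp hn
          have h3 := h2 k n hn
          refine ⟨_, h3, ?_⟩
          simp [x']
        exact h0 (Subgroup.mem_zpowers x)
      · intro hdN
        exact hdN' ((hNmem ⟨d, hQV hdQ⟩).mp hdN)
      · exact hg
      · intro a ha
        have h1 := hcg ⟨a, hQV ha⟩ (Subgroup.mem_subgroupOf.mpr ha)
        have h2 := (hNmem _).mpr h1
        rw [hcomm_coe] at h2
        exact h2)
    ⟨c, hcV⟩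
    (by
      intro m hm
      have h1 := congrArg Subtype.val hm
      rw [hφ] at h1
      have h2 : x * (m : G) * x⁻¹ = m := h1
      rw [mul_inv_eq_iff_eq_mul] at h2
      obtain ⟨k, hk⟩ := hCV m m.2 h2
      refine ⟨k, ?_⟩
      apply Subtype.ext
      rw [Subgroup.coe_pow]
      exact hk)
  rw [Subgroup.relIndex_subgroupOf hQV] at key
  exact key

end Cfsg.Agent.Lib.Helper1.XS
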