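import Mathlib
import Cfsg.Agent.Lib.Helper1.Yo7
set_option autoImplicit false
namespace Cfsg.Agent.Lib.Helper1.Yo

section SeqHom
variable {X : Type*} [Group X] {A : Type*} [CommGroup A]

/-- the sequence `i ↦ ν(z⁻ⁱ m zⁱ)` as a homomorphism -/
def seqHom (M : Subgroup X) (ν : ↥M →* A) (z : X) (hz : ∀ m ∈ M, z⁻¹ * m * z ∈ M) :
    ↥M →* (ℕ → A) where
  toFun m i := ν ⟨(z ^ i)⁻¹ * (m : X) * z ^ i, conj_pow_mem M z hz i m.2⟩
  map_one' := by
    funext i
    have : (⟨(z ^ i)⁻¹ * ((1 : ↥M) : X) * z ^ i, conj_pow_mem M z hz i (1 : ↥M).2⟩ : ↥M) = 1 := by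
      apply Subtype.ext
      simp
    rw [this, map_one]
    rfl
  map_mul' a b := by
    funext i
    rw [Pi.mul_apply, ← map_mul]
    congr 1
    apply Subtype.ext
    push_cast
    group

theorem seqHom_apply (M : Subgroup X) (ν : ↥M →* A) (z : X) (hz : ∀ m ∈ M, z⁻¹ * m * z ∈ M)
    (m : ↥M) (i : ℕ) :
    seqHom M ν z hz m i = ν ⟨(z ^ i)⁻¹ * (m : X) * z ^ i, conj_pow_mem M z hz i m.2⟩ := rfl

/-- the shift on sequences -/
def shiftHom (A : Type*) [CommGroup A] : (ℕ → A) →* (ℕ → A) where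
  toFun f i := f (i + 1)
  map_one' := rfl
  map_mul' _ _ := rfl

/-- `Δ = T - 1` on sequences -/
def deltaHom (A : Type*) [CommGroup A] : (ℕ → A) →* (ℕ → A) :=
  shiftHom A / MonoidHom.id (ℕ → A)

theorem deltaHom_apply (f : ℕ → A) : deltaHom A f = shiftHom A f * f⁻¹ := by
  unfold deltaHom
  rw [MonoidHom.div_apply, MonoidHom.id_apply, div_eq_mul_inv]

theorem shift_iterate (l : ℕ) (f : ℕ → A) (i : ℕ) : ((shiftHom A)^[l]) f i = f (l + i) := by
  induction l generalizing f i with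
  | zero => rw [Function.iterate_zero, id, Nat.zero_add]
  | succ l ih =>
    rw [Function.iterate_succ_apply']
    show ((shiftHom A)^[l]) f (i + 1) = _
    rw [ih]
    congr 1
    omega

theorem seqHom_comm (M : Subgroup X) (ν : ↥M →* A) (z : X) (hz : ∀ m ∈ M, z⁻¹ * m * z ∈ M)
    (m : ↥M) :
    seqHom M ν z hz ⟨iterComm z 1 (m : X), iterComm_mem M z hz 1 m.2⟩
      = deltaHom A (seqHom M ν z hz m) := by
  rw [deltaHom_apply]
  have h1 : (⟨iterComm z 1 (m : X), iterComm_mem M z hz 1 m.2⟩ : ↥M)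
      = m⁻¹ * ⟨z⁻¹ * (m : X) * z, hz _ m.2⟩ := by
    apply Subtype.ext
    show iterComm z 1 (m : X) = (m : X)⁻¹ * (z⁻¹ * (m : X) * z)
    rw [iterComm_succ, iterComm_zero]
    group
  rw [h1, map_mul, map_inv, mul_comm]
  congr 1
  funext i
  show _ = seqHom M ν z hz m (i + 1)
  rw [seqHom_apply, seqHom_apply]
  congr 1
  apply Subtype.ext
  show (z ^ i)⁻¹ * (z⁻¹ * (m : X) * z) * z ^ i = (z ^ (i + 1))⁻¹ * (m : X) * z ^ (i + 1)
  rw [pow_succ]
  group

theorem seqHom_iterComm (M : Subgroup X) (ν : ↥M →* A) (z : X) (hz : ∀ m ∈ M, z⁻¹ * m * z ∈ M)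
    (m : ↥M) (j : ℕ) :
    seqHom M ν z hz ⟨iterComm z j (m : X), iterComm_mem M z hz j m.2⟩
      = ((deltaHom A)^[j]) (seqHom M ν z hz m) := by
  induction j with
  | zero => rfl
  | succ j ih =>
    rw [Function.iterate_succ_apply', ← ih, ← seqHom_comm]
    congr 1
    apply Subtype.ext
    show iterComm z (j + 1) (m : X) = iterComm z 1 (iterComm z j (m : X))
    rw [iterComm_succ, iterComm_succ, iterComm_zero]

/-- periodicity when `z^p ∈ M` -/
theorem seqHom_periodic (M : Subgroup X) (ν : ↥M →* A) (z : X) (hz : ∀ m ∈ M, z⁻¹ * m * z ∈ M)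
    (n : ℕ) (hzn : z ^ n ∈ M) (m : ↥M) (i : ℕ) :
    seqHom M ν z hz m (n + i) = seqHom M ν z hz m i := by
  have h1 : seqHom M ν z hz (⟨z ^ n, hzn⟩⁻¹ * m * ⟨z ^ n, hzn⟩) = seqHom M ν z hz m := by
    rw [map_mul, map_mul, map_inv, mul_comm, ← mul_assoc, mul_inv_cancel, one_mul]
  conv_rhs => rw [← h1]
  rw [seqHom_apply, seqHom_apply]
  congr 1
  apply Subtype.ext
  push_cast
  rw [pow_add]
  group

end SeqHom

section Count
variable {X : Type*} [Group X] {A : Type*} [CommGroup A] {p : ℕ} [hp : Fact p.Prime]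

theorem prod_shift_telescope (g : ℕ → A) (n : ℕ) :
    ∏ l ∈ Finset.range n, g (l + 1) = (∏ l ∈ Finset.range n, g l) * g n / g 0 := by
  induction n with
  | zero => simp
  | succ n ih =>
    rw [Finset.prod_range_succ, ih, Finset.prod_range_succ]
    rw [div_mul_eq_mul_div]

/-- `Δ^p` kills periodic sequences (exponent `p`) -/
theorem delta_iterate_p_eq_one (hA : ∀ a : A, a ^ p = 1) (f : ℕ → A)
    (hper : ∀ i, f (p + i) = f i) : ((deltaHom A)^[p]) f = 1 := by
  have hexpB : ∀ f : ℕ → A, f ^ p = 1 := by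
    intro f
    funext i
    rw [Pi.pow_apply, hA]
    rfl
  have h1 := prod_iterate_eq p hexpB (shiftHom A) f
  have hΔ : (fun x : ℕ → A => shiftHom A x * x⁻¹) = deltaHom A := by
    funext x
    rw [deltaHom_apply]
  rw [hΔ] at h1
  obtain ⟨k, hk⟩ : ∃ k, p = k + 1 := ⟨p - 1, by have := hp.out.pos; omega⟩
  have h2 : ((deltaHom A)^[p]) f = deltaHom A (((deltaHom A)^[p - 1]) f) := by
    conv_lhs => rw [hk]
    rw [Function.iterate_succ_apply']
    congr 2
    omega
  rw [h2, ← h1, deltaHom_apply]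
  funext i
  rw [Pi.mul_apply, Pi.inv_apply, Pi.one_apply]
  show (∏ l ∈ Finset.range p, ((shiftHom A)^[l]) f) (i + 1)
    * ((∏ l ∈ Finset.range p, ((shiftHom A)^[l]) f) i)⁻¹ = 1
  rw [Finset.prod_apply, Finset.prod_apply]
  have h3 : ∀ l ∈ Finset.range p, ((shiftHom A)^[l]) f (i + 1) = f (l + 1 + i) := by
    intro l _
    rw [shift_iterate]
    congr 1
    omega
  have h4 : ∀ l ∈ Finset.range p, ((shiftHom A)^[l]) f i = f (l + i) := by
    intro l _
    rw [shift_iterate]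
  rw [Finset.prod_congr rfl h3, Finset.prod_congr rfl h4]
  rw [prod_shift_telescope (fun l => f (l + i)) p, hper, Nat.zero_add]
  rw [mul_div_assoc, div_self', mul_one, mul_inv_cancel]

/-- **The counting lemma**: if `ν([e, z; p-1]) ≠ 1` then the `p` conjugates of `ker ν` under `z`
intersect in a subgroup of index at least `p^p`. -/
theorem pow_le_index_ker_seqHom [Finite X] (hA : ∀ a : A, a ^ p = 1)
    (M : Subgroup X) (hMp : IsPGroup p ↥M) (ν : ↥M →* A) (z : X)
    (hz : ∀ m ∈ M, z⁻¹ * m * z ∈ M) (hzp : z ^ p ∈ M) (e : X) (he : e ∈ M)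
    (hne : ν ⟨iterComm z (p - 1) e, iterComm_mem M z hz (p - 1) he⟩ ≠ 1) :
    p ^ p ≤ (seqHom M ν z hz).ker.index := by
  classical
  obtain ⟨Nu, hNu⟩ : ∃ Nu : ↥M →* (ℕ → A), Nu = seqHom M ν z hz := ⟨_, rfl⟩
  rw [← hNu]
  obtain ⟨NJ, hNJ0, hNJs⟩ : ∃ NJ : ℕ → (↥M →* (ℕ → A)), NJ 0 = Nu ∧
      ∀ j, NJ (j + 1) = (deltaHom A).comp (NJ j) :=
    ⟨fun j => Nat.rec Nu (fun _ f => (deltaHom A).comp f) j, rfl, fun j => rfl⟩
  have hNJ : ∀ j (m : ↥M), NJ j m = ((deltaHom A)^[j]) (Nu m) := by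
    intro j
    induction j with
    | zero => intro m; rw [hNJ0]; rfl
    | succ j ih =>
      intro m
      rw [hNJs, MonoidHom.comp_apply, ih, Function.iterate_succ_apply']
  have hNJp : ∀ m : ↥M, NJ p m = 1 := by
    intro m
    rw [hNJ, hNu]
    exact delta_iterate_p_eq_one hA _ (fun i => seqHom_periodic M ν z hz p hzp m i)
  have hmono : ∀ j, (NJ j).ker ≤ (NJ (j + 1)).ker := by
    intro j m hm
    rw [MonoidHom.mem_ker] at hm ⊢
    rw [hNJs, MonoidHom.comp_apply, hm, map_one]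
  -- the witnesses
  have hstrict : ∀ j, j < p → ¬ (NJ (j + 1)).ker ≤ (NJ j).ker := by
    intro j hj hle
    have hmem : iterComm z (p - 1 - j) e ∈ M := iterComm_mem M z hz _ he
    have hA2 : Nu ⟨iterComm z (p - 1 - j) e, hmem⟩
        = ((deltaHom A)^[p - 1 - j]) (Nu ⟨e, he⟩) := by
      rw [hNu]
      exact seqHom_iterComm M ν z hz ⟨e, he⟩ (p - 1 - j)
    have h1 : NJ (j + 1) ⟨iterComm z (p - 1 - j) e, hmem⟩ = 1 := by
      rw [hNJ, hA2, ← Function.iterate_add_apply]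
      have e1 : j + 1 + (p - 1 - j) = p := by omega
      rw [e1, ← hNJ]
      exact hNJp _
    have h2 := hle h1
    rw [MonoidHom.mem_ker, hNJ, hA2, ← Function.iterate_add_apply] at h2
    have e2 : j + (p - 1 - j) = p - 1 := by omega
    rw [e2, hNu] at h2
    have h3 := seqHom_iterComm M ν z hz ⟨e, he⟩ (p - 1)
    rw [h2] at h3
    have h4 := congrFun h3 0
    rw [seqHom_apply, Pi.one_apply] at h4
    apply hne
    rw [← h4]
    congr 1
    apply Subtype.ext
    simp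
  -- counting
  have hcount : ∀ j, j ≤ p → p ^ j * (NJ j).ker.index ≤ (NJ 0).ker.index := by
    intro j
    induction j with
    | zero => intro _; simp
    | succ j ih =>
      intro hj
      have hjp : j < p := hj
      have h1 := Subgroup.relIndex_mul_index (hmono j)
      have hKp : IsPGroup p ↥(NJ (j + 1)).ker := hMp.to_subgroup _
      obtain ⟨n, hn⟩ := hKp.index ((NJ j).ker.subgroupOf (NJ (j + 1)).ker)
      have hn' : (NJ j).ker.relIndex (NJ (j + 1)).ker = p ^ n := hn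
      have hn0 : n ≠ 0 := by
        rintro rfl
        rw [pow_zero, Subgroup.relIndex_eq_one] at hn'
        exact hstrict j hjp hn'
      have h2 : p ≤ (NJ j).ker.relIndex (NJ (j + 1)).ker := by
        rw [hn']
        calc p = p ^ 1 := (pow_one p).symm
          _ ≤ p ^ n := Nat.pow_le_pow_right hp.out.pos (by omega)
      calc p ^ (j + 1) * (NJ (j + 1)).ker.index
          = p ^ j * (p * (NJ (j + 1)).ker.index) := by ring
        _ ≤ p ^ j * ((NJ j).ker.relIndex (NJ (j + 1)).ker * (NJ (j + 1)).ker.index) :=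
            Nat.mul_le_mul_left _ (Nat.mul_le_mul_right _ h2)
        _ = p ^ j * (NJ j).ker.index := by rw [h1]
        _ ≤ (NJ 0).ker.index := ih (by omega)
  have h5 := hcount p le_rfl
  have h6 : (NJ p).ker = ⊤ := by
    rw [eq_top_iff]
    intro m _
    exact hNJp m
  rw [h6, Subgroup.index_top, mul_one, hNJ0] at h5
  exact h5

end Count

end Cfsg.Agent.Lib.Helper1.Yo
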