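import Mathlib
import Cfsg.Agent.Lib.Helper1.Yo8
set_option autoImplicit false
namespace Cfsg.Agent.Lib.Helper1.Yo
open scoped commutatorElement

section
variable {X : Type*} [Group X] {p : ℕ} [hp : Fact p.Prime]

/-- a subgroup `N` with `z ∉ N`, `z^p ∈ N`, and `X = ⋃ N z^{-i}` is maximal -/
theorem isCoatom_of_cover (N : Subgroup X) (z : X) (hz : z ∉ N) (hzp : z ^ p ∈ N)
    (hcover : ∀ w : X, ∃ i : ℕ, w * z ^ i ∈ N) : IsCoatom N := by
  refine ⟨fun h => hz (h ▸ Subgroup.mem_top _), fun Y hY => ?_⟩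
  obtain ⟨y, hyY, hyN⟩ := SetLike.exists_of_lt hY
  obtain ⟨i, hi⟩ := hcover y
  have hzi : z ^ i ∈ Y := by
    have := Y.mul_mem (Y.inv_mem hyY) (hY.le hi)
    rwa [inv_mul_cancel_left] at this
  have hpi : ¬ p ∣ i := by
    rintro ⟨j, rfl⟩
    apply hyN
    have h1 : z ^ (p * j) ∈ N := by
      rw [pow_mul]; exact N.pow_mem hzp j
    have := N.mul_mem hi (N.inv_mem h1)
    rwa [mul_inv_cancel_right] at this
  have hcop : Nat.Coprime i p := (Nat.coprime_comm.mp ((hp.out.coprime_iff_not_dvd).mpr hpi))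
  have hzY : z ∈ Y := mem_of_pow_mem_of_coprime Y _ i p hcop hzi (hY.le hzp)
  rw [eq_top_iff]
  intro w _
  obtain ⟨j, hj⟩ := hcover w
  have := Y.mul_mem (hY.le hj) (Y.inv_mem (Y.pow_mem hzY j))
  rwa [mul_inv_cancel_right] at this

omit hp in
theorem padicValNat_factorial_sq [hp' : Fact p.Prime] : padicValNat p (p ^ 2).factorial = p + 1 := by
  have hp1 : 1 < p := hp'.out.one_lt
  have hlog : Nat.log p (p ^ 2) < 3 := by
    rw [Nat.log_pow hp1]
    omega
  rw [padicValNat_factorial hlog]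
  have h1 : Finset.Ico 1 3 = {1, 2} := by decide
  rw [h1, Finset.sum_insert (by decide), Finset.sum_singleton, pow_one,
    Nat.div_self (pow_pos hp'.out.pos 2), pow_two, Nat.mul_div_cancel _ hp'.out.pos]

end

/-- **The wreath-product image**: a finite `p`-group with a Wielandt–Yoshida configuration
(for `W = ⊤`) and a homomorphism detecting `[e, z; p-1]` maps onto a Sylow `p`-subgroup of the
symmetric group of degree `p²`. -/
theorem exists_sylow_perm_surjective {X : Type*} [Group X] [Finite X] {p : ℕ} [hp : Fact p.Prime]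
    (hX : IsPGroup p X) {A : Type*} [CommGroup A] (hA : ∀ a : A, a ^ p = 1)
    (M : Subgroup X) (z : X) (hcfg : YConfig p ⊤ M z) (ν : ↥M →* A) (e : X) (he : e ∈ M)
    (hne : extOne M ν (iterComm z (p - 1) e) ≠ 1) :
    ∃ (P : Sylow p (Equiv.Perm (Fin (p ^ 2))))
      (f : X →* ↥(P : Subgroup (Equiv.Perm (Fin (p ^ 2))))), Function.Surjective f := by
  classical
  -- (a) `M` is maximal
  have hMc : IsCoatom M := isCoatom_of_cover M z hcfg.zM hcfg.pow
    (fun w => hcfg.cover w (Subgroup.mem_top w))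
  have hMi : M.index = p := index_eq_prime_of_isCoatom p hX M hMc
  have hMp : IsPGroup p ↥M := hX.to_subgroup M
  -- (b) the element `c` and a maximal subgroup of `M` avoiding it
  have hcM : iterComm z (p - 1) e ∈ M := iterComm_mem M z hcfg.norm (p - 1) he
  rw [extOne_of_mem M ν hcM] at hne
  have hcfr : (⟨iterComm z (p - 1) e, hcM⟩ : ↥M) ∉ frattini ↥M := fun h =>
    hne (frattini_le_ker_of_exponent (p := p) hA ν h)
  obtain ⟨M₁, hM₁c, hfrM₁, hcM₁⟩ := exists_coatom_not_mem p (frattini ↥M)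
    (commutator_le_frattini_of_isPGroup p hMp) (pow_prime_mem_frattini_of_isPGroup p hMp) _ hcfr
  have hM₁n : M₁.Normal := normal_of_isCoatom_of_isPGroup p hMp M₁ hM₁c
  have hM₁i : M₁.index = p := index_eq_prime_of_isCoatom p hMp M₁ hM₁c
  -- (c) the quotient `M / M₁`
  let _ : CommGroup (↥M ⧸ M₁) :=
    { (inferInstance : Group (↥M ⧸ M₁)) with
      mul_comm := by
        intro a b
        induction a using QuotientGroup.induction_on with
        | H a =>
        induction b using QuotientGroup.induction_on with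
        | H b =>
        rw [← QuotientGroup.mk_mul, ← QuotientGroup.mk_mul, QuotientGroup.eq]
        apply hfrM₁
        apply commutator_le_frattini_of_isPGroup p hMp
        have e1 : (a * b)⁻¹ * (b * a) = ⁅b⁻¹, a⁻¹⁆ := by
          rw [commutatorElement_def]; group
        rw [e1, commutator_def]
        exact Subgroup.commutator_mem_commutator (Subgroup.mem_top _) (Subgroup.mem_top _) }
  have hA' : ∀ a : ↥M ⧸ M₁, a ^ p = 1 := by
    intro a
    induction a using QuotientGroup.induction_on with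
    | H a =>
    rw [← QuotientGroup.mk_pow, QuotientGroup.eq_one_iff]
    exact hfrM₁ (pow_prime_mem_frattini_of_isPGroup p hMp a)
  let ν' : ↥M →* ↥M ⧸ M₁ := QuotientGroup.mk' M₁
  have hν' : ∀ m : ↥M, ν' m = 1 ↔ m ∈ M₁ := fun m => QuotientGroup.eq_one_iff m
  have hne' : ν' ⟨iterComm z (p - 1) e, iterComm_mem M z hcfg.norm (p - 1) he⟩ ≠ 1 := by
    rw [Ne, hν']
    exact hcM₁
  -- (d) counting
  have hcount := pow_le_index_ker_seqHom hA' M hMp ν' z hcfg.norm hcfg.pow e he hne'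
  -- (e) the action on the cosets of `M₁`
  obtain ⟨M₀, hM₀⟩ : ∃ M₀ : Subgroup X, M₀ = M₁.map M.subtype := ⟨_, rfl⟩
  have hM₀i : M₀.index = p ^ 2 := by
    rw [hM₀, Subgroup.index_map_subtype, hM₁i, hMi, pow_two]
  have hM₀mem : ∀ (x : X), x ∈ M₀ ↔ ∃ h : x ∈ M, (⟨x, h⟩ : ↥M) ∈ M₁ := by
    intro x
    rw [hM₀]
    constructor
    · rintro ⟨m, hm, rfl⟩
      exact ⟨m.2, hm⟩
    · rintro ⟨h, hm⟩
      exact ⟨⟨x, h⟩, hm, rfl⟩
  have hcardΩ : Nat.card (X ⧸ M₀) = p ^ 2 := by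
    rw [← Subgroup.index_eq_card]; exact hM₀i
  let ρ : X →* Equiv.Perm (X ⧸ M₀) := MulAction.toPermHom X (X ⧸ M₀)
  have hρ : ∀ (x : X) (q : X ⧸ M₀), ρ x q = x • q := fun x q => rfl
  have hker : ρ.ker ≤ ((seqHom M ν' z hcfg.norm).ker).map M.subtype := by
    intro x hx
    rw [MonoidHom.mem_ker] at hx
    have hfix : ∀ a : X, a⁻¹ * x * a ∈ M₀ := by
      intro a
      rw [← smul_eq_self_iff, ← hρ, hx]
      rfl
    have hxM₀ : x ∈ M₀ := by
      have := hfix 1
      simpa using this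
    obtain ⟨hxM, -⟩ := (hM₀mem x).mp hxM₀
    refine ⟨⟨x, hxM⟩, ?_, rfl⟩
    show (⟨x, hxM⟩ : ↥M) ∈ (seqHom M ν' z hcfg.norm).ker
    rw [MonoidHom.mem_ker]
    funext i
    rw [seqHom_apply, Pi.one_apply, hν']
    obtain ⟨h1, h2⟩ := (hM₀mem _).mp (hfix (z ^ i))
    exact h2
  have hidx1 : (((seqHom M ν' z hcfg.norm).ker).map M.subtype).index ∣ ρ.ker.index :=
    Subgroup.index_dvd_of_le hker
  rw [Subgroup.index_map_subtype, hMi] at hidx1
  have hρpos : 0 < ρ.ker.index := Nat.pos_of_ne_zero (Subgroup.index_ne_zero_of_finite)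
  have hbound : p ^ (p + 1) ≤ ρ.ker.index := by
    calc p ^ (p + 1) = p ^ p * p := pow_succ p p
      _ ≤ (seqHom M ν' z hcfg.norm).ker.index * p := Nat.mul_le_mul_right _ hcount
      _ ≤ ρ.ker.index := Nat.le_of_dvd hρpos hidx1
  -- (f) transport to `Fin (p²)`
  let eqv : (X ⧸ M₀) ≃ Fin (p ^ 2) := (Finite.equivFin (X ⧸ M₀)).trans (finCongr hcardΩ)
  let ρ' : X →* Equiv.Perm (Fin (p ^ 2)) := (Equiv.permCongrHom eqv).toMonoidHom.comp ρ
  have hker' : ρ'.ker = ρ.ker := by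
    ext x
    rw [MonoidHom.mem_ker, MonoidHom.mem_ker]
    show (Equiv.permCongrHom eqv) (ρ x) = 1 ↔ _
    rw [MulEquiv.map_eq_one_iff]
  have hRp : IsPGroup p ↥ρ'.range := hX.of_surjective ρ'.rangeRestrict ρ'.rangeRestrict_surjective
  obtain ⟨P, hRP⟩ := hRp.exists_le_sylow
  have hcardP : Nat.card (P : Subgroup (Equiv.Perm (Fin (p ^ 2)))) = p ^ (p + 1) := by
    rw [Sylow.card_eq_multiplicity, Nat.card_eq_fintype_card, Fintype.card_perm, Fintype.card_fin,
      Nat.factorization_def _ hp.out, padicValNat_factorial_sq]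
  have hcardR : p ^ (p + 1) ≤ Nat.card ↥ρ'.range := by
    rw [← Subgroup.index_ker, hker']
    exact hbound
  have hRP' : ρ'.range = (P : Subgroup (Equiv.Perm (Fin (p ^ 2)))) :=
    Subgroup.eq_of_le_of_card_ge hRP (by rw [hcardP]; exact hcardR)
  refine ⟨P, ρ'.codRestrict (P : Subgroup (Equiv.Perm (Fin (p ^ 2)))) (fun x => hRP ⟨x, rfl⟩), ?_⟩
  intro y
  have hy : (y : Equiv.Perm (Fin (p ^ 2))) ∈ ρ'.range := by rw [hRP']; exact y.2
  obtain ⟨x, hx⟩ := hy
  exact ⟨x, Subtype.ext hx⟩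

end Cfsg.Agent.Lib.Helper1.Yo
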