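import Mathlib
import Cfsg.Prelude.Def_PLocal
import Cfsg.Agent.Lib.Helper1.ZJ11
set_option autoImplicit false
open scoped Pointwise commutatorElement
universe u v
namespace Cfsg.Agent.Lib.Helper1.ZJ

open Cfsg.Agent.Lib.Helper1.GlaubermanRepl

variable {G : Type u} [Group G]

/-- S0658 -/
theorem p_locals_le_normalizer_ZJ [Finite G] {p : ℕ} [hp : Fact p.Prime]
    (hloc : ∀ Q : Subgroup G, IsPGroup p Q → Q ≠ ⊥ →
      Cfsg.pPrimeCore p ↥(Subgroup.normalizer (Q : Set G)) = ⊥ ∧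
      Cfsg.IsPConstrained p ↥(Subgroup.normalizer (Q : Set G)) ∧
      Cfsg.IsPStable p ↥(Subgroup.normalizer (Q : Set G)))
    (P : Sylow p G) (Q : Subgroup G) (hQP : Q ≤ (P : Subgroup G)) (hQ1 : Q ≠ ⊥) :
    Subgroup.normalizer (Q : Set G) ≤
      Subgroup.normalizer (Cfsg.centerThompsonAOf ((P : Subgroup G)) : Set G) := by
  obtain ⟨M, hM⟩ : ∃ M, M = Subgroup.normalizer (Cfsg.centerThompsonAOf ((P : Subgroup G)) : Set G) :=
    ⟨_, rfl⟩
  rw [← hM]
  by_contra hcontra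
  obtain ⟨Q₀, hQ₀mem, hmax⟩ := Set.exists_max_image
    {Q : Subgroup G | Q ≤ (P : Subgroup G) ∧ Q ≠ ⊥ ∧ ¬ Subgroup.normalizer (Q : Set G) ≤ M}
    (fun Q => Nat.card ((P : Subgroup G) ⊓ Subgroup.normalizer (Q : Set G) : Subgroup G))
    (Set.toFinite _) ⟨Q, hQP, hQ1, hcontra⟩
  clear hcontra hQ1 hQP Q
  obtain ⟨hQP, hQ1, hQM⟩ := hQ₀mem
  obtain ⟨H, hH⟩ : ∃ H, H = Subgroup.normalizer (Q₀ : Set G) := ⟨_, rfl⟩
  obtain ⟨R, hR⟩ : ∃ R, R = (P : Subgroup G) ⊓ H := ⟨_, rfl⟩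
  have hmax' : ∀ Q' : Subgroup G, Q' ≤ (P : Subgroup G) → Q' ≠ ⊥ →
      Nat.card R < Nat.card ((P : Subgroup G) ⊓ Subgroup.normalizer (Q' : Set G) : Subgroup G) →
      Subgroup.normalizer (Q' : Set G) ≤ M := by
    intro Q' h1 h2 h3
    by_contra h4
    have := hmax Q' ⟨h1, h2, h4⟩
    rw [← hH, ← hR] at this
    omega
  have hQR : Q₀ ≤ R := hR ▸ le_inf hQP (hH ▸ Subgroup.le_normalizer)
  have hR1 : R ≠ ⊥ := ne_bot_of_le_ne_bot hQ1 hQR
  have hRPle : R ≤ P := hR ▸ inf_le_left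
  have hRH : R ≤ H := hR ▸ inf_le_right
  have hRp : IsPGroup p R := P.2.to_le hRPle
  have hQp : IsPGroup p Q₀ := P.2.to_le hQP
  have hPM : (P : Subgroup G) ≤ M :=
    hM ▸ (Subgroup.le_normalizer.trans (normalizer_le_normalizer_centerThompsonAOf _))
  -- Step 1
  have hRP : R < P := by
    apply lt_of_le_of_ne hRPle
    intro he
    have hPH : (P : Subgroup G) ≤ H := by rw [← he]; exact hRH
    have hPH' : (P : Subgroup G) ≤ Subgroup.normalizer (Q₀ : Set G) := hH ▸ hPH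
    have := local_le_normalizer_ZJ hloc hQp hQ1 (P.subtype hPH')
    rw [Sylow.coe_subtype, Subgroup.map_subgroupOf_eq_of_le hPH'] at this
    exact hQM (hM ▸ this)
  -- Step 2
  have hRN : R < (P : Subgroup G) ⊓ Subgroup.normalizer (R : Set G) :=
    lt_inf_normalizer_of_lt P.2 hRP
  have hNR : Subgroup.normalizer (R : Set G) ≤ M := hmax' R hRPle hR1 (card_lt_card_of_lt hRN)
  -- Step 3
  have hsyl : ∀ T : Subgroup G, IsPGroup p T → R ≤ T → T ≤ M → T ≤ H → T = R := by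
    intro T hT hRT hTM hTH
    by_contra hne
    have hlt : R < T := lt_of_le_of_ne hRT (Ne.symm hne)
    obtain ⟨m, hmM, hm⟩ := exists_conj_le_sylow_of_le P hPM hTM hT
    obtain ⟨Q', hQ'⟩ : ∃ Q', Q' = Q₀.map (MulAut.conj m).toMonoidHom := ⟨_, rfl⟩
    have hQ'P : Q' ≤ P := by
      rw [hQ']
      rintro _ ⟨q, hq, rfl⟩
      exact hm q (hRT (hQR hq))
    have hQ'1 : Q' ≠ ⊥ := by
      intro h
      apply hQ1
      rw [hQ'] at h
      exact (Subgroup.map_eq_bot_iff_of_injective _ (MulAut.conj m).injective).mp h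
    have hNQ' : Subgroup.normalizer (Q' : Set G) = H.map (MulAut.conj m).toMonoidHom := by
      rw [hQ', hH]
      exact (Subgroup.map_equiv_normalizer_eq Q₀ (MulAut.conj m)).symm
    have hT' : T.map (MulAut.conj m).toMonoidHom ≤
        (P : Subgroup G) ⊓ Subgroup.normalizer (Q' : Set G) := by
      apply le_inf
      · rintro _ ⟨t, ht, rfl⟩
        exact hm t ht
      · rw [hNQ']; exact Subgroup.map_mono hTH
    have hcard : Nat.card R <
        Nat.card ((P : Subgroup G) ⊓ Subgroup.normalizer (Q' : Set G) : Subgroup G) :=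
      calc Nat.card R < Nat.card T := card_lt_card_of_lt hlt
        _ = Nat.card (T.map (MulAut.conj m).toMonoidHom) :=
          (Subgroup.card_map_of_injective (MulAut.conj m).injective).symm
        _ ≤ _ := Subgroup.card_le_of_le hT'
    have h5 := hmax' Q' hQ'P hQ'1 hcard
    apply hQM
    rw [← hH]
    intro h hh
    have h6 : m * h * m⁻¹ ∈ M := by
      apply h5
      rw [hNQ']
      exact ⟨h, hh, rfl⟩
    have : h = m⁻¹ * (m * h * m⁻¹) * m := by group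
    rw [this]
    exact M.mul_mem (M.mul_mem (M.inv_mem hmM) h6) hmM
  -- Step 4
  have hRp' : IsPGroup p (R.subgroupOf (Subgroup.normalizer (Q₀ : Set G))) := hRp.comap_subtype
  obtain ⟨R', hR'⟩ := hRp'.exists_le_sylow
  obtain ⟨T₀, hT₀⟩ : ∃ T₀, T₀ = (R' : Subgroup _).map (Subgroup.normalizer (Q₀ : Set G)).subtype :=
    ⟨_, rfl⟩
  have hT₀H : T₀ ≤ H := by rw [hT₀, hH]; exact Subgroup.map_subtype_le _
  have hT₀p : IsPGroup p T₀ := hT₀ ▸ R'.2.map _
  have hRT₀ : R ≤ T₀ := by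
    intro r hr
    rw [hT₀]
    have hrH : r ∈ Subgroup.normalizer (Q₀ : Set G) := hH ▸ hRH hr
    exact ⟨⟨r, hrH⟩, hR' (by rw [Subgroup.mem_subgroupOf]; exact hr), rfl⟩
  have hT₀R : T₀ = R := by
    by_contra hne
    have hlt : R < T₀ := lt_of_le_of_ne hRT₀ (Ne.symm hne)
    have h1 := lt_inf_normalizer_of_lt hT₀p hlt
    have h2 := hsyl (T₀ ⊓ Subgroup.normalizer (R : Set G)) (hT₀p.to_le inf_le_left) h1.le
      (inf_le_right.trans hNR) (inf_le_left.trans hT₀H)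
    exact h1.ne h2.symm
  -- Step 5
  have h7 := local_le_normalizer_ZJ hloc hQp hQ1 R'
  rw [← hT₀, hT₀R, ← hH] at h7
  have hQ₁R : Cfsg.centerThompsonAOf R ≤ R := centerThompsonAOf_le R
  have hQ₁1 : Cfsg.centerThompsonAOf R ≠ ⊥ := centerThompsonAOf_ne_bot hRp hR1
  have hcard : Nat.card R < Nat.card ((P : Subgroup G) ⊓
      Subgroup.normalizer (Cfsg.centerThompsonAOf R : Set G) : Subgroup G) :=
    lt_of_lt_of_le (card_lt_card_of_lt hRN)
      (Subgroup.card_le_of_le (inf_le_inf_left _ (normalizer_le_normalizer_centerThompsonAOf R)))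
  have h8 := hmax' _ (hQ₁R.trans hRPle) hQ₁1 hcard
  exact hQM (hH ▸ (h7.trans h8))

end Cfsg.Agent.Lib.Helper1.ZJ
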