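import Mathlib

set_option autoImplicit false
set_option maxHeartbeats 4000000
set_option maxRecDepth 100000
set_option linter.unusedVariables false
set_option linter.unusedSectionVars false
set_option linter.style.longLine false
set_option linter.unusedSimpArgs false
set_option linter.deprecated false

/-!
# S0690, part G: transfer lemmas for perfect groups with cyclic odd Sylow subgroups
-/

namespace Cfsg.Agent.Lib.Helper1.ZaG

open scoped Pointwise

/-- a homomorphism from a perfect group to a commutative group is trivial -/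
theorem hom_trivial_of_perfect {Γ A : Type*} [Group Γ] [CommGroup A]
    (hperf : commutator Γ = ⊤) (f : Γ →* A) (g : Γ) : f g = 1 := by
  have h := Abelianization.commutator_subset_ker f
  rw [hperf] at h
  exact MonoidHom.mem_ker.mp (h (Subgroup.mem_top g))

open scoped IsMulCommutative in
/-- Lemma T: a central element of a perfect group lying in an abelian Sylow subgroup is trivial -/
theorem central_sylow_trivial {Γ : Type*} [Group Γ] [Finite Γ] (hperf : commutator Γ = ⊤)
    (p : ℕ) [Fact p.Prime] (P : Sylow p Γ)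
    (hab : ∀ a ∈ (P : Subgroup Γ), ∀ b ∈ (P : Subgroup Γ), a * b = b * a)
    (g : Γ) (hgc : ∀ x : Γ, x * g = g * x) (hgP : g ∈ (P : Subgroup Γ)) : g = 1 := by
  haveI : IsMulCommutative (P : Subgroup Γ) := ⟨⟨fun a b => Subtype.ext (hab a a.2 b b.2)⟩⟩
  have key : ∀ (k : ℕ) (g₀ : Γ), g₀⁻¹ * g ^ k * g₀ ∈ (P : Subgroup Γ) →
      g₀⁻¹ * g ^ k * g₀ = g ^ k := by
    intro k g₀ _
    have hc : g₀ * g ^ k = g ^ k * g₀ := Commute.pow_right (hgc g₀) k
    rw [mul_assoc, ← hc, inv_mul_cancel_left]
  have h1 := MonoidHom.transfer_eq_pow (MonoidHom.id (P : Subgroup Γ)) g key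
  have h2 : MonoidHom.transfer (MonoidHom.id (P : Subgroup Γ)) g = 1 :=
    hom_trivial_of_perfect hperf _ g
  rw [h2] at h1
  have h3 : g ^ (P : Subgroup Γ).index = 1 := by
    have := congrArg Subtype.val h1
    simpa using this.symm
  obtain ⟨k, hk⟩ := P.2 ⟨g, hgP⟩
  have hk' : g ^ (p ^ k) = 1 := by
    have := congrArg Subtype.val hk
    simpa using this
  have hcop : Nat.Coprime (p ^ k) (P : Subgroup Γ).index :=
    Nat.Coprime.pow_left k ((Nat.Prime.coprime_iff_not_dvd Fact.out).mpr P.not_dvd_index)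
  have hd : orderOf g ∣ Nat.gcd (p ^ k) (P : Subgroup Γ).index :=
    Nat.dvd_gcd (orderOf_dvd_of_pow_eq_one hk') (orderOf_dvd_of_pow_eq_one h3)
  rw [hcop] at hd
  exact orderOf_eq_one_iff.mp (Nat.dvd_one.mp hd)

/-- Lemma T': a perfect group with cyclic odd Sylow subgroups has no central element of odd
prime order -/
theorem central_prime_order_false {Γ : Type*} [Group Γ] [Finite Γ] (hperf : commutator Γ = ⊤)
    (hodd : ∀ (p : ℕ) [Fact p.Prime], p ≠ 2 → ∀ P : Sylow p Γ, IsCyclic P)
    (g : Γ) (p : ℕ) [Fact p.Prime] (hp2 : p ≠ 2) (hg : orderOf g = p)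
    (hgc : ∀ x : Γ, x * g = g * x) : False := by
  have hpg : IsPGroup p (Subgroup.zpowers g) := by
    refine IsPGroup.of_card (n := 1) ?_
    rw [Nat.card_zpowers, hg, pow_one]
  obtain ⟨Q, hQ⟩ := hpg.exists_le_sylow
  haveI : IsCyclic (Q : Subgroup Γ) := hodd p hp2 Q
  have hab : ∀ a ∈ (Q : Subgroup Γ), ∀ b ∈ (Q : Subgroup Γ), a * b = b * a := by
    intro a ha b hb
    have := mul_comm' (⟨a, ha⟩ : (Q : Subgroup Γ)) ⟨b, hb⟩
    exact congrArg Subtype.val this
  have h1 := central_sylow_trivial hperf p Q hab g hgc (hQ (Subgroup.mem_zpowers g))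
  rw [h1, orderOf_one] at hg
  exact (Fact.out : p.Prime).one_lt.ne hg

/-- a cyclic normal subgroup of a perfect group is central -/
theorem cyclic_normal_central {Γ : Type*} [Group Γ] (hperf : commutator Γ = ⊤)
    (C : Subgroup Γ) [C.Normal] [hC : IsCyclic C] (g : Γ) (c : Γ) (hc : c ∈ C) :
    g * c = c * g := by
  letI : CommGroup (MulAut C) :=
    (hC.mulAutMulEquiv _).toMonoidHom.commGroupOfInjective (hC.mulAutMulEquiv _).injective
  have h := hom_trivial_of_perfect hperf (MulAut.conjNormal (H := C)) g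
  have h2 := MulAut.conjNormal_apply (H := C) g ⟨c, hc⟩
  rw [h] at h2
  have h3 : c = g * c * g⁻¹ := by simpa using h2
  calc g * c = (g * c * g⁻¹) * g := by group
    _ = c * g := by rw [← h3]

/-- an odd order cyclic normal subgroup of a perfect group with cyclic odd Sylows is trivial -/
theorem odd_cyclic_normal_trivial {Γ : Type*} [Group Γ] [Finite Γ] (hperf : commutator Γ = ⊤)
    (hodd : ∀ (p : ℕ) [Fact p.Prime], p ≠ 2 → ∀ P : Sylow p Γ, IsCyclic P)
    (C : Subgroup Γ) [C.Normal] [IsCyclic C] (hC : Odd (Nat.card C)) : C = ⊥ := by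
  by_contra hne
  have h1 : Nat.card C ≠ 1 := fun h => hne (Subgroup.card_eq_one.mp h)
  obtain ⟨p, hp, hpd⟩ := Nat.exists_prime_and_dvd h1
  haveI := Fact.mk hp
  obtain ⟨c, hc⟩ := exists_prime_orderOf_dvd_card' p hpd
  have hp2 : p ≠ 2 := by
    rintro rfl
    exact (Nat.not_even_iff_odd.mpr hC) (even_iff_two_dvd.mpr hpd)
  refine central_prime_order_false hperf hodd (c : Γ) p hp2 ?_
    (fun x => cyclic_normal_central hperf C x c c.2)
  rw [Subgroup.orderOf_coe]
  exact hc

/-- Lemma O: an odd order normal subgroup of a perfect group with cyclic odd Sylows is trivial -/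
theorem odd_normal_trivial {Γ : Type*} [Group Γ] [Finite Γ] (hperf : commutator Γ = ⊤)
    (hodd : ∀ (p : ℕ) [Fact p.Prime], p ≠ 2 → ∀ P : Sylow p Γ, IsCyclic P)
    (N : Subgroup Γ) [N.Normal] (hN : Odd (Nat.card N)) : N = ⊥ := by
  classical
  -- `N` is a Z-group
  haveI hZ : IsZGroup N := by
    refine ⟨fun p hp P => ?_⟩
    haveI := Fact.mk hp
    by_cases hp2 : p = 2
    · subst hp2
      have hdvd : Nat.card (P : Subgroup N) ∣ Nat.card N := Subgroup.card_subgroup_dvd_card _
      obtain ⟨k, hk⟩ := (P.2).exists_card_eq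
      have hk0 : k = 0 := by
        by_contra hk0
        have h2 : 2 ∣ Nat.card N := dvd_trans (hk ▸ dvd_pow_self 2 hk0) hdvd
        exact (Nat.not_even_iff_odd.mpr hN) (even_iff_two_dvd.mpr h2)
      rw [hk0, pow_zero] at hk
      haveI : Subsingleton (P : Subgroup N) := (Nat.card_eq_one_iff_unique.mp hk).1
      exact isCyclic_of_subsingleton
    · have hPm : IsPGroup p ((P : Subgroup N).map N.subtype) := P.2.map _
      obtain ⟨Q, hQ⟩ := hPm.exists_le_sylow
      haveI : IsCyclic (Q : Subgroup Γ) := hodd p hp2 Q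
      haveI : IsCyclic ((P : Subgroup N).map N.subtype) := Subgroup.isCyclic_of_le hQ
      let e := Subgroup.equivMapOfInjective (P : Subgroup N) N.subtype N.subtype_injective
      exact isCyclic_of_surjective e.symm e.symm.surjective
  -- the derived subgroup of `N`
  obtain ⟨D, hD⟩ : ∃ D : Subgroup Γ, D = (commutator N).map N.subtype := ⟨_, rfl⟩
  haveI hDn : D.Normal := by
    rw [hD]
    infer_instance
  haveI hDc : IsCyclic D := by
    rw [hD]
    haveI : IsCyclic (commutator N) := IsZGroup.isCyclic_commutator N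
    let e := Subgroup.equivMapOfInjective (commutator N) N.subtype N.subtype_injective
    exact isCyclic_of_surjective e e.surjective
  have hDle : D ≤ N := by
    rw [hD]
    exact Subgroup.map_subtype_le _
  have hDodd : Odd (Nat.card D) := Odd.of_dvd_nat hN (Subgroup.card_dvd_of_le hDle)
  have hD1 : D = ⊥ := odd_cyclic_normal_trivial hperf hodd D hDodd
  have hcomm : commutator N = ⊥ := by
    rw [hD] at hD1
    exact (Subgroup.map_eq_bot_iff_of_injective _ N.subtype_injective).mp hD1
  -- so `N` is cyclic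
  haveI hNc : IsCyclic N := by
    haveI : IsCyclic (Abelianization N) := IsZGroup.isCyclic_abelianization
    have hinj : Function.Injective (Abelianization.of : N →* Abelianization N) := by
      rw [← MonoidHom.ker_eq_bot_iff, Abelianization.ker_of, hcomm]
    exact isCyclic_of_injective _ hinj
  exact odd_cyclic_normal_trivial hperf hodd N hN

/-- X3: two distinct subgroups of order three -/
theorem two_order_three {Γ : Type*} [Group Γ] [Finite Γ] (hperf : commutator Γ = ⊤)
    (hodd : ∀ (p : ℕ) [Fact p.Prime], p ≠ 2 → ∀ P : Sylow p Γ, IsCyclic P)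
    (h3 : 3 ∣ Nat.card Γ) :
    ∃ x y : Γ, orderOf x = 3 ∧ orderOf y = 3 ∧ Subgroup.zpowers x ≠ Subgroup.zpowers y := by
  haveI : Fact (Nat.Prime 3) := ⟨Nat.prime_three⟩
  obtain ⟨x, hx⟩ := exists_prime_orderOf_dvd_card' 3 h3
  by_contra hcon
  push_neg at hcon
  have hall : ∀ y : Γ, orderOf y = 3 → Subgroup.zpowers x = Subgroup.zpowers y :=
    fun y hy => hcon x y hx hy
  haveI : (Subgroup.zpowers x).Normal := by
    refine ⟨fun n hn g => ?_⟩
    have hgx : g * x * g⁻¹ ∈ Subgroup.zpowers x := by
      have h1 : orderOf (g * x * g⁻¹) = 3 := by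
        have := (MulAut.conj g).orderOf_eq x
        rw [MulAut.conj_apply] at this
        rw [this, hx]
      rw [hall _ h1]
      exact Subgroup.mem_zpowers _
    obtain ⟨k, rfl⟩ := Subgroup.mem_zpowers_iff.mp hn
    rw [← conj_zpow]
    exact Subgroup.zpow_mem _ hgx k
  have hcard : Nat.card (Subgroup.zpowers x) = 3 := by rw [Nat.card_zpowers, hx]
  have h0 := odd_normal_trivial hperf hodd (Subgroup.zpowers x) (by rw [hcard]; decide)
  rw [h0] at hcard
  simp at hcard

/-- S: a perfect group with Klein four Sylow `2`-subgroups, one class of involutions and cyclic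
odd Sylow subgroups is simple -/
theorem simple_of_klein_sylow {Γ : Type*} [Group Γ] [Finite Γ] (hperf : commutator Γ = ⊤)
    (hodd : ∀ (p : ℕ) [Fact p.Prime], p ≠ 2 → ∀ P : Sylow p Γ, IsCyclic P)
    (S : Sylow 2 Γ) (hS : IsKleinFour (S : Subgroup Γ))
    (hconj : ∀ s t : Γ, orderOf s = 2 → orderOf t = 2 → IsConj s t) : IsSimpleGroup Γ := by
  classical
  haveI : Fact (Nat.Prime 2) := ⟨Nat.prime_two⟩
  have hS4 : Nat.card (S : Subgroup Γ) = 4 := hS.card_four
  haveI : Nontrivial Γ := by
    by_contra h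
    rw [not_nontrivial_iff_subsingleton] at h
    have : Nat.card (S : Subgroup Γ) ≤ 1 := Finite.card_le_one_iff_subsingleton.mpr inferInstance
    omega
  refine ⟨fun N hN => ?_⟩
  haveI := hN
  rcases Nat.even_or_odd (Nat.card N) with hev | hod
  swap
  · left
    exact odd_normal_trivial hperf hodd N hod
  right
  -- an involution in `N`
  obtain ⟨s, hs⟩ := exists_prime_orderOf_dvd_card' 2 (even_iff_two_dvd.mp hev)
  have hs' : orderOf (s : Γ) = 2 := by rw [Subgroup.orderOf_coe]; exact hs
  have hinv : ∀ t : Γ, orderOf t = 2 → t ∈ N := by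
    intro t ht
    obtain ⟨c, hc⟩ := isConj_iff.mp (hconj (s : Γ) t hs' ht)
    rw [← hc]
    exact hN.conj_mem _ s.2 c
  have hSN : (S : Subgroup Γ) ≤ N := by
    intro u hu
    by_cases hu1 : u = 1
    · rw [hu1]; exact N.one_mem
    · apply hinv
      have h2 : (⟨u, hu⟩ : (S : Subgroup Γ)) ^ 2 = 1 := by
        have := Monoid.pow_exponent_eq_one (⟨u, hu⟩ : (S : Subgroup Γ))
        rwa [hS.exponent_two] at this
      have h2' : u ^ 2 = 1 := by
        have := congrArg Subtype.val h2
        simpa using this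
      exact orderOf_eq_prime h2' hu1
  have hidx : ¬ 2 ∣ N.index := fun h =>
    S.not_dvd_index (dvd_trans h (Subgroup.index_dvd_of_le hSN))
  by_contra hNtop
  haveI : Nontrivial (Γ ⧸ N) := by
    rw [← Finite.one_lt_card_iff_nontrivial]
    have h1 : Nat.card (Γ ⧸ N) = N.index := rfl
    have h2 : N.index ≠ 1 := fun h => hNtop (Subgroup.index_eq_one.mp h)
    have h3 : N.index ≠ 0 := Subgroup.index_ne_zero_of_finite
    omega
  have hq : Function.Surjective (QuotientGroup.mk' N) := QuotientGroup.mk'_surjective N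
  have hperfq : commutator (Γ ⧸ N) = ⊤ := by
    rw [commutator_def, ← Subgroup.map_top_of_surjective (QuotientGroup.mk' N) hq,
      ← Subgroup.map_commutator, ← commutator_def, hperf]
  haveI hZ : IsZGroup (Γ ⧸ N) := by
    refine ⟨fun p hp P' => ?_⟩
    haveI := Fact.mk hp
    by_cases hp2 : p = 2
    · subst hp2
      have hdvd : Nat.card (P' : Subgroup (Γ ⧸ N)) ∣ Nat.card (Γ ⧸ N) :=
        Subgroup.card_subgroup_dvd_card _
      obtain ⟨k, hk⟩ := (P'.2).exists_card_eq
      have hk0 : k = 0 := by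
        by_contra hk0
        have h2 : 2 ∣ Nat.card (Γ ⧸ N) := dvd_trans (hk ▸ dvd_pow_self 2 hk0) hdvd
        exact hidx h2
      rw [hk0, pow_zero] at hk
      haveI : Subsingleton (P' : Subgroup (Γ ⧸ N)) := (Nat.card_eq_one_iff_unique.mp hk).1
      exact isCyclic_of_subsingleton
    · obtain ⟨P, hP⟩ := Sylow.mapSurjective_surjective hq p P'
      have hcoe : (P' : Subgroup (Γ ⧸ N)) = (P : Subgroup Γ).map (QuotientGroup.mk' N) := by
        rw [← hP, Sylow.coe_mapSurjective]
      haveI : IsCyclic (P : Subgroup Γ) := hodd p hp2 P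
      have h1 : IsCyclic ((P : Subgroup Γ).map (QuotientGroup.mk' N)) :=
        isCyclic_of_surjective ((QuotientGroup.mk' N).subgroupMap (P : Subgroup Γ))
          ((QuotientGroup.mk' N).subgroupMap_surjective _)
      show IsCyclic (P' : Subgroup (Γ ⧸ N))
      rw [hcoe]
      exact h1
  have hlt := IsZGroup.commutator_lt (G := Γ ⧸ N)
  rw [hperfq] at hlt
  exact lt_irrefl _ hlt

end Cfsg.Agent.Lib.Helper1.ZaG
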