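import Mathlib
import Cfsg.Agent.Lib.Helper1.ZaG1
import Cfsg.Agent.Lib.Helper1.V4c14
import Cfsg.Agent.Lib.Helper6.Q8Sylow2
import Cfsg.Agent.Lib.Helper2.FourGroup
import Cfsg.Agent.Lib.Helper7.ZfDefs

set_option autoImplicit false
set_option maxHeartbeats 4000000
set_option maxRecDepth 100000
set_option linter.unusedVariables false
set_option linter.unusedSectionVars false
set_option linter.style.longLine false
set_option linter.unusedSimpArgs false
set_option linter.deprecated false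
set_option linter.style.haveILetI false

/-!
# S0690, part G: the case of a Klein four Sylow `2`-subgroup
-/

namespace Cfsg.Agent.Lib.Helper1.ZaG

open Cfsg.Agent.Lib.Helper7.Zf

open scoped IsMulCommutative in
/-- Burnside: in a perfect group a Klein four Sylow `2`-subgroup is not central in its
normalizer -/
theorem klein_not_le {Γ : Type*} [Group Γ] [Finite Γ] (hperf : commutator Γ = ⊤)
    (S : Sylow 2 Γ) (hS : IsKleinFour (S : Subgroup Γ)) :
    ¬ (Subgroup.normalizer ((S : Subgroup Γ) : Set Γ) ≤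
      Subgroup.centralizer ((S : Subgroup Γ) : Set Γ)) := by
  intro hle
  haveI : Fact (Nat.Prime 2) := ⟨Nat.prime_two⟩
  have hc := MonoidHom.ker_transferSylow_isComplement' S hle
  haveI : IsMulCommutative (S : Subgroup Γ) :=
    ⟨⟨fun a b => Subtype.ext (hle (Subgroup.le_normalizer b.2) a a.2)⟩⟩
  have hker : (MonoidHom.transferSylow S hle).ker = ⊤ := by
    rw [eq_top_iff]
    intro g _
    rw [MonoidHom.mem_ker]
    exact hom_trivial_of_perfect hperf _ g
  rw [hker, Subgroup.isComplement'_top_left] at hc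
  have h4 : Nat.card (S : Subgroup Γ) = 4 := hS.card_four
  rw [hc] at h4
  simp at h4

/-- fusion of involutions for a Klein four Sylow `2`-subgroup of a perfect group -/
theorem klein_fusion {Γ : Type*} [Group Γ] [Finite Γ] (hperf : commutator Γ = ⊤)
    (S : Sylow 2 Γ) (hS : IsKleinFour (S : Subgroup Γ)) :
    ∀ s t : Γ, orderOf s = 2 → orderOf t = 2 → IsConj s t :=
  Cfsg.Agent.Lib.Helper6.Q8.involutions_conj_of_not_le S hS (klein_not_le hperf S hS)

/-- `3` divides the order of a perfect group with Klein four Sylow `2`-subgroups -/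
theorem klein_three_dvd {Γ : Type*} [Group Γ] [Finite Γ] (hperf : commutator Γ = ⊤)
    (S : Sylow 2 Γ) (hS : IsKleinFour (S : Subgroup Γ)) : 3 ∣ Nat.card Γ := by
  classical
  haveI := hS
  have hnot := klein_not_le hperf S hS
  rw [SetLike.not_le_iff_exists] at hnot
  obtain ⟨g, hgN, hgC⟩ := hnot
  -- conjugation by powers of `g` preserves `S`
  have hpowN : ∀ k : ℕ, g ^ k ∈ Subgroup.normalizer ((S : Subgroup Γ) : Set Γ) :=
    fun k => Subgroup.pow_mem _ hgN k
  have hconjS : ∀ u ∈ (S : Subgroup Γ), g * u * g⁻¹ ∈ (S : Subgroup Γ) := fun u hu =>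
    (Subgroup.mem_normalizer_iff.mp hgN u).mp hu
  -- `g` fixes no involution of `S`
  have hnofix : ∀ n : Γ, n ∈ Subgroup.normalizer ((S : Subgroup Γ) : Set Γ) →
      n ∉ Subgroup.centralizer ((S : Subgroup Γ) : Set Γ) →
      ∀ a ∈ (S : Subgroup Γ), a ≠ 1 → n * a * n⁻¹ ≠ a := by
    intro n hn hnc a ha ha1 hfix
    exact hnc (Cfsg.Agent.Lib.Helper6.Q8.centralizes_of_fixes_involution S hS a ha
      (Cfsg.Agent.Lib.Helper2.FourGroup.orderOf_of_mem (S : Subgroup Γ) ha ha1) n hn hfix)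
  obtain ⟨a, haS, ha1, -⟩ := Cfsg.Agent.Lib.Helper2.FourGroup.exists_third (S : Subgroup Γ)
    (Subgroup.one_mem _)
  obtain ⟨b, hb⟩ : ∃ b : Γ, b = g * a * g⁻¹ := ⟨_, rfl⟩
  have hbS : b ∈ (S : Subgroup Γ) := by rw [hb]; exact hconjS a haS
  have hb1 : b ≠ 1 := by
    rw [hb]
    intro h
    apply ha1
    have : a = g⁻¹ * (g * a * g⁻¹) * g := by group
    rw [this, h]; group
  have hba : b ≠ a := by
    rw [hb]; exact hnofix g hgN hgC a haS ha1
  -- image of `b`
  have hgb_ne : g * b * g⁻¹ ≠ b := hnofix g hgN hgC b hbS hb1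
  have hgbS : g * b * g⁻¹ ∈ (S : Subgroup Γ) := hconjS b hbS
  have hgb1 : g * b * g⁻¹ ≠ 1 := by
    intro h
    apply hb1
    have : b = g⁻¹ * (g * b * g⁻¹) * g := by group
    rw [this, h]; group
  have hab : a * b = b * a :=
    Cfsg.Agent.Lib.Helper2.FourGroup.comm_of_mem (S : Subgroup Γ) haS hbS
  have haa : a * a = 1 := Cfsg.Agent.Lib.Helper2.FourGroup.mul_self_of_mem (S : Subgroup Γ) haS
  have hbb : b * b = 1 := Cfsg.Agent.Lib.Helper2.FourGroup.mul_self_of_mem (S : Subgroup Γ) hbS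
  have hcases := Cfsg.Agent.Lib.Helper2.FourGroup.mem_cases (S : Subgroup Γ) haS hbS ha1 hb1
    (Ne.symm hba) hgbS
  have hgb : g * b * g⁻¹ = a * b := by
    rcases hcases with h | h | h | h
    · exact absurd h hgb1
    · -- then `g` fixes `a * b`
      exfalso
      have habS : a * b ∈ (S : Subgroup Γ) := Subgroup.mul_mem _ haS hbS
      have hab1 : a * b ≠ 1 := by
        intro h1
        apply hba
        have : b = a⁻¹ := by
          rw [eq_inv_iff_mul_eq_one]
          rw [← hab]; exact h1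
        rw [this, Cfsg.Agent.Lib.Helper2.FourGroup.inv_eq_of_mem (S : Subgroup Γ) haS]
      apply hnofix g hgN hgC (a * b) habS hab1
      have : g * (a * b) * g⁻¹ = (g * a * g⁻¹) * (g * b * g⁻¹) := by group
      rw [this, ← hb, h, hab]
    · exact absurd h hgb_ne
    · exact h
  -- `g ^ 3` fixes `a`
  have hg3 : g ^ 3 * a * (g ^ 3)⁻¹ = a := by
    have h0 : g ^ 3 = g * g * g := by rw [pow_succ, pow_two]
    have h1 : g ^ 3 * a * (g ^ 3)⁻¹ = g * (g * (g * a * g⁻¹) * g⁻¹) * g⁻¹ := by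
      rw [h0]; group
    rw [h1, ← hb, hgb]
    have h2 : g * (a * b) * g⁻¹ = (g * a * g⁻¹) * (g * b * g⁻¹) := by group
    rw [h2, ← hb, hgb, hab, ← mul_assoc, hbb, one_mul]
  have hg3C : g ^ 3 ∈ Subgroup.centralizer ((S : Subgroup Γ) : Set Γ) :=
    Cfsg.Agent.Lib.Helper6.Q8.centralizes_of_fixes_involution S hS a haS
      (Cfsg.Agent.Lib.Helper2.FourGroup.orderOf_of_mem (S : Subgroup Γ) haS ha1) (g ^ 3)
      (hpowN 3) hg3
  -- hence `3 ∣ orderOf g`
  have h3 : 3 ∣ orderOf g := by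
    by_contra h3
    have hcop : Nat.Coprime 3 (orderOf g) :=
      (Nat.Prime.coprime_iff_not_dvd Nat.prime_three).mpr h3
    obtain ⟨k, hk⟩ := exists_pow_eq_self_of_coprime hcop
    apply hgC
    rw [← hk]
    exact Subgroup.pow_mem _ hg3C k
  exact dvd_trans h3 (orderOf_dvd_natCard g)

/-- the conjugate of a subgroup -/
theorem mem_map_conj {Γ : Type*} [Group Γ] (U : Subgroup Γ) (c g : Γ) :
    g ∈ U.map (MulAut.conj c).toMonoidHom ↔ c⁻¹ * g * c ∈ U := by
  constructor
  · rintro ⟨u, hu, rfl⟩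
    have : c⁻¹ * ((MulAut.conj c).toMonoidHom u) * c = u := by
      show c⁻¹ * (c * u * c⁻¹) * c = u
      group
    rw [this]; exact hu
  · intro h
    refine ⟨c⁻¹ * g * c, h, ?_⟩
    show c * (c⁻¹ * g * c) * c⁻¹ = g
    group

/-- a conjugate of a special four-group is special -/
theorem conj_special {Γ : Type*} [Group Γ] (U : Subgroup Γ) (hU : Special U) (c : Γ) :
    Special (U.map (MulAut.conj c).toMonoidHom) := by
  obtain ⟨hK, x, hx, hxn, a, ha, hxa⟩ := hU
  refine ⟨?_, c * x * c⁻¹, ?_, ?_, c * a * c⁻¹, ?_, ?_⟩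
  · let e := U.equivMapOfInjective (MulAut.conj c).toMonoidHom (MulAut.conj c).injective
    exact ⟨by rw [← Nat.card_congr e.toEquiv]; exact hK.card_four,
      by rw [← Monoid.exponent_eq_of_mulEquiv e]; exact hK.exponent_two⟩
  · have := (MulAut.conj c).orderOf_eq x
    rw [MulAut.conj_apply] at this
    rw [this, hx]
  · rw [Subgroup.mem_normalizer_iff]
    intro h
    rw [mem_map_conj, mem_map_conj]
    have h1 := Subgroup.mem_normalizer_iff.mp hxn (c⁻¹ * h * c)
    have h2 : c⁻¹ * (c * x * c⁻¹ * h * (c * x * c⁻¹)⁻¹) * c = x * (c⁻¹ * h * c) * x⁻¹ := by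
      group
    rw [h2]
    exact h1
  · rw [mem_map_conj]
    have : c⁻¹ * (c * a * c⁻¹) * c = a := by group
    rw [this]; exact ha
  · intro h
    apply hxa
    have h2 : x * a * x⁻¹ = c⁻¹ * (c * x * c⁻¹ * (c * a * c⁻¹) * (c * x * c⁻¹)⁻¹) * c := by
      group
    rw [h2, h]; group

/-- the Klein four case of part G -/
theorem klein_case {Γ : Type*} [Group Γ] [Finite Γ] (hperf : commutator Γ = ⊤)
    (hodd : ∀ (p : ℕ) [Fact p.Prime], p ≠ 2 → ∀ P : Sylow p Γ, IsCyclic P)
    (S : Sylow 2 Γ) (hS : IsKleinFour (S : Subgroup Γ))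
    (exE : ∀ x y : Γ, orderOf x = 3 → orderOf y = 3 →
      Subgroup.zpowers x ≠ Subgroup.zpowers y → ∃ U : Subgroup Γ, Special U)
    (uniq : ∀ U U' : Subgroup Γ, Special U → Special U' →
      (∃ z : Γ, z ≠ 1 ∧ z ∈ U ∧ z ∈ U') → U = U') :
    Nonempty (Γ ≃* alternatingGroup (Fin 5)) := by
  classical
  haveI : Fact (Nat.Prime 2) := ⟨Nat.prime_two⟩
  have hconj := klein_fusion hperf S hS
  have h3 := klein_three_dvd hperf S hS
  obtain ⟨x, y, hx, hy, hxy⟩ := two_order_three hperf hodd h3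
  obtain ⟨U, hU⟩ := exE x y hx hy hxy
  haveI hsimple : IsSimpleGroup Γ := simple_of_klein_sylow hperf hodd S hS hconj
  haveI hUK : IsKleinFour U := hU.1
  obtain ⟨z, hzU, hz1, -⟩ := Cfsg.Agent.Lib.Helper2.FourGroup.exists_third U (Subgroup.one_mem _)
  have hz2 : orderOf z = 2 := Cfsg.Agent.Lib.Helper2.FourGroup.orderOf_of_mem U hzU hz1
  have hle : U ≤ Subgroup.centralizer ({z} : Set Γ) := by
    intro u hu
    rw [Subgroup.mem_centralizer_singleton_iff]
    exact Cfsg.Agent.Lib.Helper2.FourGroup.comm_of_mem U hu hzU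
  -- the index of `U` is odd
  have hUidx : ¬ 2 ∣ U.index := by
    have h1 : Nat.card U * U.index = Nat.card Γ := Subgroup.card_mul_index U
    have h2 : Nat.card (S : Subgroup Γ) * (S : Subgroup Γ).index = Nat.card Γ :=
      Subgroup.card_mul_index _
    rw [hUK.card_four] at h1
    rw [hS.card_four] at h2
    have h4 : U.index = (S : Subgroup Γ).index := by omega
    rw [h4]
    exact S.not_dvd_index
  have hoddrel : ¬ 2 ∣ U.relIndex (Subgroup.centralizer ({z} : Set Γ)) := by
    intro h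
    apply hUidx
    rw [← Subgroup.relIndex_mul_index hle]
    exact dvd_mul_of_dvd_left h _
  have hn : (U.subgroupOf (Subgroup.centralizer ({z} : Set Γ))).Normal := by
    rw [Subgroup.normal_subgroupOf_iff_le_normalizer hle, Subgroup.le_normalizer_iff]
    intro c hc u hu
    rw [Subgroup.mem_centralizer_singleton_iff] at hc
    have hU' := conj_special U hU c
    have hzU' : z ∈ U.map (MulAut.conj c).toMonoidHom := by
      rw [mem_map_conj]
      have : c⁻¹ * z * c = z := by
        rw [mul_assoc, ← hc, inv_mul_cancel_left]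
      rw [this]; exact hzU
    have heq := uniq U _ hU hU' ⟨z, hz1, hzU, hzU'⟩
    rw [heq, mem_map_conj]
    have : c⁻¹ * (c * u * c⁻¹) * c = u := by group
    rw [this]; exact hu
  exact Cfsg.Agent.Lib.Helper1.V4c.main z hz2 U hle hUK hoddrel hn

end Cfsg.Agent.Lib.Helper1.ZaG
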