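import Mathlib
import Cfsg.Agent.Lib.Helper1.ZaG2
import Cfsg.Agent.Lib.Helper1.PResidual
import Cfsg.Agent.S0107

set_option autoImplicit false
set_option maxHeartbeats 4000000
set_option maxRecDepth 100000
set_option linter.unusedVariables false
set_option linter.unusedSectionVars false
set_option linter.style.longLine false
set_option linter.unusedSimpArgs false
set_option linter.deprecated false
set_option linter.style.haveILetI false

/-!
# S0690, part G: dihedral fusion and the assembly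
-/

namespace Cfsg.Agent.Lib.Helper1.ZaG

open Cfsg.Agent.Lib.Helper7.Zf

/-- a perfect finite group has no nontrivial `p`-quotient -/
theorem pResidual_eq_top_of_perfect {Γ : Type*} [Group Γ] [Finite Γ] (hperf : commutator Γ = ⊤)
    (p : ℕ) [Fact p.Prime] : Cfsg.pResidual p Γ = ⊤ := by
  by_contra hne
  have hq : Function.Surjective (QuotientGroup.mk' (Cfsg.pResidual p Γ)) :=
    QuotientGroup.mk'_surjective _
  have hperfq : commutator (Γ ⧸ Cfsg.pResidual p Γ) = ⊤ := by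
    rw [commutator_def, ← Subgroup.map_top_of_surjective (QuotientGroup.mk' _) hq,
      ← Subgroup.map_commutator, ← commutator_def, hperf]
  have hp : IsPGroup p (Γ ⧸ Cfsg.pResidual p Γ) :=
    Cfsg.Agent.Lib.Helper1.isPGroup_quotient_pResidual p
  haveI : Group.IsNilpotent (Γ ⧸ Cfsg.pResidual p Γ) := hp.isNilpotent
  haveI : Nontrivial (Γ ⧸ Cfsg.pResidual p Γ) := by
    rw [← Finite.one_lt_card_iff_nontrivial]
    have h1 : Nat.card (Γ ⧸ Cfsg.pResidual p Γ) = (Cfsg.pResidual p Γ).index := rfl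
    have h2 : (Cfsg.pResidual p Γ).index ≠ 1 := fun h => hne (Subgroup.index_eq_one.mp h)
    have h3 : (Cfsg.pResidual p Γ).index ≠ 0 := Subgroup.index_ne_zero_of_finite
    omega
  have hlt := Group.IsSolvable.commutator_lt_top_of_nontrivial (Γ ⧸ Cfsg.pResidual p Γ)
  rw [hperfq] at hlt
  exact lt_irrefl _ hlt

/-- fusion of involutions in a perfect group with dihedral Sylow `2`-subgroups of order `≥ 8` -/
theorem dihedral_fusion {Γ : Type*} [Group Γ] [Finite Γ] (hperf : commutator Γ = ⊤)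
    (S : Sylow 2 Γ) (n : ℕ) (hn : 2 ≤ n)
    (hS : Nonempty ((S : Subgroup Γ) ≃* DihedralGroup (2 ^ n))) :
    ∀ s t : Γ, orderOf s = 2 → orderOf t = 2 → ∃ g : Γ, g * s * g⁻¹ = t := by
  haveI : Fact (Nat.Prime 2) := ⟨Nat.prime_two⟩
  intro s t hs ht
  exact Cfsg.Agent.S0107.result S n hn hS (pResidual_eq_top_of_perfect hperf 2) s t hs ht

/-- a subgroup isomorphic to `DihedralGroup 2` is a four-group -/
theorem klein_of_dihedral_two {Γ : Type*} [Group Γ] (S : Subgroup Γ)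
    (hS : Nonempty (S ≃* DihedralGroup 2)) : IsKleinFour S := by
  obtain ⟨e⟩ := hS
  have hD : IsKleinFour (DihedralGroup 2) := inferInstance
  exact ⟨by rw [Nat.card_congr e.toEquiv]; exact hD.card_four,
    by rw [Monoid.exponent_eq_of_mulEquiv e]; exact hD.exponent_two⟩

/-- a dihedral group of order `2 ^ (n + 1)`, `n ≥ 1`, contains a four-group -/
theorem exists_klein_le {Γ : Type*} [Group Γ] (S : Subgroup Γ) (n : ℕ) (hn : 1 ≤ n)
    (hS : Nonempty (S ≃* DihedralGroup (2 ^ n))) :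
    ∃ E : Subgroup Γ, IsKleinFour E ∧ E ≤ S := by
  obtain ⟨e⟩ := hS
  obtain ⟨c, hc⟩ : ∃ c : ZMod (2 ^ n), c = ((2 ^ (n - 1) : ℕ) : ZMod (2 ^ n)) := ⟨_, rfl⟩
  have hpow : 2 ^ (n - 1) + 2 ^ (n - 1) = 2 ^ n := by
    have : n = (n - 1) + 1 := by omega
    conv_rhs => rw [this, pow_succ]
    ring
  have hcc : c + c = 0 := by
    rw [hc, ← Nat.cast_add, hpow, ZMod.natCast_self]
  have hc0 : c ≠ 0 := by
    rw [hc]
    intro h
    rw [ZMod.natCast_eq_zero_iff] at h
    have h1 : 2 ^ n ≤ 2 ^ (n - 1) := Nat.le_of_dvd (by positivity) h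
    have h2 : 0 < 2 ^ (n - 1) := by positivity
    omega
  have hneg : -c = c := neg_eq_of_add_eq_zero_right hcc
  obtain ⟨f, hf⟩ : ∃ f : DihedralGroup (2 ^ n) →* Γ, f = S.subtype.comp e.symm.toMonoidHom :=
    ⟨_, rfl⟩
  have hfinj : Function.Injective f := by
    rw [hf]
    exact S.subtype_injective.comp e.symm.injective
  have hfS : ∀ d, f d ∈ S := by
    intro d
    rw [hf]
    exact (e.symm d).2
  have hAA : (DihedralGroup.r c : DihedralGroup (2 ^ n)) * DihedralGroup.r c = 1 := by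
    rw [DihedralGroup.r_mul_r, hcc, DihedralGroup.one_def]
  have hBB : (DihedralGroup.sr 0 : DihedralGroup (2 ^ n)) * DihedralGroup.sr 0 = 1 := by
    rw [DihedralGroup.sr_mul_sr, sub_self, DihedralGroup.one_def]
  have hAB : (DihedralGroup.r c : DihedralGroup (2 ^ n)) * DihedralGroup.sr 0
      = DihedralGroup.sr 0 * DihedralGroup.r c := by
    rw [DihedralGroup.r_mul_sr, DihedralGroup.sr_mul_r, zero_sub, zero_add, hneg]
  have hA1 : (DihedralGroup.r c : DihedralGroup (2 ^ n)) ≠ 1 := by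
    rw [DihedralGroup.one_def]
    intro h
    exact hc0 (DihedralGroup.r.inj h)
  have hB1 : (DihedralGroup.sr 0 : DihedralGroup (2 ^ n)) ≠ 1 := by
    rw [DihedralGroup.one_def]
    intro h
    cases h
  have hABne : (DihedralGroup.r c : DihedralGroup (2 ^ n)) ≠ DihedralGroup.sr 0 := by
    intro h
    cases h
  have haa : f (DihedralGroup.r c) * f (DihedralGroup.r c) = 1 := by
    rw [← map_mul, hAA, map_one]
  have hbb : f (DihedralGroup.sr 0) * f (DihedralGroup.sr 0) = 1 := by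
    rw [← map_mul, hBB, map_one]
  have hab : f (DihedralGroup.r c) * f (DihedralGroup.sr 0)
      = f (DihedralGroup.sr 0) * f (DihedralGroup.r c) := by
    rw [← map_mul, ← map_mul, hAB]
  have ha1 : f (DihedralGroup.r c) ≠ 1 := fun h => hA1 (hfinj (by rw [h, map_one]))
  have hb1 : f (DihedralGroup.sr 0) ≠ 1 := fun h => hB1 (hfinj (by rw [h, map_one]))
  have hne : f (DihedralGroup.r c) ≠ f (DihedralGroup.sr 0) := fun h => hABne (hfinj h)
  refine ⟨Cfsg.Agent.Lib.Helper2.FourGroup.fourSub _ _ haa hbb hab,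
    Cfsg.Agent.Lib.Helper2.FourGroup.isKleinFour_fourSub ha1 hb1 hne,
    Cfsg.Agent.Lib.Helper2.FourGroup.fourSub_le (hfS _) (hfS _)⟩

/-- the assembly of part G, with the two dihedral eliminations as hypotheses -/
theorem main_of {Γ : Type*} [Group Γ] [Finite Γ]
    (hF : ∀ (S : Sylow 2 Γ) (n : ℕ) (hn : 2 ≤ n)
      (hS : Nonempty ((S : Subgroup Γ) ≃* DihedralGroup (2 ^ n)))
      (hconj : ∀ s t : Γ, orderOf s = 2 → orderOf t = 2 → ∃ g : Γ, g * s * g⁻¹ = t)
      (E : Subgroup Γ) (hE : IsKleinFour E) (hES : E ≤ S),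
      ∃ g : Γ, (∃ k : ℕ, orderOf g = 3 ^ k) ∧ g ≠ 1 ∧ (∀ a ∈ E, g * a * g⁻¹ ∈ E) ∧
        ∃ a ∈ E, g * a * g⁻¹ ≠ a)
    (hE34 : ∀ (S : Sylow 2 Γ) (n : ℕ) (hn : 1 ≤ n)
      (hS : Nonempty ((S : Subgroup Γ) ≃* DihedralGroup (2 ^ n)))
      (hodd : ∀ (p : ℕ) [Fact p.Prime], p ≠ 2 → ∀ P : Sylow p Γ, IsCyclic P)
      (hconj : ∀ s t : Γ, orderOf s = 2 → orderOf t = 2 → ∃ g : Γ, g * s * g⁻¹ = t)
      (hex : ∃ U : Subgroup Γ, Special U)
      (uniq : ∀ U U' : Subgroup Γ, Special U → Special U' →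
        (∃ z : Γ, z ≠ 1 ∧ z ∈ U ∧ z ∈ U') → U = U'), n = 1)
    (hperf : commutator Γ = ⊤) (S : Sylow 2 Γ) (n : ℕ) (hn : 1 ≤ n)
    (hS : Nonempty ((S : Subgroup Γ) ≃* DihedralGroup (2 ^ n)))
    (hodd : ∀ (p : ℕ) [Fact p.Prime], p ≠ 2 → ∀ P : Sylow p Γ, IsCyclic P)
    (exE : ∀ x y : Γ, orderOf x = 3 → orderOf y = 3 →
      Subgroup.zpowers x ≠ Subgroup.zpowers y → ∃ U : Subgroup Γ, Special U)
    (uniq : ∀ U U' : Subgroup Γ, Special U → Special U' →
      (∃ z : Γ, z ≠ 1 ∧ z ∈ U ∧ z ∈ U') → U = U') :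
    Nonempty (Γ ≃* alternatingGroup (Fin 5)) := by
  have hn1 : n = 1 := by
    by_contra hne
    have hn2 : 2 ≤ n := by omega
    have hconj := dihedral_fusion hperf S n hn2 hS
    obtain ⟨E, hE, hES⟩ := exists_klein_le (S : Subgroup Γ) n hn hS
    obtain ⟨g, ⟨k, hk⟩, hg1, -, -⟩ := hF S n hn2 hS hconj E hE hES
    have h3 : 3 ∣ Nat.card Γ := by
      have hk0 : k ≠ 0 := by
        rintro rfl
        rw [pow_zero, orderOf_eq_one_iff] at hk
        exact hg1 hk
      have : 3 ∣ orderOf g := by rw [hk]; exact dvd_pow_self 3 hk0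
      exact dvd_trans this (orderOf_dvd_natCard g)
    obtain ⟨x, y, hx, hy, hxy⟩ := two_order_three hperf hodd h3
    exact hne (hE34 S n hn hS hodd hconj (exE x y hx hy hxy) uniq)
  subst hn1
  exact klein_case hperf hodd S (klein_of_dihedral_two (S : Subgroup Γ) hS) exE uniq

end Cfsg.Agent.Lib.Helper1.ZaG
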