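import Mathlib
import Cfsg.Agent.Lib.Helper1.ZaG3
import Cfsg.Agent.Lib.Helper9.ZfgC
import Cfsg.Agent.Lib.Helper9.ZfgD

set_option autoImplicit false
set_option maxHeartbeats 4000000
set_option maxRecDepth 100000
set_option linter.unusedVariables false
set_option linter.unusedSectionVars false
set_option linter.style.longLine false
set_option linter.unusedSimpArgs false
set_option linter.deprecated false

/-!
# S0690, part G: the main theorem (alternative assembly)
-/

namespace Cfsg.Agent.Lib.Helper1.ZaG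

open Cfsg.Agent.Lib.Helper7.Zf

/-- part G of S0690 -/
theorem main {Γ : Type*} [Group Γ] [Finite Γ]
    (hperf : commutator Γ = ⊤) (S : Sylow 2 Γ) (n : ℕ) (hn : 1 ≤ n)
    (hS : Nonempty ((S : Subgroup Γ) ≃* DihedralGroup (2 ^ n)))
    (hodd : ∀ (p : ℕ) [Fact p.Prime], p ≠ 2 → ∀ P : Sylow p Γ, IsCyclic P)
    (exE : ∀ x y : Γ, orderOf x = 3 → orderOf y = 3 →
      Subgroup.zpowers x ≠ Subgroup.zpowers y → ∃ U : Subgroup Γ, Special U)
    (uniq : ∀ U U' : Subgroup Γ, Special U → Special U' →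
      (∃ z : Γ, z ≠ 1 ∧ z ∈ U ∧ z ∈ U') → U = U') :
    Nonempty (Γ ≃* alternatingGroup (Fin 5)) := by
  refine main_of ?_ ?_ hperf S n hn hS hodd exE uniq
  · intro S n hn hS hconj E hE hES
    obtain ⟨g, h1, h2, h3, h4, _⟩ :=
      Cfsg.Agent.Lib.Helper9.Zfg.exists_three_elt S n hn hS hconj E hE hES
    exact ⟨g, h1, h2, h3, h4⟩
  · intro S n hn hS hodd hconj hex uniq
    exact Cfsg.Agent.Lib.Helper9.Zfg.n_eq_one S n hn hS hodd hconj hex uniq

end Cfsg.Agent.Lib.Helper1.ZaG
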