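import Mathlib

set_option autoImplicit false
set_option maxHeartbeats 4000000
set_option maxRecDepth 100000
set_option linter.unusedVariables false
set_option linter.unusedSectionVars false
set_option linter.style.longLine false
set_option linter.unusedSimpArgs false
set_option linter.deprecated false

/-!
# S0690, part R: from a free action on an elementary abelian group to a free linear representation
over an algebraically closed field
-/

namespace Cfsg.Agent.Lib.Helper1.ZaR

open TensorProduct

universe u v

/-- a group acting freely by automorphisms on a finite elementary abelian `r`-group has a free linear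
representation over an algebraically closed field of characteristic `r`, and `r` does not divide
its order (continuation-passing form) -/
theorem linear_of_addAction_aux {W : Type u} [AddCommGroup W] [Finite W] [Nontrivial W] (r : ℕ)
    [Fact r.Prime] [Module (ZMod r) W] {Γ : Type v} [Group Γ] [Finite Γ] (act : Γ → (W →+ W))
    (hact1 : ∀ w : W, act 1 w = w) (hactmul : ∀ (g h : Γ) (w : W), act (g * h) w = act g (act h w))
    (hfree : ∀ g : Γ, g ≠ 1 → ∀ w : W, act g w = w → w = 0) {motive : Prop}
    (cont : ∀ (F : Type) [Field F] [IsAlgClosed F] [CharP F r] (V : Type u) [AddCommGroup V]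
      [Module F V] [FiniteDimensional F V] [Nontrivial V] (ρ : Γ →* Module.End F V),
      (∀ g : Γ, g ≠ 1 → ∀ v : V, ρ g v = v → v = 0) → ¬ r ∣ Nat.card Γ → motive) : motive := by
  classical
  haveI : Module.Finite (ZMod r) W := Module.Finite.of_finite
  -- the representation over `ZMod r`
  have hone : AddMonoidHom.toZModLinearMap r (act 1) = (1 : Module.End (ZMod r) W) := by
    apply LinearMap.ext
    intro w
    have : (1 : Module.End (ZMod r) W) w = w := rfl
    rw [this]
    exact hact1 w
  have hmul : ∀ g h : Γ, AddMonoidHom.toZModLinearMap r (act (g * h))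
      = (AddMonoidHom.toZModLinearMap r (act g) : Module.End (ZMod r) W)
        * (AddMonoidHom.toZModLinearMap r (act h) : Module.End (ZMod r) W) := by
    intro g h
    apply LinearMap.ext
    intro w
    rw [Module.End.mul_apply]
    exact hactmul g h w
  let ρ₀ : Γ →* Module.End (ZMod r) W :=
    { toFun := fun g => AddMonoidHom.toZModLinearMap r (act g)
      map_one' := hone
      map_mul' := hmul }
  have hρ₀ : ∀ g : Γ, ∀ w : W, ρ₀ g w = act g w := fun g w => rfl
  -- `X - 1` is invertible for `g ≠ 1`
  have hinv : ∀ g : Γ, g ≠ 1 → ∃ Y : Module.End (ZMod r) W, Y * (ρ₀ g - 1) = 1 := by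
    intro g hg
    have hinj : Function.Injective ⇑(ρ₀ g - 1 : Module.End (ZMod r) W) := by
      rw [← LinearMap.ker_eq_bot, LinearMap.ker_eq_bot']
      intro w hw
      rw [LinearMap.sub_apply, Module.End.one_apply, sub_eq_zero, hρ₀] at hw
      exact hfree g hg w hw
    have hsurj : Function.Surjective ⇑(ρ₀ g - 1 : Module.End (ZMod r) W) :=
      LinearMap.injective_iff_surjective.mp hinj
    let e : W ≃ₗ[ZMod r] W := LinearEquiv.ofBijective (ρ₀ g - 1 : Module.End (ZMod r) W) ⟨hinj, hsurj⟩
    refine ⟨e.symm.toLinearMap, ?_⟩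
    apply LinearMap.ext
    intro w
    rw [Module.End.mul_apply, Module.End.one_apply]
    exact e.symm_apply_apply w
  -- `r` does not divide the order
  have hrΓ : ¬ r ∣ Nat.card Γ := by
    intro hdvd
    obtain ⟨g, hg⟩ := exists_prime_orderOf_dvd_card' r hdvd
    have hg1 : g ≠ 1 := by
      intro h
      rw [h, orderOf_one] at hg
      exact (Fact.out : r.Prime).one_lt.ne hg
    obtain ⟨Y, hY⟩ := hinv g hg1
    haveI : Nontrivial (Module.End (ZMod r) W) := by
      refine ⟨⟨0, 1, ?_⟩⟩
      intro h
      obtain ⟨w, hw⟩ := exists_ne (0 : W)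
      apply hw
      have := congrArg (fun f : Module.End (ZMod r) W => f w) h
      simpa using this.symm
    haveI : CharP (Module.End (ZMod r) W) r :=
      charP_of_injective_algebraMap
        (algebraMap (ZMod r) (Module.End (ZMod r) W)).injective r
    have hgr : g ^ r = 1 := by
      have := pow_orderOf_eq_one g
      rwa [hg] at this
    have h1 : (ρ₀ g - 1) ^ r = 0 := by
      rw [sub_pow_char_of_commute r (Commute.one_right _), one_pow, ← map_pow, hgr, map_one,
        sub_self]
    have h2 : ∀ n : ℕ, Y ^ n * (ρ₀ g - 1) ^ n = 1 := by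
      intro n
      induction n with
      | zero => simp
      | succ n ih =>
        calc Y ^ (n + 1) * (ρ₀ g - 1) ^ (n + 1)
            = Y ^ n * (Y * (ρ₀ g - 1)) * (ρ₀ g - 1) ^ n := by
              rw [pow_succ, pow_succ', mul_assoc, mul_assoc, mul_assoc]
          _ = 1 := by rw [hY, mul_one, ih]
    have h3 := h2 r
    rw [h1, mul_zero] at h3
    exact zero_ne_one h3
  -- base change
  let F := AlgebraicClosure (ZMod r)
  let bc : Module.End (ZMod r) W →ₐ[ZMod r] Module.End F (F ⊗[ZMod r] W) :=
    Module.End.baseChangeHom (ZMod r) F W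
  let ρ : Γ →* Module.End F (F ⊗[ZMod r] W) := (bc : Module.End (ZMod r) W →* _).comp ρ₀
  have hρ : ∀ g : Γ, ρ g = bc (ρ₀ g) := fun g => rfl
  haveI : Nontrivial (F ⊗[ZMod r] W) := by
    have h1 : Module.finrank F (F ⊗[ZMod r] W) = Module.finrank (ZMod r) W :=
      Module.finrank_baseChange
    have h2 : 0 < Module.finrank (ZMod r) W := Module.finrank_pos
    rw [← h1] at h2
    exact Module.nontrivial_of_finrank_pos h2
  refine cont F (F ⊗[ZMod r] W) ρ ?_ hrΓ
  intro g hg v hv
  obtain ⟨Y, hY⟩ := hinv g hg
  have h1 : bc Y * (bc (ρ₀ g) - 1) = 1 := by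
    have h0 : bc (Y * (ρ₀ g - 1)) = bc 1 := by rw [hY]
    rw [map_mul, map_sub, map_one] at h0
    exact h0
  have h2 : (bc (ρ₀ g) - 1) v = 0 := by
    rw [LinearMap.sub_apply, Module.End.one_apply, sub_eq_zero, ← hρ]
    exact hv
  have h3 : (bc Y * (bc (ρ₀ g) - 1)) v = v := by
    rw [h1, Module.End.one_apply]
  rw [Module.End.mul_apply, h2, map_zero] at h3
  exact h3.symm

theorem linear_of_addAction {W : Type u} [AddCommGroup W] [Finite W] [Nontrivial W] (r : ℕ)
    [Fact r.Prime] (hr : ∀ w : W, r • w = 0) {Γ : Type v} [Group Γ] [Finite Γ] (act : Γ → (W →+ W))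
    (hact1 : ∀ w : W, act 1 w = w) (hactmul : ∀ (g h : Γ) (w : W), act (g * h) w = act g (act h w))
    (hfree : ∀ g : Γ, g ≠ 1 → ∀ w : W, act g w = w → w = 0) {motive : Prop}
    (cont : ∀ (F : Type) [Field F] [IsAlgClosed F] [CharP F r] (V : Type u) [AddCommGroup V]
      [Module F V] [FiniteDimensional F V] [Nontrivial V] (ρ : Γ →* Module.End F V),
      (∀ g : Γ, g ≠ 1 → ∀ v : V, ρ g v = v → v = 0) → ¬ r ∣ Nat.card Γ → motive) : motive := by
  letI : Module (ZMod r) W := AddCommGroup.zmodModule hr
  exact linear_of_addAction_aux r act hact1 hactmul hfree cont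

end Cfsg.Agent.Lib.Helper1.ZaR
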