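import Mathlib
import Cfsg.Agent.Lib.Helper1.ZaR1
import Cfsg.Agent.S0033

set_option autoImplicit false
set_option maxHeartbeats 4000000
set_option maxRecDepth 100000
set_option linter.unusedVariables false
set_option linter.unusedSectionVars false
set_option linter.style.longLine false
set_option linter.unusedSimpArgs false
set_option linter.deprecated false

/-!
# S0690, part R: reduction of a fixed-point-free group of automorphisms to a free linear group
-/

namespace Cfsg.Agent.Lib.Helper1.ZaR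

universe u v

/-- multiplicative version of `linear_of_addAction` -/
theorem linear_of_mulAction {V₀ : Type u} [CommGroup V₀] [Finite V₀] [Nontrivial V₀] (r : ℕ)
    [Fact r.Prime] (hexp : ∀ v : V₀, v ^ r = 1) {Γ : Type v} [Group Γ] [Finite Γ]
    (act : Γ → (V₀ →* V₀)) (hact1 : ∀ v : V₀, act 1 v = v)
    (hactmul : ∀ (g h : Γ) (v : V₀), act (g * h) v = act g (act h v))
    (hfree : ∀ g : Γ, g ≠ 1 → ∀ v : V₀, act g v = v → v = 1) {motive : Prop}
    (cont : ∀ (F : Type) [Field F] [IsAlgClosed F] [CharP F r] (V : Type u) [AddCommGroup V]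
      [Module F V] [FiniteDimensional F V] [Nontrivial V] (ρ : Γ →* Module.End F V),
      (∀ g : Γ, g ≠ 1 → ∀ v : V, ρ g v = v → v = 0) → ¬ r ∣ Nat.card Γ → motive) : motive := by
  refine linear_of_addAction (W := Additive V₀) r ?_ (fun g => MonoidHom.toAdditive (act g))
    ?_ ?_ ?_ cont
  · intro w
    apply Additive.toMul.injective
    rw [toMul_nsmul, toMul_zero]
    exact hexp _
  · intro w
    apply Additive.toMul.injective
    exact hact1 (Additive.toMul w)
  · intro g h w
    apply Additive.toMul.injective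
    exact hactmul g h (Additive.toMul w)
  · intro g hg w hw
    apply Additive.toMul.injective
    rw [toMul_zero]
    apply hfree g hg
    exact congrArg Additive.toMul hw

/-- `Ω₁(Z(P))` as a subgroup of `K` -/
def omegaZ {K : Type u} [Group K] (P : Subgroup K) (r : ℕ) : Subgroup K where
  carrier := {k | k ∈ P ∧ (∀ x ∈ P, x * k = k * x) ∧ k ^ r = 1}
  one_mem' := ⟨P.one_mem, fun x _ => by rw [mul_one, one_mul], one_pow r⟩
  mul_mem' := by
    intro a b ha hb
    refine ⟨P.mul_mem ha.1 hb.1, ?_, ?_⟩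
    · intro x hx
      rw [← mul_assoc, ha.2.1 x hx, mul_assoc, hb.2.1 x hx, mul_assoc]
    · have hc : Commute a b := hb.2.1 a ha.1
      rw [hc.mul_pow, ha.2.2, hb.2.2, one_mul]
  inv_mem' := by
    intro a ha
    refine ⟨P.inv_mem ha.1, ?_, ?_⟩
    · intro x hx
      have := ha.2.1 x hx
      calc x * a⁻¹ = a⁻¹ * (a * x) * a⁻¹ := by group
        _ = a⁻¹ * (x * a) * a⁻¹ := by rw [this]
        _ = a⁻¹ * x := by group
    · rw [inv_pow, ha.2.2, inv_one]

theorem mem_omegaZ {K : Type u} [Group K] {P : Subgroup K} {r : ℕ} {k : K} :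
    k ∈ omegaZ P r ↔ k ∈ P ∧ (∀ x ∈ P, x * k = k * x) ∧ k ^ r = 1 := Iff.rfl

/-- the reduction -/
theorem reduce {K : Type u} [Group K] [Finite K] (G : Subgroup (MulAut K))
    (hfpf : ∀ φ ∈ G, φ ≠ 1 → ∀ k : K, φ k = k → k = 1) (hne : G ≠ ⊥) {motive : Prop}
    (cont : ∀ (r : ℕ) [Fact r.Prime] (F : Type) [Field F] [IsAlgClosed F] [CharP F r] (V : Type u)
      [AddCommGroup V] [Module F V] [FiniteDimensional F V] [Nontrivial V]
      (ρ : ↥G →* Module.End F V), (∀ g : ↥G, g ≠ 1 → ∀ v : V, ρ g v = v → v = 0) →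
      ¬ r ∣ Nat.card ↥G → motive) : motive := by
  classical
  haveI : Finite (MulAut K) := Finite.of_injective (fun f : MulAut K => (f : K → K))
    (fun f g h => MulEquiv.ext (congrFun h))
  haveI hGnt : Nontrivial ↥G := (Subgroup.nontrivial_iff_ne_bot G).mpr hne
  -- an element of prime order
  have hcard1 : Nat.card ↥G ≠ 1 := by
    intro h
    have := (Nat.card_eq_one_iff_unique.mp h).1
    exact not_subsingleton ↥G this
  obtain ⟨q, hq, hqdvd⟩ := Nat.exists_prime_and_dvd hcard1
  haveI := Fact.mk hq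
  obtain ⟨φ, hφ⟩ := exists_prime_orderOf_dvd_card' q hqdvd
  have hφ1 : (φ : MulAut K) ≠ 1 := by
    intro h
    have h2 : φ = 1 := Subtype.ext h
    rw [h2, orderOf_one] at hφ
    exact hq.one_lt.ne hφ
  have hnil : Group.IsNilpotent K :=
    Cfsg.Agent.S0033.result (φ : MulAut K) (fun k hk => hfpf φ φ.2 hφ1 k hk) q hq
      (by rw [Subgroup.orderOf_coe]; exact hφ)
  -- `K` is nontrivial
  have hKnt : Nat.card K ≠ 1 := by
    intro h
    have hsub := (Nat.card_eq_one_iff_unique.mp h).1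
    apply hφ1
    apply MulEquiv.ext
    intro k
    exact Subsingleton.elim _ _
  obtain ⟨r, hr, hrdvd⟩ := Nat.exists_prime_and_dvd hKnt
  haveI := Fact.mk hr
  obtain ⟨P⟩ : Nonempty (Sylow r K) := inferInstance
  have htfae : Group.IsNilpotent K ↔ ∀ (p : ℕ) (_hp : Fact p.Prime) (P : Sylow p K),
      (P : Subgroup K).Normal := (Group.isNilpotent_of_finite_tfae (G := K)).out 0 3
  have hPn : (P : Subgroup K).Normal := htfae.mp hnil r inferInstance P
  have hchar : (P : Subgroup K).Characteristic := Sylow.characteristic_of_normal P hPn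
  have hPinv : ∀ ψ : MulAut K, ∀ x ∈ (P : Subgroup K), ψ x ∈ (P : Subgroup K) := by
    intro ψ x hx
    exact (Subgroup.characteristic_iff_map_le.mp hchar ψ) (Subgroup.mem_map_of_mem _ hx)
  obtain ⟨V₀, hV₀⟩ : ∃ V₀ : Subgroup K, V₀ = omegaZ (P : Subgroup K) r := ⟨_, rfl⟩
  have hmem : ∀ k : K, k ∈ V₀ ↔ k ∈ (P : Subgroup K) ∧ (∀ x ∈ (P : Subgroup K), x * k = k * x)
      ∧ k ^ r = 1 := by
    intro k; rw [hV₀]; exact mem_omegaZ
  have hVinv : ∀ ψ : MulAut K, ∀ k ∈ V₀, ψ k ∈ V₀ := by
    intro ψ k hk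
    rw [hmem] at hk ⊢
    refine ⟨hPinv ψ k hk.1, ?_, ?_⟩
    · intro x hx
      have h1 : ψ⁻¹ x ∈ (P : Subgroup K) := hPinv ψ⁻¹ x hx
      have h2 := hk.2.1 _ h1
      have h3 : ψ (ψ⁻¹ x * k) = ψ (k * ψ⁻¹ x) := by rw [h2]
      rw [map_mul, map_mul] at h3
      have h4 : ψ (ψ⁻¹ x) = x := by
        show (ψ * ψ⁻¹) x = x
        rw [mul_inv_cancel]; rfl
      rw [h4] at h3
      exact h3
    · rw [← map_pow, hk.2.2, map_one]
  -- `V₀` is nontrivial
  have hPne : (P : Subgroup K) ≠ ⊥ := P.ne_bot_of_dvd_card hrdvd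
  haveI : Nontrivial ↥(P : Subgroup K) := (Subgroup.nontrivial_iff_ne_bot _).mpr hPne
  have hPp : IsPGroup r ↥(P : Subgroup K) := P.isPGroup'
  haveI hZnt : Nontrivial (Subgroup.center ↥(P : Subgroup K)) := hPp.center_nontrivial
  have hZp : IsPGroup r (Subgroup.center ↥(P : Subgroup K)) := hPp.to_subgroup _
  have hZdvd : r ∣ Nat.card (Subgroup.center ↥(P : Subgroup K)) := by
    rcases hZp.card_eq_or_dvd with h | h
    · exfalso
      have := (Nat.card_eq_one_iff_unique.mp h).1
      exact not_subsingleton _ this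
    · exact h
  obtain ⟨z, hz⟩ := exists_prime_orderOf_dvd_card' r hZdvd
  have hzV : (((z : ↥(P : Subgroup K)) : K)) ∈ V₀ := by
    rw [hmem]
    refine ⟨(z : ↥(P : Subgroup K)).2, ?_, ?_⟩
    · intro x hx
      have h1 := Subgroup.mem_center_iff.mp z.2 ⟨x, hx⟩
      exact congrArg Subtype.val h1
    · have h1 : z ^ r = 1 := by
        have := pow_orderOf_eq_one z
        rwa [hz] at this
      have h2 := congrArg (fun y : Subgroup.center ↥(P : Subgroup K) => ((y : ↥(P : Subgroup K)) : K)) h1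
      simpa using h2
  have hz1 : (((z : ↥(P : Subgroup K)) : K)) ≠ 1 := by
    intro h
    have h2 : z = 1 := by
      apply Subtype.ext
      apply Subtype.ext
      exact h
    rw [h2, orderOf_one] at hz
    exact hr.one_lt.ne hz
  haveI : Nontrivial ↥V₀ := ⟨⟨⟨_, hzV⟩, 1, fun h => hz1 (congrArg Subtype.val h)⟩⟩
  letI cg : CommGroup ↥V₀ :=
    { (inferInstance : Group ↥V₀) with
      mul_comm := fun a b => Subtype.ext (((hmem b).mp b.2).2.1 a ((hmem a).mp a.2).1) }
  -- the action
  let act : ↥G → (↥V₀ →* ↥V₀) := fun g =>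
    { toFun := fun v => ⟨(g : MulAut K) (v : K), hVinv g v v.2⟩
      map_one' := Subtype.ext (map_one (g : MulAut K))
      map_mul' := fun a b => Subtype.ext (map_mul (g : MulAut K) (a : K) (b : K)) }
  have hact : ∀ (g : ↥G) (v : ↥V₀), ((act g v : ↥V₀) : K) = (g : MulAut K) (v : K) := fun g v => rfl
  refine linear_of_mulAction (V₀ := ↥V₀) r ?_ act ?_ ?_ ?_ (cont r)
  · intro v
    apply Subtype.ext
    rw [Subgroup.coe_pow, Subgroup.coe_one]
    exact ((hmem v).mp v.2).2.2
  · intro v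
    apply Subtype.ext
    rw [hact]
    rfl
  · intro g h v
    apply Subtype.ext
    rw [hact, hact, hact]
    rfl
  · intro g hg v hv
    apply Subtype.ext
    have h1 : (g : MulAut K) ≠ 1 := fun h => hg (Subtype.ext h)
    have h2 : (g : MulAut K) (v : K) = (v : K) := by
      rw [← hact]; exact congrArg Subtype.val hv
    exact hfpf g g.2 h1 _ h2

end Cfsg.Agent.Lib.Helper1.ZaR
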