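import Mathlib
import Cfsg.Agent.S3378

set_option autoImplicit false
set_option maxHeartbeats 4000000
set_option maxRecDepth 100000
set_option linter.unusedVariables false
set_option linter.unusedSectionVars false
set_option linter.style.longLine false
set_option linter.unusedSimpArgs false
set_option linter.deprecated false

/-!
# S0690, part R: the final identification `G/<t> = A5 ⇒ G = SL(2,5)`
-/

namespace Cfsg.Agent.Lib.Helper1.ZaR

theorem alt5_pow_eight : ∀ x : alternatingGroup (Fin 5), x ^ 8 = 1 → x ^ 2 = 1 := by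
  decide

theorem card_alt5' : Nat.card (alternatingGroup (Fin 5)) = 60 := by
  rw [nat_card_alternatingGroup, Nat.card_eq_fintype_card, Fintype.card_fin]
  decide

/-- a perfect central extension of `A5` by a group of order two with cyclic or generalized quaternion
Sylow `2`-subgroups is `SL(2,5)` -/
theorem final {G : Type*} [Group G] [Finite G] (hperf : commutator G = ⊤) (t : G)
    (ht : orderOf t = 2) [hn : (Subgroup.zpowers t).Normal]
    (hsyl : ∀ P : Sylow 2 G, IsCyclic (P : Subgroup G) ∨
      ∃ n : ℕ, Nonempty ((P : Subgroup G) ≃* QuaternionGroup (2 ^ n)))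
    (hiso : Nonempty (G ⧸ Subgroup.zpowers t ≃* alternatingGroup (Fin 5))) :
    Nonempty (G ≃* Matrix.SpecialLinearGroup (Fin 2) (ZMod 5)) := by
  classical
  haveI : Fact (Nat.Prime 2) := ⟨Nat.prime_two⟩
  obtain ⟨e⟩ := hiso
  have hcardQ : Nat.card (G ⧸ Subgroup.zpowers t) = 60 := by
    rw [Nat.card_congr e.toEquiv, card_alt5']
  have hcardZ : Nat.card (Subgroup.zpowers t) = 2 := by
    rw [Nat.card_zpowers, ht]
  have hcard : Nat.card G = 120 := by
    rw [Subgroup.card_eq_card_quotient_mul_card_subgroup (Subgroup.zpowers t), hcardQ, hcardZ]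
  have hnt : Nontrivial G := by
    rw [← Finite.one_lt_card_iff_nontrivial, hcard]; norm_num
  have hns : ¬ Group.IsSolvable G := by
    intro hs
    have := IsSolvable.commutator_lt_top_of_nontrivial G
    rw [hperf] at this
    exact lt_irrefl _ this
  refine (Cfsg.Agent.S3378.result).1 G hcard hns ?_
  intro P
  have hPcard : Nat.card (P : Subgroup G) = 8 := by
    rw [Sylow.card_eq_multiplicity, hcard]
    have : (120 : ℕ).factorization 2 = 3 := by
      have h120 : (120 : ℕ) = 2 ^ 3 * 15 := by norm_num
      rw [h120, Nat.factorization_mul (by norm_num) (by norm_num), Nat.Prime.factorization_pow Nat.prime_two]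
      simp
      rw [Nat.factorization_eq_zero_of_not_dvd (by norm_num)]
    rw [this]; norm_num
  rcases hsyl P with hc | ⟨n, ⟨f⟩⟩
  · exfalso
    obtain ⟨g, hg⟩ := hc.exists_generator
    have hog : orderOf g = 8 := by
      rw [orderOf_eq_card_of_forall_mem_zpowers hg, hPcard]
    have hog' : orderOf (g : G) = 8 := by rw [Subgroup.orderOf_coe]; exact hog
    have h8 : (e (QuotientGroup.mk' (Subgroup.zpowers t) (g : G))) ^ 8 = 1 := by
      rw [← map_pow, ← map_pow, ← hog', pow_orderOf_eq_one, map_one, map_one]
    have h2 := alt5_pow_eight _ h8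
    rw [← map_pow, ← map_pow] at h2
    have h3 : (QuotientGroup.mk' (Subgroup.zpowers t) ((g : G) ^ 2)) = 1 := by
      apply e.injective
      rw [h2, map_one]
    rw [QuotientGroup.mk'_apply, QuotientGroup.eq_one_iff] at h3
    have h4 : ((g : G) ^ 2) ^ 2 = 1 := by
      have h5 : orderOf ((g : G) ^ 2) ∣ 2 := by
        have := orderOf_dvd_natCard (⟨(g : G) ^ 2, h3⟩ : Subgroup.zpowers t)
        rw [hcardZ, Subgroup.orderOf_mk] at this
        exact this
      exact orderOf_dvd_iff_pow_eq_one.mp h5
    rw [← pow_mul] at h4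
    have h6 : orderOf (g : G) ∣ 4 := orderOf_dvd_of_pow_eq_one h4
    rw [hog'] at h6
    norm_num at h6
  · have hQ : Nat.card (QuaternionGroup (2 ^ n)) = 4 * 2 ^ n := by
      haveI : NeZero (2 ^ n) := ⟨by positivity⟩
      rw [Nat.card_eq_fintype_card, QuaternionGroup.card]
    have h1 : 8 = 4 * 2 ^ n := by
      rw [← hPcard, ← hQ]
      exact Nat.card_congr f.toEquiv
    have hn1 : n = 1 := by
      have h2 : 2 ^ n = 2 ^ 1 := by omega
      exact Nat.pow_right_injective (le_refl 2) h2
    subst hn1
    exact ⟨f⟩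

end Cfsg.Agent.Lib.Helper1.ZaR
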