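import Mathlib
import Cfsg.Agent.S0016

set_option autoImplicit false
set_option maxHeartbeats 4000000
set_option maxRecDepth 100000
set_option linter.unusedVariables false
set_option linter.unusedSectionVars false
set_option linter.style.longLine false
set_option linter.unusedSimpArgs false
set_option linter.deprecated false

/-!
# S0690, part R2: structure of a finite group with a free linear representation over an
algebraically closed field (unique involution, Sylow subgroups cyclic or generalized quaternion)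
-/

namespace Cfsg.Agent.Lib.Helper1.ZaR

section

variable {F : Type*} [Field F] [IsAlgClosed F] {V : Type*} [AddCommGroup V] [Module F V]
  [FiniteDimensional F V] [Nontrivial V] {G : Type*} [Group G] [Finite G]
  (ρ : G →* Module.End F V) (hfree : ∀ g : G, g ≠ 1 → ∀ v : V, ρ g v = v → v = 0)

include hfree

theorem eq_one_of_fix {g : G} {v : V} (hv : v ≠ 0) (h : ρ g v = v) : g = 1 := by
  by_contra hg
  exact hv (hfree g hg v h)

omit hfree in
theorem rho_mul_apply (g h : G) (v : V) : ρ (g * h) v = ρ g (ρ h v) := by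
  rw [map_mul, Module.End.mul_apply]

omit hfree in
theorem rho_one_apply (v : V) : ρ 1 v = v := by
  rw [map_one, Module.End.one_apply]

omit hfree in
theorem rho_pow_eigen {a : G} {w : V} {c : F} (h : ρ a w = c • w) (k : ℕ) :
    ρ (a ^ k) w = c ^ k • w := by
  induction k with
  | zero => rw [pow_zero, pow_zero, one_smul, rho_one_apply]
  | succ k ih =>
    rw [pow_succ, rho_mul_apply, h, map_smul, ih, smul_smul, pow_succ, mul_comm]

omit hfree in
/-- commuting elements have a common eigenvector -/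
theorem exists_common_eigenvector {a b : G} (hab : a * b = b * a) :
    ∃ (w : V) (c d : F), w ≠ 0 ∧ ρ a w = c • w ∧ ρ b w = d • w := by
  obtain ⟨c, hc⟩ := Module.End.exists_eigenvalue (ρ a)
  obtain ⟨E, hE⟩ : ∃ E : Submodule F V, E = (ρ a).eigenspace c := ⟨_, rfl⟩
  have hEne : E ≠ ⊥ := by rw [hE]; exact hc
  have hmaps : ∀ v ∈ E, ρ b v ∈ E := by
    intro v hv
    rw [hE, Module.End.mem_eigenspace_iff] at hv ⊢
    have h1 : ρ a (ρ b v) = ρ b (ρ a v) := by
      rw [← rho_mul_apply, ← rho_mul_apply, hab]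
    rw [h1, hv, map_smul]
  haveI : Nontrivial E := Submodule.nontrivial_iff_ne_bot.mpr hEne
  obtain ⟨d, hd⟩ := Module.End.exists_eigenvalue ((ρ b).restrict hmaps)
  obtain ⟨w, hw⟩ := hd.exists_hasEigenvector
  have hw0 : (w : V) ≠ 0 := by
    intro h
    apply hw.2
    exact Subtype.ext h
  have h1 : ρ a (w : V) = c • (w : V) := by
    have h0 : (w : V) ∈ (ρ a).eigenspace c := hE ▸ w.2
    exact Module.End.mem_eigenspace_iff.mp h0
  have h2 : ρ b (w : V) = d • (w : V) := by
    have h3 := hw.apply_eq_smul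
    have h4 := congrArg Subtype.val h3
    rw [LinearMap.restrict_coe_apply] at h4
    rw [h4]; rfl
  exact ⟨w, c, d, hw0, h1, h2⟩

/-- commuting elements of order `p`: one is a power of the other -/
theorem mem_zpowers_of_commute {p : ℕ} (hp : p.Prime) {a b : G} (hab : a * b = b * a)
    (ha : a ^ p = 1) (hb : b ^ p = 1) (ha1 : a ≠ 1) : b ∈ Subgroup.zpowers a := by
  obtain ⟨w, c, d, hw, hcw, hdw⟩ := exists_common_eigenvector ρ hab
  have hpow : ∀ {x : G} {e : F}, ρ x w = e • w → x ^ p = 1 → e ^ p = 1 := by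
    intro x e hx hxp
    have h1 := rho_pow_eigen ρ hx p
    rw [hxp, rho_one_apply] at h1
    have h2 : (e ^ p - 1) • w = 0 := by
      rw [sub_smul, one_smul, ← h1, sub_self]
    rcases smul_eq_zero.mp h2 with h | h
    · exact sub_eq_zero.mp h
    · exact absurd h hw
  have hcp : c ^ p = 1 := hpow hcw ha
  have hdp : d ^ p = 1 := hpow hdw hb
  have hc1 : c ≠ 1 := by
    intro h
    rw [h, one_smul] at hcw
    exact ha1 (eq_one_of_fix ρ hfree hw hcw)
  have hord : orderOf c = p := by
    have h1 : orderOf c ∣ p := orderOf_dvd_of_pow_eq_one hcp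
    rcases (Nat.dvd_prime hp).mp h1 with h | h
    · exact absurd (orderOf_eq_one_iff.mp h) hc1
    · exact h
  have hprim : IsPrimitiveRoot c p := by
    rw [← hord]; exact IsPrimitiveRoot.orderOf c
  haveI : NeZero p := ⟨hp.ne_zero⟩
  obtain ⟨i, hi, hci⟩ := hprim.eq_pow_of_pow_eq_one hdp
  have h1 : ρ ((a ^ i)⁻¹ * b) w = w := by
    rw [rho_mul_apply, hdw, ← hci, ← rho_pow_eigen ρ hcw i, ← rho_mul_apply, inv_mul_cancel,
      rho_one_apply]
  have h2 := eq_one_of_fix ρ hfree hw h1
  have h3 : b = a ^ i := by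
    have : b = a ^ i * ((a ^ i)⁻¹ * b) := by group
    rw [this, h2, mul_one]
  rw [h3]
  exact Subgroup.npow_mem_zpowers a i

/-- an involution acts as `-1` -/
theorem invol_apply {g : G} (hg : g * g = 1) (hg1 : g ≠ 1) (v : V) : ρ g v = -v := by
  have h1 : ρ g (ρ g v + v) = ρ g v + v := by
    rw [map_add, ← rho_mul_apply, hg, rho_one_apply, add_comm]
  have h2 := hfree g hg1 _ h1
  exact eq_neg_of_add_eq_zero_left h2

theorem invol_unique {g t : G} (hg : g * g = 1) (hg1 : g ≠ 1) (ht : t * t = 1) (ht1 : t ≠ 1) :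
    g = t := by
  obtain ⟨v, hv⟩ := exists_ne (0 : V)
  have h1 : ρ (g * t) v = v := by
    rw [rho_mul_apply, invol_apply ρ hfree ht ht1, map_neg, invol_apply ρ hfree hg hg1, neg_neg]
  have h2 := eq_one_of_fix ρ hfree hv h1
  have h3 : g = t⁻¹ := eq_inv_of_mul_eq_one_left h2
  have h4 : t⁻¹ = t := inv_eq_of_mul_eq_one_right ht
  rw [h3, h4]

/-- each `p`-subgroup has at most one subgroup of order `p` -/
theorem uniq_order_p {p : ℕ} [hp : Fact p.Prime] (P : Subgroup G) (hP : IsPGroup p P)
    (H K : Subgroup ↥P) (hH : Nat.card H = p) (hK : Nat.card K = p) : H = K := by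
  classical
  have hp' := hp.out
  -- `P` is nontrivial
  haveI : Nontrivial ↥P := by
    have h1 : 1 < Nat.card H := by rw [hH]; exact hp'.one_lt
    haveI := Finite.one_lt_card_iff_nontrivial.mp h1
    obtain ⟨x, hx⟩ := exists_ne (1 : H)
    exact ⟨⟨(x : ↥P), 1, fun h => hx (Subtype.ext h)⟩⟩
  haveI hZnt : Nontrivial (Subgroup.center ↥P) := hP.center_nontrivial
  have hZp : IsPGroup p (Subgroup.center ↥P) := hP.to_subgroup _
  have hZdvd : p ∣ Nat.card (Subgroup.center ↥P) := by
    rcases hZp.card_eq_or_dvd with h | h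
    · exfalso
      have := (Nat.card_eq_one_iff_unique.mp h).1
      exact not_subsingleton _ this
    · exact h
  obtain ⟨z, hz⟩ := exists_prime_orderOf_dvd_card' p hZdvd
  obtain ⟨z0, hz0⟩ : ∃ z0 : ↥P, z0 = (z : ↥P) := ⟨_, rfl⟩
  have hz0ord : orderOf z0 = p := by rw [hz0, Subgroup.orderOf_coe]; exact hz
  have hz0c : ∀ x : ↥P, x * z0 = z0 * x := by
    intro x
    rw [hz0]
    exact Subgroup.mem_center_iff.mp z.2 x
  have hz01 : (z0 : G) ≠ 1 := by
    intro h
    have : z0 = 1 := Subtype.ext h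
    rw [this, orderOf_one] at hz0ord
    exact hp'.one_lt.ne hz0ord
  have hz0p : (z0 : G) ^ p = 1 := by
    have := pow_orderOf_eq_one z0
    rw [hz0ord] at this
    have h2 := congrArg Subtype.val this
    rwa [Subgroup.coe_pow, Subgroup.coe_one] at h2
  have key : ∀ L : Subgroup ↥P, Nat.card L = p → L = Subgroup.zpowers z0 := by
    intro L hL
    have h1 : 1 < Nat.card L := by rw [hL]; exact hp'.one_lt
    haveI := Finite.one_lt_card_iff_nontrivial.mp h1
    obtain ⟨x, hx⟩ := exists_ne (1 : L)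
    have hx1 : (x : ↥P) ≠ 1 := fun h => hx (Subtype.ext h)
    have hxo : orderOf (x : ↥P) = p := by
      have h2 : orderOf x ∣ p := by rw [← hL]; exact orderOf_dvd_natCard x
      rw [Subgroup.orderOf_coe]
      rcases (Nat.dvd_prime hp').mp h2 with h | h
      · exact absurd (orderOf_eq_one_iff.mp h) hx
      · exact h
    have hxp : (((x : ↥P)) : G) ^ p = 1 := by
      have := pow_orderOf_eq_one (x : ↥P)
      rw [hxo] at this
      have h2 := congrArg Subtype.val this
      rwa [Subgroup.coe_pow, Subgroup.coe_one] at h2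
    have hcomm : (z0 : G) * ((x : ↥P) : G) = ((x : ↥P) : G) * (z0 : G) := by
      have := hz0c (x : ↥P)
      have h2 := congrArg Subtype.val this
      rw [Subgroup.coe_mul, Subgroup.coe_mul] at h2
      exact h2.symm
    have hmem := mem_zpowers_of_commute ρ hfree hp' hcomm hz0p hxp hz01
    obtain ⟨k, hk⟩ := Subgroup.mem_zpowers_iff.mp hmem
    have hmem' : (x : ↥P) ∈ Subgroup.zpowers z0 := by
      rw [Subgroup.mem_zpowers_iff]
      refine ⟨k, ?_⟩
      apply Subtype.ext
      rw [Subgroup.coe_zpow]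
      exact hk
    have h3 : Subgroup.zpowers (x : ↥P) ≤ Subgroup.zpowers z0 :=
      (Subgroup.zpowers_le).mpr hmem'
    have h4 : Subgroup.zpowers (x : ↥P) = Subgroup.zpowers z0 := by
      apply Subgroup.eq_of_le_of_card_ge h3
      rw [Nat.card_zpowers, Nat.card_zpowers, hxo, hz0ord]
    have h5 : Subgroup.zpowers (x : ↥P) ≤ L := (Subgroup.zpowers_le).mpr x.2
    have h6 : Subgroup.zpowers (x : ↥P) = L := by
      apply Subgroup.eq_of_le_of_card_ge h5
      rw [Nat.card_zpowers, hxo, hL]
    rw [← h6, h4]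
  rw [key H hH, key K hK]

/-- Sylow subgroups are cyclic or generalized quaternion -/
theorem sylow_cyclic_or_quat (p : ℕ) [Fact p.Prime] (P : Sylow p G) :
    IsCyclic (P : Subgroup G) ∨
      (p = 2 ∧ ∃ n : ℕ, Nonempty ((P : Subgroup G) ≃* QuaternionGroup (2 ^ n))) :=
  Cfsg.Agent.S0016.result p P.isPGroup'
    (fun H K hH hK => uniq_order_p ρ hfree (P : Subgroup G) P.isPGroup' H K hH hK)

/-- the structure theorem -/
theorem structure_up [Nontrivial G] (hperf : commutator G = ⊤) :
    ∃ t : G, t ≠ 1 ∧ t * t = 1 ∧ (∀ g : G, g * g = 1 → g = 1 ∨ g = t) ∧ (∀ g : G, g * t = t * g) ∧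
      (∀ (p : ℕ) [Fact p.Prime], p ≠ 2 → ∀ P : Sylow p G, IsCyclic P) ∧
      ∃ (Q : Sylow 2 G) (n : ℕ), 1 ≤ n ∧ Nonempty ((Q : Subgroup G) ≃* QuaternionGroup (2 ^ n)) := by
  classical
  haveI : Fact (Nat.Prime 2) := ⟨Nat.prime_two⟩
  -- some Sylow subgroup is not cyclic
  have hnc : ∃ (p : ℕ) (hp : p.Prime) (P : Sylow p G), ¬ IsCyclic (P : Subgroup G) := by
    by_contra hcon
    push_neg at hcon
    haveI : IsZGroup G := ⟨fun p hp P => hcon p hp P⟩
    have := IsZGroup.commutator_lt G
    rw [hperf] at this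
    exact lt_irrefl _ this
  obtain ⟨p, hp, P, hPnc⟩ := hnc
  haveI := Fact.mk hp
  rcases sylow_cyclic_or_quat ρ hfree p P with h | ⟨hp2, n, ⟨e⟩⟩
  · exact absurd h hPnc
  subst hp2
  have hn : 1 ≤ n := by
    by_contra hn0
    have hn0' : n = 0 := by omega
    subst hn0'
    apply hPnc
    haveI : IsCyclic (QuaternionGroup (2 ^ 0)) := QuaternionGroup.quaternionGroup_one_isCyclic
    exact isCyclic_of_surjective e.symm e.symm.surjective
  -- an involution
  have h2dvd : 2 ∣ Nat.card G := by
    have h1 : Nat.card (P : Subgroup G) = 4 * 2 ^ n := by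
      haveI : NeZero (2 ^ n) := ⟨by positivity⟩
      rw [Nat.card_congr e.toEquiv, Nat.card_eq_fintype_card, QuaternionGroup.card]
    have h2 : Nat.card (P : Subgroup G) ∣ Nat.card G := Subgroup.card_subgroup_dvd_card _
    rw [h1] at h2
    exact Dvd.dvd.trans ⟨2 * 2 ^ n, by ring⟩ h2
  obtain ⟨t, ht⟩ := exists_prime_orderOf_dvd_card' 2 h2dvd
  have ht1 : t ≠ 1 := by
    intro h
    rw [h, orderOf_one] at ht
    norm_num at ht
  have htt : t * t = 1 := by
    have := pow_orderOf_eq_one t
    rwa [ht, sq] at this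
  refine ⟨t, ht1, htt, ?_, ?_, ?_, P, n, hn, ⟨e⟩⟩
  · intro g hg
    by_cases hg1 : g = 1
    · exact Or.inl hg1
    · exact Or.inr (invol_unique ρ hfree hg hg1 htt ht1)
  · intro g
    have h1 : (g * t * g⁻¹) * (g * t * g⁻¹) = 1 := by
      calc (g * t * g⁻¹) * (g * t * g⁻¹) = g * (t * t) * g⁻¹ := by group
        _ = 1 := by rw [htt]; group
    have h2 : g * t * g⁻¹ ≠ 1 := by
      intro h
      apply ht1
      have : t = g⁻¹ * (g * t * g⁻¹) * g := by group
      rw [this, h]; group
    have h3 := invol_unique ρ hfree h1 h2 htt ht1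
    calc g * t = (g * t * g⁻¹) * g := by group
      _ = t * g := by rw [h3]
  · intro q hq hq2 Q
    rcases sylow_cyclic_or_quat ρ hfree q Q with h | ⟨h, _⟩
    · exact h
    · exact absurd h hq2

end

end Cfsg.Agent.Lib.Helper1.ZaR
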