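import Mathlib
import Cfsg.Agent.S3966
import Cfsg.Agent.Lib.Helper7.QuatDirect

set_option autoImplicit false
set_option maxHeartbeats 4000000
set_option maxRecDepth 100000
set_option linter.unusedVariables false
set_option linter.unusedSectionVars false
set_option linter.style.longLine false
set_option linter.unusedSimpArgs false
set_option linter.deprecated false

/-!
# S0690, part R3: passing to the quotient by the central involution
-/

namespace Cfsg.Agent.Lib.Helper1.ZaR

open scoped Pointwise

/-- quotient of a perfect group with cyclic odd Sylow subgroups and generalized quaternion Sylow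
`2`-subgroups by a normal subgroup `{1, t}` of order two -/
theorem structure_down {G Γ : Type*} [Group G] [Finite G] [Group Γ] (q : G →* Γ)
    (hq : Function.Surjective q) (t : G) (hker : ∀ g, q g = 1 ↔ g = 1 ∨ g = t) (ht : t ≠ 1)
    (hperf : commutator G = ⊤)
    (hodd : ∀ (p : ℕ) [Fact p.Prime], p ≠ 2 → ∀ P : Sylow p G, IsCyclic P)
    (Q : Sylow 2 G) (n : ℕ) (hn : 1 ≤ n)
    (hQ : Nonempty ((Q : Subgroup G) ≃* QuaternionGroup (2 ^ n))) :
    commutator Γ = ⊤ ∧ (∀ (p : ℕ) [Fact p.Prime], p ≠ 2 → ∀ P : Sylow p Γ, IsCyclic P) ∧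
      ∃ S : Sylow 2 Γ, Nonempty ((S : Subgroup Γ) ≃* DihedralGroup (2 ^ n)) := by
  classical
  haveI : Fact (Nat.Prime 2) := ⟨Nat.prime_two⟩
  refine ⟨?_, ?_, ?_⟩
  · -- perfect
    rw [commutator_def, ← Subgroup.map_top_of_surjective q hq, ← Subgroup.map_commutator,
      ← commutator_def, hperf]
  · -- odd Sylows
    intro p hp hp2 P'
    obtain ⟨P, hP⟩ := Sylow.mapSurjective_surjective hq p P'
    have hcoe : (P' : Subgroup Γ) = (P : Subgroup G).map q := by
      rw [← hP, Sylow.coe_mapSurjective]
    haveI : IsCyclic (P : Subgroup G) := hodd p hp2 P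
    have h1 : IsCyclic ((P : Subgroup G).map q) :=
      isCyclic_of_surjective (q.subgroupMap (P : Subgroup G)) (q.subgroupMap_surjective _)
    rw [hcoe]
    exact h1
  · -- the Sylow 2-subgroup
    obtain ⟨e⟩ := hQ
    obtain ⟨m, hm⟩ : ∃ m : ℕ, m = 2 ^ n := ⟨_, rfl⟩
    rw [← hm] at e ⊢
    have hm2 : 2 ≤ m := by
      rw [hm]
      calc 2 = 2 ^ 1 := by norm_num
        _ ≤ 2 ^ n := Nat.pow_le_pow_right (by norm_num) hn
    have hmeven : Even m := by
      rw [hm]
      exact (Nat.even_pow' (by omega)).mpr even_two
    haveI : NeZero m := ⟨by omega⟩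
    have htt : t * t = 1 := by
      have h1 : q (t * t) = 1 := by
        rw [map_mul, (hker t).mpr (Or.inr rfl), mul_one]
      rcases (hker _).mp h1 with h | h
      · exact h
      · exfalso
        apply ht
        have : t * t = t * 1 := by rw [h, mul_one]
        exact mul_left_cancel this
    -- `t ∈ Q`
    have htQ : t ∈ (Q : Subgroup G) := by
      have hord : orderOf t = 2 := by
        apply orderOf_eq_prime
        · rw [sq]; exact htt
        · exact ht
      have hp2 : IsPGroup 2 (Subgroup.zpowers t) := by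
        apply IsPGroup.of_card (n := 1)
        rw [Nat.card_zpowers, hord, pow_one]
      obtain ⟨Q', hQ'⟩ := hp2.exists_le_sylow
      obtain ⟨g, hg⟩ := MulAction.exists_smul_eq G Q' Q
      have htQ' : t ∈ (Q' : Subgroup G) := hQ' (Subgroup.mem_zpowers t)
      have h1 : g * t * g⁻¹ ∈ (Q : Subgroup G) := by
        rw [← hg, Sylow.coe_subgroup_smul]
        have := Subgroup.smul_mem_pointwise_smul t (MulAut.conj g) (Q' : Subgroup G) htQ'
        rwa [MulAut.smul_def, MulAut.conj_apply] at this
      have h2 : q (g * t * g⁻¹) = 1 := by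
        rw [map_mul, map_mul, (hker t).mpr (Or.inr rfl), mul_one, ← map_mul, mul_inv_cancel,
          map_one]
      rcases (hker _).mp h2 with h | h
      · exfalso
        apply ht
        have : t = g⁻¹ * (g * t * g⁻¹) * g := by group
        rw [this, h]; group
      · rw [← h]; exact h1
    -- uniqueness of the involution of `Q`
    obtain ⟨x0, z0, _, hz01, hz0z0, hz0u, _⟩ :=
      Cfsg.Agent.Lib.Helper7.quaternion_facts m hm2
    have hinvQ : ∀ u : ↥(Q : Subgroup G), u * u = 1 → u ≠ 1 → e u = z0 := by
      intro u hu hu1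
      have h1 : e u * e u = 1 := by rw [← map_mul, hu, map_one]
      rcases hz0u (e u) h1 with h | h
      · exfalso
        apply hu1
        apply e.injective
        rw [h, map_one]
      · exact h
    obtain ⟨t', ht'⟩ : ∃ t' : ↥(Q : Subgroup G), t' = ⟨t, htQ⟩ := ⟨_, rfl⟩
    have ht'1 : t' ≠ 1 := by
      rw [ht']
      intro h
      exact ht (congrArg Subtype.val h)
    have ht't' : t' * t' = 1 := by
      rw [ht']
      exact Subtype.ext htt
    have het' : e t' = z0 := hinvQ t' ht't' ht'1
    -- the two homomorphisms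
    obtain ⟨σ, hσ, hσker⟩ := Cfsg.Agent.S3966.result m hmeven
    have hσsurj : Function.Surjective σ := hσ.1
    obtain ⟨φ, hφ⟩ : ∃ φ : ↥(Q : Subgroup G) →* DihedralGroup m, φ = σ.comp e.toMonoidHom :=
      ⟨_, rfl⟩
    have hφsurj : Function.Surjective φ := by
      rw [hφ]
      exact hσsurj.comp e.surjective
    obtain ⟨ψ, hψ⟩ : ∃ ψ : ↥(Q : Subgroup G) →* ↥((Q : Subgroup G).map q),
        ψ = q.subgroupMap (Q : Subgroup G) := ⟨_, rfl⟩
    have hψsurj : Function.Surjective ψ := by
      rw [hψ]; exact q.subgroupMap_surjective _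
    have hψmem : ∀ u : ↥(Q : Subgroup G), u ∈ ψ.ker ↔ u = 1 ∨ u = t' := by
      intro u
      rw [MonoidHom.mem_ker, hψ]
      constructor
      · intro h
        have h1 : q (u : G) = 1 := congrArg Subtype.val h
        rcases (hker _).mp h1 with h2 | h2
        · left; exact Subtype.ext h2
        · right; rw [ht']; exact Subtype.ext h2
      · intro h
        apply Subtype.ext
        show q (u : G) = 1
        rcases h with h | h
        · rw [h]; exact map_one q
        · rw [h, ht']; exact (hker t).mpr (Or.inr rfl)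
    -- the unique non-identity element of `σ.ker`
    obtain ⟨s, hs1, hsu⟩ := (Nat.card_eq_two_iff' (1 : σ.ker)).mp hσker
    have hss : (s : QuaternionGroup m) * (s : QuaternionGroup m) = 1 := by
      have h1 : orderOf s ∣ 2 := by rw [← hσker]; exact orderOf_dvd_natCard s
      have h2 : s ^ 2 = 1 := orderOf_dvd_iff_pow_eq_one.mp h1
      have h3 := congrArg Subtype.val h2
      rw [Subgroup.coe_pow, Subgroup.coe_one, sq] at h3
      exact h3
    have hsz : (s : QuaternionGroup m) = z0 := by
      rcases hz0u _ hss with h | h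
      · exfalso
        apply hs1
        exact Subtype.ext h
      · exact h
    have hφmem : ∀ u : ↥(Q : Subgroup G), u ∈ φ.ker ↔ u = 1 ∨ u = t' := by
      intro u
      rw [MonoidHom.mem_ker, hφ]
      constructor
      · intro h
        have h1 : e u ∈ σ.ker := h
        by_cases h2 : (⟨e u, h1⟩ : σ.ker) = 1
        · left
          apply e.injective
          rw [map_one]
          exact congrArg Subtype.val h2
        · right
          have h3 := hsu ⟨e u, h1⟩ h2
          have h4 : e u = z0 := by
            rw [← hsz, ← h3]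
          apply e.injective
          rw [h4, het']
      · intro h
        rcases h with h | h
        · rw [h]; exact map_one _
        · rw [h]
          show σ (e t') = 1
          rw [het', ← hsz]
          exact s.2
    have hkereq : ψ.ker = φ.ker := by
      ext u
      rw [hψmem, hφmem]
    let E1 : (↥(Q : Subgroup G) ⧸ ψ.ker) ≃* ↥((Q : Subgroup G).map q) :=
      QuotientGroup.quotientKerEquivOfSurjective ψ hψsurj
    let E2 : (↥(Q : Subgroup G) ⧸ φ.ker) ≃* DihedralGroup m :=
      QuotientGroup.quotientKerEquivOfSurjective φ hφsurj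
    let E3 : (↥(Q : Subgroup G) ⧸ ψ.ker) ≃* (↥(Q : Subgroup G) ⧸ φ.ker) :=
      QuotientGroup.quotientMulEquivOfEq hkereq
    refine ⟨Sylow.mapSurjective hq Q, ⟨?_⟩⟩
    exact (MulEquiv.subgroupCongr (Sylow.coe_mapSurjective hq Q)).trans
      (E1.symm.trans (E3.trans E2))

end Cfsg.Agent.Lib.Helper1.ZaR
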